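/-
Basic facts about subgroups of GL(ι, F) acting on column vectors, transvections and the special
linear group.
-/
import Cfsg.Prelude.Def_GeometricClasses

set_option autoImplicit false

namespace Cfsg.Agent.Classical

open Matrix Cfsg.Geo
open scoped MatrixGroups commutatorElement

variable {ι : Type} [Fintype ι] [DecidableEq ι] {F : Type*} [Field F]

theorem mem_matrixSet {R : Subgroup (GL ι F)} {m : Matrix ι ι F} :
    m ∈ matrixSet R ↔ ∃ g ∈ R, (g : Matrix ι ι F) = m := Iff.rfl

theorem coe_mem_matrixSet {R : Subgroup (GL ι F)} {g : GL ι F} (hg : g ∈ R) :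
    (g : Matrix ι ι F) ∈ matrixSet R := ⟨g, hg, rfl⟩

theorem gl_inv_mulVec_cancel (g : GL ι F) (v : ι → F) :
    ((g⁻¹ : GL ι F) : Matrix ι ι F) *ᵥ ((g : Matrix ι ι F) *ᵥ v) = v := by
  rw [Matrix.mulVec_mulVec, ← Units.val_mul, inv_mul_cancel, Units.val_one, Matrix.one_mulVec]

theorem gl_mulVec_inv_cancel (g : GL ι F) (v : ι → F) :
    (g : Matrix ι ι F) *ᵥ (((g⁻¹ : GL ι F) : Matrix ι ι F) *ᵥ v) = v := by
  rw [Matrix.mulVec_mulVec, ← Units.val_mul, mul_inv_cancel, Units.val_one, Matrix.one_mulVec]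

theorem gl_mul_mulVec (g h : GL ι F) (v : ι → F) :
    ((g * h : GL ι F) : Matrix ι ι F) *ᵥ v = (g : Matrix ι ι F) *ᵥ ((h : Matrix ι ι F) *ᵥ v) := by
  rw [Units.val_mul, Matrix.mulVec_mulVec]

theorem gl_mulVec_injective (g : GL ι F) : Function.Injective (fun v => (g : Matrix ι ι F) *ᵥ v) :=
  fun u v h => by simpa [gl_inv_mulVec_cancel] using congrArg (((g⁻¹ : GL ι F) : Matrix ι ι F) *ᵥ ·) h

theorem gl_ext_mulVec {g h : GL ι F} (hgh : ∀ v, (g : Matrix ι ι F) *ᵥ v = (h : Matrix ι ι F) *ᵥ v) :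
    g = h :=
  Units.ext (Matrix.toLin'.injective (LinearMap.ext fun v => by simpa using hgh v))

theorem map_toLin'_le {M : Matrix ι ι F} {W W' : Submodule F (ι → F)} :
    W.map (Matrix.toLin' M) ≤ W' ↔ ∀ w ∈ W, M *ᵥ w ∈ W' := by
  rw [Submodule.map_le_iff_le_comap]
  simp [SetLike.le_def]

theorem finrank_map_gl (g : GL ι F) (W : Submodule F (ι → F)) :
    Module.finrank F ↥(W.map (Matrix.toLin' (g : Matrix ι ι F))) = Module.finrank F W :=
  (Submodule.equivMapOfInjective _ (fun u v h => gl_mulVec_injective g (by simpa using h)) W).finrank_eq.symm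

theorem map_eq_of_le_gl {g : GL ι F} {W : Submodule F (ι → F)}
    (h : W.map (Matrix.toLin' (g : Matrix ι ι F)) ≤ W) : W.map (Matrix.toLin' (g : Matrix ι ι F)) = W :=
  Submodule.eq_of_le_of_finrank_eq h (finrank_map_gl g W)

theorem finrank_iSup_of_indep {κ : Type*} [Fintype κ] {V : Type*} [AddCommGroup V] [Module F V]
    [FiniteDimensional F V] (p : κ → Submodule F V) (h : iSupIndep p) :
    Module.finrank F ↥(⨆ i, p i) = ∑ i, Module.finrank F (p i) := by
  classical
  rw [Submodule.iSup_eq_range_dfinsupp_lsum, LinearMap.finrank_range_of_inj h.dfinsupp_lsum_injective]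
  exact Module.finrank_directSum F _

theorem mem_subspaceStabilizer_iff {g : GL ι F} {W : Submodule F (ι → F)} :
    g ∈ subspaceStabilizer W ↔ ∀ w ∈ W, (g : Matrix ι ι F) *ᵥ w ∈ W := by
  constructor
  · intro h w hw
    exact (h w).mp hw
  · intro h v
    refine ⟨fun hv => h v hv, fun hv => ?_⟩
    have he := map_eq_of_le_gl (map_toLin'_le.mpr h)
    obtain ⟨w, hw, hwe⟩ : (g : Matrix ι ι F) *ᵥ v ∈ W.map (Matrix.toLin' (g : Matrix ι ι F)) := he.symm ▸ hv
    have : w = v := gl_mulVec_injective g (by simpa using hwe)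
    rwa [← this]

theorem not_actsIrreducibly_iff (H : Subgroup (GL ι F)) :
    ¬ ActsIrreducibly (matrixSet H) ↔
      ∃ W : Submodule F (ι → F), W ≠ ⊥ ∧ W ≠ ⊤ ∧ H ≤ subspaceStabilizer W := by
  simp only [ActsIrreducibly, not_forall, not_or]
  constructor
  · rintro ⟨W, hW, h1, h2⟩
    refine ⟨W, h1, h2, fun g hg => mem_subspaceStabilizer_iff.mpr ?_⟩
    exact map_toLin'_le.mp (hW _ (coe_mem_matrixSet hg))
  · rintro ⟨W, h1, h2, hH⟩
    refine ⟨W, ?_, h1, h2⟩
    rintro _ ⟨g, hg, rfl⟩
    exact map_toLin'_le.mpr (mem_subspaceStabilizer_iff.mp (hH hg))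

theorem mem_scalars_of_eq {g : GL ι F} {c : F} (h : (g : Matrix ι ι F) = c • (1 : Matrix ι ι F)) :
    g ∈ scalars ι F := by
  rcases isEmpty_or_nonempty ι with hι | hι
  · exact (mem_scalars_iff g).mpr ⟨1, Subsingleton.elim _ _⟩
  · refine (mem_scalars_iff g).mpr ⟨Units.mk0 c ?_, h⟩
    intro hc
    rw [hc, zero_smul] at h
    exact (Units.ne_zero g) h

theorem scalars_commute {z : GL ι F} (hz : z ∈ scalars ι F) (g : GL ι F) : z * g = g * z := by
  obtain ⟨c, hc⟩ := (mem_scalars_iff z).mp hz
  apply Units.ext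
  simp [hc]

theorem coe_mul_comm_of_scalar {x y : GL ι F} {c : F}
    (h : ((x * y * x⁻¹ * y⁻¹ : GL ι F) : Matrix ι ι F) = c • (1 : Matrix ι ι F)) :
    (x : Matrix ι ι F) * (y : Matrix ι ι F) = c • ((y : Matrix ι ι F) * (x : Matrix ι ι F)) := by
  have : x * y = (x * y * x⁻¹ * y⁻¹) * (y * x) := by group
  have := congrArg (fun g : GL ι F => (g : Matrix ι ι F)) this
  simp only [Units.val_mul] at this h
  rw [this, h]
  simp

theorem det_gl_of_mem_specialLinear {g : GL ι F} (hg : g ∈ specialLinear ι F) :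
    (g : Matrix ι ι F).det = 1 := by
  have : Matrix.GeneralLinearGroup.det g = 1 := hg
  simpa using congrArg Units.val this

theorem mem_specialLinear_iff {g : GL ι F} :
    g ∈ specialLinear ι F ↔ (g : Matrix ι ι F).det = 1 := by
  refine ⟨det_gl_of_mem_specialLinear, fun h => ?_⟩
  change Matrix.GeneralLinearGroup.det g = 1
  exact Units.ext (by simpa using h)

/-- The transvection `1 + c E_ij` as an element of GL. -/
def transGL {i j : ι} (hij : i ≠ j) (c : F) : GL ι F :=
  Matrix.SpecialLinearGroup.toGL (Matrix.SpecialLinearGroup.transvection hij c)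

theorem transGL_coe {i j : ι} (hij : i ≠ j) (c : F) :
    (transGL hij c : Matrix ι ι F) = Matrix.transvection i j c := rfl

theorem transGL_mem {i j : ι} (hij : i ≠ j) (c : F) : transGL hij c ∈ specialLinear ι F :=
  mem_specialLinear_iff.mpr (Matrix.det_transvection_of_ne i j hij c)

theorem transGL_mulVec {i j : ι} (hij : i ≠ j) (c : F) (v : ι → F) :
    (transGL hij c : Matrix ι ι F) *ᵥ v = v + Pi.single i (c * v j) := by
  rw [transGL_coe, Matrix.transvection, Matrix.add_mulVec, Matrix.one_mulVec, Matrix.single_mulVec]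
  rfl

section SL

theorem sl_transvection_commutator {i j k : ι} (hij : i ≠ j) (hik : i ≠ k) (hkj : k ≠ j) (c d : F) :
    ⁅SpecialLinearGroup.transvection hik c, SpecialLinearGroup.transvection hkj d⁆ =
      (SpecialLinearGroup.transvection hij (c * d) : SpecialLinearGroup ι F) := by
  rw [commutatorElement_def, SpecialLinearGroup.transvection_inv, SpecialLinearGroup.transvection_inv]
  apply Subtype.ext
  simp [SpecialLinearGroup.transvection_coe, mul_add, add_mul, hij.symm, hik.symm, hkj.symm,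
    ← Matrix.single_neg, neg_mul, mul_neg]
  abel

theorem sl_diag2n_decompose {i j : ι} (hij : i ≠ j) (a : F) (ha : a ≠ 0) :
    SpecialLinearGroup.diag2n hij a ha =
      SpecialLinearGroup.transvection hij a * SpecialLinearGroup.transvection hij.symm (-a⁻¹) *
      SpecialLinearGroup.transvection hij a * SpecialLinearGroup.transvection hij (-1) *
      SpecialLinearGroup.transvection hij.symm 1 * SpecialLinearGroup.transvection hij (-1) := by
  apply Subtype.ext
  simp [SpecialLinearGroup.transvection_coe, SpecialLinearGroup.diag2n_coe]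
  simp [mul_add, add_mul, hij, hij.symm, mul_inv_cancel₀ ha, inv_mul_cancel₀ ha, ← Matrix.single_neg]
  ext x y
  simp only [Matrix.add_apply, Matrix.neg_apply, Matrix.single_apply, Matrix.one_apply, Matrix.diagonal_apply]
  grind

theorem sl_closure_transvections [Nontrivial ι] :
    Subgroup.closure {g : SpecialLinearGroup ι F |
      ∃ (i j : ι) (h : i ≠ j) (c : F), g = SpecialLinearGroup.transvection h c} = ⊤ := by
  refine eq_top_iff.mpr fun M _ => ?_
  refine SpecialLinearGroup.diagonal_transvection_induction'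
    (fun g => g ∈ Subgroup.closure _) M ?_ ?_ (fun A B => mul_mem)
  · intro i j hij c hc
    rw [sl_diag2n_decompose hij c hc]
    refine mul_mem (mul_mem (mul_mem (mul_mem (mul_mem ?_ ?_) ?_) ?_) ?_) ?_ <;>
      exact Subgroup.subset_closure ⟨_, _, _, _, rfl⟩
  · intro i j hij c
    exact Subgroup.subset_closure ⟨i, j, hij, c, rfl⟩

theorem sl_commutator_eq_top (h3 : 3 ≤ Fintype.card ι) :
    commutator (SpecialLinearGroup ι F) = ⊤ := by
  haveI : Nontrivial ι := Fintype.one_lt_card_iff_nontrivial.mp (by omega)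
  rw [eq_top_iff, ← sl_closure_transvections, Subgroup.closure_le]
  rintro g ⟨i, j, hij, c, rfl⟩
  obtain ⟨k, hki, hkj⟩ : ∃ k, k ≠ i ∧ k ≠ j := by
    have : ({i, j} : Finset ι).card < (Finset.univ : Finset ι).card := by
      rw [Finset.card_univ]; exact lt_of_le_of_lt Finset.card_le_two (by omega)
    obtain ⟨k, _, hk⟩ := Finset.exists_mem_notMem_of_card_lt_card this
    exact ⟨k, fun h => hk (by simp [h]), fun h => hk (by simp [h])⟩
  rw [← mul_one c, ← sl_transvection_commutator hij hki.symm hkj c 1]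
  exact Subgroup.commutator_mem_commutator (Subgroup.mem_top _) (Subgroup.mem_top _)

theorem range_toGL : (SpecialLinearGroup.toGL : SpecialLinearGroup ι F →* GL ι F).range =
    specialLinear ι F := by
  ext g
  rw [mem_specialLinear_iff]
  constructor
  · rintro ⟨s, rfl⟩; exact s.2
  · intro h; exact ⟨⟨_, h⟩, Units.ext rfl⟩

theorem specialLinear_perfect (h3 : 3 ≤ Fintype.card ι) :
    ⁅specialLinear ι F, specialLinear ι F⁆ = specialLinear ι F := by
  rw [← range_toGL, MonoidHom.range_eq_map, ← Subgroup.map_commutator,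
    ← commutator_def, sl_commutator_eq_top h3]

theorem specialLinear_le_iff [Nontrivial ι] (K : Subgroup (GL ι F)) :
    specialLinear ι F ≤ K ↔ ∀ (i j : ι) (h : i ≠ j) (c : F), transGL h c ∈ K := by
  refine ⟨fun h i j hij c => h (transGL_mem hij c), fun h => ?_⟩
  rw [← range_toGL, MonoidHom.range_eq_map, Subgroup.map_le_iff_le_comap,
    ← sl_closure_transvections, Subgroup.closure_le]
  rintro g ⟨i, j, hij, c, rfl⟩
  exact h i j hij c

end SL

/-- An alternating matrix of odd size has determinant zero, in every characteristic. -/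
theorem det_eq_zero_of_alternating_of_odd {κ : Type*} [Fintype κ] [DecidableEq κ] {R : Type*} [CommRing R]
    (hodd : Odd (Fintype.card κ)) (A : Matrix κ κ R) (hA : ∀ i j, A j i = - A i j) (hd : ∀ i, A i i = 0) :
    A.det = 0 := by
  rw [Matrix.det_apply]
  refine Finset.sum_involution (fun σ _ => σ⁻¹) ?_ ?_ (fun σ _ => Finset.mem_univ _) (fun σ _ => inv_inv σ)
  · intro σ _
    have h : ∏ i, A (σ⁻¹ i) i = - ∏ i, A (σ i) i := by
      calc ∏ i, A (σ⁻¹ i) i = ∏ i, A (σ⁻¹ (σ i)) (σ i) := (Equiv.prod_comp σ (fun i => A (σ⁻¹ i) i)).symm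
        _ = ∏ i, - A (σ i) i := Finset.prod_congr rfl fun i _ => by simp [hA (σ i) i]
        _ = - ∏ i, A (σ i) i := by rw [Finset.prod_neg, Finset.card_univ, hodd.neg_one_pow, neg_one_mul]
    rw [Equiv.Perm.sign_inv, h, smul_neg, add_neg_cancel]
  · intro σ _ hne hinv
    apply hne
    obtain ⟨i, hi⟩ : ∃ i, σ i = i := by
      by_contra hc
      simp only [not_exists] at hc
      have h2 : σ * σ = 1 := by
        calc σ * σ = σ⁻¹ * σ := by rw [hinv]
          _ = 1 := inv_mul_cancel σ
      have hs : σ.support = Finset.univ := Finset.eq_univ_of_forall fun i => Equiv.Perm.mem_support.mpr (hc i)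
      have h2' : σ ^ 2 = 1 := by rw [pow_two]; exact h2
      have := Equiv.Perm.two_dvd_card_support h2'
      rw [hs, Finset.card_univ] at this
      exact (Nat.not_even_iff_odd.mpr hodd) (even_iff_two_dvd.mpr this)
    rw [Finset.prod_eq_zero (f := fun i => A (σ i) i) (Finset.mem_univ i) (by simp [hi, hd]), smul_zero]

end Cfsg.Agent.Classical
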