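import Mathlib

/-!
# A simple group of order `60` acting nontrivially on five points is `A₅`
-/

set_option autoImplicit false

namespace Cfsg.Agent.Classical

theorem nonempty_equiv_alt_five {G X : Type*} [Group G] [MulAction G X] (hG : IsSimpleGroup G)
    (hcard : Nat.card G = 60) (hX : Nat.card X = 5) (hne : ∃ (g : G) (x : X), g • x ≠ x) :
    Nonempty (G ≃* alternatingGroup (Fin 5)) := by
  have : Finite X := Nat.finite_of_card_ne_zero (by omega)
  obtain ⟨e⟩ : Nonempty (X ≃ Fin 5) := ⟨(Finite.equivFinOfCardEq hX)⟩
  let f : G →* Equiv.Perm (Fin 5) := (e.permCongrHom.toMonoidHom).comp (MulAction.toPermHom G X)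
  have hker : f.ker = ⊥ := by
    rcases (hG.eq_bot_or_eq_top_of_normal f.ker (MonoidHom.normal_ker f)) with h | h
    · exact h
    · exfalso
      obtain ⟨g, x, hgx⟩ := hne
      refine hgx ?_
      have h1 : f g = 1 := MonoidHom.mem_ker.mp (h ▸ Subgroup.mem_top g)
      have h2 : MulAction.toPermHom G X g = 1 := e.permCongrHom.injective (by rw [map_one]; exact h1)
      exact congrArg (fun p : Equiv.Perm X => p x) h2
  have hinj : Function.Injective f := (MonoidHom.ker_eq_bot_iff f).mp hker
  have hrange : Nat.card f.range = 60 := by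
    rw [← Nat.card_congr (MonoidHom.ofInjective hinj).toEquiv, hcard]
  have hidx : f.range.index = 2 := by
    have h := Subgroup.card_mul_index f.range
    rw [hrange, Nat.card_perm, Nat.card_eq_fintype_card, Fintype.card_fin] at h
    norm_num [Nat.factorial] at h
    omega
  exact ⟨(MonoidHom.ofInjective hinj).trans
    (MulEquiv.subgroupCongr (Equiv.Perm.eq_alternatingGroup_of_index_eq_two hidx))⟩

end Cfsg.Agent.Classical
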