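import Cfsg.Agent.Lib.Classical.SL2Four

/-!
# Subgroups of order four of `SL₂(q)`, Sylow subgroups, and classes of four-groups of `PSL₂(q)`
-/

set_option autoImplicit false
set_option linter.unusedSectionVars false

namespace Cfsg.Agent.Classical.SL2Four

open Matrix Cfsg.Agent.Small Cfsg.Agent.Small.SL2C

variable {F : Type*} [Field F] [Fintype F]

local notation "M2" => Matrix (Fin 2) (Fin 2) F
local notation "SL2" => Matrix.SpecialLinearGroup (Fin 2) F
local notation "P2" => Matrix.ProjectiveSpecialLinearGroup (Fin 2) F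

theorem sol_zero (h2 : (2 : F) ≠ 0) :
    (Fintype.card F % 4 = 1 → sol (0 : F) 1 = Fintype.card F - 1) ∧
      (Fintype.card F % 4 = 3 → sol (0 : F) 1 = Fintype.card F + 1) := by
  have hi := roots_zero_iff (F := F) h2
  constructor <;> intro h <;> rcases sol_eq (zero_ne_four h2) with ⟨hr, hs⟩ | ⟨hr, hs⟩
  · exact hs
  · rw [hr] at hi; exact absurd (hi.mpr (by omega)) (by omega)
  · exact absurd h (hi.mp hr)
  · exact hs

theorem card_odd_of_two_ne_zero (h2 : (2 : F) ≠ 0) : Fintype.card F % 2 = 1 := by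
  have := not_two_dvd_iff.mpr h2; omega

theorem eq_pm_one_of_sq (h2 : (2 : F) ≠ 0) {y : SL2} (h : y * y = 1) :
    y = 1 ∨ y.1 = -1 :=
  (sq_one_cases h2 h).imp (fun e => Subtype.ext e) id

theorem unique_involution (h2 : (2 : F) ≠ 0) {x y : SL2} (hx : x * x = 1) (hx1 : x ≠ 1)
    (hy : y * y = 1) (hy1 : y ≠ 1) : x = y :=
  Subtype.ext (((eq_pm_one_of_sq h2 hx).resolve_left hx1).trans
    ((eq_pm_one_of_sq h2 hy).resolve_left hy1).symm)

/-- A subgroup of order four is generated by an element of trace zero. -/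
theorem exists_zpowers_of_card_four (h2 : (2 : F) ≠ 0) {A : Subgroup SL2} (hA : Nat.card A = 4) :
    ∃ x : SL2, x.1.trace = 0 ∧ A = Subgroup.zpowers x := by
  classical
  obtain ⟨x, hxA, hx⟩ : ∃ x ∈ A, ¬ x * x = 1 := by
    by_contra! hall
    have hle : Nat.card A ≤ Nat.card Bool := by
      refine Nat.card_le_card_of_injective (fun a : A => decide (a.1 = 1)) fun a b h => ?_
      apply Subtype.ext
      by_cases ha : a.1 = 1 <;> by_cases hb : b.1 = 1
      · rw [ha, hb]
      · simp [ha, hb] at h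
      · simp [ha, hb] at h
      · exact unique_involution h2 (hall _ a.2) ha (hall _ b.2) hb
    rw [hA, Nat.card_eq_fintype_card, Fintype.card_bool] at hle
    omega
  have hx4 : x ^ 4 = 1 := by
    have := congrArg Subtype.val (pow_card_eq_one' (x := (⟨x, hxA⟩ : A)))
    rwa [hA] at this
  have ht : x.1.trace = 0 := by
    have h' : (x * x) * (x * x) = 1 := by rw [← pow_two x, ← pow_add]; exact hx4
    have hm := (eq_pm_one_of_sq h2 h').resolve_left hx
    rw [val_mul', sq_eq, sub_eq_neg_self] at hm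
    have hns : x.1 ≠ 0 := fun h0 => by
      have := x.2
      rw [h0, Matrix.det_zero] at this
      exact zero_ne_one this
    exact (smul_eq_zero.mp hm).resolve_right hns
  refine ⟨x, ht, (Subgroup.eq_of_le_of_card_ge (Subgroup.zpowers_le.mpr hxA) ?_).symm⟩
  rw [hA, Nat.card_zpowers, orderOf_of_trace_zero h2 ht]

theorem zpowers_le_tor (x : SL2) : Subgroup.zpowers x ≤ tor x :=
  Subgroup.zpowers_le.mpr (self_mem_tor x)

/-- The normaliser of a subgroup of order four is that of its torus. -/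
theorem normalizer_zpowers (h2 : (2 : F) ≠ 0) {x : SL2} (hx : x.1.trace = 0) :
    Subgroup.normalizer (Subgroup.zpowers x : Set SL2) = Subgroup.normalizer (tor x : Set SL2) := by
  have hns := not_isSc_of_trace_zero h2 hx
  have ht := trace_sq_ne_four h2 hx
  apply le_antisymm
  · intro s hs
    have hm := zpowers_le_tor x
      ((Subgroup.mem_normalizer_iff.mp hs x).mp (Subgroup.mem_zpowers x))
    rcases eq_or_inv_of_mem_tor h2 hx hm (by rw [trace_conj (isConj_iff.mpr ⟨s⁻¹, rfl⟩ : IsConj _ (s⁻¹ * (s * x * s⁻¹) * s⁻¹⁻¹))]; simpa [mul_assoc] using hx) with e | e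
    · exact Subgroup.le_normalizer (Subgroup.mem_centralizer_singleton_iff.mpr
        (mul_inv_eq_iff_eq_mul.mp e))
    · exact inverter_mem_normalizer hns (mul_inv_eq_iff_eq_mul.mp e)
  · intro s hs
    have key : ∀ s' ∈ Subgroup.normalizer (tor x : Set SL2), ∀ y ∈ Subgroup.zpowers x,
        s' * y * s'⁻¹ ∈ Subgroup.zpowers x := by
      intro s' hs' y hy
      rcases normalizer_cases ht hs' with h | h
      · rw [show s' * y * s'⁻¹ = y by
          rw [tor_comm hns s' h y (zpowers_le_tor x hy), mul_inv_cancel_right]]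
        exact hy
      · rw [inverts hns h (zpowers_le_tor x hy), mul_inv_cancel_right]
        exact inv_mem hy
    rw [Subgroup.mem_normalizer_iff]
    refine fun y => ⟨key s hs y, fun hy => ?_⟩
    have := key s⁻¹ (inv_mem hs) _ hy
    simpa [mul_assoc] using this

theorem card_normalizer_four (h2 : (2 : F) ≠ 0) {A : Subgroup SL2} (hA : Nat.card A = 4) :
    Nat.card (Subgroup.normalizer (A : Set SL2)) = 2 * sol (0 : F) 1 := by
  obtain ⟨x, hx, rfl⟩ := exists_zpowers_of_card_four h2 hA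
  rw [normalizer_zpowers h2 hx, (card_normalizer (trace_sq_ne_four h2 hx)).1, hx]

theorem four_conj (h2 : (2 : F) ≠ 0) {A B : Subgroup SL2} (hA : Nat.card A = 4)
    (hB : Nat.card B = 4) : ∃ g : SL2, B = A.map (MulAut.conj g).toMonoidHom := by
  obtain ⟨x, hx, rfl⟩ := exists_zpowers_of_card_four h2 hA
  obtain ⟨y, hy, rfl⟩ := exists_zpowers_of_card_four h2 hB
  obtain ⟨g, hg⟩ := isConj_iff.mp (isConj_of_trace_zero h2 hx hy)
  exact ⟨g, by rw [MonoidHom.map_zpowers]; simp [hg]⟩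

theorem involutions_conj (h2 : (2 : F) ≠ 0) {x y : P2} (hx : orderOf x = 2) (hy : orderOf y = 2) :
    IsConj x y := by
  obtain ⟨X, rfl⟩ := PSL2.pr_surjective x
  obtain ⟨Y, rfl⟩ := PSL2.pr_surjective y
  exact MonoidHom.map_isConj _ (isConj_of_trace_zero h2 ((orderOf_pr_eq_two_iff h2).mp hx)
    ((orderOf_pr_eq_two_iff h2).mp hy))

/-! ### Sylow subgroups -/

theorem quaternion_not_cyclic {k : ℕ} (hk : 1 ≤ k) : ¬ IsCyclic (QuaternionGroup (2 ^ k)) := by
  intro hc
  have h := (IsCyclic.commGroup (α := QuaternionGroup (2 ^ k))).mul_comm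
    (QuaternionGroup.a 1) (QuaternionGroup.xa 0)
  change QuaternionGroup.a 1 * QuaternionGroup.xa 0 = QuaternionGroup.xa 0 * QuaternionGroup.a 1 at h
  rw [QuaternionGroup.a_mul_xa, QuaternionGroup.xa_mul_a, QuaternionGroup.xa.injEq] at h
  have h' : ((2 : ℕ) : ZMod (2 * 2 ^ k)) = 0 := by
    rw [Nat.cast_ofNat]; linear_combination -h
  rw [ZMod.natCast_eq_zero_iff] at h'
  have h1 : 2 ^ 1 ≤ 2 ^ k := Nat.pow_le_pow_right two_pos hk
  have := Nat.le_of_dvd two_pos h'
  omega

/-- A noncyclic `2`-subgroup of `SL₂(q)` is generalised quaternion. -/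
theorem quaternion_of_not_cyclic (h2 : (2 : F) ≠ 0) (P : Subgroup SL2) (hP : IsPGroup 2 P)
    (hnc : ¬ IsCyclic P) : ∃ k : ℕ, 1 ≤ k ∧ Nonempty (P ≃* QuaternionGroup (2 ^ k)) := by
  have : Fact (Nat.Prime 2) := ⟨Nat.prime_two⟩
  have hu : Cfsg.Agent.Solv.UniqueOrderP 2 P := by
    intro x y hx hy hy1
    by_cases hx1 : x = 1
    · rw [hx1]; exact one_mem _
    · rw [show x = y from Subtype.ext (unique_involution h2
        (congrArg Subtype.val (show x * x = 1 by rw [← pow_two, hx]))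
        (by simpa using hx1) (congrArg Subtype.val (show y * y = 1 by rw [← pow_two, hy]))
        (by simpa using hy1))]
      exact Subgroup.mem_zpowers y
  rcases Cfsg.Agent.Solv.cyclic_or_quaternion hP hu with hc | ⟨-, n, ⟨e⟩⟩
  · exact absurd hc hnc
  · refine ⟨n, ?_, ⟨e⟩⟩
    rcases Nat.eq_zero_or_pos n with rfl | h
    · rw [pow_zero] at e
      have := QuaternionGroup.quaternionGroup_one_isCyclic
      exact absurd (e.isCyclic.mpr inferInstance) hnc
    · exact h

theorem sylow_two_not_cyclic (h2 : (2 : F) ≠ 0) (S : Sylow 2 SL2) :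
    ¬ IsCyclic (S : Subgroup SL2) := by
  intro hc
  obtain ⟨g, k, ht, hk, hS, hSk, ⟨x, hxS, hxt, hxo⟩, ⟨s, hsS, hst⟩, -⟩ := sylow_two_setup h2 S
  have hg := not_isSc_of_trace ht
  have hsinv := (normalizer_cases ht (hS hsS)).resolve_left hst
  have h := (IsCyclic.commGroup (α := (S : Subgroup SL2))).mul_comm ⟨s, hsS⟩ ⟨x, hxS⟩
  have h' : s * x = x * s := congrArg Subtype.val h
  rw [inverts hg hsinv hxt] at h'
  have e : x * x = 1 := by
    nth_rewrite 1 [← mul_right_cancel h']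
    rw [inv_mul_cancel]
  have := orderOf_dvd_of_pow_eq_one (show x ^ 2 = 1 by rw [pow_two, e])
  rw [hxo] at this
  have h4 : 2 ^ 2 ≤ 2 ^ k := Nat.pow_le_pow_right two_pos hk
  have := Nat.le_of_dvd two_pos this
  omega

theorem sylow_two_quaternion (h2 : (2 : F) ≠ 0) (S : Sylow 2 SL2) :
    ∃ k : ℕ, 1 ≤ k ∧ Nonempty ((S : Subgroup SL2) ≃* QuaternionGroup (2 ^ k)) :=
  quaternion_of_not_cyclic h2 _ S.2 (sylow_two_not_cyclic h2 S)

theorem sylow_psl_klein (h2 : (2 : F) ≠ 0)
    (h8 : Fintype.card F % 8 = 3 ∨ Fintype.card F % 8 = 5) (P : Sylow 2 P2) :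
    IsKleinFour (P : Subgroup P2) := by
  have : Fact (Nat.Prime 2) := ⟨Nat.prime_two⟩
  obtain ⟨S, rfl⟩ := Sylow.mapSurjective_surjective PSL2.pr_surjective 2 P
  obtain ⟨g, k, ht, hk, hS, hSk, -, -, hk3⟩ := sylow_two_setup h2 S
  have hk2 : k = 2 := by
    by_contra hne
    have := hk3.mp (by omega)
    omega
  subst hk2
  have hnc := sylow_two_not_cyclic h2 S
  have hsq : ∀ y ∈ (S : Subgroup SL2), y ^ 4 = 1 := by
    intro y hy
    have hd : orderOf (⟨y, hy⟩ : (S : Subgroup SL2)) ∣ 2 ^ 3 := by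
      have := orderOf_dvd_natCard (G := (S : Subgroup SL2)) ⟨y, hy⟩
      rwa [hSk] at this
    obtain ⟨i, hi, he⟩ := (Nat.dvd_prime_pow Nat.prime_two).mp hd
    rw [Subgroup.orderOf_mk] at he
    have hi2 : i ≤ 2 := by
      by_contra hi3
      obtain rfl : i = 3 := by omega
      exact hnc (isCyclic_of_orderOf_eq_card (⟨y, hy⟩ : (S : Subgroup SL2))
        (by rw [Subgroup.orderOf_mk, he, hSk]))
    refine orderOf_dvd_iff_pow_eq_one.mp ?_
    rw [he]
    exact Nat.pow_dvd_pow 2 (show i ≤ 2 from hi2)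
  have hcS : Subgroup.center SL2 ≤ (S : Subgroup SL2) := by
    refine (show IsPGroup 2 (Subgroup.center SL2) from ?_).le_sylow_of_normal S
    exact IsPGroup.of_card (n := 1) (by rw [center_card_odd h2, pow_one])
  have hidx : ((S : Subgroup SL2).map (PSL2.pr (F := F))).index = (S : Subgroup SL2).index := by
    rw [← Subgroup.index_comap_of_surjective ((S : Subgroup SL2).map _) PSL2.pr_surjective,
      Subgroup.comap_map_eq, ker_pr, sup_eq_left.mpr hcS]
  have h1 := Subgroup.card_mul_index (S : Subgroup SL2)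
  have h3 := Subgroup.card_mul_index ((S : Subgroup SL2).map (PSL2.pr (F := F)))
  rw [hSk, card_SL_eq h2, ← h3, hidx] at h1
  have hcard : Nat.card ((S : Subgroup SL2).map (PSL2.pr (F := F))) = 4 := by
    have h0 : (S : Subgroup SL2).index ≠ 0 := Subgroup.index_ne_zero_of_finite
    have : (2 ^ (2 + 1)) * (S : Subgroup SL2).index =
        (Nat.card ((S : Subgroup SL2).map (PSL2.pr (F := F))) * 2) * (S : Subgroup SL2).index := by
      rw [h1]; ring
    have := Nat.eq_of_mul_eq_mul_right (Nat.pos_of_ne_zero h0) this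
    omega
  refine ⟨hcard, ?_⟩
  have hexp : ∀ a : ((S : Subgroup SL2).map (PSL2.pr (F := F))), a ^ 2 = 1 := by
    rintro ⟨a, y, hy, rfl⟩
    apply Subtype.ext
    rw [SubmonoidClass.coe_pow, Subgroup.coe_one, ← map_pow, pr_eq_one_iff]
    have h4 : (y ^ 2) * (y ^ 2) = 1 := by rw [← pow_add]; exact hsq y hy
    rcases sq_one_cases h2 h4 with e | e
    · exact ⟨1, by rw [e, one_smul]⟩
    · exact ⟨-1, by rw [e, neg_one_smul]⟩
  refine (Nat.dvd_prime Nat.prime_two).mp (Monoid.exponent_dvd_of_forall_pow_eq_one hexp)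
    |>.resolve_left fun h1' => ?_
  have : Subsingleton ((S : Subgroup SL2).map (PSL2.pr (F := F))) := Monoid.exp_eq_one_iff.mp h1'
  rw [Nat.card_of_subsingleton (1 : (S : Subgroup SL2).map (PSL2.pr (F := F)))] at hcard
  omega

theorem sylow_odd_cyclic (p : ℕ) [Fact p.Prime] [CharP F p] (r : ℕ) [Fact r.Prime] (hr : r ≠ 2)
    (hrp : r ≠ p) (R : Sylow r SL2) : IsCyclic (R : Subgroup SL2) := by
  have hrp' : r.Prime := Fact.out
  by_cases hd : r ∣ Nat.card SL2
  swap
  · obtain ⟨n, hn⟩ := IsPGroup.iff_card.mp R.2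
    have : n = 0 := by
      by_contra h
      exact hd (((dvd_pow_self r h).trans hn.symm.dvd).trans (Subgroup.card_subgroup_dvd_card _))
    have : Subsingleton (R : Subgroup SL2) :=
      Finite.card_le_one_iff_subsingleton.mp (by rw [hn, this, pow_zero])
    infer_instance
  · obtain ⟨n, -, hq⟩ := FiniteField.card F p
    have hd' : r ∣ Fintype.card F - 1 ∨ r ∣ Fintype.card F + 1 := by
      rw [q_mul_sq] at hd
      rcases hrp'.dvd_mul.mp hd with h | h
      · rw [hq] at h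
        exact absurd ((Nat.prime_dvd_prime_iff_eq hrp' Fact.out).mp (hrp'.dvd_of_dvd_pow h)) hrp
      · exact hrp'.dvd_mul.mp h
    obtain ⟨g, ht, -, -, hN⟩ := sylow_torus r hr hd' R
    have hle : (R : Subgroup SL2) ≤ tor g := by
      intro a ha
      rcases normalizer_cases ht (hN ▸ Subgroup.le_normalizer ha) with h | h
      · exact h
      · exfalso
        have h4 : a ^ 4 = 1 := by
          apply Subtype.ext
          rw [show (4 : ℕ) = 2 + 2 from rfl, pow_add, pow_two, val_mul', val_mul',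
            sq_of_inverter ht h]
          simp
        obtain ⟨i, hi⟩ := IsPGroup.iff_orderOf.mp R.2 ⟨a, ha⟩
        rw [Subgroup.orderOf_mk] at hi
        have h5 := orderOf_dvd_of_pow_eq_one h4
        rw [hi] at h5
        rcases Nat.eq_zero_or_pos i with rfl | hpos
        · rw [pow_zero, orderOf_eq_one_iff] at hi
          exact inverter_not_mem ht h (hi ▸ one_mem _)
        · exact hr ((Nat.prime_dvd_prime_iff_eq hrp' Nat.prime_two).mp
            (hrp'.dvd_of_dvd_pow (show r ∣ 2 ^ 2 from (dvd_pow_self r hpos.ne').trans h5)))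
    have := isCyclic_centralizer ht
    exact isCyclic_of_injective (Subgroup.inclusion hle) (Subgroup.inclusion_injective hle)

/-! ### Classes of four-groups -/

theorem klein_map {G : Type*} [Group G] (V : Subgroup G) [IsKleinFour V] (g : G) :
    IsKleinFour (V.map (MulAut.conj g).toMonoidHom) := by
  let e : V ≃* V.map (MulAut.conj g).toMonoidHom := (MulAut.conj g).subgroupMap V
  exact ⟨(Nat.card_congr e.toEquiv).symm.trans IsKleinFour.card_four,
    (Monoid.exponent_eq_of_mulEquiv e).symm.trans IsKleinFour.exponent_two⟩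

theorem map_pairGroup (s : P2) {x y : P2} (h : IsPair (x, y))
    (h' : IsPair (s * x * s⁻¹, s * y * s⁻¹)) :
    (pairGroup h).map (MulAut.conj s).toMonoidHom = pairGroup h' := by
  have h4 : IsKleinFour (pairGroup h) := pairGroup_isKleinFour h
  have : IsKleinFour ((pairGroup h).map (MulAut.conj s).toMonoidHom) := klein_map _ s
  exact eq_pairGroup h' ⟨x, Or.inr (Or.inl rfl), rfl⟩ ⟨y, Or.inr (Or.inr (Or.inl rfl)), rfl⟩

theorem klein_two_classes (h2 : (2 : F) ≠ 0) {A j c : SL2} (hA : A.1.trace = 0) (hj : Anti A j)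
    (hc : ∀ t, t ∈ tor A ↔ t ∈ Subgroup.zpowers c) {V₁ V₂ : Subgroup P2}
    (hV₁ : IsKleinFour V₁) (hV₂ : IsKleinFour V₂)
    (hA₁ : PSL2.pr A ∈ V₁) (hj₁ : PSL2.pr j ∈ V₁)
    (hA₂ : PSL2.pr A ∈ V₂) (hj₂ : PSL2.pr (j * c) ∈ V₂) (W : Subgroup P2) (hW : IsKleinFour W) :
    (∃ g, W = V₁.map (MulAut.conj g).toMonoidHom) ∨
      (∃ g, W = V₂.map (MulAut.conj g).toMonoidHom) := by
  obtain ⟨⟨x, y⟩, hxy, hxW, hyW⟩ := exists_pair W
  obtain ⟨X, rfl⟩ := PSL2.pr_surjective x
  obtain ⟨Y, rfl⟩ := PSL2.pr_surjective y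
  obtain ⟨hX, hXY⟩ : X.1.trace = 0 ∧ Anti X Y := (isPair_pr_iff h2 (X, Y)).mp hxy
  obtain ⟨s, hs⟩ : ∃ s : SL2, s * A * s⁻¹ = X := isConj_iff.mp (isConj_of_trace_zero h2 hA hX)
  have hct : c ∈ tor A := (hc c).mpr (Subgroup.mem_zpowers c)
  have hB : Anti A (s⁻¹ * Y * s) := by
    have hA' : A = s⁻¹ * X * s := by rw [← hs]; group
    show A.1 * _ = -(_ * A.1)
    rw [hA']
    simp only [← val_mul']
    rw [show s⁻¹ * X * s * (s⁻¹ * Y * s) = s⁻¹ * (X * Y) * s by group,
      show s⁻¹ * Y * s * (s⁻¹ * X * s) = s⁻¹ * (Y * X) * s by group]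
    simp only [val_mul']
    rw [show X.1 * Y.1 = -(Y.1 * X.1) from hXY, Matrix.mul_neg, Matrix.neg_mul]
  obtain ⟨i, hi⟩ := (hc _).mp ((anti_iff hj).mp hB)
  replace hi : Y = s * (j * c ^ i) * s⁻¹ := by
    rw [show c ^ i = j⁻¹ * (s⁻¹ * Y * s) from hi]; group
  have hjinv : ∀ t ∈ tor A, j * t = t⁻¹ * j := by
    intro t ht
    have hj' : j * A = A⁻¹ * j := Subtype.ext (by
      rw [val_mul', val_mul', inv_of_trace_zero hA, Matrix.neg_mul,
        show A.1 * j.1 = -(j.1 * A.1) from hj, neg_neg])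
    exact inverts (not_isSc_of_trace_zero h2 hA) hj' ht
  have key : ∀ e : ℤ, ∀ V : Subgroup P2, IsKleinFour V → PSL2.pr A ∈ V →
      PSL2.pr (j * c ^ e) ∈ V → (∃ m : ℤ, i = e + 2 * m) →
      ∃ g, W = V.map (MulAut.conj g).toMonoidHom := by
    rintro e V hV hAV hBV ⟨m, rfl⟩
    refine ⟨PSL2.pr (s * c ^ (-m)), ?_⟩
    have : IsKleinFour (V.map (MulAut.conj (PSL2.pr (s * c ^ (-m)))).toMonoidHom) := klein_map _ _
    have hcm : c ^ (-m) * A = A * c ^ (-m) :=
      tor_comm (not_isSc_of_trace_zero h2 hA) _ (zpow_mem hct _) _ (self_mem_tor A)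
    have h1 : s * c ^ (-m) * A * (s * c ^ (-m))⁻¹ = X := by
      rw [mul_assoc s, hcm, ← hs]; group
    have h3 : s * c ^ (-m) * (j * c ^ e) * (s * c ^ (-m))⁻¹ = Y := by
      have hjm : c ^ (-m) * j = j * c ^ m := by
        rw [hjinv _ (zpow_mem hct m), _root_.zpow_neg]
      rw [hi, ← mul_assoc (s * c ^ (-m)), mul_assoc s, hjm]
      simp only [mul_assoc, _root_.mul_inv_rev, ← _root_.zpow_neg, neg_neg]
      congr 1
      congr 1
      rw [← mul_assoc (c ^ m), ← _root_.zpow_add, ← mul_assoc, ← _root_.zpow_add]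
      congr 2
      ring
    rw [eq_pairGroup (V := W) hxy hxW hyW]
    refine (eq_pairGroup (V := V.map (MulAut.conj (PSL2.pr (s * c ^ (-m)))).toMonoidHom) hxy
      ⟨PSL2.pr A, hAV, ?_⟩ ⟨PSL2.pr (j * c ^ e), hBV, ?_⟩).symm
    · rw [MulEquiv.coe_toMonoidHom, MulAut.conj_apply, ← map_mul, ← map_inv, ← map_mul, h1]
    · rw [MulEquiv.coe_toMonoidHom, MulAut.conj_apply, ← map_mul, ← map_inv, ← map_mul, h3]
  rcases Int.even_or_odd i with ⟨m, hm⟩ | ⟨m, hm⟩
  · exact Or.inl (key 0 V₁ hV₁ hA₁ (by simpa using hj₁) ⟨m, by omega⟩)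
  · exact Or.inr (key 1 V₂ hV₂ hA₂ (by simpa using hj₂) ⟨m, by omega⟩)

theorem card_klein_of_all_conj {G : Type*} [Group G] [Finite G] (V : Subgroup G) [hV : IsKleinFour V]
    (h : ∀ W : Subgroup G, IsKleinFour W → ∃ g, W = V.map (MulAut.conj g).toMonoidHom) :
    Nat.card {W : Subgroup G // IsKleinFour W} * Nat.card (Subgroup.normalizer (V : Set G)) =
      Nat.card G := by
  rw [← Subgroup.card_mul_index (Subgroup.normalizer (V : Set G)), mul_comm]
  congr 1
  rw [Subgroup.index, ← Nat.card_congr (Equiv.refl _)]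
  refine (Nat.card_congr (Equiv.ofBijective (Quotient.lift (fun g : G =>
    (⟨V.map (MulAut.conj g).toMonoidHom, ?_⟩ : {W : Subgroup G // IsKleinFour W})) ?_) ⟨?_, ?_⟩)).symm
  · exact klein_map V g
  · intro a b hab
    replace hab := QuotientGroup.leftRel_apply.mp hab
    apply Subtype.ext
    have hn : V.map (MulAut.conj (a⁻¹ * b)).toMonoidHom = V :=
      Subgroup.mem_normalizer_iff_map_conj_eq.mp hab
    show V.map _ = V.map _
    nth_rewrite 1 [← hn]
    rw [Subgroup.map_map]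
    congr 1
    ext x
    simp [mul_assoc]
  · rintro ⟨a⟩ ⟨b⟩ hab
    refine Quotient.sound (QuotientGroup.leftRel_apply.mpr (Subgroup.mem_normalizer_iff_map_conj_eq.mpr ?_))
    have hab' : V.map (MulAut.conj a).toMonoidHom = V.map (MulAut.conj b).toMonoidHom :=
      congrArg Subtype.val hab
    have h2' := congrArg (Subgroup.map (MulAut.conj a⁻¹).toMonoidHom) hab'
    rw [Subgroup.map_map, Subgroup.map_map] at h2'
    have e1 : ((MulAut.conj a⁻¹).toMonoidHom).comp (MulAut.conj a).toMonoidHom = MonoidHom.id G := by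
      ext x; simp [mul_assoc]
    have e2 : ((MulAut.conj a⁻¹).toMonoidHom).comp (MulAut.conj b).toMonoidHom =
        (MulAut.conj (a⁻¹ * b)).toMonoidHom := by
      ext x; simp [mul_assoc]
    rw [e1, e2, Subgroup.map_id] at h2'
    exact h2'.symm
  · rintro ⟨W, hW⟩
    obtain ⟨g, rfl⟩ := h W hW
    exact ⟨Quotient.mk (QuotientGroup.leftRel (Subgroup.normalizer (V : Set G))) g, rfl⟩

/-- For `q ≡ ±1 (mod 8)` the normaliser of a four-group has order divisible by eight. -/
theorem eight_dvd_normalizer (h2 : (2 : F) ≠ 0)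
    (h8 : Fintype.card F % 8 = 1 ∨ Fintype.card F % 8 = 7) {A j : SL2} (hA : A.1.trace = 0)
    (hj : Anti A j) {V : Subgroup P2} (hV : IsKleinFour V) (hAV : PSL2.pr A ∈ V)
    (hjV : PSL2.pr j ∈ V) : 8 ∣ Nat.card (Subgroup.normalizer (V : Set P2)) := by
  have : Fact (Nat.Prime 2) := ⟨Nat.prime_two⟩
  have hns := not_isSc_of_trace_zero h2 hA
  have := isCyclic_centralizer (trace_sq_ne_four h2 hA)
  obtain ⟨⟨c, hct⟩, hgen⟩ := IsCyclic.exists_generator (α := tor A)
  have hc : ∀ t, t ∈ tor A ↔ t ∈ Subgroup.zpowers c := by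
    intro t
    constructor
    · intro ht
      obtain ⟨n, hn⟩ := Subgroup.mem_zpowers_iff.mp (hgen ⟨t, ht⟩)
      exact ⟨n, congrArg Subtype.val hn⟩
    · rintro ⟨n, rfl⟩
      exact zpow_mem hct n
  obtain ⟨m, hm⟩ := (hc A).mp (self_mem_tor A)
  replace hm : c ^ m = A := hm
  have hord : orderOf c = sol (0 : F) 1 := by
    rw [← Nat.card_zpowers, ← (Subgroup.ext hc : tor A = Subgroup.zpowers c),
      card_centralizer A hns, hA]
  have h8n : 8 ∣ sol (0 : F) 1 := by
    have := card_odd_of_two_ne_zero h2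
    rcases h8 with h | h
    · rw [(sol_zero h2).1 (by omega)]; omega
    · rw [(sol_zero h2).2 (by omega)]; omega
  have hm4 : ((orderOf c : ℕ) : ℤ) ∣ 4 * m := by
    rw [orderOf_dvd_iff_zpow_eq_one, mul_comm, _root_.zpow_mul, hm]
    rw [show (4 : ℤ) = ((4 : ℕ) : ℤ) from rfl, zpow_natCast, ← orderOf_of_trace_zero h2 hA,
      pow_orderOf_eq_one]
  rw [hord] at hm4
  obtain ⟨m', rfl⟩ : (2 : ℤ) ∣ m := by
    have h8' : (8 : ℤ) ∣ ((sol (0 : F) 1 : ℕ) : ℤ) := by exact_mod_cast h8n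
    have := h8'.trans hm4
    omega
  set t := c ^ m' with ht
  have htA : t * t = A := by rw [← hm, ht, ← _root_.zpow_add]; ring_nf
  have htt : t ∈ tor A := zpow_mem ((hc c).mpr (Subgroup.mem_zpowers c)) _
  set τ := PSL2.pr t with hτ
  have hττ : τ * τ = PSL2.pr A := by rw [hτ, ← map_mul, htA]
  have hτV : τ ∉ V := fun h => by
    have h1 := sq_eq_one_of_klein h
    rw [hττ, pr_eq_one_iff] at h1
    exact hns h1
  have hτN : τ ∈ Subgroup.normalizer (V : Set P2) := by
    rw [Subgroup.mem_normalizer_iff_map_conj_eq]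
    have hj' : j * A = A⁻¹ * j := Subtype.ext (by
      rw [val_mul', val_mul', inv_of_trace_zero hA, Matrix.neg_mul,
        show A.1 * j.1 = -(j.1 * A.1) from hj, neg_neg])
    have hpair : IsPair (PSL2.pr A, PSL2.pr j) := (isPair_pr_iff h2 (A, j)).mpr ⟨hA, hj⟩
    have h1 : τ * PSL2.pr A * τ⁻¹ = PSL2.pr A := by
      rw [← hττ]; group
    have h3 : τ * PSL2.pr j * τ⁻¹ = PSL2.pr A * PSL2.pr j := by
      rw [hτ, ← map_inv, ← map_mul, ← map_mul, ← map_mul,
        show t * j * t⁻¹ = A * j by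
          rw [mul_assoc, inverts hns hj' (inv_mem htt), inv_inv, ← mul_assoc, htA]]
    have hW : IsKleinFour (V.map (MulAut.conj τ).toMonoidHom) := klein_map V τ
    have hp' : IsPair (PSL2.pr A, PSL2.pr A * PSL2.pr j) := by
      obtain ⟨-, -, hxy1, hxne, -, -, -, -⟩ := pair_facts hpair
      exact ⟨hpair.1, orderOf_of_klein (mul_mem hAV hjV) hxy1,
        commute_of_klein hAV (mul_mem hAV hjV), hxne.symm⟩
    exact (eq_pairGroup (V := V.map (MulAut.conj τ).toMonoidHom) hp' ⟨_, hAV, by rw [MulEquiv.coe_toMonoidHom, MulAut.conj_apply, h1]⟩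
      ⟨_, hjV, by rw [MulEquiv.coe_toMonoidHom, MulAut.conj_apply, h3]⟩).trans
        (eq_pairGroup (V := V) hp' hAV (mul_mem hAV hjV)).symm
  have hτ4 : τ ^ 4 = 1 := by
    rw [show (4 : ℕ) = 2 * 2 from rfl, pow_mul, pow_two τ, hττ, pow_two, sq_eq_one_of_klein hAV]
  set R := V ⊔ Subgroup.zpowers τ with hR
  have hRN : R ≤ Subgroup.normalizer (V : Set P2) :=
    sup_le Subgroup.le_normalizer (Subgroup.zpowers_le.mpr hτN)
  have hR2 : IsPGroup 2 R := by
    refine IsPGroup.to_sup_of_normal_left' (IsPGroup.of_card (n := 2) (by simp)) ?_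
      (Subgroup.zpowers_le.mpr hτN)
    exact IsPGroup.of_card (p := 2) (n := 2) (by
      rw [Nat.card_zpowers]
      exact orderOf_eq_prime_pow (n := 1) (by
        rw [pow_one, pow_two, hττ, pr_eq_one_iff]; exact hns) hτ4)
  obtain ⟨n, hn⟩ := IsPGroup.iff_card.mp hR2
  have hlt : 4 < Nat.card R := by
    rw [← (IsKleinFour.card_four : Nat.card V = 4)]
    exact Set.Finite.card_lt_card (Set.toFinite _) ((Set.ssubset_iff_of_subset (show (V : Set P2) ⊆ R from
      fun a ha => Subgroup.mem_sup_left ha)).mpr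
        ⟨τ, Subgroup.mem_sup_right (Subgroup.mem_zpowers τ), hτV⟩)
  have hd := Subgroup.card_dvd_of_le hRN
  rw [hn] at hd hlt
  have hn3 : 3 ≤ n := by
    by_contra h
    have : 2 ^ n ≤ 2 ^ 2 := Nat.pow_le_pow_right two_pos (by omega)
    omega
  exact (Nat.pow_dvd_pow 2 hn3).trans hd

theorem not_all_conj (h2 : (2 : F) ≠ 0) (h8 : Fintype.card F % 8 = 1 ∨ Fintype.card F % 8 = 7)
    {A j c : SL2} (hA : A.1.trace = 0) (hj : Anti A j)
    (hc : ∀ t, t ∈ tor A ↔ t ∈ Subgroup.zpowers c)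
    {V : Subgroup P2} (hV : IsKleinFour V) (hAV : PSL2.pr A ∈ V) (hjV : PSL2.pr j ∈ V)
    (hall : ∀ W : Subgroup P2, IsKleinFour W → ∃ g, W = V.map (MulAut.conj g).toMonoidHom) :
    False := by
  have : Fact (Nat.Prime 2) := ⟨Nat.prime_two⟩
  have hns := not_isSc_of_trace_zero h2 hA
  have hcard := card_klein_of_all_conj V hall
  have h12 := twelve_mul_card_klein (F := F) h2
  rw [← hcard, mul_comm 12] at h12
  have hK : 0 < Nat.card {W : Subgroup P2 // IsKleinFour W} := by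
    have : Nonempty {W : Subgroup P2 // IsKleinFour W} := ⟨⟨V, hV⟩⟩
    exact Nat.card_pos
  have hN := Nat.eq_of_mul_eq_mul_left hK h12
  have := eight_dvd_normalizer h2 h8 hA hj hV hAV hjV
  rw [← hN] at this
  omega

theorem klein_conj_of_mod_eight (h2 : (2 : F) ≠ 0)
    (h8 : Fintype.card F % 8 = 3 ∨ Fintype.card F % 8 = 5) (V W : Subgroup P2)
    (hV : IsKleinFour V) (hW : IsKleinFour W) :
    ∃ g : P2, W = V.map (MulAut.conj g).toMonoidHom := by
  have : Fact (Nat.Prime 2) := ⟨Nat.prime_two⟩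
  obtain ⟨P, hP⟩ := (show IsPGroup 2 V from IsPGroup.of_card (n := 2) (by simp)).exists_le_sylow
  obtain ⟨Q, hQ⟩ := (show IsPGroup 2 W from IsPGroup.of_card (n := 2) (by simp)).exists_le_sylow
  have hP4 := sylow_psl_klein h2 h8 P
  have hQ4 := sylow_psl_klein h2 h8 Q
  obtain rfl := Subgroup.eq_of_le_of_card_ge hP (by simp)
  obtain rfl := Subgroup.eq_of_le_of_card_ge hQ (by simp)
  obtain ⟨g, rfl⟩ := MulAction.exists_smul_eq P2 P Q
  exact ⟨g, rfl⟩

end Cfsg.Agent.Classical.SL2Four
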