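import Mathlib

/-!
# A group with a self-centralising normal four-group

Such a group of order divisible by `3` and dividing `24` is `A₄` or `S₄`.
-/

set_option autoImplicit false

namespace Cfsg.Agent.Classical

variable {N : Type*} [Group N] [Finite N]

/-- The order divides twenty-four. -/
theorem card_dvd_of_klein_normal (V : Subgroup N) [V.Normal] [IsKleinFour V]
    (hC : Subgroup.centralizer (V : Set N) ≤ V) : Nat.card N ∣ 24 := by
  classical
  let X := {v : V // v ≠ 1}
  have hX : Nat.card X = 3 := by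
    have := Fintype.ofFinite V
    rw [Nat.card_eq_fintype_card, Fintype.card_subtype_compl, Fintype.card_subtype_eq,
      ← Nat.card_eq_fintype_card, IsKleinFour.card_four]
  let f : N →* Equiv.Perm X :=
    { toFun := fun n => (MulAut.conjNormal n : MulAut V).toEquiv.subtypeEquiv fun v => by
        simp
      map_one' := by ext v; simp
      map_mul' := fun a b => by ext v; simp }
  have hker : f.ker ≤ V := by
    intro n hn
    refine hC (Subgroup.mem_centralizer_iff.mpr fun v hv => ?_)
    by_cases h1 : v = 1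
    · simp [h1]
    · have h := congrArg (fun p : Equiv.Perm X => ((p ⟨⟨v, hv⟩, by simpa using h1⟩).1 : N))
        (MonoidHom.mem_ker.mp hn)
      simp only [f, MonoidHom.coe_mk, OneHom.coe_mk, Equiv.subtypeEquiv_apply, Equiv.Perm.coe_one,
        id_eq, MulEquiv.toEquiv_eq_coe, EquivLike.coe_coe, MulAut.conjNormal_apply] at h
      exact (mul_inv_eq_iff_eq_mul.mp h).symm
  rw [← Subgroup.card_mul_index f.ker]
  refine (Nat.mul_dvd_mul (Subgroup.card_dvd_of_le hker) (dvd_of_eq (Subgroup.index_ker f))).trans ?_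
  rw [IsKleinFour.card_four]
  refine (Nat.mul_dvd_mul_left 4 (Subgroup.card_subgroup_dvd_card f.range)).trans ?_
  rw [Nat.card_perm, hX]
  decide

/-- An injective map to `S₄`. -/
theorem exists_injective_perm_four (V : Subgroup N) [V.Normal] [IsKleinFour V]
    (hC : Subgroup.centralizer (V : Set N) ≤ V) (h3 : 3 ∣ Nat.card N) :
    ∃ f : N →* Equiv.Perm (Fin 4), Function.Injective f := by
  classical
  have : Fact (Nat.Prime 3) := ⟨Nat.prime_three⟩
  have h24 := card_dvd_of_klein_normal V hC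
  obtain ⟨R⟩ : Nonempty (Sylow 3 N) := inferInstance
  have hR3 : Nat.card (R : Subgroup N) = 3 := by
    obtain ⟨k, hk⟩ := IsPGroup.iff_card.mp R.2
    have h1 : 3 ∣ Nat.card (R : Subgroup N) := R.dvd_card_of_dvd_card h3
    have h2 : 3 ^ k ∣ 24 := hk ▸ (Subgroup.card_subgroup_dvd_card _).trans h24
    rw [hk] at h1 ⊢
    have : k < 2 := by
      by_contra h
      have := (Nat.pow_dvd_pow 3 (show 2 ≤ k by omega)).trans h2
      omega
    interval_cases k <;> omega
  have hdisj : ∀ x ∈ V, x ∈ (R : Subgroup N) → x = 1 := by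
    intro x hx hx'
    have h1 := orderOf_dvd_natCard (G := V) ⟨x, hx⟩
    have h2 := orderOf_dvd_natCard (G := (R : Subgroup N)) ⟨x, hx'⟩
    rw [Subgroup.orderOf_mk, IsKleinFour.card_four] at h1
    rw [Subgroup.orderOf_mk, hR3] at h2
    exact orderOf_eq_one_iff.mp (Nat.eq_one_of_dvd_coprimes (show Nat.Coprime 4 3 by decide) h1 h2)
  have hsq : ∀ x ∈ V, x * x = 1 := fun x hx =>
    congrArg Subtype.val (IsKleinFour.mul_self (⟨x, hx⟩ : V))
  have hfpf : ∀ r ∈ (R : Subgroup N), r ≠ 1 → ∀ x ∈ V, r * x = x * r → x = 1 := by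
    intro r hr hr1 x hx hrx
    by_contra hx1
    have hr3 : r ^ 3 = 1 := by
      have := pow_card_eq_one' (x := (⟨r, hr⟩ : (R : Subgroup N)))
      rw [hR3] at this
      exact congrArg Subtype.val this
    refine hr1 (hdisj r (hC (Subgroup.mem_centralizer_iff.mpr fun y hy => ?_)) hr)
    have hn : ∀ z ∈ V, r * z * r⁻¹ ∈ V := fun z hz => ‹V.Normal›.conj_mem z hz r
    have hcase : ∀ z ∈ V, z = 1 ∨ z = x ∨ z = y ∨ z = x * y ∨ y = 1 ∨ y = x := by
      intro z hz
      by_cases hy1 : y = 1
      · simp [hy1]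
      by_cases hyx : y = x
      · simp [hyx]
      have := Fintype.ofFinite V
      have huniv := IsKleinFour.eq_finset_univ (G := V) (x := ⟨x, hx⟩) (y := ⟨y, hy⟩)
        (by simpa using hx1) (by simpa using hy1) (fun h => hyx (congrArg Subtype.val h).symm)
      have hm := Finset.mem_univ (⟨z, hz⟩ : V)
      rw [← huniv] at hm
      simp only [Finset.mem_insert, Finset.mem_singleton, Subtype.ext_iff, Subgroup.coe_one,
        Subgroup.coe_mul] at hm
      tauto
    rcases hcase _ (hn y hy) with h | h | h | h | h | h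
    · rw [conj_eq_one_iff.mp h]; simp
    · have : y = x := mul_left_cancel ((mul_inv_eq_iff_eq_mul.mp h).trans hrx.symm)
      rw [this]; exact hrx.symm
    · exact (mul_inv_eq_iff_eq_mul.mp h).symm
    · have e2 : r ^ 2 * y * (r ^ 2)⁻¹ = y := by
        calc r ^ 2 * y * (r ^ 2)⁻¹ = r * (r * y * r⁻¹) * r⁻¹ := by rw [pow_two]; group
          _ = r * (x * y) * r⁻¹ := by rw [h]
          _ = (r * x * r⁻¹) * (r * y * r⁻¹) := by group
          _ = x * (x * y) := by rw [h, mul_inv_eq_iff_eq_mul.mpr hrx]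
          _ = y := by rw [← mul_assoc, hsq x hx, one_mul]
      have c2 : Commute (r ^ 2) y := mul_inv_eq_iff_eq_mul.mp e2
      have c4 : Commute (r ^ 4) y := by rw [show r ^ 4 = (r ^ 2) ^ 2 by rw [← pow_mul]]; exact c2.pow_left 2
      rw [pow_succ, hr3, one_mul] at c4
      exact c4.eq.symm
    · simp [h]
    · rw [h]; exact hrx.symm
  have hn4 : Nat.card (Sylow 3 N) = 4 := by
    have h1 := card_sylow_modEq_one 3 N
    have h2 := R.card_dvd_index
    have h3' : (R : Subgroup N).index ∣ 8 := by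
      have := Subgroup.card_mul_index (R : Subgroup N)
      rw [hR3] at this
      exact Nat.dvd_of_mul_dvd_mul_left (show 0 < 3 by norm_num) (by rw [this]; exact h24)
    have h8 := h2.trans h3'
    have hne : Nat.card (Sylow 3 N) ≠ 1 := by
      intro h
      have : Subsingleton (Sylow 3 N) := (Nat.card_eq_one_iff_unique.mp h).1
      have hRn : (R : Subgroup N).Normal := R.normal_of_subsingleton
      obtain ⟨r, hr1⟩ : ∃ r : (R : Subgroup N), r ≠ 1 := by
        have : Nontrivial (R : Subgroup N) := Finite.one_lt_card_iff_nontrivial.mp (by omega)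
        exact exists_ne 1
      obtain ⟨x, hx1⟩ : ∃ x : V, x ≠ 1 := by
        have : Nontrivial V := Finite.one_lt_card_iff_nontrivial.mp (by simp)
        exact exists_ne 1
      refine (by simpa using hx1 : (x : N) ≠ 1) (hfpf r r.2 (by simpa using hr1) x x.2 ?_)
      exact Subgroup.commute_of_normal_of_disjoint _ _ hRn ‹V.Normal›
        (disjoint_iff.mpr ((Subgroup.eq_bot_iff_forall _).mpr fun y hy => hdisj y hy.2 hy.1)) _ _ r.2 x.2
    have hle := Nat.le_of_dvd (by norm_num) h8
    unfold Nat.ModEq at h1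
    interval_cases (Nat.card (Sylow 3 N)) <;> omega
  let e : Sylow 3 N ≃ Fin 4 := Finite.equivFinOfCardEq hn4
  let f : N →* Equiv.Perm (Fin 4) := e.permCongrHom.toMonoidHom.comp (MulAction.toPermHom N (Sylow 3 N))
  have hKV : f.ker ⊓ V = ⊥ := by
    rw [Subgroup.eq_bot_iff_forall]
    rintro x ⟨hx, hxV⟩
    have hx' : MulAction.toPermHom N (Sylow 3 N) x = 1 :=
      e.permCongrHom.injective (by rw [map_one]; exact MonoidHom.mem_ker.mp hx)
    have hfix : x • R = R := congrArg (fun p : Equiv.Perm (Sylow 3 N) => p R) hx'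
    rw [Sylow.smul_eq_iff_mem_normalizer] at hfix
    obtain ⟨r, hr1⟩ : ∃ r : (R : Subgroup N), r ≠ 1 := by
      have : Nontrivial (R : Subgroup N) := Finite.one_lt_card_iff_nontrivial.mp (by omega)
      exact exists_ne 1
    refine hfpf r r.2 (by simpa using hr1) x hxV ?_
    have h1 : x * r * x⁻¹ * (r : N)⁻¹ ∈ (R : Subgroup N) :=
      mul_mem ((Subgroup.mem_normalizer_iff.mp hfix r).mp r.2) (inv_mem r.2)
    have h2 : x * r * x⁻¹ * (r : N)⁻¹ ∈ V := by
      rw [show x * r * x⁻¹ * (r : N)⁻¹ = x * ((r : N) * x⁻¹ * (r : N)⁻¹) by group]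
      exact mul_mem hxV (‹V.Normal›.conj_mem _ (inv_mem hxV) _)
    exact (mul_inv_eq_iff_eq_mul.mp (mul_inv_eq_one.mp (hdisj _ h2 h1))).symm
  refine ⟨f, (MonoidHom.ker_eq_bot_iff f).mp ?_⟩
  rw [eq_bot_iff, ← hKV]
  refine le_inf le_rfl (fun x hx => hC (Subgroup.mem_centralizer_iff.mpr fun v hv => ?_))
  exact (Subgroup.commute_of_normal_of_disjoint _ _ (MonoidHom.normal_ker f) ‹V.Normal›
    (disjoint_iff.mpr hKV) _ _ hx hv).symm

theorem equiv_symm_four (V : Subgroup N) [V.Normal] [IsKleinFour V]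
    (hC : Subgroup.centralizer (V : Set N) ≤ V) (h : Nat.card N = 24) :
    Nonempty (N ≃* Equiv.Perm (Fin 4)) := by
  obtain ⟨f, hf⟩ := exists_injective_perm_four V hC (by rw [h]; norm_num)
  refine ⟨MulEquiv.ofBijective f ((Nat.bijective_iff_injective_and_card f).mpr ⟨hf, ?_⟩)⟩
  rw [h, Nat.card_perm, Nat.card_fin]
  rfl

theorem equiv_alt_four (V : Subgroup N) [V.Normal] [IsKleinFour V]
    (hC : Subgroup.centralizer (V : Set N) ≤ V) (h : Nat.card N = 12) :
    Nonempty (N ≃* alternatingGroup (Fin 4)) := by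
  obtain ⟨f, hf⟩ := exists_injective_perm_four V hC (by rw [h]; norm_num)
  have hidx : f.range.index = 2 := by
    have h1 := Subgroup.card_mul_index f.range
    rw [← Nat.card_congr (MonoidHom.ofInjective hf).toEquiv, h, Nat.card_perm, Nat.card_fin,
      show Nat.factorial 4 = 24 from rfl] at h1
    omega
  exact ⟨(MonoidHom.ofInjective hf).trans
    (MulEquiv.subgroupCongr (Equiv.Perm.eq_alternatingGroup_of_index_eq_two hidx))⟩

end Cfsg.Agent.Classical
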