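import Cfsg.Agent.Lib.Small.SL2.Sylow
import Cfsg.Agent.Lib.Small.SL2.Orders
import Cfsg.Agent.S3378
import Cfsg.Agent.S0253

/-!
# `A₅` inside `PSL₂(q)`
-/

set_option autoImplicit false
set_option linter.unusedSectionVars false

namespace Cfsg.Agent.Classical.SL2Ico

open Matrix Cfsg.Agent.Small Cfsg.Agent.Small.SL2C

variable {F : Type*} [Field F] [Fintype F]

local notation "M2" => Matrix (Fin 2) (Fin 2) F
local notation "SL2" => Matrix.SpecialLinearGroup (Fin 2) F
local notation "P2" => Matrix.ProjectiveSpecialLinearGroup (Fin 2) F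

theorem pow_three_of_trace {g : SL2} (h : g.1.trace = -1) : g ^ 3 = 1 := by
  apply Subtype.ext
  have e : g.1 * g.1 = -g.1 - 1 := by rw [sq_eq, h, neg_one_smul]
  rw [pow_succ, pow_two, val_mul', val_mul', e, Matrix.sub_mul, Matrix.neg_mul, e, Matrix.one_mul,
    Matrix.SpecialLinearGroup.coe_one]
  abel

theorem pow_five_formula (g : SL2) :
    (g ^ 5).1 = (g.1.trace ^ 4 - 3 * g.1.trace ^ 2 + 1) • g.1 -
      (g.1.trace ^ 3 - 2 * g.1.trace) • (1 : M2) := by
  have e := sq_eq g
  set t := g.1.trace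
  simp only [pow_succ, pow_zero, one_mul, val_mul']
  simp only [e, Matrix.sub_mul, Matrix.smul_mul, Matrix.one_mul, smul_sub]
  module

theorem pow_five_of_trace {g : SL2} (h : g.1.trace ^ 2 + g.1.trace - 1 = 0) : g ^ 5 = 1 := by
  apply Subtype.ext
  rw [pow_five_formula, Matrix.SpecialLinearGroup.coe_one,
    show g.1.trace ^ 4 - 3 * g.1.trace ^ 2 + 1 = 0 by
      linear_combination (g.1.trace ^ 2 - g.1.trace - 1) * h,
    show g.1.trace ^ 3 - 2 * g.1.trace = -1 by linear_combination (g.1.trace - 1) * h]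
  simp

theorem exists_golden (h5 : 5 ∣ Fintype.card F * (Fintype.card F ^ 2 - 1)) :
    ∃ φ : F, φ ^ 2 + φ - 1 = 0 := by
  by_cases hc : (5 : F) = 0
  · exact ⟨2, by linear_combination hc⟩
  have : Fact (Nat.Prime 5) := ⟨by norm_num⟩
  obtain ⟨g, hg⟩ := exists_prime_orderOf_dvd_card' (G := SL2) 5 (by rw [card_SL2]; exact h5)
  have hns : ¬ IsSc g.1 := fun h => by
    have h' : g ^ 2 = 1 := Subtype.ext (by
      rcases isSc_SL h with e | e <;> simp [pow_two, val_mul', e])
    have := orderOf_dvd_of_pow_eq_one h'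
    rw [hg] at this
    omega
  have h := pow_five_formula g
  rw [show g ^ 5 = 1 by rw [← hg]; exact pow_orderOf_eq_one g,
    Matrix.SpecialLinearGroup.coe_one] at h
  set a := g.1.trace ^ 4 - 3 * g.1.trace ^ 2 + 1 with ha
  set b := g.1.trace ^ 3 - 2 * g.1.trace with hb
  have ha0 : a = 0 := by
    by_contra hne
    refine hns ⟨a⁻¹ * (1 + b), ?_⟩
    rw [mul_smul, add_smul, one_smul]
    conv_rhs => arg 2; arg 1; rw [h]
    rw [sub_add_cancel, smul_smul, inv_mul_cancel₀ hne, one_smul]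
  rw [ha0, zero_smul, zero_sub] at h
  have hb1 : b = -1 := by
    have := congrFun (congrFun h 0) 0
    simp at this
    linear_combination this
  refine ⟨g.1.trace, ?_⟩
  rcases mul_eq_zero.mp (show (g.1.trace - 1) * (g.1.trace ^ 2 + g.1.trace - 1) = 0 by
    linear_combination hb1 - hb) with h1 | h1
  · rw [sub_eq_zero] at h1
    rw [h1] at ha
    exact absurd (by rw [ha0] at ha; linear_combination ha) (one_ne_zero (α := F))
  · exact h1

theorem exists_icosahedral (h5 : 5 ∣ Fintype.card F * (Fintype.card F ^ 2 - 1)) :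
    ∃ x y : SL2, x ^ 3 = 1 ∧ y ^ 5 = 1 ∧ (x * y).1.trace = 0 ∧ ¬ IsSc x.1 ∧ ¬ IsSc y.1 ∧
      ¬ IsSc (x * y).1 := by
  obtain ⟨φ, hφ⟩ := exists_golden h5
  obtain ⟨b, d, hbd⟩ : ∃ b d : F, b * b + b * d + d * d - φ * d + 1 = 0 := by
    by_cases h3 : (3 : F) = 0
    · have hφ0 : φ ≠ 0 := fun h => by rw [h] at hφ; exact one_ne_zero (α := F) (by linear_combination -hφ)
      refine ⟨φ⁻¹, φ⁻¹, ?_⟩
      rw [mul_inv_cancel₀ hφ0]
      linear_combination (φ⁻¹ * φ⁻¹) * h3
    · obtain ⟨u, hu⟩ : ∃ u : F, 3 * u = 1 := ⟨3⁻¹, mul_inv_cancel₀ h3⟩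
      obtain ⟨x, z, hxz⟩ := Qf_surjective (F := F) (t := 1) (d := 1)
        (Or.inr fun h => h3 (by linear_combination -h)) (φ * φ * u - 1)
      rw [Qf] at hxz
      refine ⟨x - φ * u, z + 2 * φ * u, ?_⟩
      linear_combination hxz + (φ * φ * u + φ * z) * hu
  obtain ⟨x, hx⟩ : ∃ x : SL2, x.1 = !![0, 1; -1, -1] :=
    ⟨mkSL !![0, 1; -1, -1] (by simp [Matrix.det_fin_two]), rfl⟩
  obtain ⟨y, hy⟩ : ∃ y : SL2, y.1 = !![φ - d, b; b + d, d] :=
    ⟨mkSL !![φ - d, b; b + d, d] (by simp [Matrix.det_fin_two]; linear_combination -hbd), rfl⟩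
  have htx : x.1.trace = -1 := by rw [hx, Matrix.trace_fin_two]; simp
  have hty : y.1.trace = φ := by rw [hy, Matrix.trace_fin_two]; simp
  refine ⟨x, y, pow_three_of_trace htx, pow_five_of_trace (by rw [hty]; exact hφ), ?_, ?_, ?_, ?_⟩
  · rw [val_mul', hx, hy, Matrix.trace_fin_two]
    simp [Matrix.mul_apply, Fin.sum_univ_two]
    ring
  · exact not_isSc_of_01 (by rw [hx]; simp)
  · intro h
    obtain ⟨h01, h10, h00⟩ := (isSc_iff _).mp h
    rw [hy] at h01 h10 h00
    simp at h01 h10 h00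
    rw [h01, zero_add] at h10
    rw [h01, h10] at hbd
    simp at hbd
  · intro h
    obtain ⟨h01, h10, h00⟩ := (isSc_iff _).mp h
    rw [val_mul', hx, hy] at h01 h10 h00
    simp [Matrix.mul_apply, Fin.sum_univ_two] at h01 h10 h00
    -- `x * y = !![b+d, d; -φ-b, -b-d]`, so `d = 0` and `b = -φ`
    rw [h01] at hbd
    have e : b * b + 1 = 0 := by linear_combination hbd
    have eb : b = -φ := by linear_combination -h10
    rw [eb] at e
    have e' : φ = 2 := by linear_combination hφ - e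
    rw [e'] at hφ e eb
    have h5' : (5 : F) = 0 := by linear_combination e
    have : 2 * b = 0 := by rw [h01] at h00; linear_combination h00
    rw [eb] at this
    exact one_ne_zero (α := F) (by linear_combination this + h5')

/-- `A₅` embeds into `PSL₂(q)` when `5` divides `q(q²-1)`. -/
theorem exists_injective_alt_five (h5 : 5 ∣ Fintype.card F * (Fintype.card F ^ 2 - 1)) :
    ∃ f : alternatingGroup (Fin 5) →* P2, Function.Injective f := by
  classical
  have : Fact (Nat.Prime 5) := ⟨by norm_num⟩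
  obtain ⟨x, y, hx, hy, ht, hxs, hys, hxys⟩ := exists_icosahedral h5
  obtain ⟨z, hz⟩ : ∃ z : SL2, z.1 = -1 := ⟨(x * y) ^ 2, by
    rw [pow_two, val_mul', sq_eq, ht, zero_smul, zero_sub]⟩
  have hzz : z ^ 2 = 1 := Subtype.ext (by simp [pow_two, val_mul', hz])
  have hxy : (x * y) ^ 2 = z := Subtype.ext (by
    rw [hz, pow_two, val_mul', sq_eq, ht, zero_smul, zero_sub])
  have hzc : ∀ g : SL2, z⁻¹ * g * z = g := fun g => by
    rw [mul_assoc, inv_mul_eq_iff_eq_mul]
    exact Subtype.ext (by rw [val_mul', val_mul', hz, Matrix.neg_mul, Matrix.mul_neg, Matrix.one_mul,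
      Matrix.mul_one])
  obtain ⟨E⟩ := Cfsg.Agent.S3378.result.{0}.2
  let v : Fin 3 → P2 := ![PSL2.pr x, PSL2.pr y, PSL2.pr z]
  have hv : ∀ r ∈ ({FreeGroup.of (0 : Fin 3) ^ 3, FreeGroup.of (1 : Fin 3) ^ 5, FreeGroup.of (2 : Fin 3) ^ 2,
        (FreeGroup.of (2 : Fin 3))⁻¹ * FreeGroup.of 0 * FreeGroup.of 2 * (FreeGroup.of (0 : Fin 3))⁻¹,
        (FreeGroup.of (2 : Fin 3))⁻¹ * FreeGroup.of 1 * FreeGroup.of 2 * (FreeGroup.of (1 : Fin 3))⁻¹,
        (FreeGroup.of (0 : Fin 3) * FreeGroup.of 1) ^ 2 * (FreeGroup.of (2 : Fin 3))⁻¹} : Set (FreeGroup (Fin 3))),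
      FreeGroup.lift v r = 1 := by
    intro r hr
    rcases hr with rfl | rfl | rfl | rfl | rfl | rfl <;>
      simp only [map_pow, map_mul, map_inv, FreeGroup.lift_apply_of]
    · exact (map_pow _ x 3).symm.trans (by rw [hx, map_one])
    · exact (map_pow _ y 5).symm.trans (by rw [hy, map_one])
    · exact (map_pow _ z 2).symm.trans (by rw [hzz, map_one])
    · show (PSL2.pr z)⁻¹ * PSL2.pr x * PSL2.pr z * (PSL2.pr x)⁻¹ = 1
      rw [← map_inv, ← map_mul, ← map_mul, hzc, mul_inv_cancel]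
    · show (PSL2.pr z)⁻¹ * PSL2.pr y * PSL2.pr z * (PSL2.pr y)⁻¹ = 1
      rw [← map_inv, ← map_mul, ← map_mul, hzc, mul_inv_cancel]
    · show (PSL2.pr x * PSL2.pr y) ^ 2 * (PSL2.pr z)⁻¹ = 1
      rw [← map_mul, ← map_pow, hxy, mul_inv_cancel]
  let φ : Matrix.SpecialLinearGroup (Fin 2) (ZMod 5) →* P2 :=
    (PresentedGroup.toGroup hv).comp E.symm.toMonoidHom
  have hker : Subgroup.center (Matrix.SpecialLinearGroup (Fin 2) (ZMod 5)) ≤ φ.ker := by
    intro w hw
    obtain ⟨w', rfl⟩ := E.surjective w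
    have hw' : ∀ g, g * w' = w' * g := fun g => E.injective (by
      rw [map_mul, map_mul]; exact Subgroup.mem_center_iff.mp hw (E g))
    rw [MonoidHom.mem_ker]
    simp only [φ, MonoidHom.comp_apply, MulEquiv.coe_toMonoidHom, MulEquiv.symm_apply_apply]
    set w₁ := PresentedGroup.toGroup hv w' with hw₁
    have hcx : Commute w₁ (PSL2.pr x) := by
      have := congrArg (PresentedGroup.toGroup hv) (hw' (PresentedGroup.of 0))
      rw [map_mul, map_mul, PresentedGroup.toGroup.of] at this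
      exact this.symm
    have hcy : Commute w₁ (PSL2.pr y) := by
      have := congrArg (PresentedGroup.toGroup hv) (hw' (PresentedGroup.of 1))
      rw [map_mul, map_mul, PresentedGroup.toGroup.of] at this
      exact this.symm
    obtain ⟨W, hW⟩ := PSL2.pr_surjective w₁
    have key : ∀ n : ℕ, Odd n → ∀ g : SL2, g ^ n = 1 → Commute w₁ (PSL2.pr g) →
        W.1 * g.1 = g.1 * W.1 := by
      intro n hn g hg hc
      rw [← hW, Commute, SemiconjBy, ← map_mul, ← map_mul, PSL2.pr_eq_iff] at hc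
      obtain ⟨ε, hε, h⟩ := hc
      rw [val_mul', val_mul'] at h
      rcases sign_cases hε h with e | ⟨e, -⟩
      · rw [h, e, one_smul]
      · rw [e, neg_one_smul] at h
        by_cases h2 : (2 : F) = 0
        · rw [h]
          have : (2 : F) • (g.1 * W.1) = 0 := by rw [h2, zero_smul]
          linear_combination (norm := module) -this
        · exfalso
          have hgW : W.1 * (g * g).1 = (g * g).1 * W.1 := by
            rw [val_mul', ← Matrix.mul_assoc, h, Matrix.neg_mul, Matrix.mul_assoc, h, Matrix.mul_neg,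
              neg_neg, Matrix.mul_assoc]
          have hc2 : Commute W (g * g) := Subtype.ext (by rw [val_mul', val_mul' (g * g)]; exact hgW)
          obtain ⟨k, rfl⟩ := hn
          have hg' : g = (g * g) ^ (k + 1) := by
            rw [← pow_two, ← pow_mul, show 2 * (k + 1) = (2 * k + 1) + 1 by ring, pow_succ, hg, one_mul]
          have hcg : Commute W g := hg' ▸ hc2.pow_right (k + 1)
          have h' : W.1 * g.1 = g.1 * W.1 := congrArg (fun Y : SL2 => Y.1) hcg.eq
          rw [h] at h'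
          have h0 : (2 : F) • (g.1 * W.1) = 0 := by linear_combination (norm := module) -h'
          have hd := congrArg Matrix.det ((smul_eq_zero.mp h0).resolve_left h2)
          rw [Matrix.det_mul, g.2, W.2, mul_one, Matrix.det_zero] at hd
          exact one_ne_zero hd
    have hWx := key 3 (by decide) x hx hcx
    have hWy := key 5 (by decide) y hy hcy
    rw [← hW, pr_eq_one_iff]
    by_contra hns
    refine hxys ?_
    -- `x`, `y` would both lie in the torus of `W`, so commute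
    have hc := tor_comm hns x (mem_tor.mpr hWx.symm) y (mem_tor.mpr hWy.symm)
    have h1 : (x * y) ^ 2 = x ^ 2 * y ^ 2 := by
      rw [pow_two, pow_two, pow_two, mul_assoc x y, ← mul_assoc y, ← hc, mul_assoc x y y, ← mul_assoc x x]
    have h15 : z ^ 15 = 1 := by
      rw [← hxy, h1, ((show Commute x y from hc).pow_pow 2 2).mul_pow, ← pow_mul, ← pow_mul,
        show 2 * 15 = 3 * 10 from rfl, show 3 * 10 = 3 * 10 from rfl, pow_mul, hx, one_pow, one_mul,
        show 3 * 10 = 5 * 6 from rfl, pow_mul, hy, one_pow]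
    have hz1 : z = 1 := by
      rw [show (15 : ℕ) = 2 * 7 + 1 from rfl, pow_succ, pow_mul, hzz, one_pow, one_mul] at h15
      exact h15
    rw [hz1] at hxy
    exact (pr_eq_one_iff.mp (by
      have h30 : (PSL2.pr (x * y)) ^ 15 = 1 := by
        rw [← map_pow, (show Commute x y from hc).mul_pow, show (15 : ℕ) = 3 * 5 from rfl, pow_mul x,
          hx, one_pow, one_mul, mul_comm 3 5, pow_mul, hy, one_pow, map_one]
      rw [show (15 : ℕ) = 2 * 7 + 1 from rfl, pow_succ, pow_mul, ← map_pow, hxy, map_one, one_pow,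
        one_mul] at h30
      exact h30))
  let ψ : Matrix.ProjectiveSpecialLinearGroup (Fin 2) (ZMod 5) →* P2 := QuotientGroup.lift _ φ hker
  obtain ⟨A⟩ := Cfsg.Agent.S0253.result (F := ZMod 5) (ZMod.card 5)
  have hsimple : IsSimpleGroup (Matrix.ProjectiveSpecialLinearGroup (Fin 2) (ZMod 5)) :=
    Matrix.ProjectiveSpecialLinearGroup.rank_two_simple (by rw [Nat.card_zmod]; norm_num)
  refine ⟨ψ.comp A.symm.toMonoidHom, (?_ : Function.Injective ψ).comp A.symm.injective⟩
  rw [← MonoidHom.ker_eq_bot_iff]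
  rcases hsimple.eq_bot_or_eq_top_of_normal ψ.ker (MonoidHom.normal_ker ψ) with h | h
  · exact h
  · exfalso
    have h0 : ψ (QuotientGroup.mk' _ (E (PresentedGroup.of 0))) = 1 :=
      MonoidHom.mem_ker.mp (h ▸ Subgroup.mem_top _)
    have e : ψ (QuotientGroup.mk' _ (E (PresentedGroup.of 0))) = PSL2.pr x := by
      show φ (E (PresentedGroup.of 0)) = _
      simp [φ, v, PresentedGroup.toGroup.of]
    exact hxs (pr_eq_one_iff.mp (e ▸ h0))

end Cfsg.Agent.Classical.SL2Ico
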