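/-
Bilinear, sesquilinear and quadratic forms given as functions: Gram matrices, and uniqueness of the form fixed by
an absolutely irreducible group.
-/
import Cfsg.Agent.Lib.Classical.LinBasic

set_option autoImplicit false

namespace Cfsg.Agent.Classical

open Matrix Cfsg.Geo

variable {ι : Type} [Fintype ι] [DecidableEq ι] {F : Type*} [Field F]

/-- A form linear in the first argument and `σ`-semilinear in the second one. -/
structure IsSemiForm (σ : F → F) (f : (ι → F) → (ι → F) → F) : Prop where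
  add_left : ∀ x y v, f (x + y) v = f x v + f y v
  smul_left : ∀ (c : F) (x v : ι → F), f (c • x) v = c * f x v
  add_right : ∀ v x y, f v (x + y) = f v x + f v y
  smul_right : ∀ (c : F) (v x : ι → F), f v (c • x) = σ c * f v x

theorem semiForm_of_bilinear {f : (ι → F) → (ι → F) → F} (h : IsBilinearForm f) :
    IsSemiForm (RingEquiv.refl F) f :=
  ⟨h.add_left, h.smul_left, h.add_right, h.smul_right⟩

theorem semiForm_of_unitary {σ : F ≃+* F} {f : (ι → F) → (ι → F) → F} (h : IsUnitaryForm σ f) :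
    IsSemiForm σ f where
  add_left := h.add_left
  smul_left := h.smul_left
  add_right v x y := by rw [h.herm, h.add_left, map_add, ← h.herm, ← h.herm]
  smul_right c v x := by rw [h.herm, h.smul_left, map_mul, ← h.herm]

theorem IsSemiForm.comp_mulVec {σ : F → F} {f : (ι → F) → (ι → F) → F} (h : IsSemiForm σ f)
    (g : Matrix ι ι F) : IsSemiForm σ (fun u v => f (g *ᵥ u) (g *ᵥ v)) where
  add_left x y v := by simp only [Matrix.mulVec_add, h.add_left]
  smul_left c x v := by simp only [Matrix.mulVec_smul, h.smul_left]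
  add_right v x y := by simp only [Matrix.mulVec_add, h.add_right]
  smul_right c v x := by simp only [Matrix.mulVec_smul, h.smul_right]

theorem semiForm_apply (σ : F ≃+* F) {f : (ι → F) → (ι → F) → F} (h : IsSemiForm σ f) (u v : ι → F) :
    f u v = u ⬝ᵥ (gramMatrix f *ᵥ (σ ∘ v)) := by
  have hl : ∀ w, f u w = ∑ i, u i * f (Pi.single i 1) w := fun w => by
    let L : (ι → F) →ₗ[F] F :=
      { toFun := fun x => f x w
        map_add' := fun a b => h.add_left a b w
        map_smul' := fun c a => h.smul_left c a w }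
    have := LinearMap.pi_apply_eq_sum_univ L u
    refine this.trans (Finset.sum_congr rfl fun i _ => ?_)
    congr 1
    exact congrArg L (funext fun j => by simp [Pi.single_apply, eq_comm])
  have hr : ∀ i, f (Pi.single i 1) v = ∑ j, σ (v j) * gramMatrix f i j := fun i => by
    let A : (ι → F) →+ F := AddMonoidHom.mk' (fun x => f (Pi.single i 1) x) (h.add_right _)
    conv_lhs => rw [pi_eq_sum_univ v]
    refine (map_sum A _ _).trans (Finset.sum_congr rfl fun j _ => ?_)
    change f _ _ = _
    rw [h.smul_right]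
    congr 1
    exact congrArg (f _) (funext fun k => by simp [Pi.single_apply, eq_comm])
  rw [hl]
  simp only [hr, dotProduct, Matrix.mulVec, Function.comp_apply]
  exact Finset.sum_congr rfl fun i _ => congrArg _ (Finset.sum_congr rfl fun j _ => mul_comm _ _)

theorem semiForm_eq_zero_iff (σ : F ≃+* F) {f : (ι → F) → (ι → F) → F} (h : IsSemiForm σ f)
    (hf : gramMatrix f = 0) (u v : ι → F) : f u v = 0 := by simp [semiForm_apply σ h, hf]

theorem det_gram_ne_zero (σ : F ≃+* F) {f : (ι → F) → (ι → F) → F} (h : IsSemiForm σ f)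
    (hn : IsNondegenerateForm f) : (gramMatrix f).det ≠ 0 := by
  intro h0
  obtain ⟨w, hw0, hw⟩ := Matrix.exists_mulVec_eq_zero_iff.mpr h0
  have hv : (σ : F → F) ∘ ((σ.symm : F → F) ∘ w) = w := funext fun i => σ.apply_symm_apply _
  obtain ⟨x, hx⟩ := (hn ((σ.symm : F → F) ∘ w) fun e => hw0 (by rw [← hv, e]; ext; simp)).1
  exact hx (by rw [semiForm_apply σ h, hv, hw, dotProduct_zero])

theorem gram_comp (σ : F ≃+* F) {f : (ι → F) → (ι → F) → F} (h : IsSemiForm σ f) (g : Matrix ι ι F) :
    gramMatrix (fun u v => f (g *ᵥ u) (g *ᵥ v)) = gᵀ * gramMatrix f * g.map σ := by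
  ext i j
  change f (g *ᵥ Pi.single i 1) (g *ᵥ Pi.single j 1) = _
  rw [semiForm_apply σ h, Matrix.mul_assoc, Matrix.mul_apply', Matrix.mulVec_single_one, Matrix.mulVec_single_one]
  rfl

/-- A nondegenerate semilinear form fixed by an absolutely irreducible group is preserved up to a scalar by
everything normalising the group. -/
theorem mem_similarityGroup_of_normalizes (σ : F ≃+* F) {f : (ι → F) → (ι → F) → F} (h : IsSemiForm σ f)
    (hn : IsNondegenerateForm f) {N : Subgroup (GL ι F)} (hN : ActsAbsolutelyIrreducibly (matrixSet N))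
    (hfix : FixesForm (matrixSet N) f) {g : GL ι F} (hg : ∀ x ∈ N, g * x * g⁻¹ ∈ N) :
    g ∈ similarityGroup f := by
  set f' : (ι → F) → (ι → F) → F := fun u v => f ((g : Matrix ι ι F) *ᵥ u) ((g : Matrix ι ι F) *ᵥ v) with hf'
  have h' : IsSemiForm σ f' := h.comp_mulVec _
  set A := gramMatrix f with hA
  set A' := gramMatrix f' with hA'
  have hA'eq : A' = (g : Matrix ι ι F)ᵀ * A * (g : Matrix ι ι F).map σ := gram_comp σ h _
  have hfix1 : ∀ x ∈ N, (x : Matrix ι ι F)ᵀ * A * (x : Matrix ι ι F).map σ = A := fun x hx => by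
    rw [hA, ← gram_comp σ h]
    exact congrArg gramMatrix (funext fun u => funext fun v => hfix _ (coe_mem_matrixSet hx) u v)
  have hfix2 : ∀ x ∈ N, (x : Matrix ι ι F)ᵀ * A' * (x : Matrix ι ι F).map σ = A' := fun x hx => by
    rw [hA', ← gram_comp σ h']
    refine congrArg gramMatrix (funext fun u => funext fun v => ?_)
    have e := hfix _ (coe_mem_matrixSet (hg x hx)) ((g : Matrix ι ι F) *ᵥ u) ((g : Matrix ι ι F) *ᵥ v)
    rw [← gl_mul_mulVec, ← gl_mul_mulVec, inv_mul_cancel_right, gl_mul_mulVec, gl_mul_mulVec] at e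
    exact e
  have hAu : IsUnit A := (Matrix.isUnit_iff_isUnit_det A).mpr (isUnit_iff_ne_zero.mpr (det_gram_ne_zero σ h hn))
  obtain ⟨u, hu⟩ := hAu
  set C := ((u⁻¹ : (Matrix ι ι F)ˣ) : Matrix ι ι F) * A' with hC
  have hAC : A * C = A' := by rw [hC, ← Matrix.mul_assoc, ← hu, u.mul_inv, Matrix.one_mul]
  have hcomm : ∀ x ∈ N, C * (x : Matrix ι ι F).map σ = (x : Matrix ι ι F).map σ * C := by
    intro x hx
    have hT : IsUnit (x : Matrix ι ι F)ᵀ :=
      (Matrix.isUnit_iff_isUnit_det _).mpr (by rw [Matrix.det_transpose]; exact (Matrix.isUnit_iff_isUnit_det _).mp x.isUnit)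
    have e : (x : Matrix ι ι F)ᵀ * (A * (C * (x : Matrix ι ι F).map σ)) =
        (x : Matrix ι ι F)ᵀ * (A * ((x : Matrix ι ι F).map σ * C)) := by
      calc (x : Matrix ι ι F)ᵀ * (A * (C * (x : Matrix ι ι F).map σ))
          = (x : Matrix ι ι F)ᵀ * (A * C) * (x : Matrix ι ι F).map σ := by simp only [Matrix.mul_assoc]
        _ = (x : Matrix ι ι F)ᵀ * A * (x : Matrix ι ι F).map σ * C := by rw [hfix1 x hx, hAC, hfix2 x hx]
        _ = _ := by simp only [Matrix.mul_assoc]
    exact (hu ▸ u.isUnit : IsUnit A).mul_left_cancel (hT.mul_left_cancel e)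
  obtain ⟨c, hc⟩ := hN.2 (C.map σ.symm) (by
    rintro _ ⟨x, hx, rfl⟩
    have e := congrArg (fun m : Matrix ι ι F => σ.symm.mapMatrix m) (hcomm x hx)
    have e' : ((x : Matrix ι ι F).map σ).map σ.symm = (x : Matrix ι ι F) := by
      ext i j; simp
    simp only [map_mul, RingEquiv.mapMatrix_apply, e'] at e
    exact e)
  have hA'c : A' = σ c • A := by
    have hC' : C = σ c • (1 : Matrix ι ι F) := by
      ext i j
      have e := congrArg (fun m : Matrix ι ι F => σ (m i j)) hc
      simpa [Matrix.map_apply, Matrix.one_apply, apply_ite σ] using e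
    rw [← hAC, hC', Matrix.mul_smul, Matrix.mul_one]
  rcases isEmpty_or_nonempty ι with hι | hι
  · exact ⟨1, fun u v => by simp [semiForm_apply σ h]⟩
  have hc0 : σ c ≠ 0 := by
    intro e
    have h0 : A' = 0 := by rw [hA'c, e, zero_smul]
    obtain ⟨i⟩ := hι
    have hs : (Pi.single i (1 : F) : ι → F) ≠ 0 := by simp
    obtain ⟨x, hx⟩ := (hn ((g : Matrix ι ι F) *ᵥ Pi.single i 1)
      (fun e => hs (gl_mulVec_injective g (by simpa using e)))).1
    apply hx
    have := semiForm_eq_zero_iff σ h' h0 (((g⁻¹ : GL ι F) : Matrix ι ι F) *ᵥ x) (Pi.single i 1)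
    simpa only [hf', gl_mulVec_inv_cancel] using this
  refine ⟨Units.mk0 (σ c) hc0, fun u v => ?_⟩
  change f' u v = _
  rw [semiForm_apply σ h', semiForm_apply σ h, ← hA', hA'c, Matrix.smul_mulVec, dotProduct_smul, smul_eq_mul, Units.val_mk0]

theorem quad_fixes_polar {S : Set (Matrix ι ι F)} {Q : (ι → F) → F} (h : FixesQuadForm S Q) :
    FixesForm S (QuadraticMap.polar Q) := by
  intro s hs u v
  simp [QuadraticMap.polar, ← Matrix.mulVec_add, h s hs]

theorem polar_self_eq {Q : (ι → F) → F} (h : IsNondegenerateQuadraticForm Q) (v : ι → F) :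
    QuadraticMap.polar Q v v = 2 * Q v := by
  have e : Q (v + v) = 4 * Q v := by
    rw [← two_smul F v, h.smul]; ring
  simp only [QuadraticMap.polar, e]; ring

theorem mem_quadSimilarityGroup_of_normalizes {Q : (ι → F) → F} (hQ : IsNondegenerateQuadraticForm Q)
    (h2 : (2 : F) ≠ 0) {N : Subgroup (GL ι F)} (hN : ActsAbsolutelyIrreducibly (matrixSet N))
    (hfix : FixesQuadForm (matrixSet N) Q) {g : GL ι F} (hg : ∀ x ∈ N, g * x * g⁻¹ ∈ N) :
    g ∈ quadSimilarityGroup Q := by
  obtain ⟨c, hc⟩ := mem_similarityGroup_of_normalizes (RingEquiv.refl F) (semiForm_of_bilinear hQ.polar_bilinear)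
    hQ.nondegenerate hN (quad_fixes_polar hfix) hg
  refine ⟨c, fun v => mul_left_cancel₀ h2 ?_⟩
  rw [← polar_self_eq hQ, hc, polar_self_eq hQ]; ring

/-- No nondegenerate alternating form in odd dimension. -/
theorem not_nondegenerate_alternating_of_odd (hodd : Odd (Fintype.card ι)) {f : (ι → F) → (ι → F) → F}
    (hb : IsBilinearForm f) (hskew : ∀ v w, f v w = - f w v) (halt : ∀ v, f v v = 0) :
    ¬ IsNondegenerateForm f := fun hn =>
  det_gram_ne_zero (RingEquiv.refl F) (semiForm_of_bilinear hb) hn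
    (det_eq_zero_of_alternating_of_odd hodd _ (fun i j => hskew _ _) (fun i => halt _))

theorem not_quadForm_of_char_two (hodd : Odd (Fintype.card ι)) (h2 : (2 : F) = 0) {Q : (ι → F) → F} :
    ¬ IsNondegenerateQuadraticForm Q := fun hQ => by
  refine not_nondegenerate_alternating_of_odd hodd hQ.polar_bilinear (fun v w => ?_) (fun v => ?_) hQ.nondegenerate
  · rw [QuadraticMap.polar_comm, eq_neg_iff_add_eq_zero, ← two_mul, h2, zero_mul]
  · rw [polar_self_eq hQ, h2, zero_mul]

end Cfsg.Agent.Classical
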