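/-
Subfields of finite fields, and groups normalising an absolutely irreducible group over a subfield.
-/
import Cfsg.Agent.Lib.Classical.LinBasic

set_option autoImplicit false

namespace Cfsg.Agent.Classical

open Matrix Cfsg.Geo

variable {ι : Type} [Fintype ι] [DecidableEq ι] {F : Type*} [Field F]

theorem card_pow_fixed [Fintype F] {p e b : ℕ} (hp : p.Prime) [CharP F p] (hcard : Fintype.card F = p ^ e)
    (hbe : b ∣ e) (hb : 0 < b) : Nat.card {x : F // x ^ (p ^ b) = x} = p ^ b := by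
  classical
  have hq : 1 < p ^ b := Nat.one_lt_pow hb.ne' hp.one_lt
  have hk : Nat.card (powMonoidHom (α := Fˣ) (p ^ b - 1)).ker = p ^ b - 1 := by
    rw [IsCyclic.card_powMonoidHom_ker, Nat.card_units, Nat.card_eq_fintype_card, hcard]
    obtain ⟨k, rfl⟩ := hbe
    exact Nat.gcd_eq_right (by rw [pow_mul]; exact Nat.sub_one_dvd_pow_sub_one _ _)
  let t : Option (powMonoidHom (α := Fˣ) (p ^ b - 1)).ker ≃ {x : F // x ^ (p ^ b) = x} :=
    Equiv.ofBijective
      (fun o => o.elim ⟨0, zero_pow (by omega)⟩ fun u => ⟨((u : Fˣ) : F), by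
        have h1 : ((u : Fˣ) : F) ^ (p ^ b - 1) = 1 := by
          have := u.2
          rw [MonoidHom.mem_ker, powMonoidHom_apply] at this
          simpa using congrArg Units.val this
        calc ((u : Fˣ) : F) ^ (p ^ b) = ((u : Fˣ) : F) ^ (p ^ b - 1 + 1) := by congr 1; omega
          _ = _ := by rw [pow_succ, h1, one_mul]⟩)
      ⟨by
        rintro (_ | u) (_ | v) h <;> simp only [Option.elim, Subtype.mk.injEq] at h
        · rfl
        · exact absurd h.symm (v : Fˣ).ne_zero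
        · exact absurd h (u : Fˣ).ne_zero
        · exact congrArg some (Subtype.ext (Units.ext h)),
      by
        rintro ⟨x, hx⟩
        by_cases h0 : x = 0
        · exact ⟨none, Subtype.ext h0.symm⟩
        · refine ⟨some ⟨Units.mk0 x h0, ?_⟩, rfl⟩
          rw [MonoidHom.mem_ker, powMonoidHom_apply]
          apply Units.ext
          rw [show p ^ b = p ^ b - 1 + 1 by omega, pow_succ] at hx
          simpa using mul_right_cancel₀ h0 (hx.trans (one_mul x).symm)⟩
  rw [← Nat.card_congr t, Finite.card_option, hk]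
  omega

theorem exists_subfield_pow [Fintype F] {p e b : ℕ} (hp : p.Prime) [CharP F p] (hcard : Fintype.card F = p ^ e)
    (hbe : b ∣ e) (hb : 0 < b) :
    ∃ F₀ : Subfield F, Nat.card F₀ = p ^ b ∧ ∀ x, x ∈ F₀ ↔ x ^ (p ^ b) = x := by
  haveI : ExpChar F p := ExpChar.prime hp
  refine ⟨(iterateFrobenius F p b).eqLocusField (RingHom.id F), ?_, fun x => ?_⟩
  · rw [← card_pow_fixed hp hcard hbe hb]
    exact Nat.card_congr (Equiv.subtypeEquivRight fun x => by
      rw [RingHom.mem_eqLocusField, iterateFrobenius_def, RingHom.id_apply])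
  · rw [RingHom.mem_eqLocusField, iterateFrobenius_def, RingHom.id_apply]

theorem subfield_card_eq [Fintype F] {p e : ℕ} (hp : p.Prime) [CharP F p] (hcard : Fintype.card F = p ^ e)
    (F₀ : Subfield F) :
    ∃ b, 0 < b ∧ b ∣ e ∧ Nat.card F₀ = p ^ b ∧ ∀ x, x ∈ F₀ ↔ x ^ (p ^ b) = x := by
  classical
  haveI : Fintype F₀ := Fintype.ofFinite _
  haveI : CharP F₀ p := RingHom.charP F₀.subtype Subtype.val_injective p
  obtain ⟨⟨b, hb⟩, _, hb'⟩ := FiniteField.card F₀ p
  simp only [PNat.mk_coe] at hb'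
  have hk := Module.card_eq_pow_finrank (K := F₀) (V := F)
  rw [hb', hcard, ← pow_mul] at hk
  have hbe : b ∣ e := ⟨_, Nat.pow_right_injective hp.two_le hk⟩
  refine ⟨b, hb, hbe, by rw [Nat.card_eq_fintype_card, hb'], ?_⟩
  obtain ⟨F₁, h1, h1'⟩ := exists_subfield_pow hp hcard hbe hb
  have hle : F₀ ≤ F₁ := fun x hx => (h1' x).mpr (by
    have := FiniteField.pow_card (⟨x, hx⟩ : F₀)
    rw [hb'] at this
    simpa using congrArg Subtype.val this)
  have heq : F₀ = F₁ := SetLike.coe_injective (Set.eq_of_subset_of_ncard_le hle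
    (le_of_eq (by
      rw [← Nat.card_coe_set_eq, ← Nat.card_coe_set_eq]
      change Nat.card F₁ = Nat.card F₀
      rw [h1, Nat.card_eq_fintype_card, hb'])) (Set.toFinite _))
  intro x
  rw [heq]
  exact h1' x

/-- A proper subfield lies in one of prime index. -/
theorem exists_prime_index_subfield [Fintype F] (F₀ : Subfield F) (h : F₀ ≠ ⊤) :
    ∃ (F₁ : Subfield F) (r : ℕ), r.Prime ∧ Fintype.card F = Nat.card F₁ ^ r ∧ F₀ ≤ F₁ ∧
      ∀ x : F, x ∈ F₁ ↔ x ^ Nat.card F₁ = x := by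
  obtain ⟨p, hchar⟩ := CharP.exists F
  obtain ⟨⟨e, he⟩, hp, hcard⟩ := FiniteField.card F p
  change Fintype.card F = p ^ e at hcard
  obtain ⟨b, hb, ⟨k, rfl⟩, -, hiff⟩ := subfield_card_eq hp hcard F₀
  have hk1 : k ≠ 1 := by
    rintro rfl
    apply h
    rw [eq_top_iff]
    intro x _
    rw [hiff]
    have := FiniteField.pow_card x
    rwa [hcard, mul_one] at this
  have hr := Nat.minFac_prime hk1
  obtain ⟨j, hj⟩ := Nat.minFac_dvd k
  have hj0 : 0 < j := Nat.pos_of_ne_zero fun h0 => by rw [h0, mul_zero] at hj; rw [hj, mul_zero] at he; omega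
  obtain ⟨F₁, h1, h1'⟩ := exists_subfield_pow hp hcard (b := b * j) ⟨k.minFac, (congrArg (b * ·) hj).trans (by ring)⟩
    (Nat.mul_pos hb hj0)
  refine ⟨F₁, k.minFac, hr, ?_, fun x hx => (h1' x).mpr ?_, fun x => by rw [h1, h1']⟩
  · rw [h1, hcard, ← pow_mul]
    congr 1
    exact (congrArg (b * ·) hj).trans (by ring)
  · rw [pow_mul]
    clear hj hj0 h1 h1'
    induction j with
    | zero => simp
    | succ j ih => rw [pow_succ, pow_mul, ih, (hiff x).mp hx]

theorem mem_subfieldSubgroup {F₀ : Subfield F} {P g : GL ι F} :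
    g ∈ subfieldSubgroup F₀ P ↔
      P⁻¹ * g * P ∈ (Matrix.GeneralLinearGroup.map (F₀.subtype : F₀ →+* F)).range ⊔ scalars ι F := by
  rw [subfieldSubgroup, Subgroup.mem_map]
  constructor
  · rintro ⟨x, hx, rfl⟩
    simpa [mul_assoc] using hx
  · intro h
    exact ⟨_, h, by simp [mul_assoc]⟩

theorem mem_range_map_subfield {F₀ : Subfield F} {g : GL ι F} (h : ∀ i j, (g : Matrix ι ι F) i j ∈ F₀) :
    g ∈ (Matrix.GeneralLinearGroup.map (F₀.subtype : F₀ →+* F)).range := by
  let m : Matrix ι ι F₀ := fun i j => ⟨_, h i j⟩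
  have hm : m.map (F₀.subtype : F₀ →+* F) = (g : Matrix ι ι F) := rfl
  have hd : m.det ≠ 0 := by
    intro e
    have := RingHom.map_det (F₀.subtype : F₀ →+* F) m
    rw [e, map_zero, RingHom.mapMatrix_apply, hm] at this
    exact ((Matrix.isUnit_iff_isUnit_det _).mp g.isUnit).ne_zero this.symm
  exact ⟨Matrix.GeneralLinearGroup.mkOfDetNeZero m hd, Units.ext rfl⟩

theorem range_map_subfield_entries {F₀ : Subfield F} {g : GL ι F}
    (h : g ∈ (Matrix.GeneralLinearGroup.map (F₀.subtype : F₀ →+* F)).range) :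
    ∀ i j, (g : Matrix ι ι F) i j ∈ F₀ := by
  obtain ⟨m, rfl⟩ := h
  exact fun i j => ((m : Matrix ι ι F₀) i j).2

/-- Whatever normalises an absolutely irreducible group realised over a subfield lies in its subfield group. -/
theorem mem_range_sup_scalars_of_normalizes [Fintype F] [Nonempty ι] {N : Subgroup (GL ι F)}
    (hN : ActsAbsolutelyIrreducibly (matrixSet N)) {F₁ : Subfield F} {B : GL ι F}
    (hB : ∀ x ∈ N, ∀ i j, ((B * x * B⁻¹ : GL ι F) : Matrix ι ι F) i j ∈ F₁) {g : GL ι F}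
    (hn' : ∀ x ∈ N, g * x * g⁻¹ ∈ N) :
    B * g * B⁻¹ ∈ (Matrix.GeneralLinearGroup.map (F₁.subtype : F₁ →+* F)).range ⊔ scalars ι F := by
  classical
  set g' := B * g * B⁻¹ with hg'
  obtain ⟨p, hchar⟩ := CharP.exists F
  obtain ⟨⟨e, he⟩, hp, hce⟩ := FiniteField.card F p
  obtain ⟨b, hb, hbe, hb1, hiff⟩ := subfield_card_eq hp hce F₁
  haveI : ExpChar F p := ExpChar.prime hp
  set τ := iterateFrobenius F p b with hτ
  have hτfix : ∀ y, τ y = y ↔ y ∈ F₁ := fun y => by rw [hiff, hτ, iterateFrobenius_def]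
  have hxN : ∀ x ∈ N, τ.mapMatrix (((B * x * B⁻¹ : GL ι F)) : Matrix ι ι F) = ((B * x * B⁻¹ : GL ι F) : Matrix ι ι F) := by
    intro x hx
    ext i j
    exact (hτfix _).mpr (hB x hx i j)
  set M := (((B⁻¹ * g'⁻¹ : GL ι F)) : Matrix ι ι F) * τ.mapMatrix (g' : Matrix ι ι F) * (B : Matrix ι ι F) with hM
  obtain ⟨c, hc⟩ := hN.2 M (by
    rintro _ ⟨x, hx, rfl⟩
    let y := B * (g * x * g⁻¹) * B⁻¹
    have e1 : τ.mapMatrix (g' : Matrix ι ι F) * ((B * x * B⁻¹ : GL ι F) : Matrix ι ι F) =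
        (y : Matrix ι ι F) * τ.mapMatrix (g' : Matrix ι ι F) := by
      conv_lhs => rw [← hxN x hx]
      conv_rhs => rw [← hxN _ (hn' x hx)]
      rw [← map_mul, ← map_mul, ← Units.val_mul, ← Units.val_mul]
      congr 2
      simp only [hg']; group
    have e2 := congrArg (fun m => ((B⁻¹ * g'⁻¹ : GL ι F) : Matrix ι ι F) * m * (B : Matrix ι ι F)) e1
    have e3 : ((B⁻¹ * g'⁻¹ : GL ι F) : Matrix ι ι F) * (y : Matrix ι ι F) =
        (x : Matrix ι ι F) * ((B⁻¹ * g'⁻¹ : GL ι F) : Matrix ι ι F) := by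
      rw [← Units.val_mul, ← Units.val_mul]; congr 1; simp only [hg', y]; group
    have e4 : ((B * x * B⁻¹ : GL ι F) : Matrix ι ι F) * (B : Matrix ι ι F) = (B : Matrix ι ι F) * (x : Matrix ι ι F) := by
      rw [← Units.val_mul, inv_mul_cancel_right, Units.val_mul]
    change M * (x : Matrix ι ι F) = (x : Matrix ι ι F) * M
    simp only [Matrix.mul_assoc] at e2
    rw [e4, ← Matrix.mul_assoc _ (y : Matrix ι ι F), e3] at e2
    simpa only [hM, Matrix.mul_assoc] using e2)
  have hτg : τ.mapMatrix (g' : Matrix ι ι F) = c • (g' : Matrix ι ι F) := by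
    have e := congrArg (fun m => ((g' * B : GL ι F) : Matrix ι ι F) * m * ((B⁻¹ : GL ι F) : Matrix ι ι F)) hc
    simp only [hM] at e
    rw [Matrix.mul_smul, Matrix.mul_one, Matrix.smul_mul, ← Units.val_mul, mul_inv_cancel_right,
      ← Matrix.mul_assoc, ← Matrix.mul_assoc, ← Units.val_mul, mul_assoc g', mul_inv_cancel_left, mul_inv_cancel,
      Units.val_one, Matrix.one_mul, Matrix.mul_assoc, ← Units.val_mul, mul_inv_cancel, Units.val_one, Matrix.mul_one] at e
    exact e
  obtain ⟨i, j, hij⟩ : ∃ i j, (g' : Matrix ι ι F) i j ≠ 0 := by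
    by_contra hcon
    push Not at hcon
    exact g'.ne_zero (Matrix.ext fun i j => by simpa using hcon i j)
  set a := (g' : Matrix ι ι F) i j with ha
  let s : GL ι F := Units.map (Matrix.scalar ι : F →+* Matrix ι ι F).toMonoidHom (Units.mk0 a hij)
  have hs : s ∈ scalars ι F := ⟨_, rfl⟩
  have hca : τ a = c * a := congrFun (congrFun hτg i) j
  have hmem : ∀ k l, ((s⁻¹ * g' : GL ι F) : Matrix ι ι F) k l ∈ F₁ := by
    intro k l
    rw [← hτfix]
    have : ((s⁻¹ * g' : GL ι F) : Matrix ι ι F) k l = a⁻¹ * (g' : Matrix ι ι F) k l := by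
      simp [s]
    rw [this, map_mul, map_inv₀, hca, show τ ((g' : Matrix ι ι F) k l) = c * (g' : Matrix ι ι F) k l from
      congrFun (congrFun hτg k) l]
    have hc0 : c ≠ 0 := fun e => hij (by
      have : τ a = 0 := by rw [hca, e, zero_mul]
      exact (map_eq_zero τ).mp this)
    field_simp
  rw [show g' = s * (s⁻¹ * g') by group]
  exact mul_mem (Subgroup.mem_sup_right hs) (Subgroup.mem_sup_left (mem_range_map_subfield hmem))

/-- Whatever normalises an absolutely irreducible group realised over a proper subfield lies in a subfield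
group for a subfield of prime index. -/
theorem le_subfieldSubgroup_of_normal [Fintype F] [Nonempty ι] {H N : Subgroup (GL ι F)}
    (hn : ∀ h ∈ H, ∀ x ∈ N, h * x * h⁻¹ ∈ N) (hN : ActsAbsolutelyIrreducibly (matrixSet N))
    {F₀ : Subfield F} (hF₀ : F₀ ≠ ⊤) (hreal : RealisableOver F₀ (matrixSet N)) :
    ∃ (F₁ : Subfield F) (r : ℕ) (P : GL ι F), r.Prime ∧ Fintype.card F = Nat.card F₁ ^ r ∧
      H ≤ subfieldSubgroup F₁ P := by
  classical
  obtain ⟨F₁, r, hr, hcard, hle, hiff⟩ := exists_prime_index_subfield F₀ hF₀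
  obtain ⟨B, hB⟩ := hreal
  refine ⟨F₁, r, B⁻¹, hr, hcard, fun g hg => mem_subfieldSubgroup.mpr ?_⟩
  rw [inv_inv]
  refine mem_range_sup_scalars_of_normalizes hN (fun x hx i j => hle ?_) (hn g hg)
  simpa using hB _ (coe_mem_matrixSet hx) i j

end Cfsg.Agent.Classical
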