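/-
The standard unitary form over a field with q² elements.
-/
import Cfsg.Agent.Lib.Classical.Forms
import Cfsg.Agent.Lib.Classical.Subfield

set_option autoImplicit false
set_option linter.style.haveILetI false

namespace Cfsg.Agent.Classical

open Matrix Cfsg.Geo

variable {n : ℕ} {F : Type*} [Field F] {q : ℕ}

/-- `σ` is the involutory automorphism `x ↦ x ^ q` of a field with `q ^ 2` elements. -/
structure IsUSigma [Fintype F] (q : ℕ) (σ : F ≃+* F) : Prop where
  card : Fintype.card F = q ^ 2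
  apply_eq : ∀ x, σ x = x ^ q
  involutive : ∀ x, σ (σ x) = x
  ne_refl : σ ≠ RingEquiv.refl F

theorem exists_usigma [Fintype F] (hF : Fintype.card F = q ^ 2) :
    ∃ (p e : ℕ) (σ : F ≃+* F), p.Prime ∧ CharP F p ∧ q = p ^ e ∧ 0 < e ∧ IsUSigma q σ := by
  obtain ⟨p, hchar⟩ := CharP.exists F
  obtain ⟨⟨m, hm⟩, hp, hc⟩ := FiniteField.card F p
  change Fintype.card F = p ^ m at hc
  obtain ⟨e, he, hq⟩ : ∃ e ≤ m, q = p ^ e := (Nat.dvd_prime_pow hp).mp (hc ▸ hF ▸ dvd_pow_self q two_ne_zero)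
  subst hq
  have hme : m = e * 2 := Nat.pow_right_injective hp.two_le (show p ^ m = p ^ (e * 2) by rw [pow_mul, ← hc, hF])
  have he0 : 0 < e := by omega
  haveI : ExpChar F p := ExpChar.prime hp
  refine ⟨p, e, iterateFrobeniusEquiv F p e, hp, hchar, rfl, he0, hF, fun x => iterateFrobeniusEquiv_def F p e x,
    fun x => ?_, fun h => ?_⟩
  · rw [iterateFrobeniusEquiv_def, iterateFrobeniusEquiv_def, ← pow_mul, ← sq, ← hF]
    exact FiniteField.pow_card x
  · have hc' := card_pow_fixed (b := e) hp hc ⟨2, hme⟩ he0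
    have hall : ∀ x : F, x ^ p ^ e = x := fun x => by
      rw [← iterateFrobeniusEquiv_def, h]; rfl
    rw [Nat.card_congr (Equiv.subtypeUnivEquiv hall), Nat.card_eq_fintype_card, hF] at hc'
    have : 1 < p ^ e := Nat.one_lt_pow he0.ne' hp.one_lt
    nlinarith [hc']

variable [Fintype F] {σ : F ≃+* F} (hσ : IsUSigma q σ)

include hσ

theorem IsUSigma.two_le : 2 ≤ q := by
  have h := hσ.card ▸ Fintype.one_lt_card (α := F)
  rcases q with _ | _ | q
  · simp at h
  · simp at h
  · omega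

theorem IsUSigma.exists_gen : ∃ g : Fˣ, (∀ u : Fˣ, ∃ a : ℕ, u = g ^ a) ∧ orderOf g = q ^ 2 - 1 := by
  obtain ⟨g, hg⟩ := IsCyclic.exists_generator (α := Fˣ)
  refine ⟨g, fun u => ?_, ?_⟩
  · obtain ⟨a, ha⟩ := Submonoid.mem_powers_iff _ _ |>.mp (mem_powers_iff_mem_zpowers.mpr (hg u))
    exact ⟨a, ha.symm⟩
  · rw [orderOf_eq_card_of_forall_mem_zpowers hg, Nat.card_units, Nat.card_eq_fintype_card, hσ.card]

/-- The norm to the fixed field is surjective. -/
theorem IsUSigma.norm_surjective {t : F} (ht0 : t ≠ 0) (ht : σ t = t) : ∃ x, x ≠ 0 ∧ x * σ x = t := by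
  have hq := hσ.two_le
  obtain ⟨g, hg, hord⟩ := hσ.exists_gen
  obtain ⟨a, ha⟩ := hg (Units.mk0 t ht0)
  have h1 : Units.mk0 t ht0 ^ (q - 1) = 1 := by
    ext
    rw [hσ.apply_eq] at ht
    rw [Units.val_pow_eq_pow_val, Units.val_mk0, Units.val_one]
    refine mul_right_cancel₀ ht0 ?_
    rw [one_mul, ← pow_succ, show q - 1 + 1 = q by omega, ht]
  rw [ha, ← pow_mul, ← orderOf_dvd_iff_pow_eq_one, hord] at h1
  have hfac : q ^ 2 - 1 = (q + 1) * (q - 1) := by
    obtain ⟨k, rfl⟩ : ∃ k, q = k + 1 := ⟨q - 1, by omega⟩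
    simp only [Nat.add_sub_cancel]
    have : (k + 1) ^ 2 = (k + 1 + 1) * k + 1 := by ring
    omega
  rw [hfac] at h1
  obtain ⟨b, hb⟩ := Nat.dvd_of_mul_dvd_mul_right (show 0 < q - 1 by omega) h1
  refine ⟨(g ^ b : Fˣ), Units.ne_zero _, ?_⟩
  rw [hσ.apply_eq, ← pow_succ', ← Units.val_pow_eq_pow_val, ← pow_mul, mul_comm, ← hb, ← ha, Units.val_mk0]

/-- An element of order `q + 1`: norm one, and in no proper subfield of order at most `q`. -/
theorem IsUSigma.exists_norm_one :
    ∃ ζ : F, ζ * σ ζ = 1 ∧ ζ ≠ 1 ∧ ζ ^ 2 ≠ 1 ∧ ∀ m, ζ ^ m = 1 → q + 1 ∣ m := by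
  have hq := hσ.two_le
  obtain ⟨g, hg, hord⟩ := hσ.exists_gen
  have hfac : q ^ 2 - 1 = (q - 1) * (q + 1) := by
    obtain ⟨k, rfl⟩ : ∃ k, q = k + 1 := ⟨q - 1, by omega⟩
    simp only [Nat.add_sub_cancel]
    have : (k + 1) ^ 2 = k * (k + 1 + 1) + 1 := by ring
    omega
  have hdiv : ∀ m, ((g ^ (q - 1) : Fˣ) : F) ^ m = 1 → q + 1 ∣ m := fun m hm => by
    rw [← Units.val_pow_eq_pow_val, Units.val_eq_one, ← pow_mul, ← orderOf_dvd_iff_pow_eq_one, hord, hfac] at hm
    exact Nat.dvd_of_mul_dvd_mul_left (show 0 < q - 1 by omega) hm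
  refine ⟨(g ^ (q - 1) : Fˣ), ?_, fun h => ?_, fun h => ?_, hdiv⟩
  · rw [hσ.apply_eq, ← pow_succ', ← Units.val_pow_eq_pow_val, Units.val_eq_one, ← pow_mul, ← hfac, ← hord, pow_orderOf_eq_one]
  · have := Nat.le_of_dvd one_pos (hdiv 1 (by rw [pow_one, h])); omega
  · have := Nat.le_of_dvd two_pos (hdiv 2 h); omega

theorem IsUSigma.exists_skew : ∃ c : F, c ≠ 0 ∧ c + σ c = 0 := by
  obtain ⟨z, hz⟩ : ∃ z, σ z ≠ z := by
    by_contra h
    push Not at h
    exact hσ.ne_refl (RingEquiv.ext h)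
  exact ⟨z - σ z, sub_ne_zero.mpr (Ne.symm hz), by rw [map_sub, hσ.involutive]; ring⟩

theorem IsUSigma.hermForm_eq (u v : Fin n → F) : hermForm n F q u v = ∑ i, u i * σ (v i) := by
  simp only [hermForm, hσ.apply_eq]

theorem IsUSigma.hermForm_single (i : Fin n) (a : F) (v : Fin n → F) :
    hermForm n F q (Pi.single i a) v = a * σ (v i) := by
  rw [hσ.hermForm_eq, Finset.sum_eq_single i (fun k _ hk => by simp [hk]) (by simp)]
  simp

theorem IsUSigma.isUnitaryForm : IsUnitaryForm σ (hermForm n F q) where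
  ne_refl := hσ.ne_refl
  involutive := hσ.involutive
  add_left x y v := by simp only [hσ.hermForm_eq, Pi.add_apply, add_mul, Finset.sum_add_distrib]
  smul_left c x v := by simp only [hσ.hermForm_eq, Pi.smul_apply, smul_eq_mul, mul_assoc, Finset.mul_sum]
  herm v w := by simp only [hσ.hermForm_eq, map_sum, map_mul, hσ.involutive, mul_comm]
  nondegenerate v hv := by
    obtain ⟨i, hi⟩ := Function.ne_iff.mp hv
    refine ⟨⟨Pi.single i 1, by rw [hσ.hermForm_single, one_mul]; simpa using hi⟩, Pi.single i 1, fun h => hi ?_⟩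
    rw [hσ.hermForm_eq, Finset.sum_eq_single i (fun k _ hk => by simp [hk]) (by simp)] at h
    simpa using h

omit hσ in
theorem mem_GU_iff {g : GL (Fin n) F} : g ∈ GU n F q ↔
    ∀ u v, hermForm n F q ((g : Matrix (Fin n) (Fin n) F) *ᵥ u) ((g : Matrix (Fin n) (Fin n) F) *ᵥ v) =
      hermForm n F q u v := Iff.rfl

omit hσ in
theorem GU_fixes {N : Subgroup (GL (Fin n) F)} (hN : N ≤ GU n F q) : FixesForm (matrixSet N) (hermForm n F q) := by
  rintro _ ⟨g, hg, rfl⟩ u v
  exact mem_GU_iff.mp (hN hg) u v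

/-- The orthogonal of a subspace for the standard unitary form. -/
def unitaryPerp (W : Submodule F (Fin n → F)) : Submodule F (Fin n → F) where
  carrier := {v | ∀ w ∈ W, hermForm n F q w v = 0}
  add_mem' {a b} ha hb w hw := by
    rw [(semiForm_of_unitary hσ.isUnitaryForm).add_right, ha w hw, hb w hw, add_zero]
  zero_mem' w _ := by simp [hσ.hermForm_eq]
  smul_mem' c a ha w hw := by
    rw [(semiForm_of_unitary hσ.isUnitaryForm).smul_right, ha w hw, mul_zero]

theorem IsUSigma.mem_perp {W : Submodule F (Fin n → F)} {v : Fin n → F} :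
    v ∈ unitaryPerp hσ W ↔ ∀ w ∈ W, hermForm n F q w v = 0 := Iff.rfl

theorem IsUSigma.finrank_perp (W : Submodule F (Fin n → F)) :
    Module.finrank F W + Module.finrank F (unitaryPerp hσ W) = n := by
  classical
  let e := dotProductEquiv F (Fin n)
  let A : Submodule F (Fin n → F) := W.dualAnnihilator.comap (e : (Fin n → F) →ₗ[F] Module.Dual F (Fin n → F))
  have hA : ∀ z, z ∈ A ↔ ∀ w ∈ W, z ⬝ᵥ w = 0 := fun z => by
    simp [A, e, Submodule.mem_dualAnnihilator, dotProductEquiv]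
  have hdim : Module.finrank F A = Module.finrank F W.dualAnnihilator := by
    exact (e.ofSubmodule' W.dualAnnihilator).finrank_eq
  have hcard : Nat.card A = Nat.card (unitaryPerp hσ W) := by
    refine Nat.card_congr (Equiv.subtypeEquiv
      ⟨fun z i => σ (z i), fun z i => σ (z i), fun z => funext fun i => hσ.involutive _, fun z => funext fun i => hσ.involutive _⟩
      fun z => ?_)
    rw [hA, hσ.mem_perp]
    refine forall₂_congr fun w _ => ?_
    rw [hσ.hermForm_eq, dotProduct]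
    simp only [Equiv.coe_fn_mk, hσ.involutive]
    simp [mul_comm]
  rw [Module.natCard_eq_pow_finrank (K := F) (V := A), Module.natCard_eq_pow_finrank (K := F) (V := unitaryPerp hσ W)] at hcard
  have := Nat.pow_right_injective (show 2 ≤ Nat.card F by rw [Nat.card_eq_fintype_card]; exact Fintype.one_lt_card) hcard
  rw [← this, hdim, Subspace.finrank_add_finrank_dualAnnihilator_eq, Module.finrank_fintype_fun_eq_card, Fintype.card_fin]

/-- Hilbert 90 for the general linear group, with trivial class. -/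
theorem IsUSigma.hilbert90 {C : Matrix (Fin n) (Fin n) F} (hC : C * C.map σ = 1) :
    ∃ B : GL (Fin n) F, C * (B : Matrix (Fin n) (Fin n) F).map σ = (B : Matrix (Fin n) (Fin n) F) := by
  classical
  let φ : (Fin n → F) → (Fin n → F) := fun v => C *ᵥ fun i => σ (v i)
  have hmap : ∀ (M : Matrix (Fin n) (Fin n) F) (v : Fin n → F), (fun i => σ ((M *ᵥ v) i)) = M.map σ *ᵥ fun i => σ (v i) :=
    fun M v => funext fun i => RingHom.map_mulVec (σ : F →+* F) M v i
  have hφ2 : ∀ v, φ (φ v) = v := fun v => by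
    simp only [φ]
    rw [hmap, Matrix.mulVec_mulVec, hC, Matrix.one_mulVec]
    exact funext fun i => hσ.involutive _
  have hφadd : ∀ u v, φ (u + v) = φ u + φ v := fun u v => by
    simp only [φ, Pi.add_apply, map_add, ← Matrix.mulVec_add]
    rfl
  have hφsmul : ∀ (a : F) v, φ (a • v) = σ a • φ v := fun a v => by
    simp only [φ, Pi.smul_apply, smul_eq_mul, map_mul, ← Matrix.mulVec_smul]
    rfl
  let S : Set (Fin n → F) := {v | φ v = v}
  have hspan : Submodule.span F S = ⊤ := by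
    obtain ⟨z, hz⟩ : ∃ z, σ z ≠ z := by
      by_contra h
      push Not at h
      exact hσ.ne_refl (RingEquiv.ext h)
    rw [eq_top_iff]
    intro v _
    have hmem : ∀ a : F, a • v + σ a • φ v ∈ Submodule.span F S := fun a => Submodule.subset_span (by
      change φ _ = _
      rw [hφadd, hφsmul, hφsmul, hσ.involutive, hφ2, add_comm])
    have h := Submodule.sub_mem _ (hmem z) (Submodule.smul_mem _ (σ z) (hmem 1))
    rw [map_one, one_smul, one_smul, smul_add, add_sub_add_comm, ← sub_smul, sub_self, add_zero] at h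
    simpa [smul_smul, inv_mul_cancel₀ (sub_ne_zero.mpr (Ne.symm hz))] using Submodule.smul_mem _ (z - σ z)⁻¹ h
  obtain ⟨b, hbS, hbspan, hbli⟩ := exists_linearIndependent F S
  haveI : Fintype b := Fintype.ofFinite _
  have hcard : Fintype.card b = n := by
    have h := finrank_span_eq_card hbli
    rw [Subtype.range_coe, hbspan, hspan, finrank_top, Module.finrank_fintype_fun_eq_card, Fintype.card_fin] at h
    exact h.symm
  let e : Fin n ≃ b := (Fintype.equivFinOfCardEq hcard).symm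
  let V : Matrix (Fin n) (Fin n) F := fun k i => (e i : Fin n → F) k
  have hV : IsUnit V := Matrix.linearIndependent_cols_iff_isUnit.mp (hbli.comp e e.injective)
  refine ⟨hV.unit, ?_⟩
  rw [IsUnit.unit_spec]
  ext k i
  have := congrFun (hbS (e i).2 : φ (e i : Fin n → F) = (e i : Fin n → F)) k
  rw [Matrix.mul_apply]
  exact this

end Cfsg.Agent.Classical
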