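/-
Descent along an involutory field automorphism for groups of matrices.
-/
import Cfsg.Agent.Lib.Classical.UnitaryForm

set_option autoImplicit false
set_option linter.style.haveILetI false

namespace Cfsg.Agent.Classical

open Matrix Cfsg.Geo

variable {ι : Type} [Fintype ι] [DecidableEq ι] {F : Type*} [Field F]

/-- An involutory automorphism of a finite field is the Frobenius map of its fixed field. -/
theorem exists_isUSigma_of_involutive [Fintype F] {σ : F ≃+* F} (hinv : ∀ x, σ (σ x) = x)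
    (hne : σ ≠ RingEquiv.refl F) : ∃ q, IsUSigma q σ := by
  classical
  let F₀ : Subfield F := (σ : F →+* F).eqLocusField (RingHom.id F)
  have hmem : ∀ x, x ∈ F₀ ↔ σ x = x := fun x => Iff.rfl
  obtain ⟨z, hz⟩ : ∃ z, σ z ≠ z := by
    by_contra h
    push Not at h
    exact hne (RingEquiv.ext h)
  have hzz : z - σ z ≠ 0 := sub_ne_zero.mpr (Ne.symm hz)
  have hdec : ∀ w, ∃ a b : F, σ a = a ∧ σ b = b ∧ w = a + b * z := by
    intro w
    set b := (w - σ w) / (z - σ z) with hbdef
    have hb : σ b = b := by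
      rw [hbdef, map_div₀, map_sub, map_sub, hinv, hinv, ← neg_sub w, ← neg_sub z, neg_div_neg_eq]
    refine ⟨w - b * z, b, ?_, hb, by ring⟩
    rw [map_sub, map_mul, hb]
    have e : b * (z - σ z) = w - σ w := div_mul_cancel₀ _ hzz
    linear_combination e
  have hbij : Function.Bijective fun ab : F₀ × F₀ => (ab.1 : F) + ab.2 * z := by
    refine ⟨fun x y h => ?_, fun w => ?_⟩
    · simp only at h
      have h' := congrArg σ h
      simp only [map_add, map_mul, (hmem _).mp x.1.2, (hmem _).mp x.2.2, (hmem _).mp y.1.2, (hmem _).mp y.2.2] at h'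
      have e2 : (x.2 : F) = y.2 := mul_right_cancel₀ hzz (by linear_combination h - h')
      have e1 : (x.1 : F) = y.1 := by rw [e2] at h; exact add_right_cancel h
      exact Prod.ext (Subtype.ext e1) (Subtype.ext e2)
    · obtain ⟨a, b, ha, hb, e⟩ := hdec w
      exact ⟨(⟨a, (hmem a).mpr ha⟩, ⟨b, (hmem b).mpr hb⟩), e.symm⟩
  haveI : Fintype F₀ := Fintype.ofFinite _
  have hcard : Fintype.card F = Fintype.card F₀ ^ 2 := by
    rw [← Fintype.card_of_bijective hbij, Fintype.card_prod, sq]
  obtain ⟨p, e, σ', -, -, -, -, hσ'⟩ := exists_usigma hcard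
  have hfix : ∀ x, σ x = x → σ' x = x := fun x hx => by
    rw [hσ'.apply_eq]
    simpa using congrArg Subtype.val (FiniteField.pow_card (⟨x, (hmem x).mpr hx⟩ : F₀))
  have hroot : σ' z = z ∨ σ' z = σ z := by
    have h1 := hfix (z + σ z) (by rw [map_add, hinv, add_comm])
    have h2 := hfix (z * σ z) (by rw [map_mul, hinv, mul_comm])
    rw [map_add] at h1
    rw [map_mul] at h2
    have h3 : (σ' z - z) * (σ' z - σ z) = 0 := by linear_combination (σ' z) * h1 - h2
    rcases mul_eq_zero.mp h3 with h | h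
    · exact Or.inl (sub_eq_zero.mp h)
    · exact Or.inr (sub_eq_zero.mp h)
  have hσz : σ' z = σ z := by
    refine hroot.resolve_left fun h => hσ'.ne_refl (RingEquiv.ext fun w => ?_)
    obtain ⟨a, b, ha, hb, rfl⟩ := hdec w
    rw [map_add, map_mul, hfix a ha, hfix b hb, h]
    rfl
  refine ⟨_, hcard, fun x => ?_, hinv, hne⟩
  rw [← hσ'.apply_eq]
  obtain ⟨a, b, ha, hb, rfl⟩ := hdec x
  rw [map_add, map_add, map_mul, map_mul, hfix a ha, hfix b hb, ha, hb, hσz]

/-- Hilbert 90 for the general linear group, with trivial class. -/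
theorem exists_descent {σ : F ≃+* F} (hinv : ∀ x, σ (σ x) = x) (hne : σ ≠ RingEquiv.refl F)
    {C : Matrix ι ι F} (hC : C * C.map σ = 1) :
    ∃ B : GL ι F, C * (B : Matrix ι ι F).map σ = (B : Matrix ι ι F) := by
  classical
  let φ : (ι → F) → (ι → F) := fun v => C *ᵥ fun i => σ (v i)
  have hmap : ∀ (M : Matrix ι ι F) (v : ι → F), (fun i => σ ((M *ᵥ v) i)) = M.map σ *ᵥ fun i => σ (v i) :=
    fun M v => funext fun i => RingHom.map_mulVec (σ : F →+* F) M v i
  have hφ2 : ∀ v, φ (φ v) = v := fun v => by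
    simp only [φ]
    rw [hmap, Matrix.mulVec_mulVec, hC, Matrix.one_mulVec]
    exact funext fun i => hinv _
  have hφadd : ∀ u v, φ (u + v) = φ u + φ v := fun u v => by
    simp only [φ, Pi.add_apply, map_add, ← Matrix.mulVec_add]
    rfl
  have hφsmul : ∀ (a : F) v, φ (a • v) = σ a • φ v := fun a v => by
    simp only [φ, Pi.smul_apply, smul_eq_mul, map_mul, ← Matrix.mulVec_smul]
    rfl
  let S : Set (ι → F) := {v | φ v = v}
  have hspan : Submodule.span F S = ⊤ := by
    obtain ⟨z, hz⟩ : ∃ z, σ z ≠ z := by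
      by_contra h
      push Not at h
      exact hne (RingEquiv.ext h)
    rw [eq_top_iff]
    intro v _
    have hmem : ∀ a : F, a • v + σ a • φ v ∈ Submodule.span F S := fun a => Submodule.subset_span (by
      change φ _ = _
      rw [hφadd, hφsmul, hφsmul, hinv, hφ2, add_comm])
    have h := Submodule.sub_mem _ (hmem z) (Submodule.smul_mem _ (σ z) (hmem 1))
    rw [map_one, one_smul, one_smul, smul_add, add_sub_add_comm, ← sub_smul, sub_self, add_zero] at h
    simpa [smul_smul, inv_mul_cancel₀ (sub_ne_zero.mpr (Ne.symm hz))] using Submodule.smul_mem _ (z - σ z)⁻¹ h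
  obtain ⟨b, hbS, hbspan, hbli⟩ := exists_linearIndependent F S
  haveI : Finite b := hbli.setFinite.to_subtype
  haveI : Fintype b := Fintype.ofFinite _
  have hcard : Fintype.card b = Fintype.card ι := by
    have h := finrank_span_eq_card hbli
    rw [Subtype.range_coe, hbspan, hspan, finrank_top, Module.finrank_fintype_fun_eq_card] at h
    exact h.symm
  let e : ι ≃ b := Fintype.equivOfCardEq hcard.symm
  let V : Matrix ι ι F := fun k i => (e i : ι → F) k
  have hV : IsUnit V := Matrix.linearIndependent_cols_iff_isUnit.mp (hbli.comp e e.injective)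
  refine ⟨hV.unit, ?_⟩
  rw [IsUnit.unit_spec]
  ext k i
  have := congrFun (hbS (e i).2 : φ (e i : ι → F) = (e i : ι → F)) k
  rw [Matrix.mul_apply]
  exact this

/-- An absolutely irreducible group isomorphic to its Galois conjugate by an invertible matrix is realised over the
fixed field. -/
theorem realisable_of_intertwiner [Fintype F] [Nonempty ι] {σ : F ≃+* F} (hinv : ∀ x, σ (σ x) = x)
    (hne : σ ≠ RingEquiv.refl F) {P : Subgroup (GL ι F)} (hP : ActsAbsolutelyIrreducibly (matrixSet P)) {C : GL ι F}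
    (hC : ∀ x ∈ P, (C : Matrix ι ι F) * (x : Matrix ι ι F).map σ = (x : Matrix ι ι F) * (C : Matrix ι ι F)) :
    ∃ F₀ : Subfield F, F₀ ≠ ⊤ ∧ RealisableOver F₀ (matrixSet P) := by
  classical
  obtain ⟨q, hσ⟩ := exists_isUSigma_of_involutive hinv hne
  set Cm := (C : Matrix ι ι F) with hCm
  have hσσ : ∀ M : Matrix ι ι F, (M.map σ).map σ = M := fun M => by ext i j; simp [hinv]
  obtain ⟨l, hl⟩ := hP.2 (Cm * Cm.map σ) (by
    rintro _ ⟨x, hx, rfl⟩
    have h := congrArg (fun m : Matrix ι ι F => m.map σ) (hC x hx)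
    simp only [Matrix.map_mul, hσσ] at h
    change Cm * Cm.map σ * (x : Matrix ι ι F) = _
    rw [Matrix.mul_assoc, h, ← Matrix.mul_assoc, hC x hx, Matrix.mul_assoc])
  have hu : IsUnit (Cm * Cm.map σ) := C.isUnit.mul (C.isUnit.map (RingHom.mapMatrix (σ : F →+* F)))
  have hl0 : l ≠ 0 := fun e => by
    rw [hl, e, zero_smul] at hu
    exact not_isUnit_zero hu
  have hlfix : σ l = l := by
    have e1 : Cm.map σ * Cm = σ l • (1 : Matrix ι ι F) := by
      have := congrArg (fun m : Matrix ι ι F => m.map σ) hl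
      simp only [Matrix.map_mul, hσσ] at this
      rw [this]
      ext i j
      simp [Matrix.one_apply, apply_ite σ]
    have e2 : Cm * Cm.map σ * Cm = Cm * (Cm.map σ * Cm) := Matrix.mul_assoc _ _ _
    rw [hl, e1, Matrix.smul_mul, Matrix.one_mul, Matrix.mul_smul, Matrix.mul_one] at e2
    exact (smul_left_injective F (C.ne_zero) e2).symm
  obtain ⟨s, hs0, hs⟩ := hσ.norm_surjective (t := l⁻¹) (inv_ne_zero hl0) (by rw [map_inv₀, hlfix])
  obtain ⟨B, hB⟩ := exists_descent hinv hne (C := s • Cm) (by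
    rw [show (s • Cm).map σ = σ s • Cm.map σ by ext a b; simp, Matrix.smul_mul, Matrix.mul_smul, smul_smul, hl, smul_smul,
      hs, inv_mul_cancel₀ hl0, one_smul])
  refine ⟨(σ : F →+* F).eqLocusField (RingHom.id F), fun h => hne (RingEquiv.ext fun z => ?_), B⁻¹, ?_⟩
  · have : z ∈ (σ : F →+* F).eqLocusField (RingHom.id F) := h ▸ Subfield.mem_top z
    exact this
  rintro _ ⟨x, hx, rfl⟩ i j
  rw [inv_inv]
  set X := (x : Matrix ι ι F)
  set Bm := (B : Matrix ι ι F) with hBm
  set Bi := ((B⁻¹ : GL ι F) : Matrix ι ι F)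
  have hBiB : Bi * Bm = 1 := B.inv_mul
  have hfixm : (Bi * X * Bm).map σ = Bi * X * Bm := by
    have h1 : Bi.map σ * Bm.map σ = 1 := by
      rw [← Matrix.map_mul, hBiB, Matrix.map_one σ (map_zero σ) (map_one σ)]
    have h2 : Bi.map σ = Bi * (s • Cm) := by
      calc Bi.map σ = Bi * Bm * Bi.map σ := by rw [hBiB, Matrix.one_mul]
        _ = Bi * (s • Cm) * (Bm.map σ * Bi.map σ) := by
            rw [show Bi * Bm = Bi * ((s • Cm) * Bm.map σ) by rw [hBm, hB]]
            simp only [Matrix.mul_assoc]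
        _ = Bi * (s • Cm) := by rw [_root_.mul_eq_one_comm.mp h1, Matrix.mul_one]
    have h3 : (s • Cm) * X.map σ = X * (s • Cm) := by rw [Matrix.smul_mul, hC x hx, Matrix.mul_smul]
    rw [Matrix.map_mul, Matrix.map_mul, h2, Matrix.mul_assoc Bi, h3, ← Matrix.mul_assoc Bi, Matrix.mul_assoc (Bi * X),
      hB]
  exact congrFun (congrFun hfixm i) j

end Cfsg.Agent.Classical
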