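import Mathlib
import Cfsg.Agent.Lib.Small.SL2.Sylow
import Cfsg.Agent.Lib.Small.SL2.ClassSize
import Cfsg.Agent.Lib.Small.SL2.Counting
import Cfsg.Agent.Lib.Small.SL2.Orders
import Cfsg.Agent.Lib.Solv.UniqueSub

/-!
# Subgroups of order four and Sylow `2`-subgroups of `SL₂(q)` and `PSL₂(q)`, `q` odd

An element of `SL₂(q)` gives an involution of `PSL₂(q)` iff its trace is zero; a four-group of
`PSL₂(q)` is the image of two anticommuting elements of trace zero.
-/

set_option autoImplicit false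
set_option linter.unusedSectionVars false

namespace Cfsg.Agent.Classical.SL2Four

open Matrix Cfsg.Agent.Small Cfsg.Agent.Small.SL2C

variable {F : Type*} [Field F] [Fintype F]

local notation "M2" => Matrix (Fin 2) (Fin 2) F
local notation "SL2" => Matrix.SpecialLinearGroup (Fin 2) F
local notation "P2" => Matrix.ProjectiveSpecialLinearGroup (Fin 2) F

theorem two_ne_zero_of_odd {q : ℕ} (hF : Fintype.card F = q) (hodd : Odd q) : (2 : F) ≠ 0 :=
  not_two_dvd_iff.mp (by rw [hF]; exact fun h => (Nat.not_even_iff_odd.mpr hodd) (even_iff_two_dvd.mpr h))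

/-- Anticommuting elements. -/
def Anti (A B : SL2) : Prop := A.1 * B.1 = -(B.1 * A.1)

theorem zero_ne_four (h2 : (2 : F) ≠ 0) : (0 : F) * 0 ≠ 4 := fun h =>
  mul_ne_zero h2 h2 (by linear_combination -h)

theorem trace_sq_ne_four (h2 : (2 : F) ≠ 0) {A : SL2} (hA : A.1.trace = 0) :
    A.1.trace * A.1.trace ≠ 4 := by rw [hA]; exact zero_ne_four h2

theorem not_isSc_of_trace_zero (h2 : (2 : F) ≠ 0) {A : SL2} (hA : A.1.trace = 0) : ¬ IsSc A.1 :=
  not_isSc_of_trace (trace_sq_ne_four h2 hA)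

theorem isConj_of_trace_zero (h2 : (2 : F) ≠ 0) {A B : SL2} (hA : A.1.trace = 0)
    (hB : B.1.trace = 0) : IsConj A B :=
  isConj_of_trace (not_isSc_of_trace_zero h2 hA) (not_isSc_of_trace_zero h2 hB) (by rw [hA, hB])
    (Or.inr (trace_sq_ne_four h2 hA))

theorem sq_of_trace_zero {A : SL2} (hA : A.1.trace = 0) : A.1 * A.1 = -1 := by
  rw [sq_eq, hA, zero_smul, zero_sub]

theorem inv_of_trace_zero {A : SL2} (hA : A.1.trace = 0) : A⁻¹.1 = -A.1 := by
  rw [inv_val, hA, zero_smul, zero_sub]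

theorem orderOf_of_trace_zero (h2 : (2 : F) ≠ 0) {A : SL2} (hA : A.1.trace = 0) : orderOf A = 4 := by
  have : Fact (Nat.Prime 2) := ⟨Nat.prime_two⟩
  refine orderOf_eq_prime_pow (p := 2) (n := 1) ?_ ?_
  · rw [pow_one, pow_two]
    intro h
    exact not_isSc_of_trace_zero h2 hA (by
      rcases sq_one_cases h2 h with e | e
      · exact ⟨1, by rw [e, one_smul]⟩
      · exact ⟨-1, by rw [e, neg_one_smul]⟩)
  · apply Subtype.ext
    rw [show (2 : ℕ) ^ (1 + 1) = 2 + 2 from rfl, pow_add, pow_two, val_mul', val_mul',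
      sq_of_trace_zero hA]
    simp

theorem pr_self_mul_eq_one_iff (h2 : (2 : F) ≠ 0) {X : SL2} :
    PSL2.pr X * PSL2.pr X = 1 ↔ IsSc X.1 ∨ X.1.trace = 0 := by
  rw [← map_mul, pr_eq_one_iff, val_mul', sq_eq]
  constructor
  · rintro ⟨c, hc⟩
    by_cases ht : X.1.trace = 0
    · exact Or.inr ht
    · refine Or.inl ⟨X.1.trace⁻¹ * (c + 1), ?_⟩
      rw [mul_smul, add_smul, ← hc, one_smul, sub_add_cancel, smul_smul, inv_mul_cancel₀ ht, one_smul]
  · rintro (⟨c, hc⟩ | ht)
    · exact ⟨X.1.trace * c - 1, by rw [sub_smul, mul_smul, ← hc, one_smul]⟩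
    · exact ⟨-1, by rw [ht, zero_smul, zero_sub, neg_one_smul]⟩

theorem orderOf_pr_eq_two_iff (h2 : (2 : F) ≠ 0) {X : SL2} :
    orderOf (PSL2.pr X) = 2 ↔ X.1.trace = 0 := by
  have : Fact (Nat.Prime 2) := ⟨Nat.prime_two⟩
  rw [orderOf_eq_prime_iff, pow_two, pr_self_mul_eq_one_iff h2, Ne, pr_eq_one_iff]
  exact ⟨fun h => h.1.resolve_left h.2, fun h => ⟨Or.inr h, not_isSc_of_trace_zero h2 h⟩⟩

/-- The trace-zero elements of the torus of a trace-zero element are `±` that element. -/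
theorem eq_or_inv_of_mem_tor (h2 : (2 : F) ≠ 0) {x y : SL2} (hx : x.1.trace = 0)
    (hy : y ∈ tor x) (hy0 : y.1.trace = 0) : y = x ∨ y = x⁻¹ := by
  obtain ⟨a, b, h, hd⟩ := exists_of_mem_tor (not_isSc_of_trace_zero h2 hx) hy
  have ha : a = 0 := by
    rw [h, comb_trace, hx, mul_zero, add_zero] at hy0
    exact (mul_eq_zero.mp hy0).resolve_left h2
  rw [ha, hx] at hd
  rw [ha] at h
  rcases mul_self_eq_one_iff.mp (show b * b = 1 by linear_combination hd) with e | e
  · exact Or.inl (Subtype.ext (by rw [h, e]; simp [comb]))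
  · exact Or.inr (Subtype.ext (by rw [h, e, inv_of_trace_zero hx]; simp [comb]))

theorem pr_inv_of_trace_zero {x : SL2} (hx : x.1.trace = 0) : PSL2.pr x⁻¹ = PSL2.pr x :=
  (PSL2.pr_eq_iff _ _).mpr ⟨-1, by ring, by rw [inv_of_trace_zero hx, neg_one_smul]⟩

theorem trace_of_anti (h2 : (2 : F) ≠ 0) {A B : SL2} (hA : A.1.trace = 0) (h : Anti A B) :
    B.1.trace = 0 := by
  have e : B.1 = A.1 * B.1 * A.1 := by
    rw [show A.1 * B.1 = -(B.1 * A.1) from h, Matrix.neg_mul, Matrix.mul_assoc, sq_of_trace_zero hA,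
      Matrix.mul_neg, Matrix.mul_one, neg_neg]
  have h1 := congrArg Matrix.trace e
  rw [Matrix.trace_mul_cycle, sq_of_trace_zero hA, Matrix.neg_mul, Matrix.one_mul,
    Matrix.trace_neg] at h1
  exact (mul_eq_zero.mp (show (2 : F) * B.1.trace = 0 by linear_combination h1)).resolve_left h2

theorem commute_ne_iff_anti (h2 : (2 : F) ≠ 0) {A B : SL2} (hA : A.1.trace = 0)
    (hB : B.1.trace = 0) :
    (Commute (PSL2.pr A) (PSL2.pr B) ∧ PSL2.pr A ≠ PSL2.pr B) ↔ Anti A B := by
  constructor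
  · rintro ⟨hc, hne⟩
    rw [Commute, SemiconjBy, ← map_mul, ← map_mul, PSL2.pr_eq_iff] at hc
    obtain ⟨ε, hε, h⟩ := hc
    rcases mul_self_eq_one_iff.mp hε with e | e
    · refine absurd ?_ hne
      rw [e, one_smul, val_mul', val_mul'] at h
      rcases eq_or_inv_of_mem_tor h2 hA (mem_tor.mpr h.symm) hB with rfl | rfl
      · rfl
      · rw [pr_inv_of_trace_zero hA]
    · rwa [e, neg_one_smul, val_mul', val_mul'] at h
  · intro h
    refine ⟨?_, fun he => ?_⟩
    · rw [Commute, SemiconjBy, ← map_mul, ← map_mul, PSL2.pr_eq_iff]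
      exact ⟨-1, by ring, by rw [neg_one_smul, val_mul', val_mul']; exact h⟩
    · obtain ⟨ε, hε, e⟩ := (PSL2.pr_eq_iff _ _).mp he
      rw [Anti, e, Matrix.smul_mul, Matrix.mul_smul, sq_of_trace_zero hB] at h
      have h00 := congrFun (congrFun h 0) 0
      simp at h00
      have : ε * 2 = 0 := by linear_combination -h00
      rcases mul_eq_zero.mp this with h0 | h0
      · rw [h0, mul_zero] at hε; exact zero_ne_one hε
      · exact h2 h0

/-- The anticommuters of `A` form a coset of its torus. -/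
theorem anti_iff {A j B : SL2} (hj : Anti A j) : Anti A B ↔ j⁻¹ * B ∈ tor A := by
  obtain ⟨t, rfl⟩ : ∃ t, B = j * t := ⟨j⁻¹ * B, by rw [mul_inv_cancel_left]⟩
  rw [inv_mul_cancel_left, mem_tor, Anti, val_mul', ← Matrix.mul_assoc,
    show A.1 * j.1 = -(j.1 * A.1) from hj, Matrix.neg_mul, neg_inj, Matrix.mul_assoc,
    Matrix.mul_assoc]
  constructor
  · intro h
    have h' : j * (A * t) = j * (t * A) := Subtype.ext (by simp only [val_mul']; exact h)
    exact congrArg (fun X : SL2 => X.1) (mul_left_cancel h').symm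
  · intro h; rw [h]

theorem exists_anti (h2 : (2 : F) ≠ 0) {A : SL2} (hA : A.1.trace = 0) : ∃ j : SL2, Anti A j := by
  obtain ⟨j, hj⟩ := exists_anticomm (not_isSc_of_trace_zero h2 hA) h2 hA
  exact ⟨j, show A.1 * j.1 = -(j.1 * A.1) by rw [hj, neg_neg]⟩

theorem card_anti (h2 : (2 : F) ≠ 0) {A : SL2} (hA : A.1.trace = 0) :
    Nat.card {B : SL2 // Anti A B} = sol (0 : F) 1 := by
  obtain ⟨j, hj⟩ := exists_anti h2 hA
  rw [← hA, ← card_centralizer A (not_isSc_of_trace_zero h2 hA)]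
  exact Nat.card_congr
    { toFun := fun B => ⟨j⁻¹ * B.1, (anti_iff hj).mp B.2⟩
      invFun := fun t => ⟨j * t.1, (anti_iff hj).mpr (by rw [inv_mul_cancel_left]; exact t.2)⟩
      left_inv := fun B => Subtype.ext (mul_inv_cancel_left _ _)
      right_inv := fun t => Subtype.ext (inv_mul_cancel_left _ _) }

theorem exists_trace_zero (h2 : (2 : F) ≠ 0) : ∃ A : SL2, A.1.trace = 0 :=
  ⟨ofTr 0, ofTr_trace 0⟩

theorem card_trace_zero (h2 : (2 : F) ≠ 0) :
    Nat.card {A : SL2 // A.1.trace = 0} * sol (0 : F) 1 = Nat.card SL2 := by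
  obtain ⟨A, hA⟩ := exists_trace_zero (F := F) h2
  have : Nat.card {B : SL2 // B.1.trace = 0} = Nat.card (ConjClasses.mk A).carrier := by
    refine Nat.card_congr (Equiv.subtypeEquivRight fun B => ?_)
    rw [ConjClasses.mem_carrier_iff_mk_eq, ConjClasses.mk_eq_mk_iff_isConj]
    exact ⟨fun h => isConj_of_trace_zero h2 h hA, fun h => by rw [trace_conj h]; exact hA⟩
  rw [this, carrier_card, ← hA, ← card_centralizer A (not_isSc_of_trace_zero h2 hA)]
  exact Subgroup.index_mul_card _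

theorem card_pairs (h2 : (2 : F) ≠ 0) :
    Nat.card {p : SL2 × SL2 // p.1.1.trace = 0 ∧ Anti p.1 p.2} = Nat.card SL2 := by
  classical
  rw [← card_trace_zero (F := F) h2]
  let e : {p : SL2 × SL2 // p.1.1.trace = 0 ∧ Anti p.1 p.2} ≃
      Σ A : {A : SL2 // A.1.trace = 0}, {B : SL2 // Anti A.1 B} :=
    { toFun := fun p => ⟨⟨p.1.1, p.2.1⟩, ⟨p.1.2, p.2.2⟩⟩
      invFun := fun s => ⟨(s.1.1, s.2.1), s.1.2, s.2.2⟩
      left_inv := fun p => rfl
      right_inv := fun s => rfl }
  rw [Nat.card_congr e, Nat.card_sigma, Finset.sum_congr rfl fun A _ => card_anti h2 A.2,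
    Finset.sum_const, Finset.card_univ, smul_eq_mul, Nat.card_eq_fintype_card]

/-! ### Four-groups of `PSL₂` -/

/-- A pair of distinct commuting involutions. -/
def IsPair {G : Type*} [Group G] (p : G × G) : Prop :=
  orderOf p.1 = 2 ∧ orderOf p.2 = 2 ∧ Commute p.1 p.2 ∧ p.1 ≠ p.2

theorem isPair_pr_iff (h2 : (2 : F) ≠ 0) (p : SL2 × SL2) :
    IsPair (PSL2.pr p.1, PSL2.pr p.2) ↔ p.1.1.trace = 0 ∧ Anti p.1 p.2 := by
  rw [IsPair]
  simp only [orderOf_pr_eq_two_iff h2]
  constructor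
  · rintro ⟨hA, hB, hc, hne⟩
    exact ⟨hA, (commute_ne_iff_anti h2 hA hB).mp ⟨hc, hne⟩⟩
  · rintro ⟨hA, h⟩
    have hB := trace_of_anti h2 hA h
    exact ⟨hA, hB, (commute_ne_iff_anti h2 hA hB).mpr h⟩

theorem card_preimage {G H : Type*} [Group G] [Group H] [Finite G] (f : G →* H)
    (hf : Function.Surjective f) (P : H → Prop) :
    Nat.card {g : G // P (f g)} = Nat.card {h : H // P h} * Nat.card f.ker := by
  classical
  have := Fintype.ofFinite G
  have : Finite H := Finite.of_surjective f hf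
  have := Fintype.ofFinite H
  let e : {g : G // P (f g)} ≃ Σ h : {h : H // P h}, {g : G // f g = h.1} :=
    { toFun := fun g => ⟨⟨f g.1, g.2⟩, ⟨g.1, rfl⟩⟩
      invFun := fun s => ⟨s.2.1, by rw [s.2.2]; exact s.1.2⟩
      left_inv := fun g => rfl
      right_inv := fun ⟨⟨h, hh⟩, ⟨g, hg⟩⟩ => by cases hg; rfl }
  have hfib : ∀ h : H, Nat.card {g : G // f g = h} = Nat.card f.ker := fun h => by
    obtain ⟨g₀, rfl⟩ := hf h
    exact Nat.card_congr
      { toFun := fun g => ⟨g₀⁻¹ * g.1, by simp [MonoidHom.mem_ker, g.2]⟩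
        invFun := fun k => ⟨g₀ * k.1, by simp [MonoidHom.mem_ker.mp k.2]⟩
        left_inv := fun g => Subtype.ext (mul_inv_cancel_left _ _)
        right_inv := fun k => Subtype.ext (inv_mul_cancel_left _ _) }
  rw [Nat.card_congr e, Nat.card_sigma, Finset.sum_congr rfl fun h _ => hfib h.1, Finset.sum_const,
    Finset.card_univ, smul_eq_mul, Nat.card_eq_fintype_card (α := {h : H // P h})]

theorem ker_pr : (PSL2.pr (F := F)).ker = Subgroup.center SL2 := QuotientGroup.ker_mk' _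

theorem card_SL_eq (h2 : (2 : F) ≠ 0) : Nat.card SL2 = Nat.card P2 * 2 := by
  have := card_preimage (PSL2.pr (F := F)) PSL2.pr_surjective (fun _ => True)
  rw [ker_pr, center_card_odd h2] at this
  rwa [Nat.card_congr (Equiv.subtypeUnivEquiv fun _ => trivial),
    Nat.card_congr (Equiv.subtypeUnivEquiv fun _ => trivial)] at this

theorem two_mul_card_pairs (h2 : (2 : F) ≠ 0) :
    2 * Nat.card {p : P2 × P2 // IsPair p} = Nat.card P2 := by
  have h := card_preimage ((PSL2.pr (F := F)).prodMap PSL2.pr)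
    (Function.Surjective.prodMap PSL2.pr_surjective PSL2.pr_surjective) IsPair
  have hk : Nat.card ((PSL2.pr (F := F)).prodMap (PSL2.pr (F := F))).ker = 4 := by
    rw [MonoidHom.ker_prodMap, Nat.card_congr (Subgroup.prodEquiv _ _).toEquiv, Nat.card_prod,
      ker_pr, center_card_odd h2]
  rw [hk] at h
  have h' : Nat.card {p : SL2 × SL2 // p.1.1.trace = 0 ∧ Anti p.1 p.2} =
      Nat.card {p : P2 × P2 // IsPair p} * 4 := by
    rw [← h]
    exact Nat.card_congr (Equiv.subtypeEquivRight fun p => (isPair_pr_iff h2 p).symm)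
  rw [card_pairs h2, card_SL_eq h2] at h'
  omega

section KleinPairs

variable {G : Type*} [Group G]

theorem sq_eq_one_of_klein {V : Subgroup G} [IsKleinFour V] {x : G} (hx : x ∈ V) : x * x = 1 := by
  have h := IsKleinFour.mul_self (⟨x, hx⟩ : V)
  exact congrArg Subtype.val h

theorem orderOf_of_klein {V : Subgroup G} [IsKleinFour V] {x : G} (hx : x ∈ V) (h1 : x ≠ 1) :
    orderOf x = 2 :=
  orderOf_eq_prime (by rw [pow_two, sq_eq_one_of_klein hx]) h1

theorem commute_of_klein {V : Subgroup G} [IsKleinFour V] {x y : G} (hx : x ∈ V) (hy : y ∈ V) :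
    Commute x y := by
  have h := sq_eq_one_of_klein (mul_mem hx hy)
  have ex := sq_eq_one_of_klein hx
  have ey := sq_eq_one_of_klein hy
  calc x * y = (x * y)⁻¹ := (inv_eq_of_mul_eq_one_right h).symm
    _ = y * x := by rw [_root_.mul_inv_rev, inv_eq_of_mul_eq_one_right ex, inv_eq_of_mul_eq_one_right ey]

theorem pair_facts {x y : G} (h : IsPair (x, y)) :
    x ≠ 1 ∧ y ≠ 1 ∧ x * y ≠ 1 ∧ x * y ≠ x ∧ x * y ≠ y ∧ x * x = 1 ∧ y * y = 1 ∧ x * y = y * x := by
  obtain ⟨hx, hy, hc, hne⟩ := h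
  have hx1 : x ≠ 1 := fun e => by rw [e, orderOf_one] at hx; omega
  have hy1 : y ≠ 1 := fun e => by rw [e, orderOf_one] at hy; omega
  have ex : x * x = 1 := by rw [← pow_two, ← hx]; exact pow_orderOf_eq_one x
  have ey : y * y = 1 := by rw [← pow_two, ← hy]; exact pow_orderOf_eq_one y
  exact ⟨hx1, hy1, fun e => hne (mul_right_cancel (e.trans ey.symm)),
    fun e => hy1 (mul_left_cancel (e.trans (mul_one x).symm)),
    fun e => hx1 (mul_right_cancel (e.trans (one_mul y).symm)), ex, ey, hc.eq⟩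

/-- The four-group of a pair. -/
def pairGroup {x y : G} (h : IsPair (x, y)) : Subgroup G where
  carrier := {1, x, y, x * y}
  one_mem' := by simp
  mul_mem' := by
    obtain ⟨-, -, -, -, -, ex, ey, hc⟩ := pair_facts h
    have e1 : x * (x * y) = y := by rw [← mul_assoc, ex, one_mul]
    have e2 : y * (x * y) = x := by rw [hc, ← mul_assoc, ey, one_mul]
    have e3 : x * y * y = x := by rw [mul_assoc, ey, mul_one]
    have e4 : x * y * x = y := by rw [mul_assoc, ← hc, e1]
    have e5 : x * y * (x * y) = 1 := by rw [← mul_assoc, e4, ey]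
    rintro a b (rfl | rfl | rfl | rfl) (rfl | rfl | rfl | rfl) <;>
      simp only [Set.mem_insert_iff, Set.mem_singleton_iff, one_mul, mul_one, ex, ey, e1, e2, e3, e4,
        e5, ← hc] <;> simp
  inv_mem' := by
    obtain ⟨-, -, -, -, -, ex, ey, hc⟩ := pair_facts h
    have ix := inv_eq_of_mul_eq_one_right ex
    have iy := inv_eq_of_mul_eq_one_right ey
    rintro a (rfl | rfl | rfl | rfl) <;> simp [ix, iy, hc]

theorem pairGroup_isKleinFour [Finite G] {x y : G} (h : IsPair (x, y)) :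
    IsKleinFour (pairGroup h) := by
  obtain ⟨hx1, hy1, h1, hxne, hyne, ex, ey, hc⟩ := pair_facts h
  have hcard : Nat.card (pairGroup h) = 4 := by
    show Nat.card ({1, x, y, x * y} : Set G) = 4
    rw [Nat.card_coe_set_eq, Set.ncard_insert_of_notMem (by simp [hx1.symm, hy1.symm, h1.symm]),
      Set.ncard_insert_of_notMem (by simp [show x ≠ y from h.2.2.2, hxne.symm]),
      Set.ncard_insert_of_notMem (by simp [hyne.symm]), Set.ncard_singleton]
  refine ⟨hcard, ?_⟩
  have hsq : ∀ a : pairGroup h, a ^ 2 = 1 := by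
    rintro ⟨a, ha⟩
    apply Subtype.ext
    rw [SubmonoidClass.coe_pow, Subgroup.coe_one, pow_two]
    rcases ha with rfl | rfl | rfl | rfl
    · exact mul_one _
    · exact ex
    · exact ey
    · exact (by rw [mul_assoc, ← mul_assoc y, ← hc, mul_assoc x, ey, mul_one, ex])
  refine (Nat.dvd_prime Nat.prime_two).mp (Monoid.exponent_dvd_of_forall_pow_eq_one hsq)
    |>.resolve_left fun h1' => ?_
  have : Subsingleton (pairGroup h) := Monoid.exp_eq_one_iff.mp h1'
  rw [Nat.card_of_subsingleton (1 : pairGroup h)] at hcard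
  omega

theorem eq_pairGroup {V : Subgroup G} [IsKleinFour V] [Finite G] {x y : G} (h : IsPair (x, y))
    (hx : x ∈ V) (hy : y ∈ V) : V = pairGroup h := by
  have := pairGroup_isKleinFour h
  refine (Subgroup.eq_of_le_of_card_ge ?_ (by simp)).symm
  rintro a (rfl | rfl | rfl | rfl)
  exacts [one_mem _, hx, hy, mul_mem hx hy]

theorem exists_pair [Finite G] (V : Subgroup G) [IsKleinFour V] :
    ∃ p : G × G, IsPair p ∧ p.1 ∈ V ∧ p.2 ∈ V := by
  classical
  obtain ⟨x, hx⟩ : ∃ x : V, x ≠ 1 := by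
    have : Nontrivial V := Finite.one_lt_card_iff_nontrivial.mp (by simp)
    exact exists_ne 1
  obtain ⟨y, hy⟩ : ∃ y : V, y ∉ ({1, x} : Finset V) := by
    have := Fintype.ofFinite V
    refine (Finset.exists_mem_notMem_of_card_lt_card (s := {1, x}) (t := Finset.univ) ?_).imp
      fun _ h => h.2
    rw [Finset.card_univ, ← Nat.card_eq_fintype_card, IsKleinFour.card_four]
    exact lt_of_le_of_lt Finset.card_le_two (by norm_num)
  simp only [Finset.mem_insert, Finset.mem_singleton, not_or] at hy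
  exact ⟨(x.1, y.1), ⟨orderOf_of_klein x.2 (by simpa using hx), orderOf_of_klein y.2 (by simpa using hy.1),
    commute_of_klein x.2 y.2, fun e => hy.2 (Subtype.ext e.symm)⟩, x.2, y.2⟩

theorem card_pairs_eq_six_mul [Finite G] :
    Nat.card {p : G × G // IsPair p} = 6 * Nat.card {V : Subgroup G // IsKleinFour V} := by
  classical
  have := Fintype.ofFinite G
  let e : {p : G × G // IsPair p} ≃
      Σ V : {V : Subgroup G // IsKleinFour V}, {p : V.1 × V.1 // p.1 ≠ 1 ∧ p.2 ≠ 1 ∧ p.1 ≠ p.2} :=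
    Equiv.symm <| Equiv.ofBijective (fun s =>
      have := s.1.2
      ⟨(s.2.1.1.1, s.2.1.2.1), orderOf_of_klein s.2.1.1.2 (by simpa using s.2.2.1),
        orderOf_of_klein s.2.1.2.2 (by simpa using s.2.2.2.1), commute_of_klein s.2.1.1.2 s.2.1.2.2,
        fun e => s.2.2.2.2 (Subtype.ext e)⟩) ⟨by
      rintro ⟨⟨V, hV⟩, ⟨⟨a, ha⟩, ⟨b, hb⟩⟩, ha1, hb1, hab⟩ ⟨⟨W, hW⟩, ⟨⟨c, hc⟩, ⟨d, hd⟩⟩, hc1, hd1, hcd⟩ he
      simp only [Subtype.mk.injEq, Prod.mk.injEq] at he
      obtain ⟨rfl, rfl⟩ := he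
      have hp : IsPair (a, b) := ⟨orderOf_of_klein ha (by simpa using ha1),
        orderOf_of_klein hb (by simpa using hb1), commute_of_klein ha hb, by simpa using hab⟩
      obtain rfl : V = W := (eq_pairGroup (V := V) hp ha hb).trans (eq_pairGroup (V := W) hp hc hd).symm
      rfl, by
      rintro ⟨⟨x, y⟩, h⟩
      obtain ⟨hx1, hy1, -, -, -, -, -, -⟩ := pair_facts h
      exact ⟨⟨⟨pairGroup h, pairGroup_isKleinFour h⟩,
        (⟨x, Or.inr (Or.inl rfl)⟩, ⟨y, Or.inr (Or.inr (Or.inl rfl))⟩),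
        by simpa [Subtype.ext_iff] using hx1, by simpa [Subtype.ext_iff] using hy1,
        fun e => h.2.2.2 (congrArg Subtype.val e)⟩, rfl⟩⟩
  have hfib : ∀ V : {V : Subgroup G // IsKleinFour V},
      Nat.card {p : V.1 × V.1 // p.1 ≠ 1 ∧ p.2 ≠ 1 ∧ p.1 ≠ p.2} = 6 := by
    intro V
    have := V.2
    rw [Nat.card_eq_fintype_card, Fintype.card_subtype]
    have hs : (Finset.univ.filter fun p : V.1 × V.1 => p.1 ≠ 1 ∧ p.2 ≠ 1 ∧ p.1 ≠ p.2) =
        (Finset.univ.erase (1 : V.1)).offDiag := by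
      ext p; simp
    rw [hs, Finset.offDiag_card, Finset.card_erase_of_mem (Finset.mem_univ _), Finset.card_univ,
      ← Nat.card_eq_fintype_card, IsKleinFour.card_four]
  rw [Nat.card_congr e, Nat.card_sigma, Finset.sum_congr rfl fun V _ => hfib V, Finset.sum_const,
    Finset.card_univ, smul_eq_mul, mul_comm, Nat.card_eq_fintype_card (α := {V : Subgroup G // IsKleinFour V})]

end KleinPairs

/-- Twelve times the number of four-groups is the order of `PSL₂(q)`. -/
theorem twelve_mul_card_klein (h2 : (2 : F) ≠ 0) :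
    12 * Nat.card {V : Subgroup P2 // IsKleinFour V} = Nat.card P2 := by
  rw [← two_mul_card_pairs h2, card_pairs_eq_six_mul]
  ring

end Cfsg.Agent.Classical.SL2Four
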