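import Cfsg.Agent.Lib.Classical.UnitaryCount

/-!
# Determinants and centres of the unitary groups
-/

set_option autoImplicit false
set_option linter.unusedSectionVars false
set_option linter.style.haveILetI false

namespace Cfsg.Agent.Classical.UCount

open Module Matrix

variable {F : Type*} [Field F] [Fintype F] {σ : F ≃+* F} {q : ℕ} (hσ : IsUSigma q σ) {n : ℕ}
include hσ

theorem gram_mul {g : GL (Fin n) F} (hg : g ∈ Cfsg.GU n F q) :
    g.1ᵀ * g.1.map σ = 1 := by
  ext i j
  have h := mem_GU_iff.mp hg (Pi.single i 1) (Pi.single j 1)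
  rw [hσ.hermForm_eq, hσ.hermForm_single, one_mul, Matrix.mulVec_single_one, Matrix.mulVec_single_one] at h
  rw [Matrix.mul_apply, Matrix.one_apply]
  simp only [Matrix.transpose_apply, Matrix.map_apply]
  refine h.trans ?_
  rw [Pi.single_apply]
  split_ifs <;> simp

theorem det_norm {g : GL (Fin n) F} (hg : g ∈ Cfsg.GU n F q) : g.1.det * σ g.1.det = 1 := by
  have h := congrArg Matrix.det (gram_mul hσ hg)
  rw [Matrix.det_mul, Matrix.det_transpose, Matrix.det_one] at h
  rwa [← RingEquiv.coe_toRingHom σ, ← RingHom.mapMatrix_apply, ← RingHom.map_det] at h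

theorem pow_eq_one_of_norm {u : Fˣ} (h : (u : F) * σ u = 1) : u ^ (q + 1) = 1 := by
  ext
  rw [Units.val_pow_eq_pow_val, Units.val_one, pow_succ', ← hσ.apply_eq, h]

theorem norm_of_pow_eq_one {u : Fˣ} (h : u ^ (q + 1) = 1) : (u : F) * σ u = 1 := by
  rw [hσ.apply_eq, ← pow_succ', ← Units.val_pow_eq_pow_val, h, Units.val_one]

/-- The determinant on the unitary group. -/
noncomputable def detU (n : ℕ) : ↥(Cfsg.GU n F q) →* ↥(powMonoidHom (q + 1) : Fˣ →* Fˣ).ker :=
  ((Matrix.GeneralLinearGroup.det : GL (Fin n) F →* Fˣ).comp (Cfsg.GU n F q).subtype).codRestrict _ fun g =>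
    MonoidHom.mem_ker.mpr (pow_eq_one_of_norm hσ (by
      simpa using det_norm hσ g.2))

theorem detU_val (g : ↥(Cfsg.GU n F q)) : (detU hσ n g : Fˣ) = Matrix.GeneralLinearGroup.det (g : GL (Fin n) F) := rfl

theorem exists_diag (d : Fin n → F) (hd : ∀ i, d i * σ (d i) = 1) :
    ∃ g : GL (Fin n) F, g ∈ Cfsg.GU n F q ∧ g.1 = Matrix.diagonal d := by
  have hu : IsUnit (Matrix.diagonal d) := by
    rw [Matrix.isUnit_iff_isUnit_det, Matrix.det_diagonal, isUnit_iff_ne_zero, Finset.prod_ne_zero_iff]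
    intro i _ h
    have := hd i
    rw [h, zero_mul] at this
    exact zero_ne_one this
  refine ⟨hu.unit, mem_GU_iff.mpr fun u v => ?_, rfl⟩
  rw [hσ.hermForm_eq, hσ.hermForm_eq]
  refine Finset.sum_congr rfl fun i _ => ?_
  rw [IsUnit.unit_spec, Matrix.mulVec_diagonal, Matrix.mulVec_diagonal, map_mul,
    mul_mul_mul_comm, hd, one_mul]

theorem detU_surjective (hn : 1 ≤ n) : Function.Surjective (detU hσ n) := by
  classical
  rintro ⟨u, hu⟩
  obtain ⟨g, hg, hgd⟩ := exists_diag hσ (n := n) (Function.update 1 ⟨0, by omega⟩ (u : F)) fun i => by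
    by_cases h : i = ⟨0, by omega⟩
    · subst h; simpa using norm_of_pow_eq_one hσ (MonoidHom.mem_ker.mp hu)
    · simp [Function.update_of_ne h]
  refine ⟨⟨g, hg⟩, Subtype.ext (Units.ext ?_)⟩
  rw [detU_val, Matrix.GeneralLinearGroup.val_det_apply, hgd, Matrix.det_diagonal]
  simp [Finset.prod_update_of_mem]

/-- The special unitary group inside the unitary group. -/
noncomputable def suEquiv (n : ℕ) : ↥(detU hσ n).ker ≃* ↥(Cfsg.SU n F q) where
  toFun g := ⟨⟨g.1.1.1, by
      have h := MonoidHom.mem_ker.mp g.2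
      exact congrArg (fun x : ↥(powMonoidHom (q + 1) : Fˣ →* Fˣ).ker => ((x : Fˣ) : F)) h⟩, g.1.2⟩
  invFun x := ⟨⟨Matrix.SpecialLinearGroup.toGL x.1, x.2⟩, MonoidHom.mem_ker.mpr (Subtype.ext (Units.ext (by
    rw [detU_val, Matrix.GeneralLinearGroup.val_det_apply]; exact x.1.2)))⟩
  left_inv g := Subtype.ext (Subtype.ext (Units.ext rfl))
  right_inv x := Subtype.ext (Subtype.ext rfl)
  map_mul' g h := Subtype.ext (Subtype.ext rfl)

theorem card_mu : Nat.card ↥(powMonoidHom (q + 1) : Fˣ →* Fˣ).ker = q + 1 := by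
  have hfac : q ^ 2 - 1 = (q + 1) * (q - 1) := by rw [← Nat.sq_sub_sq, one_pow]
  exact card_pow_units hσ (d := q + 1) (hfac ▸ dvd_mul_right _ _)

theorem card_SU (hn : 1 ≤ n) : (q + 1) * Nat.card (Cfsg.SU n F q) = Nat.card (Cfsg.GU n F q) := by
  rw [← Nat.card_congr (suEquiv hσ n).toEquiv, ← Subgroup.card_mul_index (detU hσ n).ker,
    Subgroup.index_ker, MonoidHom.range_eq_top.mpr (detU_surjective hσ hn), Subgroup.card_top,
    card_mu hσ, mul_comm]

theorem exists_SU_diag (i j : Fin n) (hij : i ≠ j) {a : F} (ha : a * σ a = 1) :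
    ∃ x : ↥(Cfsg.SU n F q), x.1.1 = Matrix.diagonal (Function.update (Function.update 1 i a) j (σ a)) := by
  classical
  obtain ⟨g, hg, hgd⟩ := exists_diag hσ (n := n) (Function.update (Function.update 1 i a) j (σ a)) fun k => by
    by_cases hkj : k = j
    · subst hkj; rw [Function.update_self, hσ.involutive, mul_comm]; exact ha
    · rw [Function.update_of_ne hkj]
      by_cases hki : k = i
      · subst hki; rw [Function.update_self]; exact ha
      · rw [Function.update_of_ne hki]; simp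
  have hdet : g.1.det = 1 := by
    rw [hgd, Matrix.det_diagonal, Finset.prod_update_of_mem (Finset.mem_univ j),
      Finset.prod_update_of_mem (by simp [hij]), ← ha]
    simp [ha, mul_comm]
  exact ⟨⟨⟨g.1, hdet⟩, hg⟩, hgd⟩

theorem exists_SU_rot (i j : Fin n) (hij : i ≠ j) :
    ∃ x : ↥(Cfsg.SU n F q), ∀ u, x.1.1 *ᵥ u =
      fun k => if k = i then u j else if k = j then -u i else u k := by
  classical
  obtain ⟨M, hM⟩ : ∃ M, M = ((Equiv.swap i j).permMatrix F) *
      Matrix.diagonal (Function.update (1 : Fin n → F) i (-1)) := ⟨_, rfl⟩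
  have hMv : ∀ u, M *ᵥ u = fun k => if k = i then u j else if k = j then -u i else u k := by
    intro u
    funext k
    rw [hM, ← Matrix.mulVec_mulVec, Matrix.permMatrix_mulVec, Function.comp_apply, Matrix.mulVec_diagonal]
    by_cases hki : k = i
    · subst hki; simp [Function.update_of_ne (Ne.symm hij)]
    · by_cases hkj : k = j
      · subst hkj; simp [hki]
      · rw [Equiv.swap_apply_of_ne_of_ne hki hkj, Function.update_of_ne hki]; simp [hki, hkj]
  have hdet : M.det = 1 := by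
    rw [hM, Matrix.det_mul, Matrix.det_permutation, Matrix.det_diagonal, Equiv.Perm.sign_swap hij,
      Finset.prod_update_of_mem (Finset.mem_univ i)]
    simp
  refine ⟨⟨⟨M, hdet⟩, fun u v => ?_⟩, hMv⟩
  show Cfsg.hermForm n F q (M *ᵥ u) (M *ᵥ v) = _
  rw [hσ.hermForm_eq, hσ.hermForm_eq, hMv, hMv]
  rw [← Equiv.sum_comp (Equiv.swap i j)]
  refine Finset.sum_congr rfl fun k _ => ?_
  by_cases hki : k = i
  · subst hki; simp [Ne.symm hij, map_neg]
  · by_cases hkj : k = j
    · subst hkj; simp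
    · rw [Equiv.swap_apply_of_ne_of_ne hki hkj]; simp [hki, hkj]

theorem exists_gen_norm_one : ∃ a : F, a * σ a = 1 ∧ a ≠ 1 ∧ a ≠ σ a := by
  have hq := hσ.two_le
  obtain ⟨a, ha⟩ := IsCyclic.exists_generator (α := ↥(powMonoidHom (q + 1) : Fˣ →* Fˣ).ker)
  have hord : orderOf (a : Fˣ) = q + 1 := by
    rw [Subgroup.orderOf_coe, orderOf_eq_card_of_forall_mem_zpowers ha, card_mu hσ]
  have hn := norm_of_pow_eq_one hσ (MonoidHom.mem_ker.mp a.2)
  refine ⟨((a : Fˣ) : F), hn, fun h => ?_, fun h => ?_⟩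
  · rw [Units.val_eq_one.mp h, orderOf_one] at hord; omega
  · rw [← h, ← pow_two, ← Units.val_pow_eq_pow_val] at hn
    have := orderOf_dvd_of_pow_eq_one (Units.val_eq_one.mp hn)
    rw [hord] at this
    have := Nat.le_of_dvd two_pos this
    omega

/-- A matrix commuting with `SU_n` is scalar. -/
theorem scalar_of_commute (hn : 2 ≤ n) {M : Matrix (Fin n) (Fin n) F}
    (h : ∀ x : ↥(Cfsg.SU n F q), x.1.1 * M = M * x.1.1) :
    ∃ c : F, M = c • (1 : Matrix (Fin n) (Fin n) F) := by
  classical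
  obtain ⟨a, ha, ha1, haσ⟩ := exists_gen_norm_one hσ
  have hoff : ∀ i j, i ≠ j → M i j = 0 := by
    intro i j hij
    obtain ⟨x, hx⟩ := exists_SU_diag hσ i j hij ha
    have e := congrFun (congrFun (h x) i) j
    rw [hx, Matrix.diagonal_mul, Matrix.mul_diagonal, Function.update_self,
      Function.update_of_ne hij, Function.update_self] at e
    exact (mul_eq_zero.mp (show (a - σ a) * M i j = 0 by linear_combination e)).resolve_left
      (sub_ne_zero.mpr haσ)
  have hdiag : ∀ i j, i ≠ j → M i i = M j j := by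
    intro i j hij
    obtain ⟨x, hx⟩ := exists_SU_rot hσ i j hij
    have e := congrArg (fun A : Matrix (Fin n) (Fin n) F => (A *ᵥ Pi.single j 1) i) (h x)
    simp only [← Matrix.mulVec_mulVec, hx, if_true] at e
    have e1 : (fun k => if k = i then (Pi.single j (1 : F) : Fin n → F) j else
        if k = j then -(Pi.single j (1 : F) : Fin n → F) i else (Pi.single j (1 : F) : Fin n → F) k) = Pi.single i 1 := by
      funext k
      by_cases hki : k = i
      · subst hki; simp
      · by_cases hkj : k = j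
        · subst hkj; simp [hki, Ne.symm hki, Pi.single_apply]
        · simp [hki, hkj, Pi.single_apply]
    rw [e1, Matrix.mulVec_single_one, Matrix.mulVec_single_one] at e
    simpa using e.symm
  refine ⟨M ⟨0, by omega⟩ ⟨0, by omega⟩, ?_⟩
  ext i j
  by_cases hij : i = j
  · subst hij
    rw [Matrix.smul_apply, Matrix.one_apply_eq, smul_eq_mul, mul_one]
    by_cases h0 : i = ⟨0, by omega⟩
    · rw [h0]
    · exact hdiag _ _ h0
  · rw [hoff _ _ hij, Matrix.smul_apply, Matrix.one_apply_ne hij, smul_zero]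

theorem scalar_norm (hn : 1 ≤ n) {g : GL (Fin n) F} (hg : g ∈ Cfsg.GU n F q) {c : F}
    (hc : g.1 = c • (1 : Matrix (Fin n) (Fin n) F)) : c * σ c = 1 := by
  have h := congrFun (congrFun (gram_mul hσ hg) ⟨0, by omega⟩) ⟨0, by omega⟩
  rw [hc] at h
  simpa [Matrix.mul_apply, Matrix.one_apply, eq_comm] using h

theorem card_center_SU (hn : 2 ≤ n) :
    Nat.card (Subgroup.center ↥(Cfsg.SU n F q)) = Nat.gcd n (q + 1) := by
  classical
  have hfac : q ^ 2 - 1 = (q + 1) * (q - 1) := by rw [← Nat.sq_sub_sq, one_pow]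
  have hd : Nat.gcd n (q + 1) ∣ q ^ 2 - 1 :=
    (Nat.gcd_dvd_right n (q + 1)).trans (hfac ▸ dvd_mul_right _ _)
  rw [← card_pow_units hσ hd]
  have hmk : ∀ u : {u : Fˣ // u ^ Nat.gcd n (q + 1) = 1}, ∃ x : ↥(Cfsg.SU n F q),
      x.1.1 = (u.1 : F) • (1 : Matrix (Fin n) (Fin n) F) := by
    intro u
    have hN := norm_of_pow_eq_one hσ (orderOf_dvd_iff_pow_eq_one.mp
      ((orderOf_dvd_of_pow_eq_one u.2).trans (Nat.gcd_dvd_right _ _)))
    obtain ⟨g, hg, hgd⟩ := exists_diag hσ (n := n) (fun _ => (u.1 : F)) fun _ => hN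
    have hdet : g.1.det = 1 := by
      rw [hgd, Matrix.det_diagonal, Finset.prod_const, Finset.card_univ, Fintype.card_fin,
        ← Units.val_pow_eq_pow_val, orderOf_dvd_iff_pow_eq_one.mp
          ((orderOf_dvd_of_pow_eq_one u.2).trans (Nat.gcd_dvd_left _ _)), Units.val_one]
    exact ⟨⟨⟨g.1, hdet⟩, hg⟩, by rw [Matrix.smul_one_eq_diagonal]; exact hgd⟩
  have hmem : ∀ u, (hmk u).choose ∈ Subgroup.center ↥(Cfsg.SU n F q) := by
    intro u
    rw [Subgroup.mem_center_iff]
    intro x
    apply Subtype.ext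
    apply Subtype.ext
    show x.1.1 * (hmk u).choose.1.1 = (hmk u).choose.1.1 * x.1.1
    rw [(hmk u).choose_spec]; simp
  refine (Nat.card_congr (Equiv.ofBijective (fun u => ⟨(hmk u).choose, hmem u⟩) ⟨?_, ?_⟩)).symm
  · intro u v e
    have := congrArg (fun z : Subgroup.center ↥(Cfsg.SU n F q) => z.1.1.1 ⟨0, by omega⟩ ⟨0, by omega⟩) e
    simp only [(hmk u).choose_spec, (hmk v).choose_spec] at this
    exact Subtype.ext (Units.ext (by simpa using this))
  · rintro ⟨z, hz⟩
    obtain ⟨c, hc⟩ := scalar_of_commute hσ hn (M := z.1.1) fun x =>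
      congrArg (fun y : ↥(Cfsg.SU n F q) => y.1.1) (Subgroup.mem_center_iff.mp hz x)
    have hc1 : c * σ c = 1 := scalar_norm hσ (g := Matrix.SpecialLinearGroup.toGL z.1) (by omega) z.2 hc
    have hcn : c ^ n = 1 := by
      have := z.1.2
      rw [hc, Matrix.det_smul, Matrix.det_one, mul_one, Fintype.card_fin] at this
      exact this
    have hc0 : c ≠ 0 := left_ne_zero_of_mul_eq_one hc1
    refine ⟨⟨Units.mk0 c hc0, pow_gcd_eq_one.mpr ⟨Units.ext (by simpa using hcn),
      pow_eq_one_of_norm hσ (by simpa using hc1)⟩⟩, ?_⟩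
    apply Subtype.ext
    apply Subtype.ext
    apply Subtype.ext
    rw [(hmk _).choose_spec, hc]
    rfl

end Cfsg.Agent.Classical.UCount
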