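/-
Irreducible and absolutely irreducible subgroups of GL(ι, F) over a finite field: Schur's lemma,
Clifford's theorem, and their consequences in prime dimension.
-/
import Cfsg.Agent.Lib.Classical.LinBasic

set_option autoImplicit false

namespace Cfsg.Agent.Classical

open Matrix Cfsg.Geo

variable {ι : Type} [Fintype ι] [DecidableEq ι] {F : Type*} [Field F]

/-- The algebra of matrices commuting with every member of `N`. -/
def commutant (N : Subgroup (GL ι F)) : Subalgebra F (Matrix ι ι F) :=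
  Subalgebra.centralizer F (matrixSet N)

theorem mem_commutant_iff {N : Subgroup (GL ι F)} {M : Matrix ι ι F} :
    M ∈ commutant N ↔ ∀ x ∈ N, (x : Matrix ι ι F) * M = M * (x : Matrix ι ι F) := by
  rw [commutant, Subalgebra.mem_centralizer_iff]
  exact ⟨fun h x hx => h _ (coe_mem_matrixSet hx), fun h _ ⟨x, hx, e⟩ => e ▸ h x hx⟩

theorem mem_scalars_of_absIrr {N : Subgroup (GL ι F)} (hN : ActsAbsolutelyIrreducibly (matrixSet N))
    {g : GL ι F} (h : ∀ x ∈ N, g * x = x * g) : g ∈ scalars ι F := by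
  obtain ⟨c, hc⟩ := hN.2 (g : Matrix ι ι F) (by
    rintro _ ⟨x, hx, rfl⟩
    simpa using congrArg (fun z : GL ι F => (z : Matrix ι ι F)) (h x hx))
  exact mem_scalars_of_eq hc

theorem actsIrreducibly_mono {N H : Subgroup (GL ι F)} (h : N ≤ H) (hN : ActsIrreducibly (matrixSet N)) :
    ActsIrreducibly (matrixSet H) :=
  fun W hW => hN W fun _ ⟨g, hg, e⟩ => e ▸ hW _ (coe_mem_matrixSet (h hg))

theorem mulVec_bijective_of_mem_commutant {N : Subgroup (GL ι F)} (hN : ActsIrreducibly (matrixSet N))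
    {M : Matrix ι ι F} (hM : M ∈ commutant N) (hM0 : M ≠ 0) : IsUnit M := by
  rw [← Matrix.mulVec_injective_iff_isUnit]
  have hker : LinearMap.ker (Matrix.toLin' M) = ⊥ := by
    refine (hN (LinearMap.ker (Matrix.toLin' M)) ?_).resolve_right ?_
    · rintro _ ⟨g, hg, rfl⟩
      rw [map_toLin'_le]
      intro w hw
      simp only [LinearMap.mem_ker, Matrix.toLin'_apply] at hw ⊢
      rw [Matrix.mulVec_mulVec, ← (mem_commutant_iff.mp hM g hg), ← Matrix.mulVec_mulVec, hw, Matrix.mulVec_zero]
    · intro htop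
      apply hM0
      apply Matrix.toLin'.injective
      rw [map_zero, ← LinearMap.ker_eq_top]
      exact htop
  intro u v huv
  exact LinearMap.ker_eq_bot.mp hker (by simpa using huv)

theorem commutant_inv {N : Subgroup (GL ι F)} (hN : ActsIrreducibly (matrixSet N))
    {M : Matrix ι ι F} (hM : M ∈ commutant N) (hM0 : M ≠ 0) : ∃ y ∈ commutant N, M * y = 1 := by
  obtain ⟨u, rfl⟩ := mulVec_bijective_of_mem_commutant hN hM hM0
  refine ⟨((u⁻¹ : (Matrix ι ι F)ˣ) : Matrix ι ι F), mem_commutant_iff.mpr fun x hx => ?_, u.mul_inv⟩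
  have h : Commute (x : Matrix ι ι F) (u : Matrix ι ι F) := mem_commutant_iff.mp hM x hx
  exact h.units_inv_right

theorem commutant_comm [Finite F] [Nonempty ι] {N : Subgroup (GL ι F)} (hN : ActsIrreducibly (matrixSet N)) :
    ∀ x ∈ commutant N, ∀ y ∈ commutant N, x * y = y * x := by
  haveI : Finite (commutant N) := Finite.of_injective _ Subtype.val_injective
  haveI : NoZeroDivisors (commutant N) := ⟨fun {a b} hab => by
    by_contra hne
    rw [not_or] at hne
    obtain ⟨u, hu⟩ := mulVec_bijective_of_mem_commutant hN a.2 (fun h => hne.1 (Subtype.ext h))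
    refine hne.2 (Subtype.ext ?_)
    have h : (a : Matrix ι ι F) * (b : Matrix ι ι F) = 0 := congrArg Subtype.val hab
    rw [← hu, Units.mul_right_eq_zero] at h
    exact h⟩
  haveI : IsDomain (commutant N) := NoZeroDivisors.to_isDomain _
  have hc := (Finite.isDomain_to_isField (commutant N)).mul_comm
  exact fun x hx y hy => congrArg Subtype.val (hc ⟨x, hx⟩ ⟨y, hy⟩)

theorem isFieldSubalgebra_commutant [Finite F] [Nonempty ι] {N : Subgroup (GL ι F)}
    (hN : ActsIrreducibly (matrixSet N)) :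
    IsFieldSubalgebra (Module.finrank F (commutant N)) (commutant N) :=
  ⟨commutant_comm hN, fun _ hx h0 => commutant_inv hN hx h0, rfl⟩

/-- A field subalgebra makes the vector space a vector space over it. -/
theorem fieldSubalgebra_finrank_dvd [Nonempty ι] {K : Subalgebra F (Matrix ι ι F)}
    {r : ℕ} (hK : IsFieldSubalgebra r K) : r ∣ Fintype.card ι := by
  haveI : Nontrivial K := ⟨⟨0, 1, fun h => zero_ne_one (congrArg Subtype.val h)⟩⟩
  letI : DivisionRing K := DivisionRing.ofIsUnitOrEqZero fun a => by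
    by_cases ha : a = 0
    · exact Or.inr ha
    · obtain ⟨y, hy, hay⟩ := hK.inv a a.2 (fun h => ha (Subtype.ext h))
      exact Or.inl ⟨⟨a, ⟨y, hy⟩, Subtype.ext hay, Subtype.ext ((hK.comm y hy a a.2).trans hay)⟩, rfl⟩
  let φ : K →+* Module.End F (ι → F) :=
    (Matrix.toLinAlgEquiv' (R := F) (n := ι)).toAlgHom.toRingHom.comp K.val.toRingHom
  letI : Module K (ι → F) := Module.compHom _ φ
  have hT : IsScalarTower F K (ι → F) := ⟨fun c k v => by
    change φ (c • k) v = c • φ k v
    simp [φ]⟩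
  have h := @Module.finrank_mul_finrank F K (ι → F) _ _ _ _ _ _ hT _ _ _ _
  rw [hK.finrank_eq, Module.finrank_fintype_fun_eq_card] at h
  exact Dvd.intro _ h

theorem finrank_one_commutant {N : Subgroup (GL ι F)} [Nonempty ι]
    (h : Module.finrank F (commutant N) = 1) :
    ∀ M : Matrix ι ι F, (∀ s ∈ matrixSet N, M * s = s * M) → ∃ c : F, M = c • (1 : Matrix ι ι F) := by
  intro M hM
  have hmem : M ∈ commutant N := mem_commutant_iff.mpr fun x hx => (hM _ (coe_mem_matrixSet hx)).symm
  have hb := Subalgebra.bot_eq_top_of_finrank_eq_one (F := F) (E := commutant N) h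
  have hm : (⟨M, hmem⟩ : commutant N) ∈ (⊥ : Subalgebra F (commutant N)) := hb ▸ Algebra.mem_top
  obtain ⟨c, hc⟩ := Algebra.mem_bot.mp hm
  exact ⟨c, by simpa [Algebra.algebraMap_eq_smul_one] using (congrArg Subtype.val hc).symm⟩

/-- In prime dimension an irreducible group is absolutely irreducible or has a commutant field of
that degree. -/
theorem absIrr_or_field [Finite F] (hp : (Fintype.card ι).Prime) {N : Subgroup (GL ι F)}
    (hN : ActsIrreducibly (matrixSet N)) :
    ActsAbsolutelyIrreducibly (matrixSet N) ∨ IsFieldSubalgebra (Fintype.card ι) (commutant N) := by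
  haveI : Nonempty ι := Fintype.card_pos_iff.mp hp.pos
  have hK := isFieldSubalgebra_commutant hN
  rcases hp.eq_one_or_self_of_dvd _ (fieldSubalgebra_finrank_dvd hK) with h | h
  · exact Or.inl ⟨hN, finrank_one_commutant h⟩
  · exact Or.inr ⟨hK.comm, hK.inv, h⟩

theorem normalizer_le_commutantNormalizer {H N : Subgroup (GL ι F)}
    (hn : ∀ h ∈ H, ∀ x ∈ N, h * x * h⁻¹ ∈ N) : H ≤ subalgebraNormalizer (commutant N) := by
  have key : ∀ g ∈ H, ∀ k : Matrix ι ι F, k ∈ commutant N →
      (g : Matrix ι ι F) * k * ((g⁻¹ : GL ι F) : Matrix ι ι F) ∈ commutant N := by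
    intro g hg k hk
    rw [mem_commutant_iff] at hk ⊢
    intro x hx
    have h1 := hk (g⁻¹ * x * g) (by simpa using hn g⁻¹ (inv_mem hg) x hx)
    have h2 := congrArg (fun z => (g : Matrix ι ι F) * z * ((g⁻¹ : GL ι F) : Matrix ι ι F)) h1
    simpa [Matrix.mul_assoc, ← Matrix.mul_assoc (g : Matrix ι ι F) ((g⁻¹ : GL ι F) : Matrix ι ι F)] using h2
  intro g hg k
  refine ⟨key g hg k, fun h => ?_⟩
  have := key g⁻¹ (inv_mem hg) _ h
  simpa [← Matrix.mul_assoc, Matrix.mul_assoc _ _ (g : Matrix ι ι F)] using this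

/-! ### Clifford -/

theorem exists_minimal_invariant [Nonempty ι] (N : Subgroup (GL ι F)) :
    ∃ W : Submodule F (ι → F), W ≠ ⊥ ∧ (∀ x ∈ N, ∀ w ∈ W, (x : Matrix ι ι F) *ᵥ w ∈ W) ∧
      ∀ W' : Submodule F (ι → F), W' ≤ W → (∀ x ∈ N, ∀ w ∈ W', (x : Matrix ι ι F) *ᵥ w ∈ W') →
        W' = ⊥ ∨ W' = W := by
  classical
  have h : ∃ d, ∃ W : Submodule F (ι → F), W ≠ ⊥ ∧ (∀ x ∈ N, ∀ w ∈ W, (x : Matrix ι ι F) *ᵥ w ∈ W) ∧
      Module.finrank F W = d :=
    ⟨_, ⊤, top_ne_bot, fun _ _ _ _ => Submodule.mem_top, rfl⟩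
  obtain ⟨W, hW0, hWi, hWd⟩ := Nat.find_spec h
  refine ⟨W, hW0, hWi, fun W' hle hW' => ?_⟩
  by_cases h0 : W' = ⊥
  · exact Or.inl h0
  refine Or.inr (Submodule.eq_of_le_of_finrank_le hle ?_)
  rw [hWd]
  exact Nat.find_min' h ⟨W', h0, hW', rfl⟩

/-- Clifford: the restriction of an irreducible group to a normal subgroup splits as a direct sum of
translates of a minimal invariant subspace. -/
theorem clifford_decomposition [Nonempty ι] {H N : Subgroup (GL ι F)}
    (hH : ActsIrreducibly (matrixSet H)) (hn : ∀ h ∈ H, ∀ x ∈ N, h * x * h⁻¹ ∈ N) :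
    ∃ (W : Submodule F (ι → F)) (t : ℕ) (h : Fin t → GL ι F), W ≠ ⊥ ∧
      (∀ x ∈ N, ∀ w ∈ W, (x : Matrix ι ι F) *ᵥ w ∈ W) ∧
      (∀ W' : Submodule F (ι → F), W' ≤ W → (∀ x ∈ N, ∀ w ∈ W', (x : Matrix ι ι F) *ᵥ w ∈ W') →
        W' = ⊥ ∨ W' = W) ∧
      (∀ i, h i ∈ H) ∧ iSupIndep (fun i => W.map (Matrix.toLin' (h i : Matrix ι ι F))) ∧
      (⨆ i, W.map (Matrix.toLin' (h i : Matrix ι ι F))) = ⊤ ∧
      Fintype.card ι = t * Module.finrank F W := by
  classical
  obtain ⟨W, hW0, hWi, hWm⟩ := exists_minimal_invariant N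
  let T : GL ι F → Submodule F (ι → F) := fun g => W.map (Matrix.toLin' (g : Matrix ι ι F))
  have hTinv : ∀ g ∈ H, ∀ x ∈ N, ∀ w ∈ T g, (x : Matrix ι ι F) *ᵥ w ∈ T g := by
    rintro g hg x hx _ ⟨w, hw, rfl⟩
    refine ⟨((g⁻¹ * x * g : GL ι F) : Matrix ι ι F) *ᵥ w,
      hWi _ (by simpa using hn g⁻¹ (inv_mem hg) x hx) w hw, ?_⟩
    simp only [Matrix.toLin'_apply, gl_mul_mulVec, gl_mulVec_inv_cancel]
  have hTmin : ∀ g ∈ H, ∀ U : Submodule F (ι → F), (∀ x ∈ N, ∀ w ∈ U, (x : Matrix ι ι F) *ᵥ w ∈ U) →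
      U ⊓ T g = ⊥ ∨ T g ≤ U := by
    intro g hg U hU
    let S := (U ⊓ T g).map (Matrix.toLin' ((g⁻¹ : GL ι F) : Matrix ι ι F))
    have hS : S ≤ W := by
      rintro _ ⟨_, ⟨_, ⟨w, hw, rfl⟩⟩, rfl⟩
      simpa only [SetLike.mem_coe, Matrix.toLin'_apply, gl_inv_mulVec_cancel] using hw
    have hSi : ∀ x ∈ N, ∀ w ∈ S, (x : Matrix ι ι F) *ᵥ w ∈ S := by
      rintro x hx _ ⟨v, hv, rfl⟩
      refine ⟨((g * x * g⁻¹ : GL ι F) : Matrix ι ι F) *ᵥ v,
        ⟨hU _ (hn g hg x hx) v hv.1, hTinv g hg _ (hn g hg x hx) v hv.2⟩, ?_⟩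
      simp only [Matrix.toLin'_apply, gl_mul_mulVec, gl_inv_mulVec_cancel]
    rcases hWm S hS hSi with h | h
    · left
      rw [← Submodule.finrank_eq_zero, ← finrank_map_gl g⁻¹, Submodule.finrank_eq_zero]
      exact h
    · right
      have : T g ≤ U ⊓ T g := by
        rintro _ ⟨w, hw, rfl⟩
        rw [SetLike.mem_coe, ← h] at hw
        obtain ⟨v, hv, rfl⟩ := hw
        simpa only [SetLike.mem_coe, Matrix.toLin'_apply, gl_mulVec_inv_cancel] using hv
      exact this.trans inf_le_left
  -- a maximal independent family of translates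
  let P : ℕ → Prop := fun k => ∃ h : Fin k → GL ι F, (∀ i, h i ∈ H) ∧ iSupIndep (fun i => T (h i))
  have hPb : ∀ k, P k → k * Module.finrank F W ≤ Fintype.card ι := by
    rintro k ⟨h, _, hi⟩
    have := (finrank_iSup_of_indep _ hi) ▸ Submodule.finrank_le (⨆ i, T (h i))
    simpa [T, finrank_map_gl] using this
  have hd : 0 < Module.finrank F W := Nat.pos_of_ne_zero fun h => hW0 (Submodule.finrank_eq_zero.mp h)
  have hex : ∀ k, P k → k ≤ Fintype.card ι := fun k hk =>
    le_trans (Nat.le_mul_of_pos_right k hd) (hPb k hk)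
  obtain ⟨t, ⟨h, hhH, hind⟩, hmax⟩ : ∃ t, P t ∧ ∀ k, P k → k ≤ t := by
    refine ⟨Nat.findGreatest P (Fintype.card ι), ?_, fun k hk => Nat.le_findGreatest (hex k hk) hk⟩
    exact Nat.findGreatest_spec (Nat.zero_le _) ⟨Fin.elim0, fun i => i.elim0, fun i => i.elim0⟩
  set U := ⨆ i, T (h i) with hU
  have hUi : ∀ x ∈ N, ∀ w ∈ U, (x : Matrix ι ι F) *ᵥ w ∈ U := by
    intro x hx
    rw [← map_toLin'_le, hU, Submodule.map_iSup]
    exact iSup_mono fun i => map_toLin'_le.mpr (hTinv _ (hhH i) x hx)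
  have hall : ∀ g ∈ H, T g ≤ U := by
    intro g hg
    refine (hTmin g hg U hUi).resolve_left fun hbot => ?_
    have hP : P (t + 1) := by
      refine ⟨Fin.cons g h, fun i => Fin.cases hg hhH i, ?_⟩
      intro i
      refine Fin.cases ?_ (fun i => ?_) i
      · refine (disjoint_iff.mpr (by rwa [inf_comm] at hbot)).mono_right ?_
        refine iSup_le fun j => iSup_le fun hj => ?_
        obtain ⟨j, rfl⟩ := Fin.exists_succ_eq.mpr hj
        exact le_iSup (fun i => T (h i)) j
      · have hrest : (⨆ (j : Fin (t + 1)) (_ : j ≠ i.succ), T (Fin.cons (α := fun _ => GL ι F) g h j)) ≤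
            T g ⊔ ⨆ (j : Fin t) (_ : j ≠ i), T (h j) := by
          refine iSup_le fun j => iSup_le fun hj => ?_
          revert hj
          refine Fin.cases (fun _ => le_sup_left) (fun j hj => ?_) j
          exact le_trans (le_iSup₂ (f := fun (j : Fin t) (_ : j ≠ i) => T (h j)) j (fun e => hj (by rw [e])))
            le_sup_right
        refine Disjoint.mono_right hrest ?_
        have hU' : T (h i) ⊔ (⨆ (j : Fin t) (_ : j ≠ i), T (h j)) ≤ U :=
          sup_le (le_iSup (fun i => T (h i)) i) (iSup₂_le fun j _ => le_iSup (fun i => T (h i)) j)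
        have hd' : Disjoint (T (h i) ⊔ ⨆ (j : Fin t) (_ : j ≠ i), T (h j)) (T g) :=
          (disjoint_iff.mpr hbot).mono_left hU'
        rw [sup_comm]
        simpa [Fin.cons_succ] using (hind i).disjoint_sup_right_of_disjoint_sup_left hd'
    exact absurd (hmax _ hP) (by omega)
  have htop : U = ⊤ := by
    refine (hH U ?_).resolve_left ?_
    · rintro _ ⟨g, hg, rfl⟩
      rw [hU, Submodule.map_iSup]
      refine iSup_le fun i => ?_
      refine le_trans ?_ (hall (g * h i) (mul_mem hg (hhH i)))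
      rw [← Submodule.map_comp, ← Matrix.toLin'_mul, ← Units.val_mul]
    · intro hb
      have h1 := hall 1 (one_mem H)
      rw [hb] at h1
      exact hW0 (by simpa [T] using h1)
  refine ⟨W, t, h, hW0, hWi, hWm, hhH, hind, htop, ?_⟩
  have h1 := finrank_iSup_of_indep _ hind
  rw [← hU, htop, finrank_top, Module.finrank_fintype_fun_eq_card] at h1
  simpa [T, finrank_map_gl] using h1

theorem vecs_of_dim_one [Nonempty ι] {N : Subgroup (GL ι F)} {W : Submodule F (ι → F)} {t : ℕ}
    {h : Fin t → GL ι F} (h1 : Module.finrank F W = 1)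
    (hinv : ∀ i, ∀ x ∈ N, ∀ w ∈ W.map (Matrix.toLin' (h i : Matrix ι ι F)),
      (x : Matrix ι ι F) *ᵥ w ∈ W.map (Matrix.toLin' (h i : Matrix ι ι F))) :
    ∃ (v : Fin t → (ι → F)) (χ : Fin t → GL ι F → F), (∀ i, v i ≠ 0) ∧
      (∀ i, W.map (Matrix.toLin' (h i : Matrix ι ι F)) = F ∙ v i) ∧
      (∀ i, ∀ x ∈ N, (x : Matrix ι ι F) *ᵥ v i = χ i x • v i) := by
  classical
  have hex : ∀ i, ∃ v : ι → F, v ≠ 0 ∧ W.map (Matrix.toLin' (h i : Matrix ι ι F)) = F ∙ v := by
    intro i
    have hf : Module.finrank F ↥(W.map (Matrix.toLin' (h i : Matrix ι ι F))) = 1 := by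
      rw [finrank_map_gl, h1]
    obtain ⟨v, hv, hv0⟩ := Submodule.exists_mem_ne_zero_of_ne_bot
      (fun hb => by rw [hb, finrank_bot] at hf; exact one_ne_zero hf.symm : W.map (Matrix.toLin' (h i : Matrix ι ι F)) ≠ ⊥)
    refine ⟨v, hv0, (Submodule.eq_of_le_of_finrank_eq ((Submodule.span_singleton_le_iff_mem _ _).mpr hv) ?_).symm⟩
    rw [finrank_span_singleton hv0, hf]
  choose v hv0 hv using hex
  have hc : ∀ i, ∀ x ∈ N, ∃ c : F, c • v i = (x : Matrix ι ι F) *ᵥ v i := fun i x hx =>
    Submodule.mem_span_singleton.mp (hv i ▸ hinv i x hx _ (hv i ▸ Submodule.mem_span_singleton_self _))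
  refine ⟨v, fun i x => if hx : x ∈ N then (hc i x hx).choose else 0, hv0, hv, fun i x hx => ?_⟩
  simp only [hx, dite_true]
  exact (hc i x hx).choose_spec.symm

/-- A non-abelian normal subgroup of an irreducible group of prime dimension is absolutely
irreducible. -/
theorem absIrr_of_nonabelian_normal [Finite F] (hp : (Fintype.card ι).Prime) {H N : Subgroup (GL ι F)}
    (hH : ActsIrreducibly (matrixSet H)) (hn : ∀ h ∈ H, ∀ x ∈ N, h * x * h⁻¹ ∈ N)
    (hab : ∃ x ∈ N, ∃ y ∈ N, x * y ≠ y * x) : ActsAbsolutelyIrreducibly (matrixSet N) := by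
  haveI : Nonempty ι := Fintype.card_pos_iff.mp hp.pos
  obtain ⟨W, t, h, hW0, hWi, hWm, hhH, hind, htop, hcard⟩ := clifford_decomposition hH hn
  obtain ⟨x, hx, y, hy, hxy⟩ := hab
  rcases hp.eq_one_or_self_of_dvd _ (Dvd.intro t ((mul_comm _ _).trans hcard.symm)) with hd | hd
  · exfalso
    have hinv : ∀ i, ∀ z ∈ N, ∀ w ∈ W.map (Matrix.toLin' (h i : Matrix ι ι F)),
        (z : Matrix ι ι F) *ᵥ w ∈ W.map (Matrix.toLin' (h i : Matrix ι ι F)) := by
      rintro i z hz _ ⟨w, hw, rfl⟩
      refine ⟨(((h i)⁻¹ * z * h i : GL ι F) : Matrix ι ι F) *ᵥ w,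
        hWi _ (by simpa using hn _ (inv_mem (hhH i)) z hz) w hw, ?_⟩
      simp only [Matrix.toLin'_apply, gl_mul_mulVec, gl_mulVec_inv_cancel]
    obtain ⟨v, χ, hv0, hv, hχ⟩ := vecs_of_dim_one hd hinv
    apply hxy
    refine gl_ext_mulVec fun u => ?_
    have hu : u ∈ ⨆ i, W.map (Matrix.toLin' (h i : Matrix ι ι F)) := htop ▸ Submodule.mem_top
    induction hu using Submodule.iSup_induction' with
    | mem i u hu =>
      rw [hv i] at hu
      obtain ⟨c, rfl⟩ := Submodule.mem_span_singleton.mp hu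
      simp only [Units.val_mul, ← Matrix.mulVec_mulVec, Matrix.mulVec_smul, hχ i x hx, hχ i y hy]
      module
    | zero => simp
    | add a b _ _ ha hb => rw [Matrix.mulVec_add, Matrix.mulVec_add, ha, hb]
  · have hW : W = ⊤ := Submodule.eq_top_of_finrank_eq (by rw [hd, Module.finrank_fintype_fun_eq_card])
    subst hW
    have hirr : ActsIrreducibly (matrixSet N) := fun W' hW' =>
      hWm W' le_top fun z hz w hw => map_toLin'_le.mp (hW' _ (coe_mem_matrixSet hz)) w hw
    refine (absIrr_or_field hp hirr).resolve_right fun hK => hxy ?_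
    -- the field of degree `card ι` is self-centralising
    have hKN : ∀ z ∈ N, (z : Matrix ι ι F) ∈ commutant N := by
      intro z hz
      obtain ⟨v, hv0⟩ := exists_ne (0 : ι → F)
      let ev : commutant N →ₗ[F] (ι → F) :=
        { toFun := fun k => (k : Matrix ι ι F) *ᵥ v
          map_add' := fun a b => Matrix.add_mulVec _ _ _
          map_smul' := fun c a => Matrix.smul_mulVec c (a : Matrix ι ι F) v }
      have hinj : Function.Injective ev := by
        rw [← LinearMap.ker_eq_bot, LinearMap.ker_eq_bot']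
        intro k hk
        by_contra hk0
        have hu := Matrix.mulVec_injective_iff_isUnit.mpr
          (mulVec_bijective_of_mem_commutant hirr k.2 (fun e => hk0 (Subtype.ext e)))
        exact hv0 (hu (show (k : Matrix ι ι F) *ᵥ v = (k : Matrix ι ι F) *ᵥ 0 by rw [Matrix.mulVec_zero]; exact hk))
      have hsurj : Function.Surjective ev := by
        refine (LinearMap.injective_iff_surjective_of_finrank_eq_finrank ?_).mp hinj
        rw [hK.finrank_eq, Module.finrank_fintype_fun_eq_card]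
      obtain ⟨k, hk⟩ := hsurj ((z : Matrix ι ι F) *ᵥ v)
      suffices hzk : (z : Matrix ι ι F) = k by rw [hzk]; exact k.2
      apply Matrix.toLin'.injective
      refine LinearMap.ext fun u => ?_
      obtain ⟨l, rfl⟩ := hsurj u
      have h1 : (z : Matrix ι ι F) * (l : Matrix ι ι F) = (l : Matrix ι ι F) * (z : Matrix ι ι F) :=
        mem_commutant_iff.mp l.2 z hz
      change (z : Matrix ι ι F) *ᵥ ((l : Matrix ι ι F) *ᵥ v) = (k : Matrix ι ι F) *ᵥ ((l : Matrix ι ι F) *ᵥ v)
      rw [Matrix.mulVec_mulVec, h1, ← Matrix.mulVec_mulVec, ← hk, Matrix.mulVec_mulVec,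
        hK.comm _ k.2 _ l.2]
      exact (Matrix.mulVec_mulVec v (l : Matrix ι ι F) (k : Matrix ι ι F))
    exact Units.ext (by simpa using mem_commutant_iff.mp (hKN y hy) x hx)

/-- Abelian normal subgroups of an irreducible group of prime dimension: scalar, monomial with the members of
the group acting on the lines through distinct characters, or with an extension field as commutant. -/
theorem abelian_normal_cases_strong [Finite F] (hp : (Fintype.card ι).Prime) {H A : Subgroup (GL ι F)}
    (hH : ActsIrreducibly (matrixSet H)) (hn : ∀ h ∈ H, ∀ x ∈ A, h * x * h⁻¹ ∈ A)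
    (hab : ∀ x ∈ A, ∀ y ∈ A, x * y = y * x) :
    A ≤ scalars ι F ∨
      (∃ D : Fin (Fintype.card ι) → Submodule F (ι → F), IsMDecomposition 1 D ∧ H ≤ decompositionStabilizer D ∧
        ∃ χ : Fin (Fintype.card ι) → GL ι F → F,
          (∀ i, ∀ x ∈ A, ∀ w ∈ D i, (x : Matrix ι ι F) *ᵥ w = χ i x • w) ∧
          ∀ i j, (∀ x ∈ A, χ i x = χ j x) → i = j) ∨
      (IsFieldSubalgebra (Fintype.card ι) (commutant A) ∧ H ≤ subalgebraNormalizer (commutant A)) := by
  classical
  haveI : Nonempty ι := Fintype.card_pos_iff.mp hp.pos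
  obtain ⟨W, t, h, hW0, hWi, hWm, hhH, hind, htop, hcard⟩ := clifford_decomposition hH hn
  rcases hp.eq_one_or_self_of_dvd _ (Dvd.intro t ((mul_comm _ _).trans hcard.symm)) with hd | hd
  swap
  · -- irreducible
    have hW : W = ⊤ := Submodule.eq_top_of_finrank_eq (by rw [hd, Module.finrank_fintype_fun_eq_card])
    subst hW
    have hirr : ActsIrreducibly (matrixSet A) := fun W' hW' =>
      hWm W' le_top fun z hz w hw => map_toLin'_le.mp (hW' _ (coe_mem_matrixSet hz)) w hw
    rcases absIrr_or_field hp hirr with ha | hK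
    · exact Or.inl fun x hx => mem_scalars_of_absIrr ha (hab x hx)
    · exact Or.inr (Or.inr ⟨hK, normalizer_le_commutantNormalizer hn⟩)
  have ht : t = Fintype.card ι := by rw [hcard, hd, mul_one]
  subst ht
  have hinv : ∀ i, ∀ z ∈ A, ∀ w ∈ W.map (Matrix.toLin' (h i : Matrix ι ι F)),
      (z : Matrix ι ι F) *ᵥ w ∈ W.map (Matrix.toLin' (h i : Matrix ι ι F)) := by
    rintro i z hz _ ⟨w, hw, rfl⟩
    refine ⟨(((h i)⁻¹ * z * h i : GL ι F) : Matrix ι ι F) *ᵥ w,
      hWi _ (by simpa using hn _ (inv_mem (hhH i)) z hz) w hw, ?_⟩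
    simp only [Matrix.toLin'_apply, gl_mul_mulVec, gl_mulVec_inv_cancel]
  obtain ⟨v, χ, hv0, hv, hχ⟩ := vecs_of_dim_one hd hinv
  let D : Fin (Fintype.card ι) → Submodule F (ι → F) := fun i => F ∙ v i
  have hind' : iSupIndep D := by simpa only [D, ← hv] using hind
  have htop' : iSup D = ⊤ := by simpa only [D, ← hv] using htop
  have hlin : LinearIndependent F v :=
    hind'.linearIndependent D (fun i => Submodule.mem_span_singleton_self _) hv0
  let b := basisOfLinearIndependentOfCardEqFinrank' v hlin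
    (by rw [Module.finrank_fintype_fun_eq_card, Fintype.card_fin])
  have hb : ∀ i, b i = v i := fun i => by simp [b]
  -- eigenspace of a character
  let cls : (GL ι F → F) → Finset (Fin (Fintype.card ι)) := fun c =>
    Finset.univ.filter fun i => ∀ x ∈ A, χ i x = c x
  let E : (GL ι F → F) → Submodule F (ι → F) := fun c =>
    ⨅ x ∈ A, LinearMap.ker (Matrix.toLin' (x : Matrix ι ι F) - c x • LinearMap.id)
  have memE : ∀ c u, u ∈ E c ↔ ∀ x ∈ A, (x : Matrix ι ι F) *ᵥ u = c x • u := by
    intro c u; simp [E, Submodule.mem_iInf, sub_eq_zero]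
  have coef : ∀ c u, u ∈ E c → ∀ i, b.repr u i ≠ 0 → i ∈ cls c := by
    intro c u hu i hi
    simp only [cls, Finset.mem_filter, Finset.mem_univ, true_and]
    intro x hx
    have h1 : ((x : Matrix ι ι F) *ᵥ u) = ∑ j, (b.repr u j * χ j x) • b j := by
      conv_lhs => rw [← b.sum_repr u]
      simp [Matrix.mulVec_sum, Matrix.mulVec_smul, hb, hχ _ x hx, smul_smul]
    have h2 := congrArg (fun z => b.repr z i) h1
    simp only [(memE c u).mp hu x hx, map_smul, Finsupp.smul_apply, smul_eq_mul, b.repr_sum_self] at h2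
    exact mul_right_cancel₀ hi (by linear_combination -h2)
  have hE : ∀ c, E c = Submodule.span F (v '' (cls c : Set (Fin (Fintype.card ι)))) := by
    intro c
    refine le_antisymm (fun u hu => ?_) (Submodule.span_le.mpr ?_)
    · rw [← b.sum_repr u]
      refine Submodule.sum_mem _ fun i _ => ?_
      by_cases hi : b.repr u i = 0
      · simp [hi]
      · exact Submodule.smul_mem _ _ (Submodule.subset_span ⟨i, coef c u hu i hi, (hb i).symm⟩)
    · rintro _ ⟨i, hi, rfl⟩
      simp only [cls, Finset.coe_filter, Finset.mem_univ, true_and, Set.mem_setOf_eq] at hi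
      exact (memE c _).mpr fun x hx => by rw [hχ i x hx, hi x hx]
  have hEdim : ∀ c, Module.finrank F (E c) = (cls c).card := by
    intro c
    rw [hE, Set.image_eq_range]
    have := hlin.comp (fun x : (cls c : Set (Fin (Fintype.card ι))) => (x : Fin (Fintype.card ι))) Subtype.val_injective
    rw [show (Set.range fun x : (cls c : Set (Fin (Fintype.card ι))) => v ↑x) = Set.range (v ∘ fun x : (cls c : Set (Fin (Fintype.card ι))) => (x : Fin (Fintype.card ι))) from rfl,
      finrank_span_eq_card this]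
    simp
  -- translating eigenspaces
  have hmove : ∀ g ∈ H, ∀ c, ∀ u ∈ E c,
      (g : Matrix ι ι F) *ᵥ u ∈ E (fun x => c (g⁻¹ * x * g)) := by
    intro g hg c u hu
    rw [memE]
    intro x hx
    have h1 := (memE c u).mp hu (g⁻¹ * x * g) (by simpa using hn g⁻¹ (inv_mem hg) x hx)
    have h2 := congrArg ((g : Matrix ι ι F) *ᵥ ·) h1
    simpa only [gl_mul_mulVec, gl_mulVec_inv_cancel, Matrix.mulVec_smul] using h2
  -- all classes have the size of the class of the first index
  have i0 : Fin (Fintype.card ι) := ⟨0, hp.pos⟩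
  have hsize : ∀ j, (cls (χ j)).card = (cls (χ i0)).card := by
    have key : ∀ i j, (cls (χ i)).card ≤ (cls (χ j)).card := by
      intro i j
      let g := h j * (h i)⁻¹
      have hg : g ∈ H := mul_mem (hhH j) (inv_mem (hhH i))
      set c' := fun x => χ i (g⁻¹ * x * g)
      have hgi : (g : Matrix ι ι F) *ᵥ v i ∈ F ∙ v j := by
        rw [← hv j]
        obtain ⟨w, hw, hwe⟩ : v i ∈ W.map (Matrix.toLin' (h i : Matrix ι ι F)) :=
          hv i ▸ Submodule.mem_span_singleton_self _
        refine ⟨w, hw, ?_⟩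
        simp only [Matrix.toLin'_apply] at hwe ⊢
        rw [← hwe, gl_mul_mulVec, gl_inv_mulVec_cancel]
      obtain ⟨a, ha⟩ := Submodule.mem_span_singleton.mp hgi
      have ha0 : a ≠ 0 := fun e => hv0 i (gl_mulVec_injective g (by simpa [e] using ha.symm))
      have hc : ∀ x ∈ A, χ j x = c' x := by
        intro x hx
        have h1 := (memE c' _).mp (hmove g hg (χ i) (v i) ((memE _ _).mpr (hχ i))) x hx
        rw [← ha, Matrix.mulVec_smul, hχ j x hx, smul_smul, smul_smul] at h1
        exact mul_left_cancel₀ ha0 (smul_left_injective F (hv0 j) h1 |>.trans (mul_comm _ _))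
      rw [← hEdim, ← hEdim, ← finrank_map_gl g (E (χ i))]
      refine Submodule.finrank_mono (map_toLin'_le.mpr fun u hu => ?_)
      rw [memE]
      intro x hx
      rw [(memE _ _).mp (hmove g hg _ u hu) x hx, hc x hx]
    exact fun j => le_antisymm (key j i0) (key i0 j)
  by_cases hall : ∀ i, ∀ x ∈ A, χ i x = χ i0 x
  · left
    intro x hx
    refine mem_scalars_of_eq (c := χ i0 x) (Matrix.toLin'.injective (b.ext fun i => ?_))
    simp [hb, hχ i x hx, hall i x hx]
  right; left
  have hsep : ∀ i j, (∀ x ∈ A, χ i x = χ j x) → i = j := by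
    have hdvd : (cls (χ i0)).card ∣ Fintype.card ι := by
      have hpart : ((Finset.univ : Finset (Fin (Fintype.card ι))).image fun j => cls (χ j)).sum
          Finset.card = Fintype.card ι := by
        have hd : Set.PairwiseDisjoint (↑((Finset.univ : Finset (Fin (Fintype.card ι))).image fun j => cls (χ j)) : Set (Finset (Fin (Fintype.card ι)))) id := by
          intro a ha a' ha' hne
          simp only [Finset.coe_image, Set.mem_image] at ha ha'
          obtain ⟨i, _, rfl⟩ := ha
          obtain ⟨j, _, rfl⟩ := ha'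
          rw [Function.onFun, id, id, Finset.disjoint_left]
          intro k hki hkj
          simp only [cls, Finset.mem_filter, Finset.mem_univ, true_and] at hki hkj
          apply hne
          ext l
          simp only [cls, Finset.mem_filter, Finset.mem_univ, true_and]
          exact ⟨fun hl x hx => by rw [hl x hx, ← hki x hx, hkj x hx],
            fun hl x hx => by rw [hl x hx, ← hkj x hx, hki x hx]⟩
        have := Finset.card_biUnion hd
        simp only [id] at this
        rw [← this]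
        rw [show Finset.biUnion _ id = (Finset.univ : Finset (Fin (Fintype.card ι))) from
          Finset.eq_univ_of_forall fun i => Finset.mem_biUnion.mpr ⟨cls (χ i),
            Finset.mem_image.mpr ⟨i, Finset.mem_univ _, rfl⟩, by simp [cls]⟩, Finset.card_univ, Fintype.card_fin]
      refine Eq.subst (motive := fun m => _ ∣ m) hpart ?_
      rw [Finset.sum_congr rfl (g := fun _ => (cls (χ i0)).card) fun s hs => by
        obtain ⟨j, _, rfl⟩ := Finset.mem_image.mp hs
        exact hsize j, Finset.sum_const, smul_eq_mul]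
      exact dvd_mul_left _ _
    rcases hp.eq_one_or_self_of_dvd _ hdvd with h1 | h1
    · intro i j hij
      have : (cls (χ j)).card = 1 := (hsize j).trans h1
      obtain ⟨k, hk⟩ := Finset.card_eq_one.mp this
      have hi : i ∈ cls (χ j) := by simpa [cls] using hij
      have hj : j ∈ cls (χ j) := by simp [cls]
      rw [hk, Finset.mem_singleton] at hi hj
      rw [hi, hj]
    · exfalso
      apply hall
      intro i x hx
      have : i ∈ cls (χ i0) := by
        rw [Finset.eq_univ_of_card _ (h1.trans (Fintype.card_fin _).symm)]; exact Finset.mem_univ i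
      simp only [cls, Finset.mem_filter] at this
      exact this.2 x hx
  have hline : ∀ u : ι → F, u ≠ 0 → (∃ c, u ∈ E c) → ∃ j, u ∈ D j := by
    intro u hu ⟨c, hc⟩
    obtain ⟨j, hj⟩ : ∃ j, b.repr u j ≠ 0 := by
      by_contra hh
      simp only [not_exists, not_not] at hh
      exact hu (by rw [← b.sum_repr u]; simp [hh])
    refine ⟨j, ?_⟩
    rw [← b.sum_repr u]
    refine Submodule.sum_mem _ fun i _ => ?_
    by_cases hi : b.repr u i = 0
    · simp [hi]
    · have h1 := coef c u hc i hi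
      have h2 := coef c u hc j hj
      simp only [cls, Finset.mem_filter, Finset.mem_univ, true_and] at h1 h2
      obtain rfl := hsep i j fun x hx => (h1 x hx).trans (h2 x hx).symm
      rw [hb]
      exact Submodule.smul_mem _ _ (Submodule.mem_span_singleton_self _)
  refine ⟨D, ⟨hp.two_le, one_pos, fun i => finrank_span_singleton (hv0 i), hind', htop'⟩, fun g hg => ?_, χ,
    fun i x hx w hw => ?_, hsep⟩
  rotate_left
  · obtain ⟨a, rfl⟩ := Submodule.mem_span_singleton.mp hw
    rw [Matrix.mulVec_smul, hχ i x hx, smul_comm]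
  have hσ : ∀ i, ∃ j, (g : Matrix ι ι F) *ᵥ v i ∈ D j := fun i =>
    hline _ (fun e => hv0 i (gl_mulVec_injective g (by simpa using e)))
      ⟨_, hmove g hg (χ i) (v i) ((memE _ _).mpr (hχ i))⟩
  choose σ hσ using hσ
  have hmap : ∀ i, (D i).map (Matrix.toLin' (g : Matrix ι ι F)) = D (σ i) := by
    intro i
    refine Submodule.eq_of_le_of_finrank_eq ?_ (by rw [finrank_map_gl, finrank_span_singleton (hv0 i), finrank_span_singleton (hv0 _)])
    rw [map_toLin'_le]
    intro w hw
    obtain ⟨a, rfl⟩ := Submodule.mem_span_singleton.mp hw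
    rw [Matrix.mulVec_smul]
    exact Submodule.smul_mem _ _ (hσ i)
  have hσinj : Function.Injective σ := by
    intro i j hij
    have h1 : D i = D j := by
      refine Submodule.map_injective_of_injective (f := Matrix.toLin' (g : Matrix ι ι F)) (fun a c h => gl_mulVec_injective g (by simpa using h)) ?_
      rw [hmap, hmap, hij]
    by_contra hne
    have := hind'.pairwiseDisjoint hne
    simp only [Function.onFun, h1, disjoint_self] at this
    exact hv0 j ((Submodule.span_singleton_eq_bot).mp this)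
  exact ⟨Equiv.ofBijective σ (Finite.injective_iff_bijective.mp hσinj), hmap⟩

theorem abelian_normal_cases [Finite F] (hp : (Fintype.card ι).Prime) {H A : Subgroup (GL ι F)}
    (hH : ActsIrreducibly (matrixSet H)) (hn : ∀ h ∈ H, ∀ x ∈ A, h * x * h⁻¹ ∈ A)
    (hab : ∀ x ∈ A, ∀ y ∈ A, x * y = y * x) :
    A ≤ scalars ι F ∨
      (∃ D : Fin (Fintype.card ι) → Submodule F (ι → F), IsMDecomposition 1 D ∧ H ≤ decompositionStabilizer D) ∨
      (∃ K : Subalgebra F (Matrix ι ι F), IsFieldSubalgebra (Fintype.card ι) K ∧ H ≤ subalgebraNormalizer K) := by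
  rcases abelian_normal_cases_strong hp hH hn hab with h | ⟨D, hD, h, -⟩ | ⟨h1, h2⟩
  · exact Or.inl h
  · exact Or.inr (Or.inl ⟨D, hD, h⟩)
  · exact Or.inr (Or.inr ⟨_, h1, h2⟩)

end Cfsg.Agent.Classical
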