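/-
Subgroups normalised by another subgroup; commutators modulo scalars.
-/
import Cfsg.Agent.Lib.Classical.LinBasic

set_option autoImplicit false

namespace Cfsg.Agent.Classical

open Matrix Cfsg.Geo
open scoped commutatorElement

variable {ι : Type} [Fintype ι] [DecidableEq ι] {F : Type*} [Field F]

/-- `N` is normalised by every member of `H`. -/
def NormalIn {G : Type*} [Group G] (H N : Subgroup G) : Prop := ∀ h ∈ H, ∀ x ∈ N, h * x * h⁻¹ ∈ N

section Group

variable {G : Type*} [Group G] {H N A B : Subgroup G}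

theorem normalIn_iff_map_le : NormalIn H N ↔ ∀ h ∈ H, N.map (MulAut.conj h).toMonoidHom ≤ N := by
  simp only [NormalIn, Subgroup.map_le_iff_le_comap]
  exact Iff.rfl

theorem NormalIn.mono {K : Subgroup G} (h : NormalIn H N) (hK : K ≤ H) : NormalIn K N :=
  fun g hg => h g (hK hg)

theorem NormalIn.commutator (hA : NormalIn H A) (hB : NormalIn H B) : NormalIn H ⁅A, B⁆ := by
  rw [normalIn_iff_map_le] at *
  intro h hh
  rw [Subgroup.map_commutator]
  exact Subgroup.commutator_mono (hA h hh) (hB h hh)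

theorem NormalIn.sup (hA : NormalIn H A) (hB : NormalIn H B) : NormalIn H (A ⊔ B) := by
  rw [normalIn_iff_map_le] at *
  intro h hh
  rw [Subgroup.map_sup]
  exact sup_le_sup (hA h hh) (hB h hh)

theorem NormalIn.inf (hA : NormalIn H A) (hB : NormalIn H B) : NormalIn H (A ⊓ B) :=
  fun h hh x hx => ⟨hA h hh x hx.1, hB h hh x hx.2⟩

theorem normalIn_of_le_self (h : H ≤ N) : NormalIn H N :=
  fun g hg _ hx => mul_mem (mul_mem (h hg) hx) (inv_mem (h hg))

theorem normalIn_of_normal [N.Normal] : NormalIn H N := fun h _ x hx => Subgroup.Normal.conj_mem ‹_› x hx h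

theorem NormalIn.le_normalizer (hn : NormalIn H N) : H ≤ Subgroup.normalizer (N : Set G) := by
  intro h hh
  rw [Subgroup.mem_normalizer_iff]
  refine fun x => ⟨hn h hh x, fun hx => ?_⟩
  simpa [mul_assoc] using hn h⁻¹ (inv_mem hh) _ hx

theorem normalIn_map_conj {h : G} (hh : h ∈ H) (hN : NormalIn A N) (hA : NormalIn H A) :
    NormalIn A (N.map (MulAut.conj h).toMonoidHom) := by
  rintro a ha _ ⟨x, hx, rfl⟩
  refine ⟨(h⁻¹ * a * h) * x * (h⁻¹ * a * h)⁻¹, hN _ (by simpa using hA h⁻¹ (inv_mem hh) a ha) x hx, ?_⟩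
  simp [mul_assoc]

theorem commutator_le_of_normalIn (hA : NormalIn B A) : ⁅A, B⁆ ≤ A := by
  rw [Subgroup.commutator_le]
  intro a ha b hb
  rw [commutatorElement_def, mul_assoc a, mul_assoc a]
  exact mul_mem ha (hA b hb _ (inv_mem ha))

theorem commutator_self_le (A : Subgroup G) : ⁅A, A⁆ ≤ A :=
  commutator_le_of_normalIn (normalIn_of_le_self le_rfl)

/-- Two sets of generators commuting modulo a normal subgroup. -/
theorem commutator_le_of_generators {K : Subgroup G} [K.Normal] {S : Set G}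
    (h : ∀ a ∈ S, ∀ b ∈ S, ⁅a, b⁆ ∈ K) : ⁅Subgroup.closure S, Subgroup.closure S⁆ ≤ K := by
  have key : ∀ a b : G, ⁅a, b⁆ ∈ K ↔ Commute (QuotientGroup.mk' K a) (QuotientGroup.mk' K b) := fun a b => by
    rw [← commutatorElement_eq_one_iff_commute, ← map_commutatorElement, QuotientGroup.mk'_apply, QuotientGroup.eq_one_iff]
  rw [Subgroup.commutator_le]
  intro a ha b hb
  rw [key]
  refine Subgroup.closure_induction (fun x hx => ?_) ?_ (fun _ _ _ _ h1 h2 => ?_) (fun _ _ h1 => ?_) ha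
  · refine Subgroup.closure_induction (fun y hy => (key x y).mp (h x hx y hy)) ?_ (fun _ _ _ _ h1 h2 => ?_)
      (fun _ _ h1 => ?_) hb
    · rw [map_one]; exact Commute.one_right _
    · rw [map_mul]; exact h1.mul_right h2
    · rw [map_inv]; exact h1.inv_right
  · rw [map_one]; exact Commute.one_left _
  · rw [map_mul]; exact h1.mul_left h2
  · rw [map_inv]; exact h1.inv_left

end Group

theorem scalars_mul_comm {a b : GL ι F} (ha : a ∈ scalars ι F) : a * b = b * a := scalars_commute ha b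

/-- An element commuting with `A` modulo scalars centralises the commutator subgroup of `A`. -/
theorem commute_commutator_of_mod_scalars {A : Subgroup (GL ι F)} {y : GL ι F}
    (h : ∀ a ∈ A, a * y * a⁻¹ * y⁻¹ ∈ scalars ι F) : ∀ x ∈ ⁅A, A⁆, x * y = y * x := by
  let φ : A →* GL ι F := MonoidHom.mk' (fun a => (a : GL ι F) * y * (a : GL ι F)⁻¹ * y⁻¹) fun a b => by
    set s := (b : GL ι F) * y * (b : GL ι F)⁻¹ * y⁻¹ with hs
    have hsc : ∀ g, s * g = g * s := scalars_commute (h b b.2)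
    calc ((a * b : A) : GL ι F) * y * ((a * b : A) : GL ι F)⁻¹ * y⁻¹
        = (a : GL ι F) * s * (y * (a : GL ι F)⁻¹ * y⁻¹) := by rw [hs, Subgroup.coe_mul]; group
      _ = (a : GL ι F) * ((y * (a : GL ι F)⁻¹ * y⁻¹) * s) := by rw [mul_assoc, hsc]
      _ = _ := by group
  suffices ⁅A, A⁆ ≤ Subgroup.centralizer {y} by
    exact fun x hx => Subgroup.mem_centralizer_singleton_iff.mp (this hx)
  rw [Subgroup.commutator_le]
  intro a ha b hb
  have e : φ ⁅(⟨a, ha⟩ : A), ⟨b, hb⟩⁆ = 1 := by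
    rw [map_commutatorElement, commutatorElement_eq_one_iff_mul_comm]
    exact scalars_commute (h a ha) _
  rw [Subgroup.mem_centralizer_singleton_iff]
  have : ⁅a, b⁆ * y * ⁅a, b⁆⁻¹ * y⁻¹ = 1 := e
  rw [mul_inv_eq_one, mul_inv_eq_iff_eq_mul] at this
  exact this

/-- `[A ⊔ Z, A ⊔ Z] ≤ [A, A]` for scalar `Z`. -/
theorem commutator_sup_scalars {A Z : Subgroup (GL ι F)} (hZ : Z ≤ scalars ι F) : ⁅A ⊔ Z, A ⊔ Z⁆ ≤ ⁅A, A⁆ := by
  haveI : Z.Normal := ⟨fun z hz g => by rw [← scalars_commute (hZ hz) g, mul_inv_cancel_right]; exact hz⟩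
  rw [Subgroup.commutator_le]
  intro a ha b hb
  obtain ⟨a₁, ha₁, z, hz, rfl⟩ := Subgroup.mem_sup_of_normal_right.mp ha
  obtain ⟨b₁, hb₁, w, hw, rfl⟩ := Subgroup.mem_sup_of_normal_right.mp hb
  have hc := scalars_commute (hZ hz)
  have hd := scalars_commute (hZ hw)
  have : ⁅a₁ * z, b₁ * w⁆ = ⁅a₁, b₁⁆ := by
    simp only [commutatorElement_def]
    have e1 : (a₁ * z) * (b₁ * w) = (a₁ * b₁) * (z * w) := by rw [mul_assoc, ← mul_assoc z, hc b₁]; group
    have e2 : (b₁ * w) * (a₁ * z) = (b₁ * a₁) * (z * w) := by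
      rw [mul_assoc, ← mul_assoc w, hd a₁, hc w]; group
    calc a₁ * z * (b₁ * w) * (a₁ * z)⁻¹ * (b₁ * w)⁻¹
        = (a₁ * z * (b₁ * w)) * ((b₁ * w) * (a₁ * z))⁻¹ := by group
      _ = a₁ * b₁ * a₁⁻¹ * b₁⁻¹ := by rw [e1, e2]; group
  rw [this]
  exact Subgroup.commutator_mem_commutator ha₁ hb₁

theorem scalars_le_inf_normal (H : Subgroup (GL ι F)) : NormalIn H (H ⊓ scalars ι F) :=
  (normalIn_of_le_self le_rfl).inf normalIn_of_normal

end Cfsg.Agent.Classical
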