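/-
Irreducible groups of odd prime dimension with a normal subgroup which is non-abelian but abelian
modulo scalars.
-/
import Cfsg.Agent.Lib.Classical.Irreducible
import Cfsg.Agent.Lib.Classical.Forms
import Cfsg.Agent.Lib.Classical.Subfield
import Cfsg.Agent.Lib.Classical.NormalIn

set_option autoImplicit false
set_option linter.style.haveILetI false

namespace Cfsg.Agent.Classical

open Matrix Cfsg.Geo

variable {ι : Type} [Fintype ι] [DecidableEq ι] {F : Type*} [Field F]

theorem twisted_pow {x y : Matrix ι ι F} {c : F} (h : y * x = c • (x * y)) (k : ℕ) :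
    y * x ^ k = c ^ k • (x ^ k * y) := by
  induction k with
  | zero => simp
  | succ k ih =>
    rw [pow_succ, ← Matrix.mul_assoc, ih, Matrix.smul_mul, Matrix.mul_assoc, h, Matrix.mul_smul, smul_smul,
      ← pow_succ, Matrix.mul_assoc]

/-- If conjugation multiplies `x` by a primitive root of unity of order `card ι` then `x ^ card ι = 1`. -/
theorem pow_eq_one_of_twisted (hodd : Odd (Fintype.card ι)) {x y : GL ι F} {c : F}
    (hc : IsPrimitiveRoot c (Fintype.card ι)) (hn : (Fintype.card ι : F) ≠ 0) (hdet : (x : Matrix ι ι F).det = 1)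
    (h : (y : Matrix ι ι F) * (x : Matrix ι ι F) = c • ((x : Matrix ι ι F) * (y : Matrix ι ι F))) :
    x ^ Fintype.card ι = 1 := by
  set n := Fintype.card ι with hn'
  set X := (x : Matrix ι ι F) with hX
  set a := fun i => X.charpoly.coeff i with ha
  have h0 : ∀ j, ∑ i ∈ Finset.range (n + 1), (a i * (c ^ i) ^ j) • X ^ i = 0 := by
    intro j
    induction j with
    | zero =>
      have := Matrix.aeval_self_charpoly X
      rw [Polynomial.aeval_eq_sum_range, Matrix.charpoly_natDegree_eq_dim] at this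
      simpa using this
    | succ j ih =>
      have e := congrArg (fun m => (y : Matrix ι ι F) * m * ((y⁻¹ : GL ι F) : Matrix ι ι F)) ih
      simp only [Matrix.mul_sum, Matrix.sum_mul, Matrix.mul_zero, Matrix.zero_mul, Matrix.mul_smul,
        Matrix.smul_mul, twisted_pow h, Matrix.mul_assoc, ← Units.val_mul, mul_inv_cancel, Units.val_one,
        Matrix.mul_one, smul_smul] at e
      rw [← e]
      exact Finset.sum_congr rfl fun i _ => by rw [pow_succ, mul_assoc]
  have h1 : ∑ i ∈ Finset.range (n + 1), (a i * ∑ j ∈ Finset.range n, (c ^ i) ^ j) • X ^ i = 0 := by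
    simp only [Finset.mul_sum, Finset.sum_smul]
    rw [Finset.sum_comm]
    exact Finset.sum_eq_zero fun j _ => h0 j
  have hpos : 0 < n := hodd.pos
  rw [Finset.sum_eq_add (a := 0) (b := n)] at h1
  rotate_left
  · exact hpos.ne
  · intro i hi hne
    have hne1 : c ^ i ≠ 1 := hc.pow_ne_one_of_pos_of_lt hne.1 (by
      have := Finset.mem_range.mp hi; omega)
    have : ∑ j ∈ Finset.range n, (c ^ i) ^ j = 0 := by
      rw [geom_sum_eq hne1, ← pow_mul, mul_comm, pow_mul, hc.pow_eq_one, one_pow, sub_self, zero_div]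
    simp [this]
  · intro h; simp at h
  · intro h; simp at h
  have han : a n = 1 := by
    have := (Matrix.charpoly_monic X).coeff_natDegree
    rwa [Matrix.charpoly_natDegree_eq_dim] at this
  have ha0 : a 0 = -1 := by
    have := Matrix.det_eq_sign_charpoly_coeff X
    rw [hdet, ← hn', hodd.neg_one_pow] at this
    linear_combination this
  simp only [pow_zero, hc.pow_eq_one, one_pow, Finset.sum_const, Finset.card_range, nsmul_eq_mul, mul_one,
    han, ha0, one_mul, neg_mul] at h1
  rw [neg_smul, neg_add_eq_zero] at h1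
  exact Units.ext (by simpa [hX] using (smul_right_injective _ hn h1).symm)

/-- The scalars of determinant one: there are at most `card ι` of them. -/
theorem card_scalars_inf_specialLinear [Fintype F] [Nonempty ι] :
    Nat.card ↥(scalars ι F ⊓ specialLinear ι F) ≤ Fintype.card ι := by
  have hsub : scalars ι F ⊓ specialLinear ι F ≤
      (powMonoidHom (α := Fˣ) (Fintype.card ι)).ker.map
        (Units.map (Matrix.scalar ι : F →+* Matrix ι ι F).toMonoidHom) := by
    rintro g ⟨⟨u, rfl⟩, hg⟩
    refine ⟨u, ?_, rfl⟩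
    have := mem_specialLinear_iff.mp hg
    rw [SetLike.mem_coe, MonoidHom.mem_ker, powMonoidHom_apply]
    ext
    simpa using this
  refine le_trans (Subgroup.card_le_of_le hsub) (le_trans (Nat.le_of_dvd Nat.card_pos
    (Subgroup.card_map_dvd _ _)) ?_)
  rw [IsCyclic.card_powMonoidHom_ker]
  exact Nat.le_of_dvd Fintype.card_pos (Nat.gcd_dvd_right _ _)

/-- What an irreducible group normalising a non-abelian group that is abelian modulo scalars can be. -/
structure SymplecticData [Fintype F] (H M : Subgroup (GL ι F)) (c : F) : Prop where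
  prim : IsPrimitiveRoot c (Fintype.card ι)
  natCast_ne : (Fintype.card ι : F) ≠ 0
  gens : ∃ x ∈ M, ∃ y ∈ M, (x : Matrix ι ι F) * (y : Matrix ι ι F) = c • ((y : Matrix ι ι F) * (x : Matrix ι ι F)) ∧
    Subgroup.closure {x, y} = M ∧ x ^ Fintype.card ι = 1 ∧ y ^ Fintype.card ι = 1
  type : IsSymplecticTypeGroup (Fintype.card ι) M
  card_center : Nat.card (Subgroup.center M) = Fintype.card ι
  card_eq : Nat.card M = Fintype.card ι ^ 3

theorem symplecticData [Fintype F] (hp : (Fintype.card ι).Prime) (hodd : Odd (Fintype.card ι))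
    {H M : Subgroup (GL ι F)} (hSL : H ≤ specialLinear ι F) (hMH : M ≤ H) (hnorm : NormalIn H M)
    (hM : ActsAbsolutelyIrreducibly (matrixSet M)) (hne : ∃ x ∈ M, ∃ y ∈ M, x * y ≠ y * x)
    (hcomm : ∀ x ∈ M, ∀ y ∈ M, x * y * x⁻¹ * y⁻¹ ∈ scalars ι F)
    (hab : ∀ A : Subgroup (GL ι F), A ≤ M → NormalIn H A → (∀ x ∈ A, ∀ y ∈ A, x * y = y * x) → A ≤ scalars ι F) :
    ∃ c : F, SymplecticData H M c := by
  classical
  haveI : Fact (Fintype.card ι).Prime := ⟨hp⟩
  haveI : Nonempty ι := Fintype.card_pos_iff.mp hp.pos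
  set n := Fintype.card ι with hn
  have hdet : ∀ x ∈ M, (x : Matrix ι ι F).det = 1 := fun x hx => mem_specialLinear_iff.mp (hSL (hMH hx))
  have hpair : ∀ x ∈ M, ∀ y ∈ M, x * y ≠ y * x → ∃ c : F, IsPrimitiveRoot c n ∧
      (x : Matrix ι ι F) * (y : Matrix ι ι F) = c • ((y : Matrix ι ι F) * (x : Matrix ι ι F)) := by
    intro x hx y hy hxy
    obtain ⟨c, hc⟩ := (mem_scalars_iff _).mp (hcomm x hx y hy)
    have e := coe_mul_comm_of_scalar hc
    have hc1 : (c : F) ≠ 1 := fun h1 => hxy (Units.ext (by simpa [h1] using e))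
    have hcn : (c : F) ^ n = 1 := by
      have := congrArg Matrix.det e
      simpa [Matrix.det_smul, hdet x hx, hdet y hy] using this.symm
    exact ⟨c, IsPrimitiveRoot.iff_orderOf.mpr (orderOf_eq_prime hcn hc1), e⟩
  obtain ⟨x, hx, y, hy, hxy⟩ := hne
  obtain ⟨c, hc, hxyc⟩ := hpair x hx y hy hxy
  have hnF : (n : F) ≠ 0 := by
    intro h0
    haveI : CharP F n := (CharP.charP_iff_prime_eq_zero hp).mpr h0
    apply hc.ne_one hp.one_lt
    have : (c - 1) ^ n = 0 := by rw [sub_pow_char, hc.pow_eq_one, one_pow, sub_self]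
    exact sub_eq_zero.mp (eq_zero_of_pow_eq_zero this)
  have hexp : ∀ z ∈ M, z ^ n = 1 := by
    intro z hz
    by_cases hzs : ∀ w ∈ M, z * w = w * z
    · obtain ⟨a, ha⟩ := (mem_scalars_iff z).mp (mem_scalars_of_absIrr hM hzs)
      have := hdet z hz
      rw [ha, Matrix.det_smul, Matrix.det_one, mul_one] at this
      exact Units.ext (by simp [ha, smul_pow, hn ▸ this])
    · push Not at hzs
      obtain ⟨w, hw, hzw⟩ := hzs
      obtain ⟨d, hd, e⟩ := hpair w hw z hz (Ne.symm hzw)
      exact pow_eq_one_of_twisted hodd hd hnF (hdet z hz) e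
  have hP : IsPGroup n M := fun z => ⟨1, Subtype.ext (by simpa using hexp z z.2)⟩
  -- the scalars in `M`
  let Z := M ⊓ scalars ι F
  have hZle : Nat.card Z ≤ n := le_trans (Subgroup.card_le_of_le
    (show Z ≤ scalars ι F ⊓ specialLinear ι F from fun g hg => ⟨hg.2, hSL (hMH hg.1)⟩)) card_scalars_inf_specialLinear
  have hcZ : x * y * x⁻¹ * y⁻¹ ∈ Z := Subgroup.mem_inf.mpr ⟨mul_mem (mul_mem (mul_mem hx hy) (inv_mem hx)) (inv_mem hy), hcomm x hx y hy⟩
  -- card of `M`
  let L := Subgroup.closure ({x, y} : Set (GL ι F))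
  have hLM : L ≤ M := (Subgroup.closure_le M).mpr (Set.insert_subset hx (Set.singleton_subset_iff.mpr hy))
  have hcentr : ∀ m ∈ M, m * x = x * m → m * y = y * m → m ∈ scalars ι F := by
    intro m hm hmx hmy
    have hN : NormalIn M (L ⊔ Z) := by
      rw [normalIn_iff_map_le]
      intro g hg
      have hgx : ∀ z ∈ M, z ∈ L → g * z * g⁻¹ ∈ L ⊔ Z := by
        intro z hz hzL
        rw [show g * z * g⁻¹ = (g * z * g⁻¹ * z⁻¹) * z by group]
        exact mul_mem (Subgroup.mem_sup_right (Subgroup.mem_inf.mpr ⟨mul_mem (mul_mem (mul_mem hg hz) (inv_mem hg)) (inv_mem hz),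
          hcomm g hg z hz⟩)) (Subgroup.mem_sup_left hzL)
      rw [Subgroup.map_sup]
      refine sup_le ?_ (le_sup_of_le_right (normalIn_iff_map_le.mp ((normalIn_of_le_self le_rfl).inf normalIn_of_normal) g hg))
      rw [Subgroup.map_le_iff_le_comap, Subgroup.closure_le]
      rintro z (rfl | rfl)
      · exact hgx _ hx (Subgroup.subset_closure (Or.inl rfl))
      · exact hgx _ hy (Subgroup.subset_closure (Or.inr rfl))
    have hLi := absIrr_of_nonabelian_normal hp hM.1 hN
      ⟨x, Subgroup.mem_sup_left (Subgroup.subset_closure (Or.inl rfl)), y,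
        Subgroup.mem_sup_left (Subgroup.subset_closure (Or.inr rfl)), hxy⟩
    refine mem_scalars_of_absIrr hLi fun z hz => ?_
    have : L ⊔ Z ≤ Subgroup.centralizer {m} := by
      refine sup_le ((Subgroup.closure_le _).mpr ?_) fun z hz => Subgroup.mem_centralizer_singleton_iff.mpr
        (scalars_commute hz.2 m)
      rintro z (rfl | rfl)
      · exact Subgroup.mem_centralizer_singleton_iff.mpr hmx.symm
      · exact Subgroup.mem_centralizer_singleton_iff.mpr hmy.symm
    exact (Subgroup.mem_centralizer_singleton_iff.mp (this hz)).symm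
  have hupper : Nat.card M ≤ n ^ 3 := by
    let f : M → Z × Z := fun m =>
      (⟨m * x * (m : GL ι F)⁻¹ * x⁻¹, Subgroup.mem_inf.mpr ⟨mul_mem (mul_mem (mul_mem m.2 hx) (inv_mem m.2)) (inv_mem hx), hcomm m m.2 x hx⟩⟩,
       ⟨m * y * (m : GL ι F)⁻¹ * y⁻¹, Subgroup.mem_inf.mpr ⟨mul_mem (mul_mem (mul_mem m.2 hy) (inv_mem m.2)) (inv_mem hy), hcomm m m.2 y hy⟩⟩)
    let g : M → (Z × Z) × Z := fun m => (f m, ⟨((Function.invFun f (f m) : M) : GL ι F)⁻¹ * (m : GL ι F),
      Subgroup.mem_inf.mpr ⟨mul_mem (inv_mem (SetLike.coe_mem _)) m.2, by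
        have e : f (Function.invFun f (f m)) = f m := Function.invFun_eq ⟨m, rfl⟩
        set m' := Function.invFun f (f m)
        have key : ∀ z : GL ι F, (m' : GL ι F) * z * (m' : GL ι F)⁻¹ * z⁻¹ = m * z * (m : GL ι F)⁻¹ * z⁻¹ →
            ((m' : GL ι F)⁻¹ * m) * z = z * ((m' : GL ι F)⁻¹ * m) := by
          intro z hz
          have hz' := mul_right_cancel hz
          calc ((m' : GL ι F)⁻¹ * m) * z = (m' : GL ι F)⁻¹ * (m * z * (m : GL ι F)⁻¹) * m := by group
            _ = (m' : GL ι F)⁻¹ * (m' * z * (m' : GL ι F)⁻¹) * m := by rw [hz']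
            _ = _ := by group
        exact hcentr _ (mul_mem (inv_mem (SetLike.coe_mem _)) m.2) (key x (congrArg (fun p => (p.1 : GL ι F)) e))
          (key y (congrArg (fun p => (p.2 : GL ι F)) e))⟩⟩)
    have hg : Function.Injective g := by
      intro a b h
      have h1 : f a = f b := congrArg Prod.fst h
      have h2 : ((Function.invFun f (f a) : M) : GL ι F)⁻¹ * (a : GL ι F) = ((Function.invFun f (f b) : M) : GL ι F)⁻¹ * b :=
        congrArg (fun p => ((p.2 : Z) : GL ι F)) h
      rw [h1] at h2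
      exact Subtype.ext (mul_left_cancel h2)
    calc Nat.card M ≤ Nat.card ((Z × Z) × Z) := Nat.card_le_card_of_injective g hg
      _ ≤ n ^ 3 := by rw [Nat.card_prod, Nat.card_prod, pow_three, ← mul_assoc]; gcongr
  have hlower : ∀ K : Subgroup (GL ι F), K ≤ M → x ∈ K → y ∈ K → Nat.card K = n ^ 3 := by
    intro K hKM hxK hyK
    obtain ⟨k, hk⟩ := IsPGroup.iff_card.mp (IsPGroup.of_injective hP (Subgroup.inclusion hKM) (Subgroup.inclusion_injective hKM) : IsPGroup n K)
    have hk3 : k ≤ 3 := by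
      have := le_trans (Subgroup.card_le_of_le hKM) hupper
      rw [hk] at this
      exact (Nat.pow_le_pow_iff_right hp.one_lt).mp this
    have hnc : ¬ ∀ a b : K, a * b = b * a := fun h => hxy (congrArg Subtype.val (h ⟨x, hxK⟩ ⟨y, hyK⟩))
    rw [hk]
    interval_cases k
    · exfalso; apply hnc
      haveI : Subsingleton K := (Nat.card_eq_one_iff_unique.mp (by simpa using hk)).1
      exact fun a b => Subsingleton.elim _ _
    · exfalso; apply hnc
      haveI : IsCyclic K := isCyclic_of_prime_card (p := n) (by simpa using hk)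
      exact fun a b => IsCyclic.commGroup.mul_comm a b
    · exfalso; apply hnc
      exact fun a b => (IsPGroup.isMulCommutative_of_card_eq_prime_sq (p := n) (by simpa using hk)).is_comm.comm a b
    · rfl
  have hcard := hlower M le_rfl hx hy
  have hL : L = M := Subgroup.eq_of_le_of_card_ge hLM
    (le_of_eq (by rw [hcard, hlower L hLM (Subgroup.subset_closure (Or.inl rfl)) (Subgroup.subset_closure (Or.inr rfl))]))
  -- the centre
  have hcenter : (Subgroup.center M).map M.subtype = Z := by
    ext g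
    constructor
    · rintro ⟨⟨g, hg⟩, hgc, rfl⟩
      exact ⟨hg, mem_scalars_of_absIrr hM fun w hw =>
        (congrArg Subtype.val (Subgroup.mem_center_iff.mp hgc ⟨w, hw⟩)).symm⟩
    · intro hg
      exact ⟨⟨g, hg.1⟩, Subgroup.mem_center_iff.mpr fun w => Subtype.ext (scalars_commute hg.2 w).symm, rfl⟩
  have hZeq : Nat.card Z = n := by
    refine le_antisymm hZle ?_
    have hord : orderOf (x * y * x⁻¹ * y⁻¹) = n := orderOf_eq_prime (hexp _ hcZ.1) fun h1 => hxy (by
      rwa [mul_inv_eq_one, mul_inv_eq_iff_eq_mul] at h1)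
    have := Subgroup.orderOf_dvd_natCard (s := Z) hcZ
    exact hord ▸ Nat.le_of_dvd Nat.card_pos this
  have hcc : Nat.card (Subgroup.center M) = n := by
    rw [← hZeq, ← hcenter]
    exact Nat.card_congr ((Subgroup.center M).equivMapOfInjective _ M.subtype_injective).toEquiv
  refine ⟨c, hc, hnF, ⟨x, hx, y, hy, hxyc, hL, hexp x hx, hexp y hy⟩, ⟨hp, hP, ?_, ?_⟩, hcc, hcard⟩
  · intro A hA hAc
    have hA' : A ≤ Subgroup.center M := by
      intro a ha
      have hsc : (A.map M.subtype) ≤ scalars ι F := by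
        refine hab _ (Subgroup.map_subtype_le A) ?_ ?_
        · rintro h hh _ ⟨a, ha, rfl⟩
          let φ : M ≃* M :=
            { toFun := fun m => ⟨h * m * h⁻¹, hnorm h hh m m.2⟩
              invFun := fun m => ⟨h⁻¹ * m * h, by simpa using hnorm h⁻¹ (inv_mem hh) m m.2⟩
              left_inv := fun m => Subtype.ext (by simp [mul_assoc])
              right_inv := fun m => Subtype.ext (by simp [mul_assoc])
              map_mul' := fun m m' => Subtype.ext (by simp [mul_assoc]) }
          refine ⟨φ a, ?_, rfl⟩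
          rw [← Subgroup.characteristic_iff_map_eq.mp hA φ]
          exact ⟨a, ha, rfl⟩
        · rintro _ ⟨a, ha, rfl⟩ _ ⟨b, hb, rfl⟩
          exact congrArg (fun z : A => ((z : M) : GL ι F)) (hAc.is_comm.comm ⟨a, ha⟩ ⟨b, hb⟩)
      exact Subgroup.mem_center_iff.mpr fun w => Subtype.ext (scalars_commute (hsc ⟨a, ha, rfl⟩) w).symm
    haveI : IsCyclic (Subgroup.center M) := isCyclic_of_prime_card hcc
    exact isCyclic_of_injective (Subgroup.inclusion hA') (Subgroup.inclusion_injective hA')
  · have hg : n * Nat.gcd 2 n = n := by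
      rw [(Nat.coprime_two_left.mpr hodd : Nat.gcd 2 n = 1), mul_one]
    rw [hg]
    rcases hp.eq_one_or_self_of_dvd _ (Monoid.exponent_dvd_of_forall_pow_eq_one (fun z : M => Subtype.ext (by simpa using hexp z z.2))) with h | h
    · exfalso
      haveI := Monoid.exp_eq_one_iff.mp h
      exact hxy (congrArg Subtype.val (Subsingleton.elim (⟨x, hx⟩ * ⟨y, hy⟩ : M) (⟨y, hy⟩ * ⟨x, hx⟩)))
    · exact h

end Cfsg.Agent.Classical
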