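/-
Structure of the subgroups of SL in odd prime dimension, before the geometric classes come in.
-/
import Cfsg.Agent.Lib.Classical.SymplecticPrime

set_option autoImplicit false
set_option linter.style.haveILetI false

namespace Cfsg.Agent.Classical

open Matrix Cfsg.Geo
open scoped commutatorElement

variable {ι : Type} [Fintype ι] [DecidableEq ι] {F : Type*} [Field F]

/-- The derived group of a minimal non-scalar normal subgroup is simple modulo scalars. -/
theorem isSimpleGroup_socle [Finite F] (hp : (Fintype.card ι).Prime) {H M P : Subgroup (GL ι F)}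
    (hminimal : ∀ A : Subgroup (GL ι F), A ≤ M → NormalIn H A → ¬ A ≤ scalars ι F → A ⊔ (H ⊓ scalars ι F) = M)
    (hPM : P ≤ M) (hPn : NormalIn H P) (hP : P = ⁅M, M⁆) (hPa : ActsAbsolutelyIrreducibly (matrixSet P))
    (hPnscal : ¬ ⁅P, P⁆ ≤ scalars ι F) : IsSimpleGroup (P ⧸ (scalars ι F).subgroupOf P) := by
  classical
  have hcs : ¬ P ≤ scalars ι F := fun h => hPnscal ((commutator_self_le P).trans h)
  let Zp := P ⊓ scalars ι F
  have hsub : ∀ T : Subgroup (GL ι F), T ≤ P → NormalIn P T → ¬ T ≤ scalars ι F → Zp ≤ T → T = P := by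
    by_contra hcon
    push Not at hcon
    obtain ⟨T₀, h₀⟩ := hcon
    let Bad : Subgroup (GL ι F) → Prop := fun T => T ≤ P ∧ NormalIn P T ∧ ¬ T ≤ scalars ι F ∧ Zp ≤ T ∧ T ≠ P
    obtain ⟨T, ⟨hTP, hTn, hTs, hZT, hTne⟩, hTmin⟩ := exists_minimal_of_wellFoundedLT Bad ⟨T₀, h₀⟩
    let conjT : GL ι F → Subgroup (GL ι F) := fun h => T.map (MulAut.conj h).toMonoidHom
    have hcTP : ∀ h ∈ H, conjT h ≤ P := by
      rintro h hh _ ⟨t, ht, rfl⟩
      exact hPn h hh t (hTP ht)
    have hcTn : ∀ h ∈ H, NormalIn P (conjT h) := fun h hh => normalIn_map_conj hh hTn hPn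
    by_cases hinv : ∀ h ∈ H, conjT h ≤ T
    · apply hTne
      have hTH : NormalIn H T := normalIn_iff_map_le.mpr hinv
      have hPT : P ≤ ⁅T, T⁆ := by
        conv_lhs => rw [hP, ← hminimal T (hTP.trans hPM) hTH hTs]
        exact commutator_sup_scalars inf_le_right
      exact le_antisymm hTP (hPT.trans (commutator_self_le T))
    push Not at hinv
    obtain ⟨h, hh, hne⟩ := hinv
    have hpair : ∀ a ∈ H, ∀ b ∈ H, conjT a = conjT b ∨ ∀ s ∈ conjT a, ∀ t ∈ conjT b, ⁅s, t⁆ ∈ scalars ι F := by
      intro a ha b hb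
      let d := a⁻¹ * b
      have hd : d ∈ H := mul_mem (inv_mem ha) hb
      have hint : T ⊓ conjT d ≤ scalars ι F ∨ T ≤ conjT d := by
        by_cases hs : T ⊓ conjT d ≤ scalars ι F
        · exact Or.inl hs
        refine Or.inr ((hTmin (show Bad (T ⊓ conjT d) from ?_) inf_le_left).trans inf_le_right)
        refine ⟨inf_le_left.trans hTP, hTn.inf (hcTn d hd), hs, le_inf hZT ?_, fun e => hTne ?_⟩
        · intro z hz
          refine ⟨z, hZT hz, ?_⟩
          rw [MulEquiv.coe_toMonoidHom, MulAut.conj_apply, ← scalars_commute hz.2 d, mul_inv_cancel_right]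
        · exact le_antisymm hTP (e ▸ inf_le_left)
      rcases hint with hs | hle
      · right
        rintro _ ⟨s, hsT, rfl⟩ _ ⟨t, htT, rfl⟩
        have ht : MulAut.conj d t ∈ conjT d := ⟨t, htT, rfl⟩
        have h1 : ⁅s, MulAut.conj d t⁆ ∈ T ⊓ conjT d := ⟨
          commutator_le_of_normalIn (hTn) (Subgroup.commutator_mem_commutator hsT (hcTP d hd ht)), by
            show ⁅s, MulAut.conj d t⁆ ∈ conjT d
            rw [← inv_inv ⁅s, MulAut.conj d t⁆, commutatorElement_inv, inv_mem_iff]
            exact commutator_le_of_normalIn (hcTn d hd) (Subgroup.commutator_mem_commutator ht (hTP hsT))⟩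
        have h2 := (inferInstance : (scalars ι F).Normal).conj_mem _ (hs h1) a
        convert h2 using 1
        simp only [d, MulEquiv.coe_toMonoidHom, MulAut.conj_apply, commutatorElement_def]
        group
      · left
        have he : T = conjT d := Subgroup.eq_of_le_of_card_ge hle
          (le_of_eq (Subgroup.card_map_of_injective (MulAut.conj d).injective))
        calc conjT a = (conjT d).map (MulAut.conj a).toMonoidHom := by rw [← he]
          _ = conjT b := by
            rw [Subgroup.map_map]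
            congr 1
            ext t
            simp [d, mul_assoc]
    have hT1 : ¬ ⁅T, T⁆ ≤ scalars ι F := by
      intro hT1
      apply hPnscal
      let S : Set (GL ι F) := {s | ∃ a ∈ H, s ∈ conjT a}
      have hS : ⁅Subgroup.closure S, Subgroup.closure S⁆ ≤ scalars ι F := by
        refine commutator_le_of_generators ?_
        rintro s ⟨a, ha, hs⟩ t ⟨b, hb, ht⟩
        rcases hpair a ha b hb with he | hc
        · rw [← he] at ht
          obtain ⟨s, hsT, rfl⟩ := hs
          obtain ⟨t, htT, rfl⟩ := ht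
          rw [← map_commutatorElement]
          exact (inferInstance : (scalars ι F).Normal).conj_mem _ (hT1 (Subgroup.commutator_mem_commutator hsT htT)) a
        · exact hc s hs t ht
      have hSn : NormalIn H (Subgroup.closure S) := by
        rw [normalIn_iff_map_le]
        intro g hg
        rw [Subgroup.map_le_iff_le_comap, Subgroup.closure_le]
        rintro s ⟨a, ha, t, ht, rfl⟩
        exact Subgroup.subset_closure ⟨g * a, mul_mem hg ha, t, ht, by simp [mul_assoc]⟩
      have hSM : Subgroup.closure S ≤ M := (Subgroup.closure_le M).mpr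
        fun s ⟨a, ha, hs⟩ => hPM (hcTP a ha hs)
      have hSs : ¬ Subgroup.closure S ≤ scalars ι F := fun hs => hTs fun t ht =>
        hs (Subgroup.subset_closure ⟨1, one_mem H, t, ht, by simp⟩)
      calc ⁅P, P⁆ ≤ ⁅M, M⁆ := Subgroup.commutator_mono hPM hPM
        _ = ⁅Subgroup.closure S ⊔ (H ⊓ scalars ι F), Subgroup.closure S ⊔ (H ⊓ scalars ι F)⁆ := by
          rw [hminimal _ hSM hSn hSs]
        _ ≤ _ := (commutator_sup_scalars inf_le_right).trans hS
    have hTT : T = ⁅T, T⁆ ⊔ Zp := by
      have hle : ⁅T, T⁆ ⊔ Zp ≤ T := sup_le (commutator_self_le T) hZT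
      refine le_antisymm (hTmin ?_ hle) hle
      exact ⟨hle.trans hTP, (hTn.commutator hTn).sup (scalars_le_inf_normal P), fun e => hT1 (le_sup_left.trans e),
        le_sup_right, fun e => hTne (le_antisymm hTP (e ▸ hle))⟩
    rcases hpair 1 (one_mem H) h hh with he | hc
    · exact hne (by rw [← he]; rintro _ ⟨t, ht, rfl⟩; simpa using ht)
    have hTab : ∃ x ∈ ⁅T, T⁆, ∃ y ∈ ⁅T, T⁆, x * y ≠ y * x := by
      by_contra hcon
      push Not at hcon
      apply hT1
      calc ⁅T, T⁆ ≤ ⁅⁅T, T⁆, ⁅T, T⁆⁆ := by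
            conv_lhs => rw [hTT]
            exact commutator_sup_scalars inf_le_right
        _ ≤ scalars ι F := by
            rw [Subgroup.commutator_le]
            intro a ha b hb
            rw [commutatorElement_eq_one_iff_mul_comm.mpr (hcon a ha b hb)]
            exact one_mem _
    have hTa := absIrr_of_nonabelian_normal hp hPa.1 (hTn.commutator hTn) hTab
    apply hTs
    intro t ht
    have hsc : MulAut.conj h t ∈ scalars ι F := mem_scalars_of_absIrr hTa fun x hx =>
      (commute_commutator_of_mod_scalars (fun s hs => hc s ⟨s, hs, by simp⟩ _ ⟨t, ht, rfl⟩) x hx).symm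
    have := (inferInstance : (scalars ι F).Normal).conj_mem _ hsc h⁻¹
    simpa [mul_assoc] using this
  have hne : Nontrivial (P ⧸ (scalars ι F).subgroupOf P) := QuotientGroup.nontrivial_iff.mpr fun e =>
    hcs (Subgroup.subgroupOf_eq_top.mp e)
  refine ⟨fun N hN => ?_⟩
  let K := N.comap (QuotientGroup.mk' ((scalars ι F).subgroupOf P))
  by_cases hKs : K.map P.subtype ≤ scalars ι F
  · left
    rw [eq_bot_iff]
    intro z hz
    obtain ⟨z, rfl⟩ := QuotientGroup.mk'_surjective _ z
    rw [Subgroup.mem_bot, QuotientGroup.mk'_apply, QuotientGroup.eq_one_iff, Subgroup.mem_subgroupOf]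
    exact hKs ⟨z, hz, rfl⟩
  · right
    have hKP := hsub _ (Subgroup.map_subtype_le K) ?_ hKs ?_
    · rw [eq_top_iff]
      intro z _
      obtain ⟨z, rfl⟩ := QuotientGroup.mk'_surjective _ z
      obtain ⟨w, hw, hwz⟩ : (z : GL ι F) ∈ K.map P.subtype := hKP.symm ▸ z.2
      rw [← Subtype.ext hwz]
      exact hw
    · rintro a ha _ ⟨w, hw, rfl⟩
      refine ⟨(⟨a, ha⟩ : P) * w * (⟨a, ha⟩ : P)⁻¹, ?_, ?_⟩
      · exact (hN.comap (QuotientGroup.mk' ((scalars ι F).subgroupOf P))).conj_mem w hw ⟨a, ha⟩
      · simp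
    · intro z hz
      refine ⟨⟨z, hz.1⟩, ?_, rfl⟩
      rw [SetLike.mem_coe, Subgroup.mem_comap]
      convert one_mem N
      exact (QuotientGroup.eq_one_iff _).mpr hz.2

/-- The structure of a subgroup of SL in odd prime dimension. -/
inductive PrimeStructure [Fintype F] (H : Subgroup (GL ι F)) : Prop
  | reducible (h : ¬ ActsIrreducibly (matrixSet H))
  | abelian (hirr : ActsIrreducibly (matrixSet H)) (A : Subgroup (GL ι F)) (hA : A ≤ H) (hn : NormalIn H A)
      (hs : ¬ A ≤ scalars ι F) (hc : ∀ x ∈ A, ∀ y ∈ A, x * y = y * x)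
  | symplectic (M : Subgroup (GL ι F)) (c : F) (hM : M ≤ H) (hn : NormalIn H M)
      (ha : ActsAbsolutelyIrreducibly (matrixSet M)) (hc : ∀ x ∈ M, ∀ y ∈ M, x * y * x⁻¹ * y⁻¹ ∈ scalars ι F)
      (hd : SymplecticData H M c)
  | perfect (P : Subgroup (GL ι F)) (hP : P ≤ H) (hn : NormalIn H P) (ha : ActsAbsolutelyIrreducibly (matrixSet P))
      (hcore : (∀ F₀ : Subfield F, F₀ ≠ ⊤ → ¬ RealisableOver F₀ (matrixSet P)) → IsResidualCore H P)
      (hsymp : ¬ ∃ f : (ι → F) → (ι → F) → F, IsSymplecticForm f ∧ FixesForm (matrixSet P) f)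

theorem prime_structure [Fintype F] (hp : (Fintype.card ι).Prime) (hodd : Odd (Fintype.card ι))
    {H : Subgroup (GL ι F)} (hSL : H ≤ specialLinear ι F) : PrimeStructure H := by
  classical
  haveI : Nonempty ι := Fintype.card_pos_iff.mp hp.pos
  haveI : Nontrivial ι := Fintype.one_lt_card_iff_nontrivial.mp hp.one_lt
  by_cases hirr : ActsIrreducibly (matrixSet H)
  swap
  · exact .reducible hirr
  have hnoscal : ¬ H ≤ scalars ι F := fun h => by
    obtain ⟨i, -, -⟩ := exists_pair_ne ι
    rcases hirr (F ∙ (Pi.single i 1 : ι → F)) (fun s hs => by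
      obtain ⟨g, hg, rfl⟩ := hs
      obtain ⟨a, ha⟩ := (mem_scalars_iff g).mp (h hg)
      rw [map_toLin'_le]
      intro w hw
      change (g : Matrix ι ι F) *ᵥ w ∈ _
      rw [ha, Matrix.smul_mulVec, Matrix.one_mulVec]
      exact Submodule.smul_mem _ _ hw) with hb | ht
    · exact one_ne_zero (congrFun (Submodule.span_singleton_eq_bot.mp hb) i |>.symm.trans (Pi.single_eq_same i 1)).symm
    · have := congrArg (fun W : Submodule F (ι → F) => Module.finrank F W) ht
      simp only [finrank_top, Module.finrank_fintype_fun_eq_card] at this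
      rw [finrank_span_singleton (by simp)] at this
      exact hp.one_lt.ne this
  let Good : Subgroup (GL ι F) → Prop := fun M => M ≤ H ∧ NormalIn H M ∧ H ⊓ scalars ι F ≤ M ∧ ¬ M ≤ scalars ι F
  obtain ⟨M, ⟨hMH, hMn, hZM, hMs⟩, hmin⟩ := exists_minimal_of_wellFoundedLT Good
    ⟨H, le_rfl, normalIn_of_le_self le_rfl, inf_le_left, hnoscal⟩
  have hminimal : ∀ A : Subgroup (GL ι F), A ≤ M → NormalIn H A → ¬ A ≤ scalars ι F → A ⊔ (H ⊓ scalars ι F) = M := by
    intro A hA hAn hAs
    refine le_antisymm (sup_le hA hZM) (hmin ⟨(sup_le hA hZM).trans hMH, hAn.sup (scalars_le_inf_normal H),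
      le_sup_right, fun h => hAs (le_sup_left.trans h)⟩ (sup_le hA hZM))
  by_cases hab : ∀ x ∈ M, ∀ y ∈ M, x * y = y * x
  · exact .abelian hirr M hMH hMn hMs hab
  push Not at hab
  have hMa := absIrr_of_nonabelian_normal hp hirr hMn hab
  by_cases hcs : ⁅M, M⁆ ≤ scalars ι F
  · obtain ⟨c, hD⟩ := symplecticData hp hodd hSL hMH hMn hMa hab
      (fun x hx y hy => hcs (Subgroup.commutator_mem_commutator hx hy)) (fun A hA hAn hAc => by
        by_contra hAs
        obtain ⟨x, hx, y, hy, hxy⟩ := hab
        have hM' : M ≤ Subgroup.centralizer (M : Set (GL ι F)) := by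
          have h1 : A ⊔ (H ⊓ scalars ι F) ≤ Subgroup.centralizer (A : Set (GL ι F)) := sup_le
            (fun a ha => Subgroup.mem_centralizer_iff.mpr fun b hb => hAc b hb a ha)
            (fun z hz => Subgroup.mem_centralizer_iff.mpr fun b _ => (scalars_commute hz.2 b).symm)
          rw [hminimal A hA hAn hAs] at h1
          intro m hm
          refine Subgroup.mem_centralizer_iff.mpr fun b hb => ?_
          have h2 : A ⊔ (H ⊓ scalars ι F) ≤ Subgroup.centralizer {m} := sup_le
            (fun a ha => Subgroup.mem_centralizer_singleton_iff.mpr (Subgroup.mem_centralizer_iff.mp (h1 hm) a ha))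
            (fun z hz => Subgroup.mem_centralizer_singleton_iff.mpr (scalars_commute hz.2 m))
          rw [hminimal A hA hAn hAs] at h2
          exact Subgroup.mem_centralizer_singleton_iff.mp (h2 hb)
        exact hxy (Subgroup.mem_centralizer_iff.mp (hM' hy) x hx))
    exact .symplectic M c hMH hMn hMa (fun x hx y hy => hcs (Subgroup.commutator_mem_commutator hx hy)) hD
  -- the perfect case
  set P := ⁅M, M⁆ with hP
  have hPM : P ≤ M := commutator_self_le M
  have hPn : NormalIn H P := hMn.commutator hMn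
  have hPperf : ⁅P, P⁆ = P := le_antisymm (commutator_self_le P) (by
    conv_lhs => rw [hP, ← hminimal P hPM hPn hcs]
    exact commutator_sup_scalars inf_le_right)
  have hPab : ∃ x ∈ P, ∃ y ∈ P, x * y ≠ y * x := by
    by_contra hcon
    push Not at hcon
    apply hcs
    rw [← hPperf, Subgroup.commutator_le]
    intro a ha b hb
    rw [commutatorElement_eq_one_iff_mul_comm.mpr (hcon a ha b hb)]
    exact one_mem _
  have hPa := absIrr_of_nonabelian_normal hp hirr hPn hPab
  have hPnscal : ¬ ⁅P, P⁆ ≤ scalars ι F := hPperf.symm ▸ hcs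
  refine .perfect P (hPM.trans hMH) hPn hPa
    (fun hreal => ⟨hPM.trans hMH, hPn, hPperf, ?_, ?_, ?_, hPa, hreal⟩) ?_
  · exact isSimpleGroup_socle hp hminimal hPM hPn hP hPa hPnscal
  · intro hcomm
    apply hPnscal
    rw [Subgroup.commutator_le]
    intro a ha b hb
    have e := hcomm.is_comm.comm (QuotientGroup.mk' ((scalars ι F).subgroupOf P) ⟨a, ha⟩) (QuotientGroup.mk' _ ⟨b, hb⟩)
    rw [← commutatorElement_eq_one_iff_mul_comm, ← map_commutatorElement, QuotientGroup.mk'_apply, QuotientGroup.eq_one_iff] at e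
    exact e
  · intro g hg hsc
    refine mem_scalars_of_absIrr hPa fun x hx => ?_
    refine (commute_commutator_of_mod_scalars (A := P) (y := g) (fun a ha => ?_) x (hPperf.symm ▸ hx)).symm
    have := inv_mem (hsc a ha)
    simpa [mul_assoc] using this
  · rintro ⟨f, hf, -⟩
    exact not_nondegenerate_alternating_of_odd hodd hf.bilinear hf.skew hf.alternating hf.nondegenerate

end Cfsg.Agent.Classical
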