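/-
Aschbacher's theorem for the special linear group in odd prime dimension.
-/
import Cfsg.Agent.Lib.Classical.PrimeStructure

set_option autoImplicit false
set_option linter.style.haveILetI false

namespace Cfsg.Agent.Classical

open Matrix Cfsg.Geo
open scoped commutatorElement

variable {ι : Type} [Fintype ι] [DecidableEq ι] {F : Type*} [Field F]

/-- Where a subgroup of the special linear group in odd prime dimension lies. -/
inductive PrimeOutcome [Fintype F] (H : Subgroup (GL ι F)) : Prop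
  | subspace (W : Submodule F (ι → F)) (h0 : W ≠ ⊥) (h1 : W ≠ ⊤) (h : H ≤ subspaceStabilizer W)
  | monomial (D : Fin (Fintype.card ι) → Submodule F (ι → F)) (hD : IsMDecomposition 1 D)
      (h : H ≤ decompositionStabilizer D)
  | field (K : Subalgebra F (Matrix ι ι F)) (hK : IsFieldSubalgebra (Fintype.card ι) K)
      (h : H ≤ subalgebraNormalizer K)
  | subfield (F₀ : Subfield F) (r : ℕ) (P : GL ι F) (hr : r.Prime) (hc : Fintype.card F = Nat.card F₀ ^ r)
      (h : H ≤ subfieldSubgroup F₀ P)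
  | symplecticType (R : Subgroup (GL ι F)) (hR : IsLinearSymplecticTypeData (Fintype.card ι) R)
      (hcard : Nat.card R = Fintype.card ι ^ 3) (h : H ≤ subgroupNormalizer R)
  | quadratic (hq : Odd (Fintype.card F)) (Q : (ι → F) → F) (hQ : IsNondegenerateQuadraticForm Q)
      (h : H ≤ quadSimilarityGroup Q)
  | unitary (σ : F ≃+* F) (f : (ι → F) → (ι → F) → F) (hf : IsUnitaryForm σ f) (h : H ≤ similarityGroup f)
  | residual (h : InLinearResidualClass H)

theorem zmod_pow_eq_one_iff {n p d : ℕ} (hp : 0 < p) : (p : ZMod n) ^ d = 1 ↔ n ∣ p ^ d - 1 := by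
  rw [← Nat.cast_pow, ← Nat.cast_one, ZMod.natCast_eq_natCast_iff, Nat.ModEq.comm,
    Nat.modEq_iff_dvd' (Nat.one_le_pow _ _ hp)]

/-- A basis in which the two generators are diagonal and a permutation matrix. -/
theorem exists_monomial_basis [Fintype F] (hp : (Fintype.card ι).Prime) {x y : GL ι F} {c : F}
    (hc : IsPrimitiveRoot c (Fintype.card ι)) (hnF : (Fintype.card ι : F) ≠ 0)
    (hx : x ^ Fintype.card ι = 1) (hy : y ^ Fintype.card ι = 1)
    (hxy : (x : Matrix ι ι F) * (y : Matrix ι ι F) = c • ((y : Matrix ι ι F) * (x : Matrix ι ι F))) :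
    ∃ (B : GL ι F) (e : ι → ℕ) (σ : Equiv.Perm ι),
      ((B * x * B⁻¹ : GL ι F) : Matrix ι ι F) = Matrix.diagonal (fun i => c ^ e i) ∧
      ((B * y * B⁻¹ : GL ι F) : Matrix ι ι F) = fun k i => if k = σ i then 1 else 0 := by
  classical
  set n := Fintype.card ι with hn
  haveI : NeZero n := ⟨hp.ne_zero⟩
  set X := (x : Matrix ι ι F) with hX
  set Y := (y : Matrix ι ι F) with hY
  -- an eigenvector
  obtain ⟨j, u, hu⟩ : ∃ (j : ℕ) (u : ι → F), (∑ i ∈ Finset.range n, (c⁻¹ ^ i) ^ j • X ^ i) *ᵥ u ≠ 0 := by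
    by_contra hcon
    push Not at hcon
    obtain ⟨i₀⟩ : Nonempty ι := Fintype.card_pos_iff.mp hp.pos
    have h : ∀ j, ∑ i ∈ Finset.range n, (c⁻¹ ^ i) ^ j • X ^ i = 0 := fun j =>
      Matrix.toLin'.injective (LinearMap.ext fun u => by
        rw [Matrix.toLin'_apply, map_zero, LinearMap.zero_apply]; exact hcon j u)
    have hsum : ∑ i ∈ Finset.range n, (∑ j ∈ Finset.range n, (c⁻¹ ^ i) ^ j) • X ^ i = 0 := by
      simp only [Finset.sum_smul]
      rw [Finset.sum_comm]
      exact Finset.sum_eq_zero fun j _ => h j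
    rw [Finset.sum_eq_single_of_mem 0 (Finset.mem_range.mpr hp.pos)] at hsum
    · simp only [pow_zero, one_pow, Finset.sum_const, Finset.card_range, nsmul_eq_mul, mul_one, smul_eq_zero] at hsum
      rcases hsum with h' | h'
      · exact hnF h'
      · exact one_ne_zero ((Matrix.one_apply_eq i₀).symm.trans (congrFun (congrFun h' i₀) i₀))
    · intro i hi hne
      have hne1 : c⁻¹ ^ i ≠ 1 := hc.inv.pow_ne_one_of_pos_of_lt hne (Finset.mem_range.mp hi)
      rw [geom_sum_eq hne1, ← pow_mul, mul_comm i n, pow_mul, hc.inv.pow_eq_one, one_pow, sub_self, zero_div, zero_smul]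
  have hXn : X ^ n = 1 := by rw [hX, ← Units.val_pow_eq_pow_val, hx, Units.val_one]
  have hYn : Y ^ n = 1 := by rw [hY, ← Units.val_pow_eq_pow_val, hy, Units.val_one]
  have hc0 : c ≠ 0 := hc.ne_zero hp.ne_zero
  set v := (∑ i ∈ Finset.range n, (c⁻¹ ^ i) ^ j • X ^ i) *ᵥ u with hv
  have hXv : X *ᵥ v = c ^ j • v := by
    rw [hv, Matrix.mulVec_mulVec, ← Matrix.smul_mulVec]
    congr 1
    rw [Finset.mul_sum, Finset.smul_sum]
    let t : ℕ → Matrix ι ι F := fun i => (c ^ j * (c⁻¹ ^ i) ^ j) • X ^ i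
    calc ∑ i ∈ Finset.range n, X * ((c⁻¹ ^ i) ^ j • X ^ i) = ∑ i ∈ Finset.range n, t (i + 1) := by
          refine Finset.sum_congr rfl fun i _ => ?_
          simp only [t]
          rw [Matrix.mul_smul, ← pow_succ', pow_succ c⁻¹ i, mul_pow, inv_pow c j]
          congr 1
          field_simp
      _ = ∑ i ∈ Finset.range n, t i := by
          have h1 := Finset.sum_range_succ t n
          rw [Finset.sum_range_succ'] at h1
          have : t n = t 0 := by simp only [t, hXn, hc.inv.pow_eq_one, pow_zero]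
          rw [this] at h1
          exact add_right_cancel h1
      _ = _ := Finset.sum_congr rfl fun i _ => by simp only [t, smul_smul]
  have hXY : ∀ k, X * Y ^ k = c ^ k • (Y ^ k * X) := fun k => twisted_pow hxy k
  -- an eigenvector of eigenvalue one
  obtain ⟨k, hk⟩ : ∃ k, c ^ k * c ^ j = 1 := ⟨(n - 1) * j, by
    rw [← pow_add, show (n - 1) * j + j = n * j by
      rw [← Nat.succ_mul]; congr 1; have := hp.pos; omega, pow_mul, hc.pow_eq_one, one_pow]⟩
  set w := Y ^ k *ᵥ v with hw
  have hYkinj : ∀ m, Function.Injective fun z => Y ^ m *ᵥ z := fun m => by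
    simpa [hY, ← Units.val_pow_eq_pow_val] using gl_mulVec_injective (y ^ m)
  have hw0 : w ≠ 0 := fun e => hu (hYkinj k (by simpa using e))
  have hXw : X *ᵥ w = w := by
    rw [hw, Matrix.mulVec_mulVec, hXY, Matrix.smul_mulVec, ← Matrix.mulVec_mulVec, hXv, Matrix.mulVec_smul,
      smul_smul, hk, one_smul]
  let ε := Fintype.equivFin ι
  let b : ι → (ι → F) := fun i => Y ^ (ε i : ℕ) *ᵥ w
  have hXb : ∀ i, X *ᵥ b i = c ^ (ε i : ℕ) • b i := fun i => by
    rw [Matrix.mulVec_mulVec, hXY, Matrix.smul_mulVec, ← Matrix.mulVec_mulVec, hXw]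
  have hli : LinearIndependent F b := by
    refine Module.End.eigenvectors_linearIndependent' (Matrix.toLin' X) (fun i => c ^ (ε i : ℕ)) ?_ b fun i => ⟨?_, ?_⟩
    · exact fun i i' h => ε.injective (Fin.ext (hc.pow_inj (ε i).2 (ε i').2 h))
    · rw [Module.End.mem_eigenspace_iff]; simpa using hXb i
    · exact fun e => hw0 (hYkinj _ (by simpa [b] using e))
  let V : Matrix ι ι F := fun k i => b i k
  have hV : IsUnit V := Matrix.linearIndependent_cols_iff_isUnit.mp hli
  let σ : Equiv.Perm ι := (ε.trans (finRotate n)).trans ε.symm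
  have hσ : ∀ i, Y *ᵥ b i = b (σ i) := by
    intro i
    simp only [b]
    rw [Matrix.mulVec_mulVec, ← pow_succ']
    congr 1
    simp only [σ, Equiv.trans_apply, Equiv.apply_symm_apply]
    rw [finRotate_apply, Fin.val_add]
    conv_lhs => rw [← Nat.mod_add_div ((ε i : ℕ) + 1) n, pow_add, pow_mul, hYn, one_pow, mul_one]
    congr 1
    rw [Fin.val_one', Nat.mod_eq_of_lt hp.one_lt]
  have h1 : X * V = V * Matrix.diagonal (fun i => c ^ (ε i : ℕ)) := by
    ext a i
    rw [Matrix.mul_diagonal, Matrix.mul_apply]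
    simpa [V, Matrix.mulVec, dotProduct, mul_comm] using congrFun (hXb i) a
  have h2 : Y * V = V * Matrix.of (fun k i => if k = σ i then (1 : F) else 0) := by
    ext a i
    rw [Matrix.mul_apply, Matrix.mul_apply]
    simpa [V, Matrix.mulVec, dotProduct] using congrFun (hσ i) a
  refine ⟨hV.unit⁻¹, fun i => (ε i : ℕ), σ, ?_, ?_⟩
  · rw [inv_inv, Units.val_mul, Units.val_mul, Matrix.mul_assoc, IsUnit.unit_spec, h1, ← Matrix.mul_assoc,
      IsUnit.val_inv_mul, Matrix.one_mul]
  · rw [inv_inv, Units.val_mul, Units.val_mul, Matrix.mul_assoc, IsUnit.unit_spec, h2, ← Matrix.mul_assoc,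
      IsUnit.val_inv_mul, Matrix.one_mul]
    rfl

/-- With a small multiplicative order of `p` the group is realised over a proper subfield. -/
theorem realisable_of_symplecticData [Fintype F] (hp : (Fintype.card ι).Prime) {H M : Subgroup (GL ι F)} {c : F}
    (hD : SymplecticData H M c) {p e : ℕ} [CharP F p] (hpp : p.Prime) (hce : Fintype.card F = p ^ e) (he : 0 < e)
    (hlt : orderOf (p : ZMod (Fintype.card ι)) < e) :
    ∃ F₀ : Subfield F, F₀ ≠ ⊤ ∧ RealisableOver F₀ (matrixSet M) := by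
  classical
  haveI : Fact (Fintype.card ι).Prime := ⟨hp⟩
  set n := Fintype.card ι with hn
  obtain ⟨x, -, y, -, hxy, hgen, hxn, hyn⟩ := hD.gens
  obtain ⟨B, ex, σ, hBx, hBy⟩ := exists_monomial_basis hp hD.prim hD.natCast_ne hxn hyn hxy
  have hc0 : c ≠ 0 := hD.prim.ne_zero hp.ne_zero
  set P : ZMod n := (p : ZMod n) with hP
  have hde : orderOf P ∣ e := orderOf_dvd_of_pow_eq_one ((zmod_pow_eq_one_iff hpp.pos).mpr
    (hD.prim.dvd_of_pow_eq_one _ (hce ▸ FiniteField.pow_card_sub_one_eq_one c hc0)))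
  have hdpos : 0 < orderOf P := Nat.pos_of_dvd_of_pos hde he
  obtain ⟨F₀, hF₀c, hF₀⟩ := exists_subfield_pow hpp hce hde hdpos
  have hcF₀ : c ∈ F₀ := (hF₀ c).mpr (by
    obtain ⟨k, hk⟩ := (zmod_pow_eq_one_iff hpp.pos).mp (pow_orderOf_eq_one P)
    calc c ^ p ^ orderOf P = c ^ (n * k + 1) := by
          congr 1; have := Nat.one_le_pow (orderOf P) p hpp.pos; omega
      _ = c := by rw [pow_succ, pow_mul, hD.prim.pow_eq_one, one_pow, one_mul])
  have hne' : F₀ ≠ ⊤ := by
    intro h
    have : Nat.card F₀ = Fintype.card F := by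
      rw [← Nat.card_eq_fintype_card]
      exact Nat.card_congr (Equiv.subtypeUnivEquiv fun z => h ▸ Subfield.mem_top z)
    rw [hF₀c, hce] at this
    exact hlt.ne (Nat.pow_right_injective hpp.two_le this)
  have hreal : RealisableOver F₀ (matrixSet M) := by
    refine ⟨B, ?_⟩
    rintro _ ⟨g, hg, rfl⟩ i j
    let S := ((Matrix.GeneralLinearGroup.map (F₀.subtype : F₀ →+* F)).range).comap (MulAut.conj B).toMonoidHom
    have hMS : M ≤ S := by
      rw [← hgen, Subgroup.closure_le]
      rintro z (rfl | rfl)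
      · refine mem_range_map_subfield fun i j => ?_
        change ((B * z * B⁻¹ : GL ι F) : Matrix ι ι F) i j ∈ F₀
        rw [hBx, Matrix.diagonal_apply]
        split
        · exact pow_mem hcF₀ _
        · exact zero_mem _
      · refine mem_range_map_subfield fun i j => ?_
        change ((B * z * B⁻¹ : GL ι F) : Matrix ι ι F) i j ∈ F₀
        rw [hBy]
        dsimp only
        split
        · exact one_mem _
        · exact zero_mem _
    exact range_map_subfield_entries (hMS hg) i j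
  exact ⟨F₀, hne', hreal⟩

theorem outcome_of_symplecticData [Fintype F] (hp : (Fintype.card ι).Prime) (hodd : Odd (Fintype.card ι))
    {H M : Subgroup (GL ι F)} {c : F} (hnorm : NormalIn H M) (hM : ActsAbsolutelyIrreducibly (matrixSet M))
    (hD : SymplecticData H M c) : PrimeOutcome H := by
  classical
  haveI : Fact (Fintype.card ι).Prime := ⟨hp⟩
  haveI : Nonempty ι := Fintype.card_pos_iff.mp hp.pos
  set n := Fintype.card ι with hn
  obtain ⟨x, -, y, -, hxy, hgen, hxn, hyn⟩ := hD.gens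
  obtain ⟨B, ex, σ, hBx, hBy⟩ := exists_monomial_basis hp hD.prim hD.natCast_ne hxn hyn hxy
  obtain ⟨p, hchar⟩ := CharP.exists F
  obtain ⟨⟨e, he⟩, hpp, hce⟩ := FiniteField.card F p
  change Fintype.card F = p ^ e at hce
  have hc0 : c ≠ 0 := hD.prim.ne_zero hp.ne_zero
  have hne : n ≠ p := fun h => hD.natCast_ne (by change (n : F) = 0; rw [h]; exact CharP.cast_eq_zero F p)
  have hcF : c ^ (p ^ e - 1) = 1 := hce ▸ FiniteField.pow_card_sub_one_eq_one c hc0
  have hdvd : n ∣ p ^ e - 1 := hD.prim.dvd_of_pow_eq_one _ hcF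
  set P : ZMod n := (p : ZMod n) with hP
  have hPe : P ^ e = 1 := (zmod_pow_eq_one_iff hpp.pos).mpr hdvd
  have hde : orderOf P ∣ e := orderOf_dvd_of_pow_eq_one hPe
  by_cases hlt : orderOf P < e
  · -- realised over a proper subfield
    obtain ⟨F₀, hne', hreal⟩ := realisable_of_symplecticData hp hD hpp hce he hlt
    obtain ⟨F₁, r, P₁, hr, hcard, hle⟩ := le_subfieldSubgroup_of_normal hnorm hM hne' hreal
    exact .subfield F₁ r P₁ hr hcard hle
  have hord : orderOf P = e := le_antisymm (Nat.le_of_dvd he hde) (Nat.not_lt.mp hlt)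
  rcases Nat.even_or_odd e with heven | hoe
  swap
  · -- symplectic type
    refine .symplecticType M ⟨hD.type, hM, p, e, hne, ⟨hpp, hchar, hce, ?_, ?_⟩, Or.inl ⟨hodd, hoe, hD.card_center, 1, le_rfl, hD.card_eq⟩⟩ hD.card_eq hnorm.le_normalizer
    · rwa [hD.card_center]
    · intro d hd0 hde' hdd
      rw [hD.card_center] at hdd
      exact absurd (Nat.le_of_dvd hd0 (orderOf_dvd_of_pow_eq_one ((zmod_pow_eq_one_iff hpp.pos).mpr hdd))) (by rw [hord]; omega)
  -- unitary
  obtain ⟨e', rfl⟩ := heven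
  haveI : ExpChar F p := ExpChar.prime hpp
  let τ : F ≃+* F := iterateFrobeniusEquiv F p e'
  have hτ : ∀ z, τ z = z ^ p ^ e' := fun z => iterateFrobeniusEquiv_def F p e' z
  have hτc : τ c = c⁻¹ := by
    have h1 : P ^ e' = -1 := by
      refine ((sq_eq_one_iff (a := P ^ e')).mp (by rw [← pow_mul, mul_two, hPe])).resolve_left fun h => ?_
      have := Nat.le_of_dvd (by omega) (orderOf_dvd_of_pow_eq_one h)
      omega
    have h2 : n ∣ p ^ e' + 1 := by
      rw [← ZMod.natCast_eq_zero_iff]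
      push_cast
      rw [← hP, h1, neg_add_cancel]
    obtain ⟨k, hk⟩ := h2
    rw [hτ]
    exact eq_inv_of_mul_eq_one_left (by rw [← pow_succ, hk, pow_mul, hD.prim.pow_eq_one, one_pow])
  have hinv : ∀ z, τ (τ z) = z := fun z => by
    rw [hτ, hτ, ← pow_mul, ← pow_add, ← hce]; exact FiniteField.pow_card z
  let f : (ι → F) → (ι → F) → F := fun u v => ∑ i, ((B : Matrix ι ι F) *ᵥ u) i * τ (((B : Matrix ι ι F) *ᵥ v) i)
  have hf : IsUnitaryForm τ f := by
    refine ⟨fun h => ?_, hinv, fun a b v => ?_, fun d a v => ?_, fun a b => ?_, fun v hv => ?_⟩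
    · have h1 : c = c⁻¹ := by rw [← hτc, h]; rfl
      have h2 : c ^ 2 = 1 := by rw [pow_two]; nth_rewrite 2 [h1]; exact mul_inv_cancel₀ hc0
      exact (Nat.le_of_dvd two_pos (hD.prim.dvd_of_pow_eq_one 2 h2)).not_gt
        (lt_of_le_of_ne hp.two_le fun h2' => absurd (h2'.symm ▸ hodd : Odd 2) (by decide))
    · simp [f, Matrix.mulVec_add, add_mul, Finset.sum_add_distrib]
    · simp [f, Matrix.mulVec_smul, Finset.mul_sum, mul_assoc]
    · simp [f, map_sum, hinv, mul_comm]
    · obtain ⟨i, hi⟩ : ∃ i, ((B : Matrix ι ι F) *ᵥ v) i ≠ 0 :=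
        Function.ne_iff.mp fun e => hv (gl_mulVec_injective B (e.trans (Matrix.mulVec_zero _).symm))
      refine ⟨⟨((B⁻¹ : GL ι F) : Matrix ι ι F) *ᵥ Pi.single i 1, ?_⟩, ⟨((B⁻¹ : GL ι F) : Matrix ι ι F) *ᵥ Pi.single i 1, ?_⟩⟩ <;>
        simp only [f, gl_mulVec_inv_cancel] <;>
        rw [Finset.sum_eq_single i (fun k _ hk => by simp [hk]) (by simp)] <;> simp [hi]
  have hfix : FixesForm (matrixSet M) f := by
    rintro _ ⟨g, hg, rfl⟩
    rw [SetLike.mem_coe, ← hgen] at hg
    have hconj : ∀ (z : GL ι F) (u : ι → F), (B : Matrix ι ι F) *ᵥ ((z : Matrix ι ι F) *ᵥ u) =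
        ((B * z * B⁻¹ : GL ι F) : Matrix ι ι F) *ᵥ ((B : Matrix ι ι F) *ᵥ u) := fun z u => by
      rw [← gl_mul_mulVec, ← gl_mul_mulVec, inv_mul_cancel_right]
    induction hg using Subgroup.closure_induction with
    | mem z hz =>
      intro u v
      rcases hz with rfl | rfl
      · simp only [f, hconj z, hBx, Matrix.mulVec_diagonal, map_mul, map_pow, hτc]
        refine Finset.sum_congr rfl fun i _ => ?_
        rw [inv_pow]
        field_simp
      · simp only [f, hconj z, hBy]
        rw [← Equiv.sum_comp σ]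
        simp [Matrix.mulVec, dotProduct]
    | one => intro u v; simp
    | mul a b _ _ ha hb => intro u v; simp only [gl_mul_mulVec, ha, hb]
    | inv a _ ha =>
      intro u v
      rw [← ha, gl_mulVec_inv_cancel, gl_mulVec_inv_cancel]
  exact .unitary τ f hf fun g hg =>
    mem_similarityGroup_of_normalizes τ (semiForm_of_unitary hf) hf.nondegenerate hM hfix (hnorm g hg)

theorem aschbacher_prime [Fintype F] (hp : (Fintype.card ι).Prime) (hodd : Odd (Fintype.card ι))
    {H : Subgroup (GL ι F)} (hSL : H ≤ specialLinear ι F) : PrimeOutcome H := by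
  classical
  haveI : Nonempty ι := Fintype.card_pos_iff.mp hp.pos
  cases prime_structure hp hodd hSL with
  | reducible h =>
    obtain ⟨W, h0, h1, h⟩ := (not_actsIrreducibly_iff H).mp h
    exact .subspace W h0 h1 h
  | abelian hirr A hA hn hs hc =>
    rcases abelian_normal_cases hp hirr hn hc with h | ⟨D, hD, h⟩ | ⟨K, hK, h⟩
    · exact absurd h hs
    · exact .monomial D hD h
    · exact .field K hK h
  | symplectic M c hM hn ha hc hd => exact outcome_of_symplecticData hp hodd hn ha hd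
  | perfect P hP hPn hPa hcore hsymp =>
    by_cases hreal : ∃ F₀ : Subfield F, F₀ ≠ ⊤ ∧ RealisableOver F₀ (matrixSet P)
    · obtain ⟨F₀, h0, hr⟩ := hreal
      obtain ⟨F₁, r, P₁, hr', hcard, hle⟩ := le_subfieldSubgroup_of_normal hPn hPa h0 hr
      exact .subfield F₁ r P₁ hr' hcard hle
    by_cases hquad : ∃ Q : (ι → F) → F, IsNondegenerateQuadraticForm Q ∧ FixesQuadForm (matrixSet P) Q
    · obtain ⟨Q, hQ, hfix⟩ := hquad
      have h2 : (2 : F) ≠ 0 := fun h2 => not_quadForm_of_char_two hodd h2 hQ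
      refine .quadratic ?_ Q hQ fun g hg => mem_quadSimilarityGroup_of_normalizes hQ h2 hPa hfix (hPn g hg)
      exact Nat.odd_iff.mpr (FiniteField.odd_card_of_char_ne_two (F := F) fun h => h2 (by
        haveI := ringChar.charP F
        exact_mod_cast (CharP.cast_eq_zero_iff F (ringChar F) 2).mpr (by rw [h])))
    by_cases hunit : ∃ (σ : F ≃+* F) (f : (ι → F) → (ι → F) → F), IsUnitaryForm σ f ∧ FixesForm (matrixSet P) f
    · obtain ⟨σ, f, hf, hfix⟩ := hunit
      exact .unitary σ f hf fun g hg =>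
        mem_similarityGroup_of_normalizes σ (semiForm_of_unitary hf) hf.nondegenerate hPa hfix (hPn g hg)
    exact .residual ⟨P, hcore fun F₀ h0 hr => hreal ⟨F₀, h0, hr⟩, hquad, hsymp, hunit⟩

end Cfsg.Agent.Classical
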