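/-
The special linear group is in no member of the geometric classes; maximal subgroups of SL in odd prime
dimension.
-/
import Cfsg.Agent.Lib.Classical.AschbacherPrime

set_option autoImplicit false
set_option linter.style.haveILetI false

namespace Cfsg.Agent.Classical

open Matrix Cfsg.Geo
open scoped commutatorElement

variable {ι : Type} [Fintype ι] [DecidableEq ι] {F : Type*} [Field F]

theorem eq_inf_of_maximal {H X : Subgroup (GL ι F)} (hH : IsMaximalIn (specialLinear ι F) H) (hle : H ≤ X)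
    (hX : ¬ specialLinear ι F ≤ X) : H = X ⊓ specialLinear ι F :=
  ((hH.2 (X ⊓ specialLinear ι F) (le_inf hle hH.1.le) inf_le_right).resolve_right
    fun h => hX (h ▸ inf_le_left)).symm

theorem specialLinear_normal : (specialLinear ι F).Normal := MonoidHom.normal_ker _

theorem not_specialLinear_le_subspaceStabilizer [Nontrivial ι] {W : Submodule F (ι → F)} (h0 : W ≠ ⊥)
    (h1 : W ≠ ⊤) : ¬ specialLinear ι F ≤ subspaceStabilizer W := by
  intro h
  obtain ⟨v, hv, hv0⟩ := Submodule.exists_mem_ne_zero_of_ne_bot h0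
  obtain ⟨j, hj⟩ := Function.ne_iff.mp hv0
  rw [Pi.zero_apply] at hj
  have step : ∀ (i k : ι) (u : ι → F), i ≠ k → u ∈ W → u k ≠ 0 → Pi.single i (1 : F) ∈ W := by
    intro i k u hik hu huk
    have := mem_subspaceStabilizer_iff.mp (h (transGL_mem hik (u k)⁻¹)) u hu
    rw [transGL_mulVec, inv_mul_cancel₀ huk] at this
    simpa using sub_mem this hu
  have hne : ∀ i, i ≠ j → Pi.single i (1 : F) ∈ W := fun i hi => step i j v hi hv hj
  apply h1
  rw [eq_top_iff]
  intro u _
  rw [pi_eq_sum_univ' u]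
  refine Submodule.sum_mem _ fun i _ => Submodule.smul_mem _ _ ?_
  by_cases hi : i = j
  · obtain ⟨k, hk⟩ := exists_ne j
    subst hi
    exact step i k (Pi.single k 1) hk.symm (hne k hk) (by simp)
  · exact hne i hi

/-- Coordinates adapted to a decomposition into lines: a monomial group. -/
theorem exists_monomial_coords {D : Fin (Fintype.card ι) → Submodule F (ι → F)} (hD : IsMDecomposition 1 D) :
    ∃ (B : GL ι F) (ε : ι ≃ Fin (Fintype.card ι)),
      (∀ i, D (ε i) = F ∙ (((B⁻¹ : GL ι F) : Matrix ι ι F) *ᵥ Pi.single i 1)) ∧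
      ∀ g ∈ decompositionStabilizer D, ∃ (π : Equiv.Perm ι) (a : ι → F), (∀ i, a i ≠ 0) ∧
        ∀ (u : ι → F) (i : ι), ((B : Matrix ι ι F) *ᵥ ((g : Matrix ι ι F) *ᵥ u)) (π i) =
          a i * ((B : Matrix ι ι F) *ᵥ u) i := by
  classical
  let ε := Fintype.equivFin ι
  have hb : ∀ i, ∃ v : ι → F, v ≠ 0 ∧ D (ε i) = F ∙ v := fun i => by
    obtain ⟨v, hv0, hv⟩ := finrank_eq_one_iff'.mp (hD.finrank_eq (ε i))
    refine ⟨v, fun e => hv0 (Subtype.ext e), le_antisymm (fun w hw => ?_) ((Submodule.span_singleton_le_iff_mem _ _).mpr v.2)⟩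
    obtain ⟨c, hc⟩ := hv ⟨w, hw⟩
    exact Submodule.mem_span_singleton.mpr ⟨c, congrArg Subtype.val hc⟩
  choose v hv0 hv using hb
  have hli : LinearIndependent F v :=
    (hD.indep.comp ε.injective).linearIndependent _ (fun i => by rw [Function.comp_apply, hv]; exact Submodule.mem_span_singleton_self _) hv0
  let V : Matrix ι ι F := fun k i => v i k
  have hV : IsUnit V := Matrix.linearIndependent_cols_iff_isUnit.mp hli
  have hcol : ∀ i, V *ᵥ Pi.single i 1 = v i := fun i => by rw [Matrix.mulVec_single_one]; rfl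
  refine ⟨hV.unit⁻¹, ε, fun i => by rw [inv_inv, IsUnit.unit_spec, hcol, hv], fun g hg => ?_⟩
  obtain ⟨σ, hσ⟩ := hg
  let π : Equiv.Perm ι := (ε.trans σ).trans ε.symm
  have hgv : ∀ i, ∃ a : F, a • v (π i) = (g : Matrix ι ι F) *ᵥ v i := fun i => by
    apply Submodule.mem_span_singleton.mp
    rw [← hv, show ε (π i) = σ (ε i) by simp [π], ← hσ]
    exact ⟨v i, hv i ▸ Submodule.mem_span_singleton_self _, rfl⟩
  choose a ha using hgv
  refine ⟨π, a, fun i e => hv0 i (gl_mulVec_injective g ?_), fun u i => ?_⟩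
  · simp [← ha, e]
  set B : Matrix ι ι F := ((hV.unit⁻¹ : GL ι F) : Matrix ι ι F) with hB
  have hu : u = ∑ k, (B *ᵥ u) k • v k := by
    have : V *ᵥ (B *ᵥ u) = u := by rw [hB, Matrix.mulVec_mulVec, IsUnit.mul_val_inv, Matrix.one_mulVec]
    conv_lhs => rw [← this, pi_eq_sum_univ' (B *ᵥ u), Matrix.mulVec_sum]
    simp [Matrix.mulVec_smul, hcol]
  have hBv : ∀ k, B *ᵥ v k = Pi.single k 1 := fun k => by
    rw [← hcol, hB, Matrix.mulVec_mulVec, IsUnit.val_inv_mul, Matrix.one_mulVec]
  conv_lhs => rw [hu]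
  simp only [Matrix.mulVec_sum, Matrix.mulVec_smul, ← ha, hBv, Finset.sum_apply, Pi.smul_apply, smul_eq_mul,
    Pi.single_apply, π.injective.eq_iff]
  simp [mul_comm]

theorem not_specialLinear_le_decompositionStabilizer {D : Fin (Fintype.card ι) → Submodule F (ι → F)}
    (hD : IsMDecomposition 1 D) : ¬ specialLinear ι F ≤ decompositionStabilizer D := by
  classical
  obtain ⟨B, ε, -, hg⟩ := exists_monomial_coords hD
  obtain ⟨i, j, hij⟩ := Fintype.one_lt_card_iff.mp (show 1 < Fintype.card ι from hD.two_le)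
  intro h
  obtain ⟨π, a, ha, hπ⟩ := hg (B⁻¹ * transGL hij 1 * B⁻¹⁻¹) (h (specialLinear_normal.conj_mem _ (transGL_mem hij 1) B⁻¹))
  have key : ∀ u, (B : Matrix ι ι F) *ᵥ (((B⁻¹ * transGL hij 1 * B⁻¹⁻¹ : GL ι F) : Matrix ι ι F) *ᵥ u) =
      (B : Matrix ι ι F) *ᵥ u + Pi.single i (((B : Matrix ι ι F) *ᵥ u) j) := fun u => by
    rw [inv_inv, gl_mul_mulVec, gl_mul_mulVec, gl_mulVec_inv_cancel, transGL_mulVec, one_mul]
  have h1 := hπ (((B⁻¹ : GL ι F) : Matrix ι ι F) *ᵥ Pi.single j 1)
  simp only [key, gl_mulVec_inv_cancel, Pi.single_eq_same] at h1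
  have ei := h1 (π.symm i)
  have ej := h1 (π.symm j)
  simp only [Equiv.apply_symm_apply, Pi.add_apply, Pi.single_eq_same, Pi.single_eq_of_ne hij,
    Pi.single_eq_of_ne hij.symm, zero_add, add_zero] at ei ej
  have hi : π.symm i = j := by
    by_contra hne
    rw [Pi.single_eq_of_ne hne, mul_zero] at ei
    exact one_ne_zero ei
  have hj : π.symm j = j := by
    by_contra hne
    rw [Pi.single_eq_of_ne hne, mul_zero] at ej
    exact one_ne_zero ej
  exact hij (π.symm.injective (hi.trans hj.symm))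

theorem mem_scalar_of_commute_transvections [Nontrivial ι] {M : Matrix ι ι F}
    (h : ∀ (i j : ι) (hij : i ≠ j), Commute (transGL hij (1 : F) : Matrix ι ι F) M) :
    ∃ c : F, M = c • (1 : Matrix ι ι F) := by
  obtain ⟨c, hc⟩ := Matrix.mem_range_scalar_of_commute_single (M := M) fun i j hij => by
    have := h i j hij
    rw [transGL_coe, Matrix.transvection] at this
    have h2 := this.eq
    rw [Matrix.add_mul, Matrix.mul_add, Matrix.one_mul, Matrix.mul_one] at h2
    exact add_left_cancel h2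
  exact ⟨c, by rw [← hc]; simp [Matrix.smul_one_eq_diagonal]⟩

theorem fieldSubalgebra_normalizer_commutator [Finite F] [Nonempty ι] {r : ℕ} {K : Subalgebra F (Matrix ι ι F)}
    (hK : IsFieldSubalgebra r K) {g h : GL ι F} (hg : g ∈ subalgebraNormalizer K) (hh : h ∈ subalgebraNormalizer K) :
    ∀ k ∈ K, Commute ((⁅g, h⁆ : GL ι F) : Matrix ι ι F) k := by
  classical
  haveI : Finite K := Finite.of_injective _ Subtype.val_injective
  letI : CommRing K := { K.toRing with mul_comm := fun a b => Subtype.ext (hK.comm a a.2 b b.2) }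
  haveI : Nontrivial K := ⟨⟨0, 1, fun e => zero_ne_one (congrArg Subtype.val e)⟩⟩
  have hunit : ∀ a : K, a ≠ 0 → IsUnit a := fun a ha => by
    obtain ⟨y, hy, hay⟩ := hK.inv a a.2 (fun e => ha (Subtype.ext e))
    exact IsUnit.of_mul_eq_one (⟨y, hy⟩ : K) (Subtype.ext hay)
  haveI : NoZeroDivisors K := ⟨fun {a b} hab => by
    by_contra hne
    rw [not_or] at hne
    exact hne.2 ((hunit a hne.1).mul_right_eq_zero.mp hab)⟩
  haveI : IsDomain K := NoZeroDivisors.to_isDomain _
  obtain ⟨ω, hω⟩ := IsCyclic.exists_generator (α := Kˣ)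
  set w : Matrix ι ι F := ((ω : K) : Matrix ι ι F) with hw
  have hpow : ∀ k ∈ K, k ≠ 0 → ∃ a : ℕ, k = w ^ a := fun k hk hk0 => by
    obtain ⟨u, hu⟩ := hunit ⟨k, hk⟩ (fun e => hk0 (congrArg Subtype.val e))
    obtain ⟨a, ha⟩ := Submonoid.mem_powers_iff _ _ |>.mp (mem_powers_iff_mem_zpowers.mpr (hω u))
    refine ⟨a, ?_⟩
    have e : ((u : K) : Matrix ι ι F) = k := congrArg Subtype.val hu
    rw [← e, ← ha]
    simp [hw]
  have hw0 : w ≠ 0 := fun e => ω.ne_zero (Subtype.ext e)
  let cj : GL ι F → Matrix ι ι F → Matrix ι ι F := fun x k => (x : Matrix ι ι F) * k * ((x⁻¹ : GL ι F) : Matrix ι ι F)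
  have hcj : ∀ x ∈ subalgebraNormalizer K, ∃ a : ℕ, cj x w = w ^ a := fun x hx =>
    hpow _ ((hx w).mp (ω : K).2) fun e => hw0 (by
      have := congrArg (fun m => ((x⁻¹ : GL ι F) : Matrix ι ι F) * m * (x : Matrix ι ι F)) e
      simpa [cj, Matrix.mul_assoc, ← Matrix.mul_assoc ((x⁻¹ : GL ι F) : Matrix ι ι F) (x : Matrix ι ι F)] using this)
  have hcjp : ∀ (x : GL ι F) (k : Matrix ι ι F) (a : ℕ), cj x (k ^ a) = cj x k ^ a := fun x k a => by
    simp only [cj]; rw [Units.conj_pow]
  have hcjm : ∀ x y k, cj (x * y) k = cj x (cj y k) := fun x y k => by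
    simp only [cj, _root_.mul_inv_rev, Units.val_mul, Matrix.mul_assoc]
  obtain ⟨a, ha⟩ := hcj g hg
  obtain ⟨b, hb⟩ := hcj h hh
  obtain ⟨a', ha'⟩ := hcj g⁻¹ (inv_mem hg)
  obtain ⟨b', hb'⟩ := hcj h⁻¹ (inv_mem hh)
  have h1 : ∀ x : GL ι F, cj x (cj x⁻¹ w) = w := fun x => by
    rw [← hcjm, mul_inv_cancel]; simp [cj]
  have e1 : w ^ (a' * a) = w := by
    have := h1 g
    rwa [ha', hcjp, ha, ← pow_mul, mul_comm] at this
  have e2 : w ^ (b' * b) = w := by
    have := h1 h
    rwa [hb', hcjp, hb, ← pow_mul, mul_comm] at this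
  have e : cj ⁅g, h⁆ w = w := by
    rw [commutatorElement_def, hcjm, hcjm, hcjm, hb', hcjp, ha', ← pow_mul, hcjp, hb, ← pow_mul, hcjp, ha, ← pow_mul]
    calc w ^ (a * (b * (a' * b'))) = w ^ ((a' * a) * (b' * b)) := by congr 1; ring
      _ = w := by rw [pow_mul, e1, e2]
  have hwc : Commute ((⁅g, h⁆ : GL ι F) : Matrix ι ι F) w := by
    have := congrArg (· * ((⁅g, h⁆ : GL ι F) : Matrix ι ι F)) e
    simpa [cj, Matrix.mul_assoc, Commute, SemiconjBy] using this
  intro k hk
  by_cases hk0 : k = 0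
  · rw [hk0]; exact Commute.zero_right _
  · obtain ⟨a, rfl⟩ := hpow k hk hk0
    exact hwc.pow_right a

theorem not_specialLinear_le_subalgebraNormalizer [Finite F] (h3 : 3 ≤ Fintype.card ι) {r : ℕ} (hr : 1 < r)
    {K : Subalgebra F (Matrix ι ι F)} (hK : IsFieldSubalgebra r K) :
    ¬ specialLinear ι F ≤ subalgebraNormalizer K := by
  intro h
  haveI : Nontrivial ι := Fintype.one_lt_card_iff_nontrivial.mp (by omega)
  have hc : ∀ x ∈ specialLinear ι F, ∀ k ∈ K, Commute (x : Matrix ι ι F) k := by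
    let C : Subgroup (GL ι F) :=
      { carrier := {x | ∀ k ∈ K, Commute (x : Matrix ι ι F) k}
        mul_mem' := fun {a b} ha hb k hk => by rw [Units.val_mul]; exact (ha k hk).mul_left (hb k hk)
        one_mem' := fun k _ => by rw [Units.val_one]; exact Commute.one_left k
        inv_mem' := fun {a} ha k hk => (ha k hk).units_inv_left }
    have : specialLinear ι F ≤ C := by
      rw [← specialLinear_perfect h3, Subgroup.commutator_le]
      exact fun a ha b hb => fieldSubalgebra_normalizer_commutator hK (h ha) (h hb)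
    exact fun x hx => this hx
  have hbot : K = ⊥ := by
    rw [eq_bot_iff]
    intro k hk
    obtain ⟨c, rfl⟩ := mem_scalar_of_commute_transvections (M := k) fun i j hij => hc _ (transGL_mem hij 1) k hk
    exact Algebra.mem_bot.mpr ⟨c, by simp [Algebra.algebraMap_eq_smul_one]⟩
  have := hK.finrank_eq
  rw [hbot, Subalgebra.finrank_bot] at this
  omega

theorem not_specialLinear_le_subfieldSubgroup [Fintype F] [Nontrivial ι] {F₀ : Subfield F} {r : ℕ} (hr : r.Prime)
    (hc : Fintype.card F = Nat.card F₀ ^ r) (P : GL ι F) : ¬ specialLinear ι F ≤ subfieldSubgroup F₀ P := by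
  classical
  intro h
  obtain ⟨c, hcF⟩ : ∃ c : F, c ∉ F₀ := by
    by_contra hh
    push Not at hh
    have e : Nat.card F₀ = Fintype.card F := by
      rw [← Nat.card_eq_fintype_card]; exact Nat.card_congr (Equiv.subtypeUnivEquiv hh)
    rw [e] at hc
    exact hr.ne_one ((Nat.pow_eq_self_iff Fintype.one_lt_card).mp hc.symm)
  obtain ⟨i, j, hij⟩ := exists_pair_ne ι
  have ht : P * transGL hij c * P⁻¹ ∈ subfieldSubgroup F₀ P := h (specialLinear_normal.conj_mem _ (transGL_mem hij c) P)
  rw [mem_subfieldSubgroup, show P⁻¹ * (P * transGL hij c * P⁻¹) * P = transGL hij c by group,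
    Subgroup.mem_sup_of_normal_right] at ht
  obtain ⟨g, hg, z, hz, hgz⟩ := ht
  obtain ⟨a, ha⟩ := (mem_scalars_iff z).mp hz
  have hent : ∀ k l, (transGL hij c : Matrix ι ι F) k l = (a : F) * (g : Matrix ι ι F) k l := fun k l => by
    rw [← hgz, Units.val_mul, ha, Matrix.mul_smul, Matrix.mul_one]; rfl
  have hm := range_map_subfield_entries hg
  have hii := hent i i
  rw [transGL_coe, Matrix.transvection] at hii
  simp [hij.symm, Matrix.single_apply] at hii
  have hainv : (a : F)⁻¹ ∈ F₀ := by rw [inv_eq_of_mul_eq_one_right hii.symm]; exact hm i i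
  have hij' := hent i j
  rw [transGL_coe, Matrix.transvection] at hij'
  simp [hij, Matrix.single_apply] at hij'
  exact hcF (hij' ▸ mul_mem (inv_inv (a : F) ▸ inv_mem hainv) (hm i j))

/-- Transvections moving `a` to `u` fixing `v`. -/
theorem exists_transvection_moving {v a u : ι → F} (h : a ∉ Submodule.span F {v, u - a}) :
    ∃ g ∈ specialLinear ι F, (g : Matrix ι ι F) *ᵥ v = v ∧ (g : Matrix ι ι F) *ᵥ a = u := by
  classical
  obtain ⟨f, hf, hp⟩ := Submodule.exists_dual_map_eq_bot_of_notMem h inferInstance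
  let φ : ι → F := fun i => (f a)⁻¹ * f (Pi.single i 1)
  have hφ : ∀ z, φ ⬝ᵥ z = (f a)⁻¹ * f z := fun z => by
    conv_rhs => rw [pi_eq_sum_univ' z]
    simp [φ, dotProduct, Finset.mul_sum, map_sum, mul_assoc, mul_comm, mul_left_comm]
  have hz : ∀ z ∈ ({v, u - a} : Set (ι → F)), f z = 0 := fun z hz => by
    have : f z ∈ (Submodule.span F {v, u - a}).map f := ⟨z, Submodule.subset_span hz, rfl⟩
    rwa [hp, Submodule.mem_bot] at this
  let d := u - a
  let m : Matrix ι ι F := 1 + Matrix.replicateCol (Unit) d * Matrix.replicateRow (Unit) φ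
  have hm : ∀ z, m *ᵥ z = z + (φ ⬝ᵥ z) • d := fun z => by
    simp only [m, Matrix.add_mulVec, Matrix.one_mulVec, ← Matrix.mulVec_mulVec]
    ext k
    simp [Matrix.mulVec, dotProduct, Matrix.mul_apply, Finset.sum_mul, Finset.mul_sum, mul_comm, mul_left_comm]
  have hdet : m.det = 1 := by
    simp only [m]
    rw [Matrix.det_one_add_replicateCol_mul_replicateRow, hφ, hz d (Or.inr rfl), mul_zero, add_zero]
  refine ⟨Matrix.GeneralLinearGroup.mkOfDetNeZero m (by rw [hdet]; exact one_ne_zero), mem_specialLinear_iff.mpr hdet, ?_, ?_⟩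
  · change m *ᵥ v = v
    rw [hm, hφ, hz v (Or.inl rfl), mul_zero, zero_smul, add_zero]
  · change m *ᵥ a = u
    rw [hm, hφ, inv_mul_cancel₀ hf, one_smul]
    simp [d]

/-- A small group normalised by SL consists of scalars. -/
theorem not_specialLinear_le_normalizer [Fintype F] (h3 : 3 ≤ Fintype.card ι) {R : Subgroup (GL ι F)}
    (hR : ∃ x ∈ R, x ∉ scalars ι F) (hcard : Nat.card R + Fintype.card F ^ 2 < Fintype.card F ^ Fintype.card ι) :
    ¬ specialLinear ι F ≤ subgroupNormalizer R := by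
  classical
  intro h
  obtain ⟨x, hx, hxs⟩ := hR
  haveI : Nontrivial ι := Fintype.one_lt_card_iff_nontrivial.mp (by omega)
  obtain ⟨v, hv⟩ : ∃ v : ι → F, ∀ c : F, (x : Matrix ι ι F) *ᵥ v ≠ c • v := by
    by_contra hcon
    push Not at hcon
    apply hxs
    obtain ⟨c, hc⟩ := mem_scalar_of_commute_transvections (ι := ι) (M := (x : Matrix ι ι F)) (by
      intro i j hij
      have key : ∀ u, ∃ c : F, (x : Matrix ι ι F) *ᵥ u = c • u := hcon
      choose c hc using key
      have hdiag : ∀ k l, k ≠ l → (x : Matrix ι ι F) k l = 0 := fun k l hkl => by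
        have := congrFun (hc (Pi.single l 1)) k
        simpa [hkl] using this
      have heq : (x : Matrix ι ι F) i i = (x : Matrix ι ι F) j j := by
        have e1 := congrFun (hc (Pi.single i 1 + Pi.single j 1)) i
        have e2 := congrFun (hc (Pi.single i 1 + Pi.single j 1)) j
        simp [Matrix.mulVec_add, hdiag i j hij, hdiag j i hij.symm, hij, hij.symm] at e1 e2
        rw [e1, e2]
      rw [Commute, SemiconjBy, transGL_coe, Matrix.transvection, Matrix.add_mul, Matrix.mul_add,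
        Matrix.one_mul, Matrix.mul_one]
      congr 1
      ext k l
      by_cases hk : k = i
      · subst hk
        rw [Matrix.single_mul_apply_same]
        by_cases hl : l = j
        · subst hl
          rw [Matrix.mul_single_apply_same, one_mul, mul_one, heq]
        · rw [Matrix.mul_single_apply_of_ne _ _ _ _ _ hl, one_mul, hdiag _ _ (Ne.symm hl)]
      · rw [Matrix.single_mul_apply_of_ne _ _ _ _ _ hk]
        by_cases hl : l = j
        · subst hl
          rw [Matrix.mul_single_apply_same, mul_one, hdiag _ _ hk]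
        · rw [Matrix.mul_single_apply_of_ne _ _ _ _ _ hl])
    exact mem_scalars_of_eq hc
  set a := (x : Matrix ι ι F) *ᵥ v with ha
  let S : Submodule F (ι → F) := Submodule.span F {v, a}
  let T : R → (ι → F) := fun r => ((r : GL ι F) : Matrix ι ι F) *ᵥ v
  have hsurj : ((S : Set (ι → F))ᶜ) ⊆ Set.range T := by
    intro u hu
    have hna : a ∉ Submodule.span F {v, u - a} := by
      intro hm
      obtain ⟨α, β, he⟩ := Submodule.mem_span_pair.mp hm
      by_cases hβ : β = 0
      · exact hv α (he.symm.trans (by simp [hβ]))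
      · apply hu
        refine Submodule.mem_span_pair.mpr ⟨-(α * β⁻¹), β⁻¹ + 1, ?_⟩
        have := congrArg (β⁻¹ • ·) he
        simp only [smul_add, smul_smul, inv_mul_cancel₀ hβ, one_smul] at this
        rw [add_smul, one_smul, ← this, mul_comm α, neg_smul]
        abel
    obtain ⟨g, hg, hgv, hga⟩ := exists_transvection_moving hna
    refine ⟨⟨g * x * g⁻¹, (Subgroup.mem_normalizer_iff.mp (h hg) x).mp hx⟩, ?_⟩
    change ((g * x * g⁻¹ : GL ι F) : Matrix ι ι F) *ᵥ v = u
    have hgi : ((g⁻¹ : GL ι F) : Matrix ι ι F) *ᵥ v = v := by conv_lhs => rw [← hgv, gl_inv_mulVec_cancel]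
    rw [gl_mul_mulVec, gl_mul_mulVec, hgi, ← ha, hga]
  have hS : Nat.card S ≤ Fintype.card F ^ 2 := by
    have hsur : Function.Surjective (fun p : F × F => (⟨p.1 • v + p.2 • a,
        Submodule.mem_span_pair.mpr ⟨p.1, p.2, rfl⟩⟩ : S)) := fun ⟨w, hw⟩ => by
      obtain ⟨α, β, e⟩ := Submodule.mem_span_pair.mp hw
      exact ⟨(α, β), Subtype.ext e⟩
    refine (Nat.card_le_card_of_surjective _ hsur).trans ?_
    rw [Nat.card_prod, Nat.card_eq_fintype_card, sq]
  have h1 : Fintype.card F ^ Fintype.card ι ≤ Nat.card S + Nat.card R := by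
    calc Fintype.card F ^ Fintype.card ι = Nat.card (ι → F) := by rw [Nat.card_fun, Nat.card_eq_fintype_card, Nat.card_eq_fintype_card]
      _ = (S : Set (ι → F)).ncard + ((S : Set (ι → F))ᶜ).ncard := (Set.ncard_add_ncard_compl _).symm
      _ ≤ _ := by
        refine Nat.add_le_add (le_of_eq (Nat.card_coe_set_eq _).symm) ((Set.ncard_le_ncard hsurj (Set.toFinite _)).trans ?_)
        rw [← Nat.card_coe_set_eq]
        exact Finite.card_range_le T
  omega

/-- SL preserves no nondegenerate semilinear form up to scalars. -/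
theorem not_specialLinear_le_similarityGroup (h3 : 3 ≤ Fintype.card ι) (σ : F ≃+* F) {f : (ι → F) → (ι → F) → F}
    (hf : IsSemiForm σ f) (hn : IsNondegenerateForm f) : ¬ specialLinear ι F ≤ similarityGroup f := by
  classical
  intro h
  obtain ⟨j, k, l, hjk, hjl, hkl⟩ := Fintype.two_lt_card_iff.mp (show 2 < Fintype.card ι by omega)
  have hz : ∀ a b, a ≠ j → b ≠ j → gramMatrix f a b = 0 := by
    intro a b ha hb
    obtain ⟨c, hc⟩ := h (transGL_mem (F := F) ha 1)
    have hfix : ∀ z : ι → F, z j = 0 → (transGL ha (1 : F) : Matrix ι ι F) *ᵥ z = z := fun z hz => by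
      rw [transGL_mulVec, hz, mul_zero, Pi.single_zero, add_zero]
    have hej : (transGL ha (1 : F) : Matrix ι ι F) *ᵥ Pi.single j 1 = Pi.single j 1 + Pi.single a 1 := by
      rw [transGL_mulVec, Pi.single_eq_same, one_mul]
    by_cases hc1 : (c : F) = 1
    · have e := hc (Pi.single j 1) (Pi.single b 1)
      rw [hej, hfix _ (Pi.single_eq_of_ne hb.symm _), hc1, one_mul, hf.add_left, add_eq_left] at e
      exact e
    · have e := hc (Pi.single a 1) (Pi.single b 1)
      rw [hfix _ (Pi.single_eq_of_ne ha.symm _), hfix _ (Pi.single_eq_of_ne hb.symm _)] at e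
      change f _ _ = 0
      by_contra h0
      exact hc1 ((mul_eq_right₀ h0).mp e.symm)
  obtain ⟨α, β, hne, hzero⟩ : ∃ α β : F, (α ≠ 0 ∨ β ≠ 0) ∧ σ α * gramMatrix f j k + σ β * gramMatrix f j l = 0 := by
    by_cases h0 : gramMatrix f j k = 0
    · exact ⟨1, 0, Or.inl one_ne_zero, by simp [h0]⟩
    · exact ⟨σ.symm (- gramMatrix f j l), σ.symm (gramMatrix f j k), Or.inr (by simpa using h0), by simp; ring⟩
  have hv : α • (Pi.single k 1 : ι → F) + β • (Pi.single l 1 : ι → F) ≠ 0 := fun e => by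
    rcases hne with h' | h'
    · exact h' (by simpa [hkl] using congrFun e k)
    · exact h' (by simpa [hkl.symm] using congrFun e l)
  obtain ⟨x, hx⟩ := (hn _ hv).1
  apply hx
  rw [semiForm_apply σ hf]
  refine Finset.sum_eq_zero fun i _ => mul_eq_zero_of_right _ ?_
  have hs : (σ : F → F) ∘ (α • (Pi.single k 1 : ι → F) + β • Pi.single l 1) =
      σ α • (Pi.single k 1 : ι → F) + σ β • Pi.single l 1 := by
    ext m; simp [Pi.single_apply, apply_ite σ]
  rw [hs, Matrix.mulVec_add, Matrix.mulVec_smul, Matrix.mulVec_smul]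
  simp only [Pi.add_apply, Pi.smul_apply, smul_eq_mul, Matrix.mulVec_single_one, Matrix.col_apply]
  by_cases hi : i = j
  · subst hi; exact hzero
  · rw [hz i k hi hjk.symm, hz i l hi hjl.symm, mul_zero, mul_zero, add_zero]

theorem not_specialLinear_le_quadSimilarityGroup (h3 : 3 ≤ Fintype.card ι) {Q : (ι → F) → F}
    (hQ : IsNondegenerateQuadraticForm Q) : ¬ specialLinear ι F ≤ quadSimilarityGroup Q := fun h =>
  not_specialLinear_le_similarityGroup h3 (RingEquiv.refl F) (semiForm_of_bilinear hQ.polar_bilinear) hQ.nondegenerate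
    (h.trans fun g ⟨c, hc⟩ => ⟨c, fun u v => by
      simp only [QuadraticMap.polar, ← Matrix.mulVec_add, hc]; ring⟩)

end Cfsg.Agent.Classical
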