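/-
The maximal subgroups of SL in odd prime dimension.
-/
import Cfsg.Agent.Lib.Classical.LinMaximal

set_option autoImplicit false
set_option linter.style.haveILetI false

namespace Cfsg.Agent.Classical

open Matrix Cfsg.Geo

variable {ι : Type} [Fintype ι] [DecidableEq ι] {F : Type*} [Field F]

theorem monomial_small [Fintype F] (h3 : 3 ≤ Fintype.card ι) (hq : Fintype.card F < 5)
    {D : Fin (Fintype.card ι) → Submodule F (ι → F)} (hD : IsMDecomposition 1 D) :
    (∃ W : Submodule F (ι → F), W ≠ ⊥ ∧ W ≠ ⊤ ∧ decompositionStabilizer D ≤ subspaceStabilizer W) ∨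
    (Odd (Fintype.card F) ∧ ∃ Q : (ι → F) → F, IsNondegenerateQuadraticForm Q ∧
      decompositionStabilizer D ≤ quadSimilarityGroup Q) ∨
    (∃ (σ : F ≃+* F) (f : (ι → F) → (ι → F) → F), IsUnitaryForm σ f ∧
      decompositionStabilizer D ≤ similarityGroup f) := by
  classical
  haveI : Nonempty ι := Fintype.card_pos_iff.mp (by omega)
  obtain ⟨B, ε, -, hB⟩ := exists_monomial_coords hD
  have hnz : ∀ v : ι → F, v ≠ 0 → ∃ i, ((B : Matrix ι ι F) *ᵥ v) i ≠ 0 := fun v hv =>
    Function.ne_iff.mp fun e => hv (gl_mulVec_injective B (e.trans (Matrix.mulVec_zero _).symm))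
  have hcases : Fintype.card F = 2 ∨ Fintype.card F = 3 ∨ Fintype.card F = 4 := by
    have := Fintype.one_lt_card (α := F); omega
  rcases hcases with h | h | h
  · left
    set w := ((B⁻¹ : GL ι F) : Matrix ι ι F) *ᵥ (fun _ => (1 : F)) with hw
    have hw0 : w ≠ 0 := fun e => by
      obtain ⟨i⟩ := ‹Nonempty ι›
      have h1 : (fun _ => (1 : F) : ι → F) = 0 := gl_mulVec_injective B⁻¹ (e.trans (Matrix.mulVec_zero _).symm)
      exact one_ne_zero (congrFun h1 i)
    refine ⟨F ∙ w, fun e => hw0 (Submodule.span_singleton_eq_bot.mp e), fun e => ?_, fun g hg => ?_⟩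
    · have := congrArg (fun W : Submodule F (ι → F) => Module.finrank F W) e
      simp only [finrank_top, Module.finrank_fintype_fun_eq_card, finrank_span_singleton hw0] at this
      omega
    · obtain ⟨π, a, ha, hπ⟩ := hB g hg
      have ha1 : ∀ i, a i = 1 := fun i => by
        have := FiniteField.pow_card_sub_one_eq_one (a i) (ha i)
        rwa [h, pow_one] at this
      have hgw : (g : Matrix ι ι F) *ᵥ w = w := by
        refine gl_mulVec_injective B (funext fun k => ?_)
        have := hπ w (π.symm k)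
        rw [Equiv.apply_symm_apply, ha1, one_mul] at this
        dsimp only
        rw [this, hw, gl_mulVec_inv_cancel]
      rw [mem_subspaceStabilizer_iff]
      intro u hu
      obtain ⟨c, rfl⟩ := Submodule.mem_span_singleton.mp hu
      rw [Matrix.mulVec_smul, hgw]
      exact Submodule.smul_mem _ _ (Submodule.mem_span_singleton_self w)
  · right; left
    refine ⟨by rw [h]; decide, fun u => ∑ i, ((B : Matrix ι ι F) *ᵥ u) i ^ 2, ?_, fun g hg => ⟨1, fun u => ?_⟩⟩
    · have hp : ∀ u v, QuadraticMap.polar (fun u => ∑ i, ((B : Matrix ι ι F) *ᵥ u) i ^ 2) u v =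
          2 * ∑ i, ((B : Matrix ι ι F) *ᵥ u) i * ((B : Matrix ι ι F) *ᵥ v) i := by
        intro u v
        simp only [QuadraticMap.polar, Matrix.mulVec_add, Pi.add_apply, Finset.mul_sum, ← Finset.sum_sub_distrib]
        exact Finset.sum_congr rfl fun i _ => by ring
      have h2 : (2 : F) ≠ 0 := by
        intro h0
        have h3 : (3 : F) = 0 := by
          have := FiniteField.cast_card_eq_zero F
          rw [h] at this; exact_mod_cast this
        exact one_ne_zero (by linear_combination h3 - h0 : (1 : F) = 0)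
      refine ⟨fun c v => ?_, ⟨fun x y v => ?_, fun c x v => ?_, fun v x y => ?_, fun c v x => ?_⟩, fun v hv => ?_⟩
      · simp only [Matrix.mulVec_smul, Pi.smul_apply, smul_eq_mul, mul_pow, Finset.mul_sum]
      · simp only [hp, Matrix.mulVec_add, Pi.add_apply, add_mul, Finset.sum_add_distrib, mul_add]
      · simp only [hp, Matrix.mulVec_smul, Pi.smul_apply, smul_eq_mul, Finset.mul_sum]
        exact Finset.sum_congr rfl fun i _ => by ring
      · simp only [hp, Matrix.mulVec_add, Pi.add_apply, mul_add, Finset.sum_add_distrib]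
      · simp only [hp, Matrix.mulVec_smul, Pi.smul_apply, smul_eq_mul, Finset.mul_sum]
        exact Finset.sum_congr rfl fun i _ => by ring
      · obtain ⟨i, hi⟩ := hnz v hv
        refine ⟨⟨((B⁻¹ : GL ι F) : Matrix ι ι F) *ᵥ Pi.single i 1, ?_⟩, ⟨((B⁻¹ : GL ι F) : Matrix ι ι F) *ᵥ Pi.single i 1, ?_⟩⟩ <;>
          rw [hp, gl_mulVec_inv_cancel, Finset.sum_eq_single i (fun k _ hk => by simp [hk]) (by simp)] <;>
          simp [hi, h2]
    · obtain ⟨π, a, ha, hπ⟩ := hB g hg
      rw [Units.val_one, one_mul]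
      dsimp only
      rw [← Equiv.sum_comp π]
      refine Finset.sum_congr rfl fun i _ => ?_
      rw [hπ, mul_pow]
      have := FiniteField.pow_card_sub_one_eq_one (a i) (ha i)
      rw [h] at this
      rw [this, one_mul]
  · right; right
    obtain ⟨p, hchar⟩ := CharP.exists F
    obtain ⟨e, hp, hc⟩ := FiniteField.card F p
    haveI : CharP F 2 := by
      have : p ∣ 2 ^ 2 := by
        rw [show (2 : ℕ) ^ 2 = 4 from rfl, ← h, hc]; exact dvd_pow_self _ (PNat.ne_zero e)
      obtain rfl : p = 2 := (Nat.prime_dvd_prime_iff_eq hp Nat.prime_two).mp (hp.dvd_of_dvd_pow this)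
      exact hchar
    haveI : ExpChar F 2 := ExpChar.prime Nat.prime_two
    let τ : F ≃+* F := frobeniusEquiv F 2
    have hτ : ∀ z, τ z = z ^ 2 := fun z => frobeniusEquiv_def F 2 z
    have h4 : ∀ z : F, z ^ 4 = z := fun z => h ▸ FiniteField.pow_card z
    have hinv : ∀ z, τ (τ z) = z := fun z => by rw [hτ, hτ, ← pow_mul]; exact h4 z
    refine ⟨τ, fun u v => ∑ i, ((B : Matrix ι ι F) *ᵥ u) i * τ (((B : Matrix ι ι F) *ᵥ v) i), ?_, fun g hg => ⟨1, fun u v => ?_⟩⟩
    · refine ⟨fun e => ?_, hinv, fun a b v => ?_, fun d a v => ?_, fun a b => ?_, fun v hv => ?_⟩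
      · have hall : ∀ z : F, z = 0 ∨ z = 1 := fun z => by
          have h1 : z ^ 2 = z := by rw [← hτ, e]; rfl
          rcases mul_eq_zero.mp (show z * (z - 1) = 0 by rw [mul_sub, mul_one, ← sq, h1, sub_self]) with h' | h'
          · exact Or.inl h'
          · exact Or.inr (sub_eq_zero.mp h')
        have : Fintype.card F ≤ 2 := by
          rw [← Finset.card_univ]
          refine (Finset.card_le_card (t := {0, 1}) fun z _ => ?_).trans Finset.card_le_two
          simpa using hall z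
        omega
      · simp [Matrix.mulVec_add, add_mul, Finset.sum_add_distrib]
      · simp [Matrix.mulVec_smul, Finset.mul_sum, mul_assoc]
      · simp [map_sum, hinv, mul_comm]
      · obtain ⟨i, hi⟩ := hnz v hv
        refine ⟨⟨((B⁻¹ : GL ι F) : Matrix ι ι F) *ᵥ Pi.single i 1, ?_⟩, ⟨((B⁻¹ : GL ι F) : Matrix ι ι F) *ᵥ Pi.single i 1, ?_⟩⟩ <;>
          simp only [gl_mulVec_inv_cancel] <;>
          rw [Finset.sum_eq_single i (fun k _ hk => by simp [hk]) (by simp)] <;> simp [hi]
    · obtain ⟨π, a, ha, hπ⟩ := hB g hg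
      rw [Units.val_one, one_mul]
      dsimp only
      rw [← Equiv.sum_comp π]
      refine Finset.sum_congr rfl fun i _ => ?_
      rw [hπ, hπ, map_mul, hτ (a i)]
      have h3 := FiniteField.pow_card_sub_one_eq_one (a i) (ha i)
      rw [h] at h3
      linear_combination ((B : Matrix ι ι F) *ᵥ u) i * τ (((B : Matrix ι ι F) *ᵥ v) i) * h3

theorem symplecticType_not_le [Fintype F] (hp : (Fintype.card ι).Prime) (hodd : Odd (Fintype.card ι))
    {R : Subgroup (GL ι F)} (hR : IsLinearSymplecticTypeData (Fintype.card ι) R)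
    (hcard : Nat.card R = Fintype.card ι ^ 3) : ¬ specialLinear ι F ≤ subgroupNormalizer R := by
  have h3 : 3 ≤ Fintype.card ι := by
    have := hp.two_le
    rcases eq_or_ne (Fintype.card ι) 2 with h | h
    · rw [h] at hodd; exact absurd hodd (by decide)
    · omega
  obtain ⟨p, e, -, ⟨hpp, -, hce, hdvd, -⟩, hc⟩ := hR.field
  have hz : Nat.card (Subgroup.center R) = Fintype.card ι := by
    rcases hc with ⟨-, -, h, -⟩ | ⟨h, -⟩ | ⟨h, -⟩
    · exact h
    · omega
    · omega
  rw [hz, ← hce] at hdvd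
  refine not_specialLinear_le_normalizer h3 ?_ ?_
  · by_contra hcon
    push Not at hcon
    haveI : Fact (Fintype.card ι).Prime := ⟨hp⟩
    have htop : Subgroup.center R = ⊤ := by
      rw [eq_top_iff]
      intro x _
      exact Subgroup.mem_center_iff.mpr fun y => Subtype.ext (scalars_commute (hcon _ x.2) y).symm
    rw [htop, Subgroup.card_top, hcard] at hz
    exact absurd ((Nat.pow_eq_self_iff hp.one_lt).mp hz) (by norm_num)
  · rw [hcard]
    set q := Fintype.card F
    have hq1 : 1 < q := Fintype.one_lt_card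
    have hq : Fintype.card ι + 1 ≤ q := by
      have := Nat.le_of_dvd (by omega) hdvd; omega
    set n := Fintype.card ι
    rcases eq_or_lt_of_le h3 with h | h
    · rw [← h]
      have h4 : 4 ≤ q := by omega
      nlinarith [Nat.mul_le_mul (Nat.mul_le_mul h4 h4) (le_refl q)]
    · have h4 : q ^ 4 ≤ q ^ n := Nat.pow_le_pow_right (by omega) h
      have h5 : n ^ 3 < q ^ 3 := Nat.pow_lt_pow_left (by omega) (by omega)
      have h6 : q ^ 3 + q ^ 2 ≤ q ^ 4 := by nlinarith [Nat.mul_le_mul (show 2 ≤ q by omega) (le_refl (q ^ 3))]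
      omega

theorem sl_prime_cases [Fintype F] (hp : (Fintype.card ι).Prime) (hodd : Odd (Fintype.card ι))
    {H : Subgroup (GL ι F)} (hH : IsMaximalIn (specialLinear ι F) H) :
    (∃ W : Submodule F (ι → F), W ≠ ⊥ ∧ W ≠ ⊤ ∧ H = subspaceStabilizer W ⊓ specialLinear ι F) ∨
    (5 ≤ Fintype.card F ∧ ∃ D : Fin (Fintype.card ι) → Submodule F (ι → F), IsMDecomposition 1 D ∧
      H = decompositionStabilizer D ⊓ specialLinear ι F) ∨
    (∃ K : Subalgebra F (Matrix ι ι F), IsFieldSubalgebra (Fintype.card ι) K ∧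
      H = subalgebraNormalizer K ⊓ specialLinear ι F) ∨
    (∃ (F₀ : Subfield F) (r : ℕ) (P : GL ι F), r.Prime ∧ Fintype.card F = Nat.card F₀ ^ r ∧
      H = subfieldSubgroup F₀ P ⊓ specialLinear ι F) ∨
    (∃ (p e : ℕ) (R : Subgroup (GL ι F)), p.Prime ∧ CharP F p ∧ Fintype.card F = p ^ e ∧ Odd e ∧
      Fintype.card ι ∣ p ^ e - 1 ∧ (∀ d, 0 < d → d < e → ¬ Fintype.card ι ∣ p ^ d - 1) ∧
      IsLinearSymplecticTypeData (Fintype.card ι) R ∧ H = subgroupNormalizer R ⊓ specialLinear ι F) ∨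
    (Odd (Fintype.card F) ∧ ∃ Q : (ι → F) → F, IsNondegenerateQuadraticForm Q ∧
      H = quadSimilarityGroup Q ⊓ specialLinear ι F) ∨
    (∃ (σ : F ≃+* F) (f : (ι → F) → (ι → F) → F), IsUnitaryForm σ f ∧ H = similarityGroup f ⊓ specialLinear ι F) ∨
    InLinearResidualClass H := by
  have h3 : 3 ≤ Fintype.card ι := by
    have := hp.two_le
    rcases eq_or_ne (Fintype.card ι) 2 with h | h
    · rw [h] at hodd; exact absurd hodd (by decide)
    · omega
  haveI : Nontrivial ι := Fintype.one_lt_card_iff_nontrivial.mp (by omega)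
  have hsub : ∀ W, W ≠ ⊥ → W ≠ ⊤ → H ≤ subspaceStabilizer W → H = subspaceStabilizer W ⊓ specialLinear ι F :=
    fun W h0 h1 h => eq_inf_of_maximal hH h (not_specialLinear_le_subspaceStabilizer h0 h1)
  have hquad : ∀ Q, IsNondegenerateQuadraticForm Q → H ≤ quadSimilarityGroup Q →
      H = quadSimilarityGroup Q ⊓ specialLinear ι F :=
    fun Q hQ h => eq_inf_of_maximal hH h (not_specialLinear_le_quadSimilarityGroup h3 hQ)
  have hunit : ∀ (σ : F ≃+* F) (f : (ι → F) → (ι → F) → F), IsUnitaryForm σ f → H ≤ similarityGroup f →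
      H = similarityGroup f ⊓ specialLinear ι F := fun σ f hf h =>
    eq_inf_of_maximal hH h (not_specialLinear_le_similarityGroup h3 σ (semiForm_of_unitary hf) hf.nondegenerate)
  cases aschbacher_prime hp hodd hH.1.le with
  | subspace W h0 h1 h => exact Or.inl ⟨W, h0, h1, hsub W h0 h1 h⟩
  | monomial D hD h =>
    by_cases hq : 5 ≤ Fintype.card F
    · exact Or.inr (Or.inl ⟨hq, D, hD, eq_inf_of_maximal hH h (not_specialLinear_le_decompositionStabilizer hD)⟩)
    rcases monomial_small h3 (by omega) hD with ⟨W, h0, h1, hle⟩ | ⟨ho, Q, hQ, hle⟩ | ⟨σ, f, hf, hle⟩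
    · exact Or.inl ⟨W, h0, h1, hsub W h0 h1 (h.trans hle)⟩
    · exact Or.inr (Or.inr (Or.inr (Or.inr (Or.inr (Or.inl ⟨ho, Q, hQ, hquad Q hQ (h.trans hle)⟩)))))
    · exact Or.inr (Or.inr (Or.inr (Or.inr (Or.inr (Or.inr (Or.inl ⟨σ, f, hf, hunit σ f hf (h.trans hle)⟩))))))
  | field K hK h =>
    exact Or.inr (Or.inr (Or.inl ⟨K, hK, eq_inf_of_maximal hH h
      (not_specialLinear_le_subalgebraNormalizer h3 hp.one_lt hK)⟩))
  | subfield F₀ r P hr hc h =>
    exact Or.inr (Or.inr (Or.inr (Or.inl ⟨F₀, r, P, hr, hc,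
      eq_inf_of_maximal hH h (not_specialLinear_le_subfieldSubgroup hr hc P)⟩)))
  | symplecticType R hR hcard h =>
    have he := eq_inf_of_maximal hH h (symplecticType_not_le hp hodd hR hcard)
    obtain ⟨p, e, -, ⟨hpp, hchar, hce, hdvd, hmin⟩, hc⟩ := hR.field
    have hz : Nat.card (Subgroup.center R) = Fintype.card ι ∧ Odd e := by
      rcases hc with ⟨-, he, h, -⟩ | ⟨h, -⟩ | ⟨h, -⟩
      · exact ⟨h, he⟩
      · omega
      · omega
    rw [hz.1] at hdvd hmin
    exact Or.inr (Or.inr (Or.inr (Or.inr (Or.inl ⟨p, e, R, hpp, hchar, hce, hz.2, hdvd, hmin, hR, he⟩))))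
  | quadratic ho Q hQ h => exact Or.inr (Or.inr (Or.inr (Or.inr (Or.inr (Or.inl ⟨ho, Q, hQ, hquad Q hQ h⟩)))))
  | unitary σ f hf h => exact Or.inr (Or.inr (Or.inr (Or.inr (Or.inr (Or.inr (Or.inl ⟨σ, f, hf, hunit σ f hf h⟩))))))
  | residual h => exact Or.inr (Or.inr (Or.inr (Or.inr (Or.inr (Or.inr (Or.inr h))))))

end Cfsg.Agent.Classical

namespace Cfsg.Agent.Classical

/-- The residue of `p` modulo `n` in the symplectic-type case. -/
theorem minimal_exponent_facts {n p e : ℕ} (hn : n.Prime) (hp : p.Prime) (he : Odd e) (hdvd : n ∣ p ^ e - 1)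
    (hmin : ∀ d, 0 < d → d < e → ¬ n ∣ p ^ d - 1) :
    e < n ∧ (p % n) ^ e % n = 1 ∧ ∀ d, d < e → 0 < d → (p % n) ^ d % n ≠ 1 := by
  haveI : Fact n.Prime := ⟨hn⟩
  have key : ∀ d, n ∣ p ^ d - 1 ↔ (p % n) ^ d % n = 1 := fun d => by
    rw [← Nat.pow_mod, ← Nat.modEq_iff_dvd' (Nat.one_le_pow _ _ hp.pos), Nat.ModEq, Nat.mod_eq_of_lt hn.one_lt,
      eq_comm]
  refine ⟨?_, (key e).mp hdvd, fun d hd h0 h => hmin d h0 hd ((key d).mpr h)⟩
  by_contra hlt
  have hne : (p : ZMod n) ≠ 0 := by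
    intro h0
    have := (zmod_pow_eq_one_iff hp.pos).mpr hdvd
    rw [h0, zero_pow he.pos.ne'] at this
    exact zero_ne_one this
  exact hmin (n - 1) (by have := hn.two_le; omega) (by have := hn.two_le; omega)
    ((zmod_pow_eq_one_iff hp.pos).mp (ZMod.pow_card_sub_one_eq_one hne))

end Cfsg.Agent.Classical
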