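/-
The multiplicative group of a field subalgebra over a finite field, and degree three over the field of four
elements.
-/
import Cfsg.Agent.Lib.Classical.LinPrimeCases

set_option autoImplicit false
set_option linter.style.haveILetI false

namespace Cfsg.Agent.Classical

open Matrix Cfsg.Geo

variable {ι : Type} [Fintype ι] [DecidableEq ι] {F : Type*} [Field F]

theorem fieldSubalgebra_mul_eq_zero {r : ℕ} {K : Subalgebra F (Matrix ι ι F)} (hK : IsFieldSubalgebra r K)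
    {x y : Matrix ι ι F} (hx : x ∈ K) (h : x * y = 0) : x = 0 ∨ y = 0 := by
  by_cases hx0 : x = 0
  · exact Or.inl hx0
  obtain ⟨z, hz, hxz⟩ := hK.inv x hx hx0
  right
  calc y = z * x * y := by rw [← hK.comm x hx z hz, hxz, Matrix.one_mul]
    _ = 0 := by rw [Matrix.mul_assoc, h, Matrix.mul_zero]

/-- A generator of the multiplicative group of a field subalgebra. -/
theorem exists_generator_fieldSubalgebra [Finite F] [Nonempty ι] {r : ℕ} {K : Subalgebra F (Matrix ι ι F)}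
    (hK : IsFieldSubalgebra r K) :
    ∃ w ∈ K, w ≠ 0 ∧ (∀ k ∈ K, k ≠ 0 → ∃ a : ℕ, k = w ^ a) ∧
      ∀ a : ℕ, w ^ a = 1 ↔ Nat.card F ^ r - 1 ∣ a := by
  classical
  haveI : Finite K := Finite.of_injective _ Subtype.val_injective
  letI : CommRing K := { K.toRing with mul_comm := fun a b => Subtype.ext (hK.comm a a.2 b b.2) }
  haveI : Nontrivial K := ⟨⟨0, 1, fun e => zero_ne_one (congrArg Subtype.val e)⟩⟩
  have hunit : ∀ a : K, a ≠ 0 → IsUnit a := fun a ha => by
    obtain ⟨y, hy, hay⟩ := hK.inv a a.2 (fun e => ha (Subtype.ext e))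
    exact IsUnit.of_mul_eq_one (⟨y, hy⟩ : K) (Subtype.ext hay)
  haveI : NoZeroDivisors K := ⟨fun {a b} hab =>
    (fieldSubalgebra_mul_eq_zero hK a.2 (congrArg Subtype.val hab)).imp (fun h => Subtype.ext h) fun h => Subtype.ext h⟩
  haveI : IsDomain K := NoZeroDivisors.to_isDomain _
  obtain ⟨ω, hω⟩ := IsCyclic.exists_generator (α := Kˣ)
  refine ⟨((ω : K) : Matrix ι ι F), (ω : K).2, fun e => ω.ne_zero (Subtype.ext e), fun k hk hk0 => ?_, fun a => ?_⟩
  · obtain ⟨u, hu⟩ := hunit ⟨k, hk⟩ (fun e => hk0 (congrArg Subtype.val e))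
    obtain ⟨a, ha⟩ := Submonoid.mem_powers_iff _ _ |>.mp (mem_powers_iff_mem_zpowers.mpr (hω u))
    refine ⟨a, ?_⟩
    have e : ((u : K) : Matrix ι ι F) = k := congrArg Subtype.val hu
    rw [← e, ← ha]
    simp
  · have hcard : Nat.card Kˣ = Nat.card F ^ r - 1 := by
      letI : Field K := (Finite.isDomain_to_isField K).toField
      rw [Nat.card_units]
      congr 1
      exact (Module.natCard_eq_pow_finrank (K := F) (V := K)).trans (by rw [hK.finrank_eq])
    rw [← hcard, ← orderOf_eq_card_of_forall_mem_zpowers hω, orderOf_dvd_iff_pow_eq_one]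
    constructor
    · intro h
      exact Units.ext (Subtype.ext (by simpa using h))
    · intro h
      simpa using congrArg (fun z : Kˣ => ((z : K) : Matrix ι ι F)) h

theorem char_two_of_card_four [Fintype F] (h : Fintype.card F = 4) : CharP F 2 := by
  obtain ⟨p, hchar⟩ := CharP.exists F
  obtain ⟨e, hp, hc⟩ := FiniteField.card F p
  have : p ∣ 2 ^ 2 := by
    rw [show (2 : ℕ) ^ 2 = 4 from rfl, ← h, hc]; exact dvd_pow_self _ (PNat.ne_zero e)
  obtain rfl : p = 2 := (Nat.prime_dvd_prime_iff_eq hp Nat.prime_two).mp (hp.dvd_of_dvd_pow this)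
  exact hchar

theorem cubic_of_pow_seven [CharP F 2] {K : Subalgebra F (Matrix (Fin 3) (Fin 3) F)} (hK : IsFieldSubalgebra 3 K)
    {b : Matrix (Fin 3) (Fin 3) F} (hbK : b ∈ K) (hb7 : b ^ 7 = 1) (hbns : ∀ c : F, b ≠ c • 1) :
    ∃ s t : F, (s = 1 ∧ t = 0 ∨ s = 0 ∧ t = 1) ∧ b ^ 3 = (1 : F) • 1 + s • b + t • b ^ 2 := by
  haveI : CharP (Matrix (Fin 3) (Fin 3) F) 2 := Matrix.charP 2
  have hne : b - 1 ≠ 0 := fun e => hbns 1 (by rw [one_smul]; exact sub_eq_zero.mp e)
  have hneg : ∀ z : Matrix (Fin 3) (Fin 3) F, z + z = 0 := fun z => CharTwo.add_self_eq_zero z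
  have hprod : (b - 1) * ((b ^ 3 + b + 1) * (b ^ 3 + b ^ 2 + 1)) = b ^ 7 - 1 := by
    have : (b - 1) * ((b ^ 3 + b + 1) * (b ^ 3 + b ^ 2 + 1)) = b ^ 7 - 1 + (b ^ 4 - b ^ 3) + (b ^ 4 - b ^ 3) := by
      noncomm_ring
    rw [this, add_assoc, hneg, add_zero]
  rw [hb7, sub_self] at hprod
  have hm3 : b ^ 3 + b + 1 ∈ K := K.add_mem (K.add_mem (pow_mem hbK 3) hbK) K.one_mem
  rcases fieldSubalgebra_mul_eq_zero hK hm3 ((fieldSubalgebra_mul_eq_zero hK (K.sub_mem hbK K.one_mem) hprod).resolve_left hne) with h | h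
  · refine ⟨1, 0, Or.inl ⟨rfl, rfl⟩, ?_⟩
    rw [one_smul, one_smul, zero_smul, add_zero, ← CharTwo.add_eq_zero, ← h]; abel
  · refine ⟨0, 1, Or.inr ⟨rfl, rfl⟩, ?_⟩
    rw [one_smul, one_smul, zero_smul, add_zero, ← CharTwo.add_eq_zero, ← h]; abel

theorem cubic_basis {K : Subalgebra F (Matrix (Fin 3) (Fin 3) F)} (hK : IsFieldSubalgebra 3 K)
    (h2 : (2 : F) = 0) (h3F : ∀ z : F, z ≠ 0 → z ^ 3 = 1) {b : Matrix (Fin 3) (Fin 3) F} (hbK : b ∈ K)
    (hbns : ∀ c : F, b ≠ c • 1) {s t : F} (hst : s = 1 ∧ t = 0 ∨ s = 0 ∧ t = 1)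
    (hcub' : b ^ 3 = 1 + s • b + t • b ^ 2) :
    ∃ B : GL (Fin 3) F, ((B⁻¹ : GL (Fin 3) F) : Matrix (Fin 3) (Fin 3) F) * b * (B : Matrix (Fin 3) (Fin 3) F) =
      !![0, 0, 1; 1, 0, s; 0, 1, t] := by
  have hlin : ∀ a₀ a₁ : F, a₀ • (1 : Matrix (Fin 3) (Fin 3) F) + a₁ • b = 0 → a₀ = 0 ∧ a₁ = 0 := by
    intro a₀ a₁ h
    by_cases h1 : a₁ = 0
    · rw [h1, zero_smul, add_zero, smul_eq_zero] at h
      exact ⟨h.resolve_right one_ne_zero, h1⟩
    · refine absurd ?_ (hbns (-a₀ / a₁))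
      have := congrArg (a₁⁻¹ • ·) h
      simp only [smul_add, smul_smul, inv_mul_cancel₀ h1, one_smul, smul_zero] at this
      rw [neg_div, div_eq_inv_mul, neg_smul]
      exact eq_neg_of_add_eq_zero_right this
  let v₀ : Fin 3 → F := Pi.single 0 1
  let Bm : Matrix (Fin 3) (Fin 3) F := fun i j => ((b ^ (j : ℕ)) *ᵥ v₀) i
  have hev : ∀ k ∈ K, k *ᵥ v₀ = 0 → k = 0 := by
    intro k hk hkv
    by_contra hk0
    obtain ⟨y, hy, hky⟩ := hK.inv k hk hk0
    have := congrArg (y *ᵥ ·) hkv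
    simp only [Matrix.mulVec_zero, Matrix.mulVec_mulVec] at this
    rw [← hK.comm k hk y hy, hky, Matrix.one_mulVec] at this
    exact one_ne_zero (α := F) (by simpa [v₀] using congrFun this 0)
  have hBm : ∀ a : Fin 3 → F, Bm *ᵥ a = (a 0 • 1 + a 1 • b + a 2 • b ^ 2) *ᵥ v₀ := fun a => by
    ext i
    simp only [Bm, Matrix.mulVec, dotProduct, Fin.sum_univ_three, Fin.val_zero, Fin.val_one, Fin.val_two, pow_zero, pow_one,
      Matrix.add_apply, Matrix.smul_apply, smul_eq_mul, add_mul, Finset.sum_add_distrib, Finset.mul_sum, mul_assoc]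
    ring
  have hBinj : Function.Injective Bm.mulVec := by
    intro a a' h
    rw [hBm, hBm, ← sub_eq_zero, ← Matrix.sub_mulVec] at h
    have hk := hev _ (K.sub_mem (K.add_mem (K.add_mem (K.smul_mem K.one_mem _) (K.smul_mem hbK _)) (K.smul_mem (pow_mem hbK 2) _))
      (K.add_mem (K.add_mem (K.smul_mem K.one_mem _) (K.smul_mem hbK _)) (K.smul_mem (pow_mem hbK 2) _))) h
    set d := fun i => a i - a' i with hd
    have hk' : d 0 • 1 + d 1 • b + d 2 • b ^ 2 = 0 := by rw [← hk]; simp only [hd, sub_smul]; abel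
    suffices d 0 = 0 ∧ d 1 = 0 ∧ d 2 = 0 by
      ext i
      fin_cases i
      · exact sub_eq_zero.mp this.1
      · exact sub_eq_zero.mp this.2.1
      · exact sub_eq_zero.mp this.2.2
    by_cases hd2 : d 2 = 0
    · rw [hd2, zero_smul, add_zero] at hk'
      exact ⟨(hlin _ _ hk').1, (hlin _ _ hk').2, hd2⟩
    exfalso
    set u := -(d 2)⁻¹ * d 1
    set v := -(d 2)⁻¹ * d 0
    have hb2 : b ^ 2 = u • b + v • 1 := by
      have := congrArg ((d 2)⁻¹ • ·) hk'
      simp only [smul_add, smul_smul, inv_mul_cancel₀ hd2, one_smul, smul_zero] at this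
      rw [eq_neg_of_add_eq_zero_right this]
      simp only [u, v, neg_mul, neg_smul]; abel
    have hb3 : b ^ 3 = (u * u + v) • b + (u * v) • 1 := by
      rw [pow_succ', hb2, Matrix.mul_add, Matrix.mul_smul, Matrix.mul_smul, ← sq, hb2, Matrix.mul_one]
      module
    obtain ⟨e0, e1⟩ := hlin (u * v - 1 - t * v) (u * u + v - s - t * u) (by
      have h := sub_eq_zero.mpr (hb3.symm.trans hcub')
      rw [hb2] at h
      rw [← h]; module)
    have hu : u ^ 3 + u + 1 = 0 := by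
      rcases hst with ⟨rfl, rfl⟩ | ⟨rfl, rfl⟩
      · linear_combination u * e1 - e0 + (u - 0) * h2
      · linear_combination (u - 1) * e1 - e0 + (u ^ 2 + 0) * h2
    by_cases hu0 : u = 0
    · rw [hu0] at hu; simp at hu
    · rw [h3F u hu0] at hu
      exact hu0 (by linear_combination hu - h2)
  have hBunit : IsUnit Bm := Matrix.mulVec_injective_iff_isUnit.mp hBinj
  refine ⟨hBunit.unit, ?_⟩
  have hcol : ∀ (M : Matrix (Fin 3) (Fin 3) F) i j, (M * Bm) i j = ((M * b ^ (j : ℕ)) *ᵥ v₀) i := fun M i j => by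
    rw [← Matrix.mulVec_mulVec]; rfl
  have e : b * Bm = Bm * !![0, 0, 1; 1, 0, s; 0, 1, t] := by
    ext i j
    rw [hcol, ← pow_succ', Matrix.mul_apply, Fin.sum_univ_three]
    fin_cases j
    · simp [Bm, Matrix.mul_apply, Fin.sum_univ_three]
    · simp [Bm, Matrix.mul_apply, Fin.sum_univ_three]
    · simp [Bm, Matrix.mul_apply, Fin.sum_univ_three, hcub', Matrix.add_mulVec, Matrix.smul_mulVec, mul_comm]
  rw [IsUnit.unit_spec, Matrix.mul_assoc, e, ← Matrix.mul_assoc, IsUnit.val_inv_mul, Matrix.one_mul]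

/-- In `SL₃(4)` the normaliser of a cubic field lies in a subfield group over the field of two elements. -/
theorem field_le_subfield_four [Fintype F] (h4 : Fintype.card F = 4)
    {K : Subalgebra F (Matrix (Fin 3) (Fin 3) F)} (hK : IsFieldSubalgebra 3 K) :
    ∃ (F₀ : Subfield F) (P : GL (Fin 3) F), Fintype.card F = Nat.card F₀ ^ 2 ∧
      subalgebraNormalizer K ⊓ specialLinear (Fin 3) F ≤ subfieldSubgroup F₀ P := by
  classical
  haveI := char_two_of_card_four h4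
  obtain ⟨F₀, hF₀c, hF₀⟩ := exists_subfield_pow (b := 1) Nat.prime_two (h4.trans (show (4 : ℕ) = 2 ^ 2 from rfl))
    (one_dvd 2) one_pos
  obtain ⟨w, hwK, hw0, hgen, hword⟩ := exists_generator_fieldSubalgebra hK
  have hword' : ∀ a : ℕ, w ^ a = 1 ↔ 63 ∣ a := fun a => by
    rw [hword, Nat.card_eq_fintype_card, h4]; norm_num
  have h3F : ∀ z : F, z ≠ 0 → z ^ 3 = 1 := fun z hz => by
    have := FiniteField.pow_card_sub_one_eq_one z hz
    rwa [h4] at this
  have h2 : (2 : F) = 0 := CharTwo.two_eq_zero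
  obtain ⟨α, hα⟩ : ∃ α : F, α ≠ 0 ∧ α ≠ 1 := by
    by_contra hcon
    push Not at hcon
    have : Fintype.card F ≤ 2 := by
      rw [← Finset.card_univ]
      refine (Finset.card_le_card (t := {0, 1}) fun z _ => ?_).trans Finset.card_le_two
      by_cases hz : z = 0
      · simp [hz]
      · simp [hcon z hz]
    omega
  have hα2 : α ^ 2 + α + 1 = 0 := by
    rcases mul_eq_zero.mp (show (α - 1) * (α ^ 2 + α + 1) = 0 by linear_combination h3F α hα.1) with h | h
    · exact absurd (sub_eq_zero.mp h) hα.2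
    · exact h
  obtain ⟨c₀, hc₀⟩ : ∃ c : F, w ^ 21 = c • (1 : Matrix (Fin 3) (Fin 3) F) := by
    obtain ⟨a0, ha0⟩ := hgen (α • 1) (K.smul_mem K.one_mem _) (smul_ne_zero hα.1 one_ne_zero)
    have h1 : w ^ (a0 * 3) = 1 := by rw [pow_mul, ← ha0, smul_pow, h3F α hα.1, one_pow, one_smul]
    rw [hword'] at h1
    have hn : ¬ 63 ∣ a0 := fun h => by
      rw [← hword', ← ha0] at h
      exact hα.2 (by simpa using congrFun (congrFun h 0) 0)
    obtain ⟨u, rfl⟩ : 21 ∣ a0 := by omega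
    refine ⟨α ^ u, ?_⟩
    rw [show α ^ u • (1 : Matrix (Fin 3) (Fin 3) F) = (α • 1) ^ u by rw [smul_pow, one_pow], ha0, ← pow_mul]
    have hu : u * u % 3 = 1 := by
      rw [Nat.mul_mod]
      rcases (show u % 3 = 1 ∨ u % 3 = 2 by omega) with h | h <;> rw [h]
    obtain ⟨k, hk⟩ : ∃ k, u * u = 3 * k + 1 := ⟨u * u / 3, by omega⟩
    rw [show 21 * u * u = 21 + 63 * k by rw [mul_assoc, hk]; ring, pow_add, (hword' (63 * k)).mpr (dvd_mul_right _ _), Matrix.mul_one]
  set b := w ^ 9 with hb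
  have hbK : b ∈ K := pow_mem hwK 9
  have hb7 : b ^ 7 = 1 := by rw [hb, ← pow_mul, hword']
  have hpowb : ∀ x ∈ K, x ^ 7 = 1 → ∃ m : ℕ, x = b ^ m := by
    intro x hx h7
    obtain ⟨a, rfl⟩ := hgen x hx (fun e => by rw [e, zero_pow (by norm_num)] at h7; exact zero_ne_one h7)
    rw [← pow_mul, hword'] at h7
    obtain ⟨m, hm⟩ : 9 ∣ a := by omega
    exact ⟨m, by rw [hb, ← pow_mul, hm]⟩
  have hbns : ∀ c : F, b ≠ c • (1 : Matrix (Fin 3) (Fin 3) F) := fun c e => by
    by_cases hc : c = 0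
    · rw [hc, zero_smul] at e; rw [e, zero_pow (by norm_num)] at hb7; exact zero_ne_one hb7
    · have : b ^ 3 = 1 := by rw [e, smul_pow, one_pow, h3F c hc, one_smul]
      rw [hb, ← pow_mul, hword'] at this
      omega
  -- the cubic
  obtain ⟨s, t, hst, hcub⟩ : ∃ s t : F, (s = 1 ∧ t = 0 ∨ s = 0 ∧ t = 1) ∧ b ^ 3 = (1 : F) • 1 + s • b + t • b ^ 2 := by
    exact cubic_of_pow_seven hK hbK hb7 hbns
  have hcub' : b ^ 3 = 1 + s • b + t • b ^ 2 := by rw [hcub, one_smul]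
  obtain ⟨B, hbL'⟩ := cubic_basis hK h2 h3F hbK hbns hst hcub'
  refine ⟨F₀, B, by rw [h4, hF₀c]; rfl, ?_⟩
  let v₀ : Fin 3 → F := Pi.single 0 1
  let conjB : Matrix (Fin 3) (Fin 3) F → Matrix (Fin 3) (Fin 3) F := fun M =>
    ((B⁻¹ : GL (Fin 3) F) : Matrix (Fin 3) (Fin 3) F) * M * (B : Matrix (Fin 3) (Fin 3) F)
  have hconj_mul : ∀ M N, conjB (M * N) = conjB M * conjB N := fun M N => by
    simp only [conjB, Matrix.mul_assoc]
    congr 2
    rw [← Matrix.mul_assoc (B : Matrix (Fin 3) (Fin 3) F), ← Units.val_mul, mul_inv_cancel, Units.val_one, Matrix.one_mul]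
  have hconj_one : conjB 1 = 1 := by simp only [conjB, Matrix.mul_one, ← Units.val_mul, inv_mul_cancel, Units.val_one]
  set L : Matrix (Fin 3) (Fin 3) F := !![0, 0, 1; 1, 0, s; 0, 1, t] with hL
  have hbL : conjB b = L := hbL'
  have hF01 : (0 : F) ∈ F₀ ∧ (1 : F) ∈ F₀ ∧ s ∈ F₀ ∧ t ∈ F₀ := by
    rcases hst with ⟨rfl, rfl⟩ | ⟨rfl, rfl⟩ <;> exact ⟨zero_mem _, one_mem _, by simp, by simp⟩
  have hLent : ∀ (m : ℕ) i j, (L ^ m) i j ∈ F₀ := by
    intro m
    induction m with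
    | zero => intro i j; rw [pow_zero, Matrix.one_apply]; split_ifs <;> simp
    | succ m ih =>
      intro i j
      rw [pow_succ, Matrix.mul_apply]
      refine sum_mem fun k _ => mul_mem (ih i k) ?_
      rw [hL]
      fin_cases k <;> fin_cases j <;> simp [hF01.2.2.1, hF01.2.2.2]
  have hbm : ∀ m : ℕ, conjB (b ^ m) = L ^ m := by
    intro m
    induction m with
    | zero => rw [pow_zero, pow_zero, hconj_one]
    | succ m ih => rw [pow_succ, pow_succ, hconj_mul, ih, hbL]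
  have hdetconj : ∀ M, (conjB M).det = M.det := fun M => Matrix.det_units_conj' B M
  have hdetsc : ∀ M : Matrix (Fin 3) (Fin 3) F, M.det = 0 ∨ M.det ^ 3 = 1 := fun M => (em (M.det = 0)).imp_right (h3F _)
  have hdw : w.det ≠ 1 := by
    intro hd
    have hk : α • (1 : Matrix (Fin 3) (Fin 3) F) + b ∈ K := K.add_mem (K.smul_mem K.one_mem _) hbK
    obtain ⟨a, ha⟩ := hgen _ hk (fun e => hbns (-α) (by rw [neg_smul]; exact eq_neg_of_add_eq_zero_right e))
    have h1 : (α • (1 : Matrix (Fin 3) (Fin 3) F) + L).det = 1 := by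
      have e : conjB (α • 1 + b) = α • 1 + L := by
        rw [← hbL]; simp only [conjB, Matrix.mul_add, Matrix.add_mul, Matrix.mul_smul, Matrix.smul_mul]
        congr 2
      rw [← e, hdetconj, ha, Matrix.det_pow, hd, one_pow]
    rw [hL, Matrix.det_fin_three] at h1
    simp at h1
    rcases hst with ⟨rfl, rfl⟩ | ⟨rfl, rfl⟩
    · exact hα.2 (by linear_combination h1 - h3F α hα.1 + (α - 1) * h2)
    · exact hα.1 (by linear_combination -h1 + h3F α hα.1 + hα2)
  rintro g ⟨hgK, hgSL⟩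
  rw [mem_subfieldSubgroup]
  set g' := B⁻¹ * g * B with hg'
  have hg'det : (g' : Matrix (Fin 3) (Fin 3) F).det = 1 := by
    rw [hg', Units.val_mul, Units.val_mul]
    exact (hdetconj _).trans (det_gl_of_mem_specialLinear hgSL)
  obtain ⟨j, hj⟩ := hpowb _ ((hgK b).mp hbK) (by rw [Units.conj_pow, hb7, Matrix.mul_one, ← Units.val_mul, mul_inv_cancel, Units.val_one])
  have hg'L : (g' : Matrix (Fin 3) (Fin 3) F) * L = L ^ j * (g' : Matrix (Fin 3) (Fin 3) F) := by
    rw [← hbm, ← hbL, show (g' : Matrix (Fin 3) (Fin 3) F) = conjB g by simp only [hg', conjB, Units.val_mul],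
      ← hconj_mul, ← hconj_mul, ← hj]
    congr 1
    rw [Matrix.mul_assoc _ ((g⁻¹ : GL (Fin 3) F) : Matrix (Fin 3) (Fin 3) F), ← Units.val_mul, inv_mul_cancel, Units.val_one,
      Matrix.mul_one]
  let T₀ : Matrix (Fin 3) (Fin 3) F := fun i k => (L ^ (j * (k : ℕ))) i 0
  have hT₀ : ∀ i k, T₀ i k ∈ F₀ := fun i k => hLent _ _ _
  set z : Fin 3 → F := fun i => (g' : Matrix (Fin 3) (Fin 3) F) i 0 with hz
  set κ := z 0 • 1 + z 1 • L + z 2 • L ^ 2 with hκ
  have hLe : ∀ k : Fin 3, (L ^ (k : ℕ)) *ᵥ v₀ = Pi.single k 1 := by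
    intro k
    fin_cases k <;> ext i <;> fin_cases i <;> simp [hL, v₀, sq, Matrix.mul_apply, Fin.sum_univ_three, Matrix.mulVec, dotProduct]
  have hκv : κ *ᵥ v₀ = z := by
    rw [hκ, Matrix.add_mulVec, Matrix.add_mulVec, Matrix.smul_mulVec, Matrix.smul_mulVec, Matrix.smul_mulVec]
    have h0 := hLe 0; have h1 := hLe 1; have h2' := hLe 2
    simp only [Fin.val_zero, Fin.val_one, Fin.val_two, pow_zero, pow_one] at h0 h1 h2'
    rw [h0, h1, h2']
    ext i
    fin_cases i <;> simp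
  have hκcomm : Commute κ L := ((Commute.one_left L).smul_left _).add_left ((Commute.refl L).smul_left _) |>.add_left
    (((Commute.refl L).pow_left 2).smul_left _)
  have hgκ : (g' : Matrix (Fin 3) (Fin 3) F) = κ * T₀ := by
    refine Matrix.ext fun i k => ?_
    have e : (g' : Matrix (Fin 3) (Fin 3) F) *ᵥ ((L ^ (k : ℕ)) *ᵥ v₀) = (κ * L ^ (j * (k : ℕ))) *ᵥ v₀ := by
      have : ∀ m : ℕ, (g' : Matrix (Fin 3) (Fin 3) F) * L ^ m = L ^ (j * m) * (g' : Matrix (Fin 3) (Fin 3) F) := by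
        intro m
        induction m with
        | zero => simp
        | succ m ih => rw [pow_succ, ← Matrix.mul_assoc, ih, Matrix.mul_assoc, hg'L, ← Matrix.mul_assoc, Nat.mul_succ, pow_add]
      rw [Matrix.mulVec_mulVec, this, ← Matrix.mulVec_mulVec,
        show (g' : Matrix (Fin 3) (Fin 3) F) *ᵥ v₀ = κ *ᵥ v₀ by rw [hκv]; ext i; simp [v₀, hz],
        Matrix.mulVec_mulVec, (hκcomm.pow_right _).eq]
    rw [hLe] at e
    have := congrFun e i
    rw [Matrix.mul_apply]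
    simpa [v₀, T₀, Matrix.mul_apply] using this
  have hdetT : T₀.det = 1 := by
    have hmem : T₀.det ∈ F₀ := by
      let T₁ : Matrix (Fin 3) (Fin 3) F₀ := fun i k => ⟨T₀ i k, hT₀ i k⟩
      have e : (F₀.subtype : F₀ →+* F).mapMatrix T₁ = T₀ := rfl
      rw [← e, ← RingHom.map_det]
      exact SetLike.coe_mem _
    have hne : T₀.det ≠ 0 := fun e => by
      rw [hgκ, Matrix.det_mul, e, mul_zero] at hg'det; exact zero_ne_one hg'det
    have h2' := (hF₀ _).mp hmem
    rw [pow_one, sq] at h2'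
    exact (mul_eq_left₀ hne).mp h2'
  have hκdet : κ.det = 1 := by rw [hgκ, Matrix.det_mul, hdetT, mul_one] at hg'det; exact hg'det
  set k := z 0 • 1 + z 1 • b + z 2 • b ^ 2 with hk
  have hkK : k ∈ K := K.add_mem (K.add_mem (K.smul_mem K.one_mem _) (K.smul_mem hbK _)) (K.smul_mem (pow_mem hbK 2) _)
  have hkκ : conjB k = κ := by
    rw [hκ, ← hbm 2, ← hbL, ← hconj_one]
    simp only [conjB, hk, Matrix.mul_add, Matrix.add_mul, Matrix.mul_smul, Matrix.smul_mul]
  have hkdet : k.det = 1 := by rw [← hdetconj, hkκ, hκdet]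
  obtain ⟨a, ha⟩ := hgen k hkK fun e => by rw [e, Matrix.det_zero] at hkdet; exact zero_ne_one hkdet
  obtain ⟨m, rfl⟩ : 3 ∣ a := by
    rw [ha, Matrix.det_pow] at hkdet
    have hd3 : w.det ^ 3 = 1 := (hdetsc w).resolve_left fun e => by
      rw [e] at hkdet
      rcases Nat.eq_zero_or_pos a with h | h
      · exact zero_ne_one (α := F) (by
          have := congrArg Matrix.det ((hword' 63).mpr dvd_rfl)
          rwa [Matrix.det_pow, e, zero_pow (by norm_num), Matrix.det_one] at this)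
      · rw [zero_pow h.ne'] at hkdet; exact zero_ne_one hkdet
    haveI : Fact (Nat.Prime 3) := ⟨Nat.prime_three⟩
    rw [← orderOf_eq_prime hd3 hdw]
    exact orderOf_dvd_of_pow_eq_one hkdet
  obtain ⟨c, hc⟩ : ∃ c : F, (w ^ 21) ^ m = c • (1 : Matrix (Fin 3) (Fin 3) F) :=
    ⟨c₀ ^ m, by rw [hc₀, smul_pow, one_pow]⟩
  have hks : k = c • b ^ (m * 19) := by
    rw [← Matrix.one_mul (b ^ (m * 19)), ← Matrix.smul_mul, ← hc, ha, hb, ← pow_mul, ← pow_mul, ← pow_add]
    calc w ^ (3 * m) = w ^ (3 * m) * w ^ (63 * (3 * m)) := by rw [(hword' _).mpr ⟨3 * m, rfl⟩, Matrix.mul_one]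
      _ = _ := by rw [← pow_add]; congr 1; ring
  have hg's : (g' : Matrix (Fin 3) (Fin 3) F) = c • (L ^ (m * 19) * T₀) := by
    rw [hgκ, ← hkκ, hks, ← hbm, ← Matrix.smul_mul]
    congr 1
    simp only [conjB, Matrix.mul_smul, Matrix.smul_mul]
  have hc0 : c ≠ 0 := fun e => g'.ne_zero (by rw [hg's, e, zero_smul])
  let S : GL (Fin 3) F := Units.map (Matrix.scalar (Fin 3) : F →+* _).toMonoidHom (Units.mk0 c hc0)
  have hent : ∀ i k, ((S⁻¹ * g' : GL (Fin 3) F) : Matrix (Fin 3) (Fin 3) F) i k ∈ F₀ := by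
    intro i k
    have e : ((S⁻¹ * g' : GL (Fin 3) F) : Matrix (Fin 3) (Fin 3) F) = L ^ (m * 19) * T₀ := by
      rw [Units.val_mul, hg's]
      ext i j
      simp [S, hc0]
    rw [e, Matrix.mul_apply]
    exact sum_mem fun l _ => mul_mem (hLent _ _ _) (hT₀ _ _)
  rw [show g' = S * (S⁻¹ * g') by group]
  exact mul_mem (Subgroup.mem_sup_right ⟨_, rfl⟩) (Subgroup.mem_sup_left (mem_range_map_subfield hent))

end Cfsg.Agent.Classical
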