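/-
Commutative algebras normalised by an irreducible group: scalar, imprimitive, or an extension field of prime degree.
-/
import Cfsg.Agent.Lib.Classical.Irreducible
import Cfsg.Agent.Lib.Classical.Subfield

set_option autoImplicit false
set_option linter.style.haveILetI false

namespace Cfsg.Agent.Classical

open Matrix Cfsg.Geo

variable {ι : Type} [Fintype ι] [DecidableEq ι] {F : Type*} [Field F]

theorem mem_subalgebraNormalizer_iff {K : Subalgebra F (Matrix ι ι F)} {g : GL ι F} :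
    g ∈ subalgebraNormalizer K ↔
      ∀ k : Matrix ι ι F, k ∈ K ↔ (g : Matrix ι ι F) * k * ((g⁻¹ : GL ι F) : Matrix ι ι F) ∈ K := Iff.rfl

theorem finrank_pos_subalgebra [Nonempty ι] (K : Subalgebra F (Matrix ι ι F)) : 0 < Module.finrank F K := by
  haveI : Nontrivial K := ⟨⟨0, 1, fun h => zero_ne_one (congrArg Subtype.val h)⟩⟩
  exact Module.finrank_pos

/-- A field subalgebra of degree greater than one contains one of prime degree with a larger normaliser. -/
theorem exists_prime_degree_subalgebra [Fintype F] [Nonempty ι] {f : ℕ} (hf : 1 < f)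
    {K : Subalgebra F (Matrix ι ι F)} (hK : IsFieldSubalgebra f K) :
    ∃ (r : ℕ) (K' : Subalgebra F (Matrix ι ι F)), r.Prime ∧ IsFieldSubalgebra r K' ∧
      subalgebraNormalizer K ≤ subalgebraNormalizer K' ∧ ∃ N : ℕ, ∀ x, x ∈ K' ↔ x ∈ K ∧ x ^ N = x := by
  classical
  haveI : Finite K := Finite.of_injective _ Subtype.val_injective
  haveI : Fintype K := Fintype.ofFinite _
  haveI : Nontrivial K := ⟨⟨0, 1, fun e => zero_ne_one (congrArg Subtype.val e)⟩⟩
  letI : CommRing K := { K.toRing with mul_comm := fun a b => Subtype.ext (hK.comm a a.2 b b.2) }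
  have hfield : IsField K := by
    refine ⟨exists_pair_ne K, mul_comm, fun {a} ha => ?_⟩
    obtain ⟨y, hy, hay⟩ := hK.inv a a.2 (fun e => ha (Subtype.ext e))
    exact ⟨⟨y, hy⟩, Subtype.ext hay⟩
  letI : Field K := hfield.toField
  obtain ⟨p, hchar⟩ := CharP.exists F
  obtain ⟨⟨e, he⟩, hp, hcF⟩ := FiniteField.card F p
  change Fintype.card F = p ^ e at hcF
  haveI : CharP K p := charP_of_injective_algebraMap (algebraMap F K).injective p
  have hcard : Fintype.card K = p ^ (e * f) := by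
    rw [Module.card_eq_pow_finrank (K := F) (V := K), hK.finrank_eq, hcF, ← pow_mul]
  set r := f.minFac with hr
  have hrp : r.Prime := Nat.minFac_prime (by omega)
  obtain ⟨s, hs⟩ : r ∣ f := Nat.minFac_dvd f
  obtain ⟨K₀, hK₀, hK₀iff⟩ := exists_subfield_pow hp hcard (b := e * r) ⟨s, by rw [hs, mul_assoc]⟩
    (Nat.mul_pos he hrp.pos)
  let K' : Subalgebra F (Matrix ι ι F) :=
    { carrier := {x | ∃ h : x ∈ K, (⟨x, h⟩ : K) ∈ K₀}
      mul_mem' := by
        rintro a b ⟨ha, ha'⟩ ⟨hb, hb'⟩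
        exact ⟨mul_mem ha hb, mul_mem ha' hb'⟩
      one_mem' := ⟨one_mem K, one_mem K₀⟩
      add_mem' := by
        rintro a b ⟨ha, ha'⟩ ⟨hb, hb'⟩
        exact ⟨add_mem ha hb, add_mem ha' hb'⟩
      zero_mem' := ⟨zero_mem K, zero_mem K₀⟩
      algebraMap_mem' := fun c => ⟨K.algebraMap_mem c, (hK₀iff _).mpr (by
        change (algebraMap F K c) ^ p ^ (e * r) = algebraMap F K c
        rw [← map_pow]
        congr 1
        rw [pow_mul, ← hcF]
        exact FiniteField.pow_card_pow r c)⟩ }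
  have hmem : ∀ x, x ∈ K' ↔ x ∈ K ∧ x ^ p ^ (e * r) = x := fun x => by
    constructor
    · rintro ⟨h, h'⟩
      exact ⟨h, by simpa using congrArg Subtype.val ((hK₀iff _).mp h')⟩
    · rintro ⟨h, h'⟩
      exact ⟨h, (hK₀iff _).mpr (Subtype.ext (by simpa using h'))⟩
  have hdim : Module.finrank F K' = r := by
    have h1 : Nat.card K' = Nat.card K₀ := Nat.card_congr
      { toFun := fun x => ⟨⟨x, x.2.1⟩, x.2.2⟩
        invFun := fun y => ⟨(y : K), (y : K).2, y.2⟩
        left_inv := fun _ => rfl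
        right_inv := fun _ => rfl }
    rw [hK₀, Module.natCard_eq_pow_finrank (K := F) (V := K'), Nat.card_eq_fintype_card, hcF, ← pow_mul] at h1
    exact Nat.eq_of_mul_eq_mul_left he (Nat.pow_right_injective hp.two_le h1)
  refine ⟨r, K', hrp, ⟨fun x hx y hy => hK.comm x ((hmem x).mp hx).1 y ((hmem y).mp hy).1, fun x hx hx0 => ?_, hdim⟩,
    fun g hg k => ?_, _, hmem⟩
  · obtain ⟨hxK, hxf⟩ := (hmem x).mp hx
    obtain ⟨y, hy, hxy⟩ := hK.inv x hxK hx0
    refine ⟨y, (hmem y).mpr ⟨hy, ?_⟩, hxy⟩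
    have hyx : y * x = 1 := (hK.comm y hy x hxK).trans hxy
    have hc : Commute x y := hxy.trans hyx.symm
    calc y ^ p ^ (e * r) = y ^ p ^ (e * r) * (x * y) := by rw [hxy, mul_one]
      _ = y ^ p ^ (e * r) * x ^ p ^ (e * r) * y := by rw [hxf, mul_assoc]
      _ = y := by rw [← (hc.symm).mul_pow, hyx, one_pow, one_mul]
  · rw [hmem, hmem, mem_subalgebraNormalizer_iff.mp hg k]
    refine and_congr_right fun _ => ?_
    rw [Units.conj_pow]
    constructor
    · intro h; rw [h]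
    · intro h
      have h2 := congrArg (fun z => ((g⁻¹ : GL ι F) : Matrix ι ι F) * z * (g : Matrix ι ι F)) h
      simpa [← mul_assoc, mul_assoc _ _ (g : Matrix ι ι F)] using h2

omit [Fintype ι] in
theorem mulVec_mem_range [Fintype ι] (e : Matrix ι ι F) (v : ι → F) :
    e *ᵥ v ∈ LinearMap.range (Matrix.toLin' e) := ⟨v, by simp⟩

theorem range_conj (g : GL ι F) (e : Matrix ι ι F) :
    LinearMap.range (Matrix.toLin' ((g : Matrix ι ι F) * e * ((g⁻¹ : GL ι F) : Matrix ι ι F))) =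
      (LinearMap.range (Matrix.toLin' e)).map (Matrix.toLin' (g : Matrix ι ι F)) := by
  rw [Matrix.toLin'_mul, Matrix.toLin'_mul, LinearMap.range_comp, LinearMap.range_eq_top.mpr, Submodule.map_top,
    LinearMap.range_comp]
  intro v
  exact ⟨(g : Matrix ι ι F) *ᵥ v, by rw [Matrix.toLin'_apply, gl_inv_mulVec_cancel]⟩

theorem conj_matrix_injective (g : GL ι F) :
    Function.Injective fun e : Matrix ι ι F => (g : Matrix ι ι F) * e * ((g⁻¹ : GL ι F) : Matrix ι ι F) := fun a b h => by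
  have h2 := congrArg (fun z => ((g⁻¹ : GL ι F) : Matrix ι ι F) * z * (g : Matrix ι ι F)) h
  simpa [← mul_assoc, mul_assoc _ _ (g : Matrix ι ι F)] using h2

/-- An orbit of idempotents of a commutative algebra normalised by an irreducible group. -/
theorem exists_idempotent_orbit [Finite F] [Nonempty ι] {H : Subgroup (GL ι F)} (hH : ActsIrreducibly (matrixSet H))
    {Z : Subalgebra F (Matrix ι ι F)} (hZ : ∀ x ∈ Z, ∀ y ∈ Z, x * y = y * x)
    (hconj : ∀ g ∈ H, ∀ z ∈ Z, (g : Matrix ι ι F) * z * ((g⁻¹ : GL ι F) : Matrix ι ι F) ∈ Z)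
    {e₁ : Matrix ι ι F} (he₁Z : e₁ ∈ Z) (he₁ : e₁ * e₁ = e₁) (he₁0 : e₁ ≠ 0) (he₁1 : e₁ ≠ 1) :
    ∃ O : Finset (Matrix ι ι F), 2 ≤ O.card ∧ (∀ e ∈ O, e ∈ Z ∧ e * e = e ∧ e ≠ 0) ∧
      (∀ e ∈ O, ∀ f ∈ O, e ≠ f → e * f = 0) ∧ ∑ e ∈ O, e = 1 ∧
      (∀ g ∈ H, ∀ e ∈ O, (g : Matrix ι ι F) * e * ((g⁻¹ : GL ι F) : Matrix ι ι F) ∈ O) ∧
      (∀ a ∈ O, ∀ b ∈ O, ∃ g ∈ H, (g : Matrix ι ι F) * a * ((g⁻¹ : GL ι F) : Matrix ι ι F) = b) ∧
      ∀ e ∈ O, ∀ f ∈ Z, f * f = f → e * f ≠ 0 → e * f = e := by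
  classical
  haveI := Fintype.ofFinite F
  have hconjpow : ∀ (g : GL ι F) (z : Matrix ι ι F) (i : ℕ),
      ((g : Matrix ι ι F) * z * ((g⁻¹ : GL ι F) : Matrix ι ι F)) ^ i = (g : Matrix ι ι F) * z ^ i * ((g⁻¹ : GL ι F) : Matrix ι ι F) :=
    fun g z i => Units.conj_pow g z i
  let rk : Matrix ι ι F → ℕ := fun e => Module.finrank F (LinearMap.range (Matrix.toLin' e))
  -- a primitive idempotent
  obtain ⟨e₀, ⟨he₀Z, he₀, he₀0⟩, hmin⟩ := Set.exists_min_image {e | e ∈ Z ∧ e * e = e ∧ e ≠ 0} rk (Set.toFinite _)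
    ⟨e₁, he₁Z, he₁, he₁0⟩
  have hrange : ∀ e f : Matrix ι ι F, LinearMap.range (Matrix.toLin' (e * f)) ≤ LinearMap.range (Matrix.toLin' e) :=
    fun e f => by rw [Matrix.toLin'_mul]; exact LinearMap.range_comp_le_range _ _
  have habs : ∀ e ∈ Z, e * e = e → rk e = rk e₀ → ∀ f ∈ Z, f * f = f → e * f ≠ 0 → e * f = e := by
    intro e he he' hrk f hf hf' hef
    have hef' : e * f * (e * f) = e * f := by
      rw [Matrix.mul_assoc, ← Matrix.mul_assoc f, hZ f hf e he, Matrix.mul_assoc e f f, hf', ← Matrix.mul_assoc, he']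
    have heq : LinearMap.range (Matrix.toLin' (e * f)) = LinearMap.range (Matrix.toLin' e) :=
      Submodule.eq_of_le_of_finrank_le (hrange e f)
        (le_of_eq_of_le hrk (hmin (e * f) ⟨mul_mem he hf, hef', hef⟩))
    calc e * f = e * f * e := by rw [Matrix.mul_assoc, hZ f hf e he, ← Matrix.mul_assoc, he']
      _ = e := by
        refine Matrix.toLin'.injective (LinearMap.ext fun v => ?_)
        obtain ⟨w, hw⟩ : e *ᵥ v ∈ LinearMap.range (Matrix.toLin' (e * f)) := heq ▸ mulVec_mem_range e v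
        rw [Matrix.toLin'_apply] at hw
        rw [Matrix.toLin'_apply, Matrix.toLin'_apply, ← Matrix.mulVec_mulVec, ← hw, Matrix.mulVec_mulVec, hef']
  let conjg : GL ι F → Matrix ι ι F := fun g => (g : Matrix ι ι F) * e₀ * ((g⁻¹ : GL ι F) : Matrix ι ι F)
  let O : Finset (Matrix ι ι F) := (Set.toFinite (conjg '' (H : Set (GL ι F)))).toFinset
  have hO : ∀ e ∈ O, ∃ g ∈ H, conjg g = e := fun e he => by simpa [O] using he
  have hOmem : ∀ g ∈ H, conjg g ∈ O := fun g hg => by simpa [O] using ⟨g, hg, rfl⟩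
  have hOp : ∀ e ∈ O, e ∈ Z ∧ e * e = e ∧ rk e = rk e₀ ∧ e ≠ 0 := by
    intro e he
    obtain ⟨g, hg, rfl⟩ := hO e he
    have hrk : rk (conjg g) = rk e₀ := by
      change Module.finrank F ↥(LinearMap.range (Matrix.toLin' _)) = _
      rw [range_conj, finrank_map_gl]
    refine ⟨hconj g hg e₀ he₀Z, ?_, hrk, fun h => ?_⟩
    · rw [← sq, hconjpow, sq, he₀]
    · apply he₀0
      have h2 := congrArg (fun z => ((g⁻¹ : GL ι F) : Matrix ι ι F) * z * (g : Matrix ι ι F)) h
      simpa [conjg, ← mul_assoc, mul_assoc _ _ (g : Matrix ι ι F)] using h2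
  have horth : ∀ e ∈ O, ∀ f ∈ O, e ≠ f → e * f = 0 := by
    intro e he f hf hne
    by_contra h
    obtain ⟨heZ, he', hre, -⟩ := hOp e he
    obtain ⟨hfZ, hf', hrf, -⟩ := hOp f hf
    refine hne ((habs e heZ he' hre f hfZ hf' h).symm.trans ?_)
    rw [hZ e heZ f hfZ] at h ⊢
    exact habs f hfZ hf' hrf e heZ he' h
  -- the orbit sums to one
  set s := ∑ e ∈ O, e with hs
  have hse : ∀ e ∈ O, s * e = e := fun e he => by
    rw [hs, Finset.sum_mul, Finset.sum_eq_single e (fun f hf hne => horth f hf e he hne) (fun h => absurd he h)]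
    exact (hOp e he).2.1
  have hs2 : s * s = s := by
    conv_lhs => arg 2; rw [hs]
    rw [Finset.mul_sum]
    exact Finset.sum_congr rfl hse
  have hgs : ∀ g ∈ H, (g : Matrix ι ι F) * s = s * (g : Matrix ι ι F) := by
    intro g hg
    have himg : O.image (fun e => (g : Matrix ι ι F) * e * ((g⁻¹ : GL ι F) : Matrix ι ι F)) = O := by
      refine Finset.eq_of_subset_of_card_le ?_ ?_
      · intro e he
        obtain ⟨f, hf, rfl⟩ := Finset.mem_image.mp he
        obtain ⟨h, hh, rfl⟩ := hO f hf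
        have := hOmem (g * h) (mul_mem hg hh)
        simp only [conjg, _root_.mul_inv_rev, Units.val_mul] at this ⊢
        simpa only [Matrix.mul_assoc] using this
      · rw [Finset.card_image_of_injective _ fun a b h => ?_]
        have h2 := congrArg (fun z => ((g⁻¹ : GL ι F) : Matrix ι ι F) * z * (g : Matrix ι ι F)) h
        simpa [← mul_assoc, mul_assoc _ _ (g : Matrix ι ι F)] using h2
    have h1 : (g : Matrix ι ι F) * s * ((g⁻¹ : GL ι F) : Matrix ι ι F) = s := by
      rw [hs, Finset.mul_sum, Finset.sum_mul]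
      conv_rhs => rw [← himg]
      rw [Finset.sum_image]
      intro a _ b _ h
      have h2 := congrArg (fun z => ((g⁻¹ : GL ι F) : Matrix ι ι F) * z * (g : Matrix ι ι F)) h
      simpa [← mul_assoc, mul_assoc _ _ (g : Matrix ι ι F)] using h2
    calc (g : Matrix ι ι F) * s = (g : Matrix ι ι F) * s * ((g⁻¹ : GL ι F) : Matrix ι ι F) * (g : Matrix ι ι F) := by
          rw [Matrix.mul_assoc _ _ (g : Matrix ι ι F), Units.inv_mul, Matrix.mul_one]
      _ = _ := by rw [h1]
  have he₀O : e₀ ∈ O := by simpa [conjg] using hOmem 1 (one_mem H)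
  have hs1 : s = 1 := by
    have hR := hH (LinearMap.range (Matrix.toLin' s)) (by
      rintro _ ⟨g, hg, rfl⟩
      rw [map_toLin'_le]
      rintro _ ⟨v, rfl⟩
      exact ⟨(g : Matrix ι ι F) *ᵥ v, by simp only [Matrix.toLin'_apply, Matrix.mulVec_mulVec, hgs g hg]⟩)
    have hne : LinearMap.range (Matrix.toLin' s) ≠ ⊥ := fun h => he₀0 (by
      rw [LinearMap.range_eq_bot] at h
      have h0 : s = 0 := Matrix.toLin'.injective (h.trans (map_zero _).symm)
      rw [← hse e₀ he₀O, h0, zero_mul])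
    refine Matrix.toLin'.injective (LinearMap.ext fun v => ?_)
    obtain ⟨w, hw⟩ : v ∈ LinearMap.range (Matrix.toLin' s) := (hR.resolve_left hne) ▸ Submodule.mem_top
    rw [← hw]
    simp [Matrix.mulVec_mulVec, hs2]
  refine ⟨O, ?_, fun e he => ⟨(hOp e he).1, (hOp e he).2.1, (hOp e he).2.2.2⟩, horth, hs1, fun g hg e he => ?_,
    fun a ha b hb => ?_, fun e he => habs e (hOp e he).1 (hOp e he).2.1 (hOp e he).2.2.1⟩
  · refine Finset.one_lt_card.mpr ⟨e₀, he₀O, ?_⟩
    by_contra hcon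
    push Not at hcon
    have e0 : e₀ = 1 := by
      rw [← hs1, hs, Finset.sum_eq_single e₀ (fun b hb hne => absurd (hcon b hb).symm hne) (fun h => absurd he₀O h)]
    have h := hmin e₁ ⟨he₁Z, he₁, he₁0⟩
    simp only [rk, e0] at h
    rw [Matrix.toLin'_one, LinearMap.range_id, finrank_top] at h
    apply he₁1
    have htop : LinearMap.range (Matrix.toLin' e₁) = ⊤ := Submodule.eq_top_of_finrank_eq (le_antisymm
      (Submodule.finrank_le _) h)
    refine Matrix.toLin'.injective (LinearMap.ext fun v => ?_)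
    obtain ⟨w, hw⟩ : v ∈ LinearMap.range (Matrix.toLin' e₁) := htop ▸ Submodule.mem_top
    rw [← hw]
    simp [Matrix.mulVec_mulVec, he₁]
  · obtain ⟨h, hh, rfl⟩ := hO e he
    have := hOmem (g * h) (mul_mem hg hh)
    simp only [conjg, _root_.mul_inv_rev, Units.val_mul] at this ⊢
    simpa only [Matrix.mul_assoc] using this
  · obtain ⟨x, hx, rfl⟩ := hO a ha
    obtain ⟨y, hy, rfl⟩ := hO b hb
    refine ⟨y * x⁻¹, mul_mem hy (inv_mem hx), ?_⟩
    simp only [conjg, _root_.mul_inv_rev, inv_inv, Units.val_mul, Matrix.mul_assoc]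
    rw [← Matrix.mul_assoc _ (x : Matrix ι ι F), Units.inv_mul, Matrix.one_mul,
      ← Matrix.mul_assoc _ (x : Matrix ι ι F) _, Units.inv_mul, Matrix.one_mul]

/-- Orthogonal idempotents of equal rank summing to one and permuted by a group give a decomposition. -/
theorem decomposition_of_idempotents {H : Subgroup (GL ι F)} (O : Finset (Matrix ι ι F)) (h2 : 2 ≤ O.card)
    (hid : ∀ e ∈ O, e * e = e) (h0 : ∀ e ∈ O, e ≠ 0) (horth : ∀ e ∈ O, ∀ f ∈ O, e ≠ f → e * f = 0)
    (hs1 : ∑ e ∈ O, e = 1)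
    (hclosed : ∀ g ∈ H, ∀ e ∈ O, (g : Matrix ι ι F) * e * ((g⁻¹ : GL ι F) : Matrix ι ι F) ∈ O)
    (hrk : ∀ e ∈ O, ∀ f ∈ O, Module.finrank F (LinearMap.range (Matrix.toLin' e)) =
      Module.finrank F (LinearMap.range (Matrix.toLin' f))) :
    ∃ (m : ℕ) (D : Fin O.card → Submodule F (ι → F)) (ε : Fin O.card ≃ O), IsMDecomposition m D ∧
      (∀ i, D i = LinearMap.range (Matrix.toLin' ((ε i : O) : Matrix ι ι F))) ∧ H ≤ decompositionStabilizer D := by
  classical
  obtain ⟨e₀, he₀O⟩ := Finset.card_pos.mp (show 0 < O.card by omega)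
  let rk : Matrix ι ι F → ℕ := fun e => Module.finrank F (LinearMap.range (Matrix.toLin' e))
  have hrk0 : 0 < rk e₀ := Nat.pos_of_ne_zero fun h => by
    have hb : LinearMap.range (Matrix.toLin' e₀) = ⊥ := Submodule.finrank_eq_zero.mp h
    rw [LinearMap.range_eq_bot] at hb
    exact h0 e₀ he₀O (Matrix.toLin'.injective (hb.trans (map_zero _).symm))
  let ε := O.equivFin
  let D : Fin O.card → Submodule F (ι → F) := fun i => LinearMap.range (Matrix.toLin' ((ε.symm i : O) : Matrix ι ι F))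
  have hproj : ∀ (i : Fin O.card) (v : ι → F), v ∈ D i → ((ε.symm i : O) : Matrix ι ι F) *ᵥ v = v := by
    rintro i _ ⟨w, rfl⟩
    rw [Matrix.toLin'_apply, Matrix.mulVec_mulVec, hid _ (ε.symm i).2]
  have hindep : iSupIndep D := by
    intro i
    rw [disjoint_iff, eq_bot_iff]
    rintro v ⟨hv1, hv2⟩
    have hker : (⨆ (j) (_ : j ≠ i), D j) ≤ LinearMap.ker (Matrix.toLin' ((ε.symm i : O) : Matrix ι ι F)) :=
      iSup₂_le fun j hj => by
        rintro _ ⟨w, rfl⟩
        rw [LinearMap.mem_ker, Matrix.toLin'_apply, Matrix.toLin'_apply, Matrix.mulVec_mulVec,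
          horth _ (ε.symm i).2 _ (ε.symm j).2 fun h => hj (ε.symm.injective (Subtype.ext h)).symm, Matrix.zero_mulVec]
    have h := hker hv2
    rw [LinearMap.mem_ker, Matrix.toLin'_apply, hproj i v hv1] at h
    exact (Submodule.mem_bot F).mpr h
  have htop : iSup D = ⊤ := by
    rw [eq_top_iff]
    intro v _
    rw [← Matrix.one_mulVec v, ← hs1, Matrix.sum_mulVec]
    refine Submodule.sum_mem _ fun e he => Submodule.mem_iSup_of_mem (ε ⟨e, he⟩) ?_
    simp only [D, Equiv.symm_apply_apply]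
    exact mulVec_mem_range e v
  have hm : ∀ i, Module.finrank F (D i) = rk e₀ := fun i => hrk _ (ε.symm i).2 _ he₀O
  refine ⟨rk e₀, D, ε.symm, ⟨h2, hrk0, hm, hindep, htop⟩, fun i => rfl, fun g hg => ?_⟩
  have himg : ∀ i, ∃ j, (D i).map (Matrix.toLin' (g : Matrix ι ι F)) = D j := by
    intro i
    refine ⟨ε ⟨_, hclosed g hg _ (ε.symm i).2⟩, ?_⟩
    simp only [D, Equiv.symm_apply_apply]
    rw [range_conj]
  choose π hπ using himg
  have hinj : Function.Injective π := fun a b hab => by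
    by_contra hne
    have h1 : D a = D b := Submodule.map_injective_of_injective
      (f := Matrix.toLin' (g : Matrix ι ι F)) (fun x y h => gl_mulVec_injective g (by simpa using h))
      (by rw [hπ, hπ, hab])
    have h2 : Disjoint (D a) (D b) := hindep.pairwiseDisjoint hne
    rw [h1, disjoint_self] at h2
    have := hm b
    rw [h2, finrank_bot] at this
    omega
  exact ⟨Equiv.ofBijective π (Finite.injective_iff_bijective.mp hinj), hπ⟩

/-- Without idempotents, a commutative algebra normalised by an irreducible group is a field. -/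
theorem exists_inv_of_no_idempotent [Finite F] [Nonempty ι] {H : Subgroup (GL ι F)} (hH : ActsIrreducibly (matrixSet H))
    {Z : Subalgebra F (Matrix ι ι F)} (hZ : ∀ x ∈ Z, ∀ y ∈ Z, x * y = y * x)
    (hconj : ∀ g ∈ H, ∀ z ∈ Z, (g : Matrix ι ι F) * z * ((g⁻¹ : GL ι F) : Matrix ι ι F) ∈ Z)
    (hidem : ∀ e ∈ Z, e * e = e → e = 0 ∨ e = 1) : ∀ z ∈ Z, z ≠ 0 → ∃ y ∈ Z, z * y = 1 := by
  classical
  have hconjpow : ∀ (g : GL ι F) (z : Matrix ι ι F) (i : ℕ),
      ((g : Matrix ι ι F) * z * ((g⁻¹ : GL ι F) : Matrix ι ι F)) ^ i = (g : Matrix ι ι F) * z ^ i * ((g⁻¹ : GL ι F) : Matrix ι ι F) :=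
    fun g z i => Units.conj_pow g z i
  -- no nilpotent elements
  have hred : ∀ z ∈ Z, IsNilpotent z → z = 0 := by
    let J : Set (Matrix ι ι F) := {z | z ∈ Z ∧ IsNilpotent z}
    have hJfin : J.Finite := Set.toFinite J
    have hker : ∀ S : Finset (Matrix ι ι F), (∀ z ∈ S, z ∈ J) → ∃ v : ι → F, v ≠ 0 ∧ ∀ z ∈ S, z *ᵥ v = 0 := by
      intro S
      induction S using Finset.induction with
      | empty =>
        intro _
        exact ⟨Pi.single (Classical.arbitrary ι) 1, by simp, by simp⟩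
      | insert a S _ ih =>
        intro hS
        obtain ⟨v, hv0, hv⟩ := ih fun z hz => hS z (Finset.mem_insert_of_mem hz)
        obtain ⟨haZ, k, hk⟩ := hS a (Finset.mem_insert_self a S)
        have hex : ∃ k, a ^ k *ᵥ v = 0 := ⟨k, by rw [hk, Matrix.zero_mulVec]⟩
        have hk0 : Nat.find hex ≠ 0 := fun h => hv0 (by
          have := Nat.find_spec hex
          rwa [h, pow_zero, Matrix.one_mulVec] at this)
        obtain ⟨j, hj⟩ := Nat.exists_eq_succ_of_ne_zero hk0
        refine ⟨a ^ j *ᵥ v, Nat.find_min hex (by omega), fun z hz => ?_⟩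
        rcases Finset.mem_insert.mp hz with rfl | hz
        · rw [Matrix.mulVec_mulVec, ← pow_succ', ← Nat.succ_eq_add_one, ← hj]
          exact Nat.find_spec hex
        · rw [Matrix.mulVec_mulVec, hZ z (hS z (Finset.mem_insert_of_mem hz)).1 _ (pow_mem haZ j), ← Matrix.mulVec_mulVec,
            hv z hz, Matrix.mulVec_zero]
    obtain ⟨v, hv0, hv⟩ := hker hJfin.toFinset fun z hz => hJfin.mem_toFinset.mp hz
    let U : Submodule F (ι → F) := ⨅ z : J, LinearMap.ker (Matrix.toLin' (z : Matrix ι ι F))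
    have hU : ∀ u, u ∈ U ↔ ∀ z ∈ J, z *ᵥ u = 0 := fun u => by simp [U, Submodule.mem_iInf]
    have hUt : U = ⊤ := by
      refine (hH U ?_).resolve_left fun h => hv0 ?_
      · rintro _ ⟨g, hg, rfl⟩
        refine map_toLin'_le.mpr fun u hu => (hU _).mpr fun z ⟨hz, k, hk⟩ => ?_
        set z' := ((g⁻¹ : GL ι F) : Matrix ι ι F) * z * (g : Matrix ι ι F) with hz'def
        have hz' : z' ∈ J := ⟨by have := hconj g⁻¹ (inv_mem hg) z hz; rwa [inv_inv] at this, k, by
          have := hconjpow g⁻¹ z k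
          rw [inv_inv] at this
          rw [hz'def, this, hk, mul_zero, zero_mul]⟩
        calc z *ᵥ ((g : Matrix ι ι F) *ᵥ u) = (g : Matrix ι ι F) *ᵥ (z' *ᵥ u) := by
              simp only [hz'def, Matrix.mulVec_mulVec, ← Matrix.mul_assoc, Units.mul_inv, Matrix.one_mul]
          _ = 0 := by rw [(hU u).mp hu z' hz', Matrix.mulVec_zero]
      · have : v ∈ U := (hU v).mpr fun z hz => hv z (hJfin.mem_toFinset.mpr hz)
        rwa [h, Submodule.mem_bot] at this
    intro z hz hzn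
    refine Matrix.toLin'.injective (LinearMap.ext fun u => ?_)
    rw [Matrix.toLin'_apply, map_zero, LinearMap.zero_apply]
    exact (hU u).mp (hUt ▸ Submodule.mem_top) z ⟨hz, hzn⟩
  -- powers which are idempotent
  have hpow : ∀ z : Matrix ι ι F, ∃ N, 0 < N ∧ z ^ N * z ^ N = z ^ N := by
    intro z
    obtain ⟨a, b, hab, he⟩ := Finite.exists_ne_map_eq_of_infinite (fun i : ℕ => z ^ i)
    wlog hlt : a < b generalizing a b
    · exact this b a hab.symm he.symm (lt_of_le_of_ne (not_lt.mp hlt) hab.symm)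
    replace he : z ^ a = z ^ b := he
    set d := b - a with hd
    have hper : ∀ i, a ≤ i → ∀ k, z ^ (i + k * d) = z ^ i := by
      intro i hi k
      induction k with
      | zero => simp
      | succ k ih =>
        rw [show i + (k + 1) * d = b + (i + k * d - a) by rw [Nat.succ_mul]; omega, pow_add, ← he, ← pow_add,
          show a + (i + k * d - a) = i + k * d by omega, ih]
    have hd0 : 0 < d := by omega
    refine ⟨(a + 1) * d, Nat.mul_pos (Nat.succ_pos a) hd0, ?_⟩
    rw [← pow_add]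
    exact hper _ ((Nat.le_succ a).trans (Nat.le_mul_of_pos_right _ hd0)) (a + 1)
  intro z hz hz0
  obtain ⟨N, hN, hNN⟩ := hpow z
  refine ⟨z ^ (N - 1), pow_mem hz _, ?_⟩
  rw [← pow_succ', show N - 1 + 1 = N by omega]
  exact (hidem _ (pow_mem hz N) hNN).resolve_left fun h => hz0 (hred z hz ⟨N, h⟩)

/-- A commutative algebra normalised by an irreducible group is scalar, gives a system of imprimitivity, or contains
a field of prime degree. -/
theorem comm_algebra_cases [Fintype F] [Nonempty ι] {H : Subgroup (GL ι F)} (hH : ActsIrreducibly (matrixSet H))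
    {Z : Subalgebra F (Matrix ι ι F)} (hZ : ∀ x ∈ Z, ∀ y ∈ Z, x * y = y * x) (hn : H ≤ subalgebraNormalizer Z) :
    (∀ z ∈ Z, ∃ c : F, z = c • (1 : Matrix ι ι F)) ∨
    (∃ (t m : ℕ) (D : Fin t → Submodule F (ι → F)), IsMDecomposition m D ∧ H ≤ decompositionStabilizer D) ∨
    (∃ (r : ℕ) (K : Subalgebra F (Matrix ι ι F)), r.Prime ∧ IsFieldSubalgebra r K ∧ H ≤ subalgebraNormalizer K) := by
  classical
  have hconj : ∀ g ∈ H, ∀ z ∈ Z, (g : Matrix ι ι F) * z * ((g⁻¹ : GL ι F) : Matrix ι ι F) ∈ Z :=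
    fun g hg z hz => (hn hg z).mp hz
  by_cases hidem : ∀ e ∈ Z, e * e = e → e = 0 ∨ e = 1
  · -- a field
    have hinv := exists_inv_of_no_idempotent hH hZ hconj hidem
    by_cases hf : 1 < Module.finrank F Z
    · obtain ⟨r, K, hr, hK, hle, -⟩ := exists_prime_degree_subalgebra hf (K := Z) ⟨hZ, hinv, rfl⟩
      exact Or.inr (Or.inr ⟨r, K, hr, hK, hn.trans hle⟩)
    · left
      have h1 : Module.finrank F Z = 1 := le_antisymm (not_lt.mp hf) (finrank_pos_subalgebra Z)
      intro z hz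
      have hb := Subalgebra.bot_eq_top_of_finrank_eq_one (F := F) (E := Z) h1
      have hm : (⟨z, hz⟩ : Z) ∈ (⊥ : Subalgebra F Z) := hb ▸ Algebra.mem_top
      obtain ⟨c, hc⟩ := Algebra.mem_bot.mp hm
      exact ⟨c, by simpa [Algebra.algebraMap_eq_smul_one] using (congrArg Subtype.val hc).symm⟩
  right; left
  push Not at hidem
  obtain ⟨e₁, he₁Z, he₁, he₁0, he₁1⟩ := hidem
  obtain ⟨O, hO2, hOp, horth, hs1, hclosed, htrans, -⟩ := exists_idempotent_orbit hH hZ hconj he₁Z he₁ he₁0 he₁1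
  obtain ⟨m, D, -, hD, -, hle⟩ := decomposition_of_idempotents O hO2 (fun e he => (hOp e he).2.1)
    (fun e he => (hOp e he).2.2) horth hs1 hclosed fun a ha b hb => by
      obtain ⟨g, -, rfl⟩ := htrans a ha b hb
      rw [range_conj, finrank_map_gl]
  exact ⟨O.card, m, D, hD, hle⟩

end Cfsg.Agent.Classical
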