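/-
Reflexive sesquilinear forms: orthogonals, adjoints, and isometries.
-/
import Cfsg.Agent.Lib.Classical.Forms
import Cfsg.Agent.Lib.Classical.Irreducible
import Cfsg.Agent.Lib.Classical.NormalIn

set_option autoImplicit false
set_option linter.style.haveILetI false
set_option linter.unusedSectionVars false

namespace Cfsg.Agent.Classical

open Matrix Cfsg.Geo

variable {ι : Type} [Fintype ι] [DecidableEq ι] {F : Type*} [Field F]

/-- A nondegenerate `σ`-sesquilinear form with `f v u = ε σ (f u v)`. -/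
structure IsReflexForm (σ : F ≃+* F) (ε : F) (f : (ι → F) → (ι → F) → F) : Prop where
  semi : IsSemiForm σ f
  swap : ∀ u v, f v u = ε * σ (f u v)
  invol : ∀ x, σ (σ x) = x
  nondeg : IsNondegenerateForm f

theorem reflexForm_of_symplectic {f : (ι → F) → (ι → F) → F} (h : IsSymplecticForm f) :
    IsReflexForm (RingEquiv.refl F) (-1) f :=
  ⟨semiForm_of_bilinear h.bilinear, fun u v => by rw [h.skew v u, neg_one_mul]; rfl, fun _ => rfl, h.nondegenerate⟩

theorem reflexForm_of_symmetric {f : (ι → F) → (ι → F) → F} (h : IsSymmetricForm f) :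
    IsReflexForm (RingEquiv.refl F) 1 f :=
  ⟨semiForm_of_bilinear h.bilinear, fun u v => by rw [h.symm v u, one_mul]; rfl, fun _ => rfl, h.nondegenerate⟩

theorem reflexForm_of_unitary {σ : F ≃+* F} {f : (ι → F) → (ι → F) → F} (h : IsUnitaryForm σ f) :
    IsReflexForm σ 1 f :=
  ⟨semiForm_of_unitary h, fun u v => by rw [one_mul, ← h.herm], h.involutive, h.nondegenerate⟩

theorem reflexForm_of_quadratic {Q : (ι → F) → F} (h : IsNondegenerateQuadraticForm Q) :
    IsReflexForm (RingEquiv.refl F) 1 (QuadraticMap.polar Q) :=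
  ⟨semiForm_of_bilinear h.polar_bilinear, fun u v => by rw [QuadraticMap.polar_comm, one_mul]; rfl, fun _ => rfl,
    h.nondegenerate⟩

/-- The adjoint of a matrix for a form. -/
noncomputable def formAdj (σ : F ≃+* F) (f : (ι → F) → (ι → F) → F) (k : Matrix ι ι F) : Matrix ι ι F :=
  ((gramMatrix f)⁻¹ * kᵀ * gramMatrix f).map σ

namespace IsReflexForm

variable {σ : F ≃+* F} {ε : F} {f : (ι → F) → (ι → F) → F} (hf : IsReflexForm σ ε f)

include hf

theorem map_map (M : Matrix ι ι F) : (M.map σ).map σ = M := by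
  ext i j; simp [hf.invol]

theorem gram_isUnit : IsUnit (gramMatrix f) :=
  (Matrix.isUnit_iff_isUnit_det _).mpr (isUnit_iff_ne_zero.mpr (det_gram_ne_zero σ hf.semi hf.nondeg))

theorem zero_left (v : ι → F) : f 0 v = 0 := by
  have := hf.semi.smul_left 0 0 v
  rwa [zero_smul, zero_mul] at this

theorem zero_right (v : ι → F) : f v 0 = 0 := by
  have := hf.semi.smul_right 0 v 0
  rwa [zero_smul, map_zero, zero_mul] at this

theorem neg_left (u v : ι → F) : f (-u) v = -f u v := by
  rw [← neg_one_smul F u, hf.semi.smul_left, neg_one_mul]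

theorem sum_left {κ : Type*} (s : Finset κ) (u : κ → ι → F) (v : ι → F) :
    f (∑ i ∈ s, u i) v = ∑ i ∈ s, f (u i) v :=
  map_sum (AddMonoidHom.mk' (fun x => f x v) fun a b => hf.semi.add_left a b v) u s

theorem eq_zero_swap {u v : ι → F} (h : f u v = 0) : f v u = 0 := by
  rw [hf.swap u v, h, map_zero, mul_zero]

theorem eps_mul [Nonempty ι] : ε * σ ε = 1 := by
  obtain ⟨i⟩ := ‹Nonempty ι›
  obtain ⟨x, hx⟩ := (hf.nondeg (Pi.single i 1) (by simp)).2
  have h := hf.swap x (Pi.single i 1)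
  rw [hf.swap (Pi.single i 1) x, map_mul, hf.invol, ← mul_assoc] at h
  exact (mul_eq_right₀ hx).mp h.symm

theorem eps_ne_zero [Nonempty ι] : ε ≠ 0 := left_ne_zero_of_mul_eq_one hf.eps_mul

theorem apply_eq (u v : ι → F) : f u v = u ⬝ᵥ (gramMatrix f *ᵥ (σ ∘ v)) := semiForm_apply σ hf.semi u v

theorem gram_swap (i j : ι) : gramMatrix f j i = ε * σ (gramMatrix f i j) := hf.swap _ _

theorem ext_right {a b : Matrix ι ι F} (h : ∀ u v, f u (a *ᵥ v) = f u (b *ᵥ v)) : a = b := by
  refine Matrix.toLin'.injective (LinearMap.ext fun v => ?_)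
  rw [Matrix.toLin'_apply, Matrix.toLin'_apply]
  by_contra hne
  obtain ⟨x, hx⟩ := (hf.nondeg _ (sub_ne_zero.mpr hne)).1
  apply hx
  rw [sub_eq_add_neg, hf.semi.add_right, ← neg_one_smul F (b *ᵥ v), hf.semi.smul_right, h]
  simp

theorem adj_spec (k : Matrix ι ι F) (u v : ι → F) : f (k *ᵥ u) v = f u (formAdj σ f k *ᵥ v) := by
  have e : (σ : F → F) ∘ (formAdj σ f k *ᵥ v) = ((gramMatrix f)⁻¹ * kᵀ * gramMatrix f) *ᵥ (σ ∘ v) := by
    funext i
    change σ _ = _
    have := RingHom.map_mulVec (σ : F →+* F) (formAdj σ f k) v i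
    refine this.trans ?_
    change ((formAdj σ f k).map σ *ᵥ ((σ : F → F) ∘ v)) i = _
    rw [show (formAdj σ f k).map σ = (gramMatrix f)⁻¹ * kᵀ * gramMatrix f from hf.map_map _]
  rw [hf.apply_eq, hf.apply_eq, e, Matrix.mulVec_mulVec, ← Matrix.mul_assoc, ← Matrix.mul_assoc,
    Matrix.mul_nonsing_inv _ ((Matrix.isUnit_iff_isUnit_det _).mp hf.gram_isUnit), Matrix.one_mul,
    ← Matrix.mulVec_mulVec, Matrix.dotProduct_mulVec u, Matrix.vecMul_transpose]

theorem adj_unique {k k' : Matrix ι ι F} (h : ∀ u v, f (k *ᵥ u) v = f u (k' *ᵥ v)) : formAdj σ f k = k' :=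
  hf.ext_right fun u v => by rw [← hf.adj_spec, h]

theorem adj_spec' (k : Matrix ι ι F) (u v : ι → F) : f u (k *ᵥ v) = f (formAdj σ f k *ᵥ u) v := by
  rw [hf.swap (k *ᵥ v) u, hf.adj_spec k v u, ← hf.swap]

theorem adj_adj (k : Matrix ι ι F) : formAdj σ f (formAdj σ f k) = k :=
  hf.adj_unique fun u v => (hf.adj_spec' k u v).symm

theorem adj_one : formAdj σ f 1 = 1 := hf.adj_unique fun u v => by simp only [Matrix.one_mulVec]

theorem adj_mul (a b : Matrix ι ι F) : formAdj σ f (a * b) = formAdj σ f b * formAdj σ f a :=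
  hf.adj_unique fun u v => by rw [← Matrix.mulVec_mulVec, hf.adj_spec, hf.adj_spec, Matrix.mulVec_mulVec]

theorem adj_add (a b : Matrix ι ι F) : formAdj σ f (a + b) = formAdj σ f a + formAdj σ f b :=
  hf.adj_unique fun u v => by
    rw [Matrix.add_mulVec, Matrix.add_mulVec, hf.semi.add_left, hf.semi.add_right, hf.adj_spec, hf.adj_spec]

theorem adj_smul (c : F) (a : Matrix ι ι F) : formAdj σ f (c • a) = σ c • formAdj σ f a :=
  hf.adj_unique fun u v => by
    rw [Matrix.smul_mulVec, Matrix.smul_mulVec, hf.semi.smul_left, hf.semi.smul_right, hf.invol, hf.adj_spec]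

theorem adj_zero : formAdj σ f 0 = 0 := by simpa using hf.adj_smul 0 0

theorem adj_scalar (c : F) : formAdj σ f (c • 1) = σ c • (1 : Matrix ι ι F) := by rw [hf.adj_smul, hf.adj_one]

theorem adj_pow (a : Matrix ι ι F) (j : ℕ) : formAdj σ f (a ^ j) = formAdj σ f a ^ j := by
  induction j with
  | zero => simp [hf.adj_one]
  | succ j ih => rw [pow_succ, hf.adj_mul, ih, pow_succ']

theorem adj_injective : Function.Injective (formAdj σ f) := fun a b h => by
  rw [← hf.adj_adj a, h, hf.adj_adj]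

theorem isometry_inv {g : GL ι F}
    (hg : ∀ u v, f ((g : Matrix ι ι F) *ᵥ u) ((g : Matrix ι ι F) *ᵥ v) = f u v) :
    formAdj σ f (g : Matrix ι ι F) = ((g⁻¹ : GL ι F) : Matrix ι ι F) :=
  hf.adj_unique fun u v => by rw [← hg u (((g⁻¹ : GL ι F) : Matrix ι ι F) *ᵥ v), gl_mulVec_inv_cancel]

theorem adj_conj {g : GL ι F} (hg : ∀ u v, f ((g : Matrix ι ι F) *ᵥ u) ((g : Matrix ι ι F) *ᵥ v) = f u v)
    (k : Matrix ι ι F) :
    formAdj σ f ((g : Matrix ι ι F) * k * ((g⁻¹ : GL ι F) : Matrix ι ι F)) =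
      (g : Matrix ι ι F) * formAdj σ f k * ((g⁻¹ : GL ι F) : Matrix ι ι F) := by
  have h2 : formAdj σ f ((g⁻¹ : GL ι F) : Matrix ι ι F) = (g : Matrix ι ι F) := by
    rw [← hf.isometry_inv hg, hf.adj_adj]
  rw [hf.adj_mul, hf.adj_mul, h2, hf.isometry_inv hg, Matrix.mul_assoc]

theorem isAdjointClosedFor_iff {K : Subalgebra F (Matrix ι ι F)} :
    IsAdjointClosedFor f K ↔ ∀ k ∈ K, formAdj σ f k ∈ K := by
  refine ⟨fun h k hk => ?_, fun h k hk => ⟨_, h k hk, hf.adj_spec k⟩⟩
  obtain ⟨k', hk', e⟩ := h k hk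
  rwa [hf.adj_unique e]

theorem isSelfAdjointFor_iff {K : Subalgebra F (Matrix ι ι F)} :
    IsSelfAdjointFor f K ↔ ∀ k ∈ K, formAdj σ f k = k :=
  ⟨fun h k hk => hf.adj_unique (h k hk), fun h k hk u v => by rw [hf.adj_spec, h k hk]⟩

/-- The orthogonal of a subspace. -/
def perp (W : Submodule F (ι → F)) : Submodule F (ι → F) where
  carrier := {v | ∀ w ∈ W, f v w = 0}
  add_mem' {a b} ha hb w hw := by rw [hf.semi.add_left, ha w hw, hb w hw, add_zero]
  zero_mem' w _ := hf.zero_left w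
  smul_mem' c a ha w hw := by rw [hf.semi.smul_left, ha w hw, mul_zero]

theorem mem_perp {W : Submodule F (ι → F)} {v : ι → F} : v ∈ hf.perp W ↔ ∀ w ∈ W, f v w = 0 := Iff.rfl

theorem finrank_perp (W : Submodule F (ι → F)) :
    Module.finrank F W + Module.finrank F (hf.perp W) = Fintype.card ι := by
  classical
  set d := Module.finrank F W
  let b := Module.finBasis F W
  let Φ : (ι → F) →ₗ[F] (Fin d → F) :=
    { toFun := fun v i => f v (b i)
      map_add' := fun x y => funext fun i => hf.semi.add_left x y _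
      map_smul' := fun c x => funext fun i => hf.semi.smul_left c x _ }
  have hker : LinearMap.ker Φ = hf.perp W := by
    ext v
    refine ⟨fun h w hw => ?_, fun h => funext fun i => h _ (b i).2⟩
    have hw' : (⟨w, hw⟩ : W) ∈ Submodule.span F (Set.range b) := b.span_eq ▸ Submodule.mem_top
    suffices ∀ x : W, x ∈ Submodule.span F (Set.range b) → f v x = 0 from this _ hw'
    intro x hx
    induction hx using Submodule.span_induction with
    | mem x hx =>
      obtain ⟨i, rfl⟩ := hx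
      exact congrFun h i
    | zero => exact hf.zero_right v
    | add x y _ _ hx hy => rw [Submodule.coe_add, hf.semi.add_right, hx, hy, add_zero]
    | smul c x _ hx => rw [Submodule.coe_smul, hf.semi.smul_right, hx, mul_zero]
  have hsurj : LinearMap.range Φ = ⊤ := by
    by_contra hne
    obtain ⟨φ, hφ0, hφ⟩ := Submodule.exists_dual_map_eq_bot_of_lt_top (lt_top_iff_ne_top.mpr hne) inferInstance
    let c : Fin d → F := fun i => σ (φ (Pi.single i 1))
    have hc : (∑ i, c i • (b i : ι → F)) = 0 := by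
      by_contra hv
      obtain ⟨x, hx⟩ := (hf.nondeg _ hv).1
      apply hx
      have h1 : φ (Φ x) = 0 := by
        have : φ (Φ x) ∈ (LinearMap.range Φ).map φ := ⟨Φ x, ⟨x, rfl⟩, rfl⟩
        rwa [hφ, Submodule.mem_bot] at this
      rw [← h1, LinearMap.pi_apply_eq_sum_univ φ (Φ x)]
      refine (map_sum (AddMonoidHom.mk' (fun y => f x y) (hf.semi.add_right x)) _ _).trans
        (Finset.sum_congr rfl fun i _ => ?_)
      rw [AddMonoidHom.mk'_apply, hf.semi.smul_right, hf.invol, mul_comm]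
      simp only [smul_eq_mul]
      congr 1
      exact congrArg φ (funext fun j => by simp [Pi.single_apply, eq_comm])
    have hsum : (∑ i, c i • b i) = 0 := Subtype.ext (by simpa using hc)
    refine hφ0 (LinearMap.ext fun y => ?_)
    rw [LinearMap.pi_apply_eq_sum_univ φ y, LinearMap.zero_apply]
    refine Finset.sum_eq_zero fun i _ => ?_
    have h0 : σ (φ (Pi.single i 1)) = 0 := Fintype.linearIndependent_iff.mp b.linearIndependent c hsum i
    rw [map_eq_zero] at h0
    rw [show (fun j => if i = j then (1 : F) else 0) = Pi.single i 1 from funext fun j => by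
      simp [Pi.single_apply, eq_comm], h0, smul_zero]
  have h := Φ.finrank_range_add_finrank_ker
  rwa [hker, hsurj, finrank_top, Module.finrank_fintype_fun_eq_card, Module.finrank_fintype_fun_eq_card,
    Fintype.card_fin] at h

theorem perp_perp (W : Submodule F (ι → F)) : hf.perp (hf.perp W) = W := by
  have hle : W ≤ hf.perp (hf.perp W) := fun w hw v hv => hf.eq_zero_swap (hv w hw)
  refine (Submodule.eq_of_le_of_finrank_eq hle ?_).symm
  have := hf.finrank_perp W
  have := hf.finrank_perp (hf.perp W)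
  omega

theorem adj_rank (k : Matrix ι ι F) :
    Module.finrank F (LinearMap.range (Matrix.toLin' (formAdj σ f k))) =
      Module.finrank F (LinearMap.range (Matrix.toLin' k)) := by
  have hker : LinearMap.ker (Matrix.toLin' (formAdj σ f k)) = hf.perp (LinearMap.range (Matrix.toLin' k)) := by
    ext v
    rw [LinearMap.mem_ker, Matrix.toLin'_apply, mem_perp hf]
    refine ⟨fun h w hw => ?_, fun h => ?_⟩
    · obtain ⟨u, rfl⟩ := hw
      rw [Matrix.toLin'_apply, hf.adj_spec', h, hf.zero_left]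
    · by_contra hne
      obtain ⟨x, hx⟩ := (hf.nondeg _ hne).2
      exact hx (by rw [← hf.adj_spec' k v x]; exact h _ ⟨x, Matrix.toLin'_apply k x⟩)
  have h1 := (Matrix.toLin' (formAdj σ f k)).finrank_range_add_finrank_ker
  have h2 := hf.finrank_perp (LinearMap.range (Matrix.toLin' k))
  rw [hker, Module.finrank_fintype_fun_eq_card] at h1
  omega

theorem nondegenerateOn_of_inf_perp {W : Submodule F (ι → F)} (h : W ⊓ hf.perp W = ⊥) : IsNondegenerateOn f W := by
  intro w hw hw0
  obtain ⟨x, hx, hxw⟩ : ∃ x ∈ W, f w x ≠ 0 := by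
    by_contra hcon
    push Not at hcon
    exact hw0 ((Submodule.mem_bot F).mp (h ▸ Submodule.mem_inf.mpr ⟨hw, hcon⟩))
  exact ⟨⟨x, hx, fun e => hxw (hf.eq_zero_swap e)⟩, x, hx, hxw⟩

variable {H : Subgroup (GL ι F)} (hH : FixesForm (matrixSet H) f)

include hH

theorem perp_stable {W : Submodule F (ι → F)} (hW : H ≤ subspaceStabilizer W) :
    H ≤ subspaceStabilizer (hf.perp W) := fun g hg => mem_subspaceStabilizer_iff.mpr fun v hv w hw => by
  have hw' : ((g⁻¹ : GL ι F) : Matrix ι ι F) *ᵥ w ∈ W := mem_subspaceStabilizer_iff.mp (hW (inv_mem hg)) w hw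
  rw [← gl_mulVec_inv_cancel g w, hH _ (coe_mem_matrixSet hg), hv _ hw']

theorem commutant_adj {N : Subgroup (GL ι F)} (hN : N ≤ H) {k : Matrix ι ι F} (hk : k ∈ commutant N) :
    formAdj σ f k ∈ commutant N := by
  rw [mem_commutant_iff] at hk ⊢
  intro x hx
  have e := congrArg (formAdj σ f) (hk x⁻¹ (inv_mem hx))
  rw [hf.adj_mul, hf.adj_mul, hf.isometry_inv (hH _ (coe_mem_matrixSet (hN (inv_mem hx)))), inv_inv] at e
  exact e.symm

end IsReflexForm

theorem centralizer_adj {σ : F ≃+* F} {ε : F} {f : (ι → F) → (ι → F) → F} (hf : IsReflexForm σ ε f)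
    {S : Subalgebra F (Matrix ι ι F)} (hS : ∀ s ∈ S, formAdj σ f s ∈ S) {k : Matrix ι ι F}
    (hk : ∀ s ∈ S, k * s = s * k) : ∀ s ∈ S, formAdj σ f k * s = s * formAdj σ f k := fun s hs => by
  have e := congrArg (formAdj σ f) (hk _ (hS s hs))
  rw [hf.adj_mul, hf.adj_mul, hf.adj_adj] at e
  exact e.symm

end Cfsg.Agent.Classical
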