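/-
Commutative algebras closed under adjoints and normalised by an irreducible group of isometries.
-/
import Cfsg.Agent.Lib.Classical.CommAlgebra
import Cfsg.Agent.Lib.Classical.SesqForm

set_option autoImplicit false
set_option linter.style.haveILetI false

namespace Cfsg.Agent.Classical

open Matrix Cfsg.Geo

variable {ι : Type} [Fintype ι] [DecidableEq ι] {F : Type*} [Field F]
variable {σ : F ≃+* F} {ε : F} {f : (ι → F) → (ι → F) → F}

theorem mulVec_eq_of_mem_range {e : Matrix ι ι F} (he : e * e = e) {w : ι → F}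
    (hw : w ∈ LinearMap.range (Matrix.toLin' e)) : e *ᵥ w = w := by
  obtain ⟨v, rfl⟩ := hw
  rw [Matrix.toLin'_apply, Matrix.mulVec_mulVec, he]

namespace IsReflexForm

variable (hf : IsReflexForm σ ε f)

include hf

/-- Self-adjoint orthogonal idempotents permuted transitively give a nondegenerate decomposition. -/
theorem nondeg_decomposition_of_idempotents {H : Subgroup (GL ι F)} (O : Finset (Matrix ι ι F)) (h2 : 2 ≤ O.card)
    (hid : ∀ e ∈ O, e * e = e) (h0 : ∀ e ∈ O, e ≠ 0) (horth : ∀ e ∈ O, ∀ f ∈ O, e ≠ f → e * f = 0)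
    (hs1 : ∑ e ∈ O, e = 1) (hadj : ∀ e ∈ O, formAdj σ f e = e)
    (hclosed : ∀ g ∈ H, ∀ e ∈ O, (g : Matrix ι ι F) * e * ((g⁻¹ : GL ι F) : Matrix ι ι F) ∈ O)
    (htrans : ∀ a ∈ O, ∀ b ∈ O, ∃ g ∈ H, (g : Matrix ι ι F) * a * ((g⁻¹ : GL ι F) : Matrix ι ι F) = b) :
    ∃ (t m : ℕ) (D : Fin t → Submodule F (ι → F)), IsNondegenerateMDecomposition f m D ∧
      H ≤ decompositionStabilizer D := by
  classical
  obtain ⟨m, D, en, hD, hDen, hle⟩ := decomposition_of_idempotents O h2 hid h0 horth hs1 hclosed fun a ha b hb => by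
    obtain ⟨g, -, rfl⟩ := htrans a ha b hb
    rw [range_conj, finrank_map_gl]
  refine ⟨_, m, D, ⟨hD, fun i w hw hw0 => ?_, fun i j hij u hu v hv => ?_⟩, hle⟩
  · rw [hDen] at hw ⊢
    set e := ((en i : O) : Matrix ι ι F) with he
    have hew : e *ᵥ w = w := mulVec_eq_of_mem_range (hid _ (en i).2) hw
    obtain ⟨⟨x, hx⟩, ⟨y, hy⟩⟩ := hf.nondeg w hw0
    refine ⟨⟨_, mulVec_mem_range e x, ?_⟩, ⟨_, mulVec_mem_range e y, ?_⟩⟩
    · rwa [hf.adj_spec, hadj _ (en i).2, hew]
    · rwa [hf.adj_spec', hadj _ (en i).2, hew]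
  · rw [hDen] at hu hv
    rw [← mulVec_eq_of_mem_range (hid _ (en i).2) hu, ← mulVec_eq_of_mem_range (hid _ (en j).2) hv, hf.adj_spec,
      hadj _ (en i).2, Matrix.mulVec_mulVec,
      horth _ (en i).2 _ (en j).2 fun h => hij (en.injective (Subtype.ext h)), Matrix.zero_mulVec, hf.zero_right]

/-- A commutative adjoint-closed algebra normalised by an irreducible group of isometries. -/
theorem comm_algebra_cases [Fintype F] [Nonempty ι] {H : Subgroup (GL ι F)} (hH : ActsIrreducibly (matrixSet H))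
    (hfix : FixesForm (matrixSet H) f) {Z : Subalgebra F (Matrix ι ι F)} (hZ : ∀ x ∈ Z, ∀ y ∈ Z, x * y = y * x)
    (hn : H ≤ subalgebraNormalizer Z) (hZadj : ∀ z ∈ Z, formAdj σ f z ∈ Z) :
    (∀ z ∈ Z, ∃ c : F, z = c • (1 : Matrix ι ι F)) ∨
    (∃ (t m : ℕ) (D : Fin t → Submodule F (ι → F)), IsNondegenerateMDecomposition f m D ∧
      H ≤ decompositionStabilizer D) ∨
    (∃ (m : ℕ) (D : Fin 2 → Submodule F (ι → F)), IsMDecomposition m D ∧ (∀ i, IsTotallySingularFor f (D i)) ∧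
      H ≤ decompositionStabilizer D ∧ ∃ e : Matrix ι ι F, e * e = e ∧ formAdj σ f e = 1 - e ∧
        ∀ g ∈ H, (g : Matrix ι ι F) * e * ((g⁻¹ : GL ι F) : Matrix ι ι F) = e ∨
          (g : Matrix ι ι F) * e * ((g⁻¹ : GL ι F) : Matrix ι ι F) = 1 - e) ∨
    (∃ (r : ℕ) (K : Subalgebra F (Matrix ι ι F)), r.Prime ∧ IsFieldSubalgebra r K ∧ IsAdjointClosedFor f K ∧
      H ≤ subalgebraNormalizer K ∧ K ≤ Z) := by
  classical
  have hconj : ∀ g ∈ H, ∀ z ∈ Z, (g : Matrix ι ι F) * z * ((g⁻¹ : GL ι F) : Matrix ι ι F) ∈ Z :=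
    fun g hg z hz => (hn hg z).mp hz
  by_cases hidem : ∀ e ∈ Z, e * e = e → e = 0 ∨ e = 1
  · have hinv := exists_inv_of_no_idempotent hH hZ hconj hidem
    by_cases hf1 : 1 < Module.finrank F Z
    · obtain ⟨r, K, hr, hK, hle, N, hN⟩ := exists_prime_degree_subalgebra hf1 (K := Z) ⟨hZ, hinv, rfl⟩
      refine Or.inr (Or.inr (Or.inr ⟨r, K, hr, hK, hf.isAdjointClosedFor_iff.mpr fun k hk => ?_, hn.trans hle,
        fun k hk => ((hN k).mp hk).1⟩))
      obtain ⟨hkZ, hkN⟩ := (hN k).mp hk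
      exact (hN _).mpr ⟨hZadj k hkZ, by rw [← hf.adj_pow, hkN]⟩
    · left
      have h1 : Module.finrank F Z = 1 := le_antisymm (not_lt.mp hf1) (finrank_pos_subalgebra Z)
      intro z hz
      have hb := Subalgebra.bot_eq_top_of_finrank_eq_one (F := F) (E := Z) h1
      have hm : (⟨z, hz⟩ : Z) ∈ (⊥ : Subalgebra F Z) := hb ▸ Algebra.mem_top
      obtain ⟨c, hc⟩ := Algebra.mem_bot.mp hm
      exact ⟨c, by simpa [Algebra.algebraMap_eq_smul_one] using (congrArg Subtype.val hc).symm⟩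
  right
  push Not at hidem
  obtain ⟨e₁, he₁Z, he₁, he₁0, he₁1⟩ := hidem
  obtain ⟨O, hO2, hOp, horth, hs1, hclosed, htrans, hprim⟩ := exists_idempotent_orbit hH hZ hconj he₁Z he₁ he₁0 he₁1
  set τ := formAdj σ f with hτ
  have hττ : ∀ e, τ (τ e) = e := hf.adj_adj
  have heq : ∀ g ∈ H, ∀ e, τ ((g : Matrix ι ι F) * e * ((g⁻¹ : GL ι F) : Matrix ι ι F)) =
      (g : Matrix ι ι F) * τ e * ((g⁻¹ : GL ι F) : Matrix ι ι F) := fun g hg e =>
    hf.adj_conj (hfix _ (coe_mem_matrixSet hg)) e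
  have hτO : ∀ e ∈ O, τ e ∈ O := by
    intro e he
    obtain ⟨heZ, he2, he0⟩ := hOp e he
    have hτ2 : τ e * τ e = τ e := by rw [hτ, ← hf.adj_mul, he2]
    obtain ⟨a, ha, hae⟩ : ∃ a ∈ O, a * τ e ≠ 0 := by
      by_contra hcon
      push Not at hcon
      apply he0
      rw [← hττ e, show τ e = 0 by rw [← Matrix.one_mul (τ e), ← hs1, Finset.sum_mul]; exact Finset.sum_eq_zero hcon]
      exact hf.adj_zero
    obtain ⟨haZ, ha2, ha0⟩ := hOp a ha
    have h1 : a * τ e = a := hprim a ha _ (hZadj e heZ) hτ2 hae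
    have h2 : e * τ a = τ a := by
      conv_rhs => rw [← h1]
      rw [hτ, hf.adj_mul, hf.adj_adj]
    have hτa0 : τ a ≠ 0 := fun h => ha0 (by rw [← hττ a, h]; exact hf.adj_zero)
    have h3 : e * τ a = e := hprim e he _ (hZadj a haZ) (by rw [hτ, ← hf.adj_mul, ha2]) (by rw [h2]; exact hτa0)
    rwa [← h3, h2, hττ]
  by_cases hall : ∀ e ∈ O, τ e = e
  · exact Or.inl (hf.nondeg_decomposition_of_idempotents O hO2 (fun e he => (hOp e he).2.1)
      (fun e he => (hOp e he).2.2) horth hs1 hall hclosed htrans)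
  push Not at hall
  obtain ⟨a, ha, haτ⟩ := hall
  have hne : ∀ e ∈ O, τ e ≠ e := by
    intro e he h
    obtain ⟨g, hg, hga⟩ := htrans e he a ha
    apply haτ
    rw [← hga, heq g hg, h]
  set φ : Matrix ι ι F → Matrix ι ι F := fun e => e + τ e with hφ
  have hτadd : ∀ e, τ (φ e) = φ e := fun e => by
    simp only [hφ, hτ, hf.adj_add, hf.adj_adj]
    exact add_comm _ _
  have hmulφ : ∀ e ∈ O, ∀ b ∈ O, b ≠ e → b ≠ τ e → b * φ e = 0 := fun e he b hb h1 h2 => by
    simp only [hφ, Matrix.mul_add, horth b hb e he h1, horth b hb _ (hτO e he) h2, add_zero]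
  have hφmul : ∀ e ∈ O, e * φ e = e := fun e he => by
    simp only [hφ, Matrix.mul_add, (hOp e he).2.1, horth e he _ (hτO e he) (hne e he).symm, add_zero]
  have hfib : ∀ e ∈ O, O.filter (fun b => φ b = φ e) = {e, τ e} := by
    intro e he
    ext b
    simp only [Finset.mem_filter, Finset.mem_insert, Finset.mem_singleton]
    constructor
    · rintro ⟨hb, hbe⟩
      by_contra hcon
      push Not at hcon
      refine (hOp b hb).2.2 ?_
      rw [← hφmul b hb, hbe, hmulφ e he b hb hcon.1 hcon.2]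
    · rintro (rfl | rfl)
      · exact ⟨he, rfl⟩
      · exact ⟨hτO e he, by simp only [hφ, hττ, add_comm]⟩
  set S := O.image φ with hS
  have hsum : ∑ p ∈ S, p = 1 := by
    rw [← hs1, hS, ← Finset.sum_fiberwise_of_maps_to (s := O) (g := φ) (fun e he => Finset.mem_image_of_mem φ he) (fun e => e)]
    refine Finset.sum_congr rfl fun p hp => ?_
    obtain ⟨e, he, rfl⟩ := Finset.mem_image.mp hp
    rw [hfib e he, Finset.sum_pair (hne e he).symm]
  have hSp : ∀ p ∈ S, p * p = p ∧ p ≠ 0 ∧ τ p = p := by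
    intro p hp
    obtain ⟨e, he, rfl⟩ := Finset.mem_image.mp hp
    refine ⟨?_, fun h => (hOp e he).2.2 (by rw [← hφmul e he, h, Matrix.mul_zero]), hτadd e⟩
    have h1 : τ e * φ e = τ e := by
      have := hφmul _ (hτO e he)
      simpa [hφ, hττ, add_comm] using this
    calc φ e * φ e = e * φ e + τ e * φ e := Matrix.add_mul _ _ _
      _ = φ e := by rw [hφmul e he, h1]
  have hSorth : ∀ p ∈ S, ∀ p' ∈ S, p ≠ p' → p * p' = 0 := by
    intro p hp p' hp' hpp'
    obtain ⟨b, hb, rfl⟩ := Finset.mem_image.mp hp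
    obtain ⟨e, he, rfl⟩ := Finset.mem_image.mp hp'
    have key : ∀ c ∈ O, φ c = φ b → c * φ e = 0 := fun c hc hcb => hmulφ e he c hc (fun h => hpp' (by rw [← hcb, h]))
      (fun h => hpp' (by rw [← hcb, h]; simp only [hφ, hττ, add_comm]))
    calc φ b * φ e = b * φ e + τ b * φ e := Matrix.add_mul _ _ _
      _ = 0 := by rw [key b hb rfl, key _ (hτO b hb) (by simp only [hφ, hττ, add_comm]), add_zero]
  have hφeq : ∀ g ∈ H, ∀ e, (g : Matrix ι ι F) * φ e * ((g⁻¹ : GL ι F) : Matrix ι ι F) =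
      φ ((g : Matrix ι ι F) * e * ((g⁻¹ : GL ι F) : Matrix ι ι F)) := fun g hg e => by
    simp only [hφ, heq g hg e, Matrix.mul_add, Matrix.add_mul]
  have hSclosed : ∀ g ∈ H, ∀ p ∈ S, (g : Matrix ι ι F) * p * ((g⁻¹ : GL ι F) : Matrix ι ι F) ∈ S := by
    intro g hg p hp
    obtain ⟨e, he, rfl⟩ := Finset.mem_image.mp hp
    rw [hφeq g hg]
    exact Finset.mem_image_of_mem φ (hclosed g hg e he)
  rcases Nat.lt_or_ge 1 S.card with hS2 | hS1
  · refine Or.inl (hf.nondeg_decomposition_of_idempotents S hS2 (fun p hp => (hSp p hp).1)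
      (fun p hp => (hSp p hp).2.1) hSorth hsum (fun p hp => (hSp p hp).2.2) hSclosed fun p hp p' hp' => ?_)
    obtain ⟨b, hb, rfl⟩ := Finset.mem_image.mp hp
    obtain ⟨e, he, rfl⟩ := Finset.mem_image.mp hp'
    obtain ⟨g, hg, hge⟩ := htrans b hb e he
    exact ⟨g, hg, by rw [hφeq g hg, hge]⟩
  -- a single pair
  refine Or.inr (Or.inl ?_)
  have hO : O = {a, τ a} := by
    rw [← hfib a ha, Finset.filter_true_of_mem]
    exact fun b hb => Finset.card_le_one.mp hS1 _ (Finset.mem_image_of_mem φ hb) _ (Finset.mem_image_of_mem φ ha)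
  have hOcard : O.card = 2 := by rw [hO, Finset.card_pair haτ.symm]
  have h1a : τ a = 1 - a := by
    rw [← hs1, hO, Finset.sum_pair haτ.symm, add_sub_cancel_left]
  obtain ⟨m, D, en, hD, hDen, hle⟩ := decomposition_of_idempotents O hO2 (fun e he => (hOp e he).2.1)
    (fun e he => (hOp e he).2.2) horth hs1 hclosed fun b hb c hc => by
      obtain ⟨g, -, rfl⟩ := htrans b hb c hc
      rw [range_conj, finrank_map_gl]
  have hts : ∀ i, IsTotallySingularFor f (D i) := by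
    intro i u hu v hv
    rw [hDen] at hu hv
    rw [← mulVec_eq_of_mem_range (hOp _ (en i).2).2.1 hu, ← mulVec_eq_of_mem_range (hOp _ (en i).2).2.1 hv, hf.adj_spec,
      Matrix.mulVec_mulVec, horth _ (hτO _ (en i).2) _ (en i).2 (hne _ (en i).2), Matrix.zero_mulVec, hf.zero_right]
  have cast2 : ∀ {t : ℕ} (D : Fin t → Submodule F (ι → F)), t = 2 → IsMDecomposition m D →
      (∀ i, IsTotallySingularFor f (D i)) → H ≤ decompositionStabilizer D →
      ∃ D' : Fin 2 → Submodule F (ι → F), IsMDecomposition m D' ∧ (∀ i, IsTotallySingularFor f (D' i)) ∧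
        H ≤ decompositionStabilizer D' := by
    rintro t D rfl h1 h2 h3
    exact ⟨D, h1, h2, h3⟩
  obtain ⟨D', hD', hts', hle'⟩ := cast2 D hOcard hD hts hle
  refine ⟨m, D', hD', hts', hle', a, (hOp a ha).2.1, h1a, fun g hg => ?_⟩
  have := hclosed g hg a ha
  rw [hO, Finset.mem_insert, Finset.mem_singleton] at this
  exact this.imp_right fun h => h.trans h1a

end IsReflexForm

end Cfsg.Agent.Classical
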