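/-
Reducible groups of isometries: a totally singular subspace, a smaller nondegenerate one, or two orthogonal halves.
-/
import Cfsg.Agent.Lib.Classical.SesqForm

set_option autoImplicit false
set_option linter.style.haveILetI false

namespace Cfsg.Agent.Classical

open Matrix Cfsg.Geo

variable {ι : Type} [Fintype ι] [DecidableEq ι] {F : Type*} [Field F]
variable {σ : F ≃+* F} {ε : F} {f : (ι → F) → (ι → F) → F}

namespace IsReflexForm

variable (hf : IsReflexForm σ ε f)

include hf

theorem inf_perp_eq_bot_of_nondegenerateOn {W : Submodule F (ι → F)} (h : IsNondegenerateOn f W) :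
    W ⊓ hf.perp W = ⊥ := by
  rw [eq_bot_iff]
  rintro v ⟨hvW, hv⟩
  by_contra hv0
  obtain ⟨x, hx, hne⟩ := (h v hvW (by simpa using hv0)).2
  exact hne (hv x hx)

theorem nondegenerateOn_perp {W : Submodule F (ι → F)} (h : W ⊓ hf.perp W = ⊥) :
    IsNondegenerateOn f (hf.perp W) :=
  hf.nondegenerateOn_of_inf_perp (by rw [hf.perp_perp, inf_comm, h])

theorem sup_perp_eq_top {W : Submodule F (ι → F)} (h : W ⊓ hf.perp W = ⊥) : W ⊔ hf.perp W = ⊤ := by
  refine Submodule.eq_top_of_finrank_eq ?_
  have h1 := Submodule.finrank_sup_add_finrank_inf_eq W (hf.perp W)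
  rw [h, finrank_bot, add_zero] at h1
  rw [h1, hf.finrank_perp, Module.finrank_fintype_fun_eq_card]

/-- A reducible group of isometries, in terms of the classes. -/
theorem reducible_cases {H : Subgroup (GL ι F)} (hH : FixesForm (matrixSet H) f)
    (hred : ¬ ActsIrreducibly (matrixSet H)) :
    (∃ W : Submodule F (ι → F), W ≠ ⊥ ∧ IsTotallySingularFor f W ∧ H ≤ subspaceStabilizer W) ∨
    (∃ W : Submodule F (ι → F), W ≠ ⊥ ∧ IsNondegenerateOn f W ∧ 2 * Module.finrank F W < Fintype.card ι ∧
      H ≤ subspaceStabilizer W) ∨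
    (∃ (k : ℕ) (D : Fin 2 → Submodule F (ι → F)), 2 * k = Fintype.card ι ∧ IsNondegenerateMDecomposition f k D ∧
      H ≤ decompositionStabilizer D) := by
  classical
  obtain ⟨W, h0, h1, hW⟩ := (not_actsIrreducibly_iff H).mp hred
  have hP : H ≤ subspaceStabilizer (hf.perp W) := hf.perp_stable hH hW
  by_cases hT : W ⊓ hf.perp W = ⊥
  swap
  · refine Or.inl ⟨_, hT, fun u hu v hv => hu.2 v hv.1, fun g hg => mem_subspaceStabilizer_iff.mpr fun v hv =>
      ⟨mem_subspaceStabilizer_iff.mp (hW hg) v hv.1, mem_subspaceStabilizer_iff.mp (hP hg) v hv.2⟩⟩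
  have hsum := hf.finrank_perp W
  rcases lt_trichotomy (2 * Module.finrank F W) (Fintype.card ι) with hlt | heq | hgt
  · exact Or.inr (Or.inl ⟨W, h0, hf.nondegenerateOn_of_inf_perp hT, hlt, hW⟩)
  swap
  · refine Or.inr (Or.inl ⟨hf.perp W, fun e => h1 ?_, hf.nondegenerateOn_perp hT, by omega, hP⟩)
    rw [e, finrank_bot, add_zero] at hsum
    exact Submodule.eq_top_of_finrank_eq (by rw [hsum, Module.finrank_fintype_fun_eq_card])
  · have hpos : 0 < Module.finrank F W := Nat.pos_of_ne_zero fun e => h0 (Submodule.finrank_eq_zero.mp e)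
    have hdis : Disjoint W (hf.perp W) := disjoint_iff.mpr hT
    refine Or.inr (Or.inr ⟨Module.finrank F W, ![W, hf.perp W], heq,
      ⟨⟨le_rfl, hpos, ?_, ?_, ?_⟩, ?_, ?_⟩, fun g hg => ⟨1, ?_⟩⟩)
    · intro i; fin_cases i
      · rfl
      · change Module.finrank F (hf.perp W) = _; omega
    · intro i; fin_cases i
      · refine hdis.mono_right (iSup₂_le fun j hj => ?_)
        fin_cases j <;> simp_all
      · refine hdis.symm.mono_right (iSup₂_le fun j hj => ?_)
        fin_cases j <;> simp_all
    · refine top_le_iff.mp ((hf.sup_perp_eq_top hT).ge.trans (sup_le ?_ ?_))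
      · exact le_iSup (fun i => ![W, hf.perp W] i) 0
      · exact le_iSup (fun i => ![W, hf.perp W] i) 1
    · intro i; fin_cases i
      · exact hf.nondegenerateOn_of_inf_perp hT
      · exact hf.nondegenerateOn_perp hT
    · intro i j hij; fin_cases i <;> fin_cases j
      · exact absurd rfl hij
      · exact fun u hu v hv => hf.eq_zero_swap (hv u hu)
      · exact fun u hu v hv => hu v hv
      · exact absurd rfl hij
    · intro i; fin_cases i
      · exact map_eq_of_le_gl (map_toLin'_le.mpr (mem_subspaceStabilizer_iff.mp (hW hg)))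
      · exact map_eq_of_le_gl (map_toLin'_le.mpr (mem_subspaceStabilizer_iff.mp (hP hg)))

end IsReflexForm

end Cfsg.Agent.Classical
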