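/-
The possible positions of a subgroup of the general linear group.
-/
import Cfsg.Agent.Lib.Classical.LinBasic

set_option autoImplicit false

namespace Cfsg.Agent.Classical

open Matrix Cfsg.Geo

variable {ι : Type} [Fintype ι] [DecidableEq ι] {F : Type*} [Field F] [Fintype F]

/-- Where a subgroup of the general linear group in dimension at least three can lie. -/
inductive LinOutcome (H : Subgroup (GL ι F)) : Prop
  | subspace (W : Submodule F (ι → F)) (h0 : W ≠ ⊥) (h1 : W ≠ ⊤) (h : H ≤ subspaceStabilizer W)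
  | decomposition (t m : ℕ) (D : Fin t → Submodule F (ι → F)) (hD : IsMDecomposition m D)
      (h : H ≤ decompositionStabilizer D)
  | field (r : ℕ) (K : Subalgebra F (Matrix ι ι F)) (hr : r.Prime) (hK : IsFieldSubalgebra r K)
      (h : H ≤ subalgebraNormalizer K)
  | tensor (n₁ n₂ : ℕ) (e : ι ≃ Fin n₁ × Fin n₂) (P : GL ι F) (h2 : 2 ≤ n₁) (hlt : n₁ < n₂)
      (h : H ≤ tensorProductSubgroup n₁ n₂ e P)
  | subfield (F₀ : Subfield F) (r : ℕ) (P : GL ι F) (hr : r.Prime) (hc : Fintype.card F = Nat.card F₀ ^ r)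
      (h : H ≤ subfieldSubgroup F₀ P)
  | symplecticType (r k : ℕ) (R : Subgroup (GL ι F)) (hR : IsLinearSymplecticTypeData r R)
      (hk : Fintype.card ι = r ^ k) (hcard : Nat.card R = Nat.card (Subgroup.center R) * r ^ (2 * k))
      (h : H ≤ subgroupNormalizer R)
  | wreath (m t : ℕ) (e : ι ≃ (Fin t → Fin m)) (P : GL ι F) (hm : 3 ≤ m) (ht : 2 ≤ t)
      (h : H ≤ tensorWreathSubgroup m t e P)
  | symplectic (f : (ι → F) → (ι → F) → F) (hf : IsSymplecticForm f) (h : H ≤ similarityGroup f)
  | unitary (σ : F ≃+* F) (f : (ι → F) → (ι → F) → F) (hf : IsUnitaryForm σ f) (h : H ≤ similarityGroup f)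
  | quadratic (hq : Odd (Fintype.card F)) (Q : (ι → F) → F) (hQ : IsNondegenerateQuadraticForm Q)
      (h : H ≤ quadSimilarityGroup Q)
  | residual (h : InLinearResidualClass H)

theorem odd_card_of_two_ne_zero (h2 : (2 : F) ≠ 0) : Odd (Fintype.card F) :=
  Nat.odd_iff.mpr (FiniteField.odd_card_of_char_ne_two fun h => h2 (by
    haveI := ringChar.charP F
    exact_mod_cast (CharP.cast_eq_zero_iff F (ringChar F) 2).mpr (by rw [h])))

theorem two_ne_zero_of_odd_card (hq : Odd (Fintype.card F)) : (2 : F) ≠ 0 := fun h => by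
  have hc : ringChar F = 2 := by
    rcases (Nat.dvd_prime Nat.prime_two).mp ((ringChar.spec F 2).mp (by exact_mod_cast h)) with h1 | h2
    · exact absurd h1 CharP.ringChar_ne_one
    · exact h2
  exact Nat.not_even_iff_odd.mpr hq (Nat.even_iff.mpr (FiniteField.even_card_of_char_two hc))

end Cfsg.Agent.Classical
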