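/-
Congruence classes of hermitian matrices, and of symmetric matrices in odd dimension.
-/
import Cfsg.Agent.Lib.Classical.FormReducible
import Cfsg.Agent.Lib.Classical.UnitaryForm
import Cfsg.Agent.Lib.Classical.LinOutcome

set_option autoImplicit false
set_option linter.style.haveILetI false

namespace Cfsg.Agent.Classical

open Matrix Cfsg.Geo Polynomial

variable {ι : Type} [Fintype ι] [DecidableEq ι] {F : Type*} [Field F]
variable {σ : F ≃+* F}

/-- The form with a given Gram matrix. -/
def gramForm (σ : F ≃+* F) (G : Matrix ι ι F) (u v : ι → F) : F := u ⬝ᵥ (G *ᵥ (σ ∘ v))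

theorem gramForm_semi (G : Matrix ι ι F) : IsSemiForm σ (gramForm σ G) where
  add_left x y v := by simp [gramForm, add_dotProduct]
  smul_left c x v := by simp [gramForm, smul_dotProduct]
  add_right v x y := by
    simp only [gramForm]
    rw [show (σ : F → F) ∘ (x + y) = σ ∘ x + σ ∘ y by funext i; simp, Matrix.mulVec_add, dotProduct_add]
  smul_right c v x := by
    simp only [gramForm]
    rw [show (σ : F → F) ∘ (c • x) = σ c • (σ ∘ x) by funext i; simp, Matrix.mulVec_smul, dotProduct_smul,
      smul_eq_mul]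

theorem gramMatrix_gramForm (G : Matrix ι ι F) : gramMatrix (gramForm σ G) = G := by
  ext i j
  have e : (σ : F → F) ∘ Pi.single j (1 : F) = Pi.single j 1 := by funext k; simp [Pi.single_apply, apply_ite σ]
  simp only [gramMatrix, gramForm, e, single_one_dotProduct, Matrix.mulVec_single_one]
  rfl

theorem gramForm_reflex {G : Matrix ι ι F} {ε : F} (hinv : ∀ x, σ (σ x) = x) (hdet : G.det ≠ 0)
    (hG : ∀ i j, G j i = ε * σ (G i j)) : IsReflexForm σ ε (gramForm σ G) := by
  have hswap : ∀ u v, gramForm σ G v u = ε * σ (gramForm σ G u v) := by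
    intro u v
    simp only [gramForm, dotProduct, Matrix.mulVec, Function.comp_apply, map_sum, map_mul, hinv, Finset.mul_sum]
    rw [Finset.sum_comm]
    refine Finset.sum_congr rfl fun j _ => Finset.sum_congr rfl fun i _ => ?_
    rw [hG j i]; ring
  refine ⟨gramForm_semi G, hswap, hinv, fun v hv => ?_⟩
  have hw : (σ : F → F) ∘ v ≠ 0 := fun h => hv (funext fun i => σ.injective (by simpa using congrFun h i))
  have h0 : G *ᵥ ((σ : F → F) ∘ v) ≠ 0 := fun h => hdet (Matrix.exists_mulVec_eq_zero_iff.mp ⟨_, hw, h⟩)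
  obtain ⟨i, hi⟩ := Function.ne_iff.mp h0
  have h1 : gramForm σ G (Pi.single i 1) v ≠ 0 := by simpa [gramForm, single_one_dotProduct] using hi
  refine ⟨⟨_, h1⟩, Pi.single i 1, fun h => h1 ?_⟩
  rw [hswap v (Pi.single i 1), h, map_zero, mul_zero]

variable {ε : F} {f : (ι → F) → (ι → F) → F}

namespace IsReflexForm

variable (hf : IsReflexForm σ 1 f)

include hf

/-- A nondegenerate subspace contains an anisotropic vector. -/
theorem exists_anisotropic (hσ : σ ≠ RingEquiv.refl F ∨ (2 : F) ≠ 0) {W : Submodule F (ι → F)} (h0 : W ≠ ⊥)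
    (hW : W ⊓ hf.perp W = ⊥) : ∃ v ∈ W, f v v ≠ 0 := by
  by_contra hcon
  push Not at hcon
  have hanti : ∀ u ∈ W, ∀ v ∈ W, f u v + σ (f u v) = 0 := fun u hu v hv => by
    have h := hcon (u + v) (add_mem hu hv)
    rw [hf.semi.add_left, hf.semi.add_right, hf.semi.add_right, hcon u hu, hcon v hv, hf.swap u v, one_mul] at h
    linear_combination h
  obtain ⟨w, hw, hw0⟩ := Submodule.exists_mem_ne_zero_of_ne_bot h0
  obtain ⟨x, hx, hxw⟩ := (hf.nondegenerateOn_of_inf_perp hW w hw hw0).2
  have hall : ∀ z : F, σ z = -z := fun z => by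
    have h := hanti ((z / f w x) • w) (W.smul_mem _ hw) x hx
    rw [hf.semi.smul_left, div_mul_cancel₀ _ hxw] at h
    linear_combination h
  have h1 := hall 1
  rw [map_one] at h1
  rcases hσ with hσ | h2
  · exact hσ (RingEquiv.ext fun z => by rw [hall]; change -z = z; linear_combination (-z) * h1)
  · exact h2 (by linear_combination h1)

theorem linearIndependent_of_orthonormal {κ : Type*} [Fintype κ] [DecidableEq κ] {b : κ → ι → F}
    (hb : ∀ i j, f (b i) (b j) = if i = j then 1 else 0) : LinearIndependent F b := by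
  rw [Fintype.linearIndependent_iff]
  intro c hc i
  have h := congrArg (fun x => f x (b i)) hc
  simp only [hf.sum_left, hf.semi.smul_left, hf.zero_left] at h
  simpa [hb] using h

/-- Orthonormal families extend while a suitable nondegenerate complement has a vector of norm one. -/
theorem exists_orthonormal {D : ℕ} (hone : ∀ W : Submodule F (ι → F), W ⊓ hf.perp W = ⊥ →
    Fintype.card ι - D < Module.finrank F W → ∃ v ∈ W, f v v = 1) :
    ∀ d ≤ D, d ≤ Fintype.card ι → ∃ b : Fin d → ι → F, ∀ i j, f (b i) (b j) = if i = j then 1 else 0 := by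
  intro d
  induction d with
  | zero => intro _ _; exact ⟨Fin.elim0, fun i => i.elim0⟩
  | succ d ih =>
    intro hd hdn
    obtain ⟨b, hb⟩ := ih (by omega) (by omega)
    set S := Submodule.span F (Set.range b) with hS
    have hli : LinearIndependent F b := hf.linearIndependent_of_orthonormal hb
    have hSd : Module.finrank F S = d := by rw [hS, finrank_span_eq_card hli, Fintype.card_fin]
    have hbS : ∀ i, b i ∈ S := fun i => Submodule.subset_span ⟨i, rfl⟩
    have hSp : S ⊓ hf.perp S = ⊥ := by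
      rw [eq_bot_iff]
      rintro v ⟨hv, hv'⟩
      obtain ⟨c, rfl⟩ := (Submodule.mem_span_range_iff_exists_fun F).mp hv
      refine (Submodule.mem_bot F).mpr (Finset.sum_eq_zero fun i _ => ?_)
      have h := hv' (b i) (hbS i)
      simp only [hf.sum_left, hf.semi.smul_left, hb, mul_ite, mul_one, mul_zero,
        Finset.sum_ite_eq', Finset.mem_univ, if_true] at h
      rw [h, zero_smul]
    have hdim := hf.finrank_perp S
    obtain ⟨v, hv, hv1⟩ := hone (hf.perp S) (by rw [hf.perp_perp, inf_comm, hSp]) (by omega)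
    refine ⟨Fin.cons v b, fun i j => ?_⟩
    have hvb : ∀ k, f v (b k) = 0 := fun k => hv (b k) (hbS k)
    refine Fin.cases (Fin.cases ?_ (fun j => ?_) j) (fun i => Fin.cases ?_ (fun j => ?_) j) i
    · simpa using hv1
    · simpa [(Fin.succ_ne_zero j).symm] using hvb j
    · simpa [Fin.succ_ne_zero i] using hf.eq_zero_swap (hvb i)
    · simpa using hb i j

end IsReflexForm

/-- Nondegenerate hermitian matrices are congruent to the identity. -/
theorem IsUSigma.hermitian_congr [Fintype F] {q : ℕ} (hσ : IsUSigma q σ) {k : ℕ} {G : Matrix (Fin k) (Fin k) F}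
    (hdet : G.det ≠ 0) (hG : ∀ i j, G j i = σ (G i j)) :
    ∃ A : GL (Fin k) F, (A : Matrix (Fin k) (Fin k) F)ᵀ * G * (A : Matrix (Fin k) (Fin k) F).map σ = 1 := by
  have hf : IsReflexForm σ 1 (gramForm σ G) :=
    gramForm_reflex hσ.involutive hdet (fun i j => by rw [one_mul]; exact hG i j)
  obtain ⟨b, hb⟩ := hf.exists_orthonormal (D := k) (fun W hW hlt => by
    obtain ⟨v, hv, hvv⟩ := hf.exists_anisotropic (Or.inl hσ.ne_refl)
      (fun e => by rw [e, finrank_bot] at hlt; omega) hW
    obtain ⟨l, hl0, hl⟩ := hσ.norm_surjective (t := (gramForm σ G v v)⁻¹) (inv_ne_zero hvv)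
      (by rw [map_inv₀, ← one_mul (σ (gramForm σ G v v)), ← hf.swap])
    refine ⟨l • v, W.smul_mem _ hv, ?_⟩
    rw [hf.semi.smul_left, hf.semi.smul_right, ← mul_assoc, hl, inv_mul_cancel₀ hvv]) k le_rfl (Fintype.card_fin k).ge
  let A : Matrix (Fin k) (Fin k) F := fun r i => b i r
  have hli := hf.linearIndependent_of_orthonormal hb
  have hA : IsUnit A := Matrix.linearIndependent_cols_iff_isUnit.mp hli
  refine ⟨hA.unit, ?_⟩
  rw [IsUnit.unit_spec]
  have e := gram_comp σ hf.semi A
  rw [gramMatrix_gramForm] at e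
  rw [← e]
  ext i j
  simp only [gramMatrix, Matrix.mulVec_single_one, Matrix.one_apply]
  exact hb i j

theorem exists_norm_one_of_two_le [Fintype F] (h2 : (2 : F) ≠ 0) (hf : IsReflexForm (RingEquiv.refl F) 1 f)
    {W : Submodule F (ι → F)} (hW : W ⊓ hf.perp W = ⊥) (hdim : 2 ≤ Module.finrank F W) :
    ∃ v ∈ W, f v v = 1 := by
  obtain ⟨v, hv, ha⟩ := hf.exists_anisotropic (Or.inr h2) (fun e => by rw [e, finrank_bot] at hdim; omega) hW
  set W' := W ⊓ hf.perp (F ∙ v) with hW'
  have hW'0 : W' ≠ ⊥ := by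
    intro e
    have h1 := Submodule.finrank_sup_add_finrank_inf_eq W (hf.perp (F ∙ v))
    rw [← hW', e, finrank_bot] at h1
    have h2 := hf.finrank_perp (F ∙ v)
    rw [finrank_span_singleton (fun h : v = 0 => ha (by rw [h, hf.zero_left]))] at h2
    have h3 := Submodule.finrank_le (W ⊔ hf.perp (F ∙ v))
    rw [Module.finrank_fintype_fun_eq_card] at h3
    omega
  have hW'n : W' ⊓ hf.perp W' = ⊥ := by
    rw [eq_bot_iff]
    rintro u ⟨hu, hu'⟩
    refine hW ▸ Submodule.mem_inf.mpr ⟨hu.1, fun x hx => ?_⟩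
    have huv : f u v = 0 := hu.2 v (Submodule.mem_span_singleton_self v)
    have hmem : x - (f x v / f v v) • v ∈ W' := by
      refine ⟨W.sub_mem hx (W.smul_mem _ hv), fun y hy => ?_⟩
      obtain ⟨c, rfl⟩ := Submodule.mem_span_singleton.mp hy
      rw [sub_eq_add_neg, hf.semi.add_left, hf.neg_left, hf.semi.smul_left, hf.semi.smul_right, hf.semi.smul_right]
      field_simp; ring
    have h := hu' _ hmem
    rw [sub_eq_add_neg, hf.semi.add_right, ← neg_one_smul F (_ • v), smul_smul, hf.semi.smul_right, huv, mul_zero,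
      add_zero] at h
    exact h
  obtain ⟨w, hw, hb⟩ := hf.exists_anisotropic (Or.inr h2) hW'0 hW'n
  set a := f v v
  set b := f w w
  obtain ⟨x, y, hxy⟩ := FiniteField.exists_root_sum_quadratic
    (f := C a * X ^ 2 + C 0 * X + C (-1)) (g := C b * X ^ 2 + C 0 * X + C 0)
    (degree_quadratic ha) (degree_quadratic hb)
    (Nat.odd_iff.mp (odd_card_of_two_ne_zero h2))
  simp at hxy
  refine ⟨x • v + y • w, add_mem (W.smul_mem _ hv) (W.smul_mem _ hw.1), ?_⟩
  have hvw : f w v = 0 := hw.2 v (Submodule.mem_span_singleton_self v)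
  simp only [hf.semi.add_left, hf.semi.add_right, hf.semi.smul_left, hf.semi.smul_right, hvw, hf.eq_zero_swap hvw]
  change x * (x * a) + x * (y * 0) + (y * (x * 0) + y * (y * b)) = 1
  linear_combination hxy

/-- Nondegenerate symmetric matrices of odd size are congruent to a multiple of the identity. -/
theorem symmetric_congr [Fintype F] (h2 : (2 : F) ≠ 0) {k : ℕ} (hk : Odd k) {G : Matrix (Fin k) (Fin k) F}
    (hdet : G.det ≠ 0) (hG : ∀ i j, G j i = G i j) :
    ∃ (c : F) (A : GL (Fin k) F), c ≠ 0 ∧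
      (A : Matrix (Fin k) (Fin k) F)ᵀ * G * (A : Matrix (Fin k) (Fin k) F) = c • 1 := by
  obtain ⟨m, rfl⟩ := hk
  set d := G.det with hd
  have hdG : (d • G).det = (d ^ (m + 1)) ^ 2 := by rw [Matrix.det_smul, Fintype.card_fin, ← hd]; ring
  have hdet' : (d • G).det ≠ 0 := hdG ▸ pow_ne_zero _ (pow_ne_zero _ hdet)
  have hf : IsReflexForm (RingEquiv.refl F) 1 (gramForm (RingEquiv.refl F) (d • G)) :=
    gramForm_reflex (fun _ => rfl) hdet' (fun i j => by simp [hG i j])
  obtain ⟨b, hb⟩ := hf.exists_orthonormal (D := 2 * m) (fun W hW hlt => exists_norm_one_of_two_le h2 hf hW (by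
    rw [Fintype.card_fin] at hlt; omega)) (2 * m) le_rfl (by simp)
  set S := Submodule.span F (Set.range b) with hS
  have hli : LinearIndependent F b := hf.linearIndependent_of_orthonormal hb
  obtain ⟨v, hv, hv0⟩ : ∃ v ∈ hf.perp S, v ≠ 0 := Submodule.exists_mem_ne_zero_of_ne_bot fun e => by
    have h := hf.finrank_perp S
    rw [e, finrank_bot, hS, finrank_span_eq_card hli] at h
    simp at h
  have hbS : ∀ i, b i ∈ S := fun i => Submodule.subset_span ⟨i, rfl⟩
  have hvb : ∀ i, gramForm (RingEquiv.refl F) (d • G) v (b i) = 0 := fun i => hv _ (hbS i)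
  set δ := gramForm (RingEquiv.refl F) (d • G) v v with hδ
  let c : Fin (2 * m + 1) → Fin (2 * m + 1) → F := Fin.cons v b
  let A : Matrix (Fin (2 * m + 1)) (Fin (2 * m + 1)) F := fun r i => c i r
  have hdiag : Aᵀ * (d • G) * A = Matrix.diagonal (Fin.cons δ fun _ => 1) := by
    have e := gram_comp (RingEquiv.refl F) hf.semi A
    rw [gramMatrix_gramForm] at e
    refine e.symm.trans ?_
    ext i j
    simp only [gramMatrix, Matrix.mulVec_single_one, Matrix.diagonal_apply]
    change gramForm (RingEquiv.refl F) (d • G) (c i) (c j) = _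
    refine Fin.cases (Fin.cases ?_ (fun j => ?_) j) (fun i => Fin.cases ?_ (fun j => ?_) j) i
    · simp [c, hδ]
    · simpa [c, (Fin.succ_ne_zero j).symm] using hvb j
    · simpa [c, Fin.succ_ne_zero i] using hf.eq_zero_swap (hvb i)
    · simpa [c] using hb i j
  have hδ0 : δ ≠ 0 := by
    intro h0
    obtain ⟨x, hx⟩ := (hf.nondeg v hv0).2
    apply hx
    have hspan : S ⊔ F ∙ v = ⊤ := by
      refine Submodule.eq_top_of_finrank_eq ?_
      have hvS : v ∉ S := fun h => by
        obtain ⟨a, rfl⟩ := (Submodule.mem_span_range_iff_exists_fun F).mp h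
        apply hv0
        refine Finset.sum_eq_zero fun i _ => ?_
        have h := hvb i
        simp only [hf.sum_left, hf.semi.smul_left, hb, mul_ite, mul_one, mul_zero,
          Finset.sum_ite_eq', Finset.mem_univ, if_true] at h
        rw [h, zero_smul]
      have h1 := Submodule.finrank_sup_add_finrank_inf_eq S (F ∙ v)
      rw [disjoint_iff.mp (Submodule.disjoint_span_singleton' hv0 |>.mpr hvS), finrank_bot, finrank_span_singleton hv0,
        hS, finrank_span_eq_card hli] at h1
      rw [hS, Module.finrank_fintype_fun_eq_card]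
      simpa using h1
    obtain ⟨s, hs, t, ht, rfl⟩ := Submodule.mem_sup.mp (hspan ▸ Submodule.mem_top : x ∈ S ⊔ F ∙ v)
    obtain ⟨z, rfl⟩ := Submodule.mem_span_singleton.mp ht
    rw [hf.semi.add_right, hv s hs, hf.semi.smul_right, ← hδ, h0, mul_zero, add_zero]
  have hdets : A.det ^ 2 * (d ^ (m + 1)) ^ 2 = δ := by
    have h := congrArg Matrix.det hdiag
    rw [Matrix.det_mul, Matrix.det_mul, Matrix.det_transpose, hdG, Matrix.det_diagonal, Fin.prod_cons,
      Finset.prod_const_one, mul_one] at h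
    linear_combination h
  set s := A.det * d ^ (m + 1) with hs
  have hs0 : s ≠ 0 := fun h => hδ0 (by rw [← hdets, ← mul_pow, ← hs, h]; ring)
  let T : Matrix (Fin (2 * m + 1)) (Fin (2 * m + 1)) F := Matrix.diagonal (Fin.cons s⁻¹ fun _ => 1)
  have hfin : (A * T)ᵀ * (d • G) * (A * T) = 1 := by
    rw [Matrix.transpose_mul,
      show Tᵀ * Aᵀ * (d • G) * (A * T) = Tᵀ * (Aᵀ * (d • G) * A) * T by simp only [Matrix.mul_assoc], hdiag]
    simp only [T, Matrix.diagonal_transpose, Matrix.diagonal_mul_diagonal, ← Matrix.diagonal_one]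
    congr 1
    funext i
    refine Fin.cases ?_ (fun i => ?_) i
    · simp only [Fin.cons_zero, ← hdets, hs]
      have hA0 : A.det ≠ 0 := left_ne_zero_of_mul hs0
      field_simp
    · simp
  have hu : (A * T).det ≠ 0 := fun h => by
    have := congrArg Matrix.det hfin
    rw [Matrix.det_mul, h, mul_zero, Matrix.det_one] at this
    exact zero_ne_one this
  refine ⟨d⁻¹, Matrix.GeneralLinearGroup.mkOfDetNeZero _ hu, inv_ne_zero hdet, ?_⟩
  change (A * T)ᵀ * G * (A * T) = _
  have : G = d⁻¹ • (d • G) := by rw [smul_smul, inv_mul_cancel₀ hdet, one_smul]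
  rw [this, Matrix.mul_smul, Matrix.smul_mul, hfin]

end Cfsg.Agent.Classical
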