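/-
Coordinates for matrices adapted to a bijection of index sets, and Kronecker products.
-/
import Cfsg.Agent.Lib.Classical.LinBasic

set_option autoImplicit false
set_option linter.style.haveILetI false

namespace Cfsg.Agent.Classical

open Matrix Cfsg.Geo
open scoped Kronecker

variable {ι : Type} [Fintype ι] [DecidableEq ι] {F : Type*} [Field F]
variable {κ : Type} [Fintype κ] [DecidableEq κ]

/-- The matrix of `M` in the basis given by the columns of `P`, indexed through `e`. -/
def matCoord (e : ι ≃ κ) (P : GL ι F) (M : Matrix ι ι F) : Matrix κ κ F :=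
  (((P⁻¹ : GL ι F) : Matrix ι ι F) * M * (P : Matrix ι ι F)).submatrix e.symm e.symm

/-- The inverse of `matCoord`. -/
def matLift (e : ι ≃ κ) (P : GL ι F) (N : Matrix κ κ F) : Matrix ι ι F :=
  (P : Matrix ι ι F) * N.submatrix e e * ((P⁻¹ : GL ι F) : Matrix ι ι F)

variable (e : ι ≃ κ) (P : GL ι F)

omit [Fintype κ] [DecidableEq κ] in
theorem matCoord_matLift (N : Matrix κ κ F) : matCoord e P (matLift e P N) = N := by
  rw [matCoord, matLift]
  simp only [← Matrix.mul_assoc, Units.inv_mul, Matrix.one_mul]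
  rw [Matrix.mul_assoc, Units.inv_mul, Matrix.mul_one]
  ext a b
  simp

omit [Fintype κ] [DecidableEq κ] in
theorem matLift_matCoord (M : Matrix ι ι F) : matLift e P (matCoord e P M) = M := by
  rw [matLift, matCoord, Matrix.submatrix_submatrix, Equiv.symm_comp_self, Matrix.submatrix_id_id]
  simp only [← Matrix.mul_assoc, Units.mul_inv, Matrix.one_mul]
  rw [Matrix.mul_assoc, Units.mul_inv, Matrix.mul_one]

omit [Fintype κ] [DecidableEq κ] in
theorem matCoord_injective : Function.Injective (matCoord e P) :=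
  Function.LeftInverse.injective (g := matLift e P) (matLift_matCoord e P)

omit [DecidableEq κ] in
theorem matCoord_mul (M N : Matrix ι ι F) : matCoord e P (M * N) = matCoord e P M * matCoord e P N := by
  rw [matCoord, matCoord, matCoord, Matrix.submatrix_mul_equiv]
  congr 1
  simp only [Matrix.mul_assoc]
  rw [← Matrix.mul_assoc (P : Matrix ι ι F) ((P⁻¹ : GL ι F) : Matrix ι ι F), Units.mul_inv, Matrix.one_mul]

omit [DecidableEq κ] in
theorem matLift_mul (M N : Matrix κ κ F) : matLift e P (M * N) = matLift e P M * matLift e P N :=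
  matCoord_injective e P (by rw [matCoord_mul, matCoord_matLift, matCoord_matLift, matCoord_matLift])

omit [Fintype κ] in
theorem matCoord_one : matCoord e P (1 : Matrix ι ι F) = 1 := by
  rw [matCoord, Matrix.mul_one, Units.inv_mul, Matrix.submatrix_one_equiv]

omit [Fintype κ] in
theorem matLift_one : matLift e P (1 : Matrix κ κ F) = 1 :=
  matCoord_injective e P (by rw [matCoord_matLift, matCoord_one])

omit [Fintype κ] [DecidableEq κ] in
theorem matCoord_smul (c : F) (M : Matrix ι ι F) : matCoord e P (c • M) = c • matCoord e P M := by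
  rw [matCoord, matCoord, Matrix.mul_smul, Matrix.smul_mul]
  rfl

omit [Fintype κ] [DecidableEq κ] in
theorem matCoord_zero : matCoord e P (0 : Matrix ι ι F) = 0 := by
  simpa using matCoord_smul e P 0 0

theorem matCoord_isUnit (g : GL ι F) : IsUnit (matCoord e P (g : Matrix ι ι F)) :=
  ⟨⟨matCoord e P g, matCoord e P ((g⁻¹ : GL ι F) : Matrix ι ι F),
    by rw [← matCoord_mul, Units.mul_inv, matCoord_one], by rw [← matCoord_mul, Units.inv_mul, matCoord_one]⟩, rfl⟩

/-- Coordinates after a further change of basis. -/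
theorem matCoord_mul_basis (T : GL κ F) (T' : GL ι F) (hT : (T' : Matrix ι ι F) = (T : Matrix κ κ F).submatrix e e)
    (M : Matrix ι ι F) :
    matCoord e (P * T') M = ((T⁻¹ : GL κ F) : Matrix κ κ F) * matCoord e P M * (T : Matrix κ κ F) := by
  have hT' : ((T'⁻¹ : GL ι F) : Matrix ι ι F) = ((T⁻¹ : GL κ F) : Matrix κ κ F).submatrix e e := by
    refine Units.inv_eq_of_mul_eq_one_right ?_
    rw [hT, Matrix.submatrix_mul_equiv, Units.mul_inv, Matrix.submatrix_one_equiv]
  have h : (((P * T')⁻¹ : GL ι F) : Matrix ι ι F) * M * ((P * T' : GL ι F) : Matrix ι ι F) =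
      ((T⁻¹ : GL κ F) : Matrix κ κ F).submatrix e e * (((P⁻¹ : GL ι F) : Matrix ι ι F) * M * (P : Matrix ι ι F)) *
        (T : Matrix κ κ F).submatrix e e := by
    rw [← hT, ← hT', _root_.mul_inv_rev, Units.val_mul, Units.val_mul]
    simp only [Matrix.mul_assoc]
  rw [matCoord, h, ← Matrix.submatrix_mul_equiv _ _ _ e.symm _, ← Matrix.submatrix_mul_equiv _ _ _ e.symm _]
  simp only [Matrix.submatrix_submatrix, Equiv.self_comp_symm, Matrix.submatrix_id_id]
  rfl

theorem mem_conj_reindex_iff {S : Subgroup (GL κ F)} {g : GL ι F} :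
    g ∈ (S.map (glReindex e.symm).toMonoidHom).map (MulAut.conj P).toMonoidHom ↔
      glReindex e (P⁻¹ * g * P) ∈ S := by
  have h1 : ∀ x : GL κ F, glReindex (F := F) e (glReindex e.symm x) = x := fun x => Units.ext (by
    ext a b; simp [glReindex])
  have h2 : ∀ x : GL ι F, glReindex (F := F) e.symm (glReindex e x) = x := fun x => Units.ext (by
    ext a b; simp [glReindex])
  rw [Subgroup.mem_map]
  constructor
  · rintro ⟨x, ⟨y, hy, rfl⟩, rfl⟩
    simpa [mul_assoc, h1] using hy
  · intro h
    exact ⟨P⁻¹ * g * P, ⟨_, h, h2 _⟩, by simp [mul_assoc]⟩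

theorem coe_glReindex_conj (g : GL ι F) :
    (glReindex e (P⁻¹ * g * P) : Matrix κ κ F) = matCoord e P (g : Matrix ι ι F) := rfl

/-- A nonzero matrix intertwining the full matrix algebra with itself is invertible. -/
theorem intertwiner_isUnit {G : Matrix κ κ F} (hG : G ≠ 0) (h : ∀ Y : Matrix κ κ F, ∃ Y', G * Y = Y' * G) :
    IsUnit G := by
  rw [← Matrix.mulVec_injective_iff_isUnit]
  intro u v huv
  by_contra hne
  apply hG
  obtain ⟨i, hi⟩ := Function.ne_iff.mp (sub_ne_zero.mpr hne)
  refine Matrix.toLin'.injective (LinearMap.ext fun w => ?_)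
  rw [Matrix.toLin'_apply, map_zero, LinearMap.zero_apply]
  set Y : Matrix κ κ F := Matrix.of fun r c => w r * (if c = i then ((u - v) i)⁻¹ else 0)
  obtain ⟨Y', hY⟩ := h Y
  have hYu : Y *ᵥ (u - v) = w := funext fun r => by
    rw [Matrix.mulVec, dotProduct, Finset.sum_eq_single i (fun c _ hc => by simp [Y, hc]) (by simp)]
    simp only [Y, Matrix.of_apply, if_true]
    rw [mul_assoc, inv_mul_cancel₀ hi, mul_one]
  rw [← hYu, Matrix.mulVec_mulVec, hY, ← Matrix.mulVec_mulVec, Matrix.mulVec_sub, sub_eq_zero.mpr huv, Matrix.mulVec_zero]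

variable {α β : Type} [Fintype α] [DecidableEq α] [Fintype β] [DecidableEq β]

omit [Fintype α] [DecidableEq α] [Fintype β] [DecidableEq β] in
/-- The block of a matrix on a product index. -/
theorem block_ext {M N : Matrix (α × β) (α × β) F}
    (h : ∀ a a', (fun b b' => M (a, b) (a', b')) = fun b b' => N (a, b) (a', b')) : M = N := by
  ext ⟨a, b⟩ ⟨a', b'⟩
  exact congrFun (congrFun (h a a') b) b'

/-- What intertwines `1 ⊗ Y` is a Kronecker product. -/
theorem kronecker_of_intertwines [Nonempty α] [Nonempty β] {G : Matrix (α × β) (α × β) F} (hG : IsUnit G)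
    (h : ∀ Y : Matrix β β F, ∃ Y', G * ((1 : Matrix α α F) ⊗ₖ Y) = ((1 : Matrix α α F) ⊗ₖ Y') * G) :
    ∃ (c : GL α F) (b : GL β F), G = (c : Matrix α α F) ⊗ₖ (b : Matrix β β F) := by
  classical
  let blk : α → α → Matrix β β F := fun a a' => Matrix.of fun b b' => G (a, b) (a', b')
  have hblk : ∀ Y Y' : Matrix β β F, G * ((1 : Matrix α α F) ⊗ₖ Y) = ((1 : Matrix α α F) ⊗ₖ Y') * G →
      ∀ a a', blk a a' * Y = Y' * blk a a' := by
    intro Y Y' e a a'
    ext b b'
    have := congrFun (congrFun e (a, b)) (a', b')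
    simpa [Matrix.mul_apply, Fintype.sum_prod_type, Matrix.one_apply, blk, ite_mul, mul_ite] using this
  obtain ⟨a₀, a₀', h0⟩ : ∃ a a', blk a a' ≠ 0 := by
    by_contra hcon
    push Not at hcon
    have : G = 0 := block_ext fun a a' => by
      funext b b'
      exact congrFun (congrFun (hcon a a') b) b'
    exact hG.ne_zero this
  have hB : IsUnit (blk a₀ a₀') := intertwiner_isUnit h0 fun Y => by
    obtain ⟨Y', hY⟩ := h Y
    exact ⟨Y', hblk Y Y' hY a₀ a₀'⟩
  obtain ⟨B, hB⟩ := hB
  have hc : ∀ a a', ∃ c : F, blk a a' = c • (B : Matrix β β F) := by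
    intro a a'
    have hcomm : ∀ Y : Matrix β β F, Commute Y (((B⁻¹ : GL β F) : Matrix β β F) * blk a a') := by
      intro Y
      obtain ⟨Y', hY⟩ := h Y
      have e0 := hblk Y Y' hY a₀ a₀'
      rw [← hB] at e0
      have e1 : ((B⁻¹ : GL β F) : Matrix β β F) * Y' = Y * ((B⁻¹ : GL β F) : Matrix β β F) := by
        have e2 := congrArg (fun Z => ((B⁻¹ : GL β F) : Matrix β β F) * Z * ((B⁻¹ : GL β F) : Matrix β β F)) e0
        simp only [← Matrix.mul_assoc, Units.inv_mul, Matrix.one_mul] at e2
        rw [Matrix.mul_assoc _ (B : Matrix β β F), Units.mul_inv, Matrix.mul_one] at e2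
        exact e2.symm
      change Y * _ = _ * Y
      rw [← Matrix.mul_assoc, ← e1, Matrix.mul_assoc, ← hblk Y Y' hY a a', Matrix.mul_assoc]
    obtain ⟨c, hc⟩ := Matrix.mem_range_scalar_iff_commute_single'.mpr (fun i j => hcomm (Matrix.single i j 1))
    refine ⟨c, ?_⟩
    calc blk a a' = (B : Matrix β β F) * (((B⁻¹ : GL β F) : Matrix β β F) * blk a a') := by
          rw [← Matrix.mul_assoc, Units.mul_inv, Matrix.one_mul]
      _ = c • (B : Matrix β β F) := by rw [← hc]; ext i j; simp [mul_comm]
  choose c hc using hc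
  let C : Matrix α α F := Matrix.of c
  have hGe : G = C ⊗ₖ (B : Matrix β β F) := block_ext fun a a' => by
    funext b b'
    have := congrFun (congrFun (hc a a') b) b'
    simpa [blk, C] using this
  have hC : C.det ≠ 0 := fun h0 => by
    have := (Matrix.isUnit_iff_isUnit_det G).mp hG
    rw [hGe, Matrix.det_kronecker, h0, zero_pow Fintype.card_ne_zero, zero_mul] at this
    exact not_isUnit_zero this
  exact ⟨Matrix.GeneralLinearGroup.mkOfDetNeZero C hC, B, hGe⟩

/-- What commutes with all `1 ⊗ Y` is `A ⊗ 1`. -/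
theorem eq_kronecker_one {G : Matrix (α × β) (α × β) F}
    (h : ∀ Y : Matrix β β F, G * ((1 : Matrix α α F) ⊗ₖ Y) = ((1 : Matrix α α F) ⊗ₖ Y) * G) :
    ∃ A : Matrix α α F, G = A ⊗ₖ (1 : Matrix β β F) := by
  classical
  let blk : α → α → Matrix β β F := fun a a' => Matrix.of fun b b' => G (a, b) (a', b')
  have hc : ∀ a a', ∃ c : F, blk a a' = c • (1 : Matrix β β F) := by
    intro a a'
    have hcomm : ∀ Y : Matrix β β F, Commute Y (blk a a') := fun Y => by
      ext b b'
      have := congrFun (congrFun (h Y) (a, b)) (a', b')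
      simpa [Matrix.mul_apply, Fintype.sum_prod_type, Matrix.one_apply, blk, ite_mul, mul_ite] using this.symm
    obtain ⟨c, hc⟩ := Matrix.mem_range_scalar_iff_commute_single'.mpr (fun i j => hcomm (Matrix.single i j 1))
    exact ⟨c, by rw [← hc]; ext i j; simp [Matrix.one_apply, Matrix.diagonal_apply]⟩
  choose c hc using hc
  refine ⟨Matrix.of c, block_ext fun a a' => ?_⟩
  funext b b'
  have := congrFun (congrFun (hc a a') b) b'
  simpa [blk, Matrix.one_apply] using this

end Cfsg.Agent.Classical
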