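/-
Pure tensors on a tensor power, the factor algebras and their normaliser, and the form on a power of a plane.
-/
import Cfsg.Agent.Lib.Classical.MatCoord
import Cfsg.Agent.Lib.Classical.Forms

set_option autoImplicit false
set_option linter.style.haveILetI false

namespace Cfsg.Agent.Classical

open Matrix Cfsg.Geo

variable {F : Type*} [Field F] {m t : ℕ}

/-- The tensor product of a family of matrices. -/
def pureM (A : Fin t → Matrix (Fin m) (Fin m) F) : Matrix (Fin t → Fin m) (Fin t → Fin m) F :=
  Matrix.of fun x y => ∏ i, A i (x i) (y i)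

theorem pureM_mul (A B : Fin t → Matrix (Fin m) (Fin m) F) : pureM A * pureM B = pureM fun i => A i * B i := by
  ext x y
  simp only [pureM, Matrix.mul_apply, Matrix.of_apply, ← Finset.prod_mul_distrib]
  rw [Finset.prod_univ_sum, Fintype.piFinset_univ]

theorem pureM_one : pureM (fun _ : Fin t => (1 : Matrix (Fin m) (Fin m) F)) = 1 := by
  ext x y
  simp only [pureM, Matrix.of_apply]
  by_cases h : x = y
  · subst h; simp
  · obtain ⟨i, hi⟩ := Function.ne_iff.mp h
    rw [Matrix.one_apply_ne h]
    exact Finset.prod_eq_zero (Finset.mem_univ i) (Matrix.one_apply_ne hi)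

theorem pureM_transpose (A : Fin t → Matrix (Fin m) (Fin m) F) : (pureM A)ᵀ = pureM fun i => (A i)ᵀ := rfl

theorem pureM_smul (c : Fin t → F) (A : Fin t → Matrix (Fin m) (Fin m) F) :
    (pureM fun i => c i • A i) = (∏ i, c i) • pureM A := by
  ext x y
  simp [pureM, Finset.prod_mul_distrib]

/-- A matrix acting on the `i`-th factor. -/
def facM (i : Fin t) (Y : Matrix (Fin m) (Fin m) F) : Matrix (Fin t → Fin m) (Fin t → Fin m) F :=
  pureM (Function.update (fun _ => 1) i Y)

theorem facM_apply (i : Fin t) (Y : Matrix (Fin m) (Fin m) F) (x y : Fin t → Fin m) :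
    facM i Y x y = if ∀ j, j ≠ i → x j = y j then Y (x i) (y i) else 0 := by
  simp only [facM, pureM, Matrix.of_apply]
  rw [← Finset.mul_prod_erase Finset.univ _ (Finset.mem_univ i), Function.update_self]
  split_ifs with h
  · rw [Finset.prod_eq_one fun j hj => ?_, mul_one]
    rw [Function.update_of_ne (Finset.ne_of_mem_erase hj), h j (Finset.ne_of_mem_erase hj), Matrix.one_apply_eq]
  · push Not at h
    obtain ⟨j, hji, hj⟩ := h
    rw [Finset.prod_eq_zero (Finset.mem_erase.mpr ⟨hji, Finset.mem_univ j⟩), mul_zero]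
    rw [Function.update_of_ne hji, Matrix.one_apply_ne hj]

theorem mul_facM_apply (G : Matrix (Fin t → Fin m) (Fin t → Fin m) F) (i : Fin t) (Y : Matrix (Fin m) (Fin m) F)
    (x y : Fin t → Fin m) : (G * facM i Y) x y = ∑ c, G x (Function.update y i c) * Y c (y i) := by
  classical
  rw [Matrix.mul_apply, ← Finset.sum_subset (Finset.subset_univ (Finset.univ.image (Function.update y i)))]
  · rw [Finset.sum_image (fun a _ b _ h => by simpa using congrFun h i)]
    refine Finset.sum_congr rfl fun c _ => ?_
    rw [facM_apply, if_pos fun j hj => Function.update_of_ne hj _ _, Function.update_self]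
  · intro z _ hz
    rw [facM_apply, if_neg fun h => hz ?_, mul_zero]
    exact Finset.mem_image.mpr ⟨z i, Finset.mem_univ _, funext fun j => by
      rcases eq_or_ne j i with rfl | hj
      · rw [Function.update_self]
      · rw [Function.update_of_ne hj, h j hj]⟩

theorem facM_mul_apply (G : Matrix (Fin t → Fin m) (Fin t → Fin m) F) (i : Fin t) (Y : Matrix (Fin m) (Fin m) F)
    (x y : Fin t → Fin m) : (facM i Y * G) x y = ∑ c, Y (x i) c * G (Function.update x i c) y := by
  classical
  rw [Matrix.mul_apply, ← Finset.sum_subset (Finset.subset_univ (Finset.univ.image (Function.update x i)))]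
  · rw [Finset.sum_image (fun a _ b _ h => by simpa using congrFun h i)]
    refine Finset.sum_congr rfl fun c _ => ?_
    rw [facM_apply, if_pos fun j hj => (Function.update_of_ne hj _ _).symm, Function.update_self]
  · intro z _ hz
    rw [facM_apply, if_neg fun h => hz ?_, zero_mul]
    exact Finset.mem_image.mpr ⟨z i, Finset.mem_univ _, funext fun j => by
      rcases eq_or_ne j i with rfl | hj
      · rw [Function.update_self]
      · rw [Function.update_of_ne hj, h j hj]⟩

theorem facM_commute {i j : Fin t} (hij : i ≠ j) (A B : Matrix (Fin m) (Fin m) F) :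
    facM i A * facM j B = facM j B * facM i A := by
  rw [facM, facM, pureM_mul, pureM_mul]
  congr 1
  funext k
  rcases eq_or_ne k i with rfl | hki
  · rw [Function.update_of_ne hij, Matrix.mul_one, Matrix.one_mul]
  · rw [Function.update_of_ne hki, Matrix.mul_one, Matrix.one_mul]

/-- The permutation of the factors. -/
def factorPermM (m : ℕ) (F : Type*) [Field F] (σ : Equiv.Perm (Fin t)) : Matrix (Fin t → Fin m) (Fin t → Fin m) F :=
  Matrix.of fun x y => if y = x ∘ σ then 1 else 0

theorem factorPermM_mul_apply (σ : Equiv.Perm (Fin t)) (G : Matrix (Fin t → Fin m) (Fin t → Fin m) F)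
    (x y : Fin t → Fin m) : (factorPermM m F σ * G) x y = G (x ∘ σ) y := by
  simp [factorPermM, Matrix.mul_apply]

theorem mul_factorPermM_apply (σ : Equiv.Perm (Fin t)) (G : Matrix (Fin t → Fin m) (Fin t → Fin m) F)
    (x y : Fin t → Fin m) : (G * factorPermM m F σ) x y = G x (y ∘ σ.symm) := by
  simp only [Matrix.mul_apply, factorPermM, Matrix.of_apply, mul_ite, mul_one, mul_zero]
  rw [Finset.sum_eq_single (y ∘ σ.symm) (fun z _ hz => if_neg fun e => hz (by rw [e]; ext; simp))
    (fun h => absurd (Finset.mem_univ _) h)]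
  exact if_pos (by ext; simp)

theorem factorPermM_mul (σ τ : Equiv.Perm (Fin t)) :
    factorPermM m F σ * factorPermM m F τ = factorPermM m F (σ * τ) := by
  ext x y
  rw [factorPermM_mul_apply]
  rfl

theorem factorPermM_one : factorPermM m F (1 : Equiv.Perm (Fin t)) = 1 := by
  ext x y
  simp [factorPermM, Matrix.one_apply, eq_comm]

theorem factorPermM_pureM (σ : Equiv.Perm (Fin t)) (A : Fin t → Matrix (Fin m) (Fin m) F) :
    factorPermM m F σ * pureM A = pureM (fun i => A (σ.symm i)) * factorPermM m F σ := by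
  ext x y
  rw [factorPermM_mul_apply, mul_factorPermM_apply]
  simp only [pureM, Matrix.of_apply, Function.comp_apply]
  rw [← Equiv.prod_comp σ.symm]
  simp

theorem factorPermM_facM (σ : Equiv.Perm (Fin t)) (i : Fin t) (Y : Matrix (Fin m) (Fin m) F) :
    factorPermM m F σ * facM i Y = facM (σ i) Y * factorPermM m F σ := by
  rw [facM, factorPermM_pureM, facM]
  congr 2
  funext k
  rcases eq_or_ne k (σ i) with rfl | hk
  · simp
  · rw [Function.update_of_ne hk, Function.update_of_ne fun e => hk (by rw [← e, Equiv.apply_symm_apply])]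

/-- The invertible factor permutation. -/
def factorPermGL (m : ℕ) (F : Type*) [Field F] (σ : Equiv.Perm (Fin t)) : GL (Fin t → Fin m) F :=
  ⟨factorPermM m F σ, factorPermM m F σ⁻¹,
    by rw [factorPermM_mul, mul_inv_cancel, factorPermM_one],
    by rw [factorPermM_mul, inv_mul_cancel, factorPermM_one]⟩

theorem factorPermGL_mem (σ : Equiv.Perm (Fin t)) : factorPermGL m F σ ∈ tensorWreathStandard m t F :=
  Subgroup.subset_closure (Or.inr ⟨σ, fun _ _ => rfl⟩)

/-- An invertible matrix normalising every factor algebra is a pure tensor. -/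
theorem exists_pure_of_normalises (ht : 0 < t) (hm : 0 < m) {G : Matrix (Fin t → Fin m) (Fin t → Fin m) F}
    (hG : IsUnit G) (h : ∀ i Y, ∃ Y', G * facM i Y = facM i Y' * G) :
    ∃ A : Fin t → GL (Fin m) F, G = pureM fun i => (A i : Matrix (Fin m) (Fin m) F) := by
  classical
  haveI : Nonempty (Fin m) := ⟨⟨0, hm⟩⟩
  obtain ⟨x₀, y₀, h0⟩ : ∃ x y, G x y ≠ 0 := by
    by_contra hcon
    push Not at hcon
    exact hG.ne_zero (Matrix.ext hcon)
  let blk : Fin t → Matrix (Fin m) (Fin m) F := fun i =>
    Matrix.of fun a b => G (Function.update x₀ i a) (Function.update y₀ i b)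
  have hblk : ∀ i Y Y', G * facM i Y = facM i Y' * G → blk i * Y = Y' * blk i := fun i Y Y' e => by
    ext a b
    have := congrFun (congrFun e (Function.update x₀ i a)) (Function.update y₀ i b)
    rw [mul_facM_apply, facM_mul_apply] at this
    simpa [Matrix.mul_apply, blk] using this
  have hu : ∀ i, IsUnit (blk i) := fun i => intertwiner_isUnit
    (fun e => h0 (by simpa [blk] using congrFun (congrFun e (x₀ i)) (y₀ i)))
    fun Y => (h i Y).imp fun Y' e => hblk i Y Y' e
  set A : Fin t → GL (Fin m) F := fun i => (hu i).unit with hA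
  have hinv : pureM (fun i => (((A i)⁻¹ : GL (Fin m) F) : Matrix (Fin m) (Fin m) F)) * pureM (fun i => (A i : Matrix (Fin m) (Fin m) F)) = 1 := by
    rw [pureM_mul]; simp only [Units.inv_mul]; exact pureM_one
  set G' := pureM (fun i => (((A i)⁻¹ : GL (Fin m) F) : Matrix (Fin m) (Fin m) F)) * G with hG'
  have hcomm : ∀ i Y, G' * facM i Y = facM i Y * G' := by
    intro i Y
    obtain ⟨Y', hY⟩ := h i Y
    have e := hblk i Y Y' hY
    rw [hG', Matrix.mul_assoc, hY, ← Matrix.mul_assoc, ← Matrix.mul_assoc (facM i Y)]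
    congr 1
    rw [facM, facM, pureM_mul, pureM_mul]
    congr 1
    funext k
    rcases eq_or_ne k i with rfl | hk
    · rw [Function.update_self, Function.update_self]
      rw [show blk k = (A k : Matrix (Fin m) (Fin m) F) from (hu k).unit_spec.symm] at e
      calc (((A k)⁻¹ : GL (Fin m) F) : Matrix (Fin m) (Fin m) F) * Y'
          = (((A k)⁻¹ : GL (Fin m) F) : Matrix (Fin m) (Fin m) F) * (Y' * (A k : Matrix (Fin m) (Fin m) F)) *
              (((A k)⁻¹ : GL (Fin m) F) : Matrix (Fin m) (Fin m) F) := by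
            rw [Matrix.mul_assoc, Matrix.mul_assoc Y', Units.mul_inv, Matrix.mul_one]
        _ = _ := by rw [← e, ← Matrix.mul_assoc, Units.inv_mul, Matrix.one_mul]
    · rw [Function.update_of_ne hk, Function.update_of_ne hk, Matrix.mul_one, Matrix.one_mul]
  have hdiag : ∀ x y, x ≠ y → G' x y = 0 := by
    intro x y hxy
    obtain ⟨i, hi⟩ := Function.ne_iff.mp hxy
    have := congrFun (congrFun (hcomm i (Matrix.single (x i) (x i) 1)) x) y
    rw [mul_facM_apply, facM_mul_apply] at this
    simpa [Matrix.single_apply, hi, Function.update_eq_self] using this.symm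
  have hstep : ∀ x (i : Fin t) a, G' (Function.update x i a) (Function.update x i a) = G' x x := by
    intro x i a
    have := congrFun (congrFun (hcomm i (Matrix.single a (x i) 1)) (Function.update x i a)) x
    rw [mul_facM_apply, facM_mul_apply] at this
    simpa [Matrix.single_apply, Function.update_eq_self] using this
  have hconst : ∀ x y, G' x x = G' y y := by
    intro x y
    suffices ∀ s : Finset (Fin t), G' (s.piecewise y x) (s.piecewise y x) = G' x x by
      simpa using (this Finset.univ).symm
    intro s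
    induction s using Finset.induction with
    | empty => simp
    | insert i s _ ih => rw [Finset.piecewise_insert, hstep, ih]
  let z : Fin t → Fin m := fun _ => ⟨0, hm⟩
  set c := G' z z with hc
  have hG'c : G' = c • (1 : Matrix (Fin t → Fin m) (Fin t → Fin m) F) := by
    ext x y
    rcases eq_or_ne x y with rfl | hxy
    · simpa using hconst x z
    · simp [hdiag x y hxy, Matrix.one_apply_ne hxy]
  have hGe : G = c • pureM (fun i => (A i : Matrix (Fin m) (Fin m) F)) := by
    calc G = pureM (fun i => (A i : Matrix (Fin m) (Fin m) F)) * G' := by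
          rw [hG', ← Matrix.mul_assoc, _root_.mul_eq_one_comm.mp hinv, Matrix.one_mul]
      _ = _ := by rw [hG'c, Matrix.mul_smul, Matrix.mul_one]
  have hc0 : c ≠ 0 := fun e => hG.ne_zero (by rw [hGe, e, zero_smul])
  let i₀ : Fin t := ⟨0, ht⟩
  let s : GL (Fin m) F := Units.map (Matrix.scalar (Fin m) : F →+* Matrix (Fin m) (Fin m) F).toMonoidHom (Units.mk0 c hc0)
  refine ⟨Function.update A i₀ (s * A i₀), ?_⟩
  have hfun : (fun i => (Function.update A i₀ (s * A i₀) i : Matrix (Fin m) (Fin m) F)) =
      fun i => (if i = i₀ then c else 1) • (A i : Matrix (Fin m) (Fin m) F) := by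
    funext i
    rcases eq_or_ne i i₀ with rfl | hi
    · rw [Function.update_self, if_pos rfl, Units.val_mul]
      ext a b
      simp [s]
    · rw [Function.update_of_ne hi, if_neg hi, one_smul]
  rw [hfun, pureM_smul, hGe, Fintype.prod_ite_eq']

/-! ### Powers of a plane -/

/-- The determinant form on a plane. -/
def planeJ (F : Type*) [Field F] : Matrix (Fin 2) (Fin 2) F := !![0, 1; -1, 0]

theorem planeJ_congr (A : Matrix (Fin 2) (Fin 2) F) : Aᵀ * planeJ F * A = A.det • planeJ F := by
  rw [Matrix.det_fin_two]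
  ext i j
  fin_cases i <;> fin_cases j <;> simp [planeJ, Matrix.mul_apply, Fin.sum_univ_two] <;> ring

theorem planeJ_unit : planeJ F * -planeJ F = 1 := by
  ext i j
  fin_cases i <;> fin_cases j <;> simp [planeJ, Matrix.mul_apply, Fin.sum_univ_two]

theorem planeJ_apply_swap (a b : Fin 2) : planeJ F b a = -planeJ F a b := by
  fin_cases a <;> fin_cases b <;> simp [planeJ]

/-- The Gram matrix of the power of the plane form. -/
def planePow (F : Type*) [Field F] (t : ℕ) : Matrix (Fin t → Fin 2) (Fin t → Fin 2) F := pureM fun _ => planeJ F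

theorem planePow_swap (x y : Fin t → Fin 2) : planePow F t y x = (-1) ^ t * planePow F t x y := by
  simp only [planePow, pureM, Matrix.of_apply]
  rw [Finset.prod_congr rfl (fun i _ => planeJ_apply_swap (x i) (y i)), Finset.prod_neg, Finset.card_univ, Fintype.card_fin]

theorem planePow_diag (ht : 0 < t) (x : Fin t → Fin 2) : planePow F t x x = 0 := by
  refine Finset.prod_eq_zero (Finset.mem_univ (⟨0, ht⟩ : Fin t)) ?_
  generalize x (⟨0, ht⟩ : Fin t) = a
  fin_cases a <;> simp [planeJ]

theorem wreath_le_planeSimilarity :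
    ∀ g ∈ tensorWreathStandard 2 t F, ∃ c : F, c ≠ 0 ∧
      (g : Matrix (Fin t → Fin 2) (Fin t → Fin 2) F)ᵀ * planePow F t * (g : Matrix (Fin t → Fin 2) (Fin t → Fin 2) F) =
        c • planePow F t := by
  intro g hg
  induction hg using Subgroup.closure_induction with
  | one => exact ⟨1, one_ne_zero, by simp⟩
  | mul a b _ _ ha hb =>
    obtain ⟨c, hc, hca⟩ := ha
    obtain ⟨d, hd, hdb⟩ := hb
    refine ⟨c * d, mul_ne_zero hc hd, ?_⟩
    rw [Units.val_mul, Matrix.transpose_mul]
    calc (b : Matrix (Fin t → Fin 2) (Fin t → Fin 2) F)ᵀ * (a : Matrix (Fin t → Fin 2) (Fin t → Fin 2) F)ᵀ * planePow F t *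
          ((a : Matrix (Fin t → Fin 2) (Fin t → Fin 2) F) * (b : Matrix (Fin t → Fin 2) (Fin t → Fin 2) F))
        = (b : Matrix (Fin t → Fin 2) (Fin t → Fin 2) F)ᵀ * ((a : Matrix (Fin t → Fin 2) (Fin t → Fin 2) F)ᵀ * planePow F t *
            (a : Matrix (Fin t → Fin 2) (Fin t → Fin 2) F)) * (b : Matrix (Fin t → Fin 2) (Fin t → Fin 2) F) := by
          simp only [Matrix.mul_assoc]
      _ = _ := by rw [hca, Matrix.mul_smul, Matrix.smul_mul, hdb, smul_smul]
  | inv a _ ha =>
    obtain ⟨c, hc, hca⟩ := ha
    refine ⟨c⁻¹, inv_ne_zero hc, ?_⟩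
    set A := (a : Matrix (Fin t → Fin 2) (Fin t → Fin 2) F)
    set Ai := ((a⁻¹ : GL (Fin t → Fin 2) F) : Matrix (Fin t → Fin 2) (Fin t → Fin 2) F)
    have h1 : A * Ai = 1 := a.mul_inv
    have h2 := congrArg (fun Z => c⁻¹ • (Aiᵀ * Z * Ai)) hca
    simp only [Matrix.mul_smul, Matrix.smul_mul, smul_smul, inv_mul_cancel₀ hc, one_smul] at h2
    rw [← h2]
    congr 1
    calc Aiᵀ * (Aᵀ * planePow F t * A) * Ai = (A * Ai)ᵀ * planePow F t * (A * Ai) := by
          rw [Matrix.transpose_mul]; simp only [Matrix.mul_assoc]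
      _ = _ := by rw [h1, Matrix.transpose_one, Matrix.one_mul, Matrix.mul_one]
  | mem g hg =>
    rcases hg with ⟨gs, hgs⟩ | ⟨σ, hσ⟩
    · refine ⟨∏ i, (gs i : Matrix (Fin 2) (Fin 2) F).det,
        Finset.prod_ne_zero_iff.mpr fun i _ => ((Matrix.isUnit_iff_isUnit_det _).mp (gs i).isUnit).ne_zero, ?_⟩
      rw [show (g : Matrix (Fin t → Fin 2) (Fin t → Fin 2) F) = pureM fun i => (gs i : Matrix (Fin 2) (Fin 2) F) from
        Matrix.ext hgs, pureM_transpose, planePow, pureM_mul, pureM_mul]
      simp only [planeJ_congr]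
      exact pureM_smul _ _
    · refine ⟨1, one_ne_zero, ?_⟩
      have hT : (factorPermM 2 F σ)ᵀ = factorPermM 2 F σ⁻¹ := by
        ext x y
        simp only [Matrix.transpose_apply, factorPermM, Matrix.of_apply]
        refine if_congr ⟨fun e => ?_, fun e => ?_⟩ rfl rfl <;> (rw [e]; ext; simp)
      rw [one_smul, show (g : Matrix (Fin t → Fin 2) (Fin t → Fin 2) F) = factorPermM 2 F σ from Matrix.ext hσ,
        Matrix.mul_assoc, planePow,
        show pureM (fun _ : Fin t => planeJ F) * factorPermM 2 F σ = factorPermM 2 F σ * pureM fun _ => planeJ F from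
          (factorPermM_pureM σ fun _ => planeJ F).symm,
        hT, ← Matrix.mul_assoc, factorPermM_mul, inv_mul_cancel, factorPermM_one, Matrix.one_mul]

variable {ι : Type} [Fintype ι] [DecidableEq ι]

/-- A group preserving a decomposition into planes as tensor factors preserves a form up to scalars. -/
theorem binary_wreath_form [Fintype F] (ht : 0 < t) (e : ι ≃ (Fin t → Fin 2)) (P : GL ι F) {H : Subgroup (GL ι F)}
    (hH : H ≤ tensorWreathSubgroup 2 t e P) :
    (Odd (Fintype.card F) ∧ Even t ∧ ∃ Q : (ι → F) → F, IsNondegenerateQuadraticForm Q ∧ H ≤ quadSimilarityGroup Q) ∨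
    (∃ f : (ι → F) → (ι → F) → F, IsSymplecticForm f ∧ H ≤ similarityGroup f) := by
  classical
  let L : Matrix (Fin t → Fin 2) ι F := (((P⁻¹ : GL ι F) : Matrix ι ι F)).submatrix e.symm id
  let f : (ι → F) → (ι → F) → F := fun u v => (L *ᵥ u) ⬝ᵥ (planePow F t *ᵥ (L *ᵥ v))
  have hL : ∀ (g : Matrix ι ι F) u, L *ᵥ (g *ᵥ u) = matCoord e P g *ᵥ (L *ᵥ u) := by
    intro g u
    rw [Matrix.mulVec_mulVec, Matrix.mulVec_mulVec]
    congr 1
    rw [matCoord]
    simp only [L]
    rw [Matrix.submatrix_mul_equiv, Matrix.mul_assoc, Units.mul_inv, Matrix.mul_one]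
    ext a b
    simp [Matrix.mul_apply]
  have hb : IsBilinearForm f :=
    ⟨fun x y v => by simp [f, Matrix.mulVec_add, add_dotProduct],
     fun c x v => by simp [f, Matrix.mulVec_smul, smul_dotProduct],
     fun v x y => by simp [f, Matrix.mulVec_add, dotProduct_add],
     fun c v x => by simp [f, Matrix.mulVec_smul, dotProduct_smul]⟩
  have hswap : ∀ u v, f v u = (-1) ^ t * f u v := by
    intro u v
    simp only [f]
    generalize L *ᵥ u = a'
    generalize L *ᵥ v = b'
    simp only [dotProduct, Matrix.mulVec, Finset.mul_sum]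
    rw [Finset.sum_comm]
    refine Finset.sum_congr rfl fun a _ => Finset.sum_congr rfl fun b _ => ?_
    rw [planePow_swap a b]
    ring
  have hnd : IsNondegenerateForm f := by
    intro v hv
    have hu : IsUnit (planePow F t) := by
      refine ⟨⟨planePow F t, pureM (fun _ => -planeJ F), ?_, ?_⟩, rfl⟩
      · rw [planePow, pureM_mul]; simp only [planeJ_unit]; exact pureM_one
      · rw [planePow, pureM_mul]; simp only [_root_.mul_eq_one_comm.mp (planeJ_unit (F := F))]; exact pureM_one
    have hLi : Function.Injective fun u => L *ᵥ u := fun a b hab => by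
      have : ∀ c, L *ᵥ c = (((P⁻¹ : GL ι F) : Matrix ι ι F) *ᵥ c) ∘ e.symm := fun c => rfl
      simp only [this] at hab
      exact gl_mulVec_injective P⁻¹ (funext fun i => by simpa using congrFun hab (e i))
    have hw : planePow F t *ᵥ (L *ᵥ v) ≠ 0 := fun h0 => hv (hLi (Matrix.mulVec_injective_iff_isUnit.mpr hu
      (h0.trans (by dsimp only; rw [Matrix.mulVec_zero, Matrix.mulVec_zero]))))
    obtain ⟨k, hk⟩ := Function.ne_iff.mp hw
    obtain ⟨x, hx⟩ : ∃ x, f x v ≠ 0 := by
      refine ⟨(P : Matrix ι ι F) *ᵥ Pi.single (e.symm k) 1, ?_⟩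
      have e1 : L *ᵥ ((P : Matrix ι ι F) *ᵥ Pi.single (e.symm k) 1) = Pi.single k 1 := by
        change ((((P⁻¹ : GL ι F) : Matrix ι ι F) *ᵥ ((P : Matrix ι ι F) *ᵥ Pi.single (e.symm k) 1)) ∘ e.symm) = _
        rw [gl_inv_mulVec_cancel]
        funext r
        simp [Pi.single_apply]
      simp only [f, e1, single_one_dotProduct]
      exact hk
    exact ⟨⟨x, hx⟩, x, by rw [hswap]; exact mul_ne_zero (pow_ne_zero _ (by simp)) hx⟩
  have hsim : H ≤ similarityGroup f := by
    intro g hg
    obtain ⟨c, hc, hcg⟩ := wreath_le_planeSimilarity _ ((mem_conj_reindex_iff e P).mp (hH hg))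
    rw [coe_glReindex_conj] at hcg
    refine ⟨Units.mk0 c hc, fun u v => ?_⟩
    simp only [f, hL, Units.val_mk0]
    rw [← Matrix.vecMul_transpose, ← Matrix.dotProduct_mulVec, Matrix.mulVec_mulVec, Matrix.mulVec_mulVec,
      ← smul_eq_mul c, ← dotProduct_smul, ← Matrix.smul_mulVec, ← hcg]
  by_cases hcase : Odd (Fintype.card F) ∧ Even t
  · obtain ⟨hq, hev⟩ := hcase
    have h2 : (2 : F) ≠ 0 := fun h => by
      have hc : ringChar F = 2 := by
        rcases (Nat.dvd_prime Nat.prime_two).mp ((ringChar.spec F 2).mp (by exact_mod_cast h)) with h1 | h2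
        · exact absurd h1 CharP.ringChar_ne_one
        · exact h2
      exact Nat.not_even_iff_odd.mpr hq (Nat.even_iff.mpr (FiniteField.even_card_of_char_two hc))
    have hsymm : ∀ u v, f v u = f u v := fun u v => by rw [hswap, hev.neg_one_pow, one_mul]
    let Q : (ι → F) → F := fun u => f u u / 2
    have hpol : QuadraticMap.polar Q = f := by
      funext u v
      simp only [QuadraticMap.polar, Q, hb.add_left, hb.add_right, hsymm u v]
      field_simp
      ring
    left
    refine ⟨hq, hev, Q, ⟨fun c u => ?_, hpol ▸ hb, hpol ▸ hnd⟩, fun g hg => ?_⟩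
    · simp only [Q, hb.smul_left, hb.smul_right]; ring
    · obtain ⟨c, hc⟩ := hsim hg
      exact ⟨c, fun u => by simp only [Q, hc]; ring⟩
  · right
    have hneg : ((-1 : F)) ^ t = -1 := by
      by_cases h2 : (2 : F) = 0
      · have : (-1 : F) = 1 := by linear_combination -h2
        rw [this, one_pow]
      · have hq : Odd (Fintype.card F) := Nat.odd_iff.mpr (FiniteField.odd_card_of_char_ne_two fun h => h2 (by
          haveI := ringChar.charP F
          exact_mod_cast (CharP.cast_eq_zero_iff F (ringChar F) 2).mpr (by rw [h])))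
        exact (Nat.not_even_iff_odd.mp fun hev => hcase ⟨hq, hev⟩).neg_one_pow
    refine ⟨f, ⟨hb, fun v w => by rw [hswap w v, hneg, neg_one_mul], fun v => ?_, hnd⟩, hsim⟩
    simp only [f]
    generalize L *ᵥ v = b'
    simp only [dotProduct, Matrix.mulVec, Finset.mul_sum]
    rw [← Fintype.sum_prod_type']
    refine Finset.sum_ninvolution Prod.swap (fun x => ?_) (fun x hx e' => hx ?_) (fun x => Finset.mem_univ _) Prod.swap_swap
    · simp only [Prod.fst_swap, Prod.snd_swap]
      rw [planePow_swap x.1 x.2, hneg]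
      ring
    · have : x.2 = x.1 := congrArg Prod.fst e'
      rw [this, planePow_diag ht]
      ring

end Cfsg.Agent.Classical
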