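/-
Gram matrices in coordinates adapted to a bijection of index sets, and uniqueness of tensor factorisations.
-/
import Cfsg.Agent.Lib.Classical.FormClassify
import Cfsg.Agent.Lib.Classical.MatCoord
import Cfsg.Agent.Lib.Classical.TensorPower

set_option autoImplicit false
set_option linter.style.haveILetI false

namespace Cfsg.Agent.Classical

open Matrix Cfsg.Geo
open scoped Kronecker

variable {ι : Type} [Fintype ι] [DecidableEq ι] {F : Type*} [Field F]
variable {κ : Type} [Fintype κ] [DecidableEq κ]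

/-- The Gram matrix of a form in the coordinates given by `e` and `P`. -/
def gramCoord (σ : F ≃+* F) (f : (ι → F) → (ι → F) → F) (e : ι ≃ κ) (P : GL ι F) : Matrix κ κ F :=
  ((P : Matrix ι ι F)ᵀ * gramMatrix f * (P : Matrix ι ι F).map σ).submatrix e.symm e.symm

/-- The isomorphism to coordinate vectors. -/
def vecCoord (e : ι ≃ κ) (P : GL ι F) (v : ι → F) : κ → F := (((P⁻¹ : GL ι F) : Matrix ι ι F) *ᵥ v) ∘ e.symm

theorem vecCoord_mulVec (e : ι ≃ κ) (P : GL ι F) (M : Matrix ι ι F) (v : ι → F) :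
    vecCoord e P (M *ᵥ v) = matCoord e P M *ᵥ vecCoord e P v := by
  simp only [vecCoord, matCoord, Matrix.submatrix_mulVec_equiv, Function.comp_assoc, Equiv.symm_symm,
    Equiv.symm_comp_self, Function.comp_id, Matrix.mulVec_mulVec, Matrix.mul_assoc, Units.mul_inv, Matrix.mul_one]

theorem vecCoord_injective (e : ι ≃ κ) (P : GL ι F) : Function.Injective (vecCoord e P) := fun a b h =>
  gl_mulVec_injective P⁻¹ (funext fun i => by simpa [vecCoord] using congrFun h (e i))

theorem vecCoord_surjective (e : ι ≃ κ) (P : GL ι F) : Function.Surjective (vecCoord e P) := fun x =>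
  ⟨(P : Matrix ι ι F) *ᵥ (x ∘ e), by rw [vecCoord, gl_inv_mulVec_cancel]; ext k; simp⟩

variable {σ : F ≃+* F} {ε : F} {f : (ι → F) → (ι → F) → F} (e : ι ≃ κ) (P : GL ι F)

theorem IsSemiForm.coord_apply (h : IsSemiForm σ f) (x y : κ → F) :
    f ((P : Matrix ι ι F) *ᵥ (x ∘ e)) ((P : Matrix ι ι F) *ᵥ (y ∘ e)) = x ⬝ᵥ (gramCoord σ f e P *ᵥ (σ ∘ y)) := by
  change (fun a b => f ((P : Matrix ι ι F) *ᵥ a) ((P : Matrix ι ι F) *ᵥ b)) (x ∘ e) (y ∘ e) = _
  refine (semiForm_apply σ (h.comp_mulVec _) _ _).trans ?_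
  rw [gram_comp σ h, gramCoord, Matrix.submatrix_mulVec_equiv, Equiv.symm_symm]
  simp only [dotProduct, Function.comp_apply, Function.comp_assoc]
  rw [← Equiv.sum_comp e (fun k => x k * _)]
  simp only [Equiv.symm_apply_apply]

theorem IsSemiForm.apply_coord (h : IsSemiForm σ f) (u v : ι → F) :
    f u v = vecCoord e P u ⬝ᵥ (gramCoord σ f e P *ᵥ (σ ∘ vecCoord e P v)) := by
  rw [← h.coord_apply e P]
  simp [vecCoord, Function.comp_assoc, gl_mulVec_inv_cancel]

theorem formOfGram_eq (G : Matrix κ κ F) (x y : κ → F) :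
    formOfGram σ G x y = x ⬝ᵥ (G *ᵥ (σ ∘ y)) := by
  simp only [formOfGram, dotProduct, Matrix.mulVec, Finset.mul_sum, Function.comp_apply, mul_assoc]

theorem tensor_structure {d k : ℕ} (h : IsSemiForm σ f) (e : ι ≃ Fin d × Fin k)
    {G₁ : Matrix (Fin d) (Fin d) F} {G₂ : Matrix (Fin k) (Fin k) F} {c : F} (hc : c ≠ 0)
    (hG : gramCoord σ f e P = c • (G₁ ⊗ₖ G₂)) :
    IsTensorFormStructure σ f (gramForm σ G₁) (gramForm σ G₂) e P := ⟨c, hc, fun x y => by
  rw [h.coord_apply e P, hG, gramMatrix_gramForm, gramMatrix_gramForm, formOfGram_eq, Matrix.smul_mulVec, dotProduct_smul,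
    smul_eq_mul]⟩

theorem tensor_power_structure {m t : ℕ} (h : IsSemiForm σ f) (e : ι ≃ (Fin t → Fin m))
    {G₀ : Matrix (Fin m) (Fin m) F} {c : F} (hc : c ≠ 0) (hG : gramCoord σ f e P = c • pureM fun _ => G₀) :
    IsTensorPowerFormStructure σ f (gramForm σ G₀) e P := ⟨c, hc, fun x y => by
  rw [h.coord_apply e P, hG, Matrix.smul_mulVec, dotProduct_smul, smul_eq_mul]
  congr 1
  simp only [gramMatrix_gramForm, pureM, dotProduct, Matrix.mulVec, Finset.mul_sum, Matrix.of_apply, Function.comp_apply,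
    mul_assoc]⟩

theorem gramCoord_mul_basis (T : GL κ F) (T' : GL ι F) (hT : (T' : Matrix ι ι F) = (T : Matrix κ κ F).submatrix e e) :
    gramCoord σ f e (P * T') = (T : Matrix κ κ F)ᵀ * gramCoord σ f e P * (T : Matrix κ κ F).map σ := by
  simp only [gramCoord, Units.val_mul, Matrix.transpose_mul, Matrix.map_mul, hT]
  rw [show (((T : Matrix κ κ F).submatrix e e)ᵀ * (P : Matrix ι ι F)ᵀ * gramMatrix f *
      ((P : Matrix ι ι F).map σ * ((T : Matrix κ κ F).submatrix e e).map σ)) =
      ((T : Matrix κ κ F).submatrix e e)ᵀ * ((P : Matrix ι ι F)ᵀ * gramMatrix f * (P : Matrix ι ι F).map σ) *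
        ((T : Matrix κ κ F).submatrix e e).map σ by simp only [Matrix.mul_assoc],
    ← Matrix.submatrix_mul_equiv _ _ _ e.symm _, ← Matrix.submatrix_mul_equiv _ _ _ e.symm _]
  simp only [Matrix.transpose_submatrix, Matrix.submatrix_map, Matrix.submatrix_submatrix, Equiv.self_comp_symm,
    Matrix.submatrix_id_id]

theorem matCoord_trans {κ' : Type} [Fintype κ'] [DecidableEq κ'] (e' : κ ≃ κ') (M : Matrix ι ι F) :
    matCoord (e.trans e') P M = (matCoord e P M).submatrix e'.symm e'.symm := rfl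

theorem gramCoord_trans {κ' : Type} [Fintype κ'] [DecidableEq κ'] (e' : κ ≃ κ') :
    gramCoord σ f (e.trans e') P = (gramCoord σ f e P).submatrix e'.symm e'.symm := rfl

namespace IsReflexForm

variable (hf : IsReflexForm σ ε f)

include hf

theorem gram_adj (M : Matrix ι ι F) : Mᵀ * gramMatrix f = gramMatrix f * (formAdj σ f M).map σ := by
  rw [show (formAdj σ f M).map σ = (gramMatrix f)⁻¹ * Mᵀ * gramMatrix f from hf.map_map _, ← Matrix.mul_assoc,
    ← Matrix.mul_assoc, Matrix.mul_nonsing_inv _ ((Matrix.isUnit_iff_isUnit_det _).mp hf.gram_isUnit), Matrix.one_mul]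

theorem gramCoord_isUnit : IsUnit (gramCoord σ f e P) := by
  rw [gramCoord, Matrix.isUnit_submatrix_equiv]
  refine IsUnit.mul (IsUnit.mul ?_ hf.gram_isUnit) (P.isUnit.map (RingHom.mapMatrix (σ : F →+* F)))
  exact (Matrix.isUnit_iff_isUnit_det _).mpr (by
    rw [Matrix.det_transpose]; exact (Matrix.isUnit_iff_isUnit_det _).mp P.isUnit)

theorem gramCoord_adj (M : Matrix ι ι F) :
    (matCoord e P M)ᵀ * gramCoord σ f e P = gramCoord σ f e P * (matCoord e P (formAdj σ f M)).map σ := by
  have h1 : ((P⁻¹ : GL ι F) : Matrix ι ι F)ᵀ * (P : Matrix ι ι F)ᵀ = 1 := by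
    rw [← Matrix.transpose_mul, Units.mul_inv, Matrix.transpose_one]
  have h2 : (P : Matrix ι ι F).map σ * ((P⁻¹ : GL ι F) : Matrix ι ι F).map σ = 1 := by
    rw [← Matrix.map_mul, Units.mul_inv, Matrix.map_one σ (map_zero σ) (map_one σ)]
  simp only [gramCoord, matCoord, Matrix.transpose_submatrix, ← Matrix.submatrix_map, Matrix.submatrix_mul_equiv,
    Matrix.transpose_mul, Matrix.map_mul]
  congr 1
  calc (P : Matrix ι ι F)ᵀ * (Mᵀ * ((P⁻¹ : GL ι F) : Matrix ι ι F)ᵀ) * ((P : Matrix ι ι F)ᵀ * gramMatrix f * (P : Matrix ι ι F).map σ)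
      = (P : Matrix ι ι F)ᵀ * (Mᵀ * (((P⁻¹ : GL ι F) : Matrix ι ι F)ᵀ * (P : Matrix ι ι F)ᵀ) * gramMatrix f) * (P : Matrix ι ι F).map σ := by
        simp only [Matrix.mul_assoc]
    _ = (P : Matrix ι ι F)ᵀ * (gramMatrix f * ((P : Matrix ι ι F).map σ * ((P⁻¹ : GL ι F) : Matrix ι ι F).map σ) * (formAdj σ f M).map σ) * (P : Matrix ι ι F).map σ := by
        rw [h1, h2, Matrix.mul_one, Matrix.mul_one, hf.gram_adj]
    _ = _ := by simp only [Matrix.mul_assoc]

theorem gramCoord_isometry {g : GL ι F}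
    (hg : ∀ u v, f ((g : Matrix ι ι F) *ᵥ u) ((g : Matrix ι ι F) *ᵥ v) = f u v) :
    (matCoord e P (g : Matrix ι ι F))ᵀ * gramCoord σ f e P * (matCoord e P (g : Matrix ι ι F)).map σ =
      gramCoord σ f e P := by
  rw [hf.gramCoord_adj, hf.isometry_inv hg, Matrix.mul_assoc, ← Matrix.map_mul, ← matCoord_mul, Units.inv_mul,
    matCoord_one, Matrix.map_one σ (map_zero σ) (map_one σ), Matrix.mul_one]

theorem gramCoord_swap (i j : κ) : gramCoord σ f e P j i = ε * σ (gramCoord σ f e P i j) := by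
  have h : ∀ a b : κ, gramCoord σ f e P a b =
      f ((P : Matrix ι ι F) *ᵥ Pi.single (e.symm a) 1) ((P : Matrix ι ι F) *ᵥ Pi.single (e.symm b) 1) := fun a b => by
    rw [gramCoord, ← gram_comp σ hf.semi]; rfl
  rw [h, h, ← hf.swap]

end IsReflexForm

/-- Two factorisations of a Kronecker product differ by a scalar. -/
theorem kronecker_unique {α β : Type} [Fintype α] [Fintype β] {A C : Matrix α α F} {B D : Matrix β β F}
    (hA : A ≠ 0) (hB : B ≠ 0) (h : A ⊗ₖ B = C ⊗ₖ D) : ∃ l : F, l ≠ 0 ∧ C = l • A ∧ B = l • D := by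
  obtain ⟨a, a', ha⟩ : ∃ a a', A a a' ≠ 0 := by
    by_contra hcon; push Not at hcon; exact hA (Matrix.ext hcon)
  obtain ⟨b, b', hb⟩ : ∃ b b', B b b' ≠ 0 := by
    by_contra hcon; push Not at hcon; exact hB (Matrix.ext hcon)
  have key : ∀ x x' y y', A x x' * B y y' = C x x' * D y y' := fun x x' y y' =>
    congrFun (congrFun h (x, y)) (x', y')
  have hD : D b b' ≠ 0 := fun h0 => by
    have := key a a' b b'
    rw [h0, mul_zero] at this
    exact mul_ne_zero ha hb this
  refine ⟨B b b' / D b b', div_ne_zero hb hD, ?_, ?_⟩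
  · ext x x'
    rw [Matrix.smul_apply, smul_eq_mul, div_mul_eq_mul_div, eq_div_iff hD]
    linear_combination -(key x x' b b')
  · ext y y'
    rw [Matrix.smul_apply, smul_eq_mul, div_mul_eq_mul_div, eq_div_iff hD]
    refine mul_left_cancel₀ ha ?_
    linear_combination (D b b') * key a a' y y' - (D y y') * key a a' b b'

/-- Two factorisations of a pure tensor have proportional factors. -/
theorem pureM_unique {m t : ℕ} {A B : Fin t → Matrix (Fin m) (Fin m) F} (hA : ∀ i, A i ≠ 0)
    (h : pureM A = pureM B) (i : Fin t) : ∃ l : F, l ≠ 0 ∧ B i = l • A i := by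
  classical
  have hx : ∀ j, ∃ x y, A j x y ≠ 0 := fun j => by
    by_contra hcon; push Not at hcon; exact hA j (Matrix.ext hcon)
  choose x y hxy using hx
  set a := ∏ j ∈ Finset.univ.erase i, A j (x j) (y j) with ha
  set b := ∏ j ∈ Finset.univ.erase i, B j (x j) (y j) with hb
  have ha0 : a ≠ 0 := Finset.prod_ne_zero_iff.mpr fun j _ => hxy j
  have key : ∀ p q, A i p q * a = B i p q * b := by
    intro p q
    have e := congrFun (congrFun h (Function.update x i p)) (Function.update y i q)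
    simp only [pureM, Matrix.of_apply] at e
    rw [← Finset.mul_prod_erase Finset.univ _ (Finset.mem_univ i), ← Finset.mul_prod_erase Finset.univ _ (Finset.mem_univ i),
      Function.update_self, Function.update_self] at e
    convert e using 2 <;>
      refine Finset.prod_congr rfl fun j hj => ?_ <;>
        simp [Function.update_of_ne (Finset.ne_of_mem_erase hj)]
  have hb0 : b ≠ 0 := fun h0 => by
    have := key (x i) (y i)
    rw [h0, mul_zero] at this
    exact mul_ne_zero (hxy i) ha0 this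
  refine ⟨a / b, div_ne_zero ha0 hb0, ?_⟩
  ext p q
  rw [Matrix.smul_apply, smul_eq_mul, div_mul_eq_mul_div, eq_div_iff hb0, mul_comm a, key]

theorem pureM_map {m t : ℕ} (σ : F ≃+* F) (A : Fin t → Matrix (Fin m) (Fin m) F) :
    (pureM A).map σ = pureM fun i => (A i).map σ := by
  ext x y
  simp [pureM]

theorem facM_injective {m t : ℕ} (i : Fin t) : Function.Injective (facM (F := F) (m := m) i) := fun X Y h => by
  ext a b
  have e := congrFun (congrFun h (fun _ => a)) (Function.update (fun _ => a) i b)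
  rw [facM_apply, facM_apply] at e
  simp only [Function.update_self] at e
  have hc : ∀ j, j ≠ i → a = Function.update (fun _ => a) i b j := fun j hj => by rw [Function.update_of_ne hj]
  rwa [if_pos hc, if_pos hc] at e

/-- Every element of the wreath group is a factor permutation times a pure tensor. -/
theorem wreath_normal_form {m t : ℕ} {g : GL (Fin t → Fin m) F} (hg : g ∈ tensorWreathStandard m t F) :
    ∃ (π : Equiv.Perm (Fin t)) (A : Fin t → GL (Fin m) F),
      (g : Matrix (Fin t → Fin m) (Fin t → Fin m) F) = factorPermM m F π * pureM fun i => (A i : Matrix (Fin m) (Fin m) F) := by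
  induction hg using Subgroup.closure_induction with
  | one => exact ⟨1, 1, by rw [factorPermM_one]; simp [pureM_one]⟩
  | mem g hg =>
    rcases hg with ⟨gs, hgs⟩ | ⟨π, hπ⟩
    · refine ⟨1, gs, ?_⟩
      rw [factorPermM_one, Matrix.one_mul]
      exact Matrix.ext hgs
    · refine ⟨π, 1, ?_⟩
      simp only [Pi.one_apply, Units.val_one, pureM_one, Matrix.mul_one]
      exact Matrix.ext hπ
  | mul a b _ _ ha hb =>
    obtain ⟨π, A, hA⟩ := ha
    obtain ⟨ρ, B, hB⟩ := hb
    refine ⟨π * ρ, fun i => A (ρ i) * B i, ?_⟩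
    have h := factorPermM_pureM (F := F) ρ fun i => (A (ρ i) : Matrix (Fin m) (Fin m) F)
    simp only [Equiv.apply_symm_apply] at h
    rw [Units.val_mul, hA, hB, ← factorPermM_mul, Matrix.mul_assoc, ← Matrix.mul_assoc (pureM _), ← h]
    simp only [Matrix.mul_assoc, Units.val_mul, pureM_mul]
  | inv a _ ha =>
    obtain ⟨π, A, hA⟩ := ha
    refine ⟨π⁻¹, fun i => (A (π.symm i))⁻¹, Units.inv_eq_of_mul_eq_one_right ?_⟩
    have h := factorPermM_pureM (F := F) π⁻¹ fun i => (A (π.symm i) : Matrix (Fin m) (Fin m) F)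
    simp only [Equiv.Perm.inv_def, Equiv.symm_symm, Equiv.symm_apply_apply] at h
    rw [hA, Matrix.mul_assoc, ← Matrix.mul_assoc (pureM _), Equiv.Perm.inv_def, ← h, ← Matrix.mul_assoc,
      ← Matrix.mul_assoc, ← Equiv.Perm.inv_def, factorPermM_mul, mul_inv_cancel, factorPermM_one, Matrix.one_mul, pureM_mul]
    simp only [Units.mul_inv]
    exact pureM_one

theorem factorPermM_transpose {m t : ℕ} (π : Equiv.Perm (Fin t)) :
    (factorPermM m F π)ᵀ = factorPermM m F π⁻¹ := by
  ext x y
  simp only [Matrix.transpose_apply, factorPermM, Matrix.of_apply]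
  refine if_congr ⟨fun e => ?_, fun e => ?_⟩ rfl rfl <;> (rw [e]; ext; simp)

theorem factorPermM_map {m t : ℕ} (σ : F ≃+* F) (π : Equiv.Perm (Fin t)) :
    (factorPermM m F π).map σ = factorPermM m F π := by
  ext x y
  simp only [Matrix.map_apply, factorPermM, Matrix.of_apply, apply_ite σ, map_one, map_zero]

/-- In the wreath group of a tensor power form the factors are similitudes. -/
theorem wreath_factor_similitude {m t : ℕ} {G₀ : Matrix (Fin m) (Fin m) F} {π : Equiv.Perm (Fin t)}
    {A : Fin t → GL (Fin m) F} {c : F} (hc : c ≠ 0) (hG : IsUnit G₀)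
    (h : (factorPermM m F π * pureM fun i => (A i : Matrix (Fin m) (Fin m) F))ᵀ * (c • pureM fun _ => G₀) *
      (factorPermM m F π * pureM fun i => (A i : Matrix (Fin m) (Fin m) F)).map σ = c • pureM fun _ => G₀) (i : Fin t) :
    ∃ l : F, l ≠ 0 ∧ (A i : Matrix (Fin m) (Fin m) F)ᵀ * G₀ * (A i : Matrix (Fin m) (Fin m) F).map σ = l • G₀ := by
  classical
  have e1 : (pureM fun _ : Fin t => G₀) * factorPermM m F π = factorPermM m F π * pureM fun _ => G₀ :=
    (factorPermM_pureM π fun _ => G₀).symm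
  have e2 : (factorPermM m F π)ᵀ * (pureM fun _ : Fin t => G₀) * factorPermM m F π = pureM fun _ : Fin t => G₀ := by
    rw [Matrix.mul_assoc, e1, ← Matrix.mul_assoc, factorPermM_transpose, factorPermM_mul, inv_mul_cancel,
      factorPermM_one, Matrix.one_mul]
  have key : (pureM fun j => (A j : Matrix (Fin m) (Fin m) F)ᵀ * G₀ * (A j : Matrix (Fin m) (Fin m) F).map σ) =
      pureM fun _ : Fin t => G₀ := by
    refine smul_right_injective _ hc ?_
    change c • (pureM fun j => (A j : Matrix (Fin m) (Fin m) F)ᵀ * G₀ * (A j : Matrix (Fin m) (Fin m) F).map σ) = c • _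
    conv_rhs => rw [← h]
    rw [Matrix.transpose_mul, Matrix.map_mul, factorPermM_map, pureM_map, pureM_transpose, Matrix.mul_smul, Matrix.smul_mul]
    congr 1
    calc (pureM fun j => (A j : Matrix (Fin m) (Fin m) F)ᵀ * G₀ * (A j : Matrix (Fin m) (Fin m) F).map σ) =
        (pureM fun j => (A j : Matrix (Fin m) (Fin m) F)ᵀ) *
          ((factorPermM m F π)ᵀ * (pureM fun _ : Fin t => G₀) * factorPermM m F π) *
          pureM fun j => (A j : Matrix (Fin m) (Fin m) F).map σ := by rw [e2, pureM_mul, pureM_mul]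
      _ = _ := by simp only [Matrix.mul_assoc]
  by_cases hm : m = 0
  · subst hm
    exact ⟨1, one_ne_zero, Matrix.ext fun a => a.elim0⟩
  haveI : Nonempty (Fin m) := ⟨⟨0, Nat.pos_of_ne_zero hm⟩⟩
  obtain ⟨l, hl, hli⟩ := pureM_unique (fun _ => hG.ne_zero) key.symm i
  exact ⟨l, hl, hli⟩

end Cfsg.Agent.Classical
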