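/-
A normal subgroup whose commutant has scalar centre: the space is a tensor product on which the commutant is a
full matrix algebra of one factor.
-/
import Cfsg.Agent.Lib.Classical.Irreducible
import Cfsg.Agent.Lib.Classical.NormalIn
import Cfsg.Agent.Lib.Classical.MatCoord

set_option autoImplicit false
set_option linter.style.haveILetI false

namespace Cfsg.Agent.Classical

open Matrix Cfsg.Geo
open scoped Kronecker

variable {ι : Type} [Fintype ι] [DecidableEq ι] {F : Type*} [Field F]
variable {δ : Type} [Fintype δ] [DecidableEq δ]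

/-- Schur's lemma for a set of matrices. -/
theorem isUnit_of_intertwines {S : Set (Matrix δ δ F)} (hS : ActsIrreducibly S) {G : Matrix δ δ F} (hG : G ≠ 0)
    (h : ∀ s ∈ S, ∃ s', s' * G = G * s) : IsUnit G := by
  rw [← Matrix.mulVec_injective_iff_isUnit]
  have hker : LinearMap.ker (Matrix.toLin' G) = ⊥ := by
    refine (hS (LinearMap.ker (Matrix.toLin' G)) fun s hs => map_toLin'_le.mpr fun w hw => ?_).resolve_right fun e =>
      hG (Matrix.toLin'.injective (by rw [map_zero, ← LinearMap.ker_eq_top]; exact e))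
    obtain ⟨s', hs'⟩ := h s hs
    rw [LinearMap.mem_ker, Matrix.toLin'_apply] at hw ⊢
    rw [Matrix.mulVec_mulVec, ← hs', ← Matrix.mulVec_mulVec, hw, Matrix.mulVec_zero]
  intro u v huv
  exact LinearMap.ker_eq_bot.mp hker (by simpa using huv)

/-- The matrices commuting with an irreducible set over a finite field commute. -/
theorem set_commutant_comm [Finite F] [Nonempty δ] {S : Set (Matrix δ δ F)} (hS : ActsIrreducibly S) :
    ∀ x ∈ Subalgebra.centralizer F S, ∀ y ∈ Subalgebra.centralizer F S, x * y = y * x := by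
  set C := Subalgebra.centralizer F S with hC
  haveI : Finite C := Finite.of_injective _ Subtype.val_injective
  haveI : NoZeroDivisors C := ⟨fun {a b} hab => by
    by_contra hne
    rw [not_or] at hne
    obtain ⟨u, hu⟩ := isUnit_of_intertwines hS (fun e => hne.1 (Subtype.ext e) : (a : Matrix δ δ F) ≠ 0) fun s hs =>
      ⟨s, (Subalgebra.mem_centralizer_iff F).mp a.2 s hs⟩
    refine hne.2 (Subtype.ext ?_)
    have h : (a : Matrix δ δ F) * (b : Matrix δ δ F) = 0 := congrArg Subtype.val hab
    rw [← hu, Units.mul_right_eq_zero] at h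
    exact h⟩
  haveI : IsDomain C := NoZeroDivisors.to_isDomain _
  have hc := (Finite.isDomain_to_isField C).mul_comm
  exact fun x hx y hy => congrArg Subtype.val (hc ⟨x, hx⟩ ⟨y, hy⟩)

/-- The blocks of a matrix on a product index, taken in the second coordinate. -/
def blockAt {t : Type} (M : Matrix (δ × t) (δ × t) F) (i j : t) : Matrix δ δ F :=
  Matrix.of fun a b => M (a, i) (b, j)

omit [Fintype δ] [DecidableEq δ] in
theorem blockAt_ext {t : Type} {M N : Matrix (δ × t) (δ × t) F} (h : ∀ i j, blockAt M i j = blockAt N i j) :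
    M = N := by
  ext ⟨a, i⟩ ⟨b, j⟩
  exact congrFun (congrFun (h i j) a) b

theorem blockAt_diag_mul {t : Type} [Fintype t] [DecidableEq t] (ρ : t → Matrix δ δ F) (M : Matrix (δ × t) (δ × t) F)
    (i j : t) : blockAt (Matrix.blockDiagonal ρ * M) i j = ρ i * blockAt M i j := by
  ext a b
  simp [blockAt, Matrix.mul_apply, Fintype.sum_prod_type, Matrix.blockDiagonal_apply, ite_mul]

theorem blockAt_mul_diag {t : Type} [Fintype t] [DecidableEq t] (ρ : t → Matrix δ δ F) (M : Matrix (δ × t) (δ × t) F)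
    (i j : t) : blockAt (M * Matrix.blockDiagonal ρ) i j = blockAt M i j * ρ j := by
  ext a b
  simp [blockAt, Matrix.mul_apply, Fintype.sum_prod_type, Matrix.blockDiagonal_apply, mul_ite]

/-- If the commutant of a normal subgroup of an irreducible group has scalar centre, it is `1 ⊗ Mat`. -/
theorem tensor_split [Finite F] [Nonempty ι] {H N : Subgroup (GL ι F)} (hH : ActsIrreducibly (matrixSet H))
    (hn : NormalIn H N)
    (hZ : ∀ z ∈ commutant N, (∀ c ∈ commutant N, z * c = c * z) → ∃ a : F, z = a • (1 : Matrix ι ι F)) :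
    ∃ (d k : ℕ) (e : ι ≃ Fin d × Fin k) (P : GL ι F), 0 < d ∧ 0 < k ∧
      (∀ M, M ∈ commutant N ↔ ∃ Y, matCoord e P M = (1 : Matrix (Fin d) (Fin d) F) ⊗ₖ Y) ∧
      (k = 1 → ActsAbsolutelyIrreducibly (matrixSet N)) := by
  classical
  obtain ⟨W, t, h, hW0, hWi, hWm, hhH, hind, htop, hcard⟩ := clifford_decomposition hH hn
  set d := Module.finrank F W with hd
  have hd0 : 0 < d := Nat.pos_of_ne_zero fun e => hW0 (Submodule.finrank_eq_zero.mp e)
  have ht0 : 0 < t := Nat.pos_of_ne_zero fun e => by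
    rw [e, zero_mul] at hcard
    exact Fintype.card_pos.ne' hcard
  haveI : Nonempty (Fin d) := ⟨⟨0, hd0⟩⟩
  let e : ι ≃ Fin d × Fin t := Fintype.equivOfCardEq (by simp [hcard, mul_comm])
  let b := Module.finBasis F W
  let Wm : Matrix ι (Fin d) F := Matrix.of fun r a => (b a : ι → F) r
  have hWv : ∀ c : Fin d → F, Wm *ᵥ c = ((∑ a, c a • b a : W) : ι → F) := fun c => by
    ext r
    simp [Wm, Matrix.mulVec, dotProduct, mul_comm]
  have hWsurj : ∀ w ∈ W, ∃ c, Wm *ᵥ c = w := fun w hw => ⟨fun a => b.repr ⟨w, hw⟩ a, by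
    rw [hWv, b.sum_repr]⟩
  have hWinj : Function.Injective fun c => Wm *ᵥ c := fun c c' hcc => by
    have hcc' : (∑ a, c a • b a : W) = ∑ a, c' a • b a := Subtype.ext (by rw [← hWv, ← hWv]; exact hcc)
    funext a
    calc c a = b.repr (∑ a, c a • b a) a := (congrFun (b.repr_sum_self c) a).symm
      _ = b.repr (∑ a, c' a • b a) a := by rw [hcc']
      _ = c' a := congrFun (b.repr_sum_self c') a
  have hWmem : ∀ c, Wm *ᵥ c ∈ W := fun c => by rw [hWv]; exact SetLike.coe_mem _
  -- the action on W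
  have hex : ∀ y : GL ι F, ∃ s : Matrix (Fin d) (Fin d) F, y ∈ N → (y : Matrix ι ι F) * Wm = Wm * s := by
    intro y
    by_cases hy : y ∈ N
    · choose c hc using fun a : Fin d => hWsurj _ (hWi y hy _ (b a).2)
      refine ⟨Matrix.of fun r a => c a r, fun _ => ?_⟩
      ext r a
      exact (congrFun (hc a) r).symm
    · exact ⟨0, fun h' => absurd h' hy⟩
  choose σ hσ using hex
  let S : Set (Matrix (Fin d) (Fin d) F) := σ '' (N : Set (GL ι F))
  have hS : ActsIrreducibly S := by
    intro U hU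
    let U' : Submodule F (ι → F) := U.map (Matrix.toLin' Wm)
    have hU' : U' ≤ W := by
      rintro _ ⟨c, -, rfl⟩
      rw [Matrix.toLin'_apply]; exact hWmem c
    have hinjmap : Function.Injective (Submodule.map (Matrix.toLin' Wm)) :=
      Submodule.map_injective_of_injective (fun a c hac => hWinj (by simpa using hac))
    have hUi : ∀ y ∈ N, ∀ w ∈ U', (y : Matrix ι ι F) *ᵥ w ∈ U' := by
      rintro y hy _ ⟨c, hc, rfl⟩
      refine ⟨σ y *ᵥ c, map_toLin'_le.mp (hU _ ⟨y, hy, rfl⟩) c hc, ?_⟩
      simp only [Matrix.toLin'_apply, Matrix.mulVec_mulVec, hσ y hy]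
    rcases hWm U' hU' hUi with h' | h'
    · exact Or.inl (hinjmap (by rw [Submodule.map_bot]; exact h'))
    · refine Or.inr (hinjmap ?_)
      change U' = _
      rw [h', Submodule.map_top]
      refine le_antisymm (fun w hw => ?_) (by rintro _ ⟨c, rfl⟩; rw [Matrix.toLin'_apply]; exact hWmem c)
      obtain ⟨c, hc⟩ := hWsurj w hw
      exact ⟨c, by rw [Matrix.toLin'_apply]; exact hc⟩
  -- first coordinates
  let P0m : Matrix ι ι F := Matrix.of fun r j => ((h (e j).2 : Matrix ι ι F) * Wm) r (e j).1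
  have hP0v : ∀ j, P0m *ᵥ Pi.single j 1 = (h (e j).2 : Matrix ι ι F) *ᵥ (b (e j).1 : ι → F) := fun j => by
    ext r
    rw [Matrix.mulVec_single_one]
    simp [P0m, Wm, Matrix.mulVec, dotProduct, Matrix.mul_apply]
  have hP0 : IsUnit P0m := by
    rw [← Matrix.mulVec_surjective_iff_isUnit]
    have hr : LinearMap.range (Matrix.toLin' P0m) = ⊤ := by
      rw [eq_top_iff, ← htop]
      refine iSup_le fun i => ?_
      rintro _ ⟨w, hw, rfl⟩
      obtain ⟨c, rfl⟩ := hWsurj w hw
      rw [hWv, Submodule.coe_sum, map_sum]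
      refine Submodule.sum_mem _ fun a _ => ?_
      rw [Submodule.coe_smul, map_smul]
      refine Submodule.smul_mem _ _ ⟨Pi.single (e.symm (a, i)) 1, ?_⟩
      rw [Matrix.toLin'_apply, hP0v, Equiv.apply_symm_apply, Matrix.toLin'_apply]
    intro v
    obtain ⟨w, hw⟩ := LinearMap.range_eq_top.mp hr v
    exact ⟨w, by simpa using hw⟩
  obtain ⟨P₀, hP₀⟩ := hP0
  let ρ : Fin t → GL ι F → Matrix (Fin d) (Fin d) F := fun i x => σ ((h i)⁻¹ * x * h i)
  have hρN : ∀ i, ∀ x ∈ N, (h i)⁻¹ * x * h i ∈ N := fun i x hx => by simpa using hn _ (inv_mem (hhH i)) x hx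
  have hcoord : ∀ x ∈ N, matCoord e P₀ (x : Matrix ι ι F) = Matrix.blockDiagonal (fun i => ρ i x) := by
    intro x hx
    have key : (x : Matrix ι ι F) * (P₀ : Matrix ι ι F) =
        (P₀ : Matrix ι ι F) * (Matrix.blockDiagonal fun i => ρ i x).submatrix e e := by
      rw [hP₀]
      ext r j
      have h1 : (x : Matrix ι ι F) * ((h (e j).2 : Matrix ι ι F) * Wm) = (h (e j).2 : Matrix ι ι F) * Wm * ρ (e j).2 x := by
        rw [Matrix.mul_assoc (h (e j).2 : Matrix ι ι F) Wm, ← hσ _ (hρN _ x hx), Units.val_mul, Units.val_mul]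
        simp only [← Matrix.mul_assoc, Units.mul_inv, Matrix.one_mul]
      have h2 := congrFun (congrFun h1 r) (e j).1
      have lhs : ((x : Matrix ι ι F) * P0m) r j = ((x : Matrix ι ι F) * ((h (e j).2 : Matrix ι ι F) * Wm)) r (e j).1 := by
        simp [P0m, Matrix.mul_apply]
      rw [lhs, h2, Matrix.mul_apply, Matrix.mul_apply, ← Equiv.sum_comp e.symm, Fintype.sum_prod_type]
      refine Finset.sum_congr rfl fun a _ => ?_
      simp [P0m, Matrix.blockDiagonal_apply]
    rw [matCoord, Matrix.mul_assoc, key, ← Matrix.mul_assoc, Units.inv_mul, Matrix.one_mul]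
    ext i j
    simp
  have hcomm0 : ∀ M, M ∈ commutant N ↔
      ∀ x ∈ N, ∀ i j, ρ i x * blockAt (matCoord e P₀ M) i j = blockAt (matCoord e P₀ M) i j * ρ j x := by
    intro M
    rw [mem_commutant_iff]
    refine forall₂_congr fun x hx => ⟨fun hM i j => ?_, fun hM => matCoord_injective e P₀ (blockAt_ext fun i j => ?_)⟩
    · have := congrArg (fun Z => blockAt (matCoord e P₀ Z) i j) hM
      simpa only [matCoord_mul, hcoord x hx, blockAt_diag_mul, blockAt_mul_diag] using this
    · rw [matCoord_mul, matCoord_mul, hcoord x hx, blockAt_diag_mul, blockAt_mul_diag, hM]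
  let i₀ : Fin t := ⟨0, ht0⟩
  let Rel : Fin t → Prop := fun i => ∃ G : Matrix (Fin d) (Fin d) F, G ≠ 0 ∧ ∀ x ∈ N, ρ i x * G = G * ρ i₀ x
  have hρall : ∀ i, ∀ y ∈ N, ∃ x ∈ N, ρ i x = σ y := fun i y hy =>
    ⟨h i * y * (h i)⁻¹, hn _ (hhH i) y hy, by simp [ρ, mul_assoc]⟩
  have hunit : ∀ i j (G : Matrix (Fin d) (Fin d) F), G ≠ 0 → (∀ x ∈ N, ρ i x * G = G * ρ j x) → IsUnit G := by
    intro i j G hG hGx
    refine isUnit_of_intertwines hS hG ?_
    rintro _ ⟨y, hy, rfl⟩
    obtain ⟨x, hx, e'⟩ := hρall j y hy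
    exact ⟨ρ i x, by rw [hGx x hx, e']⟩
  have hblk : ∀ M ∈ commutant N, ∀ i j, blockAt (matCoord e P₀ M) i j ≠ 0 → (Rel i ↔ Rel j) := by
    intro M hM i j hne
    set B := blockAt (matCoord e P₀ M) i j with hB
    have hBx : ∀ x ∈ N, ρ i x * B = B * ρ j x := fun x hx => (hcomm0 M).mp hM x hx i j
    obtain ⟨u, hu⟩ := hunit i j B hne hBx
    constructor
    · rintro ⟨G, hG, hGx⟩
      refine ⟨((u⁻¹ : GL (Fin d) F) : Matrix (Fin d) (Fin d) F) * G, fun e0 => hG ?_, fun x hx => ?_⟩
      · simpa [← Matrix.mul_assoc] using congrArg ((u : Matrix (Fin d) (Fin d) F) * ·) e0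
      · have e1 : ρ j x * ((u⁻¹ : GL (Fin d) F) : Matrix (Fin d) (Fin d) F) =
            ((u⁻¹ : GL (Fin d) F) : Matrix (Fin d) (Fin d) F) * ρ i x := by
          have e2 := congrArg (fun Z => ((u⁻¹ : GL (Fin d) F) : Matrix (Fin d) (Fin d) F) * Z *
            ((u⁻¹ : GL (Fin d) F) : Matrix (Fin d) (Fin d) F)) (hBx x hx)
          rw [← hu] at e2
          simp only [← Matrix.mul_assoc, Units.inv_mul, Matrix.one_mul] at e2
          rw [Matrix.mul_assoc _ (u : Matrix (Fin d) (Fin d) F), Units.mul_inv, Matrix.mul_one] at e2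
          exact e2.symm
        rw [← Matrix.mul_assoc, e1, Matrix.mul_assoc, hGx x hx, Matrix.mul_assoc]
    · rintro ⟨G, hG, hGx⟩
      refine ⟨B * G, fun e0 => hG ?_, fun x hx => ?_⟩
      · rw [← hu] at e0
        exact (Units.mul_right_eq_zero u).mp e0
      · rw [← Matrix.mul_assoc, hBx x hx, Matrix.mul_assoc, hGx x hx, Matrix.mul_assoc]
  -- all summands are isomorphic
  have hrel : ∀ i, Rel i := by
    intro i
    by_contra hi
    let E : Matrix ι ι F := matLift e P₀ (Matrix.blockDiagonal fun j => if Rel j then (1 : Matrix (Fin d) (Fin d) F) else 0)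
    have hE : E ∈ commutant N := (hcomm0 E).mpr fun x hx a c => by
      simp only [E, matCoord_matLift]
      by_cases hac : a = c
      · subst hac
        have hb : blockAt (Matrix.blockDiagonal fun j => if Rel j then (1 : Matrix (Fin d) (Fin d) F) else 0) a a =
            if Rel a then 1 else 0 := by ext u v; simp [blockAt]
        rw [hb]; split_ifs <;> simp
      · have hb : blockAt (Matrix.blockDiagonal fun j => if Rel j then (1 : Matrix (Fin d) (Fin d) F) else 0) a c = 0 := by
          ext u v; simp [blockAt, Matrix.blockDiagonal_apply, hac]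
        rw [hb]; simp
    obtain ⟨a, ha⟩ := hZ E hE fun c hc => matCoord_injective e P₀ (blockAt_ext fun u v => by
      rw [matCoord_mul, matCoord_mul, matCoord_matLift, blockAt_diag_mul, blockAt_mul_diag]
      by_cases hne : blockAt (matCoord e P₀ c) u v = 0
      · rw [hne, Matrix.mul_zero, Matrix.zero_mul]
      · have hiff := hblk c hc u v hne
        by_cases hu : Rel u
        · rw [if_pos hu, if_pos (hiff.mp hu), Matrix.one_mul, Matrix.mul_one]
        · rw [if_neg hu, if_neg (fun hv => hu (hiff.mpr hv)), Matrix.zero_mul, Matrix.mul_zero])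
    have h0 : Rel i₀ := ⟨1, one_ne_zero, fun x _ => by rw [Matrix.mul_one, Matrix.one_mul]⟩
    have hcE := congrArg (matCoord e P₀) ha
    rw [matCoord_matLift, matCoord_smul, matCoord_one] at hcE
    have ea := congrFun (congrFun hcE (⟨0, hd0⟩, i₀)) (⟨0, hd0⟩, i₀)
    have ei := congrFun (congrFun hcE (⟨0, hd0⟩, i)) (⟨0, hd0⟩, i)
    simp [h0] at ea
    simp [hi, ← ea] at ei
  choose T hT0 hTx using hrel
  have hTu : ∀ i, IsUnit (T i) := fun i => hunit i i₀ (T i) (hT0 i) (hTx i)
  let Tu : Fin t → GL (Fin d) F := fun i => (hTu i).unit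
  let TT : GL (Fin d × Fin t) F :=
    ⟨Matrix.blockDiagonal fun i => (Tu i : Matrix (Fin d) (Fin d) F),
      Matrix.blockDiagonal fun i => (((Tu i)⁻¹ : GL (Fin d) F) : Matrix (Fin d) (Fin d) F),
      by rw [← Matrix.blockDiagonal_mul]; simp only [Units.mul_inv]; exact Matrix.blockDiagonal_one,
      by rw [← Matrix.blockDiagonal_mul]; simp only [Units.inv_mul]; exact Matrix.blockDiagonal_one⟩
  let T' : GL ι F := glReindex e.symm TT
  set P := P₀ * T' with hP
  have hcoordP : ∀ x ∈ N, matCoord e P (x : Matrix ι ι F) = Matrix.blockDiagonal (fun _ => ρ i₀ x) := by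
    intro x hx
    rw [hP, matCoord_mul_basis e P₀ TT T' rfl, hcoord x hx]
    change (Matrix.blockDiagonal fun i => (((Tu i)⁻¹ : GL (Fin d) F) : Matrix (Fin d) (Fin d) F)) *
      (Matrix.blockDiagonal fun i => ρ i x) * (Matrix.blockDiagonal fun i => (Tu i : Matrix (Fin d) (Fin d) F)) = _
    rw [← Matrix.blockDiagonal_mul, ← Matrix.blockDiagonal_mul]
    congr 1
    funext i
    have := hTx i x hx
    rw [← (hTu i).unit_spec] at this
    calc (((Tu i)⁻¹ : GL (Fin d) F) : Matrix (Fin d) (Fin d) F) * ρ i x * (Tu i : Matrix (Fin d) (Fin d) F)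
        = (((Tu i)⁻¹ : GL (Fin d) F) : Matrix (Fin d) (Fin d) F) * ((Tu i : Matrix (Fin d) (Fin d) F) * ρ i₀ x) := by
          rw [Matrix.mul_assoc, this]
      _ = ρ i₀ x := by rw [← Matrix.mul_assoc, Units.inv_mul, Matrix.one_mul]
  have hcommP : ∀ M, M ∈ commutant N ↔ ∀ i j, blockAt (matCoord e P M) i j ∈ Subalgebra.centralizer F S := by
    intro M
    rw [mem_commutant_iff]
    constructor
    · intro hM i j
      rw [Subalgebra.mem_centralizer_iff]
      rintro _ ⟨y, hy, rfl⟩
      obtain ⟨x, hx, e'⟩ := hρall i₀ y hy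
      have := congrArg (fun Z => blockAt (matCoord e P Z) i j) (hM x hx)
      simp only [matCoord_mul, hcoordP x hx, blockAt_diag_mul, blockAt_mul_diag] at this
      rwa [e'] at this
    · intro hM x hx
      refine matCoord_injective e P (blockAt_ext fun i j => ?_)
      rw [matCoord_mul, matCoord_mul, hcoordP x hx, blockAt_diag_mul, blockAt_mul_diag]
      exact (Subalgebra.mem_centralizer_iff F).mp (hM i j) _ ⟨_, hρN i₀ x hx, rfl⟩
  have hD : ∀ z ∈ Subalgebra.centralizer F S, ∃ a : F, z = a • (1 : Matrix (Fin d) (Fin d) F) := by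
    intro z hz
    have hZm : matLift e P (Matrix.blockDiagonal fun _ => z) ∈ commutant N := (hcommP _).mpr fun i j => by
      rw [matCoord_matLift]
      by_cases hij : i = j
      · subst hij; convert hz using 1; ext u v; simp [blockAt]
      · convert zero_mem (Subalgebra.centralizer F S) using 1; ext u v; simp [blockAt, Matrix.blockDiagonal_apply, hij]
    obtain ⟨a, ha⟩ := hZ _ hZm fun c hc => matCoord_injective e P (blockAt_ext fun i j => by
      rw [matCoord_mul, matCoord_mul, matCoord_matLift, blockAt_diag_mul, blockAt_mul_diag]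
      exact set_commutant_comm hS z hz _ ((hcommP c).mp hc i j))
    refine ⟨a, ?_⟩
    have := congrArg (fun Z => blockAt (matCoord e P Z) i₀ i₀) ha
    simp only [matCoord_matLift, matCoord_smul, matCoord_one] at this
    ext u v
    simpa [blockAt, Matrix.one_apply] using congrFun (congrFun this u) v
  have hchar : ∀ M, M ∈ commutant N ↔ ∃ Y, matCoord e P M = (1 : Matrix (Fin d) (Fin d) F) ⊗ₖ Y := by
    intro M
    rw [hcommP]
    constructor
    · intro hM
      choose c hc using fun i j => hD _ (hM i j)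
      refine ⟨Matrix.of c, blockAt_ext fun i j => ?_⟩
      ext u v
      rw [hc i j]
      simp [blockAt, Matrix.one_apply]
    · rintro ⟨Y, hY⟩ i j
      have : blockAt (matCoord e P M) i j = Y i j • (1 : Matrix (Fin d) (Fin d) F) := by
        rw [hY]; ext u v; simp [blockAt, Matrix.one_apply]
      rw [this]
      exact Subalgebra.smul_mem _ (one_mem _) _
  refine ⟨d, t, e, P, hd0, ht0, hchar, fun ht1 => ⟨fun U hU => ?_, fun M hM => ?_⟩⟩
  · have hWt : W = ⊤ := Submodule.eq_top_of_finrank_eq (by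
      rw [Module.finrank_fintype_fun_eq_card, hcard, ht1, one_mul])
    subst hWt
    exact hWm U le_top fun x hx w hw => map_toLin'_le.mp (hU _ (coe_mem_matrixSet hx)) w hw
  · obtain ⟨Y, hY⟩ := (hchar M).mp (mem_commutant_iff.mpr fun x hx => (hM _ (coe_mem_matrixSet hx)).symm)
    refine ⟨Y i₀ i₀, matCoord_injective e P ?_⟩
    rw [hY, matCoord_smul, matCoord_one]
    ext ⟨a, i⟩ ⟨c, j⟩
    have hsub : ∀ u : Fin t, u = i₀ := fun u => Fin.ext (by
      have := u.2
      change (u : ℕ) = 0
      omega)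
    rw [hsub i, hsub j]
    simp [Matrix.one_apply]

end Cfsg.Agent.Classical
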