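/-
Forms on tensor decompositions: factorisation of the Gram matrix, quadratic forms on tensor products, and planes.
-/
import Cfsg.Agent.Lib.Classical.FormCoord
import Cfsg.Agent.Lib.Classical.Isotypic
import Cfsg.Agent.Lib.Classical.FormCommAlgebra

set_option autoImplicit false
set_option linter.style.haveILetI false

namespace Cfsg.Agent.Classical

open Matrix Cfsg.Geo
open scoped Kronecker

variable {ι : Type} [Fintype ι] [DecidableEq ι] {F : Type*} [Field F]
variable {σ : F ≃+* F} {ε : F} {f : (ι → F) → (ι → F) → F}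

theorem kronecker_transpose {α β : Type} (A : Matrix α α F) (B : Matrix β β F) : (A ⊗ₖ B)ᵀ = Aᵀ ⊗ₖ Bᵀ := rfl

theorem kronecker_map_ringEquiv {α β : Type} (σ : F ≃+* F) (A : Matrix α α F) (B : Matrix β β F) :
    (A ⊗ₖ B).map σ = A.map σ ⊗ₖ B.map σ := by ext x y; simp

/-- The factors of a tensor decomposition of a form, up to scalars. -/
structure TensorGram {d k : ℕ} (σ : F ≃+* F) (ε : F) (f : (ι → F) → (ι → F) → F) (e : ι ≃ Fin d × Fin k) (P : GL ι F)
    (G₁ : Matrix (Fin d) (Fin d) F) (G₂ : Matrix (Fin k) (Fin k) F) (l : F) : Prop where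
  gram : gramCoord σ f e P = G₁ ⊗ₖ G₂
  det_left : G₁.det ≠ 0
  det_right : G₂.det ≠ 0
  norm : l * σ l = 1
  swap_left : ∀ i j, G₁ j i = l * σ (G₁ i j)
  swap_right : ∀ i j, G₂ j i = ε * σ l * σ (G₂ i j)

theorem IsReflexForm.tensor_gram (hf : IsReflexForm σ ε f) {d k : ℕ} (hd : 0 < d) (hk : 0 < k) (e : ι ≃ Fin d × Fin k)
    (P : GL ι F) {H N : Subgroup (GL ι F)} (hfix : FixesForm (matrixSet H) f) (hN : N ≤ H)
    (hchar : ∀ M, M ∈ commutant N ↔ ∃ Y, matCoord e P M = (1 : Matrix (Fin d) (Fin d) F) ⊗ₖ Y) :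
    ∃ G₁ G₂ l, TensorGram σ ε f e P G₁ G₂ l := by
  classical
  haveI : Nonempty (Fin d) := ⟨⟨0, hd⟩⟩
  haveI : Nonempty (Fin k) := ⟨⟨0, hk⟩⟩
  set G := gramCoord σ f e P with hG
  obtain ⟨c, b, hcb⟩ := kronecker_of_intertwines (G := G) (hf.gramCoord_isUnit e P) fun Y => by
    set M := matLift e P ((1 : Matrix (Fin d) (Fin d) F) ⊗ₖ Y.map σ) with hM
    have hMc : M ∈ commutant N := (hchar _).mpr ⟨_, matCoord_matLift _ _ _⟩
    obtain ⟨X, hX⟩ := (hchar _).mp (hf.commutant_adj hfix hN hMc)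
    refine ⟨Xᵀ, ?_⟩
    have h := hf.gramCoord_adj e P (formAdj σ f M)
    rw [hX, hf.adj_adj, hM, matCoord_matLift, kronecker_transpose, Matrix.transpose_one, kronecker_map_ringEquiv,
      Matrix.map_one σ (map_zero σ) (map_one σ), show (Y.map σ).map σ = Y by ext i j; simp [hf.invol]] at h
    exact h.symm
  set G₁ := (c : Matrix (Fin d) (Fin d) F)
  set G₂ := (b : Matrix (Fin k) (Fin k) F)
  have hdet₁ : G₁.det ≠ 0 := ((Matrix.isUnit_iff_isUnit_det _).mp c.isUnit).ne_zero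
  have hdet₂ : G₂.det ≠ 0 := ((Matrix.isUnit_iff_isUnit_det _).mp b.isUnit).ne_zero
  have hswap : G₁ᵀ ⊗ₖ G₂ᵀ = G₁.map σ ⊗ₖ (ε • G₂.map σ) := by
    rw [← kronecker_transpose, Matrix.kronecker_smul, ← kronecker_map_ringEquiv, ← hcb]
    ext x y
    rw [Matrix.transpose_apply, Matrix.smul_apply, Matrix.map_apply, smul_eq_mul]
    exact hf.gramCoord_swap e P x y
  obtain ⟨l, hl0, hl1, hl2⟩ := kronecker_unique (fun h => c.ne_zero (Matrix.transpose_eq_zero.mp h))
    (fun h => b.ne_zero (Matrix.transpose_eq_zero.mp h)) hswap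
  have h1 : ∀ i j, σ (G₁ i j) = l * G₁ j i := fun i j => congrFun (congrFun hl1 i) j
  obtain ⟨i₀, j₀, hij⟩ : ∃ i j, G₁ i j ≠ 0 := by
    by_contra hcon; push Not at hcon; exact c.ne_zero (Matrix.ext hcon)
  have hln : σ l * l = 1 := by
    refine (mul_eq_right₀ hij).mp ?_
    have := congrArg σ (h1 i₀ j₀)
    rw [hf.invol, map_mul, h1 j₀ i₀] at this
    linear_combination -this
  refine ⟨G₁, G₂, σ l, hcb, hdet₁, hdet₂, by rw [hf.invol]; exact hln, fun i j => ?_, fun i j => ?_⟩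
  · rw [h1 i j, ← mul_assoc, hln, one_mul]
  · have h2 : G₂ j i = l * (ε * σ (G₂ i j)) := congrFun (congrFun hl2 i) j
    rw [h2, hf.invol]; ring

namespace TensorGram

variable {d k : ℕ} {e : ι ≃ Fin d × Fin k} {P : GL ι F} {G₁ : Matrix (Fin d) (Fin d) F}
  {G₂ : Matrix (Fin k) (Fin k) F} {l : F}

/-- The factors of an isometry are similitudes. -/
theorem similitude (hT : TensorGram σ ε f e P G₁ G₂ l) (hf : IsReflexForm σ ε f) [Nonempty (Fin d)] [Nonempty (Fin k)]
    {g : GL ι F} (hg : ∀ u v, f ((g : Matrix ι ι F) *ᵥ u) ((g : Matrix ι ι F) *ᵥ v) = f u v)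
    {a : GL (Fin d) F} {b : GL (Fin k) F}
    (hab : matCoord e P (g : Matrix ι ι F) = (a : Matrix (Fin d) (Fin d) F) ⊗ₖ (b : Matrix (Fin k) (Fin k) F)) :
    ∃ c : F, c ≠ 0 ∧ (a : Matrix (Fin d) (Fin d) F)ᵀ * G₁ * (a : Matrix (Fin d) (Fin d) F).map σ = c • G₁ ∧
      (b : Matrix (Fin k) (Fin k) F)ᵀ * G₂ * (b : Matrix (Fin k) (Fin k) F).map σ = c⁻¹ • G₂ := by
  have h := hf.gramCoord_isometry e P hg
  rw [hab, hT.gram, kronecker_transpose, kronecker_map_ringEquiv, ← Matrix.mul_kronecker_mul, ← Matrix.mul_kronecker_mul] at h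
  have h1 : G₁ ≠ 0 := fun e => hT.det_left (by rw [e, Matrix.det_zero])
  have h2 : G₂ ≠ 0 := fun e => hT.det_right (by rw [e, Matrix.det_zero])
  obtain ⟨c, hc, hc1, hc2⟩ := kronecker_unique h1 h2 h.symm
  refine ⟨c, hc, hc1, ?_⟩
  conv_rhs => rw [hc2, smul_smul, inv_mul_cancel₀ hc, one_smul]

/-- Exchanging the two factors. -/
theorem prodComm (hT : TensorGram σ ε f e P G₁ G₂ l) (hε : ε * σ ε = 1) (hinv : ∀ x, σ (σ x) = x) :
    TensorGram σ ε f (e.trans (Equiv.prodComm _ _)) P G₂ G₁ (ε * σ l) where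
  gram := by
    rw [gramCoord_trans, hT.gram]
    ext x y
    simp [mul_comm]
  det_left := hT.det_right
  det_right := hT.det_left
  norm := by
    rw [map_mul, hinv]
    linear_combination (l * σ l) * hε + hT.norm
  swap_left := hT.swap_right
  swap_right i j := by
    rw [map_mul, hinv, ← mul_assoc ε, hε, one_mul]
    exact hT.swap_left i j

theorem rescale (hT : TensorGram σ ε f e P G₁ G₂ l) (hinv : ∀ x, σ (σ x) = x) {c : F} (hc : c ≠ 0) {l' : F}
    (hl : c * l = l' * σ c) : TensorGram σ ε f e P (c • G₁) (c⁻¹ • G₂) l' := by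
  have hsc : σ c ≠ 0 := (map_ne_zero σ).mpr hc
  have hl' : l' = c * l / σ c := by rw [eq_div_iff hsc, ← hl]
  refine ⟨?_, ?_, ?_, ?_, fun i j => ?_, fun i j => ?_⟩
  · rw [hT.gram, Matrix.smul_kronecker, Matrix.kronecker_smul, smul_smul, mul_inv_cancel₀ hc, one_smul]
  · rw [Matrix.det_smul]; exact mul_ne_zero (pow_ne_zero _ hc) hT.det_left
  · rw [Matrix.det_smul]; exact mul_ne_zero (pow_ne_zero _ (inv_ne_zero hc)) hT.det_right
  · rw [hl', map_div₀, map_mul, hinv]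
    field_simp
    linear_combination hT.norm
  · rw [Matrix.smul_apply, Matrix.smul_apply, smul_eq_mul, smul_eq_mul, map_mul, hT.swap_left i j]
    linear_combination σ (G₁ i j) * hl
  · rw [Matrix.smul_apply, Matrix.smul_apply, smul_eq_mul, smul_eq_mul, map_mul, hT.swap_right i j, map_inv₀]
    rw [hl', map_div₀, map_mul, hinv]
    field_simp

end TensorGram

end Cfsg.Agent.Classical
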