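/-
A perfect normal subgroup which is not simple modulo scalars gives a tensor power decomposition.
-/
import Cfsg.Agent.Lib.Classical.Isotypic
import Cfsg.Agent.Lib.Classical.TensorPower
import Cfsg.Agent.Lib.Classical.NormalIn

set_option autoImplicit false
set_option linter.style.haveILetI false

namespace Cfsg.Agent.Classical

open Matrix Cfsg.Geo
open scoped commutatorElement Kronecker

variable {ι : Type} [Fintype ι] [DecidableEq ι] {F : Type*} [Field F]

theorem map_conj_map {G : Type*} [Group G] (T : Subgroup G) (a b : G) :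
    (T.map (MulAut.conj a).toMonoidHom).map (MulAut.conj b).toMonoidHom = T.map (MulAut.conj (b * a)).toMonoidHom := by
  rw [Subgroup.map_map]
  congr 1
  ext t
  simp [mul_assoc]

theorem map_conj_one {G : Type*} [Group G] (T : Subgroup G) : T.map (MulAut.conj (1 : G)).toMonoidHom = T := by
  ext t
  simp

/-- Commuting copies of a matrix algebra with irreducible span form a tensor power. -/
theorem exists_factor_basis {d t : ℕ} (hd : 0 < d) [Nonempty ι]
    (φ : Fin t → (Matrix (Fin d) (Fin d) F →ₐ[F] Matrix ι ι F))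
    (hcomm : Pairwise fun i j => ∀ X Y, Commute (φ i X) (φ j Y))
    (hirr : ∀ W : Submodule F (ι → F), (∀ i X, ∀ w ∈ W, φ i X *ᵥ w ∈ W) → W = ⊥ ∨ W = ⊤) :
    ∃ (e : ι ≃ (Fin t → Fin d)) (B : GL ι F), ∀ i X, matCoord e B (φ i X) = facM i X := by
  classical
  obtain ⟨Ψ, hΨ⟩ : ∃ Ψ : (Fin t → Matrix (Fin d) (Fin d) F) →* Matrix ι ι F, ∀ i X, Ψ (Pi.mulSingle i X) = φ i X := by
    let φm : Fin t → (Matrix (Fin d) (Fin d) F →* Matrix ι ι F) := fun i => MonoidHomClass.toMonoidHom (φ i)
    have hcomm' : Pairwise fun i j => ∀ X Y, Commute (φm i X) (φm j Y) := fun i j hij X Y => hcomm hij X Y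
    exact ⟨MonoidHom.noncommPiCoprod φm hcomm', fun i X => by rw [MonoidHom.noncommPiCoprod_mulSingle]; rfl⟩
  have hzero : ∀ A i, A i = 0 → Ψ A = 0 := by
    intro A i hA
    have e : A = A * Pi.mulSingle i 0 := by
      funext j
      rcases eq_or_ne j i with rfl | hj
      · simp [hA]
      · simp [hj]
    rw [e, map_mul, hΨ, map_zero, mul_zero]
  let U : Fin d → Fin d → Matrix (Fin d) (Fin d) F := fun a b => Matrix.single a b 1
  let E : (Fin t → Fin d) → (Fin t → Fin d) → Matrix ι ι F := fun x y => Ψ fun i => U (x i) (y i)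
  have hEE : ∀ x y z, E x y * E y z = E x z := fun x y z => by
    simp only [E, U]
    rw [← map_mul]
    congr 1
    funext i
    simp
  have hEE0 : ∀ x y y' z, y ≠ y' → E x y * E y' z = 0 := fun x y y' z h => by
    obtain ⟨i, hi⟩ := Function.ne_iff.mp h
    simp only [E, U]
    rw [← map_mul]
    refine hzero _ i ?_
    simp [Matrix.single_mul_single_of_ne, hi]
  have hsum : ∀ i, ∑ a, φ i (U a a) = 1 := fun i => by
    rw [← map_sum, ← map_one (φ i)]
    congr 1
    ext a b
    simp [U, Matrix.sum_apply, Matrix.single_apply, Matrix.one_apply, ite_and]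
  let x₀ : Fin t → Fin d := fun _ => ⟨0, hd⟩
  have hE0 : E x₀ x₀ ≠ 0 := by
    intro h0
    have hall : ∀ x, E x x = 0 := fun x => by
      rw [← hEE x x₀ x, ← hEE x x₀ x₀, h0, mul_zero, zero_mul]
    suffices ∀ s : Finset (Fin t), (∀ x : Fin t → Fin d, Ψ (fun i => if i ∈ s then U (x i) (x i) else 1) = 0) →
        Ψ (fun _ => 1) = 0 by
      have h1 := this Finset.univ fun x => by simpa using hall x
      exact one_ne_zero ((map_one Ψ).symm.trans h1)
    intro s
    induction s using Finset.induction with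
    | empty => intro h; simpa using h x₀
    | insert i s hi ih =>
      intro h
      refine ih fun x => ?_
      rw [← mul_one (Ψ _), ← hsum i, Finset.mul_sum]
      refine Finset.sum_eq_zero fun a _ => ?_
      rw [← hΨ, ← map_mul]
      convert h (Function.update x i a) using 2
      funext j
      rcases eq_or_ne j i with rfl | hj
      · simp [hi]
      · simp [hj]
  obtain ⟨v, hv⟩ : ∃ v, E x₀ x₀ *ᵥ v ≠ 0 := by
    by_contra hcon
    push Not at hcon
    exact hE0 (Matrix.toLin'.injective (LinearMap.ext fun v => by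
      rw [Matrix.toLin'_apply, map_zero, LinearMap.zero_apply, hcon]))
  let bv : (Fin t → Fin d) → (ι → F) := fun x => E x x₀ *ᵥ v
  have hbE : ∀ x y z, E x y *ᵥ bv z = if y = z then bv x else 0 := fun x y z => by
    simp only [bv, Matrix.mulVec_mulVec]
    split_ifs with h
    · rw [h, hEE]
    · rw [hEE0 _ _ _ _ h, Matrix.zero_mulVec]
  have hli : LinearIndependent F bv := by
    rw [Fintype.linearIndependent_iff]
    intro c hc x
    have h := congrArg (fun w => E x₀ x *ᵥ w) hc
    simp only [Matrix.mulVec_sum, Matrix.mulVec_smul, hbE, Matrix.mulVec_zero, smul_ite, smul_zero,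
      Finset.sum_ite_eq, Finset.mem_univ, if_true] at h
    exact (smul_eq_zero.mp h).resolve_right hv
  have hact : ∀ i a b x, φ i (U a b) *ᵥ bv x = if b = x i then bv (Function.update x i a) else 0 := by
    intro i a b x
    simp only [bv, Matrix.mulVec_mulVec, E]
    rw [← hΨ, ← map_mul]
    split_ifs with h
    · congr 2
      funext j
      rcases eq_or_ne j i with rfl | hj
      · simp [U, h]
      · simp [hj]
    · rw [hzero _ i, Matrix.zero_mulVec]
      simp [U, Matrix.single_mul_single_of_ne, h]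
  have hactX : ∀ i X x, φ i X *ᵥ bv x = ∑ a, X a (x i) • bv (Function.update x i a) := by
    intro i X x
    have e : X = ∑ a, ∑ b, X a b • U a b := by
      ext a b
      simp [U, Matrix.sum_apply, Matrix.single_apply, ite_and]
    conv_lhs => rw [e]
    simp only [map_sum, map_smul, Matrix.sum_mulVec, Matrix.smul_mulVec, hact, smul_ite, smul_zero,
      Finset.sum_ite_eq', Finset.mem_univ, if_true]
  have hspan : Submodule.span F (Set.range bv) = ⊤ := by
    refine (hirr _ fun i X w hw => ?_).resolve_left fun h => hv ?_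
    · induction hw using Submodule.span_induction with
      | mem w hw =>
        obtain ⟨x, rfl⟩ := hw
        rw [hactX]
        exact Submodule.sum_mem _ fun a _ => Submodule.smul_mem _ _ (Submodule.subset_span ⟨_, rfl⟩)
      | zero => rw [Matrix.mulVec_zero]; exact zero_mem _
      | add u w _ _ hu hw => rw [Matrix.mulVec_add]; exact add_mem hu hw
      | smul c u _ hu => rw [Matrix.mulVec_smul]; exact Submodule.smul_mem _ c hu
    · have : bv x₀ ∈ Submodule.span F (Set.range bv) := Submodule.subset_span ⟨_, rfl⟩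
      rwa [h, Submodule.mem_bot] at this
  have hcard : Fintype.card ι = Fintype.card (Fin t → Fin d) := by
    have h := finrank_span_eq_card hli
    rwa [hspan, finrank_top, Module.finrank_fintype_fun_eq_card] at h
  let e : ι ≃ (Fin t → Fin d) := Fintype.equivOfCardEq hcard
  let V : Matrix ι ι F := fun s r => bv (e r) s
  have hV : IsUnit V := Matrix.linearIndependent_cols_iff_isUnit.mp (hli.comp e e.injective)
  refine ⟨e, hV.unit, fun i X => ?_⟩
  have hmul : φ i X * V = V * (facM i X).submatrix e e := by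
    ext s r
    have h1 := congrFun (hactX i X (e r)) s
    rw [Matrix.mul_apply]
    change ((φ i X) *ᵥ bv (e r)) s = _
    rw [h1, Finset.sum_apply, Matrix.mul_apply]
    simp only [Pi.smul_apply, smul_eq_mul, Matrix.submatrix_apply, V]
    rw [Equiv.sum_comp e (fun x => bv x s * facM i X x (e r))]
    rw [← Finset.sum_subset (Finset.subset_univ (Finset.univ.image (Function.update (e r) i)))]
    · rw [Finset.sum_image (fun a _ b _ h => by simpa using congrFun h i)]
      refine Finset.sum_congr rfl fun c _ => ?_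
      rw [facM_apply, if_pos fun j hj => Function.update_of_ne hj _ _, Function.update_self, mul_comm]
    · intro z _ hz
      rw [facM_apply, if_neg fun h => hz ?_, mul_zero]
      exact Finset.mem_image.mpr ⟨z i, Finset.mem_univ _, funext fun j => by
        rcases eq_or_ne j i with rfl | hj
        · rw [Function.update_self]
        · rw [Function.update_of_ne hj, h j hj]⟩
  rw [matCoord, Matrix.mul_assoc, IsUnit.unit_spec, hmul, ← Matrix.mul_assoc, IsUnit.val_inv_mul, Matrix.one_mul,
    Matrix.submatrix_submatrix, Equiv.self_comp_symm, Matrix.submatrix_id_id]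

/-- Every matrix with full matrix algebra as commutant is scalar. -/
theorem scalar_of_commute_all {M : Matrix ι ι F} (h : ∀ Y : Matrix ι ι F, M * Y = Y * M) :
    ∃ c : F, M = c • (1 : Matrix ι ι F) := by
  obtain ⟨c, hc⟩ := Matrix.mem_range_scalar_iff_commute_single'.mpr (fun i j => (h (Matrix.single i j 1)).symm)
  exact ⟨c, by rw [← hc]; ext i j; simp [Matrix.one_apply, Matrix.diagonal_apply]⟩

/-- The action of `H` on factors gives membership in the wreath product. -/
theorem mem_wreath_of_permutes {d t : ℕ} (ht : 0 < t) (hd : 0 < d) (e : ι ≃ (Fin t → Fin d)) (B g : GL ι F)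
    (σ : Equiv.Perm (Fin t))
    (h : ∀ i X, ∃ X', matCoord e B (g : Matrix ι ι F) * facM i X = facM (σ i) X' * matCoord e B (g : Matrix ι ι F)) :
    g ∈ tensorWreathSubgroup d t e B := by
  rw [tensorWreathSubgroup, mem_conj_reindex_iff]
  set G := glReindex (F := F) e (B⁻¹ * g * B) with hG
  set G' := factorPermGL d F σ⁻¹ * G with hG'
  obtain ⟨A, hA⟩ := exists_pure_of_normalises ht hd G'.isUnit fun i X => by
    obtain ⟨X', hX'⟩ := h i X
    refine ⟨X', ?_⟩
    change factorPermM d F σ⁻¹ * matCoord e B (g : Matrix ι ι F) * facM i X = facM i X' * (factorPermM d F σ⁻¹ * matCoord e B (g : Matrix ι ι F))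
    rw [Matrix.mul_assoc, hX', ← Matrix.mul_assoc, factorPermM_facM, Matrix.mul_assoc,
      show σ⁻¹ (σ i) = i from σ.symm_apply_apply i]
  have hGe : G = factorPermGL d F σ * G' := by
    have h1 : factorPermGL d F σ * factorPermGL d F σ⁻¹ = 1 := Units.ext (by
      change factorPermM d F σ * factorPermM d F σ⁻¹ = 1
      rw [factorPermM_mul, mul_inv_cancel, factorPermM_one])
    rw [hG', ← mul_assoc, h1, one_mul]
  rw [hGe]
  exact mul_mem (factorPermGL_mem σ) (Subgroup.subset_closure (Or.inl ⟨A, fun x y => by rw [hA]; rfl⟩))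

/-- The factors of a tensor power come from one centraliser algebra inside `P` and its conjugates under `H`. -/
def WreathFactors (H P : Subgroup (GL ι F)) {m t : ℕ} (e : ι ≃ (Fin t → Fin m)) (B : GL ι F) : Prop :=
  (∃ (Q : Subgroup (GL ι F)) (g : Fin t → GL ι F), Q ≤ P ∧ (∀ i, g i ∈ H) ∧
    (∀ X : Matrix (Fin m) (Fin m) F, ∃ M : Matrix ι ι F, (∀ c ∈ commutant Q, M * c = c * M) ∧
      ∀ i, matCoord e B ((g i : Matrix ι ι F) * M * (((g i)⁻¹ : GL ι F) : Matrix ι ι F)) = facM i X) ∧
    ∀ M : Matrix ι ι F, (∀ c ∈ commutant Q, M * c = c * M) → ∃ X : Matrix (Fin m) (Fin m) F,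
      ∀ i, matCoord e B ((g i : Matrix ι ι F) * M * (((g i)⁻¹ : GL ι F) : Matrix ι ι F)) = facM i X) ∧
  ∀ p ∈ P, ∀ i X, ∃ X', matCoord e B (p : Matrix ι ι F) * facM i X = facM i X' * matCoord e B (p : Matrix ι ι F)

/-- A perfect absolutely irreducible minimal normal subgroup is simple modulo scalars, or the space is a tensor power
whose factors the group permutes. -/
theorem simple_or_wreath [Fintype F] [Nonempty ι] {H P : Subgroup (GL ι F)} (hPH : P ≤ H) (hPn : NormalIn H P)
    (hPa : ActsAbsolutelyIrreducibly (matrixSet P)) (hperf : ⁅P, P⁆ = P) (hPns : ¬ P ≤ scalars ι F)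
    (hmin : ∀ A : Subgroup (GL ι F), A ≤ P → NormalIn H A → ¬ A ≤ scalars ι F → A = P) :
    IsSimpleGroup (P ⧸ (scalars ι F).subgroupOf P) ∨
      ∃ (m t : ℕ) (e : ι ≃ (Fin t → Fin m)) (B : GL ι F), 2 ≤ m ∧ 2 ≤ t ∧ H ≤ tensorWreathSubgroup m t e B ∧
        WreathFactors H P e B := by
  classical
  by_cases hsub : ∀ T : Subgroup (GL ι F), T ≤ P → NormalIn P T → ¬ T ≤ scalars ι F → P ⊓ scalars ι F ≤ T → T = P
  · left
    haveI : Nontrivial (P ⧸ (scalars ι F).subgroupOf P) := QuotientGroup.nontrivial_iff.mpr fun e =>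
      hPns (Subgroup.subgroupOf_eq_top.mp e)
    refine ⟨fun N hN => ?_⟩
    let K := N.comap (QuotientGroup.mk' ((scalars ι F).subgroupOf P))
    by_cases hKs : K.map P.subtype ≤ scalars ι F
    · left
      rw [eq_bot_iff]
      intro z hz
      obtain ⟨z, rfl⟩ := QuotientGroup.mk'_surjective _ z
      rw [Subgroup.mem_bot, QuotientGroup.mk'_apply, QuotientGroup.eq_one_iff, Subgroup.mem_subgroupOf]
      exact hKs ⟨z, hz, rfl⟩
    · right
      have hKP := hsub _ (Subgroup.map_subtype_le K) ?_ hKs ?_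
      · rw [eq_top_iff]
        intro z _
        obtain ⟨z, rfl⟩ := QuotientGroup.mk'_surjective _ z
        obtain ⟨w, hw, hwz⟩ : (z : GL ι F) ∈ K.map P.subtype := hKP.symm ▸ z.2
        rw [← Subtype.ext hwz]
        exact hw
      · rintro a ha _ ⟨w, hw, rfl⟩
        refine ⟨(⟨a, ha⟩ : P) * w * (⟨a, ha⟩ : P)⁻¹, ?_, ?_⟩
        · exact (hN.comap (QuotientGroup.mk' ((scalars ι F).subgroupOf P))).conj_mem w hw ⟨a, ha⟩
        · simp
      · intro z hz
        refine ⟨⟨z, hz.1⟩, ?_, rfl⟩
        rw [SetLike.mem_coe, Subgroup.mem_comap]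
        convert one_mem N
        exact (QuotientGroup.eq_one_iff _).mpr hz.2
  right
  push Not at hsub
  obtain ⟨T₀, h₀⟩ := hsub
  let Bad : Subgroup (GL ι F) → Prop := fun T =>
    T ≤ P ∧ NormalIn P T ∧ ¬ T ≤ scalars ι F ∧ P ⊓ scalars ι F ≤ T ∧ T ≠ P
  obtain ⟨T, ⟨hTP, hTn, hTs, hZT, hTne⟩, hTmin⟩ := exists_minimal_of_wellFoundedLT Bad ⟨T₀, h₀⟩
  let conjT : GL ι F → Subgroup (GL ι F) := fun h => T.map (MulAut.conj h).toMonoidHom
  have hcTP : ∀ h ∈ H, conjT h ≤ P := by
    rintro h hh _ ⟨t, ht, rfl⟩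
    exact hPn h hh t (hTP ht)
  have hcTn : ∀ h ∈ H, NormalIn P (conjT h) := fun h hh => normalIn_map_conj hh hTn hPn
  -- distinct conjugates commute modulo scalars
  have hpair1 : ∀ d ∈ H, conjT d ≠ T → ∀ s ∈ T, ∀ u ∈ conjT d, ⁅s, u⁆ ∈ scalars ι F := by
    intro d hd hne
    have hs : T ⊓ conjT d ≤ scalars ι F := by
      by_contra hs
      have hle : T ≤ conjT d := (hTmin (show Bad (T ⊓ conjT d) from
        ⟨inf_le_left.trans hTP, hTn.inf (hcTn d hd), hs, le_inf hZT (fun z hz => ⟨z, hZT hz, by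
          rw [MulEquiv.coe_toMonoidHom, MulAut.conj_apply, ← scalars_commute hz.2 d, mul_inv_cancel_right]⟩),
          fun e => hTne (le_antisymm hTP (e ▸ inf_le_left))⟩) inf_le_left).trans inf_le_right
      exact hne (Subgroup.eq_of_le_of_card_ge hle
        (le_of_eq (Subgroup.card_map_of_injective (MulAut.conj d).injective))).symm
    intro s hsT u hu
    refine hs ⟨commutator_le_of_normalIn hTn (Subgroup.commutator_mem_commutator hsT (hcTP d hd hu)), ?_⟩
    show ⁅s, u⁆ ∈ conjT d
    rw [← inv_inv ⁅s, u⁆, commutatorElement_inv, inv_mem_iff]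
    exact commutator_le_of_normalIn (hcTn d hd) (Subgroup.commutator_mem_commutator hu (hTP hsT))
  set Q : Subgroup (GL ι F) := ⁅T, T⁆ with hQ
  have hQT : Q ≤ T := commutator_self_le T
  let conjQ : GL ι F → Subgroup (GL ι F) := fun h => Q.map (MulAut.conj h).toMonoidHom
  have hQcomm : ∀ d ∈ H, conjT d ≠ T → ∀ q ∈ Q, ∀ u ∈ conjT d, q * u = u * q := fun d hd hne q hq u hu =>
    commute_commutator_of_mod_scalars (fun a ha => by
      simpa [commutatorElement_def] using hpair1 d hd hne a ha u hu) q hq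
  -- the conjugates generate
  let S : Set (GL ι F) := {s | ∃ a ∈ H, s ∈ conjT a}
  have hclP : ∀ (R : Subgroup (GL ι F)), R ≤ T → ¬ R ≤ scalars ι F →
      Subgroup.closure {s | ∃ a ∈ H, s ∈ R.map (MulAut.conj a).toMonoidHom} = P := by
    intro R hR hRs
    refine hmin _ ((Subgroup.closure_le P).mpr fun s ⟨a, ha, hs⟩ => hcTP a ha (Subgroup.map_mono hR hs)) ?_
      fun hle => hRs fun r hr => hle (Subgroup.subset_closure ⟨1, one_mem H, by rwa [map_conj_one]⟩)
    rw [normalIn_iff_map_le]
    intro g hg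
    rw [Subgroup.map_le_iff_le_comap, Subgroup.closure_le]
    rintro s ⟨a, ha, hs⟩
    refine Subgroup.subset_closure ⟨g * a, mul_mem hg ha, ?_⟩
    rw [← map_conj_map]
    exact Subgroup.mem_map_of_mem _ hs
  have hQs : ¬ Q ≤ scalars ι F := by
    intro hQs
    apply hPns
    rw [← hperf, ← hclP T le_rfl hTs]
    refine commutator_le_of_generators ?_
    rintro s ⟨a, ha, hs⟩ u ⟨b, hb, hu⟩
    obtain ⟨s, hsT, rfl⟩ := hs
    obtain ⟨u, huT, rfl⟩ := hu
    have h1 : ⁅s, MulAut.conj (a⁻¹ * b) u⁆ ∈ scalars ι F := by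
      by_cases hc : conjT (a⁻¹ * b) = T
      · exact hQs (Subgroup.commutator_mem_commutator hsT (hc ▸ ⟨u, huT, rfl⟩))
      · exact hpair1 _ (mul_mem (inv_mem ha) hb) hc s hsT _ ⟨u, huT, rfl⟩
    have h2 := (inferInstance : (scalars ι F).Normal).conj_mem _ h1 a
    convert h2 using 1
    simp only [MulEquiv.coe_toMonoidHom, MulAut.conj_apply, commutatorElement_def]
    group
  have hQn : NormalIn P Q := hTn.commutator hTn
  have hclQ := hclP Q hQT hQs
  have hQd : ∀ d ∈ H, conjT d ≠ T → ∀ u ∈ conjQ d, (u : Matrix ι ι F) ∈ commutant Q := by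
    intro d hd hne u hu
    rw [mem_commutant_iff]
    intro q hq
    have := congrArg (fun g : GL ι F => (g : Matrix ι ι F)) (hQcomm d hd hne q hq u (Subgroup.map_mono hQT hu))
    simpa using this
  have hconjQ : ∀ d ∈ H, conjT d = T → conjQ d = Q := by
    intro d _ he
    simp only [conjQ, hQ, Subgroup.map_commutator]
    rw [show T.map (MulAut.conj d).toMonoidHom = T from he]
  -- the splitting of Q
  obtain ⟨d, k, e, Pb, hd, hk, hchar, hk1⟩ := tensor_split hPa.1 hQn fun z hz hzc => by
    refine hPa.2 z ?_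
    rintro _ ⟨x, hx, rfl⟩
    rw [SetLike.mem_coe, ← hclQ] at hx
    change z * (x : Matrix ι ι F) = (x : Matrix ι ι F) * z
    have hgen : x ∈ Subgroup.closure {s : GL ι F | (s : Matrix ι ι F) * z = z * (s : Matrix ι ι F)} := by
      refine Subgroup.closure_mono ?_ hx
      rintro s ⟨a, ha, hs⟩
      by_cases hc : conjT a = T
      · exact mem_commutant_iff.mp hz s (hconjQ a ha hc ▸ hs)
      · exact (hzc _ (hQd a ha hc s hs)).symm
    clear hx
    induction hgen using Subgroup.closure_induction with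
    | mem s hs => exact hs.symm
    | one => simp
    | mul a b _ _ ha hb =>
      rw [Units.val_mul, ← Matrix.mul_assoc, ha, Matrix.mul_assoc, hb, Matrix.mul_assoc]
    | inv a _ ha =>
      have := congrArg (fun Z => ((a⁻¹ : GL ι F) : Matrix ι ι F) * Z * ((a⁻¹ : GL ι F) : Matrix ι ι F)) ha
      simp only [Matrix.mul_assoc, Units.mul_inv, Matrix.mul_one] at this
      rw [← Matrix.mul_assoc ((a⁻¹ : GL ι F) : Matrix ι ι F) (a : Matrix ι ι F), Units.inv_mul, Matrix.one_mul] at this
      exact this.symm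
  obtain ⟨g₁, hg₁, hg₁T⟩ : ∃ g ∈ H, conjT g ≠ T := by
    by_contra hcon
    push Not at hcon
    exact hTne (hmin T hTP (normalIn_iff_map_le.mpr fun h hh => (hcon h hh).le) hTs)
  have hk2 : 2 ≤ k := by
    by_contra hlt
    have hQa := hk1 (by omega)
    apply hQs
    intro q hq
    have hsc : MulAut.conj g₁ q ∈ scalars ι F := mem_scalars_of_absIrr hQa fun x hx =>
      (hQcomm g₁ hg₁ hg₁T x hx _ (Subgroup.mem_map_of_mem _ (hQT hq))).symm
    simpa [mul_assoc] using (inferInstance : (scalars ι F).Normal).conj_mem _ hsc g₁⁻¹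
  have hd2 : 2 ≤ d := by
    by_contra hlt
    have hsub : ∀ u : Fin d, u = ⟨0, hd⟩ := fun u => Fin.ext (by have := u.2; change (u : ℕ) = 0; omega)
    apply hQs
    intro q hq
    obtain ⟨c, hc⟩ := scalar_of_commute_all (M := (q : Matrix ι ι F)) fun Y => by
      refine mem_commutant_iff.mp ((hchar Y).mpr
        ⟨Matrix.of fun i j => matCoord e Pb Y (⟨0, hd⟩, i) (⟨0, hd⟩, j), ?_⟩) q hq
      ext ⟨a, i⟩ ⟨b, j⟩
      rw [hsub a, hsub b]
      simp
    exact mem_scalars_of_eq hc
  -- the bicommutant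
  haveI : Nonempty (Fin d) := ⟨⟨0, hd⟩⟩
  haveI : Nonempty (Fin k) := ⟨⟨0, by omega⟩⟩
  let φ₀ : Matrix (Fin d) (Fin d) F →ₐ[F] Matrix ι ι F :=
    { toFun := fun X => matLift e Pb (X ⊗ₖ (1 : Matrix (Fin k) (Fin k) F))
      map_one' := by rw [Matrix.one_kronecker_one, matLift_one]
      map_mul' := fun X Y => by rw [← matLift_mul, ← Matrix.mul_kronecker_mul, Matrix.mul_one]
      map_zero' := matCoord_injective e Pb (by rw [matCoord_matLift, Matrix.zero_kronecker, matCoord_zero])
      map_add' := fun X Y => matCoord_injective e Pb (by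
        rw [matCoord_matLift, Matrix.add_kronecker]
        simp only [matCoord, Matrix.mul_add, Matrix.add_mul, Matrix.submatrix_add]
        rw [Pi.add_apply, Pi.add_apply]
        exact congrArg₂ (· + ·) (matCoord_matLift e Pb _).symm (matCoord_matLift e Pb _).symm)
      commutes' := fun c => matCoord_injective e Pb (by
        rw [matCoord_matLift, Algebra.algebraMap_eq_smul_one, Algebra.algebraMap_eq_smul_one, matCoord_smul, matCoord_one,
          Matrix.smul_kronecker, Matrix.one_kronecker_one]) }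
  have hφcomm : ∀ X, ∀ c ∈ commutant Q, φ₀ X * c = c * φ₀ X := by
    intro X c hc
    obtain ⟨Y, hY⟩ := (hchar c).mp hc
    refine matCoord_injective e Pb ?_
    change matCoord e Pb (matLift e Pb _ * c) = matCoord e Pb (c * matLift e Pb _)
    rw [matCoord_mul, matCoord_mul, matCoord_matLift, hY, ← Matrix.mul_kronecker_mul, ← Matrix.mul_kronecker_mul,
      Matrix.mul_one, Matrix.one_mul, Matrix.mul_one, Matrix.one_mul]
  have hφex : ∀ M : Matrix ι ι F, (∀ c ∈ commutant Q, M * c = c * M) → ∃ X, φ₀ X = M := by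
    intro M hM
    obtain ⟨X, hX⟩ := eq_kronecker_one (G := matCoord e Pb M) fun Y => by
      have := hM (matLift e Pb ((1 : Matrix (Fin d) (Fin d) F) ⊗ₖ Y)) ((hchar _).mpr ⟨Y, matCoord_matLift _ _ _⟩)
      have := congrArg (matCoord e Pb) this
      rwa [matCoord_mul, matCoord_mul, matCoord_matLift] at this
    exact ⟨X, matCoord_injective e Pb ((matCoord_matLift _ _ _).trans hX.symm)⟩
  -- the set of factors
  let 𝒞 : Set (Subgroup (GL ι F)) := conjT '' (H : Set (GL ι F))
  haveI : Finite 𝒞 := Set.Finite.to_subtype (Set.toFinite 𝒞)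
  let t := Nat.card 𝒞
  let en : Fin t ≃ 𝒞 := (Finite.equivFin 𝒞).symm
  have hrep : ∀ i, ∃ g ∈ H, conjT g = (en i : Subgroup (GL ι F)) := fun i => (en i).2
  choose g hgH hgT using hrep
  have ht2 : 2 ≤ t := by
    haveI : Nontrivial 𝒞 := ⟨⟨T, 1, one_mem H, map_conj_one T⟩, ⟨conjT g₁, g₁, hg₁, rfl⟩,
      fun h => hg₁T (congrArg Subtype.val h).symm⟩
    exact Finite.one_lt_card
  have hne : ∀ i j, i ≠ j → conjT ((g i)⁻¹ * g j) ≠ T := by
    intro i j hij he
    apply hij
    apply en.injective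
    apply Subtype.ext
    rw [← hgT i, ← hgT j]
    calc conjT (g i) = (conjT ((g i)⁻¹ * g j)).map (MulAut.conj (g i)).toMonoidHom := by rw [he]
      _ = conjT (g j) := by simp only [conjT, map_conj_map, mul_inv_cancel_left]
  let φ : Fin t → (Matrix (Fin d) (Fin d) F →ₐ[F] Matrix ι ι F) := fun i =>
    ((MulSemiringAction.toAlgEquiv F (Matrix ι ι F) (ConjAct.toConjAct (g i))).toAlgHom).comp φ₀
  have hφ : ∀ i X, φ i X = (g i : Matrix ι ι F) * φ₀ X * (((g i)⁻¹ : GL ι F) : Matrix ι ι F) := fun i X => rfl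
  have hφ₀comm : ∀ a ∈ H, conjT a ≠ T → ∀ X Y, φ₀ X * ((a : Matrix ι ι F) * φ₀ Y * ((a⁻¹ : GL ι F) : Matrix ι ι F)) =
      (a : Matrix ι ι F) * φ₀ Y * ((a⁻¹ : GL ι F) : Matrix ι ι F) * φ₀ X := by
    intro a ha hane X Y
    have hmem : ((a⁻¹ : GL ι F) : Matrix ι ι F) * φ₀ X * (a : Matrix ι ι F) ∈ commutant Q := by
      rw [mem_commutant_iff]
      intro q hq
      have h1 := hφcomm X _ (hQd a ha hane _ (Subgroup.mem_map_of_mem _ hq))
      simp only [MulEquiv.coe_toMonoidHom, MulAut.conj_apply, Units.val_mul] at h1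
      have h2 := congrArg (fun Z => ((a⁻¹ : GL ι F) : Matrix ι ι F) * Z * (a : Matrix ι ι F)) h1
      simp only [Matrix.mul_assoc, Units.inv_mul, Matrix.mul_one] at h2
      simp only [← Matrix.mul_assoc, Units.inv_mul, Matrix.one_mul] at h2
      simp only [← Matrix.mul_assoc]
      exact h2.symm
    have h1 := hφcomm Y _ hmem
    have h2 := congrArg (fun Z => (a : Matrix ι ι F) * Z * ((a⁻¹ : GL ι F) : Matrix ι ι F)) h1
    simp only [← Matrix.mul_assoc, Units.mul_inv, Matrix.one_mul] at h2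
    simp only [Matrix.mul_assoc, Units.mul_inv, Matrix.mul_one] at h2
    simp only [Matrix.mul_assoc]
    exact h2.symm
  have hcomm : Pairwise fun i j => ∀ X Y, Commute (φ i X) (φ j Y) := by
    intro i j hij X Y
    have h1 := hφ₀comm _ (mul_mem (inv_mem (hgH i)) (hgH j)) (hne i j hij) X Y
    have h2 := congrArg (fun Z => (g i : Matrix ι ι F) * Z * (((g i)⁻¹ : GL ι F) : Matrix ι ι F)) h1
    change φ i X * φ j Y = φ j Y * φ i X
    rw [hφ, hφ]
    simp only [_root_.mul_inv_rev, inv_inv, Units.val_mul, ← Matrix.mul_assoc, Units.mul_inv, Matrix.one_mul] at h2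
    simp only [Matrix.mul_assoc, Units.mul_inv, Matrix.mul_one] at h2
    simp only [Matrix.mul_assoc]
    exact h2
  have hnormal : ∀ a ∈ H, conjT a = T → ∀ X, ∃ X', φ₀ X' = (a : Matrix ι ι F) * φ₀ X * ((a⁻¹ : GL ι F) : Matrix ι ι F) := by
    intro a ha hae X
    refine hφex _ fun c hc => ?_
    have hmem : ((a⁻¹ : GL ι F) : Matrix ι ι F) * c * (a : Matrix ι ι F) ∈ commutant Q := by
      rw [mem_commutant_iff]
      intro q hq
      have hq' : MulAut.conj a q ∈ Q := (hconjQ a ha hae) ▸ Subgroup.mem_map_of_mem _ hq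
      have h1 := mem_commutant_iff.mp hc _ hq'
      simp only [MulAut.conj_apply, Units.val_mul] at h1
      have h2 := congrArg (fun Z => ((a⁻¹ : GL ι F) : Matrix ι ι F) * Z * (a : Matrix ι ι F)) h1
      simp only [Matrix.mul_assoc, Units.inv_mul, Matrix.mul_one] at h2
      simp only [← Matrix.mul_assoc, Units.inv_mul, Matrix.one_mul] at h2
      simp only [← Matrix.mul_assoc]
      exact h2
    have h1 := hφcomm X _ hmem
    have h2 := congrArg (fun Z => (a : Matrix ι ι F) * Z * ((a⁻¹ : GL ι F) : Matrix ι ι F)) h1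
    simp only [← Matrix.mul_assoc, Units.mul_inv, Matrix.one_mul] at h2
    simp only [Matrix.mul_assoc, Units.mul_inv, Matrix.mul_one] at h2
    simp only [Matrix.mul_assoc]
    exact h2
  obtain ⟨eT, B, hB⟩ := exists_factor_basis (t := t) hd φ hcomm fun W hW => hPa.1 W (by
    rintro _ ⟨x, hx, rfl⟩
    rw [SetLike.mem_coe, ← hclQ] at hx
    rw [map_toLin'_le]
    have hle : Subgroup.closure {s | ∃ a ∈ H, s ∈ Q.map (MulAut.conj a).toMonoidHom} ≤ subspaceStabilizer W := by
      rw [Subgroup.closure_le]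
      rintro s ⟨a, ha, q, hq, rfl⟩
      rw [SetLike.mem_coe, mem_subspaceStabilizer_iff]
      let i := en.symm ⟨conjT a, a, ha, rfl⟩
      have hi : conjT (g i) = conjT a := by rw [hgT, Equiv.apply_symm_apply]
      have hae : conjT ((g i)⁻¹ * a) = T := by
        simp only [conjT] at hi ⊢
        rw [← map_conj_map, ← hi, map_conj_map, inv_mul_cancel, map_conj_one]
      obtain ⟨X₀, hX₀⟩ := hφex _ fun c hc => mem_commutant_iff.mp hc q hq
      obtain ⟨X', hX'⟩ := hnormal _ (mul_mem (inv_mem (hgH i)) ha) hae X₀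
      intro w hw
      have := hW i X' w hw
      rw [hφ, hX', hX₀] at this
      simpa [Matrix.mul_assoc, Matrix.mulVec_mulVec] using this
    exact mem_subspaceStabilizer_iff.mp (hle hx))
  refine ⟨d, t, eT, B, hd2, ht2, fun h hh => ?_, ⟨⟨Q, g, hQT.trans hTP, hgH, fun X => ?_, fun M hM => ?_⟩, ?_⟩⟩
  rotate_left
  · exact ⟨φ₀ X, fun c hc => hφcomm X c hc, fun i => by rw [← hφ, hB]⟩
  · obtain ⟨X, rfl⟩ := hφex M hM
    exact ⟨X, fun i => by rw [← hφ, hB]⟩
  · intro p hp i X
    have hle : conjT (p * g i) ≤ conjT (g i) := by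
      rintro _ ⟨u, hu, rfl⟩
      have := hcTn (g i) (hgH i) p hp _ (Subgroup.mem_map_of_mem _ hu)
      simpa [mul_assoc] using this
    have he : conjT (p * g i) = conjT (g i) := Subgroup.eq_of_le_of_card_ge hle (le_of_eq (by
      rw [Subgroup.card_map_of_injective (f := (MulAut.conj (p * g i)).toMonoidHom) (MulAut.conj (p * g i)).injective,
        Subgroup.card_map_of_injective (f := (MulAut.conj (g i)).toMonoidHom) (MulAut.conj (g i)).injective]))
    have hae : conjT ((g i)⁻¹ * (p * g i)) = T := by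
      simp only [conjT] at he ⊢
      rw [← map_conj_map, he, map_conj_map, inv_mul_cancel, map_conj_one]
    obtain ⟨X', hX'⟩ := hnormal _ (mul_mem (inv_mem (hgH i)) (mul_mem (hPH hp) (hgH i))) hae X
    refine ⟨X', ?_⟩
    rw [← hB, ← hB, ← matCoord_mul, ← matCoord_mul]
    congr 1
    rw [hφ, hφ, hX']
    simp only [_root_.mul_inv_rev, inv_inv, Units.val_mul, ← Matrix.mul_assoc, Units.mul_inv, Matrix.one_mul]
    simp only [Matrix.mul_assoc, Units.inv_mul, Units.mul_inv, Matrix.mul_one]
  let f : 𝒞 → 𝒞 := fun C => ⟨(C : Subgroup (GL ι F)).map (MulAut.conj h).toMonoidHom, by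
    obtain ⟨a, ha, e'⟩ := C.2
    exact ⟨h * a, mul_mem hh ha, by rw [← e']; exact (map_conj_map T a h).symm⟩⟩
  have hf : Function.Injective f := fun C D e' =>
    Subtype.ext (Subgroup.map_injective (MulAut.conj h).injective (congrArg Subtype.val e'))
  let σ : Equiv.Perm (Fin t) := (en.trans (Equiv.ofBijective f (Finite.injective_iff_bijective.mp hf))).trans en.symm
  refine mem_wreath_of_permutes (by omega) hd eT B h σ fun i X => ?_
  have hσ : conjT (g (σ i)) = conjT (h * g i) := by
    rw [hgT]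
    simp only [σ, Equiv.trans_apply, Equiv.apply_symm_apply, Equiv.ofBijective_apply, f, conjT]
    rw [← map_conj_map, ← hgT]
  have hae : conjT ((g (σ i))⁻¹ * (h * g i)) = T := by
    simp only [conjT] at hσ ⊢
    rw [← map_conj_map, ← hσ, map_conj_map, inv_mul_cancel, map_conj_one]
  obtain ⟨X', hX'⟩ := hnormal _ (mul_mem (inv_mem (hgH (σ i))) (mul_mem hh (hgH i))) hae X
  refine ⟨X', ?_⟩
  rw [← hB, ← hB, ← matCoord_mul, ← matCoord_mul]
  congr 1
  rw [hφ, hφ, hX']
  simp only [_root_.mul_inv_rev, inv_inv, Units.val_mul, ← Matrix.mul_assoc, Units.mul_inv, Matrix.one_mul]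
  simp only [Matrix.mul_assoc, Units.inv_mul, Units.mul_inv, Matrix.mul_one]

end Cfsg.Agent.Classical
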