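/-
The form on a tensor power whose factors an irreducible group of isometries permutes.
-/
import Cfsg.Agent.Lib.Classical.FormCoord
import Cfsg.Agent.Lib.Classical.CentralProduct

set_option autoImplicit false
set_option linter.style.haveILetI false

namespace Cfsg.Agent.Classical

open Matrix Cfsg.Geo

variable {ι : Type} [Fintype ι] [DecidableEq ι] {F : Type*} [Field F]
variable {σ : F ≃+* F} {ε : F} {f : (ι → F) → (ι → F) → F}

/-- The Gram matrix of a tensor power structure. -/
structure PowerGram {m t : ℕ} (σ : F ≃+* F) (ε : F) (f : (ι → F) → (ι → F) → F) (e : ι ≃ (Fin t → Fin m)) (B : GL ι F)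
    (c : F) (G₀ : Matrix (Fin m) (Fin m) F) (l : F) : Prop where
  gram : gramCoord σ f e B = c • pureM fun _ => G₀
  ne_zero : c ≠ 0
  det_ne_zero : G₀.det ≠ 0
  norm : l * σ l = 1
  swap : ∀ i j, G₀ j i = l * σ (G₀ i j)
  scalar : c * l ^ t = ε * σ c

theorem IsReflexForm.power_gram (hf : IsReflexForm σ ε f) {m t : ℕ} (hm : 2 ≤ m) (ht : 2 ≤ t)
    (e : ι ≃ (Fin t → Fin m)) (B : GL ι F) {H P : Subgroup (GL ι F)} (hPH : P ≤ H)
    (hfix : FixesForm (matrixSet H) f) (hW : WreathFactors H P e B) :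
    ∃ c G₀ l, PowerGram σ ε f e B c G₀ l := by
  classical
  obtain ⟨⟨Q, g, hQ, hg, hex, hback⟩, -⟩ := hW
  haveI : Nonempty (Fin m) := ⟨⟨0, by omega⟩⟩
  set G := gramCoord σ f e B with hG
  -- one intertwining map for all the factors
  have key : ∀ Y : Matrix (Fin m) (Fin m) F, ∃ Y', ∀ i, G * facM i Y = facM i Y' * G := by
    intro Y
    obtain ⟨M, hM, hMc⟩ := hex (Y.map σ)
    have hadj : ∀ c ∈ commutant Q, formAdj σ f M * c = c * formAdj σ f M :=
      centralizer_adj hf (fun s hs => hf.commutant_adj hfix (hQ.trans hPH) hs) hM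
    obtain ⟨X, hX⟩ := hback _ hadj
    refine ⟨Xᵀ, fun i => ?_⟩
    have h := hf.gramCoord_adj e B ((g i : Matrix ι ι F) * formAdj σ f M * (((g i)⁻¹ : GL ι F) : Matrix ι ι F))
    rw [hf.adj_conj (hfix _ (coe_mem_matrixSet (hg i))), hf.adj_adj, hX i, hMc i, facM, pureM_transpose, facM, pureM_map] at h
    rw [← hG] at h
    simp only [facM] at h ⊢
    have e1 : (fun j => (Function.update (fun _ : Fin t => (1 : Matrix (Fin m) (Fin m) F)) i X j)ᵀ) =
        Function.update (fun _ => 1) i Xᵀ := by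
      funext j
      rcases eq_or_ne j i with rfl | hj
      · simp
      · simp [hj]
    have e2 : (fun j => (Function.update (fun _ : Fin t => (1 : Matrix (Fin m) (Fin m) F)) i (Y.map σ) j).map σ) =
        Function.update (fun _ => 1) i Y := by
      funext j
      rcases eq_or_ne j i with rfl | hj
      · ext a b; simp [hf.invol]
      · simp [hj]
    rw [e1, e2] at h
    exact h.symm
  obtain ⟨A, hA⟩ := exists_pure_of_normalises (by omega) (by omega) (hf.gramCoord_isUnit e B)
    fun i Y => (key Y).imp fun Y' h => h i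
  rw [← hG] at hA
  have hconj : ∀ Y : Matrix (Fin m) (Fin m) F, ∃ Y', ∀ i, (A i : Matrix (Fin m) (Fin m) F) * Y = Y' * (A i : Matrix (Fin m) (Fin m) F) := by
    intro Y
    obtain ⟨Y', hY⟩ := key Y
    refine ⟨Y', fun i => ?_⟩
    have h := congrArg (fun Z => Z * pureM fun j => (((A j)⁻¹ : GL (Fin m) F) : Matrix (Fin m) (Fin m) F)) (hY i)
    rw [hA, facM, facM, Matrix.mul_assoc (pureM _), pureM_mul, pureM_mul, Matrix.mul_assoc, pureM_mul, pureM_mul] at h
    have h1 : facM i ((A i : Matrix (Fin m) (Fin m) F) * Y * (((A i)⁻¹ : GL (Fin m) F) : Matrix (Fin m) (Fin m) F)) = facM i Y' := by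
      rw [facM, facM]
      refine Eq.trans (congrArg pureM ?_) (h.trans (congrArg pureM ?_))
      all_goals funext j; rcases eq_or_ne j i with rfl | hj
      · simp [Matrix.mul_assoc]
      · simp [hj]
      · simp
      · simp [hj]
    have h2 := congrArg (fun Z => Z * (A i : Matrix (Fin m) (Fin m) F)) (facM_injective i h1)
    simpa [Matrix.mul_assoc] using h2
  set i₀ : Fin t := ⟨0, by omega⟩
  set G₀ := (A i₀ : Matrix (Fin m) (Fin m) F) with hG₀
  have hprop : ∀ i, ∃ c : F, (A i : Matrix (Fin m) (Fin m) F) = c • G₀ := by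
    intro i
    obtain ⟨c, hc⟩ := scalar_of_commute_all (M := (((A i₀)⁻¹ : GL (Fin m) F) : Matrix (Fin m) (Fin m) F) * (A i : Matrix (Fin m) (Fin m) F)) fun Y => by
      obtain ⟨Y', hY'⟩ := hconj Y
      have h0 : (((A i₀)⁻¹ : GL (Fin m) F) : Matrix (Fin m) (Fin m) F) * Y' = Y * (((A i₀)⁻¹ : GL (Fin m) F) : Matrix (Fin m) (Fin m) F) := by
        have h := congrArg (fun Z => (((A i₀)⁻¹ : GL (Fin m) F) : Matrix (Fin m) (Fin m) F) * Z *
          (((A i₀)⁻¹ : GL (Fin m) F) : Matrix (Fin m) (Fin m) F)) (hY' i₀)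
        simp only [← Matrix.mul_assoc, Units.inv_mul, Matrix.one_mul] at h
        rw [Matrix.mul_assoc _ (A i₀ : Matrix (Fin m) (Fin m) F), Units.mul_inv, Matrix.mul_one] at h
        exact h.symm
      rw [Matrix.mul_assoc, hY' i, ← Matrix.mul_assoc, h0, Matrix.mul_assoc]
    refine ⟨c, ?_⟩
    calc (A i : Matrix (Fin m) (Fin m) F) = G₀ * ((((A i₀)⁻¹ : GL (Fin m) F) : Matrix (Fin m) (Fin m) F) * (A i : Matrix (Fin m) (Fin m) F)) := by
          rw [hG₀, ← Matrix.mul_assoc, Units.mul_inv, Matrix.one_mul]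
      _ = c • G₀ := by rw [hc, Matrix.mul_smul, Matrix.mul_one]
  choose c hc using hprop
  have hdet : G₀.det ≠ 0 := ((Matrix.isUnit_iff_isUnit_det _).mp (A i₀).isUnit).ne_zero
  have hne : G₀ ≠ 0 := (A i₀).ne_zero
  have hgram : G = (∏ i, c i) • pureM fun _ => G₀ := by
    rw [hA, ← pureM_smul]
    simp only [hc]
  have hC : (∏ i, c i) ≠ 0 := Finset.prod_ne_zero_iff.mpr fun i _ h => (A i).ne_zero (by rw [hc i, h, zero_smul])
  set C := ∏ i, c i
  have hsC : σ C ≠ 0 := (map_ne_zero σ).mpr hC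
  haveI : Nonempty ι := ⟨e.symm (fun _ => Classical.arbitrary _)⟩
  have hε0 := hf.eps_ne_zero
  -- transposing
  have hpure : (pureM fun _ : Fin t => G₀.map σ) = pureM fun i => (if i = i₀ then C / (ε * σ C) else 1) • G₀ᵀ := by
    rw [pureM_smul, Fintype.prod_ite_eq']
    ext x y
    have h := hf.gramCoord_swap e B x y
    rw [← hG, hgram] at h
    simp only [Matrix.smul_apply, smul_eq_mul, map_mul, pureM, Matrix.of_apply, map_prod] at h
    simp only [Matrix.smul_apply, smul_eq_mul, pureM, Matrix.of_apply, Matrix.map_apply, Matrix.transpose_apply]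
    rw [div_mul_eq_mul_div, eq_div_iff (mul_ne_zero hε0 hsC)]
    linear_combination -h
  have hn1 : G₀.map σ ≠ 0 := fun h => hne (Matrix.ext fun i j => σ.injective (by simpa using congrFun (congrFun h i) j))
  obtain ⟨i₁, hi₁⟩ : ∃ i₁ : Fin t, i₁ ≠ i₀ := by
    haveI : Nontrivial (Fin t) := Fin.nontrivial_iff_two_le.mpr ht
    exact exists_ne i₀
  obtain ⟨l, hl0, hl⟩ := pureM_unique (fun _ => hn1) hpure i₁
  rw [if_neg hi₁, one_smul] at hl
  have hsw : ∀ i j, G₀ j i = l * σ (G₀ i j) := fun i j => congrFun (congrFun hl i) j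
  obtain ⟨a, b, hab⟩ : ∃ a b, G₀ a b ≠ 0 := by
    by_contra hcon; push Not at hcon; exact hne (Matrix.ext hcon)
  refine ⟨C, G₀, l, hgram, hC, hdet, ?_, hsw, ?_⟩
  · refine (mul_eq_right₀ hab).mp ?_
    have h1 := hsw a b
    have h2 := hsw b a
    rw [h1, map_mul, hf.invol] at h2
    linear_combination -h2
  · have h := hf.gramCoord_swap e B (fun _ => a) (fun _ => b)
    rw [← hG, hgram] at h
    simp only [Matrix.smul_apply, smul_eq_mul, map_mul, pureM, Matrix.of_apply, map_prod, hsw a b, Finset.prod_mul_distrib,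
      Finset.prod_const, Finset.card_univ, Fintype.card_fin] at h
    have hz : (σ (G₀ a b)) ^ t ≠ 0 := pow_ne_zero _ ((map_ne_zero σ).mpr hab)
    refine mul_right_cancel₀ hz ?_
    simp only [map_pow] at h
    linear_combination h

end Cfsg.Agent.Classical
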