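/-
An irreducible group normalising a minimal group that is non-abelian but abelian modulo scalars: the group of
symplectic type, its monomial model, and its forms.
-/
import Cfsg.Agent.Lib.Classical.NormalIn
import Cfsg.Agent.Lib.Classical.Forms
import Cfsg.Agent.Lib.Classical.Subfield
import Cfsg.Agent.Lib.Classical.LinOutcome
import Cfsg.Agent.Lib.Classical.Irreducible

set_option autoImplicit false
set_option linter.style.haveILetI false

namespace Cfsg.Agent.Classical

open Matrix Cfsg.Geo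

variable {ι : Type} [Fintype ι] [DecidableEq ι] {F : Type*} [Field F]

theorem twist_pow_left {a b : Matrix ι ι F} {c : F} (h : b * a = c • (a * b)) (k : ℕ) :
    b ^ k * a = c ^ k • (a * b ^ k) := by
  induction k with
  | zero => simp
  | succ k ih =>
    rw [pow_succ', Matrix.mul_assoc, ih, Matrix.mul_smul, ← Matrix.mul_assoc, h, Matrix.smul_mul, smul_smul,
      Matrix.mul_assoc, ← pow_succ]

theorem twisted_mul_pow {a b : Matrix ι ι F} {c : F} (h : b * a = c • (a * b)) (k : ℕ) :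
    (a * b) ^ k = c ^ k.choose 2 • (a ^ k * b ^ k) := by
  induction k with
  | zero => simp
  | succ k ih =>
    rw [pow_succ, ih, Matrix.smul_mul, ← Matrix.mul_assoc, Matrix.mul_assoc (a ^ k) (b ^ k) a, twist_pow_left h,
      Matrix.mul_smul, Matrix.smul_mul, smul_smul, ← pow_add, ← Matrix.mul_assoc, ← pow_succ, Matrix.mul_assoc,
      ← pow_succ]
    congr 2
    rw [Nat.choose_succ_succ' k 1, Nat.choose_one_right, add_comm]

/-- Distinct characters of a finite group are at most as many as its elements. -/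
theorem card_le_of_injective_hom {X : Type*} [Monoid X] [Finite X] {Y : Type*} [Finite Y] (φ : Y → (X →* F))
    (hφ : Function.Injective φ) : Nat.card Y ≤ Nat.card X := by
  classical
  haveI := Fintype.ofFinite X
  haveI := Fintype.ofFinite Y
  have := ((linearIndependent_monoidHom X F).comp φ hφ).fintype_card_le_finrank
  rwa [Module.finrank_fintype_fun_eq_card, ← Nat.card_eq_fintype_card, ← Nat.card_eq_fintype_card] at this

/-- The scalar `c • 1` as an invertible matrix. -/
def scalarGL (ι : Type) [Fintype ι] [DecidableEq ι] (F : Type*) [Field F] : Fˣ →* GL ι F :=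
  Units.map (Matrix.scalar ι : F →+* Matrix ι ι F).toMonoidHom

theorem scalarGL_coe (c : Fˣ) : (scalarGL ι F c : Matrix ι ι F) = (c : F) • (1 : Matrix ι ι F) := by
  simp [scalarGL, Matrix.smul_one_eq_diagonal]

theorem scalarGL_injective [Nonempty ι] : Function.Injective (scalarGL ι F) := fun a b h => by
  obtain ⟨i⟩ := ‹Nonempty ι›
  have := congrFun (congrFun (congrArg (fun g : GL ι F => (g : Matrix ι ι F)) h) i) i
  simp only [scalarGL_coe, Matrix.smul_apply, Matrix.one_apply_eq, smul_eq_mul, mul_one] at this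
  exact Units.ext this

theorem scalarGL_mem (c : Fˣ) : scalarGL ι F c ∈ scalars ι F := ⟨c, rfl⟩

/-- The twist of a pair of matrices which commute up to a scalar. -/
structure IsTwist (x y : GL ι F) (c : F) : Prop where
  eq : (x : Matrix ι ι F) * (y : Matrix ι ι F) = c • ((y : Matrix ι ι F) * (x : Matrix ι ι F))

theorem IsTwist.unique {x y : GL ι F} [Nonempty ι] {c d : F} (h1 : IsTwist x y c) (h2 : IsTwist x y d) : c = d :=
  smul_left_injective F (show ((y : Matrix ι ι F) * (x : Matrix ι ι F)) ≠ 0 by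
    rw [← Units.val_mul]; exact Units.ne_zero _) (h1.eq.symm.trans h2.eq)

theorem exists_twist {x y : GL ι F} (h : x * y * x⁻¹ * y⁻¹ ∈ scalars ι F) : ∃ c : Fˣ, IsTwist x y (c : F) := by
  obtain ⟨c, hc⟩ := (mem_scalars_iff _).mp h
  exact ⟨c, ⟨coe_mul_comm_of_scalar hc⟩⟩

theorem IsTwist.mul_right {x y z : GL ι F} {c d : F} (h1 : IsTwist x y c) (h2 : IsTwist x z d) :
    IsTwist x (y * z) (c * d) := ⟨by
  rw [Units.val_mul, ← Matrix.mul_assoc, h1.eq, Matrix.smul_mul, Matrix.mul_assoc, h2.eq, Matrix.mul_smul, smul_smul,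
    ← Matrix.mul_assoc]⟩

theorem IsTwist.mul_left {x y z : GL ι F} {c d : F} (h1 : IsTwist x z c) (h2 : IsTwist y z d) :
    IsTwist (x * y) z (c * d) := ⟨by
  rw [Units.val_mul, Matrix.mul_assoc, h2.eq, Matrix.mul_smul, ← Matrix.mul_assoc, h1.eq, Matrix.smul_mul, smul_smul,
    Matrix.mul_assoc, mul_comm d]⟩

theorem IsTwist.pow_eq_one [Nonempty ι] {x y : GL ι F} {c : F} (h : IsTwist x y c) {r : ℕ}
    (hr : x ^ r ∈ scalars ι F) : c ^ r = 1 := by
  obtain ⟨l, hl⟩ := (mem_scalars_iff _).mp hr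
  rw [Units.val_pow_eq_pow_val] at hl
  have e := twist_pow_left h.eq r
  rw [hl, Matrix.smul_mul, Matrix.one_mul, Matrix.mul_smul, Matrix.mul_one, smul_smul] at e
  exact (mul_eq_right₀ l.ne_zero).mp (smul_left_injective F (Units.ne_zero y) e).symm

/-- A group of symplectic type with centre `scalars`, of exponent dividing `N`. -/
structure SymplecticModel (H R : Subgroup (GL ι F)) (r N : ℕ) : Prop where
  prime : r.Prime
  N_eq : N = r * Nat.gcd 2 r
  r_ne : (r : F) ≠ 0
  normal : NormalIn H R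
  absIrred : ActsAbsolutelyIrreducibly (matrixSet R)
  mem_scalar : ∀ c : Fˣ, c ^ N = 1 → scalarGL ι F c ∈ R
  pow_eq : ∀ g ∈ R, g ^ N = 1
  pow_r : ∀ g ∈ R, g ^ r ∈ scalars ι F
  comm : ∀ g ∈ R, ∀ h ∈ R, g * h * g⁻¹ * h⁻¹ ∈ scalars ι F
  nonabelian : ∃ g ∈ R, ∃ h ∈ R, g * h ≠ h * g
  prim : ∃ ω : F, IsPrimitiveRoot ω r
  char_cyclic : ∀ A : Subgroup R, A.Characteristic → IsMulCommutative A → IsCyclic A

theorem exists_symplecticModel' [Finite F] [Nonempty ι] {H M : Subgroup (GL ι F)} (hn : NormalIn H M)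
    (hM : ActsAbsolutelyIrreducibly (matrixSet M)) (hne : ∃ x ∈ M, ∃ y ∈ M, x * y ≠ y * x)
    (hcomm : ∀ x ∈ M, ∀ y ∈ M, x * y * x⁻¹ * y⁻¹ ∈ scalars ι F)
    (hmin : ∀ A : Subgroup (GL ι F), A ≤ M → NormalIn H A → M ⊓ scalars ι F ≤ A → ¬ A ≤ scalars ι F → A = M) :
    ∃ R r N, SymplecticModel H R r N ∧ R ≤ M ⊔ scalars ι F := by
  classical
  haveI := Fintype.ofFinite F
  obtain ⟨x₀, hx₀, y₀, hy₀, hxy₀⟩ := hne
  let π := QuotientGroup.mk' (scalars ι F)
  have hπ1 : ∀ g, π g = 1 ↔ g ∈ scalars ι F := fun g => QuotientGroup.eq_one_iff g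
  have hπc : ∀ x ∈ M, ∀ y ∈ M, Commute (π x) (π y) := fun x hx y hy => by
    rw [← commutatorElement_eq_one_iff_commute, ← map_commutatorElement, hπ1]
    exact hcomm x hx y hy
  -- the prime
  obtain ⟨r, hr, x₁, hx₁, hx₁r, hx₁s⟩ : ∃ r : ℕ, r.Prime ∧ ∃ x ∈ M, x ^ r ∈ scalars ι F ∧ x ∉ scalars ι F := by
    have hxs : x₀ ∉ scalars ι F := fun h => hxy₀ (scalars_commute h y₀)
    have hord : orderOf (π x₀) ≠ 1 := fun h => hxs ((hπ1 _).mp (orderOf_eq_one_iff.mp h))
    obtain ⟨r, hr, hrd⟩ := Nat.exists_prime_and_dvd hord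
    obtain ⟨s, hs⟩ := hrd
    refine ⟨r, hr, x₀ ^ s, pow_mem hx₀ s, ?_, fun h => ?_⟩
    · rw [← hπ1, map_pow, map_pow, ← pow_mul, mul_comm, ← hs, pow_orderOf_eq_one]
    · rw [← hπ1, map_pow] at h
      have hpos := (isOfFinOrder_of_finite (π x₀)).orderOf_pos
      have h2 := Nat.le_of_dvd (Nat.pos_of_ne_zero fun e => by rw [e, mul_zero] at hs; omega) (orderOf_dvd_of_pow_eq_one h)
      rw [hs] at h2
      have := hr.two_le
      have hs0 : 0 < s := Nat.pos_of_ne_zero fun e => by rw [e, mul_zero] at hs; omega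
      nlinarith
  have hpowr : ∀ g ∈ M, g ^ r ∈ scalars ι F := by
    let A : Subgroup (GL ι F) :=
      { carrier := {g | g ∈ M ∧ g ^ r ∈ scalars ι F}
        one_mem' := ⟨one_mem M, by rw [one_pow]; exact one_mem _⟩
        mul_mem' := by
          rintro a b ⟨ha, ha'⟩ ⟨hb, hb'⟩
          refine ⟨mul_mem ha hb, ?_⟩
          rw [← hπ1, map_pow, map_mul, (hπc a ha b hb).mul_pow, ← map_pow, ← map_pow, (hπ1 _).mpr ha', (hπ1 _).mpr hb',
            one_mul]
        inv_mem' := by
          rintro a ⟨ha, ha'⟩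
          exact ⟨inv_mem ha, by rw [inv_pow]; exact inv_mem ha'⟩ }
    have hA : A = M := hmin A (fun g hg => hg.1) (fun h hh g hg => ⟨hn h hh g hg.1, by
      rw [conj_pow]; exact (inferInstance : (scalars ι F).Normal).conj_mem _ hg.2 h⟩)
      (fun g hg => ⟨hg.1, pow_mem hg.2 r⟩) (fun h => hx₁s (h ⟨hx₁, hx₁r⟩))
    intro g hg
    rw [← hA] at hg
    exact hg.2
  have htw : ∀ x ∈ M, ∀ y ∈ M, ∃ c : Fˣ, IsTwist x y (c : F) ∧ (c : F) ^ r = 1 := fun x hx y hy => by
    obtain ⟨c, hc⟩ := exists_twist (hcomm x hx y hy)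
    exact ⟨c, hc, hc.pow_eq_one (hpowr x hx)⟩
  obtain ⟨ω, hω⟩ : ∃ ω : F, IsPrimitiveRoot ω r := by
    obtain ⟨c, hc, hcr⟩ := htw x₀ hx₀ y₀ hy₀
    haveI : Fact r.Prime := ⟨hr⟩
    refine ⟨c, IsPrimitiveRoot.iff_orderOf.mpr (orderOf_eq_prime hcr fun h1 => hxy₀ (Units.ext ?_))⟩
    simpa [h1] using hc.eq
  have hrF : (r : F) ≠ 0 := fun h0 => by
    haveI : CharP F r := (CharP.charP_iff_prime_eq_zero hr).mpr h0
    haveI : Fact r.Prime := ⟨hr⟩
    apply hω.ne_one hr.one_lt
    have : (ω - 1) ^ r = 0 := by rw [sub_pow_char, hω.pow_eq_one, one_pow, sub_self]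
    exact sub_eq_zero.mp (eq_zero_of_pow_eq_zero this)
  set N := r * Nat.gcd 2 r with hN
  have hNr : r ∣ N := Dvd.intro _ rfl
  -- choosing representatives with `g ^ N = 1`
  let lam : M → Fˣ := fun g => ((mem_scalars_iff _).mp (hpowr g g.2)).choose
  have hlam : ∀ g : M, ((g : GL ι F) : Matrix ι ι F) ^ r = (lam g : F) • (1 : Matrix ι ι F) := fun g => by
    rw [← Units.val_pow_eq_pow_val]
    exact ((mem_scalars_iff _).mp (hpowr g g.2)).choose_spec
  have hsc : ∀ a b : F, a • (1 : Matrix ι ι F) = b • 1 → a = b := fun a b h => by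
    obtain ⟨i⟩ := ‹Nonempty ι›
    simpa using congrFun (congrFun h i) i
  let K : Subgroup Fˣ := (powMonoidHom r).range ⊔ Subgroup.zpowers (-1)
  have hsign : ∀ c : Fˣ, (c : F) ^ r = 1 → c ^ r.choose 2 ∈ Subgroup.zpowers (-1 : Fˣ) := by
    intro c hc
    rcases hr.eq_two_or_odd' with h2 | hodd
    · rw [h2, Nat.choose_self, pow_one]
      rw [h2] at hc
      rcases sq_eq_one_iff.mp hc with h | h
      · rw [show c = 1 from Units.ext h]; exact one_mem _
      · rw [show c = -1 from Units.ext (by rw [h, Units.val_neg, Units.val_one])]; exact Subgroup.mem_zpowers _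
    · obtain ⟨k, hk⟩ := hodd
      have : r ∣ r.choose 2 := hr.dvd_choose_self two_ne_zero (by have := hr.two_le; omega)
      obtain ⟨j, hj⟩ := this
      rw [hj, pow_mul, show c ^ r = 1 from Units.ext (by simpa using hc), one_pow]
      exact one_mem _
  let ψ : M →* Fˣ ⧸ K := MonoidHom.mk' (fun g => QuotientGroup.mk (lam g)) fun g h => by
    obtain ⟨c, hc, hcr⟩ := htw h h.2 g g.2
    have e := twisted_mul_pow hc.eq r
    rw [hlam g, hlam h, Matrix.smul_mul, Matrix.one_mul, smul_smul, smul_smul] at e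
    have e2 : lam (g * h) = c ^ r.choose 2 * lam g * lam h := Units.ext (hsc _ _ (by
      rw [← hlam, Subgroup.coe_mul, Units.val_mul, e]; simp [mul_assoc]))
    rw [e2, QuotientGroup.mk_mul, QuotientGroup.mk_mul,
      (QuotientGroup.eq_one_iff _).mpr (Subgroup.mem_sup_right (hsign c hcr)), one_mul]
  let A₁ : Subgroup (GL ι F) := ψ.ker.map M.subtype
  have hA₁ : A₁ = M := by
    refine hmin A₁ (Subgroup.map_subtype_le _) ?_ ?_ ?_
    · rintro h hh _ ⟨g, hg, rfl⟩
      refine ⟨⟨h * g * h⁻¹, hn h hh g g.2⟩, ?_, rfl⟩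
      have : lam ⟨h * g * h⁻¹, hn h hh g g.2⟩ = lam g := Units.ext (hsc _ _ (by
        rw [← hlam, Units.val_mul, Units.val_mul, Units.conj_pow, hlam g, Matrix.mul_smul, Matrix.mul_one, Matrix.smul_mul,
          Units.mul_inv]))
      simpa [MonoidHom.mem_ker, ψ, this] using hg
    · rintro g ⟨hg, hgs⟩
      obtain ⟨l, hl⟩ := (mem_scalars_iff g).mp hgs
      refine ⟨⟨g, hg⟩, ?_, rfl⟩
      have : lam ⟨g, hg⟩ = l ^ r := Units.ext (hsc _ _ (by
        rw [← hlam]; simp [hl, smul_pow]))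
      change (QuotientGroup.mk (lam ⟨g, hg⟩) : Fˣ ⧸ K) = 1
      rw [this, QuotientGroup.eq_one_iff]
      exact Subgroup.mem_sup_left ⟨l, rfl⟩
    · intro hle
      apply hxy₀
      have hker : ψ.ker ≤ Subgroup.center M := fun g hg => Subgroup.mem_center_iff.mpr fun w =>
        Subtype.ext (scalars_commute (hle ⟨g, hg, rfl⟩) w).symm
      exact congrArg Subtype.val ((MonoidHom.isMulCommutative_of_isCyclic_of_ker_le_center ψ hker).is_comm.comm ⟨x₀, hx₀⟩ ⟨y₀, hy₀⟩)
  have hgood : ∀ g ∈ M, ∃ μ : Fˣ, (g * (scalarGL ι F μ)⁻¹) ^ N = 1 := by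
    intro g hg
    obtain ⟨g', hg', rfl⟩ : g ∈ A₁ := hA₁.symm ▸ hg
    have hK : lam g' ∈ K := (QuotientGroup.eq_one_iff _).mp hg'
    rw [Subgroup.mem_sup] at hK
    obtain ⟨_, ⟨μ, rfl⟩, s, hs, e⟩ := hK
    obtain ⟨i, hi⟩ := Subgroup.mem_zpowers_iff.mp hs
    have hs2 : s ^ 2 = 1 := by
      rw [← hi, ← zpow_natCast, ← _root_.zpow_mul, mul_comm, _root_.zpow_mul, zpow_natCast, neg_one_sq, _root_.one_zpow]
    obtain ⟨u, hu⟩ : ∃ u : Fˣ, s ^ Nat.gcd 2 r = (u ^ r) ^ Nat.gcd 2 r := by
      rcases hr.eq_two_or_odd' with h2 | hodd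
      · refine ⟨1, ?_⟩
        rw [h2, Nat.gcd_self, hs2, one_pow, one_pow]
      · refine ⟨s, ?_⟩
        obtain ⟨k, hk⟩ := hodd
        rw [hk, pow_succ, pow_mul, hs2, one_pow, one_mul]
    refine ⟨μ * u, ?_⟩
    have hl : (g' : GL ι F) ^ r = scalarGL ι F (lam g') := Units.ext (by
      rw [Units.val_pow_eq_pow_val, hlam, scalarGL_coe])
    have hcm : Commute (g' : GL ι F) (scalarGL ι F (μ * u))⁻¹ :=
      ((scalars_commute (inv_mem (scalarGL_mem (ι := ι) (μ * u))) (g' : GL ι F))).symm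
    rw [M.subtype_apply, hcm.mul_pow, hN, pow_mul, hl, ← map_inv, ← map_pow, ← map_pow, ← map_mul]
    convert map_one (scalarGL ι F)
    rw [← e, powMonoidHom_apply, mul_pow, hu, inv_pow, mul_pow, pow_mul, pow_mul, mul_inv_cancel]
  -- the group R
  have hsup : ∀ g, g ∈ M ⊔ scalars ι F → ∃ m ∈ M, ∃ z ∈ scalars ι F, g = m * z := fun g hg => by
    obtain ⟨m, hm, z, hz, e⟩ := Subgroup.mem_sup_of_normal_right.mp hg
    exact ⟨m, hm, z, hz, e.symm⟩
  have hsupcomm : ∀ g ∈ M ⊔ scalars ι F, ∀ h ∈ M ⊔ scalars ι F, g * h * g⁻¹ * h⁻¹ ∈ scalars ι F := by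
    intro g hg h hh
    obtain ⟨a, ha, z, hz, rfl⟩ := hsup g hg
    obtain ⟨b, hb, w, hw, rfl⟩ := hsup h hh
    rw [← hπ1]
    simp only [map_mul, map_inv, (hπ1 z).mpr hz, (hπ1 w).mpr hw, mul_one]
    rw [← map_inv, ← map_inv, ← map_mul, ← map_mul, ← map_mul, hπ1]
    exact hcomm a ha b hb
  have hsupr : ∀ g ∈ M ⊔ scalars ι F, g ^ r ∈ scalars ι F := by
    intro g hg
    obtain ⟨a, ha, z, hz, rfl⟩ := hsup g hg
    rw [← hπ1, map_pow, map_mul, (hπ1 z).mpr hz, mul_one, ← map_pow, hπ1]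
    exact hpowr a ha
  let R : Subgroup (GL ι F) :=
    { carrier := {g | g ∈ M ⊔ scalars ι F ∧ g ^ N = 1}
      one_mem' := ⟨one_mem _, one_pow N⟩
      mul_mem' := by
        rintro a b ⟨ha, ha'⟩ ⟨hb, hb'⟩
        refine ⟨mul_mem ha hb, Units.ext ?_⟩
        obtain ⟨c, hc⟩ := exists_twist (hsupcomm b hb a ha)
        have hcr := hc.pow_eq_one (hsupr b hb)
        rw [Units.val_pow_eq_pow_val, Units.val_mul, twisted_mul_pow hc.eq, ← Units.val_pow_eq_pow_val a,
          ← Units.val_pow_eq_pow_val b, ha', hb', Units.val_one, Matrix.one_mul]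
        have : r ∣ N.choose 2 := by
          rcases hr.eq_two_or_odd' with h2 | hodd
          · rw [hN, h2]; decide
          · have : Nat.gcd 2 r = 1 := Nat.coprime_two_left.mpr hodd
            rw [hN, this, mul_one]
            obtain ⟨k, hk⟩ := hodd
            exact hr.dvd_choose_self two_ne_zero (by have := hr.two_le; omega)
        obtain ⟨j, hj⟩ := this
        rw [hj, pow_mul, hcr, one_pow, one_smul]
      inv_mem' := by
        rintro a ⟨ha, ha'⟩
        exact ⟨inv_mem ha, by rw [inv_pow, ha', inv_one]⟩ }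
  have hMR : ∀ g ∈ M, ∃ z ∈ scalars ι F, g * z ∈ R := fun g hg => by
    obtain ⟨μ, hμ⟩ := hgood g hg
    exact ⟨(scalarGL ι F μ)⁻¹, inv_mem (scalarGL_mem μ),
      mul_mem (Subgroup.mem_sup_left hg) (Subgroup.mem_sup_right (inv_mem (scalarGL_mem μ))), hμ⟩
  have hnR : NormalIn H R := fun h hh g hg => ⟨(hn.sup normalIn_of_normal) h hh g hg.1, by rw [conj_pow, hg.2]; group⟩
  have hirr : ActsAbsolutelyIrreducibly (matrixSet R) := by
    refine ⟨fun W hW => hM.1 W ?_, fun X hX => hM.2 X ?_⟩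
    · rintro _ ⟨g, hg, rfl⟩
      obtain ⟨z, hz, hzR⟩ := hMR g hg
      obtain ⟨c, hc⟩ := (mem_scalars_iff z).mp hz
      refine map_toLin'_le.mpr fun w hw => ?_
      have := map_toLin'_le.mp (hW _ (coe_mem_matrixSet hzR)) w hw
      rw [Units.val_mul, hc, Matrix.mul_smul, Matrix.mul_one, Matrix.smul_mulVec] at this
      have := W.smul_mem (c : F)⁻¹ this
      rwa [smul_smul, inv_mul_cancel₀ c.ne_zero, one_smul] at this
    · rintro _ ⟨g, hg, rfl⟩
      obtain ⟨z, hz, hzR⟩ := hMR g hg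
      obtain ⟨c, hc⟩ := (mem_scalars_iff z).mp hz
      have := hX _ (coe_mem_matrixSet hzR)
      rw [Units.val_mul, hc, Matrix.mul_smul, Matrix.mul_one, Matrix.mul_smul, Matrix.smul_mul] at this
      exact smul_right_injective (Matrix ι ι F) c.ne_zero this
  refine ⟨R, r, N, ⟨hr, hN, hrF, hnR, hirr,
    fun c hc => ⟨Subgroup.mem_sup_right (scalarGL_mem c), by rw [← map_pow, hc, map_one]⟩,
    fun g hg => hg.2, fun g hg => hsupr g hg.1, fun g hg h hh => hsupcomm g hg.1 h hh.1, ?_, ⟨ω, hω⟩, ?_⟩, fun g hg => hg.1⟩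
  · obtain ⟨z, hz, hzR⟩ := hMR x₀ hx₀
    obtain ⟨w, hw, hwR⟩ := hMR y₀ hy₀
    refine ⟨_, hzR, _, hwR, fun e => hxy₀ (mul_right_cancel (b := z * w) ?_)⟩
    calc x₀ * y₀ * (z * w) = x₀ * z * (y₀ * w) := by rw [mul_assoc x₀ z, ← mul_assoc z, scalars_commute hz y₀]; group
      _ = y₀ * w * (x₀ * z) := e
      _ = y₀ * x₀ * (z * w) := by rw [mul_assoc y₀ w, ← mul_assoc w, scalars_commute hw x₀, scalars_commute hz w]; group
  · intro A hA hAc
    let A' := A.map R.subtype
    have hA'n : NormalIn H A' := by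
      rintro h hh _ ⟨a, ha, rfl⟩
      let φ : R ≃* R :=
        { toFun := fun g => ⟨h * g * h⁻¹, hnR h hh g g.2⟩
          invFun := fun g => ⟨h⁻¹ * g * h, by simpa using hnR h⁻¹ (inv_mem hh) g g.2⟩
          left_inv := fun g => Subtype.ext (by simp [mul_assoc])
          right_inv := fun g => Subtype.ext (by simp [mul_assoc])
          map_mul' := fun g g' => Subtype.ext (by simp [mul_assoc]) }
      refine ⟨φ a, ?_, rfl⟩
      rw [← Subgroup.characteristic_iff_map_eq.mp hA φ]
      exact ⟨a, ha, rfl⟩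
    have hA'c : ∀ a ∈ A', ∀ b ∈ A', a * b = b * a := by
      rintro _ ⟨a, ha, rfl⟩ _ ⟨b, hb, rfl⟩
      exact congrArg (fun z : A => ((z : R) : GL ι F)) (hAc.is_comm.comm ⟨a, ha⟩ ⟨b, hb⟩)
    have hB : (A' ⊔ scalars ι F) ⊓ M ≤ scalars ι F := by
      by_contra hcon
      have e := hmin _ inf_le_right ((hA'n.sup normalIn_of_normal).inf hn)
        (le_inf (inf_le_right.trans le_sup_right) inf_le_left) hcon
      have hab : ∀ x ∈ M, ∃ a ∈ A', ∃ z ∈ scalars ι F, x = a * z := fun x hx => by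
        rw [← e] at hx
        obtain ⟨a, ha, z, hz, e'⟩ := Subgroup.mem_sup_of_normal_right.mp hx.1
        exact ⟨a, ha, z, hz, e'.symm⟩
      obtain ⟨a, ha, z, hz, ea⟩ := hab x₀ hx₀
      obtain ⟨b, hb, w, hw, eb⟩ := hab y₀ hy₀
      apply hxy₀
      rw [ea, eb, mul_assoc a z, ← mul_assoc z, scalars_commute hz b, mul_assoc b z, ← mul_assoc a b, hA'c a ha b hb,
        mul_assoc b w, ← mul_assoc w, scalars_commute hw a, scalars_commute hz w]
      group
    have hAs : A' ≤ scalars ι F := by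
      intro a ha
      have haR : a ∈ R := Subgroup.map_subtype_le A ha
      obtain ⟨m, hm, z, hz, rfl⟩ := hsup a haR.1
      refine mul_mem (hB ⟨?_, hm⟩) hz
      simpa using mul_mem (Subgroup.mem_sup_left (T := scalars ι F) ha) (Subgroup.mem_sup_right (inv_mem hz))
    haveI : IsCyclic ((scalarGL ι F).range) :=
      isCyclic_of_surjective (scalarGL ι F).rangeRestrict (scalarGL ι F).rangeRestrict_surjective
    haveI : IsCyclic (scalars ι F) := ‹IsCyclic ((scalarGL ι F).range)›
    exact isCyclic_of_injective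
      ((Subgroup.inclusion hAs).comp (A.equivMapOfInjective R.subtype R.subtype_injective).toMonoidHom)
      ((Subgroup.inclusion_injective hAs).comp (A.equivMapOfInjective R.subtype R.subtype_injective).injective)

theorem exists_symplecticModel [Finite F] [Nonempty ι] {H M : Subgroup (GL ι F)} (hn : NormalIn H M)
    (hM : ActsAbsolutelyIrreducibly (matrixSet M)) (hne : ∃ x ∈ M, ∃ y ∈ M, x * y ≠ y * x)
    (hcomm : ∀ x ∈ M, ∀ y ∈ M, x * y * x⁻¹ * y⁻¹ ∈ scalars ι F)
    (hmin : ∀ A : Subgroup (GL ι F), A ≤ M → NormalIn H A → M ⊓ scalars ι F ≤ A → ¬ A ≤ scalars ι F → A = M) :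
    ∃ R r N, SymplecticModel H R r N := by
  obtain ⟨R, r, N, h, -⟩ := exists_symplecticModel' hn hM hne hcomm hmin
  exact ⟨R, r, N, h⟩

/-- An abelian self-centralising subgroup and the index of the centre, for a nonabelian group of prime power
order whose commutators are scalars. -/
theorem exists_maximal_abelian_of [Finite F] [Nonempty ι] {R : Subgroup (GL ι F)} {r : ℕ} (hrp : r.Prime)
    (hpR : IsPGroup r R) (hcomm : ∀ g ∈ R, ∀ h ∈ R, g * h * g⁻¹ * h⁻¹ ∈ scalars ι F)
    (hnab : ∃ g ∈ R, ∃ h ∈ R, g * h ≠ h * g) :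
    ∃ (A : Subgroup R) (k : ℕ), (∀ a ∈ A, ∀ b ∈ A, a * b = b * a) ∧ (∀ g : R, (∀ a ∈ A, g * a = a * g) → g ∈ A) ∧
      1 ≤ k ∧ Nat.card R = Nat.card (Subgroup.center R) * r ^ (2 * k) ∧ A.index = r ^ k := by
  classical
  haveI : Fact r.Prime := ⟨hrp⟩
  obtain ⟨A, ⟨hAc, hAz⟩, hAmax⟩ := Set.Finite.exists_maximal
    (Set.toFinite {A : Subgroup R | (∀ a ∈ A, ∀ b ∈ A, a * b = b * a) ∧ Subgroup.center R ≤ A})
    ⟨Subgroup.center R, fun a ha b _ => (Subgroup.mem_center_iff.mp ha b).symm, le_rfl⟩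
  have hself : ∀ g : R, (∀ a ∈ A, g * a = a * g) → g ∈ A := by
    intro g hg
    have hle : A ⊔ Subgroup.zpowers g ≤ Subgroup.centralizer ((A ⊔ Subgroup.zpowers g : Subgroup R) : Set R) := by
      have h0 : A ⊔ Subgroup.zpowers g = Subgroup.closure ((A : Set R) ∪ {g}) := by
        rw [Subgroup.closure_union, Subgroup.closure_eq, Subgroup.zpowers_eq_closure]
      rw [h0, Subgroup.closure_le, Subgroup.centralizer_closure]
      intro a ha
      rw [SetLike.mem_coe, Subgroup.mem_centralizer_iff]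
      rintro b (hb | rfl) <;> rcases ha with ha | rfl
      · exact hAc b hb a ha
      · exact (hg b hb).symm
      · exact hg a ha
      · rfl
    have := hAmax ⟨fun a ha b hb => (Subgroup.mem_centralizer_iff.mp (hle hb) a ha), hAz.trans le_sup_left⟩ le_sup_left
    exact this (Subgroup.mem_sup_right (Subgroup.mem_zpowers g))
  have htw : ∀ g h : R, ∃ c : Fˣ, IsTwist (g : GL ι F) (h : GL ι F) (c : F) := fun g h =>
    exists_twist (hcomm g g.2 h h.2)
  choose κ hκ using htw
  have hone : ∀ g h : R, κ g h = 1 ↔ g * h = h * g := fun g h => by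
    constructor
    · intro e
      have := (hκ g h).eq
      rw [e, Units.val_one, one_smul] at this
      exact Subtype.ext (Units.ext this)
    · intro e
      refine Units.ext ((hκ g h).unique ⟨?_⟩)
      rw [Units.val_one, one_smul, ← Units.val_mul, ← Units.val_mul]
      exact congrArg (fun z : R => ((z : GL ι F) : Matrix ι ι F)) e
  have hmulr : ∀ g h h', κ g (h * h') = κ g h * κ g h' := fun g h h' =>
    Units.ext ((hκ g (h * h')).unique (by simpa using (hκ g h).mul_right (hκ g h')))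
  have hmull : ∀ g g' h, κ (g * g') h = κ g h * κ g' h := fun g g' h =>
    Units.ext ((hκ (g * g') h).unique (by simpa using (hκ g h).mul_left (hκ g' h)))
  let β : R →* (A →* Fˣ) := MonoidHom.mk' (fun g => MonoidHom.mk' (fun a => κ g a) fun a b => hmulr g a b)
    fun g g' => MonoidHom.ext fun a => hmull g g' a
  have hβker : β.ker = A := by
    ext g
    constructor
    · intro hg
      exact hself g fun a ha => (hone g a).mp (DFunLike.congr_fun hg ⟨a, ha⟩)
    · intro hg
      exact MonoidHom.ext fun a => (hone g a).mpr (hAc g hg a a.2)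
  haveI : Finite β.range := Finite.of_surjective β.rangeRestrict β.rangeRestrict_surjective
  let ev : A →* (β.range →* Fˣ) := MonoidHom.mk' (fun a => MonoidHom.mk' (fun b => (b : A →* Fˣ) a) fun b b' => rfl)
    fun a a' => MonoidHom.ext fun b => map_mul (b : A →* Fˣ) a a'
  haveI : Finite ev.range := Finite.of_surjective ev.rangeRestrict ev.rangeRestrict_surjective
  have hevker : ev.ker = (Subgroup.center R).subgroupOf A := by
    ext a
    rw [Subgroup.mem_subgroupOf, MonoidHom.mem_ker, Subgroup.mem_center_iff]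
    constructor
    · intro h g
      exact (hone g a).mp (DFunLike.congr_fun h ⟨β g, g, rfl⟩)
    · intro h
      refine MonoidHom.ext fun b => ?_
      obtain ⟨_, g, rfl⟩ := b
      exact (hone g a).mpr (h g)
  have hle1 : Nat.card ev.range ≤ Nat.card β.range :=
    card_le_of_injective_hom (F := F) (fun e => (Units.coeHom F).comp (e : β.range →* Fˣ)) fun e e' h =>
      Subtype.ext (MonoidHom.ext fun b => Units.ext (DFunLike.congr_fun h b))
  have hle2 : Nat.card β.range ≤ Nat.card ev.range :=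
    card_le_of_injective_hom (F := F)
      (fun b => (Units.coeHom F).comp (MonoidHom.mk' (fun e : ev.range => (e : β.range →* Fˣ) b) fun e e' => rfl))
      fun b b' h => Subtype.ext (MonoidHom.ext fun a => Units.ext
        (show (((⟨ev a, a, rfl⟩ : ev.range) : β.range →* Fˣ) b : F) = (((⟨ev a, a, rfl⟩ : ev.range) : β.range →* Fˣ) b' : F)
          from DFunLike.congr_fun h (⟨ev a, a, rfl⟩ : ev.range)))
  have hA1 : A.index = Nat.card β.range := (congrArg Subgroup.index hβker.symm).trans (Subgroup.index_ker β)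
  have hA2 : Nat.card A = Nat.card (Subgroup.center R) * Nat.card ev.range := by
    rw [← Subgroup.index_ker ev, hevker, ← Nat.card_congr (Subgroup.subgroupOfEquivOfLe hAz).toEquiv,
      Subgroup.card_mul_index]
  obtain ⟨k, hk⟩ := (IsPGroup.iff_card (p := r)).mp (hpR.of_surjective β.rangeRestrict β.rangeRestrict_surjective)
  refine ⟨A, k, hAc, hself, ?_, ?_, hA1.trans hk⟩
  · by_contra hk0
    obtain ⟨g, hg, h, hh, hgh⟩ := hnab
    apply hgh
    have hAtop : A = ⊤ := Subgroup.index_eq_one.mp (by rw [hA1, hk, show k = 0 by omega, pow_zero])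
    exact congrArg Subtype.val (hAc ⟨g, hg⟩ (hAtop ▸ Subgroup.mem_top _) ⟨h, hh⟩ (hAtop ▸ Subgroup.mem_top _))
  · rw [← A.card_mul_index, hA2, hA1, le_antisymm hle1 hle2, hk, mul_assoc, ← pow_add, two_mul]

namespace SymplecticModel

variable {H R : Subgroup (GL ι F)} {r N : ℕ}

theorem N_pos (hR : SymplecticModel H R r N) : 0 < N := by
  rw [hR.N_eq]
  exact Nat.mul_pos hR.prime.pos (Nat.gcd_pos_of_pos_left _ two_pos)

theorem isPGroup (hR : SymplecticModel H R r N) : IsPGroup r R := fun g => ⟨2, Subtype.ext (by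
  rw [Subgroup.coe_pow, Subgroup.coe_one]
  obtain ⟨j, hj⟩ : N ∣ r ^ 2 := by
    rw [hR.N_eq, sq]
    exact mul_dvd_mul_left r (Nat.gcd_dvd_right 2 r)
  rw [hj, pow_mul, hR.pow_eq g g.2, one_pow])⟩

theorem center_map [Nonempty ι] (hR : SymplecticModel H R r N) :
    (Subgroup.center R).map R.subtype = ((powMonoidHom N : Fˣ →* Fˣ).ker).map (scalarGL ι F) := by
  ext g
  constructor
  · rintro ⟨⟨g, hg⟩, hgc, rfl⟩
    have hs := mem_scalars_of_absIrr hR.absIrred fun w hw =>
      (congrArg Subtype.val (Subgroup.mem_center_iff.mp hgc ⟨w, hw⟩)).symm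
    obtain ⟨c, hc⟩ := hs
    refine ⟨c, ?_, hc⟩
    have h1 : (scalarGL ι F c) ^ N = 1 := by
      rw [show scalarGL ι F c = g from hc]; exact hR.pow_eq g hg
    rw [← map_pow] at h1
    exact MonoidHom.mem_ker.mpr (scalarGL_injective (h1.trans (map_one _).symm))
  · rintro ⟨c, hc, rfl⟩
    exact ⟨⟨_, hR.mem_scalar c hc⟩, Subgroup.mem_center_iff.mpr fun w =>
      Subtype.ext (scalars_commute (scalarGL_mem (ι := ι) c) (w : GL ι F)).symm, rfl⟩

theorem card_center [Fintype F] [Nonempty ι] (hR : SymplecticModel H R r N) :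
    Nat.card (Subgroup.center R) = (Fintype.card F - 1).gcd N := by
  calc Nat.card (Subgroup.center R) = Nat.card ↥((Subgroup.center R).map R.subtype) :=
        Nat.card_congr ((Subgroup.center R).equivMapOfInjective _ R.subtype_injective).toEquiv
    _ = Nat.card ↥((powMonoidHom N : Fˣ →* Fˣ).ker) := by
        rw [hR.center_map]
        exact (Nat.card_congr (((powMonoidHom N : Fˣ →* Fˣ).ker).equivMapOfInjective _ scalarGL_injective).toEquiv).symm
    _ = _ := by rw [IsCyclic.card_powMonoidHom_ker, Nat.card_units, Nat.card_eq_fintype_card]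

theorem isSymplecticType (hR : SymplecticModel H R r N) : IsSymplecticTypeGroup r R := by
  refine ⟨hR.prime, hR.isPGroup, hR.char_cyclic, ?_⟩
  obtain ⟨g, hg, h, hh, hgh⟩ := hR.nonabelian
  have hdvd : Monoid.exponent R ∣ N := Monoid.exponent_dvd_of_forall_pow_eq_one fun x => Subtype.ext (by
    simpa using hR.pow_eq x x.2)
  rw [← hR.N_eq]
  rcases hR.prime.eq_two_or_odd' with h2 | hodd
  · have hN4 : N = 4 := by rw [hR.N_eq, h2]; rfl
    rw [hN4] at hdvd ⊢
    have hle := Nat.le_of_dvd (by norm_num) hdvd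
    by_contra hne
    have hsq : ∀ x : R, x * x = 1 := fun x => by
      have h2d : Monoid.exponent R ∣ 2 := by
        interval_cases hE : Monoid.exponent R <;> simp_all
      rw [← sq]
      exact Monoid.exponent_dvd_iff_forall_pow_eq_one.mp h2d x
    apply hgh
    have e := hsq (⟨g, hg⟩ * ⟨h, hh⟩)
    have : (⟨g, hg⟩ * ⟨h, hh⟩ : R) = ⟨h, hh⟩ * ⟨g, hg⟩ := by
      rw [eq_inv_of_mul_eq_one_left e, _root_.mul_inv_rev, inv_eq_of_mul_eq_one_left (hsq _),
        inv_eq_of_mul_eq_one_left (hsq _)]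
    exact congrArg Subtype.val this
  · have hNr : N = r := by rw [hR.N_eq, (Nat.coprime_two_left.mpr hodd : Nat.gcd 2 r = 1), mul_one]
    rw [hNr] at hdvd ⊢
    refine (hR.prime.eq_one_or_self_of_dvd _ hdvd).resolve_left fun h1 => hgh ?_
    haveI := Monoid.exp_eq_one_iff.mp h1
    exact congrArg Subtype.val (Subsingleton.elim (⟨g, hg⟩ * ⟨h, hh⟩ : R) (⟨h, hh⟩ * ⟨g, hg⟩))

/-- An abelian self-centralising subgroup, and the index of the centre. -/
theorem exists_maximal_abelian [Finite F] [Nonempty ι] (hR : SymplecticModel H R r N) :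
    ∃ (A : Subgroup R) (k : ℕ), (∀ a ∈ A, ∀ b ∈ A, a * b = b * a) ∧ (∀ g : R, (∀ a ∈ A, g * a = a * g) → g ∈ A) ∧
      1 ≤ k ∧ Nat.card R = Nat.card (Subgroup.center R) * r ^ (2 * k) ∧ A.index = r ^ k :=
  exists_maximal_abelian_of hR.prime hR.isPGroup hR.comm hR.nonabelian

/-- With enough roots of unity: a basis permuted by the group up to `N`-th roots of unity. -/
theorem monomial_model [Finite F] [Nonempty ι] (hR : SymplecticModel H R r N) {ω : F} (hω : IsPrimitiveRoot ω N) :
    ∃ (B : GL ι F) (k : ℕ), Fintype.card ι = r ^ k ∧ Nat.card R = Nat.card (Subgroup.center R) * r ^ (2 * k) ∧ 1 ≤ k ∧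
      ∀ g ∈ R, ∃ (π : Equiv.Perm ι) (a : ι → F), (∀ i, a i ^ N = 1) ∧
        ∀ i, ((B * g * B⁻¹ : GL ι F) : Matrix ι ι F) *ᵥ Pi.single i 1 = a i • Pi.single (π i) 1 := by
  classical
  obtain ⟨A, k, hAc, hself, hk1, hcard, hindex⟩ := hR.exists_maximal_abelian
  have hN0 := hR.N_pos
  have hω0 : ω ≠ 0 := hω.ne_zero hN0.ne'
  have hNF : (N : F) ≠ 0 := fun h => hR.r_ne (by
    rw [hR.N_eq] at h
    rcases hR.prime.eq_two_or_odd' with h2 | hodd
    · subst h2
      have : ((2 : ℕ) : F) * ((2 : ℕ) : F) = 0 := by rw [Nat.gcd_self, Nat.cast_mul] at h; exact h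
      exact mul_self_eq_zero.mp this
    · rwa [(Nat.coprime_two_left.mpr hodd : Nat.gcd 2 r = 1), mul_one] at h)
  set M : R → Matrix ι ι F := fun g => ((g : GL ι F) : Matrix ι ι F) with hM
  have hMmul : ∀ g h, M (g * h) = M g * M h := fun g h => rfl
  have hMN : ∀ g, M g ^ N = 1 := fun g => by
    rw [hM, ← Units.val_pow_eq_pow_val, hR.pow_eq _ g.2, Units.val_one]
  -- a common eigenvector of A
  have heig : ∀ S : Finset R, (∀ a ∈ S, a ∈ A) → ∃ U : Submodule F (ι → F), U ≠ ⊥ ∧
      (∀ a ∈ A, ∀ u ∈ U, M a *ᵥ u ∈ U) ∧ ∀ a ∈ S, ∃ c : F, c ^ N = 1 ∧ ∀ u ∈ U, M a *ᵥ u = c • u := by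
    intro S
    induction S using Finset.induction with
    | empty => exact fun _ => ⟨⊤, top_ne_bot, fun _ _ _ _ => Submodule.mem_top, by simp⟩
    | insert a S _ ih =>
      intro hS
      obtain ⟨U, hU0, hUA, hUS⟩ := ih fun b hb => hS b (Finset.mem_insert_of_mem hb)
      have haA := hS a (Finset.mem_insert_self a S)
      set X := M a with hX
      obtain ⟨u₀, hu₀, hu₀0⟩ := Submodule.exists_mem_ne_zero_of_ne_bot hU0
      set T : ℕ → Matrix ι ι F := fun j => ∑ i ∈ Finset.range N, (ω ^ j)⁻¹ ^ i • X ^ i with hT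
      obtain ⟨j, hj⟩ : ∃ j, T j *ᵥ u₀ ≠ 0 := by
        by_contra hcon
        push Not at hcon
        have h : ∑ j ∈ Finset.range N, T j *ᵥ u₀ = 0 := Finset.sum_eq_zero fun j _ => hcon j
        rw [← Matrix.sum_mulVec, hT, Finset.sum_comm] at h
        rw [Finset.sum_eq_single_of_mem 0 (Finset.mem_range.mpr hN0) ?_] at h
        · simp only [pow_zero, one_smul, Finset.sum_const, Finset.card_range, Matrix.smul_mulVec, Matrix.one_mulVec] at h
          rw [← Nat.cast_smul_eq_nsmul F] at h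
          exact hu₀0 ((smul_eq_zero.mp h).resolve_left hNF)
        · intro i hi hne
          rw [← Finset.sum_smul]
          have hne1 : ω⁻¹ ^ i ≠ 1 := hω.inv.pow_ne_one_of_pos_of_lt hne (Finset.mem_range.mp hi)
          have : ∑ j ∈ Finset.range N, (ω ^ j)⁻¹ ^ i = 0 := by
            rw [Finset.sum_congr rfl fun j _ => show (ω ^ j)⁻¹ ^ i = (ω⁻¹ ^ i) ^ j by rw [← inv_pow, pow_right_comm],
              geom_sum_eq hne1, ← pow_mul, mul_comm, pow_mul, hω.inv.pow_eq_one, one_pow, sub_self, zero_div]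
          rw [this, zero_smul]
      have hXj : X * T j = ω ^ j • T j := by
        rw [hT, Finset.mul_sum, Finset.smul_sum]
        let t : ℕ → Matrix ι ι F := fun i => (ω ^ j * (ω ^ j)⁻¹ ^ i) • X ^ i
        calc ∑ i ∈ Finset.range N, X * ((ω ^ j)⁻¹ ^ i • X ^ i) = ∑ i ∈ Finset.range N, t (i + 1) := by
              refine Finset.sum_congr rfl fun i _ => ?_
              simp only [t]
              rw [Matrix.mul_smul, ← pow_succ', pow_succ' (ω ^ j)⁻¹ i, mul_inv_cancel_left₀ (pow_ne_zero _ hω0)]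
          _ = ∑ i ∈ Finset.range N, t i := by
              have h1 := Finset.sum_range_succ t N
              rw [Finset.sum_range_succ'] at h1
              have : t N = t 0 := by
                simp only [t, pow_zero]
                rw [hX, hMN, ← inv_pow, ← pow_mul, mul_comm j N, pow_mul, hω.inv.pow_eq_one, one_pow]
              rw [this] at h1
              exact add_right_cancel h1
          _ = _ := Finset.sum_congr rfl fun i _ => by simp only [t, smul_smul]
      let E : Submodule F (ι → F) := U ⊓ LinearMap.ker (Matrix.toLin' (X - ω ^ j • (1 : Matrix ι ι F)))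
      have hE : ∀ u, u ∈ E ↔ u ∈ U ∧ X *ᵥ u = ω ^ j • u := fun u => by
        simp [E, Matrix.sub_mulVec, Matrix.smul_mulVec, sub_eq_zero]
      refine ⟨E, fun e => hj ?_, fun b hb u hu => ?_, fun b hb => ?_⟩
      · have : T j *ᵥ u₀ ∈ E := by
          refine (hE _).mpr ⟨?_, by rw [Matrix.mulVec_mulVec, hXj, Matrix.smul_mulVec]⟩
          rw [hT, Matrix.sum_mulVec]
          refine Submodule.sum_mem _ fun i _ => ?_
          rw [Matrix.smul_mulVec]
          refine Submodule.smul_mem _ _ ?_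
          clear * - hu₀ hUA haA hX
          induction i with
          | zero => simpa using hu₀
          | succ i ih => rw [pow_succ', ← Matrix.mulVec_mulVec]; exact hUA a haA _ ih
        rwa [e, Submodule.mem_bot] at this
      · obtain ⟨hu, hue⟩ := (hE u).mp hu
        refine (hE _).mpr ⟨hUA b hb u hu, ?_⟩
        rw [Matrix.mulVec_mulVec, hX, ← hMmul, hAc a haA b hb, hMmul, ← Matrix.mulVec_mulVec, hue, Matrix.mulVec_smul]
      · rcases Finset.mem_insert.mp hb with rfl | hb
        · exact ⟨ω ^ j, by rw [← pow_mul, mul_comm, pow_mul, hω.pow_eq_one, one_pow], fun u hu => ((hE u).mp hu).2⟩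
        · obtain ⟨c, hc, hcu⟩ := hUS b hb
          exact ⟨c, hc, fun u hu => hcu u ((hE u).mp hu).1⟩
  haveI : Fintype R := Fintype.ofFinite R
  obtain ⟨U, hU0, -, hU⟩ := heig (Finset.univ.filter (· ∈ A)) fun a ha => (Finset.mem_filter.mp ha).2
  obtain ⟨v, hvU, hv0⟩ := Submodule.exists_mem_ne_zero_of_ne_bot hU0
  have hχ : ∀ a : A, ∃ c : F, c ^ N = 1 ∧ M a *ᵥ v = c • v := fun a => by
    obtain ⟨c, hc, h⟩ := hU a (Finset.mem_filter.mpr ⟨Finset.mem_univ _, a.2⟩)
    exact ⟨c, hc, h v hvU⟩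
  choose χ hχN hχv using hχ
  -- the translates
  haveI : Fintype (R ⧸ A) := Fintype.ofFinite _
  let g : R ⧸ A → R := Quotient.out
  let w : R ⧸ A → (ι → F) := fun b => M (g b) *ᵥ v
  have htw : ∀ x y : R, ∃ c : Fˣ, IsTwist (x : GL ι F) (y : GL ι F) (c : F) := fun x y =>
    exists_twist (hR.comm x x.2 y y.2)
  choose κ hκ using htw
  have hact : ∀ (x : R) (a : A), M a *ᵥ (M x *ᵥ v) = ((κ a x : F) * χ a) • (M x *ᵥ v) := fun x a => by
    rw [Matrix.mulVec_mulVec, hM, (hκ a x).eq, Matrix.smul_mulVec, ← Matrix.mulVec_mulVec]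
    change (κ a x : F) • (M x *ᵥ (M a *ᵥ v)) = _
    rw [hχv a, Matrix.mulVec_smul, smul_smul]
  have hli : LinearIndependent F w := by
    let ψ : R ⧸ A → (A →* F) := fun b => (Units.coeHom F).comp (MonoidHom.mk' (fun a : A => κ a (g b)) fun a a' =>
      Units.ext ((hκ (a * a' : A) (g b)).unique (by simpa using (hκ a (g b)).mul_left (hκ a' (g b)))))
    have hψ : Function.Injective ψ := by
      intro b b' h
      rw [← Quotient.out_eq b, ← Quotient.out_eq b']
      refine QuotientGroup.eq.mpr (hself _ fun a ha => ?_)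
      have e : (κ a (g b) : F) = κ a (g b') := DFunLike.congr_fun h (⟨a, ha⟩ : A)
      have h1 : IsTwist (a : GL ι F) ((g b : R) : GL ι F)⁻¹ ((κ a (g b) : F)⁻¹) := ⟨by
        have e1 := congrArg (fun Z => ((((g b : R) : GL ι F)⁻¹ : GL ι F) : Matrix ι ι F) * Z * ((((g b : R) : GL ι F)⁻¹ : GL ι F) : Matrix ι ι F))
          (hκ a (g b)).eq
        simp only [Matrix.mul_assoc, Units.mul_inv, Matrix.mul_one, Matrix.mul_smul, Matrix.smul_mul] at e1
        rw [← Matrix.mul_assoc ((((g b : R) : GL ι F)⁻¹ : GL ι F) : Matrix ι ι F) ((g b : R) : GL ι F).val, Units.inv_mul,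
          Matrix.one_mul] at e1
        rw [e1, smul_smul, inv_mul_cancel₀ (Units.ne_zero _), one_smul]⟩
      have h2 := h1.mul_right (hκ a (g b'))
      rw [e, inv_mul_cancel₀ (Units.ne_zero _)] at h2
      have h3 := h2.eq
      rw [one_smul] at h3
      exact Subtype.ext (Units.ext h3.symm)
    rw [Fintype.linearIndependent_iff]
    intro c hc b
    by_contra hb
    obtain ⟨i, hi⟩ := Function.ne_iff.mp (fun e => hv0 (gl_mulVec_injective ((g b : R) : GL ι F)
      (e.trans (Matrix.mulVec_zero _).symm)) : w b ≠ 0)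
    have hz := Fintype.linearIndependent_iff.mp ((linearIndependent_monoidHom A F).comp ψ hψ) (fun b => c b * w b i) ?_ b
    · exact mul_ne_zero hb hi hz
    · funext a
      have h0 := congrArg (fun u => (M a *ᵥ u) i) hc
      simp only [Matrix.mulVec_sum, Matrix.mulVec_zero, Pi.zero_apply, Finset.sum_apply, Matrix.mulVec_smul] at h0
      simp only [w, hact, Pi.smul_apply, smul_eq_mul] at h0
      rw [Finset.sum_apply, Pi.zero_apply]
      have hχ0 : χ a ≠ 0 := fun e => by simpa [e, hN0.ne'] using hχN a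
      refine (mul_eq_zero.mp (?_ : χ a * _ = 0)).resolve_left hχ0
      rw [Finset.mul_sum, ← h0]
      refine Finset.sum_congr rfl fun b _ => ?_
      simp only [Pi.smul_apply, Function.comp_apply, smul_eq_mul]
      change χ a * (c b * w b i * (κ a (g b) : F)) = _
      simp only [w]
      ring
  have hmove : ∀ (x : R) (b : R ⧸ A), ∃ c : F, c ^ N = 1 ∧ M x *ᵥ w b = c • w (x • b) := fun x b => by
    have hmem : (g (x • b))⁻¹ * (x * g b) ∈ A := by
      rw [← QuotientGroup.eq]
      change Quotient.mk'' (Quotient.out (x • b)) = _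
      rw [Quotient.out_eq']
      conv_lhs => rw [← Quotient.out_eq' b]
      rfl
    refine ⟨χ ⟨_, hmem⟩, hχN _, ?_⟩
    simp only [w]
    rw [← Matrix.mulVec_smul, ← hχv, Matrix.mulVec_mulVec, Matrix.mulVec_mulVec, ← hMmul, ← hMmul, mul_inv_cancel_left]
  have hspan : Submodule.span F (Set.range w) = ⊤ := by
    refine (hR.absIrred.1 _ ?_).resolve_left fun e => hv0 ?_
    · rintro _ ⟨x, hx, rfl⟩
      rw [Submodule.map_span, Submodule.span_le]
      rintro _ ⟨_, ⟨b, rfl⟩, rfl⟩
      obtain ⟨c, -, hc⟩ := hmove ⟨x, hx⟩ b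
      rw [Matrix.toLin'_apply]
      change M ⟨x, hx⟩ *ᵥ w b ∈ _
      rw [hc]
      exact Submodule.smul_mem _ _ (Submodule.subset_span ⟨_, rfl⟩)
    · have : w ((1 : R) : R ⧸ A) = 0 := (Submodule.mem_bot F).mp (e ▸ Submodule.subset_span ⟨_, rfl⟩)
      exact gl_mulVec_injective ((g ((1 : R) : R ⧸ A) : R) : GL ι F) (this.trans (Matrix.mulVec_zero _).symm)
  have hcardι : Fintype.card ι = Fintype.card (R ⧸ A) := by
    have h := finrank_span_eq_card hli
    rwa [hspan, finrank_top, Module.finrank_fintype_fun_eq_card] at h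
  let ε : ι ≃ R ⧸ A := Fintype.equivOfCardEq hcardι
  let V : Matrix ι ι F := fun s i => w (ε i) s
  have hV : IsUnit V := Matrix.linearIndependent_cols_iff_isUnit.mp (hli.comp ε ε.injective)
  have hcol : ∀ i, V *ᵥ Pi.single i 1 = w (ε i) := fun i => by rw [Matrix.mulVec_single_one]; rfl
  refine ⟨hV.unit⁻¹, k, ?_, hcard, hk1, fun x hx => ?_⟩
  · rw [hcardι, ← Nat.card_eq_fintype_card]
    exact hindex
  let π : Equiv.Perm ι := (ε.trans (MulAction.toPerm (⟨x, hx⟩ : R))).trans ε.symm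
  choose c hcN hc using fun i => hmove ⟨x, hx⟩ (ε i)
  refine ⟨π, c, hcN, fun i => gl_mulVec_injective hV.unit ?_⟩
  dsimp only
  rw [inv_inv, gl_mul_mulVec, gl_mul_mulVec, gl_mulVec_inv_cancel, IsUnit.unit_spec, hcol, Matrix.mulVec_smul, hcol]
  change M ⟨x, hx⟩ *ᵥ w (ε i) = _
  rw [hc i]
  simp [π]

end SymplecticModel

/-- Averaging: an absolutely irreducible group of even exponent four with trivial traces fixes a bilinear form. -/
theorem exists_invariant_form [Nonempty ι] {R : Subgroup (GL ι F)} [Fintype R] (hR : ActsAbsolutelyIrreducibly (matrixSet R))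
    (hcard : (Fintype.card R : F) ≠ 0) (htr : ∀ g : R, (g : GL ι F) ∉ scalars ι F → ((g : GL ι F) : Matrix ι ι F).trace = 0)
    (hsc : ∀ g : R, (g : GL ι F) ∈ scalars ι F → ((g : GL ι F) : Matrix ι ι F) * ((g : GL ι F) : Matrix ι ι F) = 1)
    (hscard : ((Nat.card {g : R // (g : GL ι F) ∈ scalars ι F} : ℕ) : F) ≠ 0) :
    ∃ S : Matrix ι ι F, S.det ≠ 0 ∧ (∀ g ∈ R, (g : Matrix ι ι F)ᵀ * S * (g : Matrix ι ι F) = S) ∧
      (Sᵀ = S ∨ Sᵀ = -S) := by
  classical
  set M : R → Matrix ι ι F := fun g => ((g : GL ι F) : Matrix ι ι F)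
  have hn : (Fintype.card ι : F) ≠ 0 := by
    intro h0
    obtain ⟨i⟩ := ‹Nonempty ι›
    let T : Matrix ι ι F := ∑ g : R, M g * Matrix.single i i 1 * M g⁻¹
    obtain ⟨c, hc⟩ := hR.2 T (by
      rintro _ ⟨x, hx, rfl⟩
      simp only [T, Finset.sum_mul, Finset.mul_sum]
      rw [← Equiv.sum_comp (Equiv.mulLeft (⟨x, hx⟩ : R))]
      refine Finset.sum_congr rfl fun g _ => ?_
      simp only [Equiv.coe_mulLeft, M, _root_.mul_inv_rev, Subgroup.coe_mul, Subgroup.coe_inv, Units.val_mul, Matrix.mul_assoc,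
        Units.inv_mul, Matrix.mul_one])
    have e := congrArg Matrix.trace hc
    rw [Matrix.trace_smul, Matrix.trace_one, h0, smul_zero, Matrix.trace_sum] at e
    have hterm : ∀ g : R, (M g * Matrix.single i i 1 * M g⁻¹).trace = 1 := fun g => by
      rw [Matrix.trace_mul_comm, ← Matrix.mul_assoc]
      simp only [M, Subgroup.coe_inv, Units.inv_mul, Matrix.one_mul]
      simp
    simp only [hterm, Finset.sum_const, Finset.card_univ, nsmul_eq_mul, mul_one] at e
    exact hcard e
  obtain ⟨A, hA⟩ : ∃ A : Matrix ι ι F, ∑ g : R, (M g)ᵀ * A * M g ≠ 0 := by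
    by_contra hcon
    push Not at hcon
    have h : ∀ k l, ∑ g : R, M g k k * M g l l = 0 := fun k l => by
      have e := congrFun (congrFun (hcon (Matrix.single k l 1)) k) l
      simpa [Matrix.sum_apply, Matrix.mul_apply, Matrix.single_apply, ite_and, ite_mul, mul_ite] using e
    have hsum : ∑ g : R, (M g).trace ^ 2 = 0 := by
      simp only [sq, Matrix.trace, Matrix.diag_apply, Finset.sum_mul, Finset.mul_sum]
      rw [Finset.sum_comm]
      refine Finset.sum_eq_zero fun k _ => ?_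
      rw [Finset.sum_comm]
      exact Finset.sum_eq_zero fun l _ => by simpa only [mul_comm] using h k l
    rw [← Finset.sum_filter_add_sum_filter_not Finset.univ (fun g : R => (g : GL ι F) ∈ scalars ι F),
      Finset.sum_eq_zero (s := Finset.univ.filter fun g : R => ¬ (g : GL ι F) ∈ scalars ι F) fun g hg => by
        rw [show (M g).trace = 0 from htr g (Finset.mem_filter.mp hg).2, zero_pow two_ne_zero], add_zero,
      Finset.sum_congr rfl (g := fun _ => (Fintype.card ι : F) ^ 2) fun g hg => by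
        obtain ⟨c, hc⟩ := (mem_scalars_iff _).mp (Finset.mem_filter.mp hg).2
        have h2 := hsc g (Finset.mem_filter.mp hg).2
        simp only [M, hc] at h2 ⊢
        rw [Matrix.smul_mul, Matrix.mul_smul, Matrix.one_mul, smul_smul] at h2
        obtain ⟨i⟩ := ‹Nonempty ι›
        have hc2 : (c : F) * c = 1 := by simpa using congrFun (congrFun h2 i) i
        rw [Matrix.trace_smul, Matrix.trace_one, smul_eq_mul, mul_pow, sq (c : F), hc2, one_mul],
      Finset.sum_const, nsmul_eq_mul] at hsum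
    refine mul_ne_zero ?_ (pow_ne_zero 2 hn) hsum
    rwa [Nat.card_eq_fintype_card, Fintype.card_subtype] at hscard
  set S := ∑ g : R, (M g)ᵀ * A * M g with hS
  have hinv : ∀ x ∈ R, (x : Matrix ι ι F)ᵀ * S * (x : Matrix ι ι F) = S := by
    intro x hx
    rw [hS, Finset.mul_sum, Finset.sum_mul]
    conv_rhs => rw [← Equiv.sum_comp (Equiv.mulRight (⟨x, hx⟩ : R))]
    refine Finset.sum_congr rfl fun g _ => ?_
    simp only [Equiv.coe_mulRight, M, Subgroup.coe_mul, Units.val_mul, Matrix.transpose_mul, Matrix.mul_assoc]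
  have hdet : S.det ≠ 0 := fun h0 => by
    obtain ⟨u, hu0, hu⟩ := Matrix.exists_mulVec_eq_zero_iff.mpr h0
    let W : Submodule F (ι → F) := LinearMap.ker (Matrix.toLin' S)
    rcases hR.1 W (by
      rintro _ ⟨x, hx, rfl⟩
      refine map_toLin'_le.mpr fun w hw => ?_
      simp only [W, LinearMap.mem_ker, Matrix.toLin'_apply] at hw ⊢
      have hxu : IsUnit (x : Matrix ι ι F)ᵀ := (Matrix.isUnit_iff_isUnit_det _).mpr (by
        rw [Matrix.det_transpose]; exact (Matrix.isUnit_iff_isUnit_det _).mp x.isUnit)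
      refine Matrix.mulVec_injective_iff_isUnit.mpr hxu ?_
      rw [Matrix.mulVec_zero, Matrix.mulVec_mulVec, Matrix.mulVec_mulVec, hinv x hx, hw]) with h | h
    · exact hu0 ((Submodule.mem_bot F).mp (h ▸ (show u ∈ W by simpa [W] using hu)))
    · exact hA (Matrix.toLin'.injective (LinearMap.ext fun w => by
        have : w ∈ W := h ▸ Submodule.mem_top
        simpa [W] using this))
  refine ⟨S, hdet, hinv, ?_⟩
  obtain ⟨u, hu⟩ : IsUnit S := (Matrix.isUnit_iff_isUnit_det S).mpr (isUnit_iff_ne_zero.mpr hdet)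
  set Si := ((u⁻¹ : (Matrix ι ι F)ˣ) : Matrix ι ι F)
  have hSi : S * Si = 1 := by rw [← hu]; exact u.mul_inv
  obtain ⟨c, hc⟩ := hR.2 (Si * Sᵀ) (by
    rintro _ ⟨x, hx, rfl⟩
    have hxu : IsUnit (x : Matrix ι ι F)ᵀ := (Matrix.isUnit_iff_isUnit_det _).mpr (by
      rw [Matrix.det_transpose]; exact (Matrix.isUnit_iff_isUnit_det _).mp x.isUnit)
    have hST : (x : Matrix ι ι F)ᵀ * Sᵀ * (x : Matrix ι ι F) = Sᵀ := by
      conv_rhs => rw [← hinv x hx]
      simp only [Matrix.transpose_mul, Matrix.transpose_transpose, Matrix.mul_assoc]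
    refine (hu ▸ u.isUnit : IsUnit S).mul_left_cancel (hxu.mul_left_cancel ?_)
    calc (x : Matrix ι ι F)ᵀ * (S * (Si * Sᵀ * (x : Matrix ι ι F))) = (x : Matrix ι ι F)ᵀ * (S * Si) * Sᵀ * (x : Matrix ι ι F) := by
          simp only [Matrix.mul_assoc]
      _ = Sᵀ := by rw [hSi, Matrix.mul_one, hST]
      _ = (x : Matrix ι ι F)ᵀ * S * (x : Matrix ι ι F) * Si * Sᵀ := by rw [hinv x hx, hSi, Matrix.one_mul]
      _ = (x : Matrix ι ι F)ᵀ * (S * ((x : Matrix ι ι F) * (Si * Sᵀ))) := by simp only [Matrix.mul_assoc])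
  have hSt : Sᵀ = c • S := by
    calc Sᵀ = S * (Si * Sᵀ) := by rw [← Matrix.mul_assoc, hSi, Matrix.one_mul]
      _ = c • S := by rw [hc, Matrix.mul_smul, Matrix.mul_one]
  have h2 : S = (c * c) • S := by
    conv_lhs => rw [← Matrix.transpose_transpose S, hSt, Matrix.transpose_smul, hSt, smul_smul]
  have hc2 : c * c = 1 := by
    by_contra hne
    apply hdet
    have : (c * c - 1) • S = 0 := by rw [sub_smul, one_smul, ← h2, sub_self]
    rw [(smul_eq_zero.mp this).resolve_left (sub_ne_zero.mpr hne)]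
    exact Matrix.det_zero
  rcases mul_self_eq_one_iff.mp hc2 with rfl | rfl
  · exact Or.inl (by rw [hSt, one_smul])
  · exact Or.inr (by rw [hSt, neg_smul, one_smul])

/-- The symplectic-type case of the subgroup theorem. -/
theorem symplectic_outcome [Fintype F] (h3 : 3 ≤ Fintype.card ι) {H M : Subgroup (GL ι F)} (hn : NormalIn H M)
    (hM : ActsAbsolutelyIrreducibly (matrixSet M)) (hne : ∃ x ∈ M, ∃ y ∈ M, x * y ≠ y * x)
    (hcomm : ∀ x ∈ M, ∀ y ∈ M, x * y * x⁻¹ * y⁻¹ ∈ scalars ι F)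
    (hmin : ∀ A : Subgroup (GL ι F), A ≤ M → NormalIn H A → M ⊓ scalars ι F ≤ A → ¬ A ≤ scalars ι F → A = M) :
    LinOutcome H := by
  classical
  haveI : Nonempty ι := Fintype.card_pos_iff.mp (by omega)
  obtain ⟨R, r, N, hR⟩ := exists_symplecticModel hn hM hne hcomm hmin
  have hHR : H ≤ subgroupNormalizer R := hR.normal.le_normalizer
  obtain ⟨ω₀, hω₀⟩ := hR.prim
  set q := Fintype.card F with hq
  have hrq : r ∣ q - 1 := hω₀.dvd_of_pow_eq_one _ (FiniteField.pow_card_sub_one_eq_one ω₀ (hω₀.ne_zero hR.prime.ne_zero))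
  have hzN : Nat.card (Subgroup.center R) = (q - 1).gcd N := hR.card_center
  by_cases hNq : N ∣ q - 1
  · have hz : Nat.card (Subgroup.center R) = N := by rw [hzN, Nat.gcd_eq_right hNq]
    obtain ⟨ω, hω⟩ : ∃ ω : F, IsPrimitiveRoot ω N := by
      obtain ⟨g, hg⟩ := IsCyclic.exists_generator (α := Fˣ)
      have hord : orderOf g = q - 1 := by
        rw [orderOf_eq_card_of_forall_mem_zpowers hg, Nat.card_units, Nat.card_eq_fintype_card]
      obtain ⟨j, hj⟩ := hNq
      have hq1 : 0 < q - 1 := by have := Fintype.one_lt_card (α := F); omega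
      have hg' : IsPrimitiveRoot ((g : Fˣ) : F) (q - 1) := IsPrimitiveRoot.coe_units_iff.mpr (hord ▸ IsPrimitiveRoot.orderOf g)
      exact ⟨(g : F) ^ j, hg'.pow hq1 (hj.trans (mul_comm _ _))⟩
    obtain ⟨B, k, hk, hcard, hk1, hmon⟩ := hR.monomial_model hω
    obtain ⟨p, hchar⟩ := CharP.exists F
    obtain ⟨⟨e, he⟩, hp, hce⟩ := FiniteField.card F p
    change q = p ^ e at hce
    haveI : Fact (1 < N) := ⟨lt_of_lt_of_le hR.prime.one_lt (Nat.le_of_dvd hR.N_pos ⟨_, hR.N_eq⟩)⟩
    have hpe : (p : ZMod N) ^ e = 1 := by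
      rw [← Nat.cast_pow, ← Nat.cast_one (R := ZMod N), ZMod.natCast_eq_natCast_iff, Nat.ModEq.comm,
        Nat.modEq_iff_dvd' (Nat.one_le_pow _ _ hp.pos), ← hce]
      exact hNq
    set d := orderOf (p : ZMod N) with hd
    have hde : d ∣ e := orderOf_dvd_of_pow_eq_one hpe
    have hd0 : 0 < d := Nat.pos_of_ne_zero fun h => by
      rw [h, zero_dvd_iff] at hde; omega
    have hkey : ∀ j, N ∣ p ^ j - 1 ↔ d ∣ j := fun j => by
      rw [hd, orderOf_dvd_iff_pow_eq_one, ← Nat.cast_pow, ← Nat.cast_one (R := ZMod N), ZMod.natCast_eq_natCast_iff, Nat.ModEq.comm,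
        Nat.modEq_iff_dvd' (Nat.one_le_pow _ _ hp.pos)]
    by_cases hdlt : d < e
    · obtain ⟨F₀, hF₀, hF₀iff⟩ := exists_subfield_pow hp hce hde hd0
      have hne_top : F₀ ≠ ⊤ := fun h => by
        rw [h, Nat.card_congr (Equiv.subtypeUnivEquiv Subfield.mem_top), Nat.card_eq_fintype_card, ← hq, hce] at hF₀
        have := Nat.pow_right_injective hp.two_le hF₀
        omega
      have hroot : ∀ c : F, c ^ N = 1 → c ∈ F₀ := fun c hc => by
        rw [hF₀iff]
        obtain ⟨j, hj⟩ := (hkey d).mpr dvd_rfl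
        have h1 : 1 ≤ p ^ d := Nat.one_le_pow _ _ hp.pos
        rw [show p ^ d = N * j + 1 by omega, pow_succ, pow_mul, hc, one_pow, one_mul]
      haveI : Nonempty ι := inferInstance
      obtain ⟨F₁, r', P, hr', hc', hle⟩ := le_subfieldSubgroup_of_normal hR.normal hR.absIrred hne_top ⟨B, by
        rintro _ ⟨x, hx, rfl⟩ i j
        obtain ⟨π, a, ha, hπ⟩ := hmon x hx
        have e1 := congrFun (hπ j) i
        rw [Matrix.mulVec_single_one, Units.val_mul, Units.val_mul] at e1
        simp only [Matrix.col_apply, Pi.smul_apply, Pi.single_apply, smul_eq_mul] at e1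
        change ((B : Matrix ι ι F) * (x : Matrix ι ι F) * ((B⁻¹ : GL ι F) : Matrix ι ι F)) i j ∈ F₀
        rw [e1]
        split_ifs
        · rw [mul_one]; exact hroot _ (ha j)
        · rw [mul_zero]; exact zero_mem _⟩
      exact .subfield F₁ r' P hr' hc' hle
    have hde' : d = e := le_antisymm (Nat.le_of_dvd he hde) (not_lt.mp hdlt)
    have hminF : IsMinimalFieldFor (Nat.card (Subgroup.center R)) p e F := by
      refine ⟨hp, hchar, hce, hz ▸ hce ▸ hNq, fun j hj hje hdj => ?_⟩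
      rw [hz, hkey] at hdj
      have := Nat.le_of_dvd hj hdj
      omega
    have hrp : r ≠ p := fun h => hR.r_ne (by
      haveI := hchar
      rw [h]; exact CharP.cast_eq_zero F p)
    by_cases heven : Even e
    · -- a unitary form
      obtain ⟨b, hb⟩ := heven
      have hb0 : 0 < b := by omega
      haveI := hchar
      haveI : ExpChar F p := ExpChar.prime hp
      have hsplit : N ∣ p ^ b + 1 := by
        have hnd : ¬ N ∣ p ^ b - 1 := fun h => by
          have := Nat.le_of_dvd hb0 ((hkey b).mp h)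
          omega
        have hprod : N ∣ (p ^ b - 1) * (p ^ b + 1) := by
          have h1 : 1 ≤ p ^ b := Nat.one_le_pow _ _ hp.pos
          have : (p ^ b - 1) * (p ^ b + 1) = p ^ e - 1 := by
            rw [mul_comm, ← Nat.sq_sub_sq, one_pow, ← pow_mul, hb]
            ring_nf
          rw [this, ← hce]; exact hNq
        rcases hR.prime.eq_two_or_odd' with h2 | hodd
        · have hN4 : N = 4 := by rw [hR.N_eq, h2]; rfl
          rw [hN4] at hnd ⊢
          have hpodd : Odd p := hp.odd_of_ne_two (fun h => hrp (h2.trans h.symm))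
          obtain ⟨u, hu⟩ := hpodd.pow (n := b)
          rw [hu, Nat.add_sub_cancel] at hnd
          omega
        · rw [hR.N_eq, (Nat.coprime_two_left.mpr hodd : Nat.gcd 2 r = 1), mul_one] at hnd hprod ⊢
          exact (hR.prime.dvd_mul.mp hprod).resolve_left hnd
      let σ : F ≃+* F := iterateFrobeniusEquiv F p b
      have hσ : ∀ x, σ x = x ^ p ^ b := fun x => iterateFrobeniusEquiv_def F p b x
      have hinv : ∀ x, σ (σ x) = x := fun x => by
        rw [hσ, hσ, ← pow_mul, ← pow_add, ← hb, ← hce]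
        exact FiniteField.pow_card x
      have hne' : σ ≠ RingEquiv.refl F := fun h => by
        have hall : ∀ x : F, x ^ p ^ b = x := fun x => by rw [← hσ, h]; rfl
        have hc := card_pow_fixed (F := F) hp hce ⟨2, hb.trans (mul_two b).symm⟩ hb0
        rw [Nat.card_congr (Equiv.subtypeUnivEquiv hall), Nat.card_eq_fintype_card, ← hq, hce] at hc
        have := Nat.pow_right_injective hp.two_le hc
        omega
      have hnorm : ∀ c : F, c ^ N = 1 → c * σ c = 1 := fun c hc => by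
        obtain ⟨j, hj⟩ := hsplit
        rw [hσ, ← pow_succ', hj, pow_mul, hc, one_pow]
      let f : (ι → F) → (ι → F) → F := fun u v => ∑ i, ((B : Matrix ι ι F) *ᵥ u) i * σ (((B : Matrix ι ι F) *ᵥ v) i)
      have hf : IsUnitaryForm σ f := by
        refine ⟨hne', hinv, fun a b v => ?_, fun d a v => ?_, fun a b => ?_, fun v hv => ?_⟩
        · simp [f, Matrix.mulVec_add, add_mul, Finset.sum_add_distrib]
        · simp [f, Matrix.mulVec_smul, Finset.mul_sum, mul_assoc]
        · simp [f, map_sum, hinv, mul_comm]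
        · obtain ⟨i, hi⟩ := Function.ne_iff.mp fun e => hv (gl_mulVec_injective B (e.trans (Matrix.mulVec_zero _).symm))
          refine ⟨⟨((B⁻¹ : GL ι F) : Matrix ι ι F) *ᵥ Pi.single i 1, ?_⟩, ⟨((B⁻¹ : GL ι F) : Matrix ι ι F) *ᵥ Pi.single i 1, ?_⟩⟩ <;>
            simp only [f, gl_mulVec_inv_cancel] <;>
            rw [Finset.sum_eq_single i (fun k _ hk => by simp [hk]) (by simp)] <;> simpa using hi
      refine .unitary σ f hf fun g hg => mem_similarityGroup_of_normalizes σ (semiForm_of_unitary hf) hf.nondegenerate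
        hR.absIrred ?_ (hR.normal g hg)
      rintro _ ⟨x, hx, rfl⟩ u v
      obtain ⟨π, a, ha, hπ⟩ := hmon x hx
      have hco : ∀ w i, ((B : Matrix ι ι F) *ᵥ ((x : Matrix ι ι F) *ᵥ w)) (π i) = a i * ((B : Matrix ι ι F) *ᵥ w) i := by
        intro w i
        have e1 : (B : Matrix ι ι F) *ᵥ ((x : Matrix ι ι F) *ᵥ w) =
            ((B * x * B⁻¹ : GL ι F) : Matrix ι ι F) *ᵥ ((B : Matrix ι ι F) *ᵥ w) := by
          rw [← gl_mul_mulVec, ← gl_mul_mulVec, inv_mul_cancel_right]
        rw [e1]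
        conv_lhs => rw [pi_eq_sum_univ' ((B : Matrix ι ι F) *ᵥ w), Matrix.mulVec_sum]
        simp only [Matrix.mulVec_smul, hπ, Finset.sum_apply, Pi.smul_apply, Pi.single_apply, smul_eq_mul,
          π.injective.eq_iff]
        simp [mul_comm]
      simp only [f]
      rw [← Equiv.sum_comp π]
      refine Finset.sum_congr rfl fun i _ => ?_
      rw [hco, hco, map_mul]
      calc a i * _ * (σ (a i) * _) = (a i * σ (a i)) * (((B : Matrix ι ι F) *ᵥ u) i * σ (((B : Matrix ι ι F) *ᵥ v) i)) := by ring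
        _ = _ := by rw [hnorm _ (ha i), one_mul]
    have hodd_e : Odd e := Nat.not_even_iff_odd.mp heven
    refine .symplecticType r k R ⟨hR.isSymplecticType, hR.absIrred, p, e, hrp, hminF, ?_⟩ hk hcard hHR
    rcases hR.prime.eq_two_or_odd' with h2 | hodd
    · have hN4 : N = 4 := by rw [hR.N_eq, h2]; rfl
      have he1 : e = 1 := by
        have hd2 : d ∣ 2 := by
          rw [← hkey, hN4]
          have hpodd : Odd p := hp.odd_of_ne_two (fun h => hrp (h2.trans h.symm))
          obtain ⟨u, hu⟩ := hpodd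
          exact ⟨u * (u + 1), by rw [hu]; ring_nf; omega⟩
        rcases (Nat.dvd_prime Nat.prime_two).mp hd2 with h | h
        · omega
        · exfalso; rw [← hde', h] at hodd_e; exact absurd hodd_e (by decide)
      refine Or.inr (Or.inl ⟨h2, he1, hz.trans hN4, ?_, k, ?_⟩)
      · rcases k with _ | _ | k
        · omega
        · simp [h2] at hk; omega
        · rw [hk, h2, pow_add]; have := Nat.one_le_pow k 2 two_pos; omega
      · rw [hcard, hz, hN4, h2, show (4 : ℕ) = 2 ^ 2 from rfl, ← pow_add]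
    · have hNr : N = r := by rw [hR.N_eq, (Nat.coprime_two_left.mpr hodd : Nat.gcd 2 r = 1), mul_one]
      exact Or.inl ⟨hodd, hodd_e, hz.trans hNr, k, hk1, by rw [hcard, hz, hNr, pow_add, pow_one]⟩
  -- centre of order two
  have hr2 : r = 2 := by
    rcases hR.prime.eq_two_or_odd' with h2 | hodd
    · exact h2
    · exfalso; apply hNq
      rw [hR.N_eq, (Nat.coprime_two_left.mpr hodd : Nat.gcd 2 r = 1), mul_one]; exact hrq
  subst hr2
  have hN4 : N = 4 := by rw [hR.N_eq]; rfl
  have h2F : (2 : F) ≠ 0 := by exact_mod_cast hR.r_ne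
  have hz2 : Nat.card (Subgroup.center R) = 2 := by
    rw [hzN, hN4]
    rw [hN4] at hNq
    have h2 : (q - 1).gcd 4 ∣ 4 := Nat.gcd_dvd_right _ _
    have h3 : 2 ∣ (q - 1).gcd 4 := Nat.dvd_gcd hrq (by norm_num)
    have h4 : (q - 1).gcd 4 ≠ 4 := fun h => hNq (h ▸ Nat.gcd_dvd_left _ _)
    have := Nat.le_of_dvd (by norm_num) h2
    interval_cases hg : (q - 1).gcd 4 <;> simp_all
  haveI : Fintype R := Fintype.ofFinite R
  have hcR : (Fintype.card R : F) ≠ 0 := by
    haveI : Fact (Nat.Prime 2) := ⟨Nat.prime_two⟩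
    obtain ⟨j, hj⟩ := (IsPGroup.iff_card (p := 2)).mp hR.isPGroup
    rw [← Nat.card_eq_fintype_card, hj]
    push_cast
    exact pow_ne_zero _ h2F
  have hsc : ∀ g : R, (g : GL ι F) ∈ scalars ι F → ((g : GL ι F) : Matrix ι ι F) * ((g : GL ι F) : Matrix ι ι F) = 1 := by
    rintro g ⟨c, hc⟩
    have hc4 : c ^ N = 1 := scalarGL_injective (ι := ι) (by
      rw [map_pow, map_one, show scalarGL ι F c = g from hc]; exact hR.pow_eq g g.2)
    have hcq : c ^ (q - 1) = 1 := Units.ext (by simpa using FiniteField.pow_card_sub_one_eq_one (c : F) c.ne_zero)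
    have hg := hR.card_center (R := R)
    rw [hz2] at hg
    have hc2 : c ^ 2 = 1 := by
      rw [hg]
      exact pow_gcd_eq_one.mpr ⟨hcq, hc4⟩
    rw [← hc, ← Units.val_mul]
    change ((scalarGL ι F c * scalarGL ι F c : GL ι F) : Matrix ι ι F) = 1
    rw [← map_mul, ← sq, hc2, map_one, Units.val_one]
  obtain ⟨S, hS0, hSinv, hSsym⟩ := exists_invariant_form hR.absIrred hcR (fun g hg => by
      obtain ⟨h, hh, hgh⟩ : ∃ h ∈ R, (g : GL ι F) * h ≠ h * g := by
        by_contra hcon
        push Not at hcon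
        exact hg (mem_scalars_of_absIrr hR.absIrred hcon)
      obtain ⟨c, hc⟩ := exists_twist (hR.comm g g.2 h hh)
      have hc2 := hc.pow_eq_one (hR.pow_r g g.2)
      have hcm : (c : F) = -1 := by
        rcases sq_eq_one_iff.mp hc2 with h1 | h1
        · exfalso; apply hgh; exact Units.ext (by simpa [h1] using hc.eq)
        · exact h1
      have e := congrArg (fun Z => (((h⁻¹ : GL ι F) : Matrix ι ι F) * Z).trace) hc.eq
      simp only [hcm, neg_smul, one_smul, Matrix.mul_neg, Matrix.trace_neg, ← Matrix.mul_assoc, Units.inv_mul,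
        Matrix.one_mul] at e
      rw [Matrix.trace_mul_comm, ← Matrix.mul_assoc, Units.mul_inv, Matrix.one_mul] at e
      exact (mul_eq_zero.mp (show (2 : F) * _ = 0 by linear_combination e)).resolve_left h2F)
    hsc (by
      have e : Nat.card {g : R // (g : GL ι F) ∈ scalars ι F} = 2 := by
        rw [← hz2]
        refine Nat.card_congr (Equiv.subtypeEquivRight fun g => ⟨fun hg => ?_, fun hg => ?_⟩)
        · exact Subgroup.mem_center_iff.mpr fun w => Subtype.ext (scalars_commute hg w).symm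
        · exact mem_scalars_of_absIrr hR.absIrred fun w hw =>
            (congrArg Subtype.val (Subgroup.mem_center_iff.mp hg ⟨w, hw⟩)).symm
      rw [e]; exact_mod_cast h2F)
  let f : (ι → F) → (ι → F) → F := fun u v => u ⬝ᵥ (S *ᵥ v)
  have hb : IsBilinearForm f :=
    ⟨fun x y v => by simp [f, add_dotProduct], fun c x v => by simp [f, smul_dotProduct],
      fun v x y => by simp [f, Matrix.mulVec_add, dotProduct_add], fun c v x => by simp [f, Matrix.mulVec_smul, dotProduct_smul]⟩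
  have hswap : ∀ u v, f v u = u ⬝ᵥ (Sᵀ *ᵥ v) := fun u v => by
    simp only [f]
    rw [Matrix.mulVec_transpose, dotProduct_comm u, ← Matrix.dotProduct_mulVec]
  have hnd : IsNondegenerateForm f := by
    intro v hv
    have hSv : S *ᵥ v ≠ 0 := fun h => hS0 (Matrix.exists_mulVec_eq_zero_iff.mp ⟨v, hv, h⟩)
    obtain ⟨i, hi⟩ := Function.ne_iff.mp hSv
    have h1 : f (Pi.single i 1) v ≠ 0 := by simpa [f, single_one_dotProduct] using hi
    refine ⟨⟨_, h1⟩, Pi.single i 1, ?_⟩
    rw [hswap]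
    rcases hSsym with h | h <;> rw [h]
    · exact h1
    · rw [Matrix.neg_mulVec, dotProduct_neg, neg_ne_zero]; exact h1
  have hfix : FixesForm (matrixSet R) f := by
    rintro _ ⟨x, hx, rfl⟩ u v
    simp only [f]
    rw [← Matrix.vecMul_transpose, ← Matrix.dotProduct_mulVec, Matrix.mulVec_mulVec, Matrix.mulVec_mulVec,
      hSinv x hx]
  rcases hSsym with hsym | hskew
  · have hsymm : ∀ u v, f v u = f u v := fun u v => by rw [hswap, hsym]
    let Q : (ι → F) → F := fun u => f u u / 2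
    have hpol : QuadraticMap.polar Q = f := by
      funext u v
      simp only [QuadraticMap.polar, Q, hb.add_left, hb.add_right, hsymm u v]
      field_simp
      ring
    have hQ : IsNondegenerateQuadraticForm Q :=
      ⟨fun c u => by simp only [Q, hb.smul_left, hb.smul_right]; ring, hpol ▸ hb, hpol ▸ hnd⟩
    refine .quadratic (odd_card_of_two_ne_zero h2F) Q hQ fun g hg =>
      mem_quadSimilarityGroup_of_normalizes hQ h2F hR.absIrred (fun s hs v => by simp only [Q, hfix s hs]) (hR.normal g hg)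
  · refine .symplectic f ⟨hb, fun v w => ?_, fun v => ?_, hnd⟩ fun g hg =>
      mem_similarityGroup_of_normalizes (RingEquiv.refl F) (semiForm_of_bilinear hb) hnd hR.absIrred hfix (hR.normal g hg)
    · rw [hswap w v, hskew, Matrix.neg_mulVec, dotProduct_neg]
    · have e : f v v = -f v v := by
        conv_lhs => rw [hswap, hskew, Matrix.neg_mulVec, dotProduct_neg]
      exact (mul_eq_zero.mp (show (2 : F) * f v v = 0 by linear_combination e)).resolve_left h2F

end Cfsg.Agent.Classical
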