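/-
The subgroup theorem for the general linear group in dimension at least three.
-/
import Cfsg.Agent.Lib.Classical.CommAlgebra
import Cfsg.Agent.Lib.Classical.CentralProduct
import Cfsg.Agent.Lib.Classical.SymplecticType

set_option autoImplicit false
set_option linter.style.haveILetI false

namespace Cfsg.Agent.Classical

open Matrix Cfsg.Geo
open scoped commutatorElement Kronecker

variable {ι : Type} [Fintype ι] [DecidableEq ι] {F : Type*} [Field F]

/-- A quadratic form in characteristic two polarises to a symplectic form. -/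
theorem isSymplecticForm_polar_of_two_eq_zero {Q : (ι → F) → F} (hQ : IsNondegenerateQuadraticForm Q)
    (h2 : (2 : F) = 0) : IsSymplecticForm (QuadraticMap.polar Q) :=
  ⟨hQ.polar_bilinear, fun v w => by rw [QuadraticMap.polar_comm, eq_neg_iff_add_eq_zero, ← two_mul, h2, zero_mul],
    fun v => by rw [polar_self_eq hQ, h2, zero_mul], hQ.nondegenerate⟩

/-- A group permuting the factors of a tensor power, in terms of the classes. -/
theorem outcome_of_wreath [Fintype F] {H : Subgroup (GL ι F)} {m t : ℕ} (hm : 2 ≤ m) (ht : 2 ≤ t)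
    (e : ι ≃ (Fin t → Fin m)) (P : GL ι F) (h : H ≤ tensorWreathSubgroup m t e P) : LinOutcome H := by
  rcases eq_or_lt_of_le hm with rfl | hm3
  · rcases binary_wreath_form (by omega) e P h with ⟨hq, -, Q, hQ, hle⟩ | ⟨f, hf, hle⟩
    · exact .quadratic hq Q hQ hle
    · exact .symplectic f hf hle
  · exact .wreath m t e P hm3 ht h

/-- The centre of the commutant, as an algebra. -/
def commutantCentre (N : Subgroup (GL ι F)) : Subalgebra F (Matrix ι ι F) :=
  commutant N ⊓ Subalgebra.centralizer F (commutant N : Set (Matrix ι ι F))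

theorem mem_commutantCentre {N : Subgroup (GL ι F)} {z : Matrix ι ι F} :
    z ∈ commutantCentre N ↔ z ∈ commutant N ∧ ∀ c ∈ commutant N, z * c = c * z := by
  rw [commutantCentre, Algebra.mem_inf, Subalgebra.mem_centralizer_iff]
  exact and_congr_right fun _ => ⟨fun h c hc => (h c hc).symm, fun h c hc => (h c hc).symm⟩

theorem normalizer_le_centreNormalizer {H N : Subgroup (GL ι F)} (hn : NormalIn H N) :
    H ≤ subalgebraNormalizer (commutantCentre N) := by
  have hN := normalizer_le_commutantNormalizer hn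
  have key : ∀ g ∈ H, ∀ k : Matrix ι ι F, k ∈ commutantCentre N →
      (g : Matrix ι ι F) * k * ((g⁻¹ : GL ι F) : Matrix ι ι F) ∈ commutantCentre N := by
    intro g hg k hk
    rw [mem_commutantCentre] at hk ⊢
    refine ⟨(hN hg k).mp hk.1, fun c hc => ?_⟩
    have h1 := hk.2 _ ((hN (inv_mem hg) c).mp hc)
    rw [inv_inv] at h1
    have h2 := congrArg (fun z => (g : Matrix ι ι F) * z * ((g⁻¹ : GL ι F) : Matrix ι ι F)) h1
    simp only [← Matrix.mul_assoc, Units.mul_inv, Matrix.one_mul] at h2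
    simp only [Matrix.mul_assoc, Units.mul_inv, Matrix.mul_one] at h2
    simp only [Matrix.mul_assoc]
    exact h2
  intro g hg k
  refine ⟨key g hg k, fun h => ?_⟩
  have := key g⁻¹ (inv_mem hg) _ h
  simpa [← Matrix.mul_assoc, Matrix.mul_assoc _ _ (g : Matrix ι ι F)] using this

/-- A group normalising one factor of a tensor decomposition preserves the decomposition. -/
theorem exists_kronecker_coord {d k : ℕ} (hd : 0 < d) (hk : 0 < k) (e : ι ≃ Fin d × Fin k) (P : GL ι F)
    {H N : Subgroup (GL ι F)} (hn : NormalIn H N)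
    (hchar : ∀ M, M ∈ commutant N ↔ ∃ Y, matCoord e P M = (1 : Matrix (Fin d) (Fin d) F) ⊗ₖ Y) {g : GL ι F} (hg : g ∈ H) :
    ∃ (a : GL (Fin d) F) (b : GL (Fin k) F),
      matCoord e P (g : Matrix ι ι F) = (a : Matrix (Fin d) (Fin d) F) ⊗ₖ (b : Matrix (Fin k) (Fin k) F) := by
  haveI : Nonempty (Fin d) := ⟨⟨0, hd⟩⟩
  haveI : Nonempty (Fin k) := ⟨⟨0, hk⟩⟩
  refine kronecker_of_intertwines (matCoord_isUnit e P g) fun Y => ?_
  have hM : matLift e P ((1 : Matrix (Fin d) (Fin d) F) ⊗ₖ Y) ∈ commutant N := (hchar _).mpr ⟨Y, matCoord_matLift _ _ _⟩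
  obtain ⟨Y', hY'⟩ := (hchar _).mp ((normalizer_le_commutantNormalizer hn hg _).mp hM)
  refine ⟨Y', ?_⟩
  rw [← hY', ← matCoord_mul, Matrix.mul_assoc, Units.inv_mul, Matrix.mul_one, matCoord_mul, matCoord_matLift]

/-- A group preserving a tensor decomposition with equal factors lies in a wreath subgroup. -/
theorem le_wreath_of_square {d : ℕ} (e : ι ≃ Fin d × Fin d) (P : GL ι F) {H : Subgroup (GL ι F)}
    (h : ∀ g ∈ H, ∃ (a b : GL (Fin d) F),
      matCoord e P (g : Matrix ι ι F) = (a : Matrix (Fin d) (Fin d) F) ⊗ₖ (b : Matrix (Fin d) (Fin d) F)) :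
    H ≤ tensorWreathSubgroup d 2 (e.trans (finTwoArrowEquiv (Fin d)).symm) P := by
  intro g hg
  obtain ⟨a, b, hab⟩ := h g hg
  rw [tensorWreathSubgroup, mem_conj_reindex_iff]
  refine Subgroup.subset_closure (Or.inl ⟨![a, b], fun x y => ?_⟩)
  rw [coe_glReindex_conj, Fin.prod_univ_two]
  have := congrFun (congrFun hab (x 0, x 1)) (y 0, y 1)
  rw [Matrix.kronecker_apply] at this
  exact this

theorem le_tensor_of_kronecker {d k : ℕ} (e : ι ≃ Fin d × Fin k) (P : GL ι F) {H : Subgroup (GL ι F)}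
    (h : ∀ g ∈ H, ∃ (a : GL (Fin d) F) (b : GL (Fin k) F),
      matCoord e P (g : Matrix ι ι F) = (a : Matrix (Fin d) (Fin d) F) ⊗ₖ (b : Matrix (Fin k) (Fin k) F)) :
    H ≤ tensorProductSubgroup d k e P := by
  intro g hg
  obtain ⟨a, b, hab⟩ := h g hg
  rw [tensorProductSubgroup, mem_conj_reindex_iff]
  exact ⟨a, b, hab⟩

theorem le_tensor_of_kronecker_swap {d k : ℕ} (e : ι ≃ Fin d × Fin k) (P : GL ι F) {H : Subgroup (GL ι F)}
    (h : ∀ g ∈ H, ∃ (a : GL (Fin d) F) (b : GL (Fin k) F),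
      matCoord e P (g : Matrix ι ι F) = (a : Matrix (Fin d) (Fin d) F) ⊗ₖ (b : Matrix (Fin k) (Fin k) F)) :
    H ≤ tensorProductSubgroup k d (e.trans (Equiv.prodComm _ _)) P := by
  refine le_tensor_of_kronecker _ P fun g hg => ?_
  obtain ⟨a, b, hab⟩ := h g hg
  refine ⟨b, a, ?_⟩
  ext ⟨i, x⟩ ⟨j, y⟩
  have := congrFun (congrFun hab (x, i)) (y, j)
  rw [Matrix.kronecker_apply] at this ⊢
  rw [mul_comm]
  exact this

/-- Where a subgroup of the general linear group in dimension at least three lies. -/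
theorem lin_aschbacher [Fintype F] (h3 : 3 ≤ Fintype.card ι) (H : Subgroup (GL ι F)) : LinOutcome H := by
  classical
  haveI : Nonempty ι := Fintype.card_pos_iff.mp (by omega)
  by_cases hirr : ActsIrreducibly (matrixSet H)
  swap
  · obtain ⟨W, h0, h1, h⟩ := (not_actsIrreducibly_iff H).mp hirr
    exact .subspace W h0 h1 h
  have hnoscal : ¬ H ≤ scalars ι F := fun h => by
    obtain ⟨i⟩ := ‹Nonempty ι›
    have hne : (Pi.single i 1 : ι → F) ≠ 0 := by simp
    rcases hirr (F ∙ (Pi.single i 1 : ι → F)) (by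
      rintro _ ⟨g, hg, rfl⟩
      obtain ⟨a, ha⟩ := (mem_scalars_iff g).mp (h hg)
      rw [map_toLin'_le]
      intro w hw
      change (g : Matrix ι ι F) *ᵥ w ∈ _
      rw [ha, Matrix.smul_mulVec, Matrix.one_mulVec]
      exact Submodule.smul_mem _ _ hw) with hb | ht
    · exact hne (Submodule.span_singleton_eq_bot.mp hb)
    · have := congrArg (fun W : Submodule F (ι → F) => Module.finrank F W) ht
      simp only [finrank_top, Module.finrank_fintype_fun_eq_card, finrank_span_singleton hne] at this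
      omega
  let Good : Subgroup (GL ι F) → Prop := fun M => M ≤ H ∧ NormalIn H M ∧ H ⊓ scalars ι F ≤ M ∧ ¬ M ≤ scalars ι F
  obtain ⟨M, ⟨hMH, hMn, hZM, hMs⟩, hmin⟩ := exists_minimal_of_wellFoundedLT Good
    ⟨H, le_rfl, normalIn_of_le_self le_rfl, inf_le_left, hnoscal⟩
  have hminimal : ∀ A : Subgroup (GL ι F), A ≤ M → NormalIn H A → ¬ A ≤ scalars ι F → A ⊔ (H ⊓ scalars ι F) = M := by
    intro A hA hAn hAs
    refine le_antisymm (sup_le hA hZM) (hmin ⟨(sup_le hA hZM).trans hMH, hAn.sup (scalars_le_inf_normal H),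
      le_sup_right, fun h => hAs (le_sup_left.trans h)⟩ (sup_le hA hZM))
  -- the centre of the commutant
  have hZc : ∀ x ∈ commutantCentre M, ∀ y ∈ commutantCentre M, x * y = y * x := fun x hx y hy =>
    (mem_commutantCentre.mp hx).2 y (mem_commutantCentre.mp hy).1
  rcases comm_algebra_cases hirr hZc (normalizer_le_centreNormalizer hMn) with hscal | ⟨t, m, D, hD, h⟩ | ⟨r, K, hr, hK, h⟩
  rotate_left
  · exact .decomposition t m D hD h
  · exact .field r K hr hK h
  obtain ⟨d, k, e, P, hd, hk, hchar, hk1⟩ := tensor_split hirr hMn fun z hz hzc =>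
    hscal z (mem_commutantCentre.mpr ⟨hz, hzc⟩)
  have hd2 : 2 ≤ d := by
    by_contra hlt
    have hsub : ∀ u : Fin d, u = ⟨0, hd⟩ := fun u => Fin.ext (by have := u.2; change (u : ℕ) = 0; omega)
    apply hMs
    intro q hq
    obtain ⟨c, hc⟩ := scalar_of_commute_all (M := (q : Matrix ι ι F)) fun Y => by
      refine mem_commutant_iff.mp ((hchar Y).mpr
        ⟨Matrix.of fun i j => matCoord e P Y (⟨0, hd⟩, i) (⟨0, hd⟩, j), ?_⟩) q hq
      ext ⟨a, i⟩ ⟨b, j⟩
      rw [hsub a, hsub b]
      simp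
    exact mem_scalars_of_eq hc
  by_cases hk2 : 2 ≤ k
  · have hkr := fun g hg => exists_kronecker_coord hd hk e P hMn hchar (g := g) hg
    rcases lt_trichotomy d k with hlt | rfl | hgt
    · exact .tensor d k e P hd2 hlt (le_tensor_of_kronecker e P hkr)
    · exact outcome_of_wreath hd2 le_rfl _ P (le_wreath_of_square e P hkr)
    · exact .tensor k d _ P hk2 hgt (le_tensor_of_kronecker_swap e P hkr)
  have hMa := hk1 (by omega)
  have hab : ∃ x ∈ M, ∃ y ∈ M, x * y ≠ y * x := by
    by_contra hcon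
    push Not at hcon
    exact hMs fun x hx => mem_scalars_of_absIrr hMa fun y hy => hcon x hx y hy
  by_cases hcs : ⁅M, M⁆ ≤ scalars ι F
  · refine symplectic_outcome h3 hMn hMa hab (fun x hx y hy => ?_) fun A hA hAn hAs hAns => ?_
    · simpa [commutatorElement_def] using hcs (Subgroup.commutator_mem_commutator hx hy)
    · rw [← hminimal A hA hAn hAns, sup_of_le_left]
      exact le_trans (le_inf hZM inf_le_right) hAs
  -- the perfect case
  set P₁ := ⁅M, M⁆ with hP₁
  have hPM : P₁ ≤ M := commutator_self_le M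
  have hPn : NormalIn H P₁ := hMn.commutator hMn
  have hMeq := hminimal P₁ hPM hPn hcs
  have hPperf : ⁅P₁, P₁⁆ = P₁ := le_antisymm (commutator_self_le P₁) (by
    conv_lhs => rw [hP₁, ← hMeq]
    exact commutator_sup_scalars inf_le_right)
  have hMdec : ∀ x ∈ M, ∃ y ∈ P₁, ∃ c : Fˣ, (x : Matrix ι ι F) = (c : F) • (y : Matrix ι ι F) := by
    intro x hx
    rw [← hMeq] at hx
    haveI : (H ⊓ scalars ι F).Normal := ⟨fun z hz g => by
      rw [← scalars_commute hz.2 g, mul_inv_cancel_right]; exact hz⟩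
    obtain ⟨y, hy, z, hz, rfl⟩ := Subgroup.mem_sup_of_normal_right.mp hx
    obtain ⟨c, hc⟩ := (mem_scalars_iff z).mp hz.2
    exact ⟨y, hy, c, by rw [Units.val_mul, hc, Matrix.mul_smul, Matrix.mul_one]⟩
  have hPa : ActsAbsolutelyIrreducibly (matrixSet P₁) := by
    refine ⟨fun W hW => hMa.1 W ?_, fun X hX => hMa.2 X ?_⟩
    · rintro _ ⟨x, hx, rfl⟩
      obtain ⟨y, hy, c, hc⟩ := hMdec x hx
      rw [map_toLin'_le]
      intro w hw
      change (x : Matrix ι ι F) *ᵥ w ∈ _
      rw [hc, Matrix.smul_mulVec]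
      exact Submodule.smul_mem _ _ (map_toLin'_le.mp (hW _ (coe_mem_matrixSet hy)) w hw)
    · rintro _ ⟨x, hx, rfl⟩
      obtain ⟨y, hy, c, hc⟩ := hMdec x hx
      change X * (x : Matrix ι ι F) = (x : Matrix ι ι F) * X
      rw [hc, Matrix.mul_smul, Matrix.smul_mul, hX _ (coe_mem_matrixSet hy)]
  have hminP : ∀ A : Subgroup (GL ι F), A ≤ P₁ → NormalIn H A → ¬ A ≤ scalars ι F → A = P₁ := by
    intro A hA hAn hAs
    refine le_antisymm hA ?_
    conv_lhs => rw [hP₁, ← hminimal A (hA.trans hPM) hAn hAs]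
    exact (commutator_sup_scalars inf_le_right).trans (commutator_self_le A)
  by_cases hreal : ∃ F₀ : Subfield F, F₀ ≠ ⊤ ∧ RealisableOver F₀ (matrixSet P₁)
  · obtain ⟨F₀, h0, hr⟩ := hreal
    obtain ⟨F₁, r, B, hr', hc, hle⟩ := le_subfieldSubgroup_of_normal hPn hPa h0 hr
    exact .subfield F₁ r B hr' hc hle
  by_cases hsymp : ∃ f : (ι → F) → (ι → F) → F, IsSymplecticForm f ∧ FixesForm (matrixSet P₁) f
  · obtain ⟨f, hf, hfix⟩ := hsymp
    exact .symplectic f hf fun g hg => mem_similarityGroup_of_normalizes (RingEquiv.refl F)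
      (semiForm_of_bilinear hf.bilinear) hf.nondegenerate hPa hfix (hPn g hg)
  by_cases hquad : ∃ Q : (ι → F) → F, IsNondegenerateQuadraticForm Q ∧ FixesQuadForm (matrixSet P₁) Q
  · obtain ⟨Q, hQ, hfix⟩ := hquad
    by_cases h2 : (2 : F) = 0
    · exact absurd ⟨_, isSymplecticForm_polar_of_two_eq_zero hQ h2, quad_fixes_polar hfix⟩ hsymp
    · exact .quadratic (odd_card_of_two_ne_zero h2) Q hQ fun g hg =>
        mem_quadSimilarityGroup_of_normalizes hQ h2 hPa hfix (hPn g hg)
  by_cases hunit : ∃ (σ : F ≃+* F) (f : (ι → F) → (ι → F) → F), IsUnitaryForm σ f ∧ FixesForm (matrixSet P₁) f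
  · obtain ⟨σ, f, hf, hfix⟩ := hunit
    exact .unitary σ f hf fun g hg =>
      mem_similarityGroup_of_normalizes σ (semiForm_of_unitary hf) hf.nondegenerate hPa hfix (hPn g hg)
  rcases simple_or_wreath (hPM.trans hMH) hPn hPa hPperf hcs hminP with hsimple | ⟨m, t, e', B, hm, ht, hle, -⟩
  swap
  · exact outcome_of_wreath hm ht e' B hle
  refine .residual ⟨P₁, ⟨hPM.trans hMH, hPn, hPperf, hsimple, ?_, ?_, hPa, fun F₀ h0 hr => hreal ⟨F₀, h0, hr⟩⟩,
    hquad, hsymp, hunit⟩
  · intro hcomm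
    apply hcs
    rw [← hPperf, Subgroup.commutator_le]
    intro a ha b hb
    have e := hcomm.is_comm.comm (QuotientGroup.mk' ((scalars ι F).subgroupOf P₁) ⟨a, ha⟩) (QuotientGroup.mk' _ ⟨b, hb⟩)
    rw [← commutatorElement_eq_one_iff_mul_comm, ← map_commutatorElement, QuotientGroup.mk'_apply, QuotientGroup.eq_one_iff] at e
    exact e
  · intro g hg hsc
    refine mem_scalars_of_absIrr hPa fun x hx => ?_
    refine (commute_commutator_of_mod_scalars (A := P₁) (y := g) (fun a ha => ?_) x (hPperf.symm ▸ hx)).symm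
    have := inv_mem (hsc a ha)
    simpa [mul_assoc] using this

end Cfsg.Agent.Classical
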