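/-
Changing the bases of the factors of a tensor structure on a form.
-/
import Cfsg.Agent.Lib.Classical.FormWreath
import Cfsg.Agent.Lib.Classical.FormTensor
import Cfsg.Agent.Lib.Classical.LinAschbacher

set_option autoImplicit false
set_option linter.style.haveILetI false

namespace Cfsg.Agent.Classical

open Matrix Cfsg.Geo
open scoped Kronecker

variable {ι : Type} [Fintype ι] [DecidableEq ι] {F : Type*} [Field F]
variable {κ : Type} [Fintype κ] [DecidableEq κ]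
variable {σ : F ≃+* F} {ε : F} {f : (ι → F) → (ι → F) → F}

theorem coe_glReindex_symm (e : ι ≃ κ) (T : GL κ F) :
    ((glReindex (F := F) e.symm T : GL ι F) : Matrix ι ι F) = (T : Matrix κ κ F).submatrix e e := rfl

/-- The pure tensor of invertible matrices. -/
def pureGL {m t : ℕ} : (Fin t → GL (Fin m) F) →* GL (Fin t → Fin m) F :=
  Units.map ({ toFun := fun A => pureM A, map_one' := pureM_one, map_mul' := fun A B => (pureM_mul A B).symm } :
    (Fin t → Matrix (Fin m) (Fin m) F) →* Matrix (Fin t → Fin m) (Fin t → Fin m) F) |>.comp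
    MulEquiv.piUnits.symm.toMonoidHom

theorem pureGL_coe {m t : ℕ} (A : Fin t → GL (Fin m) F) :
    ((pureGL A : GL (Fin t → Fin m) F) : Matrix (Fin t → Fin m) (Fin t → Fin m) F) =
      pureM fun i => (A i : Matrix (Fin m) (Fin m) F) := rfl

/-- Change of basis in every factor of a power. -/
theorem exists_power_rebase {m t : ℕ} (e : ι ≃ (Fin t → Fin m)) (B : GL ι F) {c : F} {G₀ : Matrix (Fin m) (Fin m) F}
    (hG : gramCoord σ f e B = c • pureM fun _ => G₀) (A : GL (Fin m) F) :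
    ∃ B' : GL ι F, gramCoord σ f e B' = c • pureM (fun _ => (A : Matrix (Fin m) (Fin m) F)ᵀ * G₀ * (A : Matrix (Fin m) (Fin m) F).map σ) ∧
      tensorWreathSubgroup m t e B ≤ tensorWreathSubgroup m t e B' := by
  set T : GL (Fin t → Fin m) F := pureGL fun _ => A with hT
  set T' : GL ι F := glReindex e.symm T
  refine ⟨B * T', ?_, fun g hg => ?_⟩
  · rw [gramCoord_mul_basis e B T T' (coe_glReindex_symm e T), hG, hT, pureGL_coe, pureM_transpose, pureM_map,
      Matrix.mul_smul, Matrix.smul_mul, pureM_mul, pureM_mul]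
  · rw [tensorWreathSubgroup, mem_conj_reindex_iff] at hg ⊢
    have hTm : T ∈ tensorWreathStandard m t F := Subgroup.subset_closure (Or.inl ⟨fun _ => A, fun x y => rfl⟩)
    have e1 : glReindex (F := F) e ((B * T')⁻¹ * g * (B * T')) = T⁻¹ * glReindex e (B⁻¹ * g * B) * T := by
      have hTT : glReindex (F := F) e T' = T := Units.ext (by ext a b; simp [T', glReindex])
      rw [show (B * T')⁻¹ * g * (B * T') = T'⁻¹ * (B⁻¹ * g * B) * T' by group, map_mul, map_mul, map_inv, hTT]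
    rw [e1]
    exact mul_mem (mul_mem (inv_mem hTm) hg) hTm

/-- Change of basis in the two factors. -/
theorem exists_tensor_rebase {d k : ℕ} (e : ι ≃ Fin d × Fin k) (P : GL ι F) {c : F} {G₁ : Matrix (Fin d) (Fin d) F}
    {G₂ : Matrix (Fin k) (Fin k) F} (hG : gramCoord σ f e P = c • (G₁ ⊗ₖ G₂)) (A₁ : GL (Fin d) F) (A₂ : GL (Fin k) F)
    {H : Subgroup (GL ι F)}
    (hkr : ∀ g ∈ H, ∃ (a : GL (Fin d) F) (b : GL (Fin k) F),
      matCoord e P (g : Matrix ι ι F) = (a : Matrix (Fin d) (Fin d) F) ⊗ₖ (b : Matrix (Fin k) (Fin k) F)) :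
    ∃ P' : GL ι F, gramCoord σ f e P' = c • (((A₁ : Matrix (Fin d) (Fin d) F)ᵀ * G₁ * (A₁ : Matrix (Fin d) (Fin d) F).map σ) ⊗ₖ
        ((A₂ : Matrix (Fin k) (Fin k) F)ᵀ * G₂ * (A₂ : Matrix (Fin k) (Fin k) F).map σ)) ∧
      ∀ g ∈ H, ∃ (a : GL (Fin d) F) (b : GL (Fin k) F),
        matCoord e P' (g : Matrix ι ι F) = (a : Matrix (Fin d) (Fin d) F) ⊗ₖ (b : Matrix (Fin k) (Fin k) F) := by
  let T : GL (Fin d × Fin k) F := ⟨(A₁ : Matrix (Fin d) (Fin d) F) ⊗ₖ (A₂ : Matrix (Fin k) (Fin k) F),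
    ((A₁⁻¹ : GL (Fin d) F) : Matrix (Fin d) (Fin d) F) ⊗ₖ ((A₂⁻¹ : GL (Fin k) F) : Matrix (Fin k) (Fin k) F),
    by rw [← Matrix.mul_kronecker_mul, Units.mul_inv, Units.mul_inv, Matrix.one_kronecker_one],
    by rw [← Matrix.mul_kronecker_mul, Units.inv_mul, Units.inv_mul, Matrix.one_kronecker_one]⟩
  have hTc : (T : Matrix (Fin d × Fin k) (Fin d × Fin k) F) = (A₁ : Matrix (Fin d) (Fin d) F) ⊗ₖ (A₂ : Matrix (Fin k) (Fin k) F) := rfl
  have hTi : ((T⁻¹ : GL (Fin d × Fin k) F) : Matrix (Fin d × Fin k) (Fin d × Fin k) F) =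
    ((A₁⁻¹ : GL (Fin d) F) : Matrix (Fin d) (Fin d) F) ⊗ₖ ((A₂⁻¹ : GL (Fin k) F) : Matrix (Fin k) (Fin k) F) := rfl
  refine ⟨P * glReindex e.symm T, ?_, fun g hg => ?_⟩
  · rw [gramCoord_mul_basis e P T _ (coe_glReindex_symm e T), hG, hTc, kronecker_transpose, kronecker_map_ringEquiv,
      Matrix.mul_smul, Matrix.smul_mul, ← Matrix.mul_kronecker_mul, ← Matrix.mul_kronecker_mul]
  · obtain ⟨a, b, hab⟩ := hkr g hg
    refine ⟨A₁⁻¹ * a * A₁, A₂⁻¹ * b * A₂, ?_⟩
    rw [matCoord_mul_basis e P T _ (coe_glReindex_symm e T), hab, hTc, hTi]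
    simp only [Units.val_mul, ← Matrix.mul_kronecker_mul]

end Cfsg.Agent.Classical
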