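/-
Small solvable similitude groups, and their effect on tensor power structures.
-/
import Cfsg.Agent.Lib.Classical.FormBasis
import Cfsg.Agent.Lib.Classical.FieldSubalgebra
import Cfsg.Agent.Lib.Char.Burnside

set_option autoImplicit false
set_option linter.style.haveILetI false

namespace Cfsg.Agent.Classical

open Matrix Cfsg.Geo

variable {ι : Type} [Fintype ι] [DecidableEq ι] {F : Type*} [Field F]

theorem isSolvable_of_card_le_perm {α : Type*} [Fintype α] (h : Fintype.card α ≤ 4) : Group.IsSolvable (Equiv.Perm α) := by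
  classical
  refine Char.isSolvable_of_two_primes Nat.prime_two Nat.prime_three _ rfl fun r hr hdvd => ?_
  rw [Nat.card_eq_fintype_card, Fintype.card_perm] at hdvd
  have h4 : r ∣ 24 := hdvd.trans (show Nat.factorial (Fintype.card α) ∣ Nat.factorial 4 from Nat.factorial_dvd_factorial h)
  have hle : r ≤ 4 := by
    by_contra hlt
    exact hlt ((hr.dvd_factorial).mp (show r ∣ Nat.factorial 4 from h4))
  have := hr.two_le
  interval_cases r <;> simp_all (config := { decide := true })

theorem isSolvable_GL_two_three [Fintype F] (h3 : Fintype.card F = 3) : Group.IsSolvable (GL (Fin 2) F) := by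
  classical
  refine Char.isSolvable_of_two_primes Nat.prime_two Nat.prime_three _ rfl fun r hr hdvd => ?_
  rw [Matrix.card_GL_field, h3] at hdvd
  have h48 : r ∣ 2 ^ 4 * 3 := by simpa [Fin.prod_univ_two] using hdvd
  rcases hr.dvd_mul.mp h48 with h | h
  · exact Or.inl ((Nat.prime_dvd_prime_iff_eq hr Nat.prime_two).mp (hr.dvd_of_dvd_pow h))
  · exact Or.inr ((Nat.prime_dvd_prime_iff_eq hr Nat.prime_three).mp h)

/-- The unitary group of a unit form. -/
def unitGroup (σ : F ≃+* F) (m : ℕ) : Subgroup (GL (Fin m) F) where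
  carrier := {a | (a : Matrix (Fin m) (Fin m) F)ᵀ * (a : Matrix (Fin m) (Fin m) F).map σ = 1}
  one_mem' := by simp [Matrix.map_one σ (map_zero σ) (map_one σ)]
  mul_mem' := by
    intro a b ha hb
    change ((a * b : GL (Fin m) F) : Matrix (Fin m) (Fin m) F)ᵀ * ((a * b : GL (Fin m) F) : Matrix (Fin m) (Fin m) F).map σ = 1
    rw [Units.val_mul, Matrix.transpose_mul, Matrix.map_mul, Matrix.mul_assoc, ← Matrix.mul_assoc ((a : Matrix (Fin m) (Fin m) F)ᵀ),
      show (a : Matrix (Fin m) (Fin m) F)ᵀ * (a : Matrix (Fin m) (Fin m) F).map σ = 1 from ha, Matrix.one_mul]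
    exact hb
  inv_mem' := by
    intro a ha
    have h : (a : Matrix (Fin m) (Fin m) F)ᵀ * (a : Matrix (Fin m) (Fin m) F).map σ = 1 := ha
    change ((a⁻¹ : GL (Fin m) F) : Matrix (Fin m) (Fin m) F)ᵀ * ((a⁻¹ : GL (Fin m) F) : Matrix (Fin m) (Fin m) F).map σ = 1
    have h1 : ((a⁻¹ : GL (Fin m) F) : Matrix (Fin m) (Fin m) F)ᵀ * (a : Matrix (Fin m) (Fin m) F)ᵀ = 1 := by
      rw [← Matrix.transpose_mul, Units.mul_inv, Matrix.transpose_one]
    have h2 : (a : Matrix (Fin m) (Fin m) F).map σ * ((a⁻¹ : GL (Fin m) F) : Matrix (Fin m) (Fin m) F).map σ = 1 := by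
      rw [← Matrix.map_mul, Units.mul_inv, Matrix.map_one σ (map_zero σ) (map_one σ)]
    calc _ = ((a⁻¹ : GL (Fin m) F) : Matrix (Fin m) (Fin m) F)ᵀ * ((a : Matrix (Fin m) (Fin m) F)ᵀ *
        (a : Matrix (Fin m) (Fin m) F).map σ) * ((a⁻¹ : GL (Fin m) F) : Matrix (Fin m) (Fin m) F).map σ := by
          rw [h, Matrix.mul_one]
      _ = (((a⁻¹ : GL (Fin m) F) : Matrix (Fin m) (Fin m) F)ᵀ * (a : Matrix (Fin m) (Fin m) F)ᵀ) *
        ((a : Matrix (Fin m) (Fin m) F).map σ * ((a⁻¹ : GL (Fin m) F) : Matrix (Fin m) (Fin m) F).map σ) := by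
          simp only [Matrix.mul_assoc]
      _ = 1 := by rw [h1, h2, Matrix.mul_one]

section Four

variable [Fintype F] {σ : F ≃+* F} (hσ : IsUSigma 2 σ)

include hσ

theorem unit_four : (2 : F) = 0 ∧ ∀ x : F, x ≠ 0 → x * σ x = 1 ∧ x * x * x = 1 := by
  have hcard : Fintype.card F = 4 := by rw [hσ.card]; rfl
  haveI := char_two_of_card_four hcard
  refine ⟨CharTwo.two_eq_zero, fun x hx => ?_⟩
  have h := FiniteField.pow_card_sub_one_eq_one x hx
  rw [hcard] at h
  rw [hσ.apply_eq]
  exact ⟨by linear_combination h, by linear_combination h⟩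

/-- The label of the frame of a unit vector. -/
def frameLabel (v : Fin 3 → F) : F := v 0 * v 1 * v 2

omit hσ [Fintype F] in
theorem frameLabel_smul {s : F} (hs : s * s * s = 1) (v : Fin 3 → F) : frameLabel (s • v) = frameLabel v := by
  simp only [frameLabel, Pi.smul_apply, smul_eq_mul]
  linear_combination (v 0 * v 1 * v 2) * hs

/-- The three coordinates of a unit vector: one or three are nonzero. -/
theorem unit_shape {v : Fin 3 → F} (hv : v ⬝ᵥ (σ ∘ v) = 1) :
    (v 0 ≠ 0 ∧ v 1 ≠ 0 ∧ v 2 ≠ 0) ∨ ∃ i, v i ≠ 0 ∧ ∀ j, j ≠ i → v j = 0 := by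
  classical
  obtain ⟨h2, hx⟩ := unit_four hσ
  have hval : ∀ i, v i * σ (v i) = if v i = 0 then 0 else 1 := fun i => by
    split_ifs with h
    · rw [h, zero_mul]
    · exact (hx _ h).1
  simp only [dotProduct, Fin.sum_univ_three, Function.comp_apply, hval] at hv
  by_cases h0 : v 0 = 0 <;> by_cases h1 : v 1 = 0 <;> by_cases h2' : v 2 = 0 <;>
    simp only [h0, h1, h2', if_true, if_false, add_zero, zero_add] at hv
  · exact absurd hv zero_ne_one
  · exact Or.inr ⟨2, h2', fun j hj => by fin_cases j <;> first | assumption | exact absurd rfl hj⟩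
  · exact Or.inr ⟨1, h1, fun j hj => by fin_cases j <;> first | assumption | exact absurd rfl hj⟩
  · exact absurd (show (0 : F) = 1 by linear_combination hv - h2) zero_ne_one
  · exact Or.inr ⟨0, h0, fun j hj => by fin_cases j <;> first | assumption | exact absurd rfl hj⟩
  · exact absurd (show (0 : F) = 1 by linear_combination hv - h2) zero_ne_one
  · exact absurd (show (0 : F) = 1 by linear_combination hv - h2) zero_ne_one
  · exact Or.inl ⟨h0, h1, h2'⟩

/-- Unit vectors are either orthogonal or proportional exactly when the labels agree. -/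
theorem label_eq_iff {v w : Fin 3 → F} (hv : v ⬝ᵥ (σ ∘ v) = 1) (hw : w ⬝ᵥ (σ ∘ w) = 1) :
    frameLabel v = frameLabel w ↔ v ⬝ᵥ (σ ∘ w) = 0 ∨ ∃ s : F, s * s * s = 1 ∧ w = s • v := by
  obtain ⟨h2, hx⟩ := unit_four hσ
  constructor
  · intro h
    rcases unit_shape hσ hv with ⟨v0, v1, v2⟩ | ⟨i, hi, hiv⟩
    · have hl : frameLabel v ≠ 0 := mul_ne_zero (mul_ne_zero v0 v1) v2
      rcases unit_shape hσ hw with ⟨w0, w1, w2⟩ | ⟨j, hj, hjw⟩
      swap
      · apply absurd _ hl
        rw [h, frameLabel]
        fin_cases j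
        · rw [hjw 1 (by decide), mul_zero, zero_mul]
        · rw [hjw 0 (by decide), zero_mul, zero_mul]
        · rw [hjw 0 (by decide), zero_mul, zero_mul]
      set a := v 0 * σ (w 0)
      set b := v 1 * σ (w 1)
      set c := v 2 * σ (w 2)
      have hl' : frameLabel w ≠ 0 := h ▸ hl
      have habc : a * b * c = 1 := by
        have e := (hx (frameLabel w) hl').1
        conv at e => lhs; lhs; rw [← h]
        simp only [frameLabel, map_mul] at e
        simp only [a, b, c]
        linear_combination e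
      have ha : a ≠ 0 := mul_ne_zero v0 ((map_ne_zero σ).mpr w0)
      have hb : b ≠ 0 := mul_ne_zero v1 ((map_ne_zero σ).mpr w1)
      have hc : c ≠ 0 := mul_ne_zero v2 ((map_ne_zero σ).mpr w2)
      have key : a + b + c = 0 ∨ (a = b ∧ b = c) := by
        have a3 := (hx a ha).2
        have b3 := (hx b hb).2
        have hcc : c = a * a * (b * b) := by
          linear_combination (a * a * (b * b)) * habc - c * b3 * (a * a * a) - c * a3
        by_cases hab : a = b
        · right
          refine ⟨hab, ?_⟩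
          rw [hcc, hab]
          linear_combination -b * b3
        · left
          have hprod : (a - b) * (a * a + a * b + b * b) = 0 := by linear_combination a3 - b3
          have h1 := (mul_eq_zero.mp hprod).resolve_left (sub_ne_zero.mpr hab)
          rw [hcc]
          linear_combination (a * a * a * b * b) * h1 - (a * a * b * b + a + b) * a3 - ((a + b) * (a * a * a)) * b3
      rcases key with h0 | ⟨hab, hbc⟩
      · left
        simpa [dotProduct, Fin.sum_univ_three, a, b, c] using h0
      · right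
        have hs := hx a ha
        refine ⟨σ a, by rw [← map_mul, ← map_mul, hs.2, map_one], ?_⟩
        have hva : ∀ k, v k ≠ 0 → v k * σ (w k) = a → w k = σ a * v k := fun k hk e => by
          have e' : σ (v k) * w k = σ a := by
            have := congrArg σ e
            rwa [map_mul, hσ.involutive] at this
          rw [← e']
          linear_combination (-(w k)) * (hx (v k) hk).1
        funext k
        rw [Pi.smul_apply, smul_eq_mul]
        fin_cases k
        · exact hva 0 v0 rfl
        · exact hva 1 v1 hab.symm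
        · exact hva 2 v2 (hbc.symm.trans hab.symm)
    · have hl : frameLabel v = 0 := by
        rw [frameLabel]
        fin_cases i
        · rw [hiv 1 (by decide), mul_zero, zero_mul]
        · rw [hiv 0 (by decide), zero_mul, zero_mul]
        · rw [hiv 0 (by decide), zero_mul, zero_mul]
      rcases unit_shape hσ hw with ⟨w0, w1, w2⟩ | ⟨j, hj, hjw⟩
      · exact absurd (h.symm.trans hl) (mul_ne_zero (mul_ne_zero w0 w1) w2)
      by_cases hij : i = j
      · subst hij
        right
        refine ⟨w i * σ (v i), (hx _ (mul_ne_zero hj ((map_ne_zero σ).mpr hi))).2, ?_⟩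
        funext k
        rw [Pi.smul_apply, smul_eq_mul]
        by_cases hk : k = i
        · rw [hk]; linear_combination (-(w i)) * (hx (v i) hi).1
        · rw [hiv k hk, hjw k hk, mul_zero]
      · left
        simp only [dotProduct, Function.comp_apply]
        exact Finset.sum_eq_zero fun k _ => by
          by_cases hk : k = i
          · rw [hk, hjw i hij, map_zero, mul_zero]
          · rw [hiv k hk, zero_mul]
  · rintro (h | ⟨s, hs, rfl⟩)
    swap
    · exact (frameLabel_smul hs v).symm
    simp only [dotProduct, Fin.sum_univ_three, Function.comp_apply] at h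
    rcases unit_shape hσ hv with ⟨v0, v1, v2⟩ | ⟨i, hi, hiv⟩
    · rcases unit_shape hσ hw with ⟨w0, w1, w2⟩ | ⟨j, hj, hjw⟩
      · set a := v 0 * σ (w 0)
        set b := v 1 * σ (w 1)
        set c := v 2 * σ (w 2)
        have ha : a ≠ 0 := mul_ne_zero v0 ((map_ne_zero σ).mpr w0)
        have hb : b ≠ 0 := mul_ne_zero v1 ((map_ne_zero σ).mpr w1)
        have hc : c ≠ 0 := mul_ne_zero v2 ((map_ne_zero σ).mpr w2)
        have a3 := (hx a ha).2
        have b3 := (hx b hb).2
        have c3 := (hx c hc).2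
        have habc : a * b * c = 1 := by
          linear_combination a3 + b3 + c3 - (a * a + b * b + c * c - a * b - b * c - c * a) * h - (a * b * c - 1) * h2
        have e := (hx (frameLabel w) (mul_ne_zero (mul_ne_zero w0 w1) w2)).1
        simp only [frameLabel, map_mul] at e ⊢
        linear_combination (w 0 * w 1 * w 2) * habc - (v 0 * v 1 * v 2) * e
      · exfalso
        fin_cases j
        all_goals simp_all [(map_ne_zero σ).mpr, mul_ne_zero]
    · rcases unit_shape hσ hw with ⟨w0, w1, w2⟩ | ⟨j, hj, hjw⟩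
      · exfalso
        fin_cases i
        all_goals simp_all [(map_ne_zero σ).mpr, mul_ne_zero]
      · fin_cases i <;> fin_cases j <;> simp_all [frameLabel]

/-- The unitary group of degree three over four elements is solvable. -/
theorem isSolvable_unitGroup_three : Group.IsSolvable (unitGroup σ 3) := by
  classical
  obtain ⟨h2, hx⟩ := unit_four hσ
  let U := unitGroup σ 3
  let Ω := {v : Fin 3 → F // v ⬝ᵥ (σ ∘ v) = 1}
  let lab : Ω → F := fun v => frameLabel (v : Fin 3 → F)
  let L := Set.range lab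
  have hdot : ∀ (g : U) (v w : Fin 3 → F),
      (((g : GL (Fin 3) F) : Matrix (Fin 3) (Fin 3) F) *ᵥ v) ⬝ᵥ (σ ∘ (((g : GL (Fin 3) F) : Matrix (Fin 3) (Fin 3) F) *ᵥ w)) =
        v ⬝ᵥ (σ ∘ w) := fun g v w => by
    have e : (σ : F → F) ∘ (((g : GL (Fin 3) F) : Matrix (Fin 3) (Fin 3) F) *ᵥ w) =
        ((g : GL (Fin 3) F) : Matrix (Fin 3) (Fin 3) F).map σ *ᵥ (σ ∘ w) :=
      funext fun i => RingHom.map_mulVec (σ : F →+* F) _ w i
    have e' : ∀ z, (((g : GL (Fin 3) F) : Matrix (Fin 3) (Fin 3) F) *ᵥ v) ⬝ᵥ z = v ⬝ᵥ (((g : GL (Fin 3) F) : Matrix (Fin 3) (Fin 3) F)ᵀ *ᵥ z) := fun z => by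
      rw [Matrix.dotProduct_mulVec, Matrix.vecMul_transpose]
    rw [e, e', Matrix.mulVec_mulVec, show ((g : GL (Fin 3) F) : Matrix (Fin 3) (Fin 3) F)ᵀ *
      ((g : GL (Fin 3) F) : Matrix (Fin 3) (Fin 3) F).map σ = 1 from g.2, Matrix.one_mulVec]
  let act : U → Ω → Ω := fun g v => ⟨((g : GL (Fin 3) F) : Matrix (Fin 3) (Fin 3) F) *ᵥ v, (hdot g _ _).trans v.2⟩
  have hact : ∀ g v w, lab v = lab w → lab (act g v) = lab (act g w) := by
    intro g v w h
    refine (label_eq_iff hσ (act g v).2 (act g w).2).mpr ?_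
    rcases (label_eq_iff hσ v.2 w.2).mp h with h | ⟨s, hs, e⟩
    · exact Or.inl ((hdot g _ _).trans h)
    · exact Or.inr ⟨s, hs, by simp only [act]; rw [e, Matrix.mulVec_smul]⟩
  let F' : U → L → L := fun g c => ⟨lab (act g c.2.choose), _, rfl⟩
  have hF' : ∀ g v, F' g ⟨lab v, v, rfl⟩ = ⟨lab (act g v), _, rfl⟩ := fun g v => Subtype.ext
    (hact g _ _ (show lab (⟨lab v, v, rfl⟩ : L).2.choose = lab v from (⟨lab v, v, rfl⟩ : L).2.choose_spec))
  have hone : ∀ c, F' 1 c = c := by
    rintro ⟨_, v, rfl⟩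
    rw [hF']
    exact Subtype.ext (congrArg lab (Subtype.ext (by simp [act])))
  have hmul : ∀ g h c, F' (g * h) c = F' g (F' h c) := by
    rintro g h ⟨_, v, rfl⟩
    rw [hF' (g * h) v, hF' h v, hF' g (act h v)]
    exact Subtype.ext (congrArg lab (Subtype.ext (by simp [act, Matrix.mulVec_mulVec])))
  let φ : U →* Equiv.Perm L :=
    { toFun := fun g => ⟨F' g, F' g⁻¹, fun c => by rw [← hmul, inv_mul_cancel, hone], fun c => by rw [← hmul, mul_inv_cancel, hone]⟩
      map_one' := Equiv.ext hone
      map_mul' := fun g h => Equiv.ext (hmul g h) }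
  haveI : Group.IsSolvable (Equiv.Perm L) := isSolvable_of_card_le_perm (by
    calc Fintype.card L ≤ Fintype.card F := Fintype.card_le_of_injective _ Subtype.val_injective
      _ = 4 := by rw [hσ.card]; rfl)
  -- the kernel is monomial
  have hcol : ∀ g : U, φ g = 1 → ∀ i, ∃ j, ∀ k, k ≠ j → ((g : GL (Fin 3) F) : Matrix (Fin 3) (Fin 3) F) k i = 0 := by
    intro g hg i
    have hu : (Pi.single i (1 : F) : Fin 3 → F) ⬝ᵥ (σ ∘ Pi.single i 1) = 1 := by simp [single_one_dotProduct]
    have h := congrArg Subtype.val (DFunLike.congr_fun hg ⟨lab ⟨_, hu⟩, ⟨_, hu⟩, rfl⟩ : F' g ⟨lab ⟨_, hu⟩, ⟨_, hu⟩, rfl⟩ = _)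
    rw [hF'] at h
    have h0 : frameLabel (Pi.single i (1 : F)) = 0 := by fin_cases i <;> simp [frameLabel]
    simp only [lab, act, h0] at h
    rcases unit_shape hσ (act g ⟨_, hu⟩).2 with ⟨a0, a1, a2⟩ | ⟨j, -, hj⟩
    · exact absurd h (mul_ne_zero (mul_ne_zero a0 a1) a2)
    · refine ⟨j, fun k hk => ?_⟩
      have := hj k hk
      simpa [act, Matrix.mulVec_single_one] using this
  haveI : Group.IsSolvable φ.ker := by
    let π : φ.ker → Fin 3 → Fin 3 := fun g i => (hcol g.1 g.2 i).choose
    have hπ : ∀ (g : φ.ker) i k, k ≠ π g i → (((g : U) : GL (Fin 3) F) : Matrix (Fin 3) (Fin 3) F) k i = 0 :=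
      fun g i => (hcol g.1 g.2 i).choose_spec
    have hnz : ∀ (g : φ.ker) i, (((g : U) : GL (Fin 3) F) : Matrix (Fin 3) (Fin 3) F) (π g i) i ≠ 0 := fun g i h => by
      have := gl_mulVec_injective ((g : U) : GL (Fin 3) F)
        (a₁ := Pi.single i 1) (a₂ := 0) (by
          simp only [Matrix.mulVec_zero]
          funext k
          rw [Matrix.mulVec_single_one]
          by_cases hk : k = π g i
          · rw [hk]; exact h
          · exact hπ g i k hk)
      simpa using congrFun this i
    have hπmul : ∀ g h i, π (g * h) i = π g (π h i) := fun g h i => by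
      by_contra hne
      apply hnz (g * h) i
      simp only [Subgroup.coe_mul, Units.val_mul, Matrix.mul_apply]
      refine Finset.sum_eq_zero fun k _ => ?_
      by_cases hk : k = π h i
      · rw [hk, hπ g (π h i) _ hne, zero_mul]
      · rw [hπ h i k hk, mul_zero]
    have hπone : ∀ i, π 1 i = i := fun i => by
      by_contra hne
      exact one_ne_zero ((Matrix.one_apply_eq (α := F) i).symm.trans (hπ 1 i i (Ne.symm hne)))
    let ψ : φ.ker →* Equiv.Perm (Fin 3) :=
      { toFun := fun g => ⟨π g, π g⁻¹, fun i => by rw [← hπmul, inv_mul_cancel, hπone], fun i => by rw [← hπmul, mul_inv_cancel, hπone]⟩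
        map_one' := Equiv.ext hπone
        map_mul' := fun g h => Equiv.ext (hπmul g h) }
    haveI : Group.IsSolvable (Equiv.Perm (Fin 3)) := isSolvable_of_card_le_perm (by simp)
    haveI : Group.IsSolvable ψ.ker := Group.isSolvable_of_comm fun a b => by
      refine Subtype.ext (Subtype.ext (Subtype.ext (Units.ext (Matrix.ext fun k i => ?_))))
      have hd : ∀ (x : ψ.ker) k i, k ≠ i → ((((x : φ.ker) : U) : GL (Fin 3) F) : Matrix (Fin 3) (Fin 3) F) k i = 0 := fun x k i hki => by
        have hx' : π (x : φ.ker) i = i := DFunLike.congr_fun x.2 i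
        exact hπ _ i k (by rw [hx']; exact hki)
      simp only [Subgroup.coe_mul, Units.val_mul, Matrix.mul_apply]
      refine Finset.sum_congr rfl fun l _ => ?_
      by_cases h1 : k = l
      · by_cases h2' : l = i
        · subst h1 h2'; rw [mul_comm]
        · rw [hd b l i h2', hd a l i h2', mul_zero, mul_zero]
      · rw [hd a k l h1, hd b k l h1, zero_mul, zero_mul]
    exact Group.isSolvable_of_ker_le_range ψ.ker.subtype ψ (by rw [Subgroup.range_subtype])
  exact Group.isSolvable_of_ker_le_range φ.ker.subtype φ (by rw [Subgroup.range_subtype])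

end Four

theorem isSolvable_pi_fin {G : Type*} [Group G] [Group.IsSolvable G] : ∀ t : ℕ, Group.IsSolvable (Fin t → G)
  | 0 => inferInstance
  | t + 1 => by
    haveI := isSolvable_pi_fin (G := G) t
    exact Group.isSolvable_of_isSolvable_injective
      (f := (MonoidHom.prod (Pi.evalMonoidHom (fun _ : Fin (t + 1) => G) 0)
        (MonoidHom.pi fun i : Fin t => Pi.evalMonoidHom (fun _ : Fin (t + 1) => G) i.succ)))
      fun a b h => funext fun i => Fin.cases (congrArg Prod.fst h) (fun j => congrFun (congrArg Prod.snd h) j) i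

theorem mem_range_pure_of_fixes {m t : ℕ} (ht : 0 < t) (hm : 0 < m) (e : ι ≃ (Fin t → Fin m)) (B p : GL ι F)
    (h : ∀ i X, ∃ X', matCoord e B (p : Matrix ι ι F) * facM i X = facM i X' * matCoord e B (p : Matrix ι ι F)) :
    ∃ A : Fin t → GL (Fin m) F, matCoord e B (p : Matrix ι ι F) = pureM fun i => (A i : Matrix (Fin m) (Fin m) F) :=
  exists_pure_of_normalises ht hm (matCoord_isUnit e B p) h

/-- A perfect group cannot lie in a solvable group of pure tensors. -/
theorem perfect_pure_le_bot {m t : ℕ} (ht : 0 < t) (hm : 0 < m) (e : ι ≃ (Fin t → Fin m)) (B : GL ι F)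
    {P : Subgroup (GL ι F)} (hperf : ⁅P, P⁆ = P)
    (hpure : ∀ p ∈ P, ∀ i X, ∃ X', matCoord e B (p : Matrix ι ι F) * facM i X = facM i X' * matCoord e B (p : Matrix ι ι F))
    (U : Subgroup (GL (Fin m) F)) [Group.IsSolvable U]
    (hU : ∀ p ∈ P, ∀ A : Fin t → GL (Fin m) F, matCoord e B (p : Matrix ι ι F) = pureM (fun i => (A i : Matrix (Fin m) (Fin m) F)) →
      ∀ i, A i ∈ U) : P ≤ ⊥ := by
  let ψ : (Fin t → U) →* GL (Fin t → Fin m) F := pureGL.comp (MonoidHom.pi fun i => U.subtype.comp (Pi.evalMonoidHom _ i))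
  let φ : GL ι F →* GL (Fin t → Fin m) F := (glReindex (F := F) e).toMonoidHom.comp (MulAut.conj B⁻¹).toMonoidHom
  have hφ : Function.Injective φ := (glReindex (F := F) e).injective.comp (MulAut.conj B⁻¹).injective
  have hφc : ∀ p : GL ι F, (φ p : Matrix (Fin t → Fin m) (Fin t → Fin m) F) = matCoord e B (p : Matrix ι ι F) := fun p => by
    rw [← coe_glReindex_conj e B p]
    simp [φ, mul_assoc]
  have hle : P.map φ ≤ ψ.range := by
    rintro _ ⟨p, hp, rfl⟩
    obtain ⟨A, hA⟩ := mem_range_pure_of_fixes ht hm e B p (hpure p hp)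
    refine ⟨fun i => ⟨A i, hU p hp A hA i⟩, Units.ext ?_⟩
    rw [hφc, hA]
    rfl
  haveI := isSolvable_pi_fin (G := U) t
  haveI : Group.IsSolvable ψ.range := Group.isSolvable_of_surjective ψ.rangeRestrict_surjective
  haveI hs : Group.IsSolvable (P.map φ) := Group.isSolvable_of_isSolvable_injective (Subgroup.inclusion_injective hle)
  intro p hp
  by_contra hp1
  have hperf' : ⁅P.map φ, P.map φ⁆ = P.map φ := by rw [← Subgroup.map_commutator, hperf]
  have hnt : Nontrivial (P.map φ) := ⟨⟨⟨φ p, p, hp, rfl⟩, 1, fun h => hp1 (by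
    rw [Subgroup.mem_bot]
    exact hφ (by simpa using congrArg Subtype.val h))⟩⟩
  refine (Group.IsSolvable.commutator_lt_top_of_nontrivial (P.map φ)).ne ?_
  rw [eq_top_iff]
  intro x _
  have h1 : (x : GL (Fin t → Fin m) F) ∈ Subgroup.map (P.map φ).subtype (commutator (P.map φ)) := by
    rw [(P.map φ).map_subtype_commutator, hperf']
    exact x.2
  obtain ⟨y, hy, hyx⟩ := h1
  rwa [← Subtype.ext hyx]

end Cfsg.Agent.Classical
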