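import Cfsg.Agent.Lib.Classical.OrthIndex

/-!
# `-1` and the centre of the derived group
-/

set_option autoImplicit false
set_option linter.unusedSectionVars false

namespace Cfsg.Agent.Classical.OOmega

open Module QuadraticMap OCount ORefl

variable {F : Type*} [Field F] {V : Type*} [AddCommGroup V] [Module F V] [FiniteDimensional F V]
  {Q : QuadraticForm F V}

variable (Q) in
/-- `-1`. -/
def negI : ↥(Iso Q) := ⟨LinearEquiv.neg F, fun x => QuadraticMap.map_neg Q x⟩

theorem negI_apply (x : V) : (negI Q).1 x = -x := rfl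

/-- The product of the reflections along orthogonal vectors negates them and fixes their complement. -/
theorem prod_rf_apply (l : List V) (hns : ∀ w ∈ l, Q w ≠ 0) (hp : l.Pairwise fun v w => polar Q v w = 0) :
    (∀ x ∈ l, ((l.map (rf Q)).prod).1 x = -x) ∧
      ∀ x, (∀ w ∈ l, polar Q w x = 0) → ((l.map (rf Q)).prod).1 x = x := by
  induction l with
  | nil => exact ⟨by simp, fun x _ => rfl⟩
  | cons v l ih =>
    rw [List.pairwise_cons] at hp
    obtain ⟨ih1, ih2⟩ := ih (fun w hw => hns w (List.mem_cons_of_mem _ hw)) hp.2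
    have hsplit : ∀ x, (((v :: l).map (rf Q)).prod).1 x = refl Q v (((l.map (rf Q)).prod).1 x) := fun x => by
      rw [List.map_cons, List.prod_cons]; rfl
    refine ⟨fun x hx => ?_, fun x hx => ?_⟩
    · rw [hsplit]
      rcases List.mem_cons.mp hx with rfl | hx'
      · rw [ih2 x (fun w hw => by rw [polar_comm]; exact hp.1 w hw), refl_self (hns x List.mem_cons_self)]
      · rw [ih1 x hx', map_neg, refl_fix (hp.1 x hx')]
    · rw [hsplit, ih2 x (fun w hw => hx w (List.mem_cons_of_mem _ hw)), refl_fix (hx v List.mem_cons_self)]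

/-- An orthogonal basis gives `-1`. -/
theorem prod_rf_eq_neg (h2 : (2 : F) ≠ 0) (l : List V) (hns : ∀ w ∈ l, Q w ≠ 0)
    (hp : l.Pairwise fun v w => polar Q v w = 0) (htop : ∀ x, (∀ w ∈ l, polar Q w x = 0) → x = 0) :
    (l.map (rf Q)).prod = negI Q := by
  obtain ⟨h1, h3⟩ := prod_rf_apply l hns hp
  refine Subtype.ext (LinearEquiv.ext fun x => ?_)
  rw [negI_apply]
  obtain ⟨g, hg⟩ : ∃ g, g = (l.map (rf Q)).prod := ⟨_, rfl⟩
  rw [← hg] at h1 h3 ⊢
  refine eq_neg_of_add_eq_zero_left (htop _ fun w hw => ?_)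
  have e : polar Q w (g.1 x) = -polar Q w x := by
    have := polar_iso g.2 w x
    rw [h1 w hw, polar_neg_left] at this
    linear_combination -this
  rw [polar_add_right, e, neg_add_cancel]

/-- The spinor norm and the determinant of `-1`. -/
theorem negI_mem_iff [Finite F] (h2 : (2 : F) ≠ 0) (hQ : PND Q) (hn : 2 ≤ finrank F V) (l : List V)
    (hns : ∀ w ∈ l, Q w ≠ 0) (hp : l.Pairwise fun v w => polar Q v w = 0)
    (htop : ∀ x, (∀ w ∈ l, polar Q w x = 0) → x = 0) :
    negI Q ∈ commutator ↥(Iso Q) ↔ Even l.length ∧ IsSquare (l.map fun w => Q w).prod := by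
  classical
  haveI := Fintype.ofFinite F
  rw [commutator_eq h2 hQ hn, MonoidHom.mem_ker, ← prod_rf_eq_neg h2 l hns hp htop]
  clear hp htop
  suffices H : both Q h2 hQ (l.map (rf Q)).prod =
      (if Even l.length then 1 else -1, if IsSquare (l.map fun w => Q w).prod then 1 else -1) by
    rw [H]
    split_ifs with h h' <;> simp [Prod.ext_iff, h, *]
  induction l with
  | nil => rw [List.map_nil, List.prod_nil, map_one]; simp; rfl
  | cons v l ih =>
    have hv := hns v List.mem_cons_self
    have hl : (l.map fun w => Q w).prod ≠ 0 := by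
      refine List.prod_ne_zero fun h => ?_
      obtain ⟨w, hw, e⟩ := List.mem_map.mp h
      exact hns w (List.mem_cons_of_mem _ hw) e
    rw [List.map_cons, List.prod_cons, map_mul, ih (fun w hw => hns w (List.mem_cons_of_mem _ hw)), List.map_cons,
      List.prod_cons, List.length_cons]
    have e : both Q h2 hQ (rf Q v) = (-1, if IsSquare (Q v) then 1 else -1) := by
      refine Prod.ext (dsign_rf h2 hQ hv) ?_
      change spinor Q (rf Q v) = _
      split_ifs with h
      · exact (spinor_rf h2 hQ hn hv).mpr h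
      · exact (Int.units_eq_one_or _).resolve_left fun e => h ((spinor_rf h2 hQ hn hv).mp e)
    rw [e]
    refine Prod.ext ?_ ?_
    · simp only [Prod.mk_mul_mk, Nat.even_add_one]
      split_ifs <;> simp_all
    · simp only [Prod.mk_mul_mk, isSquare_iff_mul h2 hv hl]
      split_ifs <;> simp_all

/-- A Siegel transformation lies in the derived group. -/
theorem siegel_mem_commutator (hQ : PND Q) (h : Nat.card F ≠ 2 ∨ finrank F V ≠ 4) {e v : V} (he : Q e = 0)
    (hv : polar Q e v = 0) : (⟨siegel he hv, siegel_mem he hv⟩ : ↥(Iso Q)) ∈ commutator ↥(Iso Q) := by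
  have key : ∀ u (hu : polar Q e u = 0), Q u ≠ 0 →
      (⟨siegel he hu, siegel_mem he hu⟩ : ↥(Iso Q)) ∈ commutator ↥(Iso Q) := by
    intro u hu hQu
    rw [← Abelianization.ker_of, MonoidHom.mem_ker, siegel_eq_rf he hu hQu, map_mul,
      map_rf_eq hQ _ hQu (siegel_eq_refl he hu hQu).2, ← map_mul, rf_mul_self, map_one]
  by_cases hQv : Q v = 0
  · rcases siegel_cases hQ h he hv hQv with h1 | ⟨z, hez, hQz, hQvz⟩
    · convert one_mem (commutator ↥(Iso Q)) using 1
      exact Subtype.ext h1
    · have hvz : polar Q e (v - z) = 0 := by rw [polar_sub_right, hv, hez, sub_zero]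
      convert mul_mem (key _ hvz hQvz) (key _ hez hQz) using 1
      exact Subtype.ext (siegel_split he hv hez)
  · exact key v hv hQv

/-- An isometry commuting with all Siegel transformations fixes every singular line. -/
theorem singular_eigen (hQ : PND Q) (h4 : 4 ≤ finrank F V) {g : ↥(Iso Q)}
    (hg : ∀ (e v : V) (he : Q e = 0) (hv : polar Q e v = 0), ∀ x, g.1 (siegel he hv x) = siegel he hv (g.1 x))
    {e : V} (he : Q e = 0) : ∃ c : F, g.1 e = c • e := by
  by_cases he0 : e = 0
  · exact ⟨0, by rw [he0, map_zero, smul_zero]⟩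
  have hline : ∀ v, polar Q e v = 0 → (∀ c : F, v ≠ c • e) → ∃ a b : F, g.1 e = a • e + b • v := by
    intro v hv hd
    obtain ⟨x, hx1, hx2⟩ := exists_polar_sep hQ (H := Submodule.span F {e}) (x := v)
      (fun hm => by
        obtain ⟨c, hc⟩ := Submodule.mem_span_singleton.mp hm
        exact hd c hc.symm) 1
    have hxe : polar Q e x = 0 := by rw [polar_comm]; exact hx1 e (Submodule.mem_span_singleton_self e)
    have hxv : polar Q v x = 1 := by rw [polar_comm]; exact hx2
    have := hg e v he hv x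
    rw [siegel_apply, siegel_apply, hxe, hxv, map_sub, map_add, zero_smul, mul_zero, add_zero, one_smul,
      map_zero, add_zero] at this
    refine ⟨polar Q v (g.1 x) + Q v * polar Q e (g.1 x), -polar Q e (g.1 x), ?_⟩
    linear_combination (norm := module) -this
  obtain ⟨f₀, hf₀, hf₀e⟩ := exists_polar_sep hQ (H := (⊥ : Submodule F V)) (x := e) (by rwa [Submodule.mem_bot]) 1
  obtain ⟨f, hf⟩ : ∃ f, f = f₀ - Q f₀ • e := ⟨_, rfl⟩
  have hp : IsHPair Q (e, f) := by
    refine ⟨he, ?_, ?_⟩
    · change Q f = 0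
      rw [hf, map_sub_two, QuadraticMap.map_smul, he, polar_smul_right, hf₀e]; simp
    · change polar Q e f = 1
      rw [hf, polar_sub_right, polar_comm Q e f₀, hf₀e, polar_smul_right, polar_self_zero he, smul_zero, sub_zero]
  have hd := finrank_comp hp
  obtain ⟨s, hs⟩ := exists_linearIndependent_of_le_finrank (R := F) (M := comp Q (e, f)) (n := 2) (by omega)
  have hcomp : ∀ i, polar Q e (s i : V) = 0 ∧ polar Q f (s i : V) = 0 := fun i => mem_comp.mp (s i).2
  have hne : ∀ i, ∀ c : F, (s i : V) ≠ c • e := by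
    intro i c hc
    have hfe : polar Q f e = 1 := by rw [polar_comm]; exact hp.2.2
    have := (hcomp i).2
    rw [hc, polar_smul_right, hfe, smul_eq_mul, mul_one] at this
    exact hs.ne_zero i (Subtype.ext (by rw [hc, this, zero_smul]; rfl))
  obtain ⟨a, b, hab⟩ := hline _ (hcomp 0).1 (hne 0)
  obtain ⟨a', b', hab'⟩ := hline _ (hcomp 1).1 (hne 1)
  have haa : a = a' := by
    have hfe : polar Q f e = 1 := by rw [polar_comm]; exact hp.2.2
    have := congrArg (polar Q f) (hab.symm.trans hab')
    simpa [polar_add_right, polar_smul_right, hfe, (hcomp 0).2, (hcomp 1).2] using this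
  have hbb : b • s 0 + (-b') • s 1 = 0 := Subtype.ext (by
    have := hab.symm.trans hab'
    rw [haa] at this
    simp only [Submodule.coe_add, Submodule.coe_smul, neg_smul, ZeroMemClass.coe_zero, Submodule.coe_neg,
      add_left_cancel this, add_neg_cancel])
  have hb := (LinearIndependent.pair_iff.mp ((show (![s 0, s 1] : Fin 2 → _) = s by
    funext i; fin_cases i <;> rfl).symm ▸ hs)) b (-b') hbb
  exact ⟨a, by rw [hab, hb.1, zero_smul, add_zero]⟩

/-- An isometry fixing all singular lines is `±1`. -/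
theorem central_of_lines (hQ : PND Q) {p : V × V} (hp : IsHPair Q p) {u z : V}
    (hu : u ∈ comp Q p) (hz : z ∈ comp Q p) (huz : IsHPair Q (u, z)) {g : ↥(Iso Q)}
    (hl : ∀ e : V, Q e = 0 → ∃ c : F, g.1 e = c • e) :
    g = 1 ∨ g = negI Q := by
  obtain ⟨e, f⟩ := p
  obtain ⟨he, hf, hef⟩ := hp
  obtain ⟨hu1, hu2⟩ := mem_comp.mp hu
  change polar Q e u = 0 at hu1
  change polar Q f u = 0 at hu2
  have hQu : Q u = 0 := huz.1
  have hune : u ≠ 0 := fun e0 => by
    have := huz.2.2
    rw [show (u, z).1 = u from rfl, e0, polar_zero_left] at this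
    exact zero_ne_one this
  have hfe : polar Q f e = 1 := by rw [polar_comm]; exact hef
  have hue : polar Q u e = 0 := by rw [polar_comm]; exact hu1
  have huf : polar Q u f = 0 := by rw [polar_comm]; exact hu2
  obtain ⟨c, hc⟩ := hl (e) he
  obtain ⟨d, hd⟩ := hl (f) hf
  obtain ⟨k, hk⟩ := hl (u) hQu
  have hcd : c * d = 1 := by
    have := polar_iso g.2 e f
    rw [hc, hd, polar_smul_left, polar_smul_right, hef, smul_eq_mul, smul_eq_mul, mul_one] at this
    exact this
  have join : ∀ (x : V) (cx : F), Q x = 0 → g.1 x = cx • x → polar Q x u = 0 → x ≠ 0 →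
      (∃ y, polar Q x y ≠ 0 ∧ polar Q u y = 0) → cx = k := by
    intro x cx hx hgx hxu _ ⟨y, hy1, hy2⟩
    obtain ⟨l, hl⟩ := hl (x + u) (by rw [map_two, hx, hQu, hxu]; simp)
    rw [map_add, hgx, hk] at hl
    have h1 := congrArg (fun w => polar Q w y) hl
    simp only [polar_add_left, polar_smul_left, hy2, smul_eq_mul, mul_zero, add_zero] at h1
    have e1 : cx = l := mul_right_cancel₀ hy1 h1
    rw [smul_add, e1] at hl
    have := add_left_cancel hl
    rw [← sub_eq_zero, ← sub_smul, smul_eq_zero, sub_eq_zero] at this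
    exact e1.trans (this.resolve_right hune).symm
  have hck : c = k := join e c he hc hu1 (fun e0 => by rw [e0, polar_zero_left] at hef; exact zero_ne_one hef)
    ⟨f, by rw [hef]; exact one_ne_zero, huf⟩
  have hdk : d = k := join f d hf hd hu2 (fun e0 => by rw [e0, polar_zero_left] at hfe; exact zero_ne_one hfe)
    ⟨e, by rw [hfe]; exact one_ne_zero, hue⟩
  have hcomp : ∀ r, polar Q e r = 0 → polar Q f r = 0 → g.1 r = c • r := by
    intro r hr1 hr2
    obtain ⟨l, hl⟩ := hl (r + e - Q r • f) (by
      rw [map_sub_two, map_two, QuadraticMap.map_smul, he, hf, polar_smul_right, polar_add_left, polar_comm Q r f,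
        hr2, polar_comm Q r e, hr1, hef]
      simp)
    rw [map_sub, map_add, map_smul, hc, hd, hdk, ← hck] at hl
    have h1 := congrArg (polar Q f) hl
    have h2 : polar Q f (g.1 r) = 0 := by
      have h3 := polar_iso g.2 f r
      rw [hd, hdk, ← hck, polar_smul_left, hr2, smul_eq_mul] at h3
      refine (mul_eq_zero.mp h3).resolve_left fun c0 => ?_
      rw [c0, zero_mul] at hcd
      exact zero_ne_one hcd
    simp only [polar_add_right, polar_sub_right, polar_smul_right, h2, hr2, hfe, polar_self_zero hf, smul_eq_mul,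
      mul_zero, sub_zero, zero_add, mul_one] at h1
    rw [← h1] at hl
    linear_combination (norm := module) hl
  have hall : ∀ x, g.1 x = c • x := by
    intro x
    have hr := mem_comp.mp (exists_split (p := (e, f)) ⟨he, hf, hef⟩ x)
    have := hcomp _ hr.1 hr.2
    rw [map_sub, map_sub, map_smul, map_smul, hc, hd, hdk, ← hck] at this
    linear_combination (norm := module) this
  rw [show d = c from hdk.trans hck.symm] at hcd
  rcases mul_self_eq_one_iff.mp hcd with rfl | rfl
  · exact Or.inl (Subtype.ext (LinearEquiv.ext fun x => by rw [hall, one_smul]; rfl))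
  · exact Or.inr (Subtype.ext (LinearEquiv.ext fun x => by rw [hall, neg_one_smul]; rfl))

/-- An isometry commuting with all Siegel transformations is `±1`. -/
theorem central_of_commute (hQ : PND Q) {p : V × V} (hp : IsHPair Q p) {u z : V}
    (hu : u ∈ comp Q p) (hz : z ∈ comp Q p) (huz : IsHPair Q (u, z)) (h4 : 4 ≤ finrank F V) {g : ↥(Iso Q)}
    (hg : ∀ (e v : V) (he : Q e = 0) (hv : polar Q e v = 0), ∀ x, g.1 (siegel he hv x) = siegel he hv (g.1 x)) :
    g = 1 ∨ g = negI Q := by
  exact central_of_lines hQ hp hu hz huz fun e he => singular_eigen hQ h4 hg he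

open scoped _root_.Classical in
/-- The order of the centre of the derived group. -/
theorem card_center [Finite F] (hQ : PND Q) (h : Nat.card F ≠ 2 ∨ finrank F V ≠ 4) {p : V × V} (hp : IsHPair Q p)
    {u z : V} (hu : u ∈ comp Q p) (hz : z ∈ comp Q p) (huz : IsHPair Q (u, z)) (h4 : 4 ≤ finrank F V) :
    Nat.card ↥(Subgroup.center ↥(commutator ↥(Iso Q))) =
      if negI Q ∈ commutator ↥(Iso Q) ∧ (2 : F) ≠ 0 then 2 else 1 := by
  have hneg : negI Q = 1 ↔ (2 : F) = 0 := by
    refine ⟨fun e => ?_, fun h2 => Subtype.ext (LinearEquiv.ext fun x => ?_)⟩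
    · by_contra h2
      have := congrArg (fun g : ↥(Iso Q) => g.1 u) e
      change -u = u at this
      have hu0 : (2 : F) • u = 0 := by rw [two_smul]; nth_rw 1 [← this]; rw [neg_add_cancel]
      have h1 := huz.2.2
      rw [show (u, z).1 = u from rfl, (smul_eq_zero.mp hu0).resolve_left h2, polar_zero_left] at h1
      exact zero_ne_one h1
    · rw [negI_apply]
      change -x = x
      rw [← sub_eq_zero, ← neg_add', ← two_smul F x, h2, zero_smul, neg_zero]
  have hmem : ∀ g : ↥(commutator ↥(Iso Q)), g ∈ Subgroup.center _ ↔ g.1 = 1 ∨ g.1 = negI Q := by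
    intro g
    refine ⟨fun hg => central_of_commute hQ hp hu hz huz h4 fun e v he hv x => ?_, fun hg => ?_⟩
    · have := Subgroup.mem_center_iff.mp hg ⟨_, siegel_mem_commutator hQ h he hv⟩
      exact (congrArg (fun k : ↥(commutator ↥(Iso Q)) => k.1.1 x) this).symm
    · rw [Subgroup.mem_center_iff]
      intro k
      refine Subtype.ext (Subtype.ext (LinearEquiv.ext fun x => ?_))
      change k.1.1 (g.1.1 x) = g.1.1 (k.1.1 x)
      rcases hg with e | e <;> rw [e]
      · rfl
      · rw [negI_apply, negI_apply, map_neg]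
  by_cases hb : negI Q ∈ commutator ↥(Iso Q) ∧ (2 : F) ≠ 0
  · rw [if_pos hb]
    rw [Nat.card_eq_two_iff]
    refine ⟨1, ⟨⟨negI Q, hb.1⟩, (hmem _).mpr (Or.inr rfl)⟩, fun e => hb.2 (hneg.mp ?_), ?_⟩
    · exact (congrArg (fun k : ↥(Subgroup.center ↥(commutator ↥(Iso Q))) => k.1.1) e).symm
    · refine Set.eq_univ_of_forall fun g => ?_
      rcases (hmem g.1).mp g.2 with e | e
      · exact Or.inl (Subtype.ext (Subtype.ext e))
      · exact Or.inr (Subtype.ext (Subtype.ext e))
  · rw [if_neg hb, Subgroup.card_eq_one, Subgroup.eq_bot_iff_forall]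
    intro g hg
    rcases (hmem g).mp hg with e | e
    · exact Subtype.ext e
    · refine Subtype.ext (e.trans (hneg.mpr ?_))
      by_contra h2
      exact hb ⟨e ▸ g.2, h2⟩

end Cfsg.Agent.Classical.OOmega
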