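import Cfsg.Agent.Lib.Classical.OrthOrders

/-!
# Closed formulas for the orders of the orthogonal groups
-/

set_option autoImplicit false

namespace Cfsg.Agent.Classical.OCount

open Finset

variable {F : Type*} [Field F] [Fintype F]

theorem sq_sub_one (q k : ℕ) : (q ^ k - 1) * (q ^ k + 1) = q ^ (2 * k) - 1 := by
  rw [mul_comm, ← Nat.sq_sub_sq, one_pow, ← pow_mul, mul_comm k 2]

theorem card_GO_odd (h2 : (2 : F) ≠ 0) (m : ℕ) :
    Nat.card ↥(Cfsg.isometryGroup F (Cfsg.quadFormOdd m F)) =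
      2 * Fintype.card F ^ (m ^ 2) * ∏ i ∈ range m, (Fintype.card F ^ (2 * (i + 1)) - 1) := by
  have hq : 1 ≤ Fintype.card F := Fintype.card_pos
  rw [card_odd h2]
  generalize Fintype.card F = q at hq ⊢
  have he : ∀ i, valNum q 1 (i + 1) 1 = q ^ (2 * (i + 1)) := by
    intro i
    rw [valNum, Nat.add_sub_cancel, mul_one, two_mul, pow_add q (i + 1) (i + 1), Nat.sub_mul, one_mul,
      Nat.sub_add_cancel (Nat.le_mul_of_pos_left _ (Nat.pow_pos hq))]
  induction m with
  | zero => simp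
  | succ m ih =>
    rw [prod_range_succ, ← mul_assoc, ih, prod_range_succ, he, show (m + 1) ^ 2 = m ^ 2 + (2 * m + 1) by ring,
      pow_add]
    ring

theorem card_GO_plus (j : ℕ) :
    Nat.card ↥(Cfsg.isometryGroup F (Cfsg.quadFormPlus (j + 1) F)) =
      2 * Fintype.card F ^ ((j + 1) * j) * (Fintype.card F ^ (j + 1) - 1) *
        ∏ i ∈ range j, (Fintype.card F ^ (2 * (i + 1)) - 1) := by
  have hq : 1 ≤ Fintype.card F := Fintype.card_pos
  rw [card_plus]
  generalize Fintype.card F = q at hq ⊢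
  have he : ∀ i, valNum q 0 (i + 1) 1 - 1 = (q ^ (i + 1) - 1) * (q ^ i + 1) := by
    intro i
    have h1 : 1 ≤ q ^ (i + 1) := Nat.one_le_pow _ _ hq
    simp only [valNum, Nat.add_sub_cancel, add_zero, mul_one]
    rw [mul_add, mul_one]
    omega
  induction j with
  | zero => rw [prod_range_one, he]; simp; ring
  | succ j ih =>
    rw [prod_range_succ, ih, he, prod_range_succ, ← sq_sub_one q (j + 1),
      show (j + 1 + 1) * (j + 1) = (j + 1) * j + 2 * (j + 1) by ring, pow_add]
    ring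

theorem card_GO_minus (j : ℕ) (a b : F)
    (hab : ∀ z₁ z₂ : F, z₁ ^ 2 + a * z₁ * z₂ + b * z₂ ^ 2 = 0 → z₁ = 0 ∧ z₂ = 0) :
    Nat.card ↥(Cfsg.isometryGroup F (Cfsg.quadFormMinus j F a b)) =
      2 * Fintype.card F ^ ((j + 1) * j) * (Fintype.card F ^ (j + 1) + 1) *
        ∏ i ∈ range j, (Fintype.card F ^ (2 * (i + 1)) - 1) := by
  have hq : 1 ≤ Fintype.card F := Fintype.card_pos
  rw [card_minus j a b hab]
  generalize Fintype.card F = q at hq ⊢
  have he : ∀ i, valNum q 2 (i + 1) 1 - 1 = (q ^ (i + 1) - 1) * (q ^ (i + 2) + 1) := by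
    intro i
    have h1 : 1 ≤ q ^ (i + 1) := Nat.one_le_pow _ _ hq
    simp only [valNum, Nat.add_sub_cancel, mul_one]
    rw [mul_add, mul_one]
    omega
  induction j with
  | zero => simp
  | succ j ih =>
    rw [prod_range_succ, ← mul_assoc, ih, he, prod_range_succ, ← sq_sub_one q (j + 1),
      show (j + 1 + 1) * (j + 1) = (j + 1) * j + (2 * j + 2) by ring, pow_add]
    ring

end Cfsg.Agent.Classical.OCount
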