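import Cfsg.Agent.Lib.Classical.OrthForms
import Cfsg.Agent.Lib.Classical.OrthCenter
import Cfsg.Agent.Lib.Classical.OrthClosed

/-!
# `-1 ∈ Ω` and the orders of `PΩ` for the standard forms
-/

set_option autoImplicit false
set_option linter.unusedSectionVars false

namespace Cfsg.Agent.Classical.OOmega

open Module QuadraticMap OCount ORefl Matrix

variable {F : Type*} [Field F] {R : Type} [Fintype R] [DecidableEq R] {ι : Type} [Fintype ι] [DecidableEq ι]

theorem negI_toMat (Q : QuadraticForm F (ι → F)) :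
    ((toMat Q (negI Q)).1 : Matrix ι ι F) = -1 :=
  toMat_eq fun x => by rw [negI_apply, Matrix.neg_mulVec, Matrix.one_mulVec]

theorem exists_neg_iff (Q : QuadraticForm F (ι → F)) :
    (∃ g : ↥(Cfsg.isometryGroup F ⇑Q), g ∈ Cfsg.Omega F ⇑Q ∧ (g.1 : Matrix ι ι F) = -1) ↔
      negI Q ∈ commutator ↥(Iso Q) := by
  constructor
  · rintro ⟨g, hg, hval⟩
    have e : g = toMat Q (negI Q) := Subtype.ext (Units.ext (hval.trans (negI_toMat Q).symm))
    rw [omega_eq_map] at hg
    obtain ⟨x, hx, hxg⟩ := hg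
    rwa [← (toMat Q).injective (show toMat Q x = toMat Q (negI Q) from hxg.trans e)]
  · intro h
    exact ⟨toMat Q (negI Q), omega_eq_map (Q := Q) ▸ ⟨_, h, rfl⟩, negI_toMat Q⟩

/-- `|Ω| = |Z| · |PΩ|`, in the abstract group. -/
theorem card_POmega_mul (Q : QuadraticForm F (ι → F)) :
    Nat.card (Cfsg.POmega F ⇑Q) * Nat.card ↥(Subgroup.center ↥(commutator ↥(Iso Q))) =
      Nat.card ↥(Cfsg.Omega F ⇑Q) := by
  have e : ↥(commutator ↥(Iso Q)) ≃* ↥(Cfsg.Omega F ⇑Q) :=
    ((commutator ↥(Iso Q)).equivMapOfInjective _ (toMat Q).injective).trans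
      (MulEquiv.subgroupCongr (omega_eq_map (Q := Q)).symm)
  rw [Nat.card_congr (Subgroup.centerCongr e).toEquiv]
  exact (Subgroup.card_eq_card_quotient_mul_card_subgroup _).symm

section Standard

variable {m : ℕ} {e : ι ≃ (Fin m ⊕ Fin m) ⊕ R} {P : QuadraticForm F (R → F)}

variable (e) in
/-- The sum of a pair. -/
noncomputable def pos (i : Fin m) : ι → F := bv e (.inl (.inl i)) + bv e (.inl (.inr i))

variable (e) in
/-- The difference of a pair. -/
noncomputable def neg' (i : Fin m) : ι → F := bv e (.inl (.inl i)) - bv e (.inl (.inr i))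

theorem value_pos (i : Fin m) : formOf m e P (pos e i) = 1 := by
  simp [pos, map_two, formOf_bv, formOf_polar_bv, OCount.gram]

theorem value_neg (i : Fin m) : formOf m e P (neg' e i) = -1 := by
  simp [neg', map_sub_two, formOf_bv, formOf_polar_bv, OCount.gram]

variable (e) in
/-- The orthogonal list of pairs, continued by `ext`. -/
noncomputable def basisList (ext : List (ι → F)) : List (ι → F) :=
  ((List.finRange m).map (pos e) ++ (List.finRange m).map (neg' e)) ++ ext

theorem prod_values (ext : List (ι → F)) :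
    ((basisList e ext).map fun w => formOf m e P w).prod = (-1) ^ m * (ext.map fun w => formOf m e P w).prod := by
  have hp : ((List.finRange m).map (pos e)).map (fun w => formOf m e P w) = List.replicate m 1 := by
    refine List.eq_replicate_iff.mpr ⟨by simp, fun b hb => ?_⟩
    simp only [List.map_map, List.mem_map, Function.comp_apply] at hb
    obtain ⟨i, -, rfl⟩ := hb
    exact value_pos i
  have hn : ((List.finRange m).map (neg' e)).map (fun w => formOf m e P w) = List.replicate m (-1) := by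
    refine List.eq_replicate_iff.mpr ⟨by simp, fun b hb => ?_⟩
    simp only [List.map_map, List.mem_map, Function.comp_apply] at hb
    obtain ⟨i, -, rfl⟩ := hb
    exact value_neg i
  rw [basisList, List.map_append, List.map_append, List.prod_append, List.prod_append, hp, hn,
    List.prod_replicate, List.prod_replicate, one_pow, one_mul]

/-- `-1 ∈ Ω` for a standard form. -/
theorem negI_mem_standard [Finite F] (h2 : (2 : F) ≠ 0) (hP : PND P) (hn : 2 ≤ Fintype.card ι)
    (ext : List (R → F)) (hns : ∀ z ∈ ext, P z ≠ 0) (hp : ext.Pairwise fun v w => polar P v w = 0)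
    (htop : ∀ x : R → F, (∀ z ∈ ext, polar P z x = 0) → x = 0) :
    negI (formOf m e P) ∈ commutator ↥(Iso (formOf m e P)) ↔
      Even (2 * m + ext.length) ∧ IsSquare ((-1 : F) ^ m * (ext.map fun z => P z).prod) := by
  classical
  let emb : (R → F) → ι → F := fun z i => Sum.elim (fun _ => 0) z (e i)
  have hemb : ∀ z, (fun k => emb z (e.symm k)) = Sum.elim (fun _ => 0) z := fun z => funext fun k => by simp [emb]
  have hval : ∀ z, formOf m e P (emb z) = P z := fun z => by
    rw [formOf_apply, hemb, stdQ_apply]; simp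
  have hpol : ∀ z x, polar (formOf m e P) (emb z) x = polar P z fun r => x (e.symm (.inr r)) := fun z x => by
    rw [formOf_polar, hemb, stdQ_polar]; simp
  have hbe : ∀ z (k : Fin m ⊕ Fin m), polar (formOf m e P) (bv e (.inl k)) (emb z) = 0 := fun z k => by
    rw [polar_comm, hpol, show (fun r => (bv e (.inl k) : ι → F) (e.symm (.inr r))) = 0 from funext fun r => by
      simp [bv, Pi.single_apply], polar_zero_right]
  have h := negI_mem_iff h2 (formOf_pnd (e := e) hP) (by rwa [Module.finrank_fintype_fun_eq_card])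
    (basisList e (ext.map emb)) ?_ ?_ ?_
  · rw [h, prod_values]
    simp only [basisList, List.map_map, List.length_append, List.length_map, List.length_finRange,
      Function.comp_def, hval, two_mul]
  · intro w hw
    simp only [basisList, List.mem_append, List.mem_map] at hw
    rcases hw with (⟨i, -, rfl⟩ | ⟨i, -, rfl⟩) | ⟨z, hz, rfl⟩
    · rw [value_pos]; exact one_ne_zero
    · rw [value_neg]; exact neg_ne_zero.mpr one_ne_zero
    · rw [hval]; exact hns z hz
  · simp only [basisList, List.pairwise_append, List.pairwise_map, List.mem_append, List.mem_map]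
    refine ⟨⟨(List.nodup_finRange m).imp fun {i j} hij => ?_, (List.nodup_finRange m).imp fun {i j} hij => ?_, ?_⟩,
      hp.imp fun {v w} hvw => ?_, ?_⟩
    · simp [pos, polar_add_left, polar_add_right, formOf_polar_bv, OCount.gram, hij]
    · simp [neg', polar_sub_left, polar_sub_right, formOf_polar_bv, OCount.gram, hij]
    · rintro _ ⟨i, -, rfl⟩ _ ⟨j, -, rfl⟩
      simp [pos, neg', polar_add_left, polar_sub_right, formOf_polar_bv, OCount.gram]
    · rw [hpol, show (fun r => emb w (e.symm (.inr r))) = w from funext fun r => by simp [emb]]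
      exact hvw
    · rintro _ (⟨i, -, rfl⟩ | ⟨i, -, rfl⟩) _ ⟨z, -, rfl⟩
      · rw [pos, polar_add_left, hbe, hbe, add_zero]
      · rw [neg', polar_sub_left, hbe, hbe, sub_zero]
  · intro x hx
    simp only [basisList, List.mem_append, List.mem_map, List.mem_finRange, true_and] at hx
    have hk : ∀ i : Fin m, polar (formOf m e P) (bv e (.inl (.inl i))) x = 0 ∧
        polar (formOf m e P) (bv e (.inl (.inr i))) x = 0 := by
      intro i
      have h1 := hx _ (Or.inl (Or.inl ⟨i, rfl⟩))
      have h3 := hx _ (Or.inl (Or.inr ⟨i, rfl⟩))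
      rw [pos, polar_add_left] at h1
      rw [neg', polar_sub_left] at h3
      exact ⟨(mul_eq_zero.mp (show (2 : F) * polar (formOf m e P) (bv e (.inl (.inl i))) x = 0 by
        linear_combination h1 + h3)).resolve_left h2,
        (mul_eq_zero.mp (show (2 : F) * polar (formOf m e P) (bv e (.inl (.inr i))) x = 0 by
        linear_combination h1 - h3)).resolve_left h2⟩
    have hc : ∀ i : Fin m, x (e.symm (.inl (.inl i))) = 0 ∧ x (e.symm (.inl (.inr i))) = 0 := by
      intro i
      obtain ⟨a, b⟩ := hk i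
      rw [formOf_polar, bv_eq, stdQ_polar] at a b
      rw [show (fun r => (Pi.single (Sum.inl (Sum.inl i)) (1 : F) : (Fin m ⊕ Fin m) ⊕ R → F) (.inr r)) = 0 from
        funext fun r => by simp, polar_zero_left, add_zero] at a
      rw [show (fun r => (Pi.single (Sum.inl (Sum.inr i)) (1 : F) : (Fin m ⊕ Fin m) ⊕ R → F) (.inr r)) = 0 from
        funext fun r => by simp, polar_zero_left, add_zero] at b
      simp [Pi.single_apply] at a b
      exact ⟨b, a⟩
    have hr : (fun r => x (e.symm (.inr r))) = 0 := htop _ fun z hz => by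
      rw [← hpol]; exact hx _ (Or.inr ⟨z, hz, rfl⟩)
    funext k
    rcases hk' : e k with (i | i) | r
    · rw [show k = e.symm (.inl (.inl i)) by rw [← hk', e.symm_apply_apply]]; exact (hc i).1
    · rw [show k = e.symm (.inl (.inr i)) by rw [← hk', e.symm_apply_apply]]; exact (hc i).2
    · rw [show k = e.symm (.inr r) by rw [← hk', e.symm_apply_apply]]; exact congrFun hr r

/-- The order of the centre of the derived group of a standard form of Witt index at least two. -/
theorem card_center_standard [Finite F] (hP : PND P) (hm : 2 ≤ m) (hn : 5 ≤ Fintype.card ι) :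
    open scoped _root_.Classical in
    Nat.card ↥(Subgroup.center ↥(commutator ↥(Iso (formOf m e P)))) =
      if negI (formOf m e P) ∈ commutator ↥(Iso (formOf m e P)) ∧ (2 : F) ≠ 0 then 2 else 1 := by
  obtain ⟨i, hi⟩ : ∃ i : Fin m, i.1 = 0 := ⟨⟨0, by omega⟩, rfl⟩
  obtain ⟨j, hj⟩ : ∃ j : Fin m, j.1 = 1 := ⟨⟨1, by omega⟩, rfl⟩
  have hij : i ≠ j := fun h => by rw [h] at hi; omega
  refine card_center (formOf_pnd hP) (Or.inr (by rw [Module.finrank_fintype_fun_eq_card]; omega))
    (p := (bv e (.inl (.inl i)), bv e (.inl (.inr i)))) ?_ (u := bv e (.inl (.inl j)))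
    (z := bv e (.inl (.inr j))) ?_ ?_ ?_ (by rw [Module.finrank_fintype_fun_eq_card]; omega)
  · exact ⟨by rw [formOf_bv]; rfl, by rw [formOf_bv]; rfl, by rw [formOf_polar_bv]; simp [OCount.gram]⟩
  · rw [mem_comp]; simp [formOf_polar_bv, OCount.gram, hij]
  · rw [mem_comp]; simp [formOf_polar_bv, OCount.gram, hij]
  · exact ⟨by rw [formOf_bv]; rfl, by rw [formOf_bv]; rfl, by rw [formOf_polar_bv]; simp [OCount.gram]⟩

end Standard

variable [Fintype F]

theorem two_ne_of_odd (h : Odd (Fintype.card F)) : (2 : F) ≠ 0 := fun h2 => by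
  haveI : CharP F 2 := CharTwo.of_one_ne_zero_of_two_eq_zero one_ne_zero h2
  have := FiniteField.even_card_of_char_two (F := F) (ringChar.eq F 2)
  rw [Nat.odd_iff] at h
  omega

theorem isSquare_neg_one_pow (h : Odd (Fintype.card F)) (m : ℕ) :
    IsSquare ((-1 : F) ^ m) ↔ Fintype.card F ^ m % 4 = 1 := by
  have hq : Fintype.card F % 4 = 1 ∨ Fintype.card F % 4 = 3 := by rw [Nat.odd_iff] at h; omega
  have hsq := FiniteField.isSquare_neg_one_iff (F := F)
  rw [Nat.pow_mod]
  rcases Nat.even_or_odd m with hm | hm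
  · obtain ⟨k, rfl⟩ := hm
    rw [← two_mul, pow_mul, neg_one_sq, one_pow, pow_mul, Nat.pow_mod]
    rcases hq with hq | hq <;> simp [hq]
  · rw [hm.neg_one_pow, hsq]
    obtain ⟨k, rfl⟩ := hm
    rw [pow_succ, pow_mul, Nat.mul_mod, Nat.pow_mod]
    rcases hq with hq | hq <;> simp [hq]

theorem negI_plus (h : Odd (Fintype.card F)) {m : ℕ} (hm : 1 ≤ m) :
    negI (formOf m (Equiv.sumEmpty (Fin m ⊕ Fin m) Empty).symm (0 : QuadraticForm F (Empty → F))) ∈
      commutator ↥(Iso (formOf m (Equiv.sumEmpty (Fin m ⊕ Fin m) Empty).symm (0 : QuadraticForm F (Empty → F)))) ↔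
      Fintype.card F ^ m % 4 = 1 := by
  rw [negI_mem_standard (two_ne_of_odd h) pnd_empty (by simp; omega) [] (by simp) List.Pairwise.nil
    (fun x _ => funext fun r => r.elim), ← isSquare_neg_one_pow h]
  simp

theorem plane_polar (a b : F) (z x : Fin 2 → F) :
    polar (planeForm a b) z x = 2 * z 0 * x 0 + a * (z 0 * x 1 + z 1 * x 0) + 2 * b * z 1 * x 1 := by
  simp only [polar, planeForm_apply, Pi.add_apply]; ring

theorem negI_minus (h : Odd (Fintype.card F)) {m : ℕ} (hm : 1 ≤ m) (a b : F)
    (hab : ∀ z₁ z₂ : F, z₁ ^ 2 + a * z₁ * z₂ + b * z₂ ^ 2 = 0 → z₁ = 0 ∧ z₂ = 0) :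
    negI (formOf (m - 1) (Equiv.refl ((Fin (m - 1) ⊕ Fin (m - 1)) ⊕ Fin 2)) (planeForm a b)) ∈
      commutator ↥(Iso (formOf (m - 1) (Equiv.refl ((Fin (m - 1) ⊕ Fin (m - 1)) ⊕ Fin 2)) (planeForm a b))) ↔
      Fintype.card F ^ m % 4 = 3 := by
  have h2 := two_ne_of_odd h
  have hD : ¬ IsSquare (a * a - 4 * b) := by
    rintro ⟨s, hs⟩
    have := (hab ((-a + s) / 2) 1 (by field_simp; linear_combination -hs)).2
    exact one_ne_zero this
  have hD0 : 4 * b - a * a ≠ 0 := fun e => hD (by rw [show a * a - 4 * b = 0 by linear_combination -e]; exact IsSquare.zero)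
  rw [negI_mem_standard h2 (pnd_plane hab) (by simp) [![1, 0], ![-a, 2]] ?_ ?_ ?_]
  · simp only [List.map_cons, List.map_nil, List.prod_cons, List.prod_nil, List.length_cons, List.length_nil,
      planeForm_apply, Matrix.cons_val_zero, Matrix.cons_val_one, mul_one]
    rw [show (1 : F) ^ 2 + a * 0 + b * 0 ^ 2 = 1 by ring, one_mul,
      show (-a) ^ 2 + a * -a * 2 + b * 2 ^ 2 = 4 * b - a * a by ring,
      show 4 * b - a * a = (-1) * (a * a - 4 * b) by ring, ← mul_assoc, ← pow_succ, Nat.sub_add_cancel hm,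
      isSquare_iff_mul h2 (pow_ne_zero _ (neg_ne_zero.mpr one_ne_zero)) (fun e => hD (by rw [e]; exact IsSquare.zero)),
      isSquare_neg_one_pow h]
    have hq : Fintype.card F ^ m % 4 = 1 ∨ Fintype.card F ^ m % 4 = 3 := by
      have := Nat.odd_iff.mp (h.pow (n := m)); omega
    constructor
    · rintro ⟨-, h'⟩
      rcases hq with e | e
      · exact absurd (h'.mp e) hD
      · exact e
    · intro e
      exact ⟨⟨m - 1 + 1, by ring⟩, fun e' => by omega, fun e' => absurd e' hD⟩
  · intro z hz
    simp only [List.mem_cons, List.not_mem_nil, or_false] at hz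
    rcases hz with rfl | rfl
    · simp [planeForm_apply]
    · rw [planeForm_apply]
      simp only [Matrix.cons_val_zero, Matrix.cons_val_one]
      rw [show (-a) ^ 2 + a * -a * 2 + b * 2 ^ 2 = 4 * b - a * a by ring]
      exact hD0
  · simp only [List.pairwise_cons, List.mem_cons, List.not_mem_nil, or_false, forall_eq, IsEmpty.forall_iff,
      implies_true, List.Pairwise.nil, and_true]
    simp [plane_polar]; ring
  · intro x hx
    have e1 := hx _ List.mem_cons_self
    have e2 := hx _ (List.mem_cons_of_mem _ List.mem_cons_self)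
    simp [plane_polar] at e1 e2
    have h1 : x 1 = 0 := (mul_eq_zero.mp (show (4 * b - a * a) * x 1 = 0 by linear_combination e2)).resolve_left hD0
    have h0 : x 0 = 0 := (mul_eq_zero.mp (show 2 * x 0 = 0 by rw [h1] at e1; linear_combination e1)).resolve_left h2
    funext i; fin_cases i <;> assumption

theorem card_omega (Qf : (ι → F) → F) (c : ℕ) (h : (Cfsg.Omega F Qf).index = c) :
    Nat.card ↥(Cfsg.Omega F Qf) * c = Nat.card ↥(Cfsg.isometryGroup F Qf) :=
  h ▸ Subgroup.card_mul_index _

theorem card_POmega_odd (hodd : Odd (Fintype.card F)) {m : ℕ} (hm : 2 ≤ m) :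
    2 * Nat.card (Cfsg.POmega F (Cfsg.quadFormOdd m F)) =
      Fintype.card F ^ (m ^ 2) * ∏ i ∈ Finset.range m, (Fintype.card F ^ (2 * (i + 1)) - 1) := by
  have h2 := two_ne_of_odd hodd
  have hP := pnd_line h2
  have hc := card_GO_odd h2 m (F := F)
  rw [← coe_odd m] at hc ⊢
  have hz := card_center_standard (e := Equiv.sumComm Unit (Fin m ⊕ Fin m)) hP hm (by simp; omega)
  rw [if_neg] at hz
  · have h1 := card_POmega_mul (formOf m (Equiv.sumComm Unit (Fin m ⊕ Fin m)) (lineForm F))
    rw [hz, mul_one] at h1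
    have h4 := card_omega _ 4 (index_omega_odd h2 (formOf_pnd hP) (by simp; omega)
      (Q := formOf m (Equiv.sumComm Unit (Fin m ⊕ Fin m)) (lineForm F)))
    rw [hc, ← h1] at h4
    rw [mul_assoc 2 (Fintype.card F ^ m ^ 2)] at h4
    omega
  · rintro ⟨hn, -⟩
    rw [negI_mem_standard h2 hP (by simp; omega) [fun _ => 1] ?_ (List.pairwise_singleton _ _) ?_] at hn
    · simp [Nat.even_add_one] at hn
    · intro z hz
      rw [List.mem_singleton] at hz
      subst hz
      change (1 : F) * 1 ≠ 0
      simp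
    · intro x hx
      refine hP x fun y => ?_
      have := hx _ List.mem_cons_self
      rw [show y = y () • (fun _ : Unit => (1 : F)) from funext fun r => by simp, polar_smul_right, polar_comm,
        this, smul_zero]

theorem card_POmega_plus {m : ℕ} (hm : 3 ≤ m) :
    Nat.gcd 4 (Fintype.card F ^ m - 1) * Nat.card (Cfsg.POmega F (Cfsg.quadFormPlus m F)) =
      Fintype.card F ^ (m * (m - 1)) * (Fintype.card F ^ m - 1) *
        ∏ i ∈ Finset.range (m - 1), (Fintype.card F ^ (2 * (i + 1)) - 1) := by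
  classical
  obtain ⟨j, rfl⟩ : ∃ j, m = j + 1 := ⟨m - 1, by omega⟩
  have hc := card_GO_plus j (F := F)
  rw [Nat.add_sub_cancel, mul_assoc] at *
  rw [← coe_plus (j + 1)] at hc ⊢
  have hz := card_center_standard (e := (Equiv.sumEmpty (Fin (j + 1) ⊕ Fin (j + 1)) Empty).symm)
    (pnd_empty (F := F)) (show 2 ≤ j + 1 by omega) (by simp; omega)
  have h1 := card_POmega_mul (formOf (j + 1) (Equiv.sumEmpty (Fin (j + 1) ⊕ Fin (j + 1)) Empty).symm
    (0 : QuadraticForm F (Empty → F)))
  rw [hz] at h1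
  rw [mul_assoc 2] at hc
  have hq1 : 1 ≤ Fintype.card F ^ (j + 1) := Nat.one_le_pow _ _ Fintype.card_pos
  by_cases h2 : (2 : F) = 0
  · haveI : CharP F 2 := CharTwo.of_one_ne_zero_of_two_eq_zero one_ne_zero h2
    have heven : Even (Fintype.card F ^ (j + 1)) :=
      (Nat.even_iff.mpr (FiniteField.even_card_of_char_two (F := F) (ringChar.eq F 2))).pow_of_ne_zero (by omega)
    have hg : Nat.gcd 4 (Fintype.card F ^ (j + 1) - 1) = 1 := by
      rw [Nat.gcd_rec, Nat.gcd_comm]
      rcases (show (Fintype.card F ^ (j + 1) - 1) % 4 = 1 ∨ (Fintype.card F ^ (j + 1) - 1) % 4 = 3 by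
        rw [Nat.even_iff] at heven; omega) with e | e <;> rw [e] <;> rfl
    rw [if_neg (fun h => h.2 h2), mul_one] at h1
    have h4 := card_omega _ 2 (index_omega_two (formOf_pnd pnd_empty) (by simp; omega) (Or.inr (by simp; omega))
      (Q := formOf (j + 1) (Equiv.sumEmpty (Fin (j + 1) ⊕ Fin (j + 1)) Empty).symm (0 : QuadraticForm F (Empty → F))))
    rw [hc, ← h1] at h4
    rw [hg, one_mul]
    omega
  · have hodd : Odd (Fintype.card F) := Nat.odd_iff.mpr (FiniteField.odd_card_of_char_ne_two fun h => h2 (by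
      haveI := ringChar.of_eq h
      exact CharTwo.two_eq_zero))
    have h4 := card_omega _ 4 (index_omega_odd h2 (formOf_pnd pnd_empty) (by simp; omega)
      (Q := formOf (j + 1) (Equiv.sumEmpty (Fin (j + 1) ⊕ Fin (j + 1)) Empty).symm (0 : QuadraticForm F (Empty → F))))
    rw [hc, ← h1] at h4
    have hqodd := Nat.odd_iff.mp (hodd.pow (n := j + 1))
    by_cases hs : Fintype.card F ^ (j + 1) % 4 = 1
    · have hg : Nat.gcd 4 (Fintype.card F ^ (j + 1) - 1) = 4 := by
        rw [Nat.gcd_eq_left]; omega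
      rw [if_pos ⟨(negI_plus hodd (by omega)).mpr hs, h2⟩] at h4
      rw [hg]
      omega
    · have hg : Nat.gcd 4 (Fintype.card F ^ (j + 1) - 1) = 2 := by
        rw [Nat.gcd_rec, Nat.gcd_comm, show (Fintype.card F ^ (j + 1) - 1) % 4 = 2 by omega]
        rfl
      rw [if_neg (fun h => hs ((negI_plus hodd (by omega)).mp h.1))] at h4
      rw [hg]
      omega

theorem card_POmega_minus {m : ℕ} (hm : 3 ≤ m) (a b : F)
    (hab : ∀ z₁ z₂ : F, z₁ ^ 2 + a * z₁ * z₂ + b * z₂ ^ 2 = 0 → z₁ = 0 ∧ z₂ = 0) :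
    Nat.gcd 4 (Fintype.card F ^ m + 1) * Nat.card (Cfsg.POmega F (Cfsg.quadFormMinus (m - 1) F a b)) =
      Fintype.card F ^ (m * (m - 1)) * (Fintype.card F ^ m + 1) *
        ∏ i ∈ Finset.range (m - 1), (Fintype.card F ^ (2 * (i + 1)) - 1) := by
  classical
  obtain ⟨j, rfl⟩ : ∃ j, m = j + 1 := ⟨m - 1, by omega⟩
  have hc := card_GO_minus j a b hab
  rw [Nat.add_sub_cancel, mul_assoc] at *
  rw [← coe_minus j a b] at hc ⊢
  have hP := pnd_plane hab
  have hz := card_center_standard (e := Equiv.refl ((Fin j ⊕ Fin j) ⊕ Fin 2))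
    hP (show 2 ≤ j by omega) (by simp; omega)
  have h1 := card_POmega_mul (formOf j (Equiv.refl ((Fin j ⊕ Fin j) ⊕ Fin 2)) (planeForm a b))
  rw [hz] at h1
  rw [mul_assoc 2] at hc
  by_cases h2 : (2 : F) = 0
  · haveI : CharP F 2 := CharTwo.of_one_ne_zero_of_two_eq_zero one_ne_zero h2
    have heven : Even (Fintype.card F ^ (j + 1)) :=
      (Nat.even_iff.mpr (FiniteField.even_card_of_char_two (F := F) (ringChar.eq F 2))).pow_of_ne_zero (by omega)
    have hg : Nat.gcd 4 (Fintype.card F ^ (j + 1) + 1) = 1 := by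
      rw [Nat.gcd_rec, Nat.gcd_comm]
      rcases (show (Fintype.card F ^ (j + 1) + 1) % 4 = 1 ∨ (Fintype.card F ^ (j + 1) + 1) % 4 = 3 by
        rw [Nat.even_iff] at heven; omega) with e | e <;> rw [e] <;> rfl
    rw [if_neg (fun h => h.2 h2), mul_one] at h1
    have h4 := card_omega _ 2 (index_omega_two (formOf_pnd hP) (by simp) (Or.inr (by simp; omega))
      (Q := formOf j (Equiv.refl ((Fin j ⊕ Fin j) ⊕ Fin 2)) (planeForm a b)))
    rw [hc, ← h1] at h4
    rw [hg, one_mul]
    omega
  · have hodd : Odd (Fintype.card F) := Nat.odd_iff.mpr (FiniteField.odd_card_of_char_ne_two fun h => h2 (by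
      haveI := ringChar.of_eq h
      exact CharTwo.two_eq_zero))
    have h4 := card_omega _ 4 (index_omega_odd h2 (formOf_pnd hP) (by simp)
      (Q := formOf j (Equiv.refl ((Fin j ⊕ Fin j) ⊕ Fin 2)) (planeForm a b)))
    rw [hc, ← h1] at h4
    have hqodd := Nat.odd_iff.mp (hodd.pow (n := j + 1))
    by_cases hs : Fintype.card F ^ (j + 1) % 4 = 3
    · have hg : Nat.gcd 4 (Fintype.card F ^ (j + 1) + 1) = 4 := by
        rw [Nat.gcd_eq_left]; omega
      rw [if_pos ⟨(negI_minus hodd (m := j + 1) (by omega) a b hab).mpr hs, h2⟩] at h4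
      rw [hg]
      omega
    · have hg : Nat.gcd 4 (Fintype.card F ^ (j + 1) + 1) = 2 := by
        rw [Nat.gcd_rec, Nat.gcd_comm, show (Fintype.card F ^ (j + 1) + 1) % 4 = 2 by omega]
        rfl
      rw [if_neg (fun h => hs ((negI_minus hodd (m := j + 1) (by omega) a b hab).mp h.1))] at h4
      rw [hg]
      omega

end Cfsg.Agent.Classical.OOmega
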