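import Cfsg.Agent.Lib.Classical.OrthSimple
import Cfsg.Agent.Lib.Classical.OrthPOmega

/-!
# Simplicity of `PΩ` for the standard forms
-/

set_option autoImplicit false
set_option linter.unusedSectionVars false

namespace Cfsg.Agent.Classical.OOmega

open Module QuadraticMap OCount ORefl

variable {F : Type*} [Field F] {R : Type} [Fintype R] [DecidableEq R] {ι : Type} [Fintype ι] [DecidableEq ι]

/-- The first three pairs of a standard form. -/
noncomputable def stdPairs {m : ℕ} (e : ι ≃ (Fin m ⊕ Fin m) ⊕ R) (P : QuadraticForm F (R → F)) (hm : 3 ≤ m) :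
    ThreePairs (formOf m e P) where
  e := bv e (.inl (.inl ⟨0, by omega⟩))
  f := bv e (.inl (.inr ⟨0, by omega⟩))
  w := bv e (.inl (.inl ⟨1, by omega⟩))
  w' := bv e (.inl (.inr ⟨1, by omega⟩))
  u := bv e (.inl (.inl ⟨2, by omega⟩))
  z := bv e (.inl (.inr ⟨2, by omega⟩))
  hp := ⟨formOf_bv .., formOf_bv .., by rw [formOf_polar_bv]; simp [OCount.gram]⟩
  hq := ⟨formOf_bv .., formOf_bv .., by rw [formOf_polar_bv]; simp [OCount.gram]⟩
  hs := ⟨formOf_bv .., formOf_bv .., by rw [formOf_polar_bv]; simp [OCount.gram]⟩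
  ew := by rw [formOf_polar_bv]; simp [OCount.gram]
  ew' := by rw [formOf_polar_bv]; simp [OCount.gram]
  fw := by rw [formOf_polar_bv]; simp [OCount.gram]
  fw' := by rw [formOf_polar_bv]; simp [OCount.gram]
  eu := by rw [formOf_polar_bv]; simp [OCount.gram]
  ez := by rw [formOf_polar_bv]; simp [OCount.gram]
  fu := by rw [formOf_polar_bv]; simp [OCount.gram]
  fz := by rw [formOf_polar_bv]; simp [OCount.gram]
  wu := by rw [formOf_polar_bv]; simp [OCount.gram]
  wz := by rw [formOf_polar_bv]; simp [OCount.gram]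
  w'u := by rw [formOf_polar_bv]; simp [OCount.gram]
  w'z := by rw [formOf_polar_bv]; simp [OCount.gram]

/-- `PΩ` in the abstract group. -/
noncomputable def pOmegaEquiv (Q : QuadraticForm F (ι → F)) :
    (↥(commutator ↥(Iso Q)) ⧸ Subgroup.center ↥(commutator ↥(Iso Q))) ≃* Cfsg.POmega F ⇑Q :=
  let e : ↥(commutator ↥(Iso Q)) ≃* ↥(Cfsg.Omega F ⇑Q) :=
    ((commutator ↥(Iso Q)).equivMapOfInjective _ (toMat Q).injective).trans
      (MulEquiv.subgroupCongr (omega_eq_map (Q := Q)).symm)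
  QuotientGroup.congr _ _ e (by
    refine le_antisymm (fun x hx => ?_) fun x hx => ⟨e.symm x, ?_, e.apply_symm_apply x⟩
    · obtain ⟨y, hy, rfl⟩ := hx
      exact (Subgroup.centerCongr e ⟨y, hy⟩).2
    · exact (Subgroup.centerCongr e.symm ⟨x, hx⟩).2)

theorem simple_standard [Finite F] {m : ℕ} {e : ι ≃ (Fin m ⊕ Fin m) ⊕ R} {P : QuadraticForm F (R → F)}
    (hP : PND P) (hm : 3 ≤ m) : IsSimpleGroup (Cfsg.POmega F ⇑(formOf m e P)) :=
  haveI := isSimple (formOf_pnd (e := e) hP) (stdPairs e P hm)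
  haveI : Nontrivial (Cfsg.POmega F ⇑(formOf m e P)) := (pOmegaEquiv (formOf m e P)).toEquiv.symm.nontrivial
  IsSimpleGroup.isSimpleGroup_of_surjective (pOmegaEquiv (formOf m e P)).toMonoidHom
    (pOmegaEquiv (formOf m e P)).surjective

end Cfsg.Agent.Classical.OOmega
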