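import Cfsg.Agent.Lib.Classical.KleinQuadric
import Cfsg.Agent.Lib.Classical.OrthPSimple

/-!
# `PΩ⁺₆ ≅ PSL₄`
-/

set_option autoImplicit false
set_option linter.unusedSectionVars false

namespace Cfsg.Agent.Classical.Klein

open Matrix ORefl OOmega

/-- A surjection with central kernel induces an isomorphism of the quotients by the centres, when
the source's central quotient is centreless. -/
theorem center_quot_equiv {H K : Type*} [Group H] [Group K] (φ : H →* K) (hs : Function.Surjective φ)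
    (hk : φ.ker ≤ Subgroup.center H) (hc : Subgroup.center (H ⧸ Subgroup.center H) = ⊥) :
    Nonempty (H ⧸ Subgroup.center H ≃* K ⧸ Subgroup.center K) := by
  have key : ∀ h, φ h ∈ Subgroup.center K ↔ h ∈ Subgroup.center H := by
    intro h
    refine ⟨fun hh => ?_, fun hh => ?_⟩
    · have h1 : QuotientGroup.mk' (Subgroup.center H) h ∈ Subgroup.center (H ⧸ Subgroup.center H) := by
        rw [Subgroup.mem_center_iff]
        intro x
        obtain ⟨y, rfl⟩ := QuotientGroup.mk'_surjective _ x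
        rw [← map_mul, ← map_mul, QuotientGroup.mk'_apply, QuotientGroup.mk'_apply, QuotientGroup.eq]
        refine hk (MonoidHom.mem_ker.mpr ?_)
        rw [map_mul, map_inv, map_mul, map_mul, Subgroup.mem_center_iff.mp hh (φ y), inv_mul_cancel]
      rwa [hc, Subgroup.mem_bot, QuotientGroup.mk'_apply, QuotientGroup.eq_one_iff] at h1
    · rw [Subgroup.mem_center_iff]
      intro x
      obtain ⟨y, rfl⟩ := hs x
      rw [← map_mul, ← map_mul, Subgroup.mem_center_iff.mp hh y]
  let ψ := (QuotientGroup.mk' (Subgroup.center K)).comp φ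
  have hψ : ψ.ker = Subgroup.center H := by
    ext h
    rw [MonoidHom.mem_ker, MonoidHom.comp_apply, QuotientGroup.mk'_apply, QuotientGroup.eq_one_iff, key]
  exact ⟨(QuotientGroup.quotientMulEquivOfEq hψ.symm).trans
    (QuotientGroup.quotientKerEquivOfSurjective ψ ((QuotientGroup.mk'_surjective _).comp hs))⟩

variable {F : Type*} [Field F] [Fintype F]

theorem psl_center_bot : Subgroup.center (Matrix.SpecialLinearGroup (Fin 4) F ⧸
    Subgroup.center (Matrix.SpecialLinearGroup (Fin 4) F)) = ⊥ := by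
  haveI := Cfsg.Agent.Small.PSLn.psl_simple (F := F) (n := 4) (by norm_num)
  refine (IsSimpleGroup.eq_bot_or_eq_top_of_normal _ inferInstance).resolve_right fun h => ?_
  obtain ⟨t, ht⟩ : ∃ t : Matrix.SpecialLinearGroup (Fin 4) F, t.1 = Matrix.transvection 0 1 (1 : F) :=
    ⟨⟨_, Matrix.det_transvection_of_ne 0 1 (by decide) (1 : F)⟩, rfl⟩
  obtain ⟨u, hu⟩ : ∃ t : Matrix.SpecialLinearGroup (Fin 4) F, t.1 = Matrix.transvection 1 2 (1 : F) :=
    ⟨⟨_, Matrix.det_transvection_of_ne 1 2 (by decide) (1 : F)⟩, rfl⟩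
  have h1 := Subgroup.mem_center_iff.mp
    (h ▸ Subgroup.mem_top (QuotientGroup.mk' (Subgroup.center (Matrix.SpecialLinearGroup (Fin 4) F)) t))
    (QuotientGroup.mk' _ u)
  rw [← map_mul, ← map_mul, QuotientGroup.mk'_apply, QuotientGroup.mk'_apply, QuotientGroup.eq] at h1
  obtain ⟨r, -, hr⟩ := Matrix.SpecialLinearGroup.mem_center_iff.mp h1
  have e : (u * t).1 * Matrix.scalar (Fin 4) r = (t * u).1 := by
    rw [hr, ← Matrix.SpecialLinearGroup.coe_mul, mul_inv_cancel_left]
  have e1 := congrFun (congrFun e 0) 2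
  rw [Matrix.SpecialLinearGroup.coe_mul, Matrix.SpecialLinearGroup.coe_mul, ht, hu] at e1
  simp [Matrix.mul_apply, Fin.sum_univ_four, Matrix.transvection, Matrix.single, Matrix.one_apply,
    Matrix.scalar_apply, Matrix.diagonal] at e1

/-- `PΩ⁺₆ ≅ PSL₄`. -/
theorem pOmega_six : Nonempty (Cfsg.POmega F (Cfsg.quadFormPlus 3 F) ≃*
    Matrix.ProjectiveSpecialLinearGroup (Fin 4) F) := by
  rw [← coe_plus 3]
  let φ : Matrix.SpecialLinearGroup (Fin 4) F →* ↥(commutator ↥(Iso (Q6 F))) :=
    (hom F).codRestrict _ fun g => hom_range_le ⟨g, rfl⟩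
  have hs : Function.Surjective φ := fun x => by
    obtain ⟨g, hg⟩ : x.1 ∈ (hom F).range := (hom_range (F := F)).symm ▸ x.2
    exact ⟨g, Subtype.ext hg⟩
  have hk : φ.ker ≤ Subgroup.center _ := fun g hg => hom_ker_le (congrArg Subtype.val hg)
  obtain ⟨e⟩ := center_quot_equiv φ hs hk psl_center_bot
  exact ⟨(pOmegaEquiv (Q6 F)).symm.trans e.symm⟩

end Cfsg.Agent.Classical.Klein
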