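import Cfsg.Agent.Lib.Classical.OrthClosed

/-!
# `S₈` and `S₅` as orthogonal groups over the field with two elements

The symmetric group acts on the even vectors (modulo the all-one vector in degree eight), and
half the weight is a quadratic form there.
-/

set_option autoImplicit false

namespace Cfsg.Agent.Classical.OSymm

open Matrix

/-- The vector with the bits of `k`. -/
def bits (n k : ℕ) : Fin n → ZMod 2 := fun i => if k.testBit i then 1 else 0

/-- Half the weight. -/
def hw {n : ℕ} (x : Fin n → ZMod 2) : ZMod 2 :=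
  (((Finset.univ.filter fun i => x i ≠ 0).card / 2 : ℕ) : ZMod 2)

/-- Permuting coordinates. -/
def perm {n : ℕ} (σ : Equiv.Perm (Fin n)) (x : Fin n → ZMod 2) : Fin n → ZMod 2 := fun i => x (σ.symm i)

theorem perm_mul {n : ℕ} (σ τ : Equiv.Perm (Fin n)) (x : Fin n → ZMod 2) :
    perm (σ * τ) x = perm σ (perm τ x) := rfl

theorem perm_even {n : ℕ} (σ : Equiv.Perm (Fin n)) {x : Fin n → ZMod 2} (h : ∑ i, x i = 0) :
    ∑ i, perm σ x i = 0 := by
  rw [← h]; exact Equiv.sum_comp σ.symm x

theorem hw_perm {n : ℕ} (σ : Equiv.Perm (Fin n)) (x : Fin n → ZMod 2) : hw (perm σ x) = hw x := by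
  have h : (Finset.univ.filter fun i => perm σ x i ≠ 0).card = (Finset.univ.filter fun i => x i ≠ 0).card :=
    Finset.card_equiv σ.symm fun i => by rw [Finset.mem_filter, Finset.mem_filter]; simp [perm]
  simp only [hw, h]

theorem eq_one_of_fixes {n : ℕ} (hn : 5 ≤ n) (σ : Equiv.Perm (Fin n))
    (h : ∀ y : Fin n → ZMod 2, ∑ i, y i = 0 → perm σ y = y ∨ perm σ y = y + 1) : σ = 1 := by
  classical
  have key : ∀ i j : Fin n, i ≠ j → σ.symm i = i ∨ σ.symm i = j := by
    intro i j hij
    by_contra hcon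
    rw [not_or] at hcon
    obtain ⟨y, hy⟩ : ∃ y : Fin n → ZMod 2, y = Pi.single i 1 + Pi.single j 1 := ⟨_, rfl⟩
    have hev : ∑ l, y l = 0 := by
      rw [hy]; simp [Finset.sum_add_distrib]; decide
    obtain ⟨l, hl⟩ : ∃ l, l ∉ ({i, j, σ i, σ j} : Finset (Fin n)) := by
      have : ({i, j, σ i, σ j} : Finset (Fin n)).card < (Finset.univ : Finset (Fin n)).card := by
        refine lt_of_le_of_lt Finset.card_le_four ?_
        rw [Finset.card_univ, Fintype.card_fin]; omega
      exact (Finset.exists_mem_notMem_of_card_lt_card this).imp fun _ h => h.2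
    simp only [Finset.mem_insert, Finset.mem_singleton, not_or] at hl
    obtain ⟨hl1, hl2, hl3, hl4⟩ := hl
    have hzero : y (σ.symm l) = 0 ∧ y l = 0 := by
      rw [hy]; simp [Equiv.symm_apply_eq, hl1, hl2, hl3, hl4]
    rcases h y hev with e | e
    · have := congrFun e i
      rw [hy] at this
      simp [perm, hij, hcon.1, hcon.2] at this
    · have := congrFun e l
      rw [Pi.add_apply, show perm σ y l = y (σ.symm l) from rfl, hzero.1, hzero.2] at this
      simp at this
  refine inv_injective ((?_ : σ⁻¹ = 1).trans inv_one.symm)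
  refine Equiv.ext fun i => ?_
  by_contra hne
  obtain ⟨j, hj⟩ : ∃ j, j ∉ ({i, σ.symm i} : Finset (Fin n)) := by
    have : ({i, σ.symm i} : Finset (Fin n)).card < (Finset.univ : Finset (Fin n)).card := by
      refine lt_of_le_of_lt Finset.card_le_two ?_
      rw [Finset.card_univ, Fintype.card_fin]; omega
    exact (Finset.exists_mem_notMem_of_card_lt_card this).imp fun _ h => h.2
  simp only [Finset.mem_insert, Finset.mem_singleton, not_or] at hj
  rcases key i j (Ne.symm hj.1) with e | e
  · exact hne e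
  · exact hj.2 e.symm

section General

variable {n : ℕ} {ι : Type} [Fintype ι] [DecidableEq ι]

/-- A frame: a linear section `L` into even vectors with retraction `R`. -/
structure Frame (n : ℕ) (ι : Type) [Fintype ι] [DecidableEq ι] (Q : (ι → ZMod 2) → ZMod 2) where
  L : (ι → ZMod 2) →ₗ[ZMod 2] Fin n → ZMod 2
  R : (Fin n → ZMod 2) →ₗ[ZMod 2] ι → ZMod 2
  even : ∀ x, ∑ i, L x i = 0
  retr : ∀ x, R (L x) = x
  one : R 1 = 0
  sect : ∀ y, ∑ i, y i = 0 → L (R y) = y ∨ L (R y) = y + 1
  quad : ∀ y, ∑ i, y i = 0 → Q (R y) = hw y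

variable {Q : (ι → ZMod 2) → ZMod 2}

/-- The permutation as a linear map on the frame. -/
def Frame.act (f : Frame n ι Q) (σ : Equiv.Perm (Fin n)) : (ι → ZMod 2) →ₗ[ZMod 2] ι → ZMod 2 :=
  f.R ∘ₗ (LinearMap.funLeft (ZMod 2) (ZMod 2) σ.symm) ∘ₗ f.L

theorem Frame.act_apply (f : Frame n ι Q) (σ : Equiv.Perm (Fin n)) (x : ι → ZMod 2) :
    f.act σ x = f.R (perm σ (f.L x)) := rfl

theorem Frame.act_mul (f : Frame n ι Q) (σ τ : Equiv.Perm (Fin n)) (x : ι → ZMod 2) :
    f.act (σ * τ) x = f.act σ (f.act τ x) := by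
  rw [f.act_apply, f.act_apply, f.act_apply, perm_mul]
  rcases f.sect _ (perm_even τ (f.even x)) with e | e <;> rw [e]
  rw [show perm σ (perm τ (f.L x) + 1) = perm σ (perm τ (f.L x)) + 1 from rfl, map_add, f.one, add_zero]

theorem Frame.act_one (f : Frame n ι Q) (x : ι → ZMod 2) : f.act 1 x = x := f.retr x

/-- The matrix of a permutation. -/
noncomputable def Frame.unit (f : Frame n ι Q) (σ : Equiv.Perm (Fin n)) : Matrix.GeneralLinearGroup ι (ZMod 2) where
  val := LinearMap.toMatrix' (f.act σ)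
  inv := LinearMap.toMatrix' (f.act σ⁻¹)
  val_inv := by
    rw [← LinearMap.toMatrix'_comp, ← LinearMap.toMatrix'_id]
    exact congrArg _ (LinearMap.ext fun x => by
      rw [LinearMap.comp_apply, ← f.act_mul, mul_inv_cancel, f.act_one]; rfl)
  inv_val := by
    rw [← LinearMap.toMatrix'_comp, ← LinearMap.toMatrix'_id]
    exact congrArg _ (LinearMap.ext fun x => by
      rw [LinearMap.comp_apply, ← f.act_mul, inv_mul_cancel, f.act_one]; rfl)

/-- The homomorphism to the isometry group. -/
noncomputable def Frame.hom (f : Frame n ι Q) :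
    Equiv.Perm (Fin n) →* ↥(Cfsg.isometryGroup (ZMod 2) Q) :=
  MonoidHom.codRestrict (MonoidHom.mk' f.unit fun σ τ => Units.ext (by
    show LinearMap.toMatrix' (f.act (σ * τ)) = LinearMap.toMatrix' (f.act σ) * LinearMap.toMatrix' (f.act τ)
    rw [← LinearMap.toMatrix'_comp]
    exact congrArg _ (LinearMap.ext (f.act_mul σ τ)))) _ fun σ x _ => by
    show Q (LinearMap.toMatrix' (f.act σ) *ᵥ x) = Q x
    rw [LinearMap.toMatrix'_mulVec, f.act_apply, f.quad _ (perm_even σ (f.even x)), hw_perm,
      ← f.quad _ (f.even x), f.retr]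

theorem Frame.hom_injective (f : Frame n ι Q) (hn : 5 ≤ n) : Function.Injective f.hom := by
  rw [← MonoidHom.ker_eq_bot_iff, Subgroup.eq_bot_iff_forall]
  intro σ hσ
  have hσ' : ∀ x, f.act σ x = x := fun x => by
    have := congrArg (fun g : ↥(Cfsg.isometryGroup (ZMod 2) Q) => g.1.1 *ᵥ x) (MonoidHom.mem_ker.mp hσ)
    change LinearMap.toMatrix' (f.act σ) *ᵥ x = (1 : Matrix ι ι (ZMod 2)) *ᵥ x at this
    rwa [LinearMap.toMatrix'_mulVec, Matrix.one_mulVec] at this
  refine eq_one_of_fixes hn σ fun y hy => ?_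
  have h := hσ' (f.R y)
  rw [f.act_apply] at h
  have h1 : f.R (perm σ y) = f.R y := by
    refine Eq.trans ?_ h
    rcases f.sect _ hy with e | e <;> rw [e]
    rw [show perm σ (y + 1) = perm σ y + 1 from rfl, map_add, f.one, add_zero]
  have hz : ∀ z : Fin n → ZMod 2, z + 1 + 1 = z := fun z => by
    funext i; show z i + 1 + 1 = z i
    rw [add_assoc, show (1 : ZMod 2) + 1 = 0 from rfl, add_zero]
  rcases f.sect _ (perm_even σ hy) with e | e <;> rcases f.sect _ hy with e' | e' <;> rw [h1, e'] at e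
  · exact Or.inl e.symm
  · exact Or.inr e.symm
  · exact Or.inr (by conv_rhs => rw [e, hz])
  · exact Or.inl (add_right_cancel e).symm

end General

/-- The singular and dual vectors in degree eight. -/
def vec8 : Fin 3 ⊕ Fin 3 → (Fin 8 → ZMod 2) :=
  Sum.elim ![bits 8 15, bits 8 57, bits 8 92] ![bits 8 23, bits 8 58, bits 8 99]

/-- The frame in degree eight. -/
def frame8 : Frame 8 (Fin 3 ⊕ Fin 3) (Cfsg.quadFormPlus 3 (ZMod 2)) where
  L :=
    { toFun := fun x i => ∑ k, x k * vec8 k i
      map_add' := fun x y => funext fun i => by simp [add_mul, Finset.sum_add_distrib]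
      map_smul' := fun c x => funext fun i => by
        simp only [Pi.smul_apply, smul_eq_mul, RingHom.id_apply, mul_assoc, Finset.mul_sum] }
  R :=
    { toFun := fun y k => ∑ i, y i * vec8 k.swap i
      map_add' := fun x y => funext fun i => by simp [add_mul, Finset.sum_add_distrib]
      map_smul' := fun c x => funext fun i => by
        simp only [Pi.smul_apply, smul_eq_mul, RingHom.id_apply, mul_assoc, Finset.mul_sum] }
  even := by decide +kernel
  retr := by decide +kernel
  one := by decide +kernel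
  sect := by decide +kernel
  quad := by decide +kernel

/-- Basis vectors in degree five: a hyperbolic pair and an anisotropic plane. -/
def vec5 : (Fin 1 ⊕ Fin 1) ⊕ Fin 2 → (Fin 5 → ZMod 2) :=
  Sum.elim (Sum.elim ![bits 5 15] ![bits 5 23]) ![bits 5 3, bits 5 5]

/-- The dual vectors. -/
def dual5 : (Fin 1 ⊕ Fin 1) ⊕ Fin 2 → (Fin 5 → ZMod 2) :=
  Sum.elim (Sum.elim ![bits 5 23] ![bits 5 15]) ![bits 5 5, bits 5 3]

/-- The frame in degree five. -/
def frame5 : Frame 5 ((Fin 1 ⊕ Fin 1) ⊕ Fin 2) (Cfsg.quadFormMinus 1 (ZMod 2) 1 1) where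
  L :=
    { toFun := fun x i => ∑ k, x k * vec5 k i
      map_add' := fun x y => funext fun i => by simp [add_mul, Finset.sum_add_distrib]
      map_smul' := fun c x => funext fun i => by
        simp only [Pi.smul_apply, smul_eq_mul, RingHom.id_apply, mul_assoc, Finset.mul_sum] }
  R :=
    { toFun := fun y k => ∑ i, y i * dual5 k i
      map_add' := fun x y => funext fun i => by simp [add_mul, Finset.sum_add_distrib]
      map_smul' := fun c x => funext fun i => by
        simp only [Pi.smul_apply, smul_eq_mul, RingHom.id_apply, mul_assoc, Finset.mul_sum] }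
  even := by decide +kernel
  retr := by decide +kernel
  one := by decide +kernel
  sect := by decide +kernel
  quad := by decide +kernel

/-! ### Change of the coefficient field -/

variable {ι : Type} [Fintype ι] [DecidableEq ι]

/-- Transport of an isometry group along a field isomorphism. -/
noncomputable def fieldEquiv {F K : Type*} [Field F] [Field K] (e : F ≃+* K) (Q : (ι → F) → F)
    (Q' : (ι → K) → K) (hQ : ∀ x, Q' (e ∘ x) = e (Q x)) :
    ↥(Cfsg.isometryGroup F Q) ≃* ↥(Cfsg.isometryGroup K Q') := by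
  let g : Matrix.GeneralLinearGroup ι F ≃* Matrix.GeneralLinearGroup ι K :=
    Units.mapEquiv (RingEquiv.mapMatrix e).toMulEquiv
  have hg : ∀ (A : Matrix.GeneralLinearGroup ι F) (x : ι → F), (g A).1 *ᵥ (e ∘ x) = e ∘ (A.1 *ᵥ x) :=
    fun A x => funext fun i => (RingHom.map_mulVec e.toRingHom A.1 x i).symm
  have hiff : ∀ A, A ∈ Cfsg.isometryGroup F Q ↔ g A ∈ Cfsg.isometryGroup K Q' := fun A => by
    constructor
    · intro h u v
      show Q' ((g A).1 *ᵥ u) = Q' u
      obtain ⟨x, rfl⟩ : ∃ x : ι → F, u = e ∘ x := ⟨e.symm ∘ u, by funext i; simp⟩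
      rw [hg, hQ, hQ]
      exact congrArg e (h x x)
    · intro h x v
      have := h (e ∘ x) (e ∘ x)
      change Q' ((g A).1 *ᵥ (e ∘ x)) = Q' (e ∘ x) at this
      rw [hg, hQ, hQ] at this
      exact e.injective this
  exact
    { toFun := fun A => ⟨g A.1, (hiff _).mp A.2⟩
      invFun := fun B => ⟨g.symm B.1, (hiff _).mpr (by rw [MulEquiv.apply_symm_apply]; exact B.2)⟩
      left_inv := fun A => Subtype.ext (g.symm_apply_apply _)
      right_inv := fun B => Subtype.ext (g.apply_symm_apply _)
      map_mul' := fun A B => Subtype.ext (map_mul g _ _) }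

theorem equiv_eight : Nonempty (↥(Cfsg.isometryGroup (ZMod 2) (Cfsg.quadFormPlus 3 (ZMod 2))) ≃* Equiv.Perm (Fin 8)) := by
  refine ⟨(MulEquiv.ofBijective frame8.hom ((Nat.bijective_iff_injective_and_card _).mpr
    ⟨frame8.hom_injective (by norm_num), ?_⟩)).symm⟩
  rw [OCount.card_GO_plus 2, ZMod.card, Nat.card_perm, Nat.card_fin]
  decide

theorem equiv_five : Nonempty (↥(Cfsg.isometryGroup (ZMod 2) (Cfsg.quadFormMinus 1 (ZMod 2) 1 1)) ≃* Equiv.Perm (Fin 5)) := by
  refine ⟨(MulEquiv.ofBijective frame5.hom ((Nat.bijective_iff_injective_and_card _).mpr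
    ⟨frame5.hom_injective le_rfl, ?_⟩)).symm⟩
  rw [OCount.card_GO_minus 1 1 1 (by decide), ZMod.card, Nat.card_perm, Nat.card_fin]
  decide

end Cfsg.Agent.Classical.OSymm
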