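import Cfsg.Agent.Lib.Classical.UnitaryForm

/-!
# Counting orthonormal bases of Hermitian spaces over finite fields
-/

set_option autoImplicit false
set_option linter.unusedSectionVars false
set_option linter.style.haveILetI false

namespace Cfsg.Agent.Classical.UCount

open Module Matrix

universe u v

variable {F : Type u} [Field F]

/-- A non-degenerate Hermitian form, linear in the first variable. -/
structure IsHermND {V : Type v} [AddCommGroup V] [Module F V] (σ : F ≃+* F) (h : V → V → F) : Prop where
  add_left : ∀ x y z, h (x + y) z = h x z + h y z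
  smul_left : ∀ (c : F) x z, h (c • x) z = c * h x z
  symm : ∀ x y, σ (h x y) = h y x
  nondeg : ∀ v, (∀ w, h v w = 0) → v = 0

variable {V : Type v} [AddCommGroup V] [Module F V] {σ : F ≃+* F} {h : V → V → F}

namespace IsHermND

variable (H : IsHermND σ h)
include H

theorem add_right (x y z : V) : h x (y + z) = h x y + h x z := by
  rw [← H.symm (y + z) x, H.add_left, map_add, H.symm, H.symm]

theorem smul_right (c : F) (x z : V) : h x (c • z) = σ c * h x z := by
  rw [← H.symm (c • z) x, H.smul_left, map_mul, H.symm]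

theorem zero_left (z : V) : h 0 z = 0 := by
  have := H.smul_left 0 0 z
  simpa using this

theorem zero_right (z : V) : h z 0 = 0 := by rw [← H.symm 0 z, H.zero_left, map_zero]

theorem sub_left (x y z : V) : h (x - y) z = h x z - h y z := by
  rw [eq_sub_iff_add_eq, ← H.add_left, sub_add_cancel]

theorem sub_right (x y z : V) : h x (y - z) = h x y - h x z := by
  rw [eq_sub_iff_add_eq, ← H.add_right, sub_add_cancel]

theorem fixed (x : V) : σ (h x x) = h x x := H.symm x x

/-- The form as a linear functional in the first variable. -/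
def func (a : V) : V →ₗ[F] F where
  toFun x := h x a
  map_add' x y := H.add_left x y a
  map_smul' c x := H.smul_left c x a

theorem func_apply (a x : V) : H.func a x = h x a := rfl

theorem sum_left {κ : Type*} (s : Finset κ) (f : κ → V) (z : V) : h (∑ i ∈ s, f i) z = ∑ i ∈ s, h (f i) z :=
  map_sum (H.func z) f s

theorem exists_split (a : V) (ha : h a a ≠ 0) (x : V) :
    x - (h x a / h a a) • a ∈ LinearMap.ker (H.func a) := by
  rw [LinearMap.mem_ker, H.func_apply, H.sub_left, H.smul_left, div_mul_cancel₀ _ ha, sub_self]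

/-- `V = ⟨a⟩ ⊥ a⊥`. -/
noncomputable def splitEquiv (a : V) (ha : h a a ≠ 0) : V ≃ₗ[F] F × LinearMap.ker (H.func a) where
  toFun x := (h x a / h a a, ⟨_, H.exists_split a ha x⟩)
  map_add' x y := by
    refine Prod.ext (by simp [H.add_left, add_div]) (Subtype.ext ?_)
    simp only [Prod.snd_add, Submodule.coe_add, H.add_left, add_div, add_smul]
    abel
  map_smul' c x := by
    refine Prod.ext (by simp [H.smul_left, mul_div_assoc]) (Subtype.ext ?_)
    simp only [RingHom.id_apply, Prod.smul_snd, Submodule.coe_smul, H.smul_left, mul_div_assoc,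
      smul_sub, mul_smul]
  invFun z := z.1 • a + (z.2 : V)
  left_inv x := by simp only; abel
  right_inv z := by
    obtain ⟨c, w, hw⟩ := z
    have hw' : h w a = 0 := hw
    have e : h (c • a + w) a / h a a = c := by
      rw [H.add_left, H.smul_left, hw', add_zero, mul_div_assoc, div_self ha, mul_one]
    refine Prod.ext e (Subtype.ext ?_)
    simp only [e]
    abel

theorem res {W : Submodule F V} (hW : ∀ x ∈ W, (∀ y ∈ W, h x y = 0) → x = 0) :
    IsHermND σ (fun x y : W => h x y) :=
  ⟨fun x y z => H.add_left _ _ _, fun c x z => H.smul_left _ _ _, fun x y => H.symm _ _,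
    fun x hx => Subtype.ext (hW _ x.2 fun y hy => hx ⟨y, hy⟩)⟩

theorem res_ker (a : V) (ha : h a a ≠ 0) :
    IsHermND σ (fun x y : LinearMap.ker (H.func a) => h x y) := by
  refine H.res fun x hx hx' => H.nondeg x fun y => ?_
  have hxa : h x a = 0 := hx
  have h2 := hx' _ (H.exists_split a ha y)
  rwa [H.sub_right, H.smul_right, hxa, mul_zero, sub_zero] at h2

theorem finrank_ker [FiniteDimensional F V] (a : V) (ha : h a a ≠ 0) :
    finrank F V = 1 + finrank F (LinearMap.ker (H.func a)) := by
  rw [(H.splitEquiv a ha).finrank_eq, finrank_prod, finrank_self]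

theorem apply_self_split (a : V) (c : F) (w : LinearMap.ker (H.func a)) :
    h (c • a + (w : V)) (c • a + (w : V)) = c * σ c * h a a + h (w : V) (w : V) := by
  have hw : h (w : V) a = 0 := w.2
  have hw' : h a (w : V) = 0 := by rw [← H.symm, hw, map_zero]
  rw [H.add_left, H.add_right, H.add_right, H.smul_left, H.smul_left, H.smul_right, H.smul_right, hw, hw']
  ring

end IsHermND

/-- The number of vectors of norm `1` in dimension `n`. -/
def unitNum (q : ℕ) : ℕ → ℕ
  | 0 => 0
  | n + 1 => (q + 1) * q ^ (2 * n) - q * unitNum q n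

theorem unitNum_int {q : ℕ} (hq : 2 ≤ q) : ∀ n : ℕ, (q * unitNum q n ≤ (q + 1) * q ^ (2 * n)) ∧
    (q : ℤ) * unitNum q n = (q : ℤ) ^ (2 * n) - (-1) ^ n * (q : ℤ) ^ n := by
  intro n
  induction n with
  | zero => simp [unitNum]
  | succ n ih =>
    obtain ⟨hle, ih⟩ := ih
    have e : ((q * unitNum q (n + 1) : ℕ) : ℤ) =
        (q : ℤ) ^ (2 * (n + 1)) - (-1) ^ (n + 1) * (q : ℤ) ^ (n + 1) := by
      rw [unitNum, Nat.cast_mul, Nat.cast_sub hle]
      push_cast
      rw [ih, pow_succ, pow_succ (q : ℤ), show 2 * (n + 1) = 2 * n + 2 from rfl, pow_add]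
      ring
    refine ⟨?_, by exact_mod_cast e⟩
    have hA : (q : ℤ) ^ (n + 1) ≤ (q : ℤ) ^ (2 * (n + 1)) :=
      pow_le_pow_right₀ (by exact_mod_cast (show 1 ≤ q by omega)) (by omega)
    have hB : 0 < (q : ℤ) ^ (n + 1) := pow_pos (by exact_mod_cast (show 0 < q by omega)) _
    have h2' : (2 : ℤ) ≤ q := by exact_mod_cast hq
    have : ((q * unitNum q (n + 1) : ℕ) : ℤ) ≤ (((q + 1) * q ^ (2 * (n + 1)) : ℕ) : ℤ) := by
      rw [e]; push_cast
      rcases neg_one_pow_eq_or ℤ (n + 1) with e' | e' <;> rw [e'] <;> nlinarith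
    exact_mod_cast this

section Count

variable [Fintype F] {q : ℕ} (hσ : IsUSigma q σ)
include hσ

theorem card_pow_units {d : ℕ} (hd : d ∣ q ^ 2 - 1) : Nat.card {u : Fˣ // u ^ d = 1} = d := by
  have h := IsCyclic.card_powMonoidHom_ker (G := Fˣ) d
  rw [Nat.card_units, Nat.card_eq_fintype_card (α := F), hσ.card, Nat.gcd_eq_right hd] at h
  exact h

theorem card_fixed_units : Nat.card {c : F // σ c = c ∧ c ≠ 0} = q - 1 := by
  have hq := hσ.two_le
  have hfac : q ^ 2 - 1 = (q - 1) * (q + 1) := by
    rw [mul_comm, ← Nat.sq_sub_sq, one_pow]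
  rw [← card_pow_units hσ (d := q - 1) (hfac ▸ dvd_mul_right _ _)]
  exact Nat.card_congr
    { toFun := fun c => ⟨Units.mk0 c.1 c.2.2, Units.ext (by
        have h := c.2.1
        rw [hσ.apply_eq] at h
        rw [Units.val_pow_eq_pow_val, Units.val_mk0, Units.val_one]
        refine mul_right_cancel₀ c.2.2 ?_
        rw [one_mul, ← pow_succ, show q - 1 + 1 = q by omega, h])⟩
      invFun := fun u => ⟨u.1, by
        rw [hσ.apply_eq]
        calc (u.1 : F) ^ q = (u.1 : F) ^ (q - 1 + 1) := congrArg _ (by omega)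
          _ = (u.1 : F) := by
            rw [pow_succ, ← Units.val_pow_eq_pow_val, u.2, Units.val_one, one_mul], u.1.ne_zero⟩
      left_inv := fun c => rfl
      right_inv := fun u => Subtype.ext (Units.ext rfl) }

theorem card_norm_fibre {t : F} (ht0 : t ≠ 0) (ht : σ t = t) :
    Nat.card {c : F // c * σ c = t} = q + 1 := by
  have hq := hσ.two_le
  have hfac : q ^ 2 - 1 = (q + 1) * (q - 1) := by rw [← Nat.sq_sub_sq, one_pow]
  obtain ⟨x, hx0, hx⟩ := hσ.norm_surjective ht0 ht
  rw [← card_pow_units hσ (d := q + 1) (hfac ▸ dvd_mul_right _ _)]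
  exact Nat.card_congr
    { toFun := fun c => ⟨Units.mk0 (c.1 / x) (div_ne_zero (fun h => ht0 (by rw [← c.2, h, zero_mul])) hx0),
        Units.ext (by
          have e : c.1 * c.1 ^ q = x * x ^ q := by
            rw [← hσ.apply_eq, ← hσ.apply_eq, c.2, hx]
          rw [Units.val_pow_eq_pow_val, Units.val_mk0, Units.val_one, div_pow, pow_succ', pow_succ', e,
            div_self (mul_ne_zero hx0 (pow_ne_zero _ hx0))])⟩
      invFun := fun u => ⟨u.1 * x, by
        have e : (u.1 : F) * (u.1 : F) ^ q = 1 := by
          rw [← pow_succ', ← Units.val_pow_eq_pow_val, u.2, Units.val_one]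
        rw [map_mul, hσ.apply_eq (u.1 : F), mul_mul_mul_comm, e, one_mul, hx]⟩
      left_inv := fun c => Subtype.ext (by simp [div_mul_cancel₀ _ hx0])
      right_inv := fun u => Subtype.ext (Units.ext (by simp [mul_div_cancel_right₀ _ hx0])) }

theorem exists_anisotropic {V : Type v} [AddCommGroup V] [Module F V] {h : V → V → F}
    (H : IsHermND σ h) [Nontrivial V] : ∃ a, h a a ≠ 0 := by
  by_contra! hall
  obtain ⟨x, hx⟩ := exists_ne (0 : V)
  obtain ⟨y, hy⟩ : ∃ y, h x y ≠ 0 := by
    by_contra! h0
    exact hx (H.nondeg x h0)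
  obtain ⟨c, hc⟩ : ∃ c : F, c + σ c ≠ 0 := by
    by_contra! h0
    by_cases h2 : (2 : F) = 0
    · refine hσ.ne_refl (RingEquiv.ext fun c => ?_)
      show σ c = c
      linear_combination h0 c - c * h2
    · exact h2 (by simpa [one_add_one_eq_two] using h0 1)
  refine hc ?_
  have h1 := hall ((c / h x y) • x + y)
  rw [H.add_left, H.add_right, H.add_right, H.smul_left, H.smul_left, H.smul_right, hall x, hall y,
    div_mul_cancel₀ _ hy, H.smul_right, ← H.symm x y, ← map_mul, div_mul_cancel₀ _ hy] at h1
  linear_combination h1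

theorem card_norm (n : ℕ) : ∀ {V : Type v} [AddCommGroup V] [Module F V] [FiniteDimensional F V]
    {h : V → V → F}, IsHermND σ h → finrank F V = n → ∀ {c : F}, c ≠ 0 → σ c = c →
      Nat.card {v : V // h v v = c} = unitNum q n := by
  induction n with
  | zero =>
    intro V _ _ _ h H hV c hc _
    have : Subsingleton V := Module.finrank_zero_iff.mp hV
    have : IsEmpty {v : V // h v v = c} := ⟨fun v => hc (by rw [← v.2, Subsingleton.elim v.1 0, H.zero_left])⟩
    rw [Nat.card_eq_zero.mpr (Or.inl this)]
    rfl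
  | succ n ih =>
    intro V _ _ _ h H hV c hc hcσ
    classical
    have : Nontrivial V := Module.nontrivial_of_finrank_pos (R := F) (by omega)
    obtain ⟨a, ha⟩ := exists_anisotropic hσ H
    obtain ⟨K, hK⟩ : ∃ K, K = LinearMap.ker (H.func a) := ⟨_, rfl⟩
    have hdim : finrank F K = n := by
      have := H.finrank_ker a ha
      rw [hK]; omega
    have HK : IsHermND σ (fun x y : K => h x y) := by subst hK; exact H.res_ker a ha
    have : Finite V := Module.finite_of_finite F
    have := Fintype.ofFinite K
    -- the isotropic count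
    set N := unitNum q n with hN
    set i := Nat.card {w : K // h (w : V) w = 0} with hi
    set S : Finset F := Finset.univ.filter (fun t : F => σ t = t ∧ t ≠ 0) with hS
    have hScard : S.card = q - 1 := by
      rw [← card_fixed_units hσ, Nat.card_eq_fintype_card, Fintype.card_subtype]
    have htot : i + (q - 1) * N = q ^ (2 * n) := by
      have h1 : Fintype.card K = q ^ (2 * n) := by
        rw [← Nat.card_eq_fintype_card, natCard_eq_pow_finrank (K := F), Nat.card_eq_fintype_card,
          hσ.card, hdim, ← pow_mul]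
      rw [← h1, ← Finset.card_univ, Finset.card_eq_sum_card_fiberwise (f := fun w : K => h (w : V) w)
        (t := insert 0 S) (fun w _ => by
          simp only [Finset.coe_insert, Set.mem_insert_iff, hS, Finset.coe_filter, Finset.mem_univ, true_and,
            Set.mem_setOf_eq]
          exact or_iff_not_imp_left.mpr fun h0 => ⟨H.fixed _, h0⟩),
        Finset.sum_insert (by simp [hS]), Finset.sum_congr rfl (g := fun _ => N) fun t ht => by
          obtain ⟨ht1, ht2⟩ := (Finset.mem_filter.mp ht).2
          rw [← Fintype.card_subtype, ← Nat.card_eq_fintype_card]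
          exact ih HK hdim ht2 ht1,
        Finset.sum_const, hScard, smul_eq_mul, hi, Nat.card_eq_fintype_card, Fintype.card_subtype]
    -- the fibres over the coefficient
    have ha' : σ (h a a) = h a a := H.fixed a
    let e : {v : V // h v v = c} ≃ Σ l : F, {w : K // h (w : V) w = c - l * σ l * h a a} := by
      subst hK
      exact
      { toFun := fun v => ⟨(H.splitEquiv a ha v.1).1, (H.splitEquiv a ha v.1).2, by
          rw [eq_sub_iff_add_eq', ← H.apply_self_split]
          have := (H.splitEquiv a ha).symm_apply_apply v.1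
          rw [show (H.splitEquiv a ha v.1).1 • a + ((H.splitEquiv a ha v.1).2 : V) = v.1 from this]
          exact v.2⟩
        invFun := fun s => ⟨(H.splitEquiv a ha).symm (s.1, s.2.1), by
          show h (s.1 • a + (s.2.1 : V)) (s.1 • a + (s.2.1 : V)) = c
          rw [H.apply_self_split, s.2.2]; ring⟩
        left_inv := fun v => Subtype.ext ((H.splitEquiv a ha).symm_apply_apply v.1)
        right_inv := fun s => by
          obtain ⟨l, w, hw⟩ := s
          have hr := (H.splitEquiv a ha).apply_symm_apply (l, w)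
          exact Sigma.subtype_ext (congrArg Prod.fst hr) (congrArg Prod.snd hr) }
    set T : Finset F := Finset.univ.filter (fun l : F => l * σ l = c / h a a) with hT
    have hTcard : T.card = q + 1 := by
      rw [← card_norm_fibre hσ (div_ne_zero hc ha) (by rw [map_div₀, hcσ, ha']),
        Nat.card_eq_fintype_card, Fintype.card_subtype]
    rw [Nat.card_congr e, Nat.card_sigma, Finset.sum_congr rfl (g := fun l => if l ∈ T then i else N) fun l _ => by
        by_cases hl : l ∈ T
        · rw [if_pos hl, hi]
          have hl' : l * σ l = c / h a a := (Finset.mem_filter.mp hl).2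
          rw [hl', div_mul_cancel₀ _ ha, sub_self]
        · rw [if_neg hl]
          refine ih HK hdim (fun h0 => hl (Finset.mem_filter.mpr ⟨Finset.mem_univ _, ?_⟩)) ?_
          · rw [eq_div_iff ha]; linear_combination -h0
          · rw [map_sub, map_mul, map_mul, hσ.involutive, hcσ, ha', mul_comm (σ l)],
      Finset.sum_ite, Finset.sum_const, Finset.sum_const, smul_eq_mul, smul_eq_mul, Finset.filter_not,
      Finset.filter_mem_eq_inter, Finset.univ_inter, Finset.card_univ_diff, hTcard, hσ.card, unitNum, ← hN]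
    have hq := hσ.two_le
    have hle := (unitNum_int hq n).1
    rw [← hN] at hle
    obtain ⟨k, rfl⟩ : ∃ k, q = k + 1 := ⟨q - 1, by omega⟩
    have hk : 1 ≤ k := by omega
    rw [show (k + 1) ^ 2 - (k + 1 + 1) = k * k + k - 1 by
      rw [show (k + 1) ^ 2 = k * k + k + (k + 1) by ring]; omega]
    simp only [Nat.add_sub_cancel] at htot
    have h1 : 1 ≤ k * k + k := by omega
    zify [hle, h1]
    zify at htot
    linear_combination ((k : ℤ) + 2) * htot

/-- Orthonormal families. -/
def UFam {V : Type v} [AddCommGroup V] [Module F V] (h : V → V → F) (n : ℕ) : Type v :=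
  {f : Fin n → V // ∀ i j, h (f i) (f j) = if i = j then 1 else 0}

omit hσ in
/-- Splitting off the first vector. -/
def famEquiv {V : Type v} [AddCommGroup V] [Module F V] {h : V → V → F} (H : IsHermND σ h) (n : ℕ) :
    UFam h (n + 1) ≃ Σ a : {a : V // h a a = 1},
      UFam (fun x y : LinearMap.ker (H.func a.1) => h x y) n where
  toFun f := ⟨⟨f.1 0, by simpa using f.2 0 0⟩,
    ⟨fun i => ⟨f.1 i.succ, by
      show h _ _ = 0
      rw [f.2, if_neg (Fin.succ_ne_zero i)]⟩, fun i j => by
      show h _ _ = _
      rw [f.2]; simp [Fin.succ_inj]⟩⟩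
  invFun s := ⟨Fin.cons s.1.1 fun i => (s.2.1 i : V), by
    obtain ⟨⟨a, ha⟩, g, hg⟩ := s
    have hga : ∀ k, h (g k : V) a = 0 := fun k => (g k).2
    have hag : ∀ k, h a (g k : V) = 0 := fun k => by rw [← H.symm, hga k, map_zero]
    have hgg : ∀ k l, h (g k : V) (g l) = if k = l then 1 else 0 := hg
    intro i j
    refine Fin.cases ?_ (fun i => ?_) i <;> refine Fin.cases ?_ (fun j => ?_) j <;>
      simp [ha, hga, hag, hgg, Fin.succ_inj, Fin.succ_ne_zero, (Fin.succ_ne_zero _).symm]⟩
  left_inv f := by
    apply Subtype.ext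
    funext i
    refine Fin.cases ?_ (fun k => ?_) i <;> simp
  right_inv s := by
    obtain ⟨⟨a, ha⟩, g, hg⟩ := s
    refine Sigma.ext rfl (heq_of_eq (Subtype.ext (funext fun i => Subtype.ext ?_)))
    simp

/-- The number of orthonormal families. -/
theorem card_fam (n : ℕ) : ∀ {V : Type v} [AddCommGroup V] [Module F V] [FiniteDimensional F V]
    {h : V → V → F}, IsHermND σ h → finrank F V = n →
      Nat.card (UFam h n) = ∏ i ∈ Finset.range n, unitNum q (i + 1) := by
  induction n with
  | zero =>
    intro V _ _ _ h _ _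
    have : Unique (UFam h 0) :=
      { default := ⟨fun i => Fin.elim0 i, fun i => Fin.elim0 i⟩
        uniq := fun f => Subtype.ext (funext fun i => Fin.elim0 i) }
    simp
  | succ n ih =>
    intro V _ _ _ h H hV
    classical
    have : Finite V := Module.finite_of_finite F
    have : ∀ a : {a : V // h a a = 1}, Finite (UFam (fun x y : LinearMap.ker (H.func a.1) => h x y) n) :=
      fun a => Subtype.finite
    rw [Nat.card_congr (famEquiv H n)]
    have := Fintype.ofFinite {a : V // h a a = 1}
    rw [Nat.card_sigma, Finset.sum_congr rfl fun a _ => ih (H.res_ker a.1 (by rw [a.2]; exact one_ne_zero))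
        (by have := H.finrank_ker a.1 (by rw [a.2]; exact one_ne_zero); omega),
      Finset.sum_const, Finset.card_univ, smul_eq_mul,
      ← Nat.card_eq_fintype_card (α := {a : V // h a a = 1}),
      card_norm hσ (n + 1) H hV one_ne_zero (map_one σ), Finset.prod_range_succ _ n]
    ring

theorem card_fam_closed (n : ℕ) : ∏ i ∈ Finset.range n, unitNum q (i + 1) =
    q ^ (n * (n - 1) / 2) * ∏ i ∈ Finset.range n, (if Even i then q ^ (i + 1) + 1 else q ^ (i + 1) - 1) := by
  have hq := hσ.two_le
  have hu : ∀ i, unitNum q (i + 1) = q ^ i * (if Even i then q ^ (i + 1) + 1 else q ^ (i + 1) - 1) := by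
    intro i
    have h := (unitNum_int hq (i + 1)).2
    have hq0 : (q : ℤ) ≠ 0 := by exact_mod_cast (show q ≠ 0 by omega)
    have hz : (unitNum q (i + 1) : ℤ) = (q : ℤ) ^ i * ((q : ℤ) ^ (i + 1) - (-1) ^ (i + 1)) := by
      refine mul_left_cancel₀ hq0 (h.trans ?_)
      rw [show 2 * (i + 1) = i + 1 + (i + 1) by ring, pow_add, pow_succ (q : ℤ) i]
      ring
    have h1 : 1 ≤ q ^ (i + 1) := Nat.one_le_pow _ _ (by omega)
    split_ifs with he
    · rw [pow_succ (-1 : ℤ), he.neg_one_pow] at hz
      have : (unitNum q (i + 1) : ℤ) = ((q ^ i * (q ^ (i + 1) + 1) : ℕ) : ℤ) := by push_cast; linarith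
      exact_mod_cast this
    · rw [pow_succ (-1 : ℤ), (Nat.not_even_iff_odd.mp he).neg_one_pow] at hz
      have : (unitNum q (i + 1) : ℤ) = ((q ^ i * (q ^ (i + 1) - 1) : ℕ) : ℤ) := by
        push_cast [Nat.cast_sub h1]; linarith
      exact_mod_cast this
  rw [Finset.prod_congr rfl fun i _ => hu i, Finset.prod_mul_distrib, Finset.prod_pow_eq_pow_sum,
    Finset.sum_range_id]

/-- Unitary matrices are the orthonormal families of columns. -/
theorem card_GU (n : ℕ) : Nat.card (Cfsg.GU n F q) =
    q ^ (n * (n - 1) / 2) * ∏ i ∈ Finset.range n, (if Even i then q ^ (i + 1) + 1 else q ^ (i + 1) - 1) := by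
  classical
  have hf := hσ.isUnitaryForm (n := n)
  have H : IsHermND σ (Cfsg.hermForm n F q) :=
    ⟨hf.add_left, hf.smul_left, fun x y => (hf.herm y x).symm, fun v hv => by
      by_contra hne
      obtain ⟨⟨w, hw⟩, -⟩ := hf.nondegenerate v hne
      exact hw (by rw [hf.herm w v, hv w, map_zero])⟩
  rw [← card_fam_closed hσ, ← card_fam hσ n H (by rw [finrank_fintype_fun_eq_card, Fintype.card_fin])]
  refine Nat.card_congr (Equiv.ofBijective (fun g => ⟨fun i => g.1.1 *ᵥ Pi.single i 1, fun i j => ?_⟩) ⟨?_, ?_⟩)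
  · rw [mem_GU_iff.mp g.2, hσ.hermForm_single, one_mul, Pi.single_apply]
    split_ifs <;> simp
  · intro g g' e
    apply Subtype.ext
    apply Units.ext
    ext i j
    have := congrFun (congrFun (congrArg Subtype.val e) j) i
    simpa [Matrix.mulVec_single_one] using this
  · rintro ⟨f, hf'⟩
    obtain ⟨M, hM⟩ : ∃ M : Matrix (Fin n) (Fin n) F, M = Matrix.of fun i j => f j i := ⟨_, rfl⟩
    have hcol : ∀ u, M *ᵥ u = ∑ j, u j • f j := fun u => by
      funext i; simp [hM, Matrix.mulVec, dotProduct, mul_comm]
    have hpres : ∀ u v, Cfsg.hermForm n F q (M *ᵥ u) (M *ᵥ v) = Cfsg.hermForm n F q u v := by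
      intro u v
      rw [hcol, hcol, H.sum_left, hσ.hermForm_eq]
      refine Finset.sum_congr rfl fun i _ => ?_
      rw [H.smul_left, ← H.symm (∑ j, v j • f j), H.sum_left, map_sum,
        Finset.sum_eq_single i (fun j _ hj => by rw [H.smul_left, hf', if_neg hj, mul_zero, map_zero]) (by simp),
        H.smul_left, hf', if_pos rfl, mul_one]
    have hu : IsUnit M := by
      rw [← Matrix.mulVec_injective_iff_isUnit]
      intro u v huv
      have huv' : M *ᵥ (u - v) = 0 := by rw [Matrix.mulVec_sub]; exact sub_eq_zero.mpr huv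
      refine sub_eq_zero.mp (H.nondeg _ fun w => ?_)
      rw [← hpres, huv', H.zero_left]
    refine ⟨⟨hu.unit, mem_GU_iff.mpr hpres⟩, Subtype.ext (funext fun i => ?_)⟩
    show M *ᵥ Pi.single i 1 = f i
    rw [Matrix.mulVec_single_one]
    funext k
    simp [hM]

end Count

end Cfsg.Agent.Classical.UCount
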