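import Cfsg.Agent.Lib.Classical.OrthReflect
import Cfsg.Agent.Lib.Lead.FormsBasic

/-!
# The matrix group of a quadratic form on a coordinate space
-/

set_option autoImplicit false
set_option linter.unusedSectionVars false

namespace Cfsg.Agent.Classical.ORefl

open Module QuadraticMap OCount Matrix

variable {F : Type*} [Field F] {ι : Type} [Fintype ι] [DecidableEq ι] {Q : QuadraticForm F (ι → F)}

theorem pnd_of_nondeg (h : (QuadraticMap.polarBilin Q).Nondegenerate) : PND Q := fun v hv => h.1 v hv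

variable (Q) in
/-- `Iso Q` as a group of matrices. -/
noncomputable def toMat : ↥(Iso Q) ≃* ↥(Cfsg.isometryGroup F ⇑Q) where
  toFun g := ⟨⟨LinearMap.toMatrix' (g.1 : (ι → F) →ₗ[F] ι → F), LinearMap.toMatrix' (g.1.symm : (ι → F) →ₗ[F] ι → F),
      by rw [← LinearMap.toMatrix'_comp, g.1.comp_symm, LinearMap.toMatrix'_id],
      by rw [← LinearMap.toMatrix'_comp, g.1.symm_comp, LinearMap.toMatrix'_id]⟩,
    fun x _ => by
      change Q (LinearMap.toMatrix' (g.1 : (ι → F) →ₗ[F] ι → F) *ᵥ x) = Q x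
      rw [LinearMap.toMatrix'_mulVec]; exact g.2 x⟩
  invFun g := ⟨LinearEquiv.ofLinear (Matrix.toLin' g.1.1) (Matrix.toLin' g.1⁻¹.1)
      (by rw [← Matrix.toLin'_mul, ← Units.val_mul, mul_inv_cancel, Units.val_one, Matrix.toLin'_one])
      (by rw [← Matrix.toLin'_mul, ← Units.val_mul, inv_mul_cancel, Units.val_one, Matrix.toLin'_one]),
    fun x => g.2 x x⟩
  left_inv g := Subtype.ext (LinearEquiv.ext fun x => by
    change Matrix.toLin' (LinearMap.toMatrix' (g.1 : (ι → F) →ₗ[F] ι → F)) x = g.1 x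
    rw [Matrix.toLin'_toMatrix']; rfl)
  right_inv g := Subtype.ext (Units.ext (by
    change LinearMap.toMatrix' (Matrix.toLin' g.1.1) = g.1.1
    rw [LinearMap.toMatrix'_toLin']))
  map_mul' g h := Subtype.ext (Units.ext (by
    change LinearMap.toMatrix' ((g.1 : (ι → F) →ₗ[F] ι → F) ∘ₗ (h.1 : (ι → F) →ₗ[F] ι → F)) = _
    rw [LinearMap.toMatrix'_comp]; rfl))

theorem toMat_apply (g : ↥(Iso Q)) (x : ι → F) :
    ((toMat Q g).1 : Matrix ι ι F) *ᵥ x = g.1 x :=
  LinearMap.toMatrix'_mulVec _ x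

theorem toMat_eq {g : ↥(Iso Q)} {M : Matrix ι ι F} (h : ∀ x, g.1 x = M *ᵥ x) :
    ((toMat Q g).1 : Matrix ι ι F) = M :=
  Matrix.ext_of_mulVec_single fun i => by rw [toMat_apply, h]

theorem polarVec_dot (Q : QuadraticForm F (ι → F)) (v x : ι → F) :
    Cfsg.polarVec ⇑Q v ⬝ᵥ x = QuadraticMap.polar ⇑Q v x := by
  conv_rhs => rw [show x = ∑ j, x j • (Pi.single j 1 : ι → F) from pi_eq_sum_univ' x]
  rw [← QuadraticMap.polarBilin_apply_apply, map_sum]
  simp [dotProduct, Cfsg.polarVec, mul_comm]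

theorem toMat_refl (v : ι → F) :
    ((toMat Q ⟨refl Q v, refl_mem v⟩).1 : Matrix ι ι F) = Cfsg.reflectionMatrix ⇑Q v :=
  toMat_eq fun x => by
    rw [Cfsg.reflectionMatrix, Matrix.sub_mulVec, Matrix.one_mulVec, Matrix.smul_mulVec,
      Matrix.vecMulVec_mulVec, polarVec_dot, refl_apply]
    simp [smul_smul]

/-- A matrix isometry equal to a reflection matrix is the image of the reflection. -/
theorem eq_toMat_refl {g : ↥(Cfsg.isometryGroup F ⇑Q)} {v : ι → F}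
    (h : (g.1 : Matrix ι ι F) = Cfsg.reflectionMatrix ⇑Q v) : g = toMat Q ⟨refl Q v, refl_mem v⟩ :=
  Subtype.ext (Units.ext (h.trans (toMat_refl v).symm))

theorem smul_orth {u v : ι → F} (h : polar Q u v = 0) (c : F) : polar Q u (c • v) = 0 := by
  rw [polar_smul_right, h, smul_zero]

theorem toMat_siegel {u v : ι → F} (hu : Q u = 0) (hv : Q v = 0) (huv : polar Q u v = 0) (c : F) :
    ((toMat Q ⟨siegel hu (smul_orth huv c), siegel_mem hu (smul_orth huv c)⟩).1 : Matrix ι ι F) =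
      Cfsg.siegelMatrix ⇑Q u v c :=
  toMat_eq fun x => by
    change siegel hu (smul_orth huv c) x = _
    rw [siegel_apply, QuadraticMap.map_smul, hv, polar_smul_left, Cfsg.siegelMatrix, Matrix.add_mulVec,
      Matrix.one_mulVec, Matrix.smul_mulVec, Matrix.sub_mulVec, Matrix.vecMulVec_mulVec, Matrix.vecMulVec_mulVec,
      polarVec_dot, polarVec_dot]
    simp [smul_sub, smul_smul]
    module

theorem card_field_ne_two (h2 : (2 : F) ≠ 0) : Nat.card F ≠ 2 := fun h => by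
  haveI : Finite F := Nat.finite_of_card_ne_zero (by omega)
  haveI := Fintype.ofFinite F
  rw [Nat.card_eq_fintype_card] at h
  have := FiniteField.cast_card_eq_zero F
  rw [h] at this
  exact h2 (by exact_mod_cast this)

/-- The reflection matrices generate. -/
theorem closure_refl (hQ : PND Q) (h : Nat.card F ≠ 2 ∨ Fintype.card ι ≠ 4) :
    Subgroup.closure {g : ↥(Cfsg.isometryGroup F ⇑Q) | ∃ v : ι → F, Q v ≠ 0 ∧
      (g.1 : Matrix ι ι F) = Cfsg.reflectionMatrix ⇑Q v} = ⊤ := by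
  refine eq_top_iff.mpr fun g _ => ?_
  obtain ⟨⟨x, hx⟩, rfl⟩ := (toMat Q).surjective g
  have hx' : x ∈ reflGroup Q := (iso_eq_reflGroup hQ (h.imp_right fun hn => by
    rwa [Module.finrank_fintype_fun_eq_card])).symm ▸ hx
  suffices H : ∀ y ∈ reflGroup Q, ∃ hy : y ∈ Iso Q, toMat Q ⟨y, hy⟩ ∈
      Subgroup.closure {g : ↥(Cfsg.isometryGroup F ⇑Q) | ∃ v : ι → F, Q v ≠ 0 ∧
        (g.1 : Matrix ι ι F) = Cfsg.reflectionMatrix ⇑Q v} from (H x hx').2
  intro y hy
  refine Subgroup.closure_induction ?_ ⟨one_mem _, ?_⟩ ?_ ?_ hy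
  · rintro _ ⟨v, hv, rfl⟩
    exact ⟨refl_mem v, Subgroup.subset_closure ⟨v, hv, toMat_refl v⟩⟩
  · rw [show (⟨1, one_mem _⟩ : ↥(Iso Q)) = 1 from rfl, map_one]; exact one_mem _
  · rintro a b _ _ ⟨ha, ha'⟩ ⟨hb, hb'⟩
    exact ⟨mul_mem ha hb, by
      rw [show (⟨a * b, mul_mem ha hb⟩ : ↥(Iso Q)) = ⟨a, ha⟩ * ⟨b, hb⟩ from rfl, map_mul]; exact mul_mem ha' hb'⟩
  · rintro a _ ⟨ha, ha'⟩
    exact ⟨inv_mem ha, by
      rw [show (⟨a⁻¹, inv_mem ha⟩ : ↥(Iso Q)) = ⟨a, ha⟩⁻¹ from rfl, map_inv]; exact inv_mem ha'⟩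

end Cfsg.Agent.Classical.ORefl
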