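import Cfsg.Agent.Lib.Classical.OrthOmegaTwo
import Cfsg.Agent.Lib.Classical.OrthMatrix

/-!
# Index statements for orthogonal matrix groups
-/

set_option autoImplicit false
set_option linter.unusedSectionVars false

namespace Cfsg.Agent.Classical.OOmega

open Module QuadraticMap OCount ORefl Matrix

theorem map_commutator_equiv {G H : Type*} [Group G] [Group H] (e : G ≃* H) :
    (commutator G).map e.toMonoidHom = commutator H := by
  rw [commutator_def, commutator_def, Subgroup.map_commutator,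
    Subgroup.map_top_of_surjective _ e.surjective]

/-- A subgroup of index two contains the derived group. -/
theorem commutator_le_of_index_two {G : Type*} [Group G] {H : Subgroup G} (hH : H.index = 2) :
    commutator G ≤ H := by
  rw [commutator_def, Subgroup.commutator_le]
  intro x _ y _
  rw [commutatorElement_def]
  have h := fun a b : G => Subgroup.mul_mem_iff_of_index_two hH (a := a) (b := b)
  simp only [h, inv_mem_iff]
  tauto

theorem card_index_two_klein : Nat.card {H : Subgroup (ℤˣ × ℤˣ) // H.index = 2} = 3 := by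
  have hz : ∀ x : ℤˣ × ℤˣ, x ≠ 1 → orderOf x = 2 := fun x hx =>
    orderOf_eq_prime (by revert x; decide) hx
  have hidx : ∀ x : ℤˣ × ℤˣ, x ≠ 1 → (Subgroup.zpowers x).index = 2 := by
    intro x hx
    have h := (Subgroup.zpowers x).card_mul_index
    rw [Nat.card_zpowers, hz x hx, show Nat.card (ℤˣ × ℤˣ) = 4 by simp [Nat.card_prod]] at h
    omega
  let f : {x : ℤˣ × ℤˣ // x ≠ 1} → {H : Subgroup (ℤˣ × ℤˣ) // H.index = 2} :=
    fun x => ⟨Subgroup.zpowers x.1, hidx x.1 x.2⟩
  have hf : Function.Bijective f := by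
    constructor
    · intro x y e
      have hy : y.1 ∈ Subgroup.zpowers x.1 := by
        rw [show Subgroup.zpowers x.1 = Subgroup.zpowers y.1 from congrArg Subtype.val e]
        exact Subgroup.mem_zpowers _
      obtain ⟨k, hk⟩ := Subgroup.mem_zpowers_iff.mp hy
      rw [← zpow_mod_orderOf, hz x.1 x.2] at hk
      rcases Int.emod_two_eq k with h | h <;> rw [show ((2 : ℕ) : ℤ) = 2 from rfl, h] at hk
      · exact absurd (by simpa using hk.symm) y.2
      · exact Subtype.ext (by simpa using hk)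
    · intro H
      have hc := H.1.card_mul_index
      rw [H.2, show Nat.card (ℤˣ × ℤˣ) = 4 by simp [Nat.card_prod]] at hc
      obtain ⟨x, hx, hx1⟩ : ∃ x ∈ H.1, x ≠ 1 :=
        H.1.ne_bot_iff_exists_ne_one.mp (fun e => by rw [e, Subgroup.card_bot] at hc; omega) |>.elim
          fun x hx => ⟨x.1, x.2, fun e => hx (Subtype.ext e)⟩
      refine ⟨⟨x, hx1⟩, Subtype.ext (Subgroup.eq_of_le_of_card_ge (Subgroup.zpowers_le.mpr hx) ?_)⟩
      rw [Nat.card_zpowers, hz x hx1]; omega
  rw [← Nat.card_congr (Equiv.ofBijective f hf), Nat.card_eq_fintype_card]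
  decide

variable {F : Type*} [Field F] {ι : Type} [Fintype ι] [DecidableEq ι] {Q : QuadraticForm F (ι → F)}

theorem omega_eq_map : Cfsg.Omega F ⇑Q = (commutator ↥(Iso Q)).map (toMat Q).toMonoidHom :=
  (map_commutator_equiv (toMat Q)).symm

theorem index_omega_odd [Finite F] (h2 : (2 : F) ≠ 0) (hQ : PND Q) (hn : 2 ≤ Fintype.card ι) :
    (Cfsg.Omega F ⇑Q).index = 4 := by
  rw [omega_eq_map, MulEquiv.toMonoidHom_eq_coe, Subgroup.index_map_equiv,
    index_commutator h2 hQ (by rwa [Module.finrank_fintype_fun_eq_card])]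

theorem index_omega_two [CharP F 2] [Finite F] (hQ : PND Q) (hn : 1 ≤ Fintype.card ι)
    (h : Nat.card F ≠ 2 ∨ Fintype.card ι ≠ 4) : (Cfsg.Omega F ⇑Q).index = 2 := by
  rw [omega_eq_map, MulEquiv.toMonoidHom_eq_coe, Subgroup.index_map_equiv,
    index_two hQ (by rwa [Module.finrank_fintype_fun_eq_card]) (by rwa [Module.finrank_fintype_fun_eq_card])]

/-- The three subgroups of index two. -/
theorem card_index_two [Finite F] (h2 : (2 : F) ≠ 0) (hQ : PND Q) (hn : 2 ≤ Fintype.card ι) :
    Nat.card {H : Subgroup ↥(Cfsg.isometryGroup F ⇑Q) // H.index = 2} = 3 := by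
  rw [← card_index_two_klein]
  have hn' : 2 ≤ finrank F (ι → F) := by rwa [Module.finrank_fintype_fun_eq_card]
  obtain ⟨f, hf, hker⟩ : ∃ f : ↥(Cfsg.isometryGroup F ⇑Q) →* ℤˣ × ℤˣ, Function.Surjective f ∧
      ∀ H : Subgroup ↥(Cfsg.isometryGroup F ⇑Q), H.index = 2 → f.ker ≤ H := by
    refine ⟨(both Q h2 hQ).comp (toMat Q).symm.toMonoidHom,
      (both_surjective h2 hQ hn').comp (toMat Q).symm.surjective, fun H hH g hg => ?_⟩
    refine commutator_le_of_index_two hH ?_
    rw [← map_commutator_equiv (toMat Q)]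
    refine ⟨(toMat Q).symm g, ?_, (toMat Q).apply_symm_apply g⟩
    rw [commutator_eq h2 hQ hn']
    exact hg
  refine Nat.card_congr
    { toFun := fun H => ⟨H.1.map f, by
        rw [← Subgroup.index_comap_of_surjective (H := H.1.map f) hf,
          Subgroup.comap_map_eq_self (hker _ H.2)]; exact H.2⟩
      invFun := fun K => ⟨K.1.comap f, (Subgroup.index_comap_of_surjective (H := K.1) hf).trans K.2⟩
      left_inv := fun H => Subtype.ext (Subgroup.comap_map_eq_self (hker _ H.2))
      right_inv := fun K => Subtype.ext (Subgroup.map_comap_eq_self_of_surjective hf _) }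

theorem exists_nonsing' (hQ : PND Q) (hn : 1 ≤ Fintype.card ι) : ∃ v, Q v ≠ 0 := by
  by_contra hc
  push Not at hc
  haveI : Nonempty ι := Fintype.card_pos_iff.mp (by omega)
  obtain ⟨v, hv⟩ := exists_ne (0 : ι → F)
  exact hv (hQ v fun w => by rw [polar, hc, hc, hc]; ring)

/-- The determinant of an isometry is `±1`. -/
theorem mat_det (hQ : PND Q) (g : ↥(Cfsg.isometryGroup F ⇑Q)) :
    (g.1 : Matrix ι ι F).det = 1 ∨ (g.1 : Matrix ι ι F).det = -1 := by
  obtain ⟨B, hB⟩ : ∃ B, B = LinearMap.toMatrix₂' F (QuadraticMap.polarBilin Q) := ⟨_, rfl⟩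
  have hB0 : B.det ≠ 0 := by
    rw [← Matrix.nondegenerate_iff_det_ne_zero, hB, LinearMap.nondegenerate_toMatrix₂'_iff]
    exact nondeg hQ
  have hcomp : (g.1 : Matrix ι ι F)ᵀ * B * (g.1 : Matrix ι ι F) = B := by
    rw [hB, LinearMap.mul_toMatrix₂'_mul]
    congr 1
    refine LinearMap.ext₂ fun x y => ?_
    simp only [Matrix.transpose_transpose, LinearMap.compl₁₂_apply, Matrix.toLin'_apply,
      QuadraticMap.polarBilin_apply_apply, QuadraticMap.polar, ← Matrix.mulVec_add]
    have e : ∀ z, Q (g.1.1 *ᵥ z) = Q z := fun z => g.2 z z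
    rw [e, e, e]
  have := congrArg Matrix.det hcomp
  rw [Matrix.det_mul, Matrix.det_mul, Matrix.det_transpose] at this
  rcases mul_eq_zero.mp (show ((g.1 : Matrix ι ι F).det - 1) * ((g.1 : Matrix ι ι F).det + 1) = 0 from
    (mul_eq_zero.mp (show B.det * (((g.1 : Matrix ι ι F).det - 1) * ((g.1 : Matrix ι ι F).det + 1)) = 0 by
      linear_combination this)).resolve_left hB0) with h | h
  · exact Or.inl (sub_eq_zero.mp h)
  · exact Or.inr (eq_neg_of_add_eq_zero_left h)

/-- The unique subgroup of index two of the special isometry group. -/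
theorem special_unique [Finite F] (hQ : PND Q) (hn : 2 ≤ Fintype.card ι)
    (h : Nat.card F ≠ 2 ∨ Fintype.card ι ≠ 4) :
    ∃! H : Subgroup ↥(Cfsg.specialIsometryGroup F ⇑Q), H.index = 2 := by
  obtain ⟨O, hO⟩ : ∃ O, O = Cfsg.Omega F ⇑Q := ⟨_, rfl⟩
  obtain ⟨S, hS⟩ : ∃ S, S = Cfsg.specialIsometryGroup F ⇑Q := ⟨_, rfl⟩
  rw [← hS]
  haveI hSn : S.Normal := hS ▸ MonoidHom.normal_ker _
  have hmem : ∀ g, g ∈ S ↔ (g.1 : Matrix ι ι F).det = 1 := fun g => hS ▸
    ⟨fun h => congrArg Units.val (MonoidHom.mem_ker.mp h), fun h => MonoidHom.mem_ker.mpr (Units.ext h)⟩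
  have hOS : O ≤ S := by
    rw [hS, hO]
    exact Abelianization.commutator_subset_ker _
  have hdet : ∀ v, Q v ≠ 0 → ((toMat Q (rf Q v)).1 : Matrix ι ι F).det = -1 := fun v hv => by
    have := det_refl hv
    change LinearMap.det ((rf Q v).1 : (ι → F) →ₗ[F] ι → F) = -1 at this
    rwa [← LinearMap.det_toMatrix'] at this
  have hidx : O.index = 2 * S.index := by
    obtain ⟨v, hv⟩ := exists_nonsing' hQ (by omega)
    by_cases h2 : (2 : F) = 0
    · haveI : CharP F 2 := CharTwo.of_one_ne_zero_of_two_eq_zero one_ne_zero h2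
      have : S = ⊤ := eq_top_iff.mpr fun g _ => (hmem g).mpr (by
        rcases mat_det hQ g with e | e <;> rw [e]; exact CharTwo.neg_eq 1)
      rw [this, Subgroup.index_top, hO, index_omega_two hQ (by omega) h]
    · have hne : (-1 : F) ≠ 1 := fun e => h2 (by linear_combination -e)
      have hS2 : S.index = 2 := by
        rw [Subgroup.index_eq_two_iff]
        refine ⟨toMat Q (rf Q v), fun g => ?_⟩
        rw [xor_iff_iff_not, hmem, hmem, Subgroup.coe_mul, Units.val_mul, Matrix.det_mul, hdet v hv]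
        rcases mat_det hQ g with e | e <;> rw [e] <;> simp [hne]
      rw [hS2, hO, index_omega_odd h2 hQ hn]
  haveI : Finite ↥(Cfsg.isometryGroup F ⇑Q) := inferInstance
  have hSne : S.index ≠ 0 := Subgroup.index_ne_zero_of_finite
  have hrel : (O.subgroupOf S).index = 2 := by
    have h1 := Subgroup.relIndex_mul_index hOS
    rw [hidx] at h1
    exact Nat.eq_of_mul_eq_mul_right (Nat.pos_of_ne_zero hSne) h1
  refine ⟨O.subgroupOf S, hrel, fun H hH => ?_⟩
  obtain ⟨K, hK⟩ : ∃ K : Subgroup ↥(Cfsg.isometryGroup F ⇑Q),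
      K = Subgroup.closure {g | ∃ x ∈ S, g = x * x} := ⟨_, rfl⟩
  haveI : K.Normal := by
    rw [hK]
    refine ⟨fun n hn g => ?_⟩
    induction hn using Subgroup.closure_induction with
    | mem y hy =>
      obtain ⟨x, hx, rfl⟩ := hy
      exact Subgroup.subset_closure ⟨g * x * g⁻¹, hSn.conj_mem x hx g, by group⟩
    | one => rw [mul_one, mul_inv_cancel]; exact one_mem _
    | mul a b _ _ iha ihb => convert mul_mem iha ihb using 1; group
    | inv a _ iha => convert inv_mem iha using 1; group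
  have hgen := closure_refl hQ h
  have hOK : O ≤ K := by
    rw [hO]
    obtain ⟨π, hπ⟩ : ∃ π, π = QuotientGroup.mk' K := ⟨_, rfl⟩
    have hcomm : ∀ a b, π a * π b = π b * π a := by
      have h1 : ∀ a ∈ {g : ↥(Cfsg.isometryGroup F ⇑Q) | ∃ v : ι → F, Q v ≠ 0 ∧
          (g.1 : Matrix ι ι F) = Cfsg.reflectionMatrix ⇑Q v},
        ∀ b ∈ {g : ↥(Cfsg.isometryGroup F ⇑Q) | ∃ v : ι → F, Q v ≠ 0 ∧
          (g.1 : Matrix ι ι F) = Cfsg.reflectionMatrix ⇑Q v}, π a * π b = π b * π a := by
        rintro a ⟨u, hu, ha⟩ b ⟨v, hv, hb⟩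
        have ea : a = toMat Q (rf Q u) := eq_toMat_refl ha
        have eb : b = toMat Q (rf Q v) := eq_toMat_refl hb
        have hab : a * b ∈ S := by
          rw [hmem, Subgroup.coe_mul, Units.val_mul, Matrix.det_mul, ea, eb, hdet u hu, hdet v hv, neg_mul_neg, one_mul]
        have hk : π (a * b * (a * b)) = 1 := by
          rw [hπ, QuotientGroup.mk'_apply, QuotientGroup.eq_one_iff, hK]
          exact Subgroup.subset_closure ⟨_, hab, rfl⟩
        have ha2 : π a * π a = 1 := by rw [← map_mul, ea, ← map_mul, rf_mul_self, map_one, map_one]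
        have hb2 : π b * π b = 1 := by rw [← map_mul, eb, ← map_mul, rf_mul_self, map_one, map_one]
        rw [map_mul, map_mul] at hk
        have h' := eq_inv_of_mul_eq_one_left hk
        rw [_root_.mul_inv_rev, inv_eq_of_mul_eq_one_left ha2, inv_eq_of_mul_eq_one_left hb2] at h'
        exact h'
      intro a b
      have hc := fun (T : Set ↥(Cfsg.isometryGroup F ⇑Q)) (y : ↥(Cfsg.isometryGroup F ⇑Q))
          (hT : ∀ z ∈ T, π y * π z = π z * π y) => (Subgroup.closure_le
        ((Subgroup.centralizer {π y}).comap π)).mpr fun z hz => Subgroup.mem_comap.mpr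
          (Subgroup.mem_centralizer_singleton_iff.mpr (hT z hz).symm)
      have h3 : ∀ y z : ↥(Cfsg.isometryGroup F ⇑Q), (∀ x ∈ {g : ↥(Cfsg.isometryGroup F ⇑Q) | ∃ v : ι → F, Q v ≠ 0 ∧
          (g.1 : Matrix ι ι F) = Cfsg.reflectionMatrix ⇑Q v}, π y * π x = π x * π y) → π y * π z = π z * π y := by
        intro y z hy
        have := Subgroup.mem_comap.mp (hc _ y hy (hgen.symm ▸ Subgroup.mem_top z))
        exact (Subgroup.mem_centralizer_singleton_iff.mp this).symm
      exact h3 a b fun x hx => (h3 x a (h1 x hx)).symm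
    show commutator _ ≤ K
    rw [commutator_def, Subgroup.commutator_le]
    intro a _ b _
    rw [← QuotientGroup.eq_one_iff, ← QuotientGroup.mk'_apply, ← hπ, map_commutatorElement]
    exact commutatorElement_eq_one_iff_mul_comm.mpr (hcomm a b)
  have hKH : K ≤ H.map S.subtype := by
    rw [hK, Subgroup.closure_le]
    rintro _ ⟨x, hx, rfl⟩
    exact ⟨⟨x, hx⟩ * ⟨x, hx⟩, Subgroup.mul_self_mem_of_index_two hH _, rfl⟩
  have hle : O.subgroupOf S ≤ H := fun x hx => by
    obtain ⟨y, hy, e⟩ := hKH (hOK hx)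
    rwa [← Subtype.ext (p := fun z => z ∈ S) e]
  refine (Subgroup.eq_of_le_of_card_ge hle ?_).symm
  have h1 := (O.subgroupOf S).card_mul_index
  have h2' := H.card_mul_index
  rw [hrel] at h1
  rw [hH] at h2'
  omega

end Cfsg.Agent.Classical.OOmega
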