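import Cfsg.Agent.Lib.Classical.OrthCenter

/-!
# The derived group is generated by Siegel transformations
-/

set_option autoImplicit false
set_option linter.unusedSectionVars false

namespace Cfsg.Agent.Classical.OOmega

open Module QuadraticMap OCount ORefl

variable {F : Type*} [Field F] {V : Type*} [AddCommGroup V] [Module F V] [FiniteDimensional F V]
  {Q : QuadraticForm F V}

variable (Q) in
/-- The subgroup generated by the Siegel transformations of singular orthogonal pairs. -/
def rootGroup : Subgroup ↥(Iso Q) :=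
  Subgroup.closure {g | ∃ (e v : V) (he : Q e = 0) (hv : polar Q e v = 0), Q v = 0 ∧ g.1 = siegel he hv}

theorem siegel_mem_root {e v : V} (he : Q e = 0) (hv : polar Q e v = 0) (h : Q v = 0) :
    (⟨siegel he hv, siegel_mem he hv⟩ : ↥(Iso Q)) ∈ rootGroup Q :=
  Subgroup.subset_closure ⟨e, v, he, hv, h, rfl⟩

instance rootGroup_normal : (rootGroup Q).Normal := by
  refine ⟨fun n hn g => ?_⟩
  induction hn using Subgroup.closure_induction with
  | mem y hy =>
    obtain ⟨e, v, he, hv, h, hy⟩ := hy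
    refine Subgroup.subset_closure ⟨g.1 e, g.1 v, (g.2 e).trans he, (polar_iso g.2 e v).trans hv,
      (g.2 v).trans h, ?_⟩
    change g.1 * y.1 * g.1⁻¹ = _
    rw [hy, conj_siegel g.2]
  | one => rw [mul_one, mul_inv_cancel]; exact one_mem _
  | mul a b _ _ iha ihb => convert mul_mem iha ihb using 1; group
  | inv a _ iha => convert inv_mem iha using 1; group

/-- A hyperbolic pair through a singular vector. -/
theorem exists_pair (hQ : PND Q) {e : V} (he0 : e ≠ 0) (he : Q e = 0) : ∃ f, IsHPair Q (e, f) := by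
  obtain ⟨f, -, hfe⟩ := exists_polar_sep hQ (H := (⊥ : Submodule F V)) (x := e) (by rwa [Submodule.mem_bot]) 1
  refine ⟨f - Q f • e, he, ?_, ?_⟩
  · rw [map_sub_two, QuadraticMap.map_smul, he, polar_smul_right, hfe]; simp
  · rw [polar_sub_right, polar_comm Q e f, hfe, polar_smul_right, polar_self_zero he, smul_zero, sub_zero]

/-- With one hyperbolic pair the singular vectors span. -/
theorem singular_induction {p : V × V} (hp : IsHPair Q p) {motive : V → Prop}
    (add : ∀ u v, motive u → motive v → motive (u + v)) (sing : ∀ v, Q v = 0 → motive v) (x : V) : motive x := by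
  obtain ⟨hQu, hQz, huz⟩ := hp
  obtain ⟨r, hr⟩ : ∃ r, r = x - polar Q p.2 x • p.1 - polar Q p.1 x • p.2 := ⟨_, rfl⟩
  have h := mem_comp.mp (hr ▸ exists_split (p := p) ⟨hQu, hQz, huz⟩ x : r ∈ comp Q p)
  have hw : Q (r + p.1 - Q r • p.2) = 0 := by
    rw [map_sub_two, map_two, QuadraticMap.map_smul, hQu, hQz, polar_smul_right, polar_add_left,
      polar_comm Q r p.1, h.1, polar_comm Q r p.2, h.2, huz]
    simp
  have e : x = (r + p.1 - Q r • p.2) + (polar Q p.2 x - 1) • p.1 + (polar Q p.1 x + Q r) • p.2 := by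
    rw [hr]; module
  rw [e]
  refine add _ _ (add _ _ (sing _ hw) (sing _ ?_)) (sing _ ?_)
  · rw [QuadraticMap.map_smul, hQu, smul_zero]
  · rw [QuadraticMap.map_smul, hQz, smul_zero]

/-- A hyperbolic pair represents everything. -/
theorem exists_value_of_pair {p : V × V} (hp : IsHPair Q p) (c : F) : ∃ v, Q v = c :=
  ⟨c • p.1 + p.2, by rw [map_two, QuadraticMap.map_smul, hp.1, hp.2.1, polar_smul_left, hp.2.2]; simp⟩

variable [Finite F]

/-- Dimension three is isotropic. -/
theorem exists_singular (h2 : (2 : F) ≠ 0) (hQ : PND Q) (hn : 3 ≤ finrank F V) : ∃ x, x ≠ 0 ∧ Q x = 0 := by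
  obtain ⟨v, hv⟩ := exists_nonsing h2 hQ (by omega)
  obtain ⟨v', hvv', hv'⟩ := exists_perp h2 hQ (by omega) hv
  obtain ⟨K, hK⟩ : ∃ K : Submodule F V, K = LinearMap.ker (Q.polarBilin v) ⊓ LinearMap.ker (Q.polarBilin v') :=
    ⟨_, rfl⟩
  have hdim : ∀ w : V, finrank F V ≤ finrank F (LinearMap.ker (Q.polarBilin w)) + 1 := fun w => by
    rw [← LinearMap.finrank_range_add_finrank_ker (Q.polarBilin w)]
    have : finrank F (LinearMap.range (Q.polarBilin w)) ≤ 1 :=
      (Submodule.finrank_le _).trans_eq (finrank_self F)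
    omega
  have hsum := Submodule.finrank_sup_add_finrank_inf_eq (LinearMap.ker (Q.polarBilin v))
    (LinearMap.ker (Q.polarBilin v'))
  have h3 := Submodule.finrank_le (LinearMap.ker (Q.polarBilin v) ⊔ LinearMap.ker (Q.polarBilin v'))
  have h1 := hdim v
  have h4 := hdim v'
  rw [← hK] at hsum
  obtain ⟨x, hxK, hx⟩ := Submodule.exists_mem_ne_zero_of_ne_bot (p := K) fun e => by
    rw [e, finrank_bot] at hsum; omega
  simp only [hK, Submodule.mem_inf, LinearMap.mem_ker, polarBilin_apply_apply] at hxK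
  by_cases hQx : Q x = 0
  · exact ⟨x, hx, hQx⟩
  obtain ⟨a, b, hab⟩ := exists_rep h2 hv hv' (-Q x)
  refine ⟨a • v + b • v' + x, fun e => ?_, ?_⟩
  · have := congrArg (polar Q x) e
    rw [polar_add_right, polar_add_right, polar_smul_right, polar_smul_right, polar_comm Q x v, hxK.1,
      polar_comm Q x v', hxK.2, polar_self_two, smul_zero, smul_zero, zero_add, zero_add, polar_zero_right] at this
    exact mul_ne_zero h2 hQx this
  · rw [map_two, map_two, QuadraticMap.map_smul, QuadraticMap.map_smul, polar_smul_left, polar_smul_right, hvv',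
      polar_add_left, polar_smul_left, polar_smul_left, hxK.1, hxK.2]
    simp only [smul_eq_mul]
    linear_combination hab

/-- The root group is transitive on the vectors of a given non-zero value. -/
theorem exists_root_move (hQ : PND Q) {p : V × V} (hp : IsHPair Q p)
    (hpR : ∃ q : comp Q p × comp Q p, IsHPair (res Q p) q)
    {x : V} {c : F} (hc : c ≠ 0) (hx : Q x = c) : ∃ s ∈ rootGroup Q, s.1 x = c • p.1 + p.2 := by
  obtain ⟨e, f⟩ := p
  obtain ⟨he, hf, hef⟩ := hp
  have hfe : polar Q f e = 1 := by rw [polar_comm]; exact hef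
  have hRQ := res_pnd (p := (e, f)) hQ ⟨he, hf, hef⟩
  obtain ⟨⟨u₀, z₀⟩, hp₀⟩ := hpR
  -- the elations with axis through `e` and `f`
  have hel : ∀ d : V, Q d = 0 → (∀ v : comp Q (e, f), polar Q d (v : V) = 0) → ∀ v : comp Q (e, f),
      ∃ s ∈ rootGroup Q, ∀ y, s.1 y = siegelMap Q d (v : V) y := by
    intro d hd hdv v
    refine singular_induction hp₀ (motive := fun v : comp Q (e, f) =>
      ∃ s ∈ rootGroup Q, ∀ y, s.1 y = siegelMap Q d (v : V) y) ?_ ?_ v
    · rintro a b ⟨s, hs, hs'⟩ ⟨t, ht, ht'⟩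
      refine ⟨s * t, mul_mem hs ht, fun y => ?_⟩
      change s.1 (t.1 y) = _
      rw [ht', hs', siegelMap_add hd (hdv a) (hdv b), Submodule.coe_add]
    · intro a ha
      exact ⟨_, siegel_mem_root hd (hdv a) ha, fun y => rfl⟩
  have hmem : ∀ v : comp Q (e, f), polar Q e (v : V) = 0 ∧ polar Q f (v : V) = 0 := fun v => mem_comp.mp v.2
  have hee := polar_self_zero he
  have hff := polar_self_zero hf
  -- clearing the middle part
  have clear : ∀ (a b : F) (r : comp Q (e, f)), b ≠ 0 → Q (a • e + b • f + (r : V)) = c →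
      ∃ s ∈ rootGroup Q, s.1 (a • e + b • f + (r : V)) = (c / b) • e + b • f := by
    intro a b r hb hval
    obtain ⟨hr1, hr2⟩ := hmem r
    obtain ⟨s, hs, hs'⟩ := hel e he (fun v => (hmem v).1) (-b⁻¹ • r)
    refine ⟨s, hs, ?_⟩
    have hcc : c = a * b + Q (r : V) := by
      rw [← hval, map_two, map_two, QuadraticMap.map_smul, QuadraticMap.map_smul, he, hf, polar_smul_left,
        polar_smul_right, hef, polar_add_left, polar_smul_left, polar_smul_left, hr1, hr2]
      simp
    rw [hs', siegelMap_apply, Submodule.coe_smul, QuadraticMap.map_smul, polar_smul_left]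
    simp only [polar_add_right, polar_smul_right, hee, hef, hr1, polar_comm Q (r : V) e, polar_comm Q (r : V) f,
      hr2, polar_self_two, smul_eq_mul]
    rw [hcc]
    match_scalars
    · field_simp; ring
    · ring
    · field_simp; ring
  have start : ∀ (a b : F) (r : comp Q (e, f)), Q (a • e + b • f + (r : V)) = c →
      ∃ s ∈ rootGroup Q, ∃ a' b' : F, b' ≠ 0 ∧ ∃ r' : comp Q (e, f),
        s.1 (a • e + b • f + (r : V)) = a' • e + b' • f + (r' : V) := by
    intro a b r hval
    by_cases hb : b ≠ 0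
    · exact ⟨1, one_mem _, a, b, hb, r, rfl⟩
    push Not at hb
    subst hb
    obtain ⟨hr1, hr2⟩ := hmem r
    obtain ⟨v, hv, hvr⟩ : ∃ v : comp Q (e, f), Q (v : V) = 0 ∧ polar Q (v : V) r ≠ 0 := by
      by_contra hcon
      push Not at hcon
      have hr0 : r = 0 := hRQ r fun w => singular_induction hp₀ (motive := fun w => polar (res Q (e, f)) r w = 0)
        (fun u v hu hv => by rw [polar_add_right, hu, hv, add_zero])
        (fun v hv => by rw [res_polar, polar_comm]; exact hcon v hv) w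
      rw [hr0, zero_smul, add_zero, Submodule.coe_zero, add_zero, QuadraticMap.map_smul, he, smul_zero] at hval
      exact hc hval.symm
    obtain ⟨s, hs, hs'⟩ := hel f hf (fun v => (hmem v).2) v
    refine ⟨s, hs, a, -polar Q (v : V) r, neg_ne_zero.mpr hvr, r + a • v, ?_⟩
    rw [hs', siegelMap_apply, hv]
    simp only [polar_add_right, polar_smul_right, hfe, hff, hr2, polar_comm Q (v : V) e, (hmem v).1,
      polar_comm Q (v : V) f, (hmem v).2, smul_eq_mul, Submodule.coe_add, Submodule.coe_smul]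
    module
  obtain ⟨r₀, hr₀⟩ : ∃ r : comp Q (e, f), x = polar Q f x • e + polar Q e x • f + (r : V) :=
    ⟨⟨_, exists_split (p := (e, f)) ⟨he, hf, hef⟩ x⟩, by
      change x = _ + (x - polar Q f x • e - polar Q e x • f); abel⟩
  rw [hr₀] at hx ⊢
  obtain ⟨s₁, hs₁, a', b, hb, r', e₁⟩ := start _ _ r₀ hx
  have hx' : Q (a' • e + b • f + (r' : V)) = c := by rw [← e₁, s₁.2, hx]
  obtain ⟨s₂, hs₂, e₂⟩ := clear a' b r' hb hx'
  have hcb : c / b ≠ 0 := div_ne_zero hc hb
  obtain ⟨v, hv⟩ : ∃ v, res Q (e, f) v = (b - 1) / (c / b) := exists_value_of_pair hp₀ _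
  obtain ⟨s₃, hs₃, e₃⟩ := hel f hf (fun v => (hmem v).2) v
  have e₃' : s₃.1 ((c / b) • e + b • f) = (c / b) • e + (1 : F) • f + (((c / b) • v : comp Q (e, f)) : V) := by
    rw [e₃, siegelMap_apply, show Q (v : V) = (b - 1) / (c / b) from hv]
    simp only [polar_add_right, polar_smul_right, hfe, hff, polar_comm Q (v : V) e, (hmem v).1,
      polar_comm Q (v : V) f, (hmem v).2, smul_eq_mul, Submodule.coe_smul]
    match_scalars
    · ring
    · field_simp; ring
    · ring
  have hx'' : Q ((c / b) • e + (1 : F) • f + (((c / b) • v : comp Q (e, f)) : V)) = c := by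
    rw [← e₃', s₃.2, ← e₂, s₂.2, hx']
  obtain ⟨s₄, hs₄, e₄⟩ := clear _ 1 _ one_ne_zero hx''
  refine ⟨s₄ * (s₃ * (s₂ * s₁)), mul_mem hs₄ (mul_mem hs₃ (mul_mem hs₂ hs₁)), ?_⟩
  change s₄.1 (s₃.1 (s₂.1 (s₁.1 _))) = _
  rw [e₁, e₂, e₃', e₄, div_one, one_smul]

/-- The derived group is the root group. -/
theorem commutator_eq_root_of_pair (hQ : PND Q) (hq : Nat.card F ≠ 2 ∨ finrank F V ≠ 4) {p : V × V} (hp : IsHPair Q p)
    (hpR : ∃ q : comp Q p × comp Q p, IsHPair (res Q p) q) :
    commutator ↥(Iso Q) = rootGroup Q := by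
  refine le_antisymm ?_ ((Subgroup.closure_le _).mpr ?_)
  swap
  · rintro g ⟨e, v, he, hv, -, hg⟩
    rw [show g = ⟨siegel he hv, siegel_mem he hv⟩ from Subtype.ext hg]
    exact siegel_mem_commutator hQ hq he hv
  obtain ⟨e, f⟩ := p
  obtain ⟨π, hπ⟩ : ∃ π, π = QuotientGroup.mk' (rootGroup Q) := ⟨_, rfl⟩
  have hsame : ∀ v w, Q v ≠ 0 → Q w = Q v → π (rf Q v) = π (rf Q w) := by
    intro v w hv hw
    obtain ⟨s, hs, hs'⟩ := exists_root_move hQ hp hpR hv rfl
    obtain ⟨t, ht, ht'⟩ := exists_root_move hQ hp hpR hv hw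
    have h1 : t⁻¹ * s ∈ rootGroup Q := mul_mem (inv_mem ht) hs
    have h3 : (t⁻¹ * s).1 v = w := by
      change t.1.symm (s.1 v) = w
      rw [hs', ← ht', LinearEquiv.symm_apply_apply]
    rw [← h3, ← conj_rf, map_mul, map_mul, map_inv,
      show π (t⁻¹ * s) = 1 by rw [hπ, QuotientGroup.mk'_apply, QuotientGroup.eq_one_iff]; exact h1]
    simp
  have hcomm : ∀ u w, Q u ≠ 0 → Q w ≠ 0 → π (rf Q u) * π (rf Q w) = π (rf Q w) * π (rf Q u) := by
    intro u w hu hw
    obtain ⟨q, hq'⟩ := hpR
    obtain ⟨r, hr⟩ := exists_value_of_pair hq' (Q w)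
    obtain ⟨u', hu'⟩ : ∃ u', u' = Q u • e + f := ⟨_, rfl⟩
    have hQu' : Q u' = Q u := by
      rw [hu', map_two, QuadraticMap.map_smul, hp.1, hp.2.1, polar_smul_left,
        show polar Q e f = 1 from hp.2.2]
      simp
    have hor : polar Q u' (r : V) = 0 := by
      rw [hu', polar_add_left, polar_smul_left, (mem_comp.mp r.2).1, (mem_comp.mp r.2).2]; simp
    rw [hsame u u' hu hQu', hsame w r hw (by rw [← hr]; rfl), ← map_mul, ← map_mul]
    congr 1
    refine mul_inv_eq_iff_eq_mul.mp ?_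
    rw [conj_rf]
    exact congrArg (rf Q) (refl_fix hor)
  have key : ∀ g h : ↥(Iso Q), π g * π h = π h * π g := by
    intro g h
    refine induction_on (motive := fun g => π g * π h = π h * π g) hQ hq g (by rw [map_one, one_mul, mul_one])
      fun v g hv ih => ?_
    have hvh : π (rf Q v) * π h = π h * π (rf Q v) := by
      refine induction_on (motive := fun h => π (rf Q v) * π h = π h * π (rf Q v)) hQ hq h
        (by rw [map_one, one_mul, mul_one]) fun w h hw ih' => ?_
      rw [map_mul, ← mul_assoc, hcomm v w hv hw, mul_assoc, ih', mul_assoc]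
    rw [map_mul, mul_assoc, ih, ← mul_assoc, hvh, mul_assoc]
  rw [commutator_def, Subgroup.commutator_le]
  intro a _ b _
  rw [← QuotientGroup.eq_one_iff, ← QuotientGroup.mk'_apply, ← hπ, map_commutatorElement]
  exact commutatorElement_eq_one_iff_mul_comm.mpr (key a b)

/-- The derived group is the root group, odd characteristic. -/
theorem commutator_eq_root (h2 : (2 : F) ≠ 0) (hQ : PND Q) (hn : 5 ≤ finrank F V) :
    commutator ↥(Iso Q) = rootGroup Q := by
  obtain ⟨e, he0, he⟩ := exists_singular h2 hQ (by omega)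
  obtain ⟨f, hp⟩ := exists_pair hQ he0 he
  have hR := finrank_comp (p := (e, f)) hp
  have hRQ := res_pnd (p := (e, f)) hQ hp
  obtain ⟨u₀, hu₀, hQu₀⟩ := exists_singular h2 hRQ (by omega)
  obtain ⟨z₀, hp₀⟩ := exists_pair hRQ hu₀ hQu₀
  exact commutator_eq_root_of_pair hQ (two_ne h2) hp ⟨(u₀, z₀), hp₀⟩

end Cfsg.Agent.Classical.OOmega
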