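import Cfsg.Agent.Lib.Perm.AltAut

/-!
# Subgroups of index six and automorphisms of `S₆`
-/

set_option autoImplicit false

open Equiv Equiv.Perm

namespace Cfsg.Agent.Classical.SymSix

abbrev G6 := Perm (Fin 6)

/-- A synthematic total: five fixed-point-free involutions covering all duads. -/
def total : Finset G6 :=
  {swap 0 1 * swap 2 3 * swap 4 5, swap 0 2 * swap 1 4 * swap 3 5, swap 0 3 * swap 1 5 * swap 2 4,
    swap 0 4 * swap 1 3 * swap 2 5, swap 0 5 * swap 1 2 * swap 3 4}

/-- The stabiliser of the total. -/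
def exotic : Subgroup G6 where
  carrier := {g | total.image (fun t => g * t * g⁻¹) = total}
  one_mem' := by simp
  mul_mem' {a b} ha hb := by
    show total.image (fun t => a * b * t * (a * b)⁻¹) = total
    conv_rhs => rw [← ha, ← hb, Finset.image_image]
    exact Finset.image_congr fun t _ => by simp [mul_assoc]
  inv_mem' {a} ha := by
    show total.image (fun t => a⁻¹ * t * a⁻¹⁻¹) = total
    conv_lhs => rw [← ha, Finset.image_image]
    refine (Finset.image_congr (g := id) fun t _ => ?_).trans Finset.image_id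
    simp [mul_assoc]

set_option maxRecDepth 20000 in
theorem card_filter : (Finset.univ.filter fun g : G6 => total.image (fun t => g * t * g⁻¹) = total).card = 120 := by
  decide +kernel

theorem exotic_moves : ∀ a : Fin 6, ∃ g : G6, total.image (fun t => g * t * g⁻¹) = total ∧ g a ≠ a := by
  decide +kernel

theorem index_exotic : exotic.index = 6 := by
  classical
  have hc : Nat.card exotic = 120 := by
    rw [Nat.card_eq_fintype_card, ← card_filter]
    exact Fintype.card_of_subtype _ (fun g => by simp [exotic])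
  have h := exotic.card_mul_index
  rw [hc, Nat.card_perm, Nat.card_fin, show Nat.factorial 6 = 720 from rfl] at h
  omega

theorem exotic_ne (a : Fin 6) : exotic ≠ MulAction.stabilizer G6 a := fun h => by
  obtain ⟨g, hg, hga⟩ := exotic_moves a
  have hm : g ∈ exotic := hg
  rw [h] at hm
  exact hga hm

theorem card_stab (a : Fin 6) : (MulAction.stabilizer G6 a).index = 6 := by
  rw [MulAction.index_stabilizer_of_transitive, Nat.card_fin]

theorem exists_avoid (l : Finset (Fin 6)) (hl : l.card < 6) : ∃ b : Fin 6, b ∉ l := by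
  by_contra h
  push Not at h
  rw [Finset.eq_univ_of_forall h] at hl
  simp at hl

theorem eq_one_of_centralizes {z : G6} (hc : ∀ a ∈ alternatingGroup (Fin 6), z * a * z⁻¹ = a) : z = 1 := by
  refine Equiv.ext fun a => ?_
  by_contra hza
  obtain ⟨b, hb⟩ : ∃ b : Fin 6, b ∉ ({a, z a} : Finset (Fin 6)) := exists_avoid _ (by
    exact lt_of_le_of_lt (Finset.card_insert_le _ _) (by simp))
  obtain ⟨d, hd⟩ : ∃ d : Fin 6, d ∉ ({a, z a, b} : Finset (Fin 6)) := exists_avoid _ (by
    exact lt_of_le_of_lt ((Finset.card_insert_le _ _).trans (Nat.succ_le_succ (Finset.card_insert_le _ _))) (by simp))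
  simp only [Finset.mem_insert, Finset.mem_singleton, not_or] at hb hd
  have hcy := Perm.AltAut.cyc_isThreeCycle (Ne.symm hb.1) (Ne.symm hd.1) (Ne.symm hd.2.2)
  have := congrArg (fun g : G6 => g (z a)) (hc _ hcy.mem_alternatingGroup)
  rw [Equiv.Perm.one_apply] at hza
  rw [Perm.AltAut.conj_cyc, Perm.AltAut.cyc_other hza (Ne.symm hb.2) (Ne.symm hd.2.1)] at this
  by_cases hbd : z b = z d
  · exact hd.2.2 (z.injective hbd).symm
  rw [Perm.AltAut.cyc_left (z.injective.ne (Ne.symm hb.1)) (z.injective.ne (Ne.symm hd.1))] at this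
  exact hb.1 (z.injective this)

/-- Every subgroup of index six is the preimage of a point stabiliser under an automorphism. -/
theorem exists_auto (H : Subgroup G6) (hH : H.index = 6) :
    ∃ φ : G6 ≃* G6, H = (MulAction.stabilizer G6 (0 : Fin 6)).comap φ.toMonoidHom := by
  classical
  haveI : Fintype (G6 ⧸ H) := Fintype.ofFinite _
  have hc : Fintype.card (G6 ⧸ H) = 6 := by rw [← Nat.card_eq_fintype_card]; exact hH
  obtain ⟨e0⟩ : Nonempty (G6 ⧸ H ≃ Fin 6) := ⟨Fintype.equivFinOfCardEq hc⟩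
  obtain ⟨e, he⟩ : ∃ e : G6 ⧸ H ≃ Fin 6, e ((1 : G6) : G6 ⧸ H) = 0 :=
    ⟨e0.trans (swap (e0 ((1 : G6) : G6 ⧸ H)) 0), swap_apply_left _ _⟩
  let f : G6 →* G6 := e.permCongrHom.toMonoidHom.comp (MulAction.toPermHom G6 (G6 ⧸ H))
  have hker : f.ker = H.normalCore := by
    rw [Subgroup.normalCore_eq_ker]
    ext g
    exact map_eq_one_iff _ e.permCongrHom.injective
  have hbot : H.normalCore = ⊥ := by
    by_contra hne
    haveI : IsSimpleGroup (alternatingGroup (Fin 6)) := alternatingGroup.isSimpleGroup (by simp)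
    have hnA : ((H.normalCore).subgroupOf (alternatingGroup (Fin 6))).Normal := inferInstance
    rcases hnA.eq_bot_or_eq_top with h | h
    · refine hne ((Subgroup.eq_bot_iff_forall _).mpr fun z hz => eq_one_of_centralizes fun a ha => ?_)
      rw [Subgroup.subgroupOf_eq_bot] at h
      have h1 : z * a * z⁻¹ * a⁻¹ ∈ H.normalCore := by
        have := mul_mem hz ((H.normalCore_normal).conj_mem _ (inv_mem hz) a)
        simpa [mul_assoc] using this
      have h2 : z * a * z⁻¹ * a⁻¹ ∈ alternatingGroup (Fin 6) :=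
        mul_mem ((alternatingGroup.normal).conj_mem a ha z) (inv_mem ha)
      exact mul_inv_eq_one.mp (Subgroup.disjoint_def.mp h h1 h2)
    · rw [Subgroup.subgroupOf_eq_top] at h
      have := Subgroup.card_le_of_le (h.trans H.normalCore_le)
      rw [nat_card_alternatingGroup, Nat.card_fin, show Nat.factorial 6 / 2 = 360 from rfl] at this
      have h2 := H.card_mul_index
      rw [hH, Nat.card_perm, Nat.card_fin, show Nat.factorial 6 = 720 from rfl] at h2
      linarith
  have hinj : Function.Injective f := (MonoidHom.ker_eq_bot_iff _).mp (hker.trans hbot)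
  refine ⟨MulEquiv.ofBijective f (Finite.injective_iff_bijective.mp hinj), ?_⟩
  ext g
  show g ∈ H ↔ e ((MulAction.toPermHom G6 (G6 ⧸ H) g) (e.symm 0)) = 0
  rw [← he, e.symm_apply_apply, e.apply_eq_iff_eq]
  show g ∈ H ↔ ((g * 1 : G6) : G6 ⧸ H) = ((1 : G6) : G6 ⧸ H)
  rw [mul_one, QuotientGroup.eq, mul_one, inv_mem_iff]

theorem sign_auto (φ : G6 ≃* G6) (g : G6) : Perm.sign (φ g) = Perm.sign g := by
  have h : (Perm.sign.comp φ.toMonoidHom : G6 →* ℤˣ) = Perm.sign :=
    Equiv.Perm.eq_sign_of_surjective_hom (fun u => by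
      obtain ⟨w, hw⟩ := Perm.sign_surjective (Fin 6) u
      obtain ⟨v, rfl⟩ := φ.surjective w
      exact ⟨v, hw⟩)
  exact DFunLike.congr_fun h g

theorem odd_involution {g : G6} (h2 : g * g = 1) (hs : Perm.sign g = -1) :
    g.IsSwap ∨ g.cycleType = Multiset.replicate 3 2 := by
  have h1 : g ≠ 1 := by rintro rfl; simp at hs
  have ho : orderOf g = 2 := orderOf_eq_prime (by rw [pow_two, h2]) h1
  obtain ⟨j, hj⟩ := cycleType_prime_order (σ := g) (by rw [ho]; exact Nat.prime_two)
  rw [ho] at hj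
  have hle := g.support.card_le_univ
  rw [← sum_cycleType, hj, Multiset.sum_replicate, Fintype.card_fin, smul_eq_mul] at hle
  rw [sign_of_cycleType, hj, Multiset.sum_replicate, Multiset.card_replicate] at hs
  obtain rfl | rfl | rfl : j = 0 ∨ j = 1 ∨ j = 2 := by omega
  · left
    rw [← card_support_eq_two, ← sum_cycleType, hj]
    rfl
  · norm_num at hs
  · exact Or.inr hj

theorem auto_swap (φ : G6 ≃* G6) {t : G6} (ht : t.IsSwap) :
    (φ t).IsSwap ∨ (φ t).cycleType = Multiset.replicate 3 2 := by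
  obtain ⟨x, y, hxy, rfl⟩ := ht
  exact odd_involution (by rw [← map_mul, swap_mul_self, map_one]) (by rw [sign_auto, sign_swap hxy])

theorem swap_type {g : G6} : g.IsSwap ↔ g.cycleType = {2} := by
  rw [← card_support_eq_two, card_support_eq_two]
  constructor
  · rintro ⟨x, y, hxy, rfl⟩
    exact isSwap_iff_cycleType.mp ⟨x, y, hxy, rfl⟩
  · exact isSwap_iff_cycleType.mpr

theorem swap_all (φ : G6 ≃* G6) {t s : G6} (ht : t.IsSwap) (hs : s.IsSwap) (h : (φ t).IsSwap) : (φ s).IsSwap := by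
  obtain ⟨c, rfl⟩ := isConj_iff.mp (isConj_iff_cycleType_eq.mpr ((swap_type.mp ht).trans (swap_type.mp hs).symm))
  rw [swap_type] at h ⊢
  rw [map_mul, map_mul, map_inv, cycleType_conj, h]

theorem swap_mul_three {s t : G6} (hs : s.IsSwap) (ht : t.IsSwap) (h3 : orderOf (s * t) = 3) :
    (s * t).IsThreeCycle := by
  obtain ⟨a, b, hab, rfl⟩ := hs
  obtain ⟨x, y, hxy, rfl⟩ := ht
  by_cases hax : a = x
  · subst hax
    rcases eq_or_ne b y with rfl | hby
    · simp at h3
    · exact isThreeCycle_swap_mul_swap_same hab hxy hby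
  by_cases hay : a = y
  · subst hay
    rcases eq_or_ne b x with rfl | hbx
    · rw [swap_comm b a] at h3; simp at h3
    · rw [swap_comm x a]; exact isThreeCycle_swap_mul_swap_same hab hxy.symm hbx
  by_cases hbx : b = x
  · subst hbx
    rw [swap_comm a b]
    exact isThreeCycle_swap_mul_swap_same hab.symm hxy hay
  by_cases hby : b = y
  · subst hby
    rw [swap_comm a b, swap_comm x b]
    exact isThreeCycle_swap_mul_swap_same hab.symm hxy.symm hax
  exfalso
  have hd : (swap a b).Disjoint (swap x y) := by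
    rw [disjoint_iff_disjoint_support, support_swap hab, support_swap hxy]
    simp [hax, hay, hbx, hby, Ne.symm hax, Ne.symm hay, Ne.symm hbx, Ne.symm hby]
  have : (swap a b * swap x y) ^ 2 = 1 := by
    rw [hd.commute.mul_pow, pow_two, pow_two, swap_mul_self, swap_mul_self, one_mul]
  have := orderOf_dvd_of_pow_eq_one this
  rw [h3] at this
  omega

/-- An automorphism fixing the class of transpositions is inner. -/
theorem auto_inner (φ : G6 ≃* G6) (h : (φ (swap 0 1)).IsSwap) : ∃ π : G6, ∀ x, φ x = π * x * π⁻¹ := by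
  have hmem : ∀ x, x ∈ alternatingGroup (Fin 6) ↔ φ x ∈ alternatingGroup (Fin 6) := fun x => by
    rw [mem_alternatingGroup, mem_alternatingGroup, sign_auto]
  let σ : MulAut (alternatingGroup (Fin 6)) :=
    { toFun := fun x => ⟨φ x, (hmem x).mp x.2⟩
      invFun := fun x => ⟨φ.symm x, (hmem _).mpr (by rw [φ.apply_symm_apply]; exact x.2)⟩
      left_inv := fun x => Subtype.ext (φ.symm_apply_apply _)
      right_inv := fun x => Subtype.ext (φ.apply_symm_apply _)
      map_mul' := fun x y => Subtype.ext (map_mul φ _ _) }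
  have hsw : (swap (0 : Fin 6) 1).IsSwap := ⟨0, 1, by decide, rfl⟩
  obtain ⟨π, hπ⟩ := Perm.AltAut.exists_perm (by norm_num) σ fun f hf => by
    obtain ⟨a, ha⟩ : ∃ a, (f : G6) a ≠ a := by
      by_contra hc
      push Not at hc
      exact hf.ne_one (Equiv.ext hc)
    obtain ⟨h1, h2, -⟩ := Perm.AltAut.three_points hf ha
    show (φ (f : G6)).IsThreeCycle
    have ho : orderOf (φ (f : G6)) = 3 := by rw [φ.orderOf_eq]; exact hf.orderOf
    rw [Perm.AltAut.eq_cyc hf ha, Perm.AltAut.cyc, map_mul] at ho ⊢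
    exact swap_mul_three (swap_all φ hsw ⟨_, _, ha.symm, rfl⟩ h) (swap_all φ hsw ⟨_, _, h1, rfl⟩ h) ho
  have hA : ∀ a ∈ alternatingGroup (Fin 6), φ a = π * a * π⁻¹ := fun a ha => by
    have := congrArg (fun s : MulAut (alternatingGroup (Fin 6)) => ((s ⟨a, ha⟩ : alternatingGroup (Fin 6)) : G6)) hπ
    exact this
  refine ⟨π, fun x => ?_⟩
  obtain ⟨z, hz⟩ : ∃ z, z = (π * x)⁻¹ * φ x * π := ⟨_, rfl⟩
  suffices z = 1 by
    rw [this] at hz
    calc φ x = π * x * ((π * x)⁻¹ * φ x * π) * π⁻¹ := by group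
      _ = π * x * π⁻¹ := by rw [← hz, mul_one]
  have hc : ∀ a ∈ alternatingGroup (Fin 6), z * a * z⁻¹ = a := fun a ha => by
    have e1 := hA (x * a * x⁻¹) ((alternatingGroup.normal).conj_mem a ha x)
    rw [map_mul, map_mul, map_inv, hA a ha] at e1
    rw [hz]
    calc (π * x)⁻¹ * φ x * π * a * ((π * x)⁻¹ * φ x * π)⁻¹
        = (π * x)⁻¹ * (φ x * (π * a * π⁻¹) * (φ x)⁻¹) * (π * x) := by group
      _ = a := by rw [e1]; group
  exact eq_one_of_centralizes hc

/-- An outer automorphism. -/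
theorem exists_outer : ∃ ψ : G6 ≃* G6, ¬ (ψ (swap 0 1)).IsSwap := by
  obtain ⟨φ, hφ⟩ := exists_auto exotic index_exotic
  refine ⟨φ, fun h => ?_⟩
  obtain ⟨π, hπ⟩ := auto_inner φ h
  refine exotic_ne (π⁻¹ 0) (hφ.trans (Subgroup.ext fun g => ?_))
  rw [Subgroup.mem_comap, MulAction.mem_stabilizer_iff, MulAction.mem_stabilizer_iff, MulEquiv.coe_toMonoidHom, hπ]
  show π (g (π⁻¹ 0)) = 0 ↔ g (π⁻¹ 0) = π⁻¹ 0
  rw [Equiv.Perm.eq_inv_iff_eq]

variable {ψ : G6 ≃* G6}

/-- Both families. -/
theorem classify (hψ : ¬ (ψ (swap 0 1)).IsSwap) (H : Subgroup G6) (hH : H.index = 6) :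
    (∃ a : Fin 6, H = MulAction.stabilizer G6 a) ∨ ∃ a : Fin 6, H = (MulAction.stabilizer G6 a).comap ψ.toMonoidHom := by
  obtain ⟨φ, hφ⟩ := exists_auto H hH
  have hsw : (swap (0 : Fin 6) 1).IsSwap := ⟨0, 1, by decide, rfl⟩
  by_cases h : (φ (swap 0 1)).IsSwap
  · obtain ⟨π, hπ⟩ := auto_inner φ h
    refine Or.inl ⟨π⁻¹ 0, hφ.trans (Subgroup.ext fun g => ?_)⟩
    rw [Subgroup.mem_comap, MulAction.mem_stabilizer_iff, MulAction.mem_stabilizer_iff, MulEquiv.coe_toMonoidHom, hπ]
    show π (g (π⁻¹ 0)) = 0 ↔ g (π⁻¹ 0) = π⁻¹ 0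
    rw [Equiv.Perm.eq_inv_iff_eq]
  · have h' := (auto_swap φ hsw).resolve_left h
    have h'' := (auto_swap ψ hsw).resolve_left hψ
    obtain ⟨c, hc⟩ := isConj_iff.mp (isConj_iff_cycleType_eq.mpr (h''.trans h'.symm))
    obtain ⟨π, hπ⟩ := auto_inner (φ.trans ψ.symm) (by
      rw [swap_type]
      show (ψ.symm (φ (swap 0 1))).cycleType = _
      rw [← hc, map_mul, map_mul, map_inv, ψ.symm_apply_apply, cycleType_conj]
      exact swap_type.mp hsw)
    refine Or.inr ⟨(ψ π)⁻¹ 0, hφ.trans (Subgroup.ext fun g => ?_)⟩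
    have h1 : φ g = ψ π * ψ g * (ψ π)⁻¹ := by
      rw [← map_inv, ← map_mul, ← map_mul, ← hπ g]
      exact (ψ.apply_symm_apply _).symm
    simp only [Subgroup.mem_comap, MulAction.mem_stabilizer_iff, MulEquiv.coe_toMonoidHom, h1]
    show ψ π (ψ g ((ψ π)⁻¹ 0)) = 0 ↔ ψ g ((ψ π)⁻¹ 0) = (ψ π)⁻¹ 0
    rw [Equiv.Perm.eq_inv_iff_eq]

theorem stab_ne_comap (hψ : ¬ (ψ (swap 0 1)).IsSwap) (a b : Fin 6) :
    MulAction.stabilizer G6 a ≠ (MulAction.stabilizer G6 b).comap ψ.toMonoidHom := fun h => by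
  obtain ⟨x, hx⟩ : ∃ x : Fin 6, x ≠ a := exists_ne a
  obtain ⟨y, hy⟩ : ∃ y : Fin 6, y ∉ ({a, x} : Finset (Fin 6)) := exists_avoid _ (by
    exact lt_of_le_of_lt (Finset.card_insert_le _ _) (by simp))
  simp only [Finset.mem_insert, Finset.mem_singleton, not_or] at hy
  have hmem : swap x y ∈ MulAction.stabilizer G6 a := swap_apply_of_ne_of_ne hx.symm (Ne.symm hy.1)
  rw [h] at hmem
  have hs : (swap x y).IsSwap := ⟨x, y, Ne.symm hy.2, rfl⟩
  have h3 := (auto_swap ψ hs).resolve_left fun hc => hψ (swap_all ψ hs ⟨0, 1, by decide, rfl⟩ hc)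
  have hsupp : (ψ (swap x y)).support = Finset.univ :=
    Finset.eq_univ_of_card _ (by rw [← sum_cycleType, h3]; rfl)
  exact mem_support.mp (hsupp ▸ Finset.mem_univ b) hmem

theorem stab_injective : Function.Injective fun a : Fin 6 => MulAction.stabilizer G6 a := by
  intro a b h
  by_contra hab
  obtain ⟨c, hc⟩ : ∃ c : Fin 6, c ∉ ({a, b} : Finset (Fin 6)) := exists_avoid _ (by
    exact lt_of_le_of_lt (Finset.card_insert_le _ _) (by simp))
  simp only [Finset.mem_insert, Finset.mem_singleton, not_or] at hc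
  have hmem : swap b c ∈ MulAction.stabilizer G6 a := swap_apply_of_ne_of_ne hab (Ne.symm hc.1)
  simp only at h
  rw [h, MulAction.mem_stabilizer_iff, Perm.smul_def, swap_apply_left] at hmem
  exact hc.2 hmem

theorem comap_index (a : Fin 6) : ((MulAction.stabilizer G6 a).comap ψ.toMonoidHom).index = 6 := by
  rw [Subgroup.index_comap_of_surjective _ ψ.surjective, card_stab]

end Cfsg.Agent.Classical.SymSix
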