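import Cfsg.Agent.Lib.Classical.SymplecticIso

/-!
# The symmetric group of degree `2n` inside `Sp_{2n-2}(2)`

It acts on even subsets modulo complementation.
-/

set_option autoImplicit false

namespace Cfsg.Agent.Classical.SymmSp

open Module

variable (n : ℕ)

local notation "W" => Fin (2 * n) → ZMod 2

/-- The sum of the coordinates. -/
def total : W →ₗ[ZMod 2] ZMod 2 := ∑ i, LinearMap.proj i

/-- Even vectors. -/
def evenSub : Submodule (ZMod 2) W := LinearMap.ker (total n)

abbrev E := ↥(evenSub n)

theorem total_apply (x : W) : total n x = ∑ i, x i := by simp [total]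

theorem one_mem : (1 : W) ∈ evenSub n := by
  simp [evenSub, total_apply]
  left; decide

/-- The line of the all-one vector. -/
def ones : Submodule (ZMod 2) (E n) := Submodule.span (ZMod 2) {⟨1, one_mem n⟩}

/-- The dot product. -/
def dot : (E n) →ₗ[ZMod 2] (E n) →ₗ[ZMod 2] ZMod 2 :=
  LinearMap.mk₂ (ZMod 2) (fun x y => ∑ i, (x : W) i * (y : W) i)
    (fun a b c => by simp [add_mul, Finset.sum_add_distrib])
    (fun r a c => by simp [mul_assoc, Finset.mul_sum])
    (fun a b c => by simp [mul_add, Finset.sum_add_distrib])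
    (fun r a c => by simp [mul_left_comm, Finset.mul_sum])

theorem dot_apply (x y : (E n)) : dot n x y = ∑ i, (x : W) i * (y : W) i := rfl

theorem dot_comm (x y : (E n)) : dot n x y = dot n y x := by simp [dot_apply, mul_comm]

theorem dot_one (x : (E n)) : dot n x ⟨1, one_mem n⟩ = 0 := by
  have h : total n (x : W) = 0 := x.2
  simpa [dot_apply, total_apply] using h

theorem ones_le (x : (E n)) : ones n ≤ LinearMap.ker (dot n x) := by
  rw [ones, Submodule.span_le, Set.singleton_subset_iff]
  exact dot_one n x

abbrev Q := (E n) ⧸ ones n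

/-- The form on the quotient. -/
def form : Q n →ₗ[ZMod 2] Q n →ₗ[ZMod 2] ZMod 2 :=
  (ones n).liftQ
    ({ toFun := fun x => (ones n).liftQ (dot n x) (ones_le n x)
       map_add' := fun a b => Submodule.linearMap_qext _ (LinearMap.ext fun y => by simp)
       map_smul' := fun r a => Submodule.linearMap_qext _ (LinearMap.ext fun y => by simp) } :
      (E n) →ₗ[ZMod 2] Q n →ₗ[ZMod 2] ZMod 2)
    (by
      refine Submodule.span_le.mpr (Set.singleton_subset_iff.mpr ?_)
      exact Submodule.linearMap_qext _ (LinearMap.ext fun y => by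
        simpa using (dot_comm n _ y).trans (dot_one n y)))

theorem form_mk (x y : (E n)) : form n (Submodule.Quotient.mk x) (Submodule.Quotient.mk y) = dot n x y :=
  rfl

theorem mem_evenSub (x : W) : x ∈ evenSub n ↔ ∑ i, x i = 0 := by simp [evenSub, total_apply]

theorem pair_mem (i j : Fin (2 * n)) : Pi.single i 1 + Pi.single j 1 ∈ evenSub n := by
  rw [mem_evenSub]
  simp only [Pi.add_apply, Finset.sum_add_distrib, Finset.sum_pi_single', Finset.mem_univ, if_true]
  decide

/-- The class of an unordered pair. -/
def pair (i j : Fin (2 * n)) : (E n) := ⟨_, pair_mem n i j⟩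

theorem dot_pair (x : (E n)) (i j : Fin (2 * n)) : dot n x (pair n i j) = (x : W) i + (x : W) j := by
  simp [dot_apply, pair, mul_add, Finset.sum_add_distrib, Pi.single_apply]

theorem form_isAltND (hn : 1 ≤ n) : SpCount.IsAltND (form n) := by
  constructor
  · intro v
    obtain ⟨x, rfl⟩ := Submodule.Quotient.mk_surjective _ v
    rw [form_mk, dot_apply]
    have h : ∀ a : ZMod 2, a * a = a := by decide
    simpa [h] using (mem_evenSub n _).mp x.2
  · intro v hv
    obtain ⟨x, rfl⟩ := Submodule.Quotient.mk_surjective _ v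
    rw [Submodule.Quotient.mk_eq_zero, ones, Submodule.mem_span_singleton]
    refine ⟨(x : W) ⟨0, by omega⟩, Subtype.ext (funext fun i => ?_)⟩
    have h := hv (Submodule.Quotient.mk (pair n ⟨0, by omega⟩ i))
    rw [form_mk, dot_pair] at h
    simpa using (CharTwo.add_eq_zero.mp h)

theorem finrank_form (hn : 1 ≤ n) : finrank (ZMod 2) (Q n) = 2 * (n - 1) := by
  have h0 : Nonempty (Fin (2 * n)) := ⟨⟨0, by omega⟩⟩
  have h1 := LinearMap.finrank_range_add_finrank_ker (total n)
  rw [LinearMap.range_eq_top.mpr, finrank_top, finrank_self, finrank_fintype_fun_eq_card,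
    Fintype.card_fin] at h1
  swap
  · refine LinearMap.surjective_of_ne_zero fun h => ?_
    have := LinearMap.congr_fun h (Pi.single ⟨0, by omega⟩ 1)
    simp [total_apply] at this
  have h2 := (ones n).finrank_quotient_add_finrank
  rw [ones, finrank_span_singleton (fun h => by
    have := congrFun (congrArg Subtype.val h) ⟨0, by omega⟩
    simp at this), show finrank (ZMod 2) (E n) = finrank (ZMod 2) (LinearMap.ker (total n)) from rfl] at h2
  show finrank (ZMod 2) ((E n) ⧸ ones n) = _
  rw [ones]
  omega

/-- Permuting coordinates on even vectors. -/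
def permE (σ : Equiv.Perm (Fin (2 * n))) : (E n) ≃ₗ[ZMod 2] (E n) where
  toFun x := ⟨fun i => (x : W) (σ.symm i), by
    rw [mem_evenSub, Equiv.sum_comp σ.symm fun i => (x : W) i]; exact (mem_evenSub n _).mp x.2⟩
  invFun x := ⟨fun i => (x : W) (σ i), by
    rw [mem_evenSub, Equiv.sum_comp σ fun i => (x : W) i]; exact (mem_evenSub n _).mp x.2⟩
  left_inv x := Subtype.ext (funext fun i => by simp)
  right_inv x := Subtype.ext (funext fun i => by simp)
  map_add' _ _ := rfl
  map_smul' _ _ := rfl

theorem permE_apply (σ : Equiv.Perm (Fin (2 * n))) (x : (E n)) (i : Fin (2 * n)) :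
    (permE n σ x : W) i = (x : W) (σ.symm i) := rfl

theorem map_onesLine (σ : Equiv.Perm (Fin (2 * n))) : (ones n).map (permE n σ).toLinearMap = ones n := by
  rw [ones, Submodule.map_span, Set.image_singleton]
  rfl

/-- The action on the quotient. -/
def permQ (σ : Equiv.Perm (Fin (2 * n))) : Q n ≃ₗ[ZMod 2] Q n :=
  Submodule.Quotient.equiv (ones n) (ones n) (permE n σ) (map_onesLine n σ)

theorem permQ_mk (σ : Equiv.Perm (Fin (2 * n))) (x : (E n)) :
    permQ n σ (Submodule.Quotient.mk x) = Submodule.Quotient.mk (permE n σ x) := rfl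

/-- The homomorphism to the isometry group. -/
def toIsom : Equiv.Perm (Fin (2 * n)) →* SpCount.isom (form n) where
  toFun σ := ⟨permQ n σ, fun v w => by
    obtain ⟨x, rfl⟩ := Submodule.Quotient.mk_surjective _ v
    obtain ⟨y, rfl⟩ := Submodule.Quotient.mk_surjective _ w
    simp only [permQ_mk, form_mk, dot_apply, permE_apply]
    exact Equiv.sum_comp σ.symm fun i => (x : W) i * (y : W) i⟩
  map_one' := Subtype.ext (LinearEquiv.ext fun v => by
    obtain ⟨x, rfl⟩ := Submodule.Quotient.mk_surjective _ v
    rfl)
  map_mul' σ τ := Subtype.ext (LinearEquiv.ext fun v => by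
    obtain ⟨x, rfl⟩ := Submodule.Quotient.mk_surjective _ v
    rfl)

theorem toIsom_injective (hn : 3 ≤ n) : Function.Injective (toIsom n) := by
  rw [← MonoidHom.ker_eq_bot_iff, Subgroup.eq_bot_iff_forall]
  intro σ hσ
  rw [MonoidHom.mem_ker] at hσ
  have key : ∀ i j : Fin (2 * n), i ≠ j → ∀ k, k ≠ i → k ≠ j → σ k ≠ i := by
    intro i j hij k hki hkj hk
    have h := LinearEquiv.congr_fun (congrArg Subtype.val hσ) (Submodule.Quotient.mk (pair n i j))
    change Submodule.Quotient.mk (permE n σ (pair n i j)) = Submodule.Quotient.mk (pair n i j) at h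
    rw [Submodule.Quotient.eq, ones, Submodule.mem_span_singleton] at h
    obtain ⟨c, hc⟩ := h
    have hev : ∀ l, c = (pair n i j : W) (σ.symm l) - (pair n i j : W) l := fun l => by
      simpa [permE_apply] using congrFun (congrArg Subtype.val hc) l
    -- a point outside the pair and its image
    obtain ⟨l, hl⟩ : ∃ l, l ∉ ({i, j, σ i, σ j} : Finset (Fin (2 * n))) := by
      have : ({i, j, σ i, σ j} : Finset (Fin (2 * n))).card < (Finset.univ : Finset (Fin (2 * n))).card := by
        refine lt_of_le_of_lt Finset.card_le_four ?_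
        rw [Finset.card_univ, Fintype.card_fin]; omega
      exact (Finset.exists_mem_notMem_of_card_lt_card this).imp fun _ h => h.2
    simp only [Finset.mem_insert, Finset.mem_singleton, not_or] at hl
    obtain ⟨hl1, hl2, hl3, hl4⟩ := hl
    have hc0 : c = 0 := by
      rw [hev l]
      simp [pair, Pi.single_apply, hl1, hl2, Equiv.symm_apply_eq, hl3, hl4]
    have := hev i
    rw [hc0, show σ.symm i = k by rw [← hk, Equiv.symm_apply_apply]] at this
    simp [pair, Pi.single_apply, hki, hkj, hij] at this
  refine Equiv.ext fun k => ?_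
  by_contra hk
  have h : σ k ≠ k := hk
  obtain ⟨j, hj⟩ : ∃ j, j ∉ ({σ k, k} : Finset (Fin (2 * n))) := by
    have : ({σ k, k} : Finset (Fin (2 * n))).card < (Finset.univ : Finset (Fin (2 * n))).card := by
      refine lt_of_le_of_lt Finset.card_le_two ?_
      rw [Finset.card_univ, Fintype.card_fin]; omega
    exact (Finset.exists_mem_notMem_of_card_lt_card this).imp fun _ h => h.2
  simp only [Finset.mem_insert, Finset.mem_singleton, not_or] at hj
  exact key (σ k) j (Ne.symm hj.1) k h.symm (Ne.symm hj.2) rfl

theorem exists_injective (hn : 3 ≤ n) :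
    ∃ f : Equiv.Perm (Fin (2 * n)) →* Matrix.symplecticGroup (Fin (n - 1)) (ZMod 2),
      Function.Injective f := by
  obtain ⟨e⟩ := SpCount.exists_isomEquiv (form_isAltND n (by omega)) (finrank_form n (by omega))
  exact ⟨e.toMonoidHom.comp (toIsom n), e.injective.comp (toIsom_injective n hn)⟩

end Cfsg.Agent.Classical.SymmSp
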