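import Mathlib
import Cfsg.Prelude.Def_Classical

/-!
# Counting hyperbolic bases of quadratic spaces

The isometry group is in bijection with the families having the values of the form at the standard
basis.  Such families are counted by splitting off hyperbolic pairs: the number of solutions of
`Q x = c` is passed to the orthogonal complement, so no classification of forms is needed.
-/

set_option autoImplicit false
set_option linter.unusedSectionVars false

namespace Cfsg.Agent.Classical.OCount

open Module Matrix QuadraticMap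

universe u v

variable {F : Type u} [Field F] {V : Type v} [AddCommGroup V] [Module F V] {Q : QuadraticForm F V}

/-- The polar form is non-degenerate. -/
def PND (Q : QuadraticForm F V) : Prop := ∀ v, (∀ w, polar Q v w = 0) → v = 0

/-- A hyperbolic pair. -/
def IsHPair (Q : QuadraticForm F V) (p : V × V) : Prop :=
  Q p.1 = 0 ∧ Q p.2 = 0 ∧ polar Q p.1 p.2 = 1

/-- The orthogonal complement of a pair. -/
def comp (Q : QuadraticForm F V) (p : V × V) : Submodule F V :=
  LinearMap.ker (Q.polarBilin p.1) ⊓ LinearMap.ker (Q.polarBilin p.2)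

/-- The restricted form. -/
def res (Q : QuadraticForm F V) (p : V × V) : QuadraticForm F (comp Q p) :=
  QuadraticMap.comp Q (comp Q p).subtype

theorem res_apply (p : V × V) (x : comp Q p) : res Q p x = Q x := rfl

theorem res_polar (p : V × V) (x y : comp Q p) : polar (res Q p) x y = polar Q x y := rfl

theorem mem_comp {p : V × V} {x : V} :
    x ∈ comp Q p ↔ polar Q p.1 x = 0 ∧ polar Q p.2 x = 0 := by simp [comp]

theorem polar_self_zero {x : V} (h : Q x = 0) : polar Q x x = 0 := by
  rw [QuadraticMap.polar_self, h, smul_zero]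

theorem map_two (x y : V) : Q (x + y) = Q x + Q y + polar Q x y := by
  exact QuadraticMap.map_add Q x y

theorem exists_split {p : V × V} (hp : IsHPair Q p) (x : V) :
    x - polar Q p.2 x • p.1 - polar Q p.1 x • p.2 ∈ comp Q p := by
  obtain ⟨h1, h2, h12⟩ := hp
  have h21 : polar Q p.2 p.1 = 1 := by rw [polar_comm, h12]
  rw [mem_comp]
  simp only [polar_sub_right, polar_smul_right, smul_eq_mul, polar_self_zero h1, polar_self_zero h2,
    h12, h21]
  constructor <;> ring

/-- `V = ⟨p⟩ ⊥ comp p`. -/
noncomputable def splitEquiv {p : V × V} (hp : IsHPair Q p) : V ≃ₗ[F] (F × F) × comp Q p where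
  toFun x := ((polar Q p.2 x, polar Q p.1 x), ⟨_, exists_split hp x⟩)
  map_add' x y := by
    refine Prod.ext (by simp [polar_add_right]) (Subtype.ext ?_)
    simp only [polar_add_right, Prod.snd_add, Submodule.coe_add, add_smul]
    abel
  map_smul' c x := by
    refine Prod.ext (by simp [polar_smul_right]) (Subtype.ext ?_)
    simp only [polar_smul_right, RingHom.id_apply, Prod.smul_snd, Submodule.coe_smul, smul_sub,
      smul_eq_mul, mul_smul]
  invFun z := z.1.1 • p.1 + z.1.2 • p.2 + (z.2 : V)
  left_inv x := by simp only; abel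
  right_inv z := by
    obtain ⟨⟨a, b⟩, w, hw⟩ := z
    obtain ⟨h1, h2, h12⟩ := hp
    have h21 : polar Q p.2 p.1 = 1 := by rw [polar_comm, h12]
    obtain ⟨hw1, hw2⟩ := mem_comp.mp hw
    have e1 : polar Q p.2 (a • p.1 + b • p.2 + w) = a := by
      simp [polar_add_right, polar_smul_right, h21, polar_self_zero h2, hw2]
    have e2 : polar Q p.1 (a • p.1 + b • p.2 + w) = b := by
      simp [polar_add_right, polar_smul_right, h12, polar_self_zero h1, hw1]
    refine Prod.ext (Prod.ext e1 e2) (Subtype.ext ?_)
    simp only [e1, e2]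
    abel

theorem apply_symm {p : V × V} (hp : IsHPair Q p) (a b : F) (w : comp Q p) :
    Q (a • p.1 + b • p.2 + (w : V)) = a * b + Q w := by
  obtain ⟨h1, h2, h12⟩ := hp
  obtain ⟨hw1, hw2⟩ := mem_comp.mp w.2
  simp only [map_two, QuadraticMap.map_smul, smul_eq_mul, polar_smul_left, polar_smul_right,
    polar_add_left, h1, h2, h12, hw1, hw2]
  ring

theorem res_pnd (hQ : PND Q) {p : V × V} (hp : IsHPair Q p) : PND (res Q p) := by
  intro x hx
  refine Subtype.ext (hQ _ fun y => ?_)
  obtain ⟨hw1, hw2⟩ := mem_comp.mp x.2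
  have h := hx ⟨_, exists_split hp y⟩
  rw [res_polar] at h
  simp only [polar_sub_right, polar_smul_right, smul_eq_mul] at h
  rw [polar_comm Q (x : V) p.1, polar_comm Q (x : V) p.2, hw1, hw2] at h
  simpa using h

theorem finrank_comp [FiniteDimensional F V] {p : V × V} (hp : IsHPair Q p) :
    finrank F V = 2 + finrank F (comp Q p) := by
  rw [(splitEquiv hp).finrank_eq, finrank_prod, finrank_prod, finrank_self]

/-- The standard values and polar values on the basis. -/
def gram {m : ℕ} {R : Type} (β : R → R → F) : (Fin m ⊕ Fin m) ⊕ R → (Fin m ⊕ Fin m) ⊕ R → F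
  | .inl (.inl i), .inl (.inr j) => if i = j then 1 else 0
  | .inl (.inr i), .inl (.inl j) => if i = j then 1 else 0
  | .inr r, .inr s => β r s
  | _, _ => 0

/-- Families with given values. -/
def OFam (Q : QuadraticForm F V) (m : ℕ) {R : Type} (q₀ : R → F) (β : R → R → F) : Type v :=
  {f : (Fin m ⊕ Fin m) ⊕ R → V //
    (∀ i, Q (f i) = Sum.elim (fun _ => 0) q₀ i) ∧ ∀ i j, polar Q (f i) (f j) = gram β i j}

variable {R : Type} {q₀ : R → F} {β : R → R → F}

/-- Splitting off the first pair. -/
noncomputable def famEquiv (m : ℕ) :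
    OFam Q (m + 1) q₀ β ≃ Σ p : {p : V × V // IsHPair Q p}, OFam (res Q p.1) m q₀ β where
  toFun f := ⟨⟨(f.1 (.inl (.inl 0)), f.1 (.inl (.inr 0))), by
      refine ⟨?_, ?_, ?_⟩ <;> simp [f.2.1, f.2.2, gram]⟩,
    ⟨fun i => ⟨f.1 (i.map (Sum.map Fin.succ Fin.succ) id), by
      rw [mem_comp, f.2.2, f.2.2]
      rcases i with (i | i) | i <;> simp [gram, fun k : Fin m => (Fin.succ_ne_zero k).symm]⟩,
      fun i => by
        rw [res_apply, f.2.1]
        rcases i with (i | i) | i <;> rfl, fun i j => by
        rw [res_polar, f.2.2]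
        rcases i with (i | i) | i <;> rcases j with (j | j) | j <;> simp [gram, Fin.succ_inj]⟩⟩
  invFun s := ⟨Sum.elim (Sum.elim (Fin.cons s.1.1.1 fun i => (s.2.1 (.inl (.inl i)) : V))
      (Fin.cons s.1.1.2 fun i => (s.2.1 (.inl (.inr i)) : V))) fun r => (s.2.1 (.inr r) : V), by
    obtain ⟨⟨p, hp⟩, g, hg1, hg2⟩ := s
    obtain ⟨h1, h2, h12⟩ := hp
    have h21 : polar Q p.2 p.1 = 1 := by rw [polar_comm, h12]
    have hc : ∀ k, polar Q p.1 (g k : V) = 0 ∧ polar Q p.2 (g k : V) = 0 := fun k => mem_comp.mp (g k).2
    have hc1 : ∀ k, polar Q (g k : V) p.1 = 0 := fun k => by rw [polar_comm, (hc k).1]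
    have hc2 : ∀ k, polar Q (g k : V) p.2 = 0 := fun k => by rw [polar_comm, (hc k).2]
    have hgq : ∀ k, Q (g k : V) = Sum.elim (fun _ => 0) q₀ k := hg1
    have hgg : ∀ k l, polar Q (g k : V) (g l : V) = gram β k l := hg2
    constructor
    · rintro ((i | i) | i)
      · refine Fin.cases ?_ (fun i => ?_) i <;> simp [h1, hgq]
      · refine Fin.cases ?_ (fun i => ?_) i <;> simp [h2, hgq]
      · simp [hgq]
    · rintro ((i | i) | i) ((j | j) | j) <;>
        (try refine Fin.cases ?_ (fun i => ?_) i) <;> (try refine Fin.cases ?_ (fun j => ?_) j) <;>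
        simp [gram, polar_self_zero h1, polar_self_zero h2, h12, h21, hc, hc1, hc2, hgg,
          Fin.succ_ne_zero, Fin.succ_inj, (Fin.succ_ne_zero _).symm]⟩
  left_inv f := by
    apply Subtype.ext
    funext i
    rcases i with (i | i) | i
    · refine Fin.cases ?_ (fun k => ?_) i <;> simp
    · refine Fin.cases ?_ (fun k => ?_) i <;> simp
    · simp
  right_inv s := by
    obtain ⟨⟨p, hp⟩, g, hg⟩ := s
    refine Sigma.ext rfl (heq_of_eq (Subtype.ext (funext fun i => Subtype.ext ?_)))
    rcases i with (i | i) | i <;> simp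

section Count

variable [Fintype F]

theorem card_mul_pairs (c : F) [DecidableEq F] :
    Nat.card {p : F × F // p.1 * p.2 = c} =
      (Fintype.card F - 1) + if c = 0 then Fintype.card F else 0 := by
  rw [Nat.card_eq_fintype_card, Fintype.card_subtype]
  split_ifs with hc
  · subst hc
    have e : (Finset.univ.filter fun p : F × F => p.1 * p.2 = 0) =
        ({0} : Finset F) ×ˢ (Finset.univ : Finset F) ∪ (Finset.univ.erase 0) ×ˢ ({0} : Finset F) := by
      ext ⟨a, b⟩; by_cases ha : a = 0 <;> simp [ha, eq_comm]
    rw [e, Finset.card_union_of_disjoint, Finset.card_product, Finset.card_product]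
    · simp; ring
    · rw [Finset.disjoint_left]; rintro ⟨a, b⟩ h1 h2; simp at h1 h2; exact h2.1 h1.symm h2.2.symm
  · have e : (Finset.univ.filter fun p : F × F => p.1 * p.2 = c) =
        (Finset.univ.erase 0).image fun a => (a, c / a) := by
      ext ⟨a, b⟩
      simp only [Finset.mem_filter, Finset.mem_univ, true_and, Finset.mem_image, Finset.mem_erase,
        and_true, Prod.mk.injEq]
      constructor
      · intro h
        have ha : a ≠ 0 := fun h0 => hc (by rw [← h, h0, zero_mul])
        exact ⟨a, ha, rfl, by rw [← h, mul_div_cancel_left₀ _ ha]⟩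
      · rintro ⟨x, hx, rfl, rfl⟩
        rw [mul_div_cancel₀ _ hx]
    rw [e, Finset.card_image_of_injective _ (fun a b h => congrArg Prod.fst h),
      Finset.card_erase_of_mem (Finset.mem_univ _), Finset.card_univ, add_zero]

/-- Passing the number of solutions of `Q x = c` to the complement. -/
theorem card_value [FiniteDimensional F V] {p : V × V} (hp : IsHPair Q p) (c : F) :
    Nat.card {x : V // Q x = c} =
      (Fintype.card F - 1) * Fintype.card F ^ finrank F (comp Q p) +
        Fintype.card F * Nat.card {w : comp Q p // res Q p w = c} := by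
  classical
  have : Finite V := Module.finite_of_finite F
  have := Fintype.ofFinite (comp Q p)
  have key : ∀ x : V, Q x = ((splitEquiv hp x).1.1 * (splitEquiv hp x).1.2) + Q (splitEquiv hp x).2 :=
    fun x => by
      conv_lhs => rw [← (splitEquiv hp).symm_apply_apply x]
      exact apply_symm hp _ _ _
  let e : {x : V // Q x = c} ≃ Σ w : comp Q p, {ab : F × F // ab.1 * ab.2 = c - Q (w : V)} :=
    { toFun := fun x => ⟨(splitEquiv hp x.1).2, (splitEquiv hp x.1).1, by
        rw [eq_sub_iff_add_eq, ← key]; exact x.2⟩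
      invFun := fun s => ⟨(splitEquiv hp).symm (s.2.1, s.1), by
        rw [key, LinearEquiv.apply_symm_apply, s.2.2, sub_add_cancel]⟩
      left_inv := fun x => Subtype.ext ((splitEquiv hp).symm_apply_apply x.1)
      right_inv := fun s => by
        obtain ⟨w, ab, h⟩ := s
        have hr := (splitEquiv hp).apply_symm_apply (ab, w)
        exact Sigma.subtype_ext (congrArg Prod.snd hr) (congrArg Prod.fst hr) }
  rw [Nat.card_congr e, Nat.card_sigma, Finset.sum_congr rfl fun w _ => card_mul_pairs _,
    Finset.sum_add_distrib, Finset.sum_const, Finset.card_univ, smul_eq_mul, Finset.sum_ite,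
    Finset.sum_const, Finset.sum_const_zero, add_zero, smul_eq_mul, ← Nat.card_eq_fintype_card,
    natCard_eq_pow_finrank (K := F), Nat.card_eq_fintype_card, mul_comm,
    Nat.card_eq_fintype_card (α := {w : comp Q p // res Q p w = c}), Fintype.card_subtype]
  congr 1
  rw [mul_comm]
  congr 1
  congr 1
  ext w
  rw [Finset.mem_filter, Finset.mem_filter]
  simp only [Finset.mem_univ, true_and, res_apply]
  rw [sub_eq_zero, eq_comm]

theorem card_fibre [FiniteDimensional F V] {φ : V →ₗ[F] F} (hφ : φ ≠ 0) (c : F) :
    Nat.card {w : V // φ w = c} = Fintype.card F ^ (finrank F V - 1) := by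
  have h1 := LinearMap.finrank_range_add_finrank_ker φ
  rw [LinearMap.range_eq_top.mpr (φ.surjective_of_ne_zero hφ), finrank_top, finrank_self] at h1
  obtain ⟨y, hy⟩ := φ.surjective_of_ne_zero hφ c
  rw [show finrank F V - 1 = finrank F (LinearMap.ker φ) by omega, ← Nat.card_eq_fintype_card,
    ← natCard_eq_pow_finrank (K := F)]
  exact Nat.card_congr
    { toFun := fun w => ⟨w.1 - y, by simp [w.2, hy]⟩
      invFun := fun w => ⟨w.1 + y, by rw [map_add, LinearMap.mem_ker.mp w.2, hy, zero_add]⟩
      left_inv := fun w => Subtype.ext (sub_add_cancel _ _)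
      right_inv := fun w => Subtype.ext (add_sub_cancel_right _ _) }

theorem card_partner [FiniteDimensional F V] (hQ : PND Q) {v : V} (hv : v ≠ 0) (hv0 : Q v = 0) :
    Nat.card {w : V // Q w = 0 ∧ polar Q v w = 1} = Fintype.card F ^ (finrank F V - 2) := by
  obtain ⟨u, hu⟩ : ∃ u, polar Q v u ≠ 0 := by
    by_contra! h; exact hv (hQ v h)
  have h := card_fibre (φ := Q.polarBilin v) (fun h => hu (LinearMap.congr_fun h u)) 1
  have hval : ∀ (w : V) (t : F), polar Q v w = 1 → Q (w + t • v) = Q w + t := fun w t hw => by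
    rw [map_two, QuadraticMap.map_smul, hv0, polar_smul_right, polar_comm, hw]; simp
  have hvv := polar_self_zero hv0
  let e : {w : V // Q.polarBilin v w = 1} ≃ F × {w : V // Q w = 0 ∧ polar Q v w = 1} :=
    { toFun := fun w => (Q w.1, ⟨w.1 + (-Q w.1) • v, by
        rw [hval _ _ w.2, add_neg_cancel], by
        rw [polar_add_right, polar_smul_right, hvv, smul_zero, add_zero]; exact w.2⟩)
      invFun := fun z => ⟨z.2.1 + z.1 • v, by
        show polar Q v (z.2.1 + z.1 • v) = 1
        rw [polar_add_right, polar_smul_right, hvv, smul_zero, add_zero]; exact z.2.2.2⟩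
      left_inv := fun w => Subtype.ext (by simp)
      right_inv := fun z => by
        have e1 : Q (z.2.1 + z.1 • v) = z.1 := by rw [hval _ _ z.2.2.2, z.2.2.1, zero_add]
        refine Prod.ext e1 (Subtype.ext ?_)
        simp [e1] }
  rw [Nat.card_congr e, Nat.card_prod, Nat.card_eq_fintype_card] at h
  have hv2 : 2 ≤ finrank F V := by
    have hind : LinearIndependent F ![v, u] := by
      rw [linearIndependent_fin2]
      refine ⟨fun h0 => hu (by simp at h0; simp [h0]), fun a ha => hu ?_⟩
      simp at ha
      by_cases ha0 : a = 0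
      · exact absurd (by rw [← ha, ha0, zero_smul]) hv
      · have h3 : a • polar Q v u = 0 := by rw [← polar_smul_right, ha, hvv]
        simpa [ha0] using h3
    simpa using hind.fintype_card_le_finrank
  rw [show finrank F V - 1 = finrank F V - 2 + 1 by omega, pow_succ'] at h
  exact Nat.eq_of_mul_eq_mul_left Fintype.card_pos h

theorem card_hpairs [FiniteDimensional F V] (hQ : PND Q) :
    Nat.card {p : V × V // IsHPair Q p} =
      (Nat.card {x : V // Q x = 0} - 1) * Fintype.card F ^ (finrank F V - 2) := by
  classical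
  have : Finite V := Module.finite_of_finite F
  have := Fintype.ofFinite V
  let e : {p : V × V // IsHPair Q p} ≃
      Σ v : {x : {x : V // Q x = 0} // x ≠ ⟨0, QuadraticMap.map_zero Q⟩}, {w : V // Q w = 0 ∧ polar Q v.1.1 w = 1} :=
    { toFun := fun p => ⟨⟨⟨p.1.1, p.2.1⟩, fun h => by
          have h' : p.1.1 = 0 := congrArg Subtype.val h
          have := p.2.2.2
          rw [h', polar_zero_left] at this; exact zero_ne_one this⟩, ⟨p.1.2, p.2.2.1, p.2.2.2⟩⟩
      invFun := fun s => ⟨(s.1.1.1, s.2.1), s.1.1.2, s.2.2.1, s.2.2.2⟩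
      left_inv := fun p => rfl
      right_inv := fun s => rfl }
  rw [Nat.card_congr e, Nat.card_sigma, Finset.sum_congr rfl fun v _ =>
    card_partner hQ (fun h => v.2 (Subtype.ext h)) v.1.2,
    Finset.sum_const, Finset.card_univ, smul_eq_mul, Fintype.card_subtype_compl,
    Fintype.card_subtype_eq, ← Nat.card_eq_fintype_card]

/-- The number of solutions of `Q = c` in the model with `m` pairs, `P` of them in the rest. -/
def valNum (q d m P : ℕ) : ℕ := (q ^ m - 1) * q ^ (m - 1 + d) + q ^ m * P

theorem valNum_succ {q : ℕ} (hq : 1 ≤ q) (d m P : ℕ) :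
    valNum q d (m + 1) P = (q - 1) * q ^ (2 * m + d) + q * valNum q d m P := by
  obtain ⟨k, rfl⟩ : ∃ k, q = k + 1 := ⟨q - 1, by omega⟩
  rcases m with _ | j
  · simp [valNum] <;> ring
  · simp only [valNum, Nat.add_sub_cancel]
    have h1 : 1 ≤ (k + 1) ^ (j + 1) := Nat.one_le_pow _ _ (by omega)
    have h2 : 1 ≤ (k + 1) ^ (j + 1 + 1) := Nat.one_le_pow _ _ (by omega)
    zify [h1, h2]
    rw [show 2 * (j + 1) + d = (j + 1) + (j + 1 + d) by ring]
    simp only [pow_add, pow_one]
    ring

/-- The general count. -/
theorem card_fam (d : ℕ) (q₀ : R → F) (β : R → R → F) [Finite R] (c₀ : F) (P₀ Pc : ℕ) (K : ℕ)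
    (hbase : ∀ {W : Type v} [AddCommGroup W] [Module F W] [FiniteDimensional F W] (T : QuadraticForm F W),
      PND T → finrank F W = d → Nat.card {x : W // T x = 0} = P₀ → Nat.card {x : W // T x = c₀} = Pc →
        Nat.card {g : R → W // (∀ r, T (g r) = q₀ r) ∧ ∀ r s, polar T (g r) (g s) = β r s} = K)
    (m : ℕ) : ∀ {V : Type v} [AddCommGroup V] [Module F V] [FiniteDimensional F V] {Q : QuadraticForm F V},
      PND Q → finrank F V = 2 * m + d →
      Nat.card {x : V // Q x = 0} = valNum (Fintype.card F) d m P₀ →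
      Nat.card {x : V // Q x = c₀} = valNum (Fintype.card F) d m Pc →
      Nat.card (OFam Q m q₀ β) = K * ∏ i ∈ Finset.range m,
        (valNum (Fintype.card F) d (i + 1) P₀ - 1) * Fintype.card F ^ (2 * i + d) := by
  induction m with
  | zero =>
    intro V _ _ _ Q hQ hV h0 hc
    rw [Finset.range_zero, Finset.prod_empty, mul_one, ← hbase Q hQ (by omega) (by simpa [valNum] using h0)
      (by simpa [valNum] using hc)]
    exact Nat.card_congr
      { toFun := fun f => ⟨fun r => f.1 (.inr r), fun r => f.2.1 _, fun r s => f.2.2 _ _⟩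
        invFun := fun g => ⟨Sum.elim (fun i => i.elim Fin.elim0 Fin.elim0) g.1,
          (fun i => by rcases i with (i | i) | i; exacts [i.elim0, i.elim0, g.2.1 i]),
          fun i j => by
            rcases i with (i | i) | i; · exact i.elim0
            · exact i.elim0
            rcases j with (j | j) | j; · exact j.elim0
            · exact j.elim0
            exact g.2.2 i j⟩
        left_inv := fun f => Subtype.ext (funext fun i => by
          rcases i with (i | i) | i; exacts [i.elim0, i.elim0, rfl])
        right_inv := fun g => rfl }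
  | succ m ih =>
    intro V _ _ _ Q hQ hV h0 hc
    classical
    have : Finite V := Module.finite_of_finite F
    have hq : 0 < Fintype.card F := Fintype.card_pos
    have : ∀ p : {p : V × V // IsHPair Q p}, Finite (OFam (res Q p.1) m q₀ β) := fun p => Subtype.finite
    rw [Nat.card_congr (famEquiv m)]
    have := Fintype.ofFinite {p : V × V // IsHPair Q p}
    have hfib : ∀ p : {p : V × V // IsHPair Q p}, Nat.card (OFam (res Q p.1) m q₀ β) =
        K * ∏ i ∈ Finset.range m,
          (valNum (Fintype.card F) d (i + 1) P₀ - 1) * Fintype.card F ^ (2 * i + d) := by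
      intro p
      have hd := finrank_comp p.2
      have hd' : finrank F (comp Q p.1) = 2 * m + d := by omega
      have e0 := card_value p.2 0
      have ec := card_value p.2 c₀
      rw [h0, valNum_succ hq, hd'] at e0
      rw [hc, valNum_succ hq, hd'] at ec
      exact ih (res_pnd hQ p.2) hd' (Nat.eq_of_mul_eq_mul_left hq (Nat.add_left_cancel e0.symm))
        (Nat.eq_of_mul_eq_mul_left hq (Nat.add_left_cancel ec.symm))
    rw [Nat.card_sigma, Finset.sum_congr rfl fun p _ => hfib p,
      Finset.sum_const, Finset.card_univ, smul_eq_mul,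
      ← Nat.card_eq_fintype_card (α := {p : V × V // IsHPair Q p}), card_hpairs hQ, h0, hV,
      Finset.prod_range_succ _ m, show 2 * (m + 1) + d - 2 = 2 * m + d by omega]
    ring

end Count

/-! ### Isometry groups as families -/

theorem quad_ext {ι : Type} [Fintype ι] [DecidableEq ι] {M N : QuadraticForm F (ι → F)}
    (h1 : ∀ i, M (Pi.single i 1) = N (Pi.single i 1))
    (h2 : ∀ i j, polar M (Pi.single i 1) (Pi.single j 1) = polar N (Pi.single i 1) (Pi.single j 1)) :
    M = N := by
  have hb : M.polarBilin = N.polarBilin := (Pi.basisFun F ι).ext fun i => (Pi.basisFun F ι).ext fun j => by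
    simpa [Pi.basisFun_apply] using h2 i j
  have hp : ∀ x y, polar M x y = polar N x y := fun x y => LinearMap.congr_fun (LinearMap.congr_fun hb x) y
  ext x
  rw [pi_eq_sum_univ' x]
  induction (Finset.univ : Finset ι) using Finset.induction with
  | empty => simp
  | insert a s ha ih =>
    rw [Finset.sum_insert ha, map_two, map_two, ih, hp, QuadraticMap.map_smul, QuadraticMap.map_smul, h1]

/-- Columns of isometries. -/
noncomputable def isometryEquiv {ι : Type} [Fintype ι] [DecidableEq ι] (M : QuadraticForm F (ι → F))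
    (hM : PND M) :
    ↥(Cfsg.isometryGroup F (⇑M)) ≃
      {f : ι → (ι → F) // (∀ i, M (f i) = M (Pi.single i 1)) ∧
        ∀ i j, polar M (f i) (f j) = polar M (Pi.single i 1) (Pi.single j 1)} :=
  have hmem : ∀ g : ↥(Cfsg.isometryGroup F (⇑M)), ∀ x, M (g.1.1 *ᵥ x) = M x := fun g x => g.2 x x
  Equiv.ofBijective (fun g => ⟨fun i => g.1.1 *ᵥ Pi.single i 1, fun i => hmem g _, fun i j => by
    simp only [polar, ← Matrix.mulVec_add, hmem g]⟩) ⟨fun g g' e => by
      apply Subtype.ext
      apply Units.ext
      ext i j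
      have := congrFun (congrFun (congrArg Subtype.val e) j) i
      simpa [Matrix.mulVec_single_one] using this, fun f => by
      obtain ⟨A, hA⟩ : ∃ A : Matrix ι ι F, A = Matrix.of fun i j => f.1 j i := ⟨_, rfl⟩
      have hcol : ∀ i, A *ᵥ Pi.single i 1 = f.1 i := fun i => by
        rw [Matrix.mulVec_single_one]; funext k; simp [hA]
      have hpres : ∀ x, M (A *ᵥ x) = M x := by
        have e : QuadraticMap.comp M (Matrix.mulVecLin A) = M := quad_ext (fun i => by
          rw [QuadraticMap.comp_apply, Matrix.mulVecLin_apply, hcol, f.2.1]) fun i j => by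
          rw [← f.2.2 i j, ← hcol i, ← hcol j]
          simp only [polar, QuadraticMap.comp_apply, map_add, Matrix.mulVecLin_apply]
        intro x
        conv_rhs => rw [← e]
        rfl
      have hu : IsUnit A := by
        rw [← Matrix.mulVec_injective_iff_isUnit]
        intro x y hxy
        refine sub_eq_zero.mp (hM _ fun z => ?_)
        have h0 : A *ᵥ (x - y) = 0 := by rw [Matrix.mulVec_sub]; exact sub_eq_zero.mpr hxy
        rw [polar, ← hpres (x - y + z), Matrix.mulVec_add, h0, zero_add, hpres, ← hpres (x - y), h0,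
          QuadraticMap.map_zero]
        ring
      exact ⟨⟨hu.unit, fun x _ => hpres x⟩, Subtype.ext (funext hcol)⟩⟩

end Cfsg.Agent.Classical.OCount
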