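import Cfsg.Agent.Lib.Classical.OrthCount
import Cfsg.Agent.Lib.Small.SL2.Classes

/-!
# The orders of the orthogonal groups
-/

set_option autoImplicit false
set_option linter.unusedSectionVars false

namespace Cfsg.Agent.Classical.OCount

open Module Matrix QuadraticMap

universe u

variable {F : Type u} [Field F] {R : Type}

/-- `Σ xᵢ yᵢ + P`. -/
noncomputable def stdQ (m : ℕ) (P : QuadraticForm F (R → F)) :
    QuadraticForm F ((Fin m ⊕ Fin m) ⊕ R → F) :=
  (∑ i : Fin m, linMulLin (LinearMap.proj (Sum.inl (Sum.inl i))) (LinearMap.proj (Sum.inl (Sum.inr i)))) +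
    QuadraticMap.comp P (LinearMap.funLeft F F Sum.inr)

theorem stdQ_apply (m : ℕ) (P : QuadraticForm F (R → F)) (x : (Fin m ⊕ Fin m) ⊕ R → F) :
    stdQ m P x = (∑ i : Fin m, x (.inl (.inl i)) * x (.inl (.inr i))) + P fun r => x (.inr r) := by
  simp [stdQ, QuadraticMap.sum_apply, LinearMap.funLeft]
  rfl

theorem stdQ_polar (m : ℕ) (P : QuadraticForm F (R → F)) (x y : (Fin m ⊕ Fin m) ⊕ R → F) :
    polar (stdQ m P) x y =
      (∑ i : Fin m, (x (.inl (.inl i)) * y (.inl (.inr i)) + x (.inl (.inr i)) * y (.inl (.inl i)))) +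
        polar P (fun r => x (.inr r)) (fun r => y (.inr r)) := by
  simp only [polar, stdQ_apply, Pi.add_apply]
  rw [show (fun r => x (.inr r) + y (.inr r)) = (fun r => x (.inr r)) + fun r => y (.inr r) from rfl]
  have hswap : ∑ i : Fin m, y (.inl (.inl i)) * x (.inl (.inr i)) =
      ∑ i : Fin m, x (.inl (.inr i)) * y (.inl (.inl i)) := Finset.sum_congr rfl fun i _ => mul_comm _ _
  simp only [add_mul, mul_add, Finset.sum_add_distrib]
  linear_combination hswap

variable [DecidableEq R]

theorem stdQ_single (m : ℕ) (P : QuadraticForm F (R → F)) (i : (Fin m ⊕ Fin m) ⊕ R) :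
    stdQ m P (Pi.single i 1) = Sum.elim (fun _ => 0) (fun r => P (Pi.single r 1)) i := by
  rw [stdQ_apply]
  rcases i with (i | i) | i
  · rw [show (fun r => (Pi.single (Sum.inl (Sum.inl i)) (1 : F) : (Fin m ⊕ Fin m) ⊕ R → F) (.inr r)) = 0 from
      funext fun r => by simp, QuadraticMap.map_zero]
    simp [Pi.single_apply]
  · rw [show (fun r => (Pi.single (Sum.inl (Sum.inr i)) (1 : F) : (Fin m ⊕ Fin m) ⊕ R → F) (.inr r)) = 0 from
      funext fun r => by simp, QuadraticMap.map_zero]
    simp [Pi.single_apply]
  · rw [show (fun r => (Pi.single (Sum.inr i) (1 : F) : (Fin m ⊕ Fin m) ⊕ R → F) (.inr r)) = Pi.single i 1 from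
      funext fun r => by simp [Pi.single_apply]]
    simp

theorem stdQ_polar_single (m : ℕ) (P : QuadraticForm F (R → F)) (i j : (Fin m ⊕ Fin m) ⊕ R) :
    polar (stdQ m P) (Pi.single i 1) (Pi.single j 1) =
      gram (fun r s => polar P (Pi.single r 1) (Pi.single s 1)) i j := by
  rw [stdQ_polar]
  have h0 : ∀ k : Fin m ⊕ Fin m,
      (fun r => (Pi.single (Sum.inl k) (1 : F) : (Fin m ⊕ Fin m) ⊕ R → F) (.inr r)) = 0 :=
    fun k => funext fun r => by simp
  have h1 : ∀ k : R, (fun r => (Pi.single (Sum.inr k) (1 : F) : (Fin m ⊕ Fin m) ⊕ R → F) (.inr r)) =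
      Pi.single k 1 := fun k => funext fun r => by simp [Pi.single_apply]
  rcases i with (i | i) | i <;> rcases j with (j | j) | j <;>
    simp only [h0, h1, polar_zero_left, polar_zero_right] <;>
    simp [gram, Pi.single_apply, eq_comm]

theorem stdQ_pnd (m : ℕ) {P : QuadraticForm F (R → F)} (hP : PND P) : PND (stdQ m P) := by
  intro x hx
  have hR : (fun r => x (.inr r)) = 0 := hP _ fun y => by
    have := hx (Sum.elim 0 y)
    rw [stdQ_polar] at this
    simpa using this
  funext i
  rcases i with (i | i) | i
  · have := hx (Pi.single (.inl (.inr i)) 1)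
    rw [stdQ_polar, hR] at this
    simpa [Pi.single_apply] using this
  · have := hx (Pi.single (.inl (.inl i)) 1)
    rw [stdQ_polar, hR] at this
    simpa [Pi.single_apply] using this
  · exact congrFun hR i

variable [Fintype R] [Fintype F]

theorem card_stdQ (m : ℕ) (P : QuadraticForm F (R → F)) (c : F) :
    Nat.card {x : (Fin m ⊕ Fin m) ⊕ R → F // stdQ m P x = c} =
      valNum (Fintype.card F) (Fintype.card R) m (Nat.card {z : R → F // P z = c}) := by
  classical
  let e : {x : (Fin m ⊕ Fin m) ⊕ R → F // stdQ m P x = c} ≃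
      Σ X : Fin m → F, {yz : (Fin m → F) × (R → F) // (∑ i, X i * yz.1 i) + P yz.2 = c} :=
    { toFun := fun x => ⟨fun i => x.1 (.inl (.inl i)), (fun i => x.1 (.inl (.inr i)), fun r => x.1 (.inr r)), by
        rw [← stdQ_apply]; exact x.2⟩
      invFun := fun s => ⟨Sum.elim (Sum.elim s.1 s.2.1.1) s.2.1.2, by rw [stdQ_apply]; exact s.2.2⟩
      left_inv := fun x => Subtype.ext (funext fun i => by rcases i with (i | i) | i <;> rfl)
      right_inv := fun s => rfl }
  have hne : ∀ X : Fin m → F, X ≠ 0 →
      Nat.card {yz : (Fin m → F) × (R → F) // (∑ i, X i * yz.1 i) + P yz.2 = c} =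
        Fintype.card F ^ (m - 1 + Fintype.card R) := by
    intro X hX
    let φ : (Fin m → F) →ₗ[F] F := ∑ i, X i • LinearMap.proj i
    have hφa : ∀ y, φ y = ∑ i, X i * y i := fun y => by simp [φ]
    have hφ : φ ≠ 0 := fun h => hX (funext fun i => by
      have := LinearMap.congr_fun h (Pi.single i 1)
      simpa [hφa, Pi.single_apply] using this)
    let e' : {yz : (Fin m → F) × (R → F) // (∑ i, X i * yz.1 i) + P yz.2 = c} ≃
        Σ z : R → F, {y : Fin m → F // φ y = c - P z} :=
      { toFun := fun s => ⟨s.1.2, s.1.1, by rw [hφa, eq_sub_iff_add_eq]; exact s.2⟩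
        invFun := fun s => ⟨(s.2.1, s.1), by rw [← hφa, s.2.2, sub_add_cancel]⟩
        left_inv := fun s => rfl
        right_inv := fun s => rfl }
    rw [Nat.card_congr e', Nat.card_sigma, Finset.sum_congr rfl fun z _ => card_fibre hφ _,
      Finset.sum_const, Finset.card_univ, smul_eq_mul, finrank_fintype_fun_eq_card, Fintype.card_fun,
      Fintype.card_fin, ← pow_add, add_comm]
  have hz : Nat.card {yz : (Fin m → F) × (R → F) // (∑ i, (0 : Fin m → F) i * yz.1 i) + P yz.2 = c} =
      Fintype.card F ^ m * Nat.card {z : R → F // P z = c} := by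
    have e' : {yz : (Fin m → F) × (R → F) // (∑ i, (0 : Fin m → F) i * yz.1 i) + P yz.2 = c} ≃
        (Fin m → F) × {z : R → F // P z = c} :=
      { toFun := fun s => (s.1.1, ⟨s.1.2, by simpa using s.2⟩)
        invFun := fun s => ⟨(s.1, s.2.1), by simp [s.2.2]⟩
        left_inv := fun s => rfl
        right_inv := fun s => rfl }
    rw [Nat.card_congr e', Nat.card_prod, Nat.card_eq_fintype_card, Fintype.card_fun, Fintype.card_fin]
  rw [Nat.card_congr e, Nat.card_sigma, ← Finset.sum_erase_add _ _ (Finset.mem_univ (0 : Fin m → F)), hz,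
    Finset.sum_congr rfl fun X hX => hne X (Finset.ne_of_mem_erase hX), Finset.sum_const,
    Finset.card_erase_of_mem (Finset.mem_univ _), Finset.card_univ, Fintype.card_fun, Fintype.card_fin,
    smul_eq_mul, valNum]

/-- The order of the isometry group of `Σ xᵢ yᵢ + P`, over any index set. -/
theorem card_isometry {ι : Type} [Fintype ι] [DecidableEq ι] (m : ℕ) (e : ι ≃ (Fin m ⊕ Fin m) ⊕ R)
    (P : QuadraticForm F (R → F)) (hP : PND P) (Qf : (ι → F) → F)
    (hQf : ∀ v, Qf v = stdQ m P (v ∘ e.symm)) (c₀ : F) (K : ℕ)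
    (hbase : ∀ {W : Type u} [AddCommGroup W] [Module F W] [FiniteDimensional F W] (T : QuadraticForm F W),
      PND T → finrank F W = Fintype.card R → Nat.card {x : W // T x = 0} = Nat.card {z : R → F // P z = 0} →
        Nat.card {x : W // T x = c₀} = Nat.card {z : R → F // P z = c₀} →
        Nat.card {g : R → W // (∀ r, T (g r) = P (Pi.single r 1)) ∧
          ∀ r s, polar T (g r) (g s) = polar P (Pi.single r 1) (Pi.single s 1)} = K) :
    Nat.card ↥(Cfsg.isometryGroup F Qf) = K * ∏ i ∈ Finset.range m,
      (valNum (Fintype.card F) (Fintype.card R) (i + 1) (Nat.card {z : R → F // P z = 0}) - 1) *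
        Fintype.card F ^ (2 * i + Fintype.card R) := by
  classical
  let L : (ι → F) ≃ₗ[F] ((Fin m ⊕ Fin m) ⊕ R → F) := LinearEquiv.funCongrLeft F F e.symm
  let M : QuadraticForm F (ι → F) := QuadraticMap.comp (stdQ m P) L.toLinearMap
  have hMa : ∀ v, M v = stdQ m P (L v) := fun v => rfl
  have hMp : ∀ v w, polar M v w = polar (stdQ m P) (L v) (L w) := fun v w => by
    simp only [polar, hMa, map_add]
  have hQM : Qf = ⇑M := funext hQf
  subst hQM
  have hM : PND M := fun x hx => by
    have : L x = 0 := stdQ_pnd m hP _ fun y => by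
      rw [← L.apply_symm_apply y, ← hMp]; exact hx _
    simpa using this
  have hLs : ∀ i, L (Pi.single i 1) = Pi.single (e i) 1 := fun i => funext fun k => by
    show (Pi.single i (1 : F) : ι → F) (e.symm k) = _
    simp [Pi.single_apply, e.symm_apply_eq]
  have hcount : ∀ c, Nat.card {x : ι → F // M x = c} =
      valNum (Fintype.card F) (Fintype.card R) m (Nat.card {z : R → F // P z = c}) := fun c => by
    rw [← card_stdQ]
    exact Nat.card_congr (L.toEquiv.subtypeEquiv fun x => Iff.rfl)
  have hfr : finrank F (ι → F) = 2 * m + Fintype.card R := by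
    rw [finrank_fintype_fun_eq_card, Fintype.card_congr e, Fintype.card_sum, Fintype.card_sum,
      Fintype.card_fin, two_mul]
  rw [← card_fam (Fintype.card R) (fun r => P (Pi.single r 1))
    (fun r s => polar P (Pi.single r 1) (Pi.single s 1)) c₀ _ _ K hbase m hM hfr (hcount 0) (hcount c₀),
    Nat.card_congr (isometryEquiv M hM)]
  refine Nat.card_congr
    { toFun := fun f => ⟨fun k => f.1 (e.symm k), fun k => ?_, fun k l => ?_⟩
      invFun := fun f => ⟨fun i => f.1 (e i), fun i => ?_, fun i j => ?_⟩
      left_inv := fun f => Subtype.ext (funext fun i => by simp)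
      right_inv := fun f => Subtype.ext (funext fun i => by simp) }
  · rw [f.2.1, hMa, hLs, Equiv.apply_symm_apply, stdQ_single]
  · rw [f.2.2, hMp, hLs, hLs, Equiv.apply_symm_apply, Equiv.apply_symm_apply, stdQ_polar_single]
  · rw [f.2.1, hMa, hLs, stdQ_single]
  · rw [f.2.2, hMp, hLs, hLs, stdQ_polar_single]

/-! ### The three types -/

theorem isSquare_div_of_not_sq (_h2 : (2 : F) ≠ 0) {u v : F} (hu : ¬ IsSquare u) (hv : ¬ IsSquare v) :
    IsSquare (u / v) := by
  classical
  have hu0 : u ≠ 0 := fun h => hu (h ▸ IsSquare.zero)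
  have hv0 : v ≠ 0 := fun h => hv (h ▸ IsSquare.zero)
  have h := (quadraticChar_neg_one_iff_not_isSquare (F := F)).mpr hu
  have h' := (quadraticChar_neg_one_iff_not_isSquare (F := F)).mpr hv
  rw [div_eq_mul_inv]
  refine (quadraticChar_one_iff_isSquare (mul_ne_zero hu0 (inv_ne_zero hv0))).mp ?_
  have hvv : quadraticChar F v * quadraticChar F v⁻¹ = 1 := by
    rw [← map_mul, mul_inv_cancel₀ hv0, map_one]
  rw [map_mul, h]
  rw [h'] at hvv
  linarith

/-- The empty form. -/
theorem card_plus (m : ℕ) : Nat.card ↥(Cfsg.isometryGroup F (Cfsg.quadFormPlus m F)) =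
    ∏ i ∈ Finset.range m, (valNum (Fintype.card F) 0 (i + 1) 1 - 1) * Fintype.card F ^ (2 * i) := by
  classical
  have h := card_isometry (R := Empty) m (Equiv.sumEmpty _ _).symm (0 : QuadraticForm F (Empty → F))
    (fun v _ => funext fun r => r.elim) (Cfsg.quadFormPlus m F)
    (fun v => by rw [stdQ_apply]; simp [Cfsg.quadFormPlus]) 0 1
    (fun T _ _ _ _ => by
      rw [Nat.card_eq_one_iff_unique]
      exact ⟨⟨fun a b => Subtype.ext (funext fun r => r.elim)⟩,
        ⟨⟨fun r => r.elim, fun r => r.elim, fun r => r.elim⟩⟩⟩)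
  have h1 : Nat.card {z : Empty → F // (0 : QuadraticForm F (Empty → F)) z = 0} = 1 := by
    rw [Nat.card_eq_one_iff_unique]
    exact ⟨⟨fun a b => Subtype.ext (funext fun r => r.elim)⟩, ⟨⟨fun r => r.elim, rfl⟩⟩⟩
  rw [h, h1, Fintype.card_empty, one_mul]
  rfl

/-- The form `z²`. -/
noncomputable def lineForm (F : Type u) [Field F] : QuadraticForm F (Unit → F) :=
  linMulLin (LinearMap.proj ()) (LinearMap.proj ())

theorem card_odd (h2 : (2 : F) ≠ 0) (m : ℕ) :
    Nat.card ↥(Cfsg.isometryGroup F (Cfsg.quadFormOdd m F)) =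
      2 * ∏ i ∈ Finset.range m, (valNum (Fintype.card F) 1 (i + 1) 1 - 1) * Fintype.card F ^ (2 * i + 1) := by
  classical
  have hP : ∀ z, lineForm F z = z () * z () := fun z => rfl
  have hpnd : PND (lineForm F) := fun v hv => funext fun _ => by
    have h := hv v
    rw [QuadraticMap.polar_self, hP, nsmul_eq_mul, Nat.cast_ofNat] at h
    exact mul_self_eq_zero.mp ((mul_eq_zero.mp h).resolve_left h2)
  have hc0 : Nat.card {z : Unit → F // lineForm F z = 0} = 1 := by
    rw [Nat.card_eq_one_iff_unique]
    refine ⟨⟨fun a b => Subtype.ext (funext fun _ => ?_)⟩, ⟨⟨0, by rw [hP]; simp⟩⟩⟩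
    have ha := a.2; have hb := b.2
    rw [hP] at ha hb
    rw [mul_self_eq_zero.mp ha, mul_self_eq_zero.mp hb]
  have hc1 : Nat.card {z : Unit → F // lineForm F z = 1} = 2 := by
    have hset : (Finset.univ.filter fun x : F => x * x = 1) = {1, -1} := by
      ext x; simp [mul_self_eq_one_iff]
    rw [← Nat.card_congr ((Equiv.funUnique Unit F).symm.subtypeEquiv (p := fun x : F => x * x = 1) fun x => Iff.rfl),
      Nat.card_eq_fintype_card, Fintype.card_subtype, hset, Finset.card_pair]
    intro h
    exact h2 (by linear_combination h)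
  have h := card_isometry (R := Unit) m (Equiv.sumComm _ _) (lineForm F) hpnd (Cfsg.quadFormOdd m F)
    (fun v => by rw [stdQ_apply, hP]; simp [Cfsg.quadFormOdd, _root_.sq, add_comm]) 1 2
    (fun T _ _ _ hT1 => by
      rw [hc1] at hT1
      rw [← hT1]
      exact Nat.card_congr
        { toFun := fun g => ⟨g.1 (), by rw [g.2.1, hP]; simp⟩
          invFun := fun w => ⟨fun _ => w.1, fun _ => by rw [w.2, hP]; simp, fun _ _ => by
            rw [QuadraticMap.polar_self, QuadraticMap.polar_self, w.2, hP]; simp⟩
          left_inv := fun g => rfl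
          right_inv := fun w => rfl })
  rw [h, hc0, Fintype.card_unit]

/-- The binary form `z₁² + a z₁ z₂ + b z₂²`. -/
noncomputable def planeForm (a b : F) : QuadraticForm F (Fin 2 → F) :=
  linMulLin (LinearMap.proj 0) (LinearMap.proj 0) + a • linMulLin (LinearMap.proj 0) (LinearMap.proj 1) +
    b • linMulLin (LinearMap.proj 1) (LinearMap.proj 1)

theorem planeForm_apply (a b : F) (z : Fin 2 → F) :
    planeForm a b z = z 0 ^ 2 + a * z 0 * z 1 + b * z 1 ^ 2 := by
  simp [planeForm]; ring

open Cfsg.Agent.Small.SL2C in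
/-- Anisotropic planes contain `2 (q + 1)` copies of a given anisotropic basis. -/
theorem card_plane {W : Type u} [AddCommGroup W] [Module F W] [FiniteDimensional F W]
    (T : QuadraticForm F W) (hT : PND T) (hW : finrank F W = 2) (haniso : ∀ x, T x = 0 → x = 0)
    (a b : F) (hab : ∀ k : F, k * k + a * k + b ≠ 0) :
    Nat.card {p : W × W // T p.1 = 1 ∧ T p.2 = b ∧ polar T p.1 p.2 = a} = 2 * (Fintype.card F + 1) := by
  classical
  have : Finite W := Module.finite_of_finite F
  have := Fintype.ofFinite W
  have hval : ∀ (u v : W) (α β : F), T (α • u + β • v) = α * α * T u + α * β * polar T u v + β * β * T v := by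
    intro u v α β
    rw [map_two, QuadraticMap.map_smul, QuadraticMap.map_smul, polar_smul_left, polar_smul_right]
    simp only [smul_eq_mul]; ring
  -- a vector of norm one
  obtain ⟨bW⟩ : Nonempty (Basis (Fin 2) F W) := ⟨(Module.finBasisOfFinrankEq F W hW)⟩
  have hu0 : T (bW 0) ≠ 0 := fun h => bW.ne_zero 0 (haniso _ h)
  obtain ⟨x₀, hx₀⟩ : ∃ x, T x = 1 := by
    obtain ⟨α, β, h⟩ := Qf_surjective (t := polar T (bW 0) (bW 1) / T (bW 0)) (d := T (bW 1) / T (bW 0))
      (by
        by_cases h2 : (2 : F) = 0
        · exact Or.inl h2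
        · refine Or.inr fun he => ?_
          have hv := hval (bW 0) (bW 1) (-(polar T (bW 0) (bW 1) / T (bW 0)) / 2) 1
          have h0 : T ((-(polar T (bW 0) (bW 1) / T (bW 0)) / 2) • bW 0 + (1 : F) • bW 1) = 0 := by
            rw [hv]
            field_simp at he ⊢
            linear_combination -he
          have h1 := congrArg (fun w => bW.repr w 1) (haniso _ h0)
          simp at h1) (T (bW 0))⁻¹
    refine ⟨α • bW 0 + β • bW 1, ?_⟩
    rw [hval]
    rw [Qf] at h
    field_simp at h ⊢
    linear_combination h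
  -- the second vectors for a given first
  have hfib : ∀ x : {x : W // T x = 1},
      Nat.card {y : W // T y = b ∧ polar T x.1 y = a} = 2 ∧ Nat.card {x : W // T x = 1} = Fintype.card F + 1 := by
    rintro ⟨x, hx⟩
    have hx0 : x ≠ 0 := fun h => by rw [h, QuadraticMap.map_zero] at hx; exact zero_ne_one hx
    obtain ⟨z, hz⟩ : ∃ z, z ∉ Submodule.span F {x} := by
      by_contra! h
      have : (Submodule.span F {x}) = ⊤ := eq_top_iff.mpr fun w _ => h w
      have h1 := finrank_span_singleton (K := F) hx0
      rw [this, finrank_top, hW] at h1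
      omega
    have hind : LinearIndependent F ![x, z] := by
      rw [LinearIndependent.pair_iff]
      intro s t hst
      by_cases ht : t = 0
      · rw [ht, zero_smul, add_zero] at hst
        exact ⟨(smul_eq_zero.mp hst).resolve_right hx0, ht⟩
      · refine absurd (Submodule.mem_span_singleton.mpr ⟨-s / t, ?_⟩) hz
        have e : z = t⁻¹ • (t • z) := by rw [smul_smul, inv_mul_cancel₀ ht, one_smul]
        rw [e, show t • z = -(s • x) from eq_neg_of_add_eq_zero_right hst, smul_neg, smul_smul,
          ← neg_smul]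
        congr 1
        field_simp
    let B : Basis (Fin 2) F W := basisOfLinearIndependentOfCardEqFinrank hind (by simp [hW])
    let E : F × F ≃ W :=
      { toFun := fun p => p.1 • x + p.2 • z
        invFun := fun w => (B.repr w 0, B.repr w 1)
        left_inv := fun p => by
          have e : p.1 • x + p.2 • z = p.1 • B 0 + p.2 • B 1 := by simp [B]
          refine Prod.ext ?_ ?_ <;> simp [e]
        right_inv := fun w => by
          have := B.sum_repr w
          rw [Fin.sum_univ_two] at this
          simpa [B] using this }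
    set t := polar T x z with ht
    set d := T z with hd
    have hEq : ∀ p : F × F, T (E p) = Qf t d p.1 p.2 := fun p => by
      show T (p.1 • x + p.2 • z) = _
      rw [hval, hx, Qf]; ring
    have hpol : ∀ p : F × F, polar T x (E p) = 2 * p.1 + t * p.2 := fun p => by
      show polar T x (p.1 • x + p.2 • z) = _
      rw [polar_add_right, polar_smul_right, polar_smul_right, QuadraticMap.polar_self, hx]
      simp [ht]; ring
    have hroot : ∀ k : F, k * k + t * k + d ≠ 0 := fun k hk => by
      have h0 : T (E (k, 1)) = 0 := by rw [hEq, Qf]; linear_combination hk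
      have := congrArg Prod.snd (E.injective ((haniso _ h0).trans (show (0 : W) = E (0, 0) by simp [E])))
      simp at this
    have htd : t * t ≠ 4 * d := by
      intro he
      by_cases h2 : (2 : F) = 0
      · have ht0 : t = 0 := mul_self_eq_zero.mp (by linear_combination he + 2 * d * h2)
        obtain ⟨s, hs⟩ := isSquare_of_two h2 d
        exact hroot s (by rw [ht0]; linear_combination hs + d * h2)
      · refine hroot (-t / 2) ?_
        field_simp
        linear_combination -he
    refine ⟨?_, ?_⟩
    swap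
    · have hsol := sol_add_roots htd
      have hr0 : roots t d = 0 := by
        rw [roots, Nat.card_eq_zero]; exact Or.inl ⟨fun k => hroot k.1 k.2⟩
      rw [hr0, add_zero, sol] at hsol
      rw [← hsol]
      exact (Nat.card_congr (E.subtypeEquiv fun p => by rw [hEq])).symm
    rw [← Nat.card_congr (E.subtypeEquiv (p := fun p => Qf t d p.1 p.2 = b ∧ 2 * p.1 + t * p.2 = a)
      fun p => by rw [hEq, hpol])]
    by_cases h2 : (2 : F) = 0
    · -- characteristic two
      have ht0 : t ≠ 0 := fun h => htd (by rw [h]; linear_combination (-(2 : F) * d) * h2)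
      have ha0 : a ≠ 0 := fun h => by
        obtain ⟨s, hs⟩ := isSquare_of_two h2 b
        exact hab s (by rw [h]; linear_combination hs + b * h2)
      let f : F →+ F :=
        { toFun := fun s => s * s + a * s
          map_zero' := by ring
          map_add' := fun u v => by linear_combination u * v * h2 }
      have hker : Nat.card f.ker = 2 := by
        rw [Nat.card_eq_two_iff]
        refine ⟨⟨0, AddMonoidHom.mem_ker.mpr (map_zero f)⟩, ⟨a, AddMonoidHom.mem_ker.mpr (by
          show a * a + a * a = 0
          linear_combination a * a * h2)⟩, fun h => ha0 (congrArg Subtype.val h).symm, ?_⟩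
        refine Set.eq_univ_of_forall fun s => ?_
        have hs : s.1 * s.1 + a * s.1 = 0 := s.2
        rcases mul_eq_zero.mp (show s.1 * (s.1 + a) = 0 by linear_combination hs) with h | h
        · exact Or.inl (Subtype.ext h)
        · exact Or.inr (Subtype.ext (show s.1 = a by linear_combination h - a * h2))
      have hidx : f.range.index = 2 := by
        have h1 := AddSubgroup.card_mul_index f.ker
        have h3 := AddSubgroup.card_mul_index f.range
        rw [AddSubgroup.index_ker] at h1
        rw [hker] at h1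
        refine Nat.eq_of_mul_eq_mul_left (Nat.card_pos : 0 < Nat.card f.range) ?_
        rw [h3, ← h1, mul_comm]
      have hb : b ∉ f.range := fun ⟨s, hs⟩ => hab s (by
        have : s * s + a * s = b := hs
        linear_combination this + b * h2)
      have hd' : d * (a / t) ^ 2 ∉ f.range := fun ⟨s, hs⟩ => hroot (t / a * s) (by
        have : s * s + a * s = d * (a / t) ^ 2 := hs
        field_simp at this ⊢
        linear_combination this + a ^ 2 * d * h2)
      obtain ⟨α₀, hα₀⟩ : b + d * (a / t) ^ 2 ∈ f.range :=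
        (AddSubgroup.add_mem_iff_of_index_two hidx).mpr (iff_of_false hb hd')
      have hα₀' : α₀ * α₀ + a * α₀ = b + d * (a / t) ^ 2 := hα₀
      rw [← hker]
      exact Nat.card_congr
        { toFun := fun p => ⟨p.1.1 - α₀, by
            have hβ : p.1.2 = a / t := by
              rw [eq_div_iff ht0]; linear_combination p.2.2 - p.1.1 * h2
            have h := p.2.1
            rw [Qf, hβ] at h
            rw [AddMonoidHom.mem_ker]
            show (p.1.1 - α₀) * (p.1.1 - α₀) + a * (p.1.1 - α₀) = 0
            field_simp at h hα₀' ⊢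
            refine mul_right_cancel₀ (pow_ne_zero 2 ht0) ?_
            linear_combination h - hα₀' + (α₀ * α₀ * t ^ 2 - α₀ * p.1.1 * t ^ 2 - a ^ 2 * d) * h2⟩
          invFun := fun s => ⟨(s.1 + α₀, a / t), by
            have hs : s.1 * s.1 + a * s.1 = 0 := s.2
            refine ⟨?_, ?_⟩
            · rw [Qf]
              field_simp at hα₀' ⊢
              linear_combination t ^ 2 * hs + hα₀' + (s.1 * α₀ * t ^ 2 + a ^ 2 * d) * h2
            · field_simp
              linear_combination (s.1 + α₀) * h2⟩
          left_inv := fun p => Subtype.ext (Prod.ext (sub_add_cancel _ _) (by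
            show a / t = p.1.2
            rw [div_eq_iff ht0]; linear_combination p.1.1 * h2 - p.2.2))
          right_inv := fun s => Subtype.ext (add_sub_cancel_right _ _) }
    · -- odd characteristic
      have hsq : ∀ u v : F, (∀ k : F, k * k + u * k + v ≠ 0) → ¬ IsSquare (u * u - 4 * v) := by
        rintro u v h ⟨s, hs⟩
        refine h ((s - u) / 2) ?_
        field_simp
        linear_combination -hs
      have hn1 := hsq t d hroot
      have hn2 := hsq a b hab
      obtain ⟨e, he⟩ : IsSquare ((a * a - 4 * b) / (t * t - 4 * d)) := by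
        have h0 : t * t - 4 * d ≠ 0 := sub_ne_zero.mpr htd
        have h1 : a * a - 4 * b ≠ 0 := fun h => hn2 (by rw [h]; exact IsSquare.zero)
        exact isSquare_div_of_not_sq h2 hn2 hn1
      have he0 : e ≠ 0 := fun h => by
        rw [h, mul_zero, div_eq_zero_iff] at he
        rcases he with h' | h'
        · exact hn2 (by rw [h']; exact IsSquare.zero)
        · exact htd (sub_eq_zero.mp h')
      rw [div_eq_iff (sub_ne_zero.mpr htd)] at he
      have hset : (Finset.univ.filter fun p : F × F => Qf t d p.1 p.2 = b ∧ 2 * p.1 + t * p.2 = a) =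
          {((a - t * e) / 2, e), ((a + t * e) / 2, -e)} := by
        ext ⟨α, β⟩
        rw [Finset.mem_filter]
        simp only [Finset.mem_univ, true_and, Finset.mem_insert, Finset.mem_singleton,
          Prod.mk.injEq, Qf]
        constructor
        · rintro ⟨h, hl⟩
          have hα : α = (a - t * β) / 2 := by field_simp; linear_combination hl
          have hβ : (β - e) * (β + e) = 0 := by
            refine mul_left_cancel₀ (sub_ne_zero.mpr htd) ?_
            linear_combination (-4) * h + he + (2 * α + t * β + a) * hl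
          rcases mul_eq_zero.mp hβ with h' | h'
          · have : β = e := sub_eq_zero.mp h'
            exact Or.inl ⟨by rw [hα, this], this⟩
          · have : β = -e := eq_neg_of_add_eq_zero_left h'
            exact Or.inr ⟨by rw [hα, this]; ring, this⟩
        · rintro (⟨rfl, rfl⟩ | ⟨rfl, rfl⟩) <;> refine ⟨?_, by field_simp; ring⟩ <;> field_simp <;>
            linear_combination he
      rw [Nat.card_eq_fintype_card, Fintype.card_subtype, hset, Finset.card_pair]
      intro h
      have := congrArg Prod.snd h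
      exact he0 ((mul_eq_zero.mp (show (2 : F) * e = 0 by linear_combination this)).resolve_left h2)
  let e : {p : W × W // T p.1 = 1 ∧ T p.2 = b ∧ polar T p.1 p.2 = a} ≃
      Σ x : {x : W // T x = 1}, {y : W // T y = b ∧ polar T x.1 y = a} :=
    { toFun := fun p => ⟨⟨p.1.1, p.2.1⟩, ⟨p.1.2, p.2.2⟩⟩
      invFun := fun s => ⟨(s.1.1, s.2.1), s.1.2, s.2.2⟩
      left_inv := fun p => rfl
      right_inv := fun s => rfl }
  rw [Nat.card_congr e, Nat.card_sigma, Finset.sum_congr rfl fun x _ => (hfib x).1, Finset.sum_const,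
    Finset.card_univ, smul_eq_mul, ← Nat.card_eq_fintype_card, (hfib ⟨x₀, hx₀⟩).2, mul_comm]

theorem card_minus (m : ℕ) (a b : F)
    (hab : ∀ z₁ z₂ : F, z₁ ^ 2 + a * z₁ * z₂ + b * z₂ ^ 2 = 0 → z₁ = 0 ∧ z₂ = 0) :
    Nat.card ↥(Cfsg.isometryGroup F (Cfsg.quadFormMinus m F a b)) =
      2 * (Fintype.card F + 1) *
        ∏ i ∈ Finset.range m, (valNum (Fintype.card F) 2 (i + 1) 1 - 1) * Fintype.card F ^ (2 * i + 2) := by
  classical
  have hk : ∀ k : F, k * k + a * k + b ≠ 0 := fun k h =>
    one_ne_zero (hab k 1 (by linear_combination h)).2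
  have hne : ∀ v : Fin 2 → F, planeForm a b v = 0 → v = 0 := fun v hv => by
    rw [planeForm_apply] at hv
    obtain ⟨h1, h2⟩ := hab _ _ hv
    funext i; fin_cases i <;> assumption
  have hpnd : PND (planeForm a b) := fun v hv => by
    by_cases h2 : (2 : F) = 0
    · have ha0 : a ≠ 0 := fun h => by
        obtain ⟨s, hs⟩ := Cfsg.Agent.Small.SL2C.isSquare_of_two h2 b
        exact hk s (by rw [h]; linear_combination hs + b * h2)
      have e1 := hv (Pi.single 0 1)
      have e2 := hv (Pi.single 1 1)
      simp only [polar, planeForm_apply, Pi.add_apply, Pi.single_eq_same, ne_eq, Fin.reduceEq,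
        not_false_eq_true, Pi.single_eq_of_ne] at e1 e2
      have hv1 : v 1 = 0 := (mul_eq_zero.mp (show a * v 1 = 0 by linear_combination e1 - v 0 * h2)).resolve_left ha0
      have hv0 : v 0 = 0 := (mul_eq_zero.mp (show a * v 0 = 0 by linear_combination e2 - b * v 1 * h2)).resolve_left ha0
      funext i; fin_cases i <;> assumption
    · have h := hv v
      rw [QuadraticMap.polar_self, nsmul_eq_mul, Nat.cast_ofNat] at h
      exact hne v ((mul_eq_zero.mp h).resolve_left h2)
  have hc0 : Nat.card {z : Fin 2 → F // planeForm a b z = 0} = 1 := by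
    rw [Nat.card_eq_one_iff_unique]
    exact ⟨⟨fun u v => Subtype.ext ((hne _ u.2).trans (hne _ v.2).symm)⟩, ⟨⟨0, QuadraticMap.map_zero _⟩⟩⟩
  have hp : ∀ r s, polar (planeForm a b) (Pi.single r 1) (Pi.single s 1) =
      ![![(2 : F), a], ![a, 2 * b]] r s := by
    intro r s
    fin_cases r <;> fin_cases s <;> simp [polar, planeForm_apply] <;> ring
  have hv : ∀ r, planeForm a b (Pi.single r 1) = ![(1 : F), b] r := by
    intro r; fin_cases r <;> simp [planeForm_apply]
  have h := card_isometry (R := Fin 2) m (Equiv.refl _) (planeForm a b) hpnd (Cfsg.quadFormMinus m F a b)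
    (fun v => by rw [stdQ_apply, planeForm_apply]; rfl) 0 (2 * (Fintype.card F + 1))
    (fun {W} _ _ _ T hT hd h0 _ => by
      rw [hc0] at h0
      rw [Fintype.card_fin] at hd
      have haniso : ∀ x : W, T x = 0 → x = 0 := fun x hx => by
        have := (Nat.card_eq_one_iff_unique.mp h0).1
        exact congrArg Subtype.val (Subsingleton.elim (⟨x, hx⟩ : {y : W // T y = 0}) ⟨0, QuadraticMap.map_zero _⟩)
      rw [← card_plane T hT hd haniso a b hk]
      exact Nat.card_congr
        { toFun := fun g => ⟨(g.1 0, g.1 1), by rw [g.2.1, hv]; rfl, by rw [g.2.1, hv]; rfl,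
            by rw [g.2.2, hp]; rfl⟩
          invFun := fun p => ⟨![p.1.1, p.1.2], fun r => by
              rw [hv]; fin_cases r <;> simp [p.2.1, p.2.2.1], fun r s => by
              rw [hp]; fin_cases r <;> fin_cases s <;>
                simp [QuadraticMap.polar_self, p.2.1, p.2.2.1, p.2.2.2, polar_comm T p.1.2 p.1.1]⟩
          left_inv := fun g => Subtype.ext (funext fun r => by fin_cases r <;> rfl)
          right_inv := fun p => rfl })
  rw [h, hc0, Fintype.card_fin]

end Cfsg.Agent.Classical.OCount
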