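import Cfsg.Agent.Lib.Classical.OrthIndex
import Cfsg.Agent.Lib.Classical.OrthOrders

/-!
# The three standard forms as quadratic forms
-/

set_option autoImplicit false
set_option linter.unusedSectionVars false

namespace Cfsg.Agent.Classical.OOmega

open Module QuadraticMap OCount ORefl Matrix

variable {F : Type*} [Field F] {R : Type} [Fintype R] [DecidableEq R] {ι : Type} [Fintype ι] [DecidableEq ι]

/-- `Σ xᵢ yᵢ + P` on coordinates `ι`. -/
noncomputable def formOf (m : ℕ) (e : ι ≃ (Fin m ⊕ Fin m) ⊕ R) (P : QuadraticForm F (R → F)) :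
    QuadraticForm F (ι → F) :=
  QuadraticMap.comp (stdQ m P) (LinearEquiv.funCongrLeft F F e.symm).toLinearMap

theorem formOf_apply (m : ℕ) (e : ι ≃ (Fin m ⊕ Fin m) ⊕ R) (P : QuadraticForm F (R → F)) (x : ι → F) :
    formOf m e P x = stdQ m P fun k => x (e.symm k) := rfl

theorem formOf_polar (m : ℕ) (e : ι ≃ (Fin m ⊕ Fin m) ⊕ R) (P : QuadraticForm F (R → F)) (x y : ι → F) :
    polar (formOf m e P) x y = polar (stdQ m P) (fun k => x (e.symm k)) fun k => y (e.symm k) := rfl

theorem formOf_pnd {m : ℕ} {e : ι ≃ (Fin m ⊕ Fin m) ⊕ R} {P : QuadraticForm F (R → F)} (hP : PND P) :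
    PND (formOf m e P) := fun x hx => by
  have h : (fun k => x (e.symm k)) = 0 := stdQ_pnd m hP _ fun y => by
    have := hx fun i => y (e i)
    rw [formOf_polar] at this
    simpa using this
  funext i
  have := congrFun h (e i)
  simpa using this

theorem coe_plus (m : ℕ) :
    ⇑(formOf m (Equiv.sumEmpty (Fin m ⊕ Fin m) Empty).symm (0 : QuadraticForm F (Empty → F))) =
      Cfsg.quadFormPlus m F :=
  funext fun v => by rw [formOf_apply, stdQ_apply]; simp [Cfsg.quadFormPlus]

theorem coe_odd (m : ℕ) :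
    ⇑(formOf m (Equiv.sumComm Unit (Fin m ⊕ Fin m)) (lineForm F)) = Cfsg.quadFormOdd m F :=
  funext fun v => by
    rw [formOf_apply, stdQ_apply, show ∀ z, lineForm F z = z () * z () from fun z => rfl]
    simp [Cfsg.quadFormOdd, _root_.sq, add_comm]

theorem coe_minus [Fintype F] (m : ℕ) (a b : F) :
    ⇑(formOf m (Equiv.refl ((Fin m ⊕ Fin m) ⊕ Fin 2)) (planeForm a b)) = Cfsg.quadFormMinus m F a b :=
  funext fun v => by rw [formOf_apply, stdQ_apply, planeForm_apply]; rfl

theorem pnd_empty : PND (0 : QuadraticForm F (Empty → F)) := fun _ _ => funext fun r => r.elim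

theorem pnd_line (h2 : (2 : F) ≠ 0) : PND (lineForm F) := fun v hv => funext fun _ => by
  have h := hv v
  rw [QuadraticMap.polar_self, show lineForm F v = v () * v () from rfl, nsmul_eq_mul, Nat.cast_ofNat] at h
  exact mul_self_eq_zero.mp ((mul_eq_zero.mp h).resolve_left h2)

theorem pnd_plane [Finite F] {a b : F} (hab : ∀ z₁ z₂ : F, z₁ ^ 2 + a * z₁ * z₂ + b * z₂ ^ 2 = 0 → z₁ = 0 ∧ z₂ = 0) :
    PND (planeForm a b) := fun v hv => by
  haveI := Fintype.ofFinite F
  by_cases h2 : (2 : F) = 0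
  · have ha0 : a ≠ 0 := fun h => by
      haveI : CharP F 2 := CharTwo.of_one_ne_zero_of_two_eq_zero one_ne_zero h2
      obtain ⟨s, hs⟩ := FiniteField.isSquare_of_char_two (ringChar.eq F 2) b
      exact one_ne_zero (hab s 1 (by rw [h]; linear_combination hs + s * s * h2)).2
    have e1 := hv (Pi.single 0 1)
    have e2 := hv (Pi.single 1 1)
    simp only [polar, planeForm_apply, Pi.add_apply, Pi.single_eq_same, ne_eq, Fin.reduceEq,
      not_false_eq_true, Pi.single_eq_of_ne] at e1 e2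
    have hv1 : v 1 = 0 := (mul_eq_zero.mp (show a * v 1 = 0 by linear_combination e1 - v 0 * h2)).resolve_left ha0
    have hv0 : v 0 = 0 := (mul_eq_zero.mp (show a * v 0 = 0 by linear_combination e2 - b * v 1 * h2)).resolve_left ha0
    funext i; fin_cases i <;> assumption
  · have h := hv v
    rw [QuadraticMap.polar_self, nsmul_eq_mul, Nat.cast_ofNat, planeForm_apply] at h
    obtain ⟨h1, h3⟩ := hab _ _ ((mul_eq_zero.mp h).resolve_left h2)
    funext i; fin_cases i <;> assumption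

/-- The basis vectors of the standard form. -/
def bv {m : ℕ} (e : ι ≃ (Fin m ⊕ Fin m) ⊕ R) (k : (Fin m ⊕ Fin m) ⊕ R) : ι → F := Pi.single (e.symm k) 1

theorem bv_eq {m : ℕ} (e : ι ≃ (Fin m ⊕ Fin m) ⊕ R) (k : (Fin m ⊕ Fin m) ⊕ R) :
    (fun l => (bv e k : ι → F) (e.symm l)) = Pi.single k 1 := by
  funext l; simp [bv, Pi.single_apply]

theorem formOf_bv (m : ℕ) (e : ι ≃ (Fin m ⊕ Fin m) ⊕ R) (P : QuadraticForm F (R → F)) (k : (Fin m ⊕ Fin m) ⊕ R) :
    formOf m e P (bv e k) = Sum.elim (fun _ => 0) (fun r => P (Pi.single r 1)) k := by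
  rw [formOf_apply, bv_eq, stdQ_single]

theorem formOf_polar_bv (m : ℕ) (e : ι ≃ (Fin m ⊕ Fin m) ⊕ R) (P : QuadraticForm F (R → F))
    (k l : (Fin m ⊕ Fin m) ⊕ R) :
    polar (formOf m e P) (bv e k) (bv e l) =
      gram (fun r s => polar P (Pi.single r 1) (Pi.single s 1)) k l := by
  rw [formOf_polar, bv_eq, bv_eq, stdQ_polar_single]

end Cfsg.Agent.Classical.OOmega
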