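/-
The special unitary group in dimension at least five: elements, irreducibility, and the geometric members
it is not contained in.
-/
import Cfsg.Agent.Lib.Classical.UnitaryForm
import Cfsg.Agent.Lib.Classical.LinMaximal

set_option autoImplicit false
set_option linter.style.haveILetI false

namespace Cfsg.Agent.Classical

open Matrix Cfsg.Geo
open scoped commutatorElement

variable {n : ℕ} {F : Type*} [Field F] {q : ℕ}

/-- The special unitary group inside GL. -/
abbrev suGL (n : ℕ) (F : Type*) [Field F] (q : ℕ) : Subgroup (GL (Fin n) F) := GU n F q ⊓ specialLinear (Fin n) F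

theorem exists_five_avoid (s : Finset (Fin n)) (h : s.card < n) : ∃ k, k ∉ s := by
  obtain ⟨k, -, hk⟩ := Finset.exists_mem_notMem_of_card_lt_card (s := s) (t := Finset.univ) (by simpa using h)
  exact ⟨k, hk⟩

theorem exists_avoid_two {a b : Fin n} (h : 3 ≤ n) : ∃ k, k ≠ a ∧ k ≠ b := by
  obtain ⟨k, hk⟩ := exists_five_avoid {a, b} (lt_of_le_of_lt Finset.card_le_two (by omega))
  simp only [Finset.mem_insert, Finset.mem_singleton, not_or] at hk
  exact ⟨k, hk⟩

theorem exists_avoid {a b c d : Fin n} (h : 5 ≤ n) : ∃ k, k ≠ a ∧ k ≠ b ∧ k ≠ c ∧ k ≠ d := by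
  obtain ⟨k, hk⟩ := exists_five_avoid {a, b, c, d} (lt_of_le_of_lt Finset.card_le_four (by omega))
  simp only [Finset.mem_insert, Finset.mem_singleton, not_or] at hk
  exact ⟨k, hk⟩

/-- The matrix permuting the coordinates. -/
def permGL (π : Equiv.Perm (Fin n)) : GL (Fin n) F :=
  ⟨π.toPEquiv.toMatrix, π.symm.toPEquiv.toMatrix,
    by rw [← PEquiv.toMatrix_trans, ← Equiv.toPEquiv_trans, Equiv.self_trans_symm, Equiv.toPEquiv_refl, PEquiv.toMatrix_refl],
    by rw [← PEquiv.toMatrix_trans, ← Equiv.toPEquiv_trans, Equiv.symm_trans_self, Equiv.toPEquiv_refl, PEquiv.toMatrix_refl]⟩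

theorem permGL_mulVec (π : Equiv.Perm (Fin n)) (u : Fin n → F) (k : Fin n) :
    ((permGL π : GL (Fin n) F) : Matrix (Fin n) (Fin n) F) *ᵥ u = fun k => u (π k) := by
  have := PEquiv.toMatrix_toPEquiv_mulVec π u
  exact this

theorem diagGL_exists {d : Fin n → F} (hd : ∏ i, d i = 1) :
    ∃ g : GL (Fin n) F, (g : Matrix (Fin n) (Fin n) F) = Matrix.diagonal d ∧ g ∈ specialLinear (Fin n) F := by
  have h : (Matrix.diagonal d).det = 1 := by rw [Matrix.det_diagonal, hd]
  exact ⟨Matrix.GeneralLinearGroup.mkOfDetNeZero (Matrix.diagonal d) (fun e => one_ne_zero (h.symm.trans e)), rfl, mem_specialLinear_iff.mpr h⟩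

/-- `ζ` at `i`, `ζ⁻¹` at `j`. -/
def pairDiag (i j : Fin n) (ζ : F) : Fin n → F := fun k => if k = i then ζ else if k = j then ζ⁻¹ else 1

theorem pairDiag_prod {i j : Fin n} (h : i ≠ j) {ζ : F} (hζ : ζ ≠ 0) : ∏ k, pairDiag i j ζ k = 1 := by
  have e : ∀ k, pairDiag i j ζ k = (if k = i then ζ else 1) * (if k = j then ζ⁻¹ else 1) := fun k => by
    simp only [pairDiag]
    split_ifs <;> simp_all
  simp only [e, Finset.prod_mul_distrib, Finset.prod_ite_eq', Finset.mem_univ, if_true, mul_inv_cancel₀ hζ]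

variable [Fintype F] {σ : F ≃+* F} (hσ : IsUSigma q σ)

include hσ

theorem IsUSigma.diag_mem_GU {g : GL (Fin n) F} {d : Fin n → F} (hg : (g : Matrix (Fin n) (Fin n) F) = Matrix.diagonal d)
    (hd : ∀ i, d i * σ (d i) = 1) : g ∈ GU n F q := by
  rw [mem_GU_iff]
  intro u v
  rw [hg, hσ.hermForm_eq, hσ.hermForm_eq]
  refine Finset.sum_congr rfl fun i _ => ?_
  rw [Matrix.mulVec_diagonal, Matrix.mulVec_diagonal, map_mul]
  linear_combination u i * σ (v i) * hd i

theorem IsUSigma.exists_pair {i j : Fin n} (h : i ≠ j) {ζ : F} (hζ : ζ * σ ζ = 1) :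
    ∃ g ∈ suGL n F q, (g : Matrix (Fin n) (Fin n) F) = Matrix.diagonal (pairDiag i j ζ) := by
  have hζ0 : ζ ≠ 0 := left_ne_zero_of_mul_eq_one hζ
  obtain ⟨g, hg, hgs⟩ := diagGL_exists (pairDiag_prod h hζ0)
  refine ⟨g, ⟨hσ.diag_mem_GU hg fun k => ?_, hgs⟩, hg⟩
  simp only [pairDiag]
  split_ifs
  · exact hζ
  · rw [map_inv₀, ← mul_inv, hζ, inv_one]
  · simp

theorem IsUSigma.perm_mem {π : Equiv.Perm (Fin n)} (h : Equiv.Perm.sign π = 1) :
    (permGL π : GL (Fin n) F) ∈ suGL n F q := by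
  refine ⟨mem_GU_iff.mpr fun u v => ?_, mem_specialLinear_iff.mpr ?_⟩
  · rw [hσ.hermForm_eq, hσ.hermForm_eq]
    conv_rhs => rw [← Equiv.sum_comp π]
    exact Finset.sum_congr rfl fun k _ => by rw [permGL_mulVec π u k, permGL_mulVec π v k]
  · change Matrix.det (π.toPEquiv.toMatrix : Matrix (Fin n) (Fin n) F) = 1
    rw [show (π.toPEquiv.toMatrix : Matrix (Fin n) (Fin n) F) = π.permMatrix F from rfl, Matrix.det_permutation, h]
    simp

theorem IsUSigma.pair_mem_derived (h5 : 5 ≤ n) {i j : Fin n} (h : i ≠ j) {ζ : F} (hζ : ζ * σ ζ = 1) :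
    ∃ g ∈ ⁅suGL n F q, suGL n F q⁆, (g : Matrix (Fin n) (Fin n) F) = Matrix.diagonal (pairDiag i j ζ) := by
  obtain ⟨k, hki, hkj, -, -⟩ := exists_avoid (a := i) (b := j) (c := i) (d := j) h5
  obtain ⟨l, hli, hlj, hlk, -⟩ := exists_avoid (a := i) (b := j) (c := k) (d := i) h5
  obtain ⟨m, hmi, hmj, hmk, hml⟩ := exists_avoid (a := i) (b := j) (c := k) (d := l) h5
  obtain ⟨d, hd, hdm⟩ := hσ.exists_pair hkj.symm hζ
  let π : Equiv.Perm (Fin n) := Equiv.swap j i * Equiv.swap l m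
  have hπ : Equiv.Perm.sign π = 1 := by simp [π, Equiv.Perm.sign_swap h.symm, Equiv.Perm.sign_swap hml.symm]
  have hP := hσ.perm_mem (F := F) hπ
  refine ⟨⁅permGL π, d⁆, Subgroup.commutator_mem_commutator hP hd, ?_⟩
  have hdi : ((d⁻¹ : GL (Fin n) F) : Matrix (Fin n) (Fin n) F) = Matrix.diagonal (fun x => (pairDiag j k ζ x)⁻¹) := by
    rw [Matrix.coe_units_inv]
    refine Matrix.inv_eq_right_inv ?_
    rw [hdm, Matrix.diagonal_mul_diagonal, ← Matrix.diagonal_one]
    congr 1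
    ext x
    exact mul_inv_cancel₀ (by
      have hζ0 : ζ ≠ 0 := left_ne_zero_of_mul_eq_one hζ
      simp only [pairDiag]; split_ifs <;> simp [hζ0])
  have hPi : ((permGL π : GL (Fin n) F))⁻¹ = permGL π.symm := inv_eq_of_mul_eq_one_right (Units.ext (permGL π).val_inv)
  refine Matrix.toLin'.injective (LinearMap.ext fun u => funext fun x => ?_)
  simp only [Matrix.toLin'_apply, commutatorElement_def, gl_mul_mulVec, hdm, hdi, hPi]
  rw [permGL_mulVec π _ x]
  simp only [Matrix.mulVec_diagonal, permGL_mulVec π.symm _ x, Equiv.symm_apply_apply]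
  have hζ0 : ζ ≠ 0 := left_ne_zero_of_mul_eq_one hζ
  have hπi : π i = j := by
    simp only [π, Equiv.Perm.mul_apply]
    rw [Equiv.swap_apply_of_ne_of_ne hli.symm hmi.symm, Equiv.swap_apply_right]
  have hπj : π j = i := by
    simp only [π, Equiv.Perm.mul_apply]
    rw [Equiv.swap_apply_of_ne_of_ne hlj.symm hmj.symm, Equiv.swap_apply_left]
  have hπk : π k = k := by
    simp only [π, Equiv.Perm.mul_apply]
    rw [Equiv.swap_apply_of_ne_of_ne hlk.symm hmk.symm, Equiv.swap_apply_of_ne_of_ne hkj hki]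
  simp only [pairDiag]
  rcases eq_or_ne x i with rfl | hxi
  · rw [hπi]; simp [hki.symm, h, hζ0]
  rcases eq_or_ne x j with rfl | hxj
  · rw [hπj]; simp [hkj.symm, hki.symm, h, h.symm, hζ0]
  rcases eq_or_ne x k with rfl | hxk
  · rw [hπk]; simp [h, hki, hki.symm, hkj, hζ0]
  have h1 : π x ≠ j := fun e => hxi (π.injective (e.trans hπi.symm))
  have h2 : π x ≠ k := fun e => hxk (π.injective (e.trans hπk.symm))
  simp [hxi, hxj, hxk, h1, h2]

/-- Only scalars commute with the derived group. -/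
theorem IsUSigma.derived_centralizer (h5 : 5 ≤ n) {M : Matrix (Fin n) (Fin n) F}
    (hM : ∀ g ∈ ⁅suGL n F q, suGL n F q⁆, Commute (g : Matrix (Fin n) (Fin n) F) M) :
    ∃ c : F, M = c • (1 : Matrix (Fin n) (Fin n) F) := by
  classical
  obtain ⟨ζ, hζ, hζ1, hζ2, -⟩ := hσ.exists_norm_one
  have hdiag : ∀ a b, a ≠ b → M a b = 0 := by
    intro a b hab
    obtain ⟨g, hg, hgm⟩ := hσ.pair_mem_derived h5 hab hζ
    have h := congrFun (congrFun (hM g hg).eq a) b
    rw [hgm, Matrix.diagonal_mul, Matrix.mul_diagonal] at h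
    simp only [pairDiag, if_true, if_neg hab.symm] at h
    have : ζ - ζ⁻¹ ≠ 0 := sub_ne_zero.mpr fun e => hζ2 (by
      rw [sq]; nth_rewrite 2 [e]; exact mul_inv_cancel₀ (left_ne_zero_of_mul_eq_one hζ))
    exact (mul_eq_zero.mp (show (ζ - ζ⁻¹) * M a b = 0 by linear_combination h)).resolve_left this
  have heq : ∀ a b, M a a = M b b := by
    intro a b
    by_cases hab : a = b
    · rw [hab]
    obtain ⟨c, hca, hcb, -, -⟩ := exists_avoid (a := a) (b := b) (c := a) (d := b) h5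
    obtain ⟨x, hxa, hxb, hxc, -⟩ := exists_avoid (a := a) (b := b) (c := c) (d := a) h5
    obtain ⟨y, hya, hyb, hyc, hyx⟩ := exists_avoid (a := a) (b := b) (c := c) (d := x) h5
    let π₁ : Equiv.Perm (Fin n) := Equiv.swap a b * Equiv.swap x y
    let π₂ : Equiv.Perm (Fin n) := Equiv.swap b c * Equiv.swap x y
    have h1 := hσ.perm_mem (F := F) (π := π₁) (by simp [π₁, Equiv.Perm.sign_swap hab, Equiv.Perm.sign_swap hyx.symm])
    have h2 := hσ.perm_mem (F := F) (π := π₂) (by simp [π₂, Equiv.Perm.sign_swap hcb.symm, Equiv.Perm.sign_swap hyx.symm])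
    have hinv : ∀ π : Equiv.Perm (Fin n), (permGL π : GL (Fin n) F)⁻¹ = permGL π.symm := fun π =>
      inv_eq_of_mul_eq_one_right (Units.ext (permGL π).val_inv)
    have hc : ∀ u : Fin n → F, ((⁅permGL π₁, permGL π₂⁆ : GL (Fin n) F) : Matrix (Fin n) (Fin n) F) *ᵥ u =
        fun k => u (π₂.symm (π₁.symm (π₂ (π₁ k)))) := fun u => by
      funext k
      rw [commutatorElement_def, gl_mul_mulVec, gl_mul_mulVec, gl_mul_mulVec, hinv, hinv]
      rw [permGL_mulVec π₁ _ k, permGL_mulVec π₂ _ k, permGL_mulVec π₁.symm _ k, permGL_mulVec π₂.symm _ k]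
    have e := (hM _ (Subgroup.commutator_mem_commutator h1 h2)).eq
    have e2 := congrArg (fun X : Matrix (Fin n) (Fin n) F => (X *ᵥ Pi.single b (1 : F)) a) e
    simp only [← Matrix.mulVec_mulVec] at e2
    rw [hc, hc] at e2
    set p : Fin n → Fin n := fun k => π₂.symm (π₁.symm (π₂ (π₁ k)))
    have hp : p a = b := by
      simp [p, π₁, π₂, Equiv.swap_apply_of_ne_of_ne, hab, Ne.symm hab, hca, hca.symm, hcb, hcb.symm, hxa.symm, hya.symm,
        hxb.symm, hyb.symm, hxc.symm, hyc.symm, ← Equiv.Perm.inv_def]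
    have h3 : (M *ᵥ Pi.single b (1 : F)) (p a) = (M *ᵥ fun k => (Pi.single b (1 : F) : Fin n → F) (p k)) a := e2
    rw [hp, Matrix.mulVec_single_one, Matrix.col_apply] at h3
    simp only [Matrix.mulVec, dotProduct] at h3
    rw [Finset.sum_eq_single a (fun k _ hk => by rw [hdiag a k hk.symm, zero_mul]) (by simp)] at h3
    rw [hp, Pi.single_eq_same, mul_one] at h3
    exact h3.symm
  obtain ⟨a⟩ : Nonempty (Fin n) := ⟨⟨0, by omega⟩⟩
  refine ⟨M a a, Matrix.ext fun i j => ?_⟩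
  by_cases hij : i = j
  · subst hij; simp [heq i a]
  · simp [hdiag i j hij, hij]

theorem IsUSigma.su_irreducible_three (h3 : 3 ≤ n) : ActsIrreducibly (matrixSet (suGL n F q)) := by
  classical
  intro W hW
  rcases eq_or_ne W ⊥ with h | h
  · exact Or.inl h
  right
  have hst : ∀ g ∈ suGL n F q, ∀ w ∈ W, (g : Matrix (Fin n) (Fin n) F) *ᵥ w ∈ W := fun g hg =>
    map_toLin'_le.mp (hW _ (coe_mem_matrixSet hg))
  obtain ⟨ζ, hζ, hζ1, hζ2, -⟩ := hσ.exists_norm_one
  obtain ⟨w, hw, hw0⟩ := Submodule.exists_mem_ne_zero_of_ne_bot h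
  obtain ⟨a, ha⟩ := Function.ne_iff.mp hw0
  rw [Pi.zero_apply] at ha
  obtain ⟨b, hba, -⟩ := exists_avoid_two (a := a) (b := a) h3
  obtain ⟨c, hca, hcb⟩ := exists_avoid_two (a := a) (b := b) h3
  have hdiff : ∀ i j, i ≠ j → ∀ u ∈ W, (fun k => u k - pairDiag i j ζ k * u k) ∈ W := fun i j hij u hu => by
    obtain ⟨g, hg, hgm⟩ := hσ.exists_pair hij hζ
    have := W.sub_mem hu (hst g hg u hu)
    rw [hgm] at this
    convert this using 1
    ext k
    simp [Matrix.mulVec_diagonal]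
  have hu := hdiff a c hca.symm _ (hdiff a b hba.symm w hw)
  have hea : Pi.single a (1 : F) ∈ W := by
    have hval : (fun k => (w k - pairDiag a b ζ k * w k) - pairDiag a c ζ k * (w k - pairDiag a b ζ k * w k)) =
        ((1 - ζ) ^ 2 * w a) • (Pi.single a (1 : F) : Fin n → F) := by
      ext k
      rcases eq_or_ne k a with rfl | hka
      · simp [pairDiag]; ring
      · simp only [pairDiag, if_neg hka, Pi.smul_apply, Pi.single_eq_of_ne hka, smul_zero]
        split_ifs with h1 h2 <;> simp_all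
    rw [hval] at hu
    have hne : (1 - ζ) ^ 2 * w a ≠ 0 := mul_ne_zero (pow_ne_zero _ (sub_ne_zero.mpr (Ne.symm hζ1))) ha
    have h' := W.smul_mem ((1 - ζ) ^ 2 * w a)⁻¹ hu
    rwa [smul_smul, inv_mul_cancel₀ hne, one_smul] at h'
  rw [eq_top_iff]
  intro u _
  rw [pi_eq_sum_univ' u]
  refine W.sum_mem fun k _ => W.smul_mem _ ?_
  rcases eq_or_ne k a with rfl | hka
  · exact hea
  obtain ⟨x, hxa, hxk⟩ := exists_avoid_two (a := a) (b := k) h3
  have hP := hσ.perm_mem (F := F) (π := Equiv.swap a k * Equiv.swap a x)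
    (by simp [Equiv.Perm.sign_swap hka.symm, Equiv.Perm.sign_swap hxa.symm])
  convert hst _ hP _ hea using 1
  ext j
  rw [permGL_mulVec _ _ j]
  have : (Equiv.swap a k * Equiv.swap a x) j = a ↔ j = k := by
    rw [← Equiv.eq_symm_apply, ← Equiv.Perm.inv_def, _root_.mul_inv_rev, Equiv.swap_inv, Equiv.swap_inv,
      Equiv.Perm.mul_apply, Equiv.swap_apply_left, Equiv.swap_apply_of_ne_of_ne hka hxk.symm]
  simp only [Pi.single_apply, this]

theorem IsUSigma.su_irreducible (h5 : 5 ≤ n) : ActsIrreducibly (matrixSet (suGL n F q)) :=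
  hσ.su_irreducible_three (by omega)

/-- A unitary transvection, acting. -/
theorem IsUSigma.exists_transvection {v : Fin n → F} (hv : hermForm n F q v v = 0) {c : F} (hc : c + σ c = 0) :
    ∃ g ∈ suGL n F q, ∀ u, (g : Matrix (Fin n) (Fin n) F) *ᵥ u = u + (c * hermForm n F q u v) • v := by
  classical
  let φ : Fin n → F := fun i => c * σ (v i)
  let m : Matrix (Fin n) (Fin n) F := 1 + Matrix.replicateCol Unit v * Matrix.replicateRow Unit φ
  have hm : ∀ u, m *ᵥ u = u + (c * hermForm n F q u v) • v := fun u => by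
    simp only [m, Matrix.add_mulVec, Matrix.one_mulVec]
    ext k
    simp only [hσ.hermForm_eq]
    simp [φ, Matrix.mulVec, dotProduct, Matrix.mul_apply, Finset.sum_mul, Finset.mul_sum, mul_comm, mul_left_comm]
  have hdet : m.det = 1 := by
    simp only [m]
    rw [Matrix.det_one_add_replicateCol_mul_replicateRow]
    have : φ ⬝ᵥ v = c * hermForm n F q v v := by
      rw [hσ.hermForm_eq]; simp [φ, dotProduct, Finset.mul_sum, mul_comm, mul_left_comm]
    rw [this, hv, mul_zero, add_zero]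
  refine ⟨Matrix.GeneralLinearGroup.mkOfDetNeZero m (by rw [hdet]; exact one_ne_zero),
    ⟨mem_GU_iff.mpr fun u w => ?_, mem_specialLinear_iff.mpr hdet⟩, hm⟩
  change hermForm n F q (m *ᵥ u) (m *ᵥ w) = _
  have hf := semiForm_of_unitary (hσ.isUnitaryForm (n := n))
  rw [hm, hm]
  simp only [hf.add_left, hf.add_right, hf.smul_left, hf.smul_right, hv, map_mul]
  rw [← hσ.isUnitaryForm.herm v w]
  linear_combination hermForm n F q u v * hermForm n F q v w * hc

theorem IsUSigma.isotropic_pair {i j : Fin n} (hij : i ≠ j) {a : F} (ha : a * σ a = -1) :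
    hermForm n F q (Pi.single i 1 + Pi.single j a) (Pi.single i 1 + Pi.single j a) = 0 := by
  rw [(hσ.isUnitaryForm).add_left, hσ.hermForm_single, hσ.hermForm_single]
  simp [hij, hij.symm, ha]

/-- Three distinct values `a` with `a * σ a = -1`. -/
theorem IsUSigma.three_values : ∃ a₁ a₂ a₃ : F, a₁ ≠ 0 ∧ a₁ ≠ a₂ ∧ a₁ ≠ a₃ ∧ a₂ ≠ a₃ ∧
    a₁ * σ a₁ = -1 ∧ a₂ * σ a₂ = -1 ∧ a₃ * σ a₃ = -1 := by
  obtain ⟨a, ha0, ha⟩ := hσ.norm_surjective (t := -1) (neg_ne_zero.mpr one_ne_zero) (by rw [map_neg, map_one])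
  obtain ⟨ζ, hζ, h1, h2, -⟩ := hσ.exists_norm_one
  have hζ0 : ζ ≠ 0 := left_ne_zero_of_mul_eq_one hζ
  have hN : ∀ b, b * σ b = -1 → (b * ζ) * σ (b * ζ) = -1 := fun b hb => by
    rw [map_mul]; linear_combination (ζ * σ ζ) * hb - hζ
  refine ⟨a, a * ζ, a * ζ * ζ, ha0, ?_, ?_, ?_, ha, hN a ha, hN _ (hN a ha)⟩
  · exact fun e => h1 (mul_left_cancel₀ ha0 (by rw [mul_one, ← e]))
  · exact fun e => h2 (mul_left_cancel₀ ha0 (by rw [mul_one, sq, ← mul_assoc, ← e]))
  · exact fun e => h1 (mul_left_cancel₀ (mul_ne_zero ha0 hζ0) (by rw [mul_one, ← e]))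

/-- Only scalars commute with all unitary transvections. -/
theorem IsUSigma.transvection_centralizer_three (h3 : 3 ≤ n) {M : Matrix (Fin n) (Fin n) F}
    (hM : ∀ v : Fin n → F, hermForm n F q v v = 0 → ∀ c, c + σ c = 0 → ∀ g ∈ suGL n F q,
      (∀ u, (g : Matrix (Fin n) (Fin n) F) *ᵥ u = u + (c * hermForm n F q u v) • v) →
        Commute (g : Matrix (Fin n) (Fin n) F) M) :
    ∃ c : F, M = c • (1 : Matrix (Fin n) (Fin n) F) := by
  classical
  obtain ⟨c, hc0, hc⟩ := hσ.exists_skew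
  have heig : ∀ v : Fin n → F, hermForm n F q v v = 0 → ∃ l : F, M *ᵥ v = l • v := by
    intro v hv
    by_cases hv0 : v = 0
    · exact ⟨0, by simp [hv0]⟩
    obtain ⟨u, hu⟩ := (hσ.isUnitaryForm.nondegenerate v hv0).1
    obtain ⟨g, hg, hgm⟩ := hσ.exists_transvection hv hc
    have e := congrArg (fun X : Matrix (Fin n) (Fin n) F => X *ᵥ u) (hM v hv c hc g hg hgm).eq
    simp only [← Matrix.mulVec_mulVec, hgm, Matrix.mulVec_add, Matrix.mulVec_smul, add_right_inj] at e
    refine ⟨(c * hermForm n F q u v)⁻¹ * (c * hermForm n F q (M *ᵥ u) v), ?_⟩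
    rw [← smul_smul, e, smul_smul, inv_mul_cancel₀ (mul_ne_zero hc0 hu), one_smul]
  obtain ⟨a₁, a₂, a₃, -, h12, h13, h23, n1, n2, n3⟩ := hσ.three_values
  have key : ∀ i j k, i ≠ j → k ≠ i → k ≠ j → M k i = 0 := by
    intro i j k hij hki hkj
    have hz : ∀ a, a * σ a = -1 → M k i + a * M k j = 0 := fun a ha => by
      obtain ⟨l, hl⟩ := heig _ (hσ.isotropic_pair hij ha)
      have := congrFun hl k
      simpa [Matrix.mulVec_add, hki, hkj] using this
    have := hz a₁ n1
    have h2 := hz a₂ n2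
    have h0 : M k j = 0 := (mul_eq_zero.mp (show (a₁ - a₂) * M k j = 0 by linear_combination this - h2)).resolve_left
      (sub_ne_zero.mpr h12)
    rwa [h0, mul_zero, add_zero] at this
  have hdiag : ∀ k i, k ≠ i → M k i = 0 := fun k i hki => by
    obtain ⟨j, hji, hjk⟩ := exists_avoid_two (a := i) (b := k) h3
    exact key i j k hji.symm hki hjk.symm
  have heq : ∀ i j, M i i = M j j := fun i j => by
    by_cases hij : i = j
    · rw [hij]
    obtain ⟨l, hl⟩ := heig _ (hσ.isotropic_pair hij n1)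
    have ha : a₁ ≠ 0 := left_ne_zero_of_mul (n1 ▸ neg_ne_zero.mpr one_ne_zero)
    have e1 := congrFun hl i
    have e2 := congrFun hl j
    simp [Matrix.mulVec_add, hij, Ne.symm hij, hdiag i j hij, hdiag j i (Ne.symm hij)] at e1 e2
    rw [e1]
    refine mul_left_cancel₀ ha ?_
    linear_combination -e2
  obtain ⟨a⟩ : Nonempty (Fin n) := ⟨⟨0, by omega⟩⟩
  refine ⟨M a a, Matrix.ext fun i j => ?_⟩
  by_cases hij : i = j
  · subst hij; simp [heq i a]
  · simp [hdiag i j hij, hij]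

/-- Only scalars commute with all unitary transvections, in dimension at least five. -/
theorem IsUSigma.transvection_centralizer (h5 : 5 ≤ n) {M : Matrix (Fin n) (Fin n) F}
    (hM : ∀ v : Fin n → F, hermForm n F q v v = 0 → ∀ c, c + σ c = 0 → ∀ g ∈ suGL n F q,
      (∀ u, (g : Matrix (Fin n) (Fin n) F) *ᵥ u = u + (c * hermForm n F q u v) • v) →
        Commute (g : Matrix (Fin n) (Fin n) F) M) :
    ∃ c : F, M = c • (1 : Matrix (Fin n) (Fin n) F) :=
  hσ.transvection_centralizer_three (by omega) hM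

theorem IsUSigma.not_su_le_field (h5 : 5 ≤ n) {r : ℕ} (hr : 1 < r) {K : Subalgebra F (Matrix (Fin n) (Fin n) F)}
    (hK : IsFieldSubalgebra r K) : ¬ suGL n F q ≤ subalgebraNormalizer K := by
  intro h
  haveI : Nonempty (Fin n) := ⟨⟨0, by omega⟩⟩
  have hc : ∀ x ∈ ⁅suGL n F q, suGL n F q⁆, ∀ k ∈ K, Commute (x : Matrix (Fin n) (Fin n) F) k := by
    let C : Subgroup (GL (Fin n) F) :=
      { carrier := {x | ∀ k ∈ K, Commute (x : Matrix (Fin n) (Fin n) F) k}
        mul_mem' := fun {a b} ha hb k hk => by rw [Units.val_mul]; exact (ha k hk).mul_left (hb k hk)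
        one_mem' := fun k _ => by rw [Units.val_one]; exact Commute.one_left k
        inv_mem' := fun {a} ha k hk => (ha k hk).units_inv_left }
    have : ⁅suGL n F q, suGL n F q⁆ ≤ C := by
      rw [Subgroup.commutator_le]
      exact fun a ha b hb => fieldSubalgebra_normalizer_commutator hK (h ha) (h hb)
    exact fun x hx => this hx
  have hbot : K = ⊥ := by
    rw [eq_bot_iff]
    intro k hk
    obtain ⟨c, rfl⟩ := hσ.derived_centralizer h5 fun g hg => hc g hg k hk
    exact Algebra.mem_bot.mpr ⟨c, by simp [Algebra.algebraMap_eq_smul_one]⟩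
  have := hK.finrank_eq
  rw [hbot, Subalgebra.finrank_bot] at this
  omega

theorem IsUSigma.not_su_le_subspace (h5 : 5 ≤ n) {W : Submodule F (Fin n → F)} (h0 : W ≠ ⊥) (h1 : W ≠ ⊤) :
    ¬ suGL n F q ≤ subspaceStabilizer W := fun h => by
  rcases hσ.su_irreducible h5 W (fun s ⟨g, hg, e⟩ => e ▸ map_toLin'_le.mpr (mem_subspaceStabilizer_iff.mp (h hg))) with e | e
  · exact h0 e
  · exact h1 e

end Cfsg.Agent.Classical
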