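import Mathlib

/-!
# Counting symplectic bases

For a non-degenerate alternating form the symplectic families are found by choosing a hyperbolic
pair and continuing in its orthogonal complement.
-/

set_option autoImplicit false
set_option linter.unusedSectionVars false

namespace Cfsg.Agent.Classical.SpCount

open Module Matrix

universe u v

variable {F : Type u} [Field F]

/-- Non-degenerate alternating. -/
structure IsAltND {V : Type v} [AddCommGroup V] [Module F V] (B : V →ₗ[F] V →ₗ[F] F) : Prop where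
  self : ∀ v, B v v = 0
  nondeg : ∀ v, (∀ w, B v w = 0) → v = 0

/-- Families with the Gram matrix of the standard symplectic form. -/
def SpFam {V : Type v} [AddCommGroup V] [Module F V] (B : V →ₗ[F] V →ₗ[F] F) (m : ℕ) : Type v :=
  {f : Fin m ⊕ Fin m → V // ∀ i j, B (f i) (f j) = Matrix.J (Fin m) F i j}

variable {V : Type v} [AddCommGroup V] [Module F V] {B : V →ₗ[F] V →ₗ[F] F}

theorem J_apply {m : ℕ} (i j : Fin m) :
    Matrix.J (Fin m) F (.inl i) (.inl j) = 0 ∧ Matrix.J (Fin m) F (.inr i) (.inr j) = 0 ∧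
      Matrix.J (Fin m) F (.inl i) (.inr j) = -(if i = j then 1 else 0) ∧
      Matrix.J (Fin m) F (.inr i) (.inl j) = (if i = j then 1 else 0) := by
  simp [Matrix.J, Matrix.one_apply]

theorem IsAltND.swap (hB : IsAltND B) (v w : V) : B v w = -B w v := by
  have h := hB.self (v + w)
  simp only [map_add, LinearMap.add_apply, hB.self, zero_add, add_zero] at h
  linear_combination h

/-- The orthogonal complement of a pair. -/
def comp (B : V →ₗ[F] V →ₗ[F] F) (p : V × V) : Submodule F V :=
  LinearMap.ker (B p.1) ⊓ LinearMap.ker (B p.2)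

/-- The restriction of the form to the complement. -/
def res (B : V →ₗ[F] V →ₗ[F] F) (p : V × V) : comp B p →ₗ[F] comp B p →ₗ[F] F :=
  B.compl₁₂ (comp B p).subtype (comp B p).subtype

theorem res_apply (p : V × V) (x y : comp B p) : res B p x y = B x y := rfl

/-- Hyperbolic pairs. -/
def IsHPair (B : V →ₗ[F] V →ₗ[F] F) (p : V × V) : Prop := B p.2 p.1 = 1

theorem mem_comp {p : V × V} {x : V} : x ∈ comp B p ↔ B p.1 x = 0 ∧ B p.2 x = 0 := by
  simp [comp]

theorem exists_split (hB : IsAltND B) {p : V × V} (hp : IsHPair B p) (x : V) :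
    x - B p.2 x • p.1 + B p.1 x • p.2 ∈ comp B p := by
  have h : B p.2 p.1 = 1 := hp
  have h' : B p.1 p.2 = -1 := by rw [hB.swap, h]
  rw [mem_comp]
  simp only [map_add, map_sub, map_smul, smul_eq_mul, hB.self, h, h']
  constructor <;> ring

theorem res_isAltND (hB : IsAltND B) {p : V × V} (hp : IsHPair B p) : IsAltND (res B p) := by
  refine ⟨fun x => hB.self _, fun x hx => Subtype.ext (hB.nondeg _ fun y => ?_)⟩
  have h0 : B (x : V) p.1 = 0 := by rw [hB.swap, (mem_comp.mp x.2).1, neg_zero]
  have h1 : B (x : V) p.2 = 0 := by rw [hB.swap, (mem_comp.mp x.2).2, neg_zero]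
  have h2 : B (x : V) (y - B p.2 y • p.1 + B p.1 y • p.2) = 0 :=
    hx ⟨_, exists_split hB hp y⟩
  simpa [h0, h1] using h2

/-- `V = ⟨p⟩ ⊕ comp p`. -/
noncomputable def splitEquiv (hB : IsAltND B) {p : V × V} (hp : IsHPair B p) :
    V ≃ₗ[F] (F × F) × comp B p where
  toFun x := ((B p.2 x, B p.1 x), ⟨_, exists_split hB hp x⟩)
  map_add' x y := by
    refine Prod.ext (by simp) (Subtype.ext ?_)
    simp only [map_add, Submodule.coe_add, Prod.snd_add, add_smul]
    abel
  map_smul' c x := by
    refine Prod.ext (by simp) (Subtype.ext ?_)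
    simp only [map_smul, smul_eq_mul, RingHom.id_apply, Prod.smul_snd, Submodule.coe_smul, smul_add,
      smul_sub, mul_smul]
  invFun z := z.1.1 • p.1 - z.1.2 • p.2 + (z.2 : V)
  left_inv x := by simp only; abel
  right_inv z := by
    obtain ⟨⟨a, b⟩, w, hw⟩ := z
    have h : B p.2 p.1 = 1 := hp
    have h' : B p.1 p.2 = -1 := by rw [hB.swap, h]
    obtain ⟨hw1, hw2⟩ := mem_comp.mp hw
    have e1 : B p.2 (a • p.1 - b • p.2 + w) = a := by simp [h, hB.self, hw2]
    have e2 : B p.1 (a • p.1 - b • p.2 + w) = b := by simp [h', hB.self, hw1]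
    refine Prod.ext (Prod.ext e1 e2) (Subtype.ext ?_)
    simp only [e1, e2]
    abel

theorem finrank_comp [FiniteDimensional F V] (hB : IsAltND B) {p : V × V} (hp : IsHPair B p) :
    finrank F V = 2 + finrank F (comp B p) := by
  rw [(splitEquiv hB hp).finrank_eq, finrank_prod, finrank_prod, finrank_self]

/-- Splitting off the first pair. -/
noncomputable def famEquiv (hB : IsAltND B) (m : ℕ) :
    SpFam B (m + 1) ≃ Σ p : {p : V × V // IsHPair B p}, SpFam (res B p.1) m where
  toFun f := ⟨⟨(f.1 (.inl 0), f.1 (.inr 0)), by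
      rw [IsHPair, f.2, (J_apply _ _).2.2.2, if_pos rfl]⟩,
    ⟨fun i => ⟨f.1 (i.map Fin.succ Fin.succ), by
      rw [mem_comp, f.2, f.2]
      rcases i with i | i <;>
        simp [Sum.map_inl, Sum.map_inr, J_apply, (Fin.succ_ne_zero i).symm]⟩, fun i j => by
      rw [res_apply, f.2]
      rcases i with i | i <;> rcases j with j | j <;>
        simp [J_apply, Fin.succ_inj]⟩⟩
  invFun s := ⟨Sum.elim (Fin.cons s.1.1.1 fun i => (s.2.1 (.inl i) : V))
      (Fin.cons s.1.1.2 fun i => (s.2.1 (.inr i) : V)), by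
    obtain ⟨⟨p, hp⟩, g, hg⟩ := s
    have h : B p.2 p.1 = 1 := hp
    have h' : B p.1 p.2 = -1 := by rw [hB.swap, h]
    have hc : ∀ k, B p.1 (g k : V) = 0 ∧ B p.2 (g k : V) = 0 := fun k => mem_comp.mp (g k).2
    have hc1 : ∀ k, B (g k : V) p.1 = 0 := fun k => by rw [hB.swap, (hc k).1, neg_zero]
    have hc2 : ∀ k, B (g k : V) p.2 = 0 := fun k => by rw [hB.swap, (hc k).2, neg_zero]
    have hgg : ∀ k l, B (g k : V) (g l : V) = Matrix.J (Fin m) F k l := hg
    rintro (i | i) (j | j) <;> refine Fin.cases ?_ (fun i => ?_) i <;> refine Fin.cases ?_ (fun j => ?_) j <;>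
      simp [J_apply, hB.self, h, h', hc, hc1, hc2, hgg, Fin.succ_ne_zero, Fin.succ_inj,
        (Fin.succ_ne_zero _).symm]⟩
  left_inv f := by
    apply Subtype.ext
    funext i
    rcases i with i | i <;> refine Fin.cases ?_ (fun k => ?_) i <;> simp
  right_inv s := by
    obtain ⟨⟨p, hp⟩, g, hg⟩ := s
    refine Sigma.ext rfl (heq_of_eq (Subtype.ext (funext fun i => Subtype.ext ?_)))
    rcases i with i | i <;> simp

theorem exists_pair (hB : IsAltND B) {v : V} (hv : v ≠ 0) : ∃ w, IsHPair B (v, w) := by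
  obtain ⟨w, hw⟩ : ∃ w, B v w ≠ 0 := by
    by_contra! h
    exact hv (hB.nondeg v h)
  exact ⟨-(B v w)⁻¹ • w, by
    rw [IsHPair, hB.swap]; simp [hw]⟩

/-- Symplectic bases exist. -/
theorem exists_fam (m : ℕ) : ∀ {V : Type v} [AddCommGroup V] [Module F V] [FiniteDimensional F V]
    {B : V →ₗ[F] V →ₗ[F] F}, IsAltND B → finrank F V = 2 * m → Nonempty (SpFam B m) := by
  induction m with
  | zero => intro V _ _ _ B _ _; exact ⟨⟨fun i => i.elim Fin.elim0 Fin.elim0, fun i => i.elim Fin.elim0 Fin.elim0⟩⟩
  | succ m ih =>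
    intro V _ _ _ B hB hV
    have : Nontrivial V := Module.nontrivial_of_finrank_pos (R := F) (by omega)
    obtain ⟨v, hv⟩ := exists_ne (0 : V)
    obtain ⟨w, hw⟩ := exists_pair hB hv
    obtain ⟨g⟩ := ih (res_isAltND hB hw) (by have := finrank_comp hB hw; omega)
    exact ⟨(famEquiv hB m).symm ⟨⟨(v, w), hw⟩, g⟩⟩

theorem fam_linearIndependent (hB : IsAltND B) {m : ℕ} (f : SpFam B m) : LinearIndependent F f.1 := by
  rw [Fintype.linearIndependent_iff]
  intro c hc k
  have h : ∀ j, ∑ i, c i * Matrix.J (Fin m) F i j = 0 := fun j => by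
    have := congrArg (fun x => B x (f.1 j)) hc
    simpa [f.2] using this
  rcases k with k | k
  · simpa [Fintype.sum_sum_type, J_apply] using h (.inr k)
  · simpa [Fintype.sum_sum_type, J_apply] using h (.inl k)

/-- The isometry to the standard space given by a symplectic basis. -/
noncomputable def famBasis [FiniteDimensional F V] (hB : IsAltND B) {m : ℕ} (hV : finrank F V = 2 * m)
    (f : SpFam B m) : Basis (Fin m ⊕ Fin m) F V :=
  Basis.mk (fam_linearIndependent hB f)
    ((fam_linearIndependent hB f).span_eq_top_of_card_eq_finrank'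
      (by rw [hV, Fintype.card_sum, Fintype.card_fin, two_mul])).ge

section Count

variable [Fintype F]

theorem card_fibre [FiniteDimensional F V] {φ : V →ₗ[F] F} (hφ : φ ≠ 0) (c : F) :
    Nat.card {w : V // φ w = c} = Fintype.card F ^ (finrank F V - 1) := by
  obtain ⟨x, hx⟩ : ∃ x, φ x ≠ 0 := by
    by_contra! h
    exact hφ (LinearMap.ext h)
  have h1 := LinearMap.finrank_range_add_finrank_ker φ
  rw [LinearMap.range_eq_top.mpr (φ.surjective_of_ne_zero hφ), finrank_top, finrank_self] at h1
  have h2 : Nat.card (LinearMap.ker φ) = Fintype.card F ^ finrank F (LinearMap.ker φ) := by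
    rw [natCard_eq_pow_finrank (K := F), Nat.card_eq_fintype_card]
  rw [show finrank F V - 1 = finrank F (LinearMap.ker φ) by omega, ← h2]
  set y := (c / φ x) • x
  have hy : φ y = c := by simp [y, hx]
  exact Nat.card_congr
    { toFun := fun w => ⟨w.1 - y, by simp [w.2, hy]⟩
      invFun := fun w => ⟨w.1 + y, by rw [map_add, LinearMap.mem_ker.mp w.2, hy, zero_add]⟩
      left_inv := fun w => Subtype.ext (sub_add_cancel _ _)
      right_inv := fun w => Subtype.ext (add_sub_cancel_right _ _) }

theorem card_pairs [FiniteDimensional F V] (hB : IsAltND B) :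
    Nat.card {p : V × V // IsHPair B p} =
      (Fintype.card F ^ finrank F V - 1) * Fintype.card F ^ (finrank F V - 1) := by
  classical
  have : Finite V := Module.finite_of_finite F
  have := Fintype.ofFinite V
  let e : {p : V × V // IsHPair B p} ≃ Σ v : {v : V // v ≠ 0}, {w : V // B v.1 w = -1} :=
    { toFun := fun p => ⟨⟨p.1.1, fun h => by
          have hp : B p.1.2 p.1.1 = 1 := p.2
          rw [h, map_zero] at hp; exact zero_ne_one hp⟩, ⟨p.1.2, by
          rw [hB.swap, (p.2 : B p.1.2 p.1.1 = 1)]⟩⟩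
      invFun := fun s => ⟨(s.1.1, s.2.1), by rw [IsHPair, hB.swap, s.2.2, neg_neg]⟩
      left_inv := fun p => rfl
      right_inv := fun s => rfl }
  rw [Nat.card_congr e, Nat.card_sigma, Finset.sum_congr rfl fun v _ =>
    card_fibre (φ := B v.1) (fun h => v.2 (hB.nondeg _ fun w => by rw [h]; rfl)) (-1),
    Finset.sum_const, Finset.card_univ, smul_eq_mul, Fintype.card_subtype_compl,
    Fintype.card_subtype_eq, ← Nat.card_eq_fintype_card, natCard_eq_pow_finrank (K := F),
    Nat.card_eq_fintype_card]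

/-- The number of symplectic bases. -/
theorem card_fam (m : ℕ) : ∀ {V : Type v} [AddCommGroup V] [Module F V] [FiniteDimensional F V]
    {B : V →ₗ[F] V →ₗ[F] F}, IsAltND B → finrank F V = 2 * m →
    Nat.card (SpFam B m) = Fintype.card F ^ (m ^ 2) *
      ∏ i ∈ Finset.range m, (Fintype.card F ^ (2 * (i + 1)) - 1) := by
  induction m with
  | zero =>
    intro V _ _ _ B _ _
    have : Unique (SpFam B 0) :=
      { default := ⟨fun i => i.elim Fin.elim0 Fin.elim0, fun i => i.elim Fin.elim0 Fin.elim0⟩
        uniq := fun f => Subtype.ext (funext fun i => i.elim Fin.elim0 Fin.elim0) }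
    simp [Nat.card_unique]
  | succ m ih =>
    intro V _ _ _ B hB hV
    classical
    have : Finite V := Module.finite_of_finite F
    have : ∀ p : {p : V × V // IsHPair B p}, Finite (SpFam (res B p.1) m) := fun p => Subtype.finite
    rw [Nat.card_congr (famEquiv hB m)]
    have := Fintype.ofFinite {p : V × V // IsHPair B p}
    rw [Nat.card_sigma, Finset.sum_congr rfl fun p _ =>
      ih (res_isAltND hB p.2) (by have := finrank_comp hB p.2; omega),
      Finset.sum_const, Finset.card_univ, smul_eq_mul, ← Nat.card_eq_fintype_card (α := {p : V × V // IsHPair B p}), card_pairs hB, hV,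
      Finset.prod_range_succ _ m, show 2 * (m + 1) - 1 = 2 * m + 1 from rfl,
      show (m + 1) ^ 2 = m ^ 2 + (2 * m + 1) by ring, pow_add]
    ring

end Count

/-! ### The standard form -/

/-- The bilinear form of `Matrix.J`. -/
noncomputable def stdForm (m : ℕ) (F : Type u) [Field F] :
    (Fin m ⊕ Fin m → F) →ₗ[F] (Fin m ⊕ Fin m → F) →ₗ[F] F :=
  Matrix.toLinearMap₂' F (Matrix.J (Fin m) F)

theorem stdForm_apply {m : ℕ} (u v : Fin m ⊕ Fin m → F) :
    stdForm m F u v = u ⬝ᵥ (Matrix.J (Fin m) F *ᵥ v) :=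
  Matrix.toLinearMap₂'_apply' _ _ _

theorem stdForm_isAltND (m : ℕ) : IsAltND (stdForm m F) := by
  constructor
  · intro v
    rw [stdForm_apply]
    simp only [Matrix.mulVec, dotProduct, Fintype.sum_sum_type, J_apply, neg_mul, ite_mul, one_mul,
      zero_mul, Finset.sum_const_zero, zero_add, add_zero, Finset.sum_neg_distrib, Finset.sum_ite_eq,
      Finset.mem_univ, if_true]
    rw [← Finset.sum_add_distrib]
    exact Finset.sum_eq_zero fun i _ => by ring
  · intro v hv
    funext k
    rcases k with k | k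
    · have := hv (Pi.single (.inr k) 1)
      rw [stdForm_apply] at this
      simpa [Matrix.mulVec, dotProduct, Fintype.sum_sum_type, J_apply, Pi.single_apply] using this
    · have := hv (Pi.single (.inl k) 1)
      rw [stdForm_apply] at this
      simpa [Matrix.mulVec, dotProduct, Fintype.sum_sum_type, J_apply, Pi.single_apply] using this

/-- Symplectic matrices are the symplectic families of rows. -/
noncomputable def groupEquiv (m : ℕ) :
    Matrix.symplecticGroup (Fin m) F ≃ SpFam (stdForm m F) m where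
  toFun A := ⟨fun i => A.1 i, fun i j => by
    have h := congrFun (congrFun (SymplecticGroup.mem_iff.mp A.2) i) j
    rw [← h, stdForm_apply, Matrix.mul_assoc]
    rfl⟩
  invFun f := ⟨Matrix.of f.1, SymplecticGroup.mem_iff.mpr (Matrix.ext fun i j => by
    rw [← f.2 i j, stdForm_apply, Matrix.mul_assoc]
    rfl)⟩
  left_inv A := rfl
  right_inv f := rfl

theorem card_symplecticGroup [Fintype F] (m : ℕ) :
    Nat.card (Matrix.symplecticGroup (Fin m) F) = Fintype.card F ^ (m ^ 2) *
      ∏ i ∈ Finset.range m, (Fintype.card F ^ (2 * (i + 1)) - 1) := by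
  rw [Nat.card_congr (groupEquiv m)]
  exact card_fam m (stdForm_isAltND m) (by rw [finrank_fintype_fun_eq_card, Fintype.card_sum, Fintype.card_fin, two_mul])

end Cfsg.Agent.Classical.SpCount
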