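import Cfsg.Agent.Lib.Classical.SymplecticIso
import Cfsg.Agent.Lib.Small.SL2.Orders

/-!
# An element of order `p (q^m+1)` in `PSp_{2m+2}(q)`

`SL₂` over the extension of degree `m`, times `SL₂` over the base field.
-/

set_option autoImplicit false
set_option linter.unusedSectionVars false
set_option linter.style.haveILetI false

namespace Cfsg.Agent.Classical.SpSinger

open Module Matrix

/-- An element of maximal anisotropic order of `SL₂`. -/
theorem exists_sl2 (L : Type*) [Field L] [Fintype L] :
    ∃ h : Matrix.SpecialLinearGroup (Fin 2) L, orderOf h = Fintype.card L + 1 := by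
  classical
  obtain ⟨t, ht⟩ : ∃ t : L, ∀ k : L, k * k + t * k + 1 ≠ 0 := by
    by_contra hcon
    push Not at hcon
    have hs : Function.Surjective fun k : Lˣ => -((k : L) + (k : L)⁻¹) := fun t => by
      obtain ⟨k, hk⟩ := hcon t
      have hk0 : k ≠ 0 := fun e => by simp [e] at hk
      refine ⟨Units.mk0 k hk0, ?_⟩
      simp only [Units.val_mk0]
      field_simp
      linear_combination -hk
    have h1 := Fintype.card_le_of_surjective _ hs
    rw [Fintype.card_units] at h1
    have := Fintype.one_lt_card (α := L)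
    omega
  have ht4 : t * t ≠ 4 := fun e => by
    rcases mul_eq_zero.mp (show (t - 2) * (t + 2) = 0 by linear_combination e) with e2 | e2
    · exact ht (-1) (by linear_combination -e2)
    · exact ht 1 (by linear_combination e2)
  have hroots : Small.SL2C.roots t 1 = 0 := by
    rw [Small.SL2C.roots, Nat.card_eq_zero]
    exact Or.inl ⟨fun k => ht k.1 k.2⟩
  obtain ⟨g, hgt, hg⟩ := Small.SL2C.comp_elt t
  have := Small.SL2C.isCyclic_centralizer (g := g) (by rw [hgt]; exact ht4)
  obtain ⟨x, hx⟩ := IsCyclic.exists_generator (α := Subgroup.centralizer ({g} : Set (Matrix.SpecialLinearGroup (Fin 2) L)))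
  refine ⟨x.1, ?_⟩
  rw [Subgroup.orderOf_coe, orderOf_eq_card_of_forall_mem_zpowers hx, Small.SL2C.card_centralizer g hg, hgt]
  rcases Small.SL2C.sol_eq ht4 with ⟨h1, -⟩ | ⟨-, h1⟩
  · rw [hroots] at h1; exact absurd h1 (by norm_num)
  · exact h1

variable {F L : Type*} [Field F] [Field L] [Algebra F L]

/-- The determinant form. -/
def d2 {R : Type*} [CommRing R] (u v : Fin 2 → R) : R := u 0 * v 1 - u 1 * v 0

theorem d2_mulVec {R : Type*} [CommRing R] (M : Matrix (Fin 2) (Fin 2) R) (u v : Fin 2 → R) :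
    d2 (M *ᵥ u) (M *ᵥ v) = M.det * d2 u v := by
  simp [d2, Matrix.det_fin_two, Matrix.mulVec, dotProduct, Fin.sum_univ_two]
  ring

variable (F L) in
/-- Trace of the determinant, plus the determinant. -/
noncomputable def form : ((Fin 2 → L) × (Fin 2 → F)) →ₗ[F] ((Fin 2 → L) × (Fin 2 → F)) →ₗ[F] F :=
  LinearMap.mk₂ F (fun x y => Algebra.trace F L (d2 x.1 y.1) + d2 x.2 y.2)
    (fun x x' y => by
      simp only [d2, Prod.fst_add, Prod.snd_add, Pi.add_apply, add_mul, map_add, map_sub]; ring)
    (fun c x y => by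
      simp only [d2, Prod.smul_fst, Prod.smul_snd, Pi.smul_apply, smul_mul_assoc, ← smul_sub, map_smul, smul_eq_mul]; ring)
    (fun x y y' => by
      simp only [d2, Prod.fst_add, Prod.snd_add, Pi.add_apply, mul_add, map_add, map_sub]; ring)
    (fun c x y => by
      simp only [d2, Prod.smul_fst, Prod.smul_snd, Pi.smul_apply, mul_smul_comm, ← smul_sub, map_smul, smul_eq_mul]; ring)

theorem form_apply (x y : (Fin 2 → L) × (Fin 2 → F)) :
    form F L x y = Algebra.trace F L (d2 x.1 y.1) + d2 x.2 y.2 := rfl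

variable [Finite F] [Finite L]

theorem form_altND : SpCount.IsAltND (form F L) := by
  refine ⟨fun v => by simp [form_apply, d2, mul_comm], fun v hv => ?_⟩
  haveI : Module.Finite F L := Module.Finite.of_finite
  obtain ⟨s, hs⟩ := Algebra.trace_surjective F L 1
  refine Prod.ext ?_ ?_
  · by_contra hne
    obtain ⟨y, hy⟩ : ∃ y : Fin 2 → L, d2 v.1 y = s := by
      by_cases h0 : v.1 0 = 0
      · have h1 : v.1 1 ≠ 0 := fun h1 => hne (funext fun i => by fin_cases i <;> simp [h0, h1])
        exact ⟨![-(s / v.1 1), 0], by simp [d2, h0, mul_div_cancel₀ _ h1]⟩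
      · exact ⟨![0, s / v.1 0], by simp [d2, mul_div_cancel₀ _ h0]⟩
    have h := hv (y, 0)
    rw [form_apply, hy, hs] at h
    simp [d2] at h
  · have h0 := hv (0, ![0, 1])
    have h1 := hv (0, ![1, 0])
    simp [form_apply, d2] at h0 h1
    funext i; fin_cases i
    · exact h0
    · exact h1

/-- The unipotent on the small factor. -/
def uni (F : Type*) [Field F] : Matrix (Fin 2) (Fin 2) F := !![1, 1; 0, 1]

theorem exists_elt (h : Matrix.SpecialLinearGroup (Fin 2) L) :
    ∃ g : ↥(SpCount.isom (form F L)), ∀ (k : ℕ) (u : Fin 2 → L) (v : Fin 2 → F),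
      (g ^ k).1 (u, v) = ((h ^ k : Matrix.SpecialLinearGroup (Fin 2) L).1 *ᵥ u, ![v 0 + k * v 1, v 1]) := by
  let E : ((Fin 2 → L) × (Fin 2 → F)) ≃ₗ[F] ((Fin 2 → L) × (Fin 2 → F)) :=
    LinearEquiv.prodCongr ((Matrix.SpecialLinearGroup.toLin' h).restrictScalars F)
      (Matrix.SpecialLinearGroup.toLin' ⟨uni F, by simp [uni, Matrix.det_fin_two]⟩)
  have hE : ∀ u v, E (u, v) = (h.1 *ᵥ u, uni F *ᵥ v) := fun u v => rfl
  have hmem : E ∈ SpCount.isom (form F L) := fun x y => by
    obtain ⟨u, v⟩ := x; obtain ⟨u', v'⟩ := y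
    rw [hE, hE, form_apply, form_apply, d2_mulVec, d2_mulVec, h.2, one_mul]
    simp [uni, Matrix.det_fin_two]
  refine ⟨⟨E, hmem⟩, fun k => ?_⟩
  induction k with
  | zero =>
    intro u v
    refine Prod.ext ?_ ?_
    · simp
    · funext i; fin_cases i <;> simp
  | succ k ih =>
    intro u v
    rw [pow_succ]
    change ((⟨E, hmem⟩ : ↥(SpCount.isom (form F L))) ^ k).1 (E (u, v)) = _
    rw [hE, ih]
    refine Prod.ext ?_ ?_
    · rw [pow_succ, Matrix.SpecialLinearGroup.coe_mul, ← Matrix.mulVec_mulVec]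
    · funext i
      fin_cases i
      · simp [uni, Matrix.mulVec, dotProduct, Fin.sum_univ_two]; ring
      · simp [uni, Matrix.mulVec, dotProduct, Fin.sum_univ_two]

/-- A central power of the element is trivial. -/
theorem exists_order (p : ℕ) [Fact p.Prime] [CharP F p] (h : Matrix.SpecialLinearGroup (Fin 2) L)
    (hcop : Nat.Coprime p (orderOf h)) :
    ∃ g : ↥(SpCount.isom (form F L)) ⧸ Subgroup.center ↥(SpCount.isom (form F L)), orderOf g = p * orderOf h := by
  obtain ⟨g, hg⟩ := exists_elt (F := F) h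
  refine ⟨QuotientGroup.mk g, Nat.dvd_antisymm (orderOf_dvd_of_pow_eq_one ?_) ?_⟩
  · rw [← QuotientGroup.mk_pow, show g ^ (p * orderOf h) = 1 from Subtype.ext (LinearEquiv.ext fun x => by
      obtain ⟨u, v⟩ := x
      rw [hg, mul_comm, pow_mul, pow_orderOf_eq_one, one_pow]
      refine Prod.ext (by simp) ?_
      funext i; fin_cases i <;> simp [CharP.cast_eq_zero]), QuotientGroup.mk_one]
  · obtain ⟨k, hk⟩ : ∃ k, k = orderOf (QuotientGroup.mk g : ↥(SpCount.isom (form F L)) ⧸ Subgroup.center ↥(SpCount.isom (form F L))) := ⟨_, rfl⟩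
    rw [← hk]
    have hz : g ^ k ∈ Subgroup.center ↥(SpCount.isom (form F L)) := by
      rw [← QuotientGroup.eq_one_iff, QuotientGroup.mk_pow, hk, pow_orderOf_eq_one]
    have hB := (form_altND (F := F) (L := L))
    have key : ∀ w x, form F L ((g ^ k).1 x) w • w = form F L x w • (g ^ k).1 w := by
      intro w x
      let T : ((Fin 2 → L) × (Fin 2 → F)) ≃ₗ[F] ((Fin 2 → L) × (Fin 2 → F)) :=
        LinearEquiv.ofLinear (LinearMap.id + ((form F L).flip w).smulRight w)
          (LinearMap.id - ((form F L).flip w).smulRight w)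
          (LinearMap.ext fun y => by simp [map_sub, hB.self, sub_smul])
          (LinearMap.ext fun y => by simp [map_add, hB.self, add_smul])
      have hT : ∀ y, T y = y + form F L y w • w := fun y => rfl
      have hTm : T ∈ SpCount.isom (form F L) := fun y z => by
        rw [hT, hT]
        simp only [map_add, map_smul, LinearMap.add_apply, LinearMap.smul_apply, smul_eq_mul, hB.self]
        rw [hB.swap w z]
        ring
      have h1 := congrArg (fun f : ↥(SpCount.isom (form F L)) => f.1 x) (Subgroup.mem_center_iff.mp hz ⟨T, hTm⟩)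
      change T ((g ^ k).1 x) = (g ^ k).1 (T x) at h1
      rw [hT, hT, map_add, map_smul] at h1
      exact add_left_cancel h1
    have hh : h ^ k = 1 := by
      refine Subtype.ext (Matrix.ext_of_mulVec_single fun i => ?_)
      have h1 := key (Pi.single i 1, ![1, 0]) (0, ![0, 1])
      rw [hg, hg] at h1
      simp only [form_apply, d2, Matrix.mulVec_zero, Pi.zero_apply, mul_zero, zero_mul, sub_zero, map_zero,
        Matrix.cons_val_zero, Matrix.cons_val_one, Matrix.cons_val_fin_one, Prod.smul_mk, mul_one, zero_sub,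
        zero_add, add_zero, neg_smul, one_smul, Prod.mk.injEq] at h1
      rw [Matrix.SpecialLinearGroup.coe_one, Matrix.one_mulVec]
      exact (congrArg Prod.fst (neg_injective h1)).symm
    have hkp : (k : F) = 0 := by
      have h1 := key (0, ![0, 1]) (0, ![1, 0])
      rw [hg, hg] at h1
      simp [form_apply, d2] at h1
      exact h1.symm
    exact hcop.mul_dvd_of_dvd_of_dvd ((CharP.cast_eq_zero_iff F p k).mp hkp) (orderOf_dvd_of_pow_eq_one hh)

end Cfsg.Agent.Classical.SpSinger
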