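import Cfsg.Agent.Lib.Classical.SOOddMissingOrder
import Cfsg.Agent.Lib.Classical.SpSingerTimesUnipotent
import Cfsg.Agent.S2904

/-!
# `PΩ_{2n+1}(q)` and `PSp_{2n}(q)` have different element orders

For `n = m+1 ≥ 3` the number `p (q^m+1)` is an order in `PSp_{2n}(q)` only.
-/

set_option autoImplicit false
set_option linter.unusedSectionVars false
set_option linter.style.haveILetI false

namespace Cfsg.Agent.Classical.OddVsSp

open Module Classical.OCount Classical.ORefl Classical.OOmega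

variable {F : Type*} [Field F] [Fintype F]

theorem exists_ppd {q m : ℕ} (hq : 3 ≤ q) (hm : 2 ≤ m) :
    ∃ r : ℕ, r.Prime ∧ orderOf (q : ZMod r) = 2 * m ∧ r ∣ q ^ m + 1 := by
  obtain ⟨r, hr, hd, hmin⟩ := Cfsg.Agent.S2904.result q (2 * m) (by omega) (by omega) (fun h => by omega) (fun h => by omega)
  have hcast : ∀ k : ℕ, (q : ZMod r) ^ k = 1 ↔ r ∣ q ^ k - 1 := fun k => by
    rw [← ZMod.natCast_eq_zero_iff, Nat.cast_sub (Nat.one_le_pow _ _ (by omega)), sub_eq_zero, Nat.cast_pow,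
      Nat.cast_one]
  refine ⟨r, hr, (orderOf_eq_iff (by omega)).mpr ⟨(hcast _).mpr hd, fun k h1 h2 h3 => hmin k h2 h1 ((hcast k).mp h3)⟩, ?_⟩
  have hsq : q ^ (2 * m) - 1 = (q ^ m + 1) * (q ^ m - 1) := by
    rw [← Nat.sq_sub_sq, one_pow, ← pow_mul, mul_comm m]
  rw [hsq] at hd
  exact (hr.dvd_mul.mp hd).resolve_right (hmin m (by omega) (by omega))

theorem psp_congr {G H : Type*} [Group G] [Group H] (e : G ≃* H) :
    Nonempty (G ⧸ Subgroup.center G ≃* H ⧸ Subgroup.center H) := by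
  refine ⟨QuotientGroup.congr _ _ e ?_⟩
  ext y
  rw [Subgroup.mem_map]
  constructor
  · rintro ⟨x, hx, rfl⟩
    rw [Subgroup.mem_center_iff] at hx ⊢
    intro z
    obtain ⟨w, rfl⟩ := e.surjective z
    change e w * e x = e x * e w
    rw [← map_mul, ← map_mul, hx]
  · intro hy
    refine ⟨e.symm y, ?_, e.apply_symm_apply y⟩
    rw [Subgroup.mem_center_iff] at hy ⊢
    intro w
    refine e.injective ?_
    rw [map_mul, map_mul, e.apply_symm_apply, hy]

theorem sp_order (p : ℕ) [Fact p.Prime] [CharP F p] (m : ℕ) (hm : 1 ≤ m) :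
    p * (Fintype.card F ^ m + 1) ∈ Set.range (orderOf : Cfsg.PSp (m + 1) F → ℕ) := by
  classical
  haveI : NeZero m := ⟨by omega⟩
  obtain ⟨h, hh⟩ : ∃ h : Matrix.SpecialLinearGroup (Fin 2) (FiniteField.Extension F p m),
      orderOf h = Fintype.card F ^ m + 1 := by
    haveI := Fintype.ofFinite (FiniteField.Extension F p m)
    obtain ⟨h, hh⟩ := SpSinger.exists_sl2 (FiniteField.Extension F p m)
    exact ⟨h, by rw [hh, ← Nat.card_eq_fintype_card, FiniteField.natCard_extension, Nat.card_eq_fintype_card]⟩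
  have hcop : Nat.Coprime p (orderOf h) := by
    rw [hh]
    refine (Fact.out : p.Prime).coprime_iff_not_dvd.mpr fun hd => (Fact.out : p.Prime).not_dvd_one ?_
    obtain ⟨e, -, he⟩ := FiniteField.card F p
    have h1 : p ∣ Fintype.card F ^ m := by rw [he]; exact dvd_pow (dvd_pow_self p e.ne_zero) (by omega)
    exact (Nat.dvd_add_right h1).mp hd
  obtain ⟨g, hg⟩ := SpSinger.exists_order (F := F) p h hcop
  have hdim : finrank F ((Fin 2 → FiniteField.Extension F p m) × (Fin 2 → F)) = 2 * (m + 1) := by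
    rw [Module.finrank_prod, Module.finrank_pi_fintype, Module.finrank_fintype_fun_eq_card]
    simp [FiniteField.finrank_extension]
    ring
  obtain ⟨e⟩ := Classical.SpCount.exists_isomEquiv (SpSinger.form_altND) hdim
  obtain ⟨e'⟩ := psp_congr e
  exact ⟨e' g, (e'.orderOf_eq g).trans (hg.trans (hh ▸ rfl))⟩

theorem omega_no_order (p : ℕ) [Fact p.Prime] [CharP F p] (hodd : Odd (Fintype.card F)) (m : ℕ) (hm : 2 ≤ m) :
    p * (Fintype.card F ^ m + 1) ∉ Set.range (orderOf : Cfsg.POmega F (Cfsg.quadFormOdd (m + 1) F) → ℕ) := by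
  classical
  have h2 : (2 : F) ≠ 0 := two_ne_of_odd hodd
  have hq : 3 ≤ Fintype.card F := by
    have := Fintype.one_lt_card (α := F)
    rcases hodd with ⟨k, hk⟩; omega
  have hp : p ≠ 2 := fun e => h2 (by
    subst e
    exact_mod_cast CharP.cast_eq_zero F 2)
  obtain ⟨r, hr, hord, hrd⟩ := exists_ppd hq hm
  have hP := pnd_line h2
  have hQ : PND (formOf (m + 1) (Equiv.sumComm Unit (Fin (m + 1) ⊕ Fin (m + 1))) (lineForm F)) := formOf_pnd hP
  rw [← coe_odd (m + 1)]
  revert hQ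
  generalize hQd : formOf (m + 1) (Equiv.sumComm Unit (Fin (m + 1) ⊕ Fin (m + 1))) (lineForm F) = Q
  intro hQ
  have hz : Nat.card ↥(Subgroup.center ↥(commutator ↥(Iso Q))) = 1 := by
    have hz := card_center_standard (e := Equiv.sumComm Unit (Fin (m + 1) ⊕ Fin (m + 1))) (F := F) hP
      (by omega) (by simp; omega)
    rw [hQd] at hz
    rw [hz, if_neg]
    rintro ⟨hn, -⟩
    rw [← hQd, negI_mem_standard h2 hP (by simp; omega) [fun _ => 1] ?_ (List.pairwise_singleton _ _) ?_] at hn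
    · simp [Nat.even_add_one] at hn
    · intro z hz
      rw [List.mem_singleton] at hz
      subst hz
      change (1 : F) * 1 ≠ 0
      simp
    · intro x hx
      refine hP x fun y => ?_
      have := hx _ List.mem_cons_self
      rw [show y = y () • (fun _ : Unit => (1 : F)) from funext fun r => by simp, QuadraticMap.polar_smul_right,
        QuadraticMap.polar_comm, this, smul_zero]
  rintro ⟨y, hy⟩
  let e : ↥(commutator ↥(Iso Q)) ≃* ↥(Cfsg.Omega F ⇑Q) :=
    ((commutator ↥(Iso Q)).equivMapOfInjective _ (toMat Q).injective).trans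
      (MulEquiv.subgroupCongr (omega_eq_map (Q := Q)).symm)
  have hbot : Subgroup.center ↥(Cfsg.Omega F ⇑Q) = ⊥ := by
    refine Subgroup.card_eq_one.mp ?_
    rw [← Nat.card_congr (Subgroup.centerCongr e).toEquiv, hz]
  obtain ⟨w, rfl⟩ := QuotientGroup.mk_surjective y
  have hw : orderOf w = p * (Fintype.card F ^ m + 1) := by
    rw [← hy]
    refine (orderOf_injective (QuotientGroup.mk' (Subgroup.center ↥(Cfsg.Omega F ⇑Q))) ?_ w).symm
    rw [← MonoidHom.ker_eq_bot_iff, QuotientGroup.ker_mk', hbot]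
  have hg : orderOf ((e.symm w).1 : ↥(Iso Q)) = p * (Fintype.card F ^ m + 1) := by
    rw [Subgroup.orderOf_coe, MulEquiv.orderOf_eq, hw]
  refine SOSinger.orderOf_ne p hp h2 hQ hm ?_ hr ?_ ?_ (e.symm w).2 ?_
  · rw [Module.finrank_fintype_fun_eq_card]; simp; ring
  · rw [Nat.card_eq_fintype_card]; exact hord
  · rw [Nat.card_eq_fintype_card]; exact hrd
  · rw [Nat.card_eq_fintype_card]; exact hg

theorem spectra_ne (hodd : Odd (Fintype.card F)) (n : ℕ) (hn : 3 ≤ n) :
    Set.range (orderOf : Cfsg.POmega F (Cfsg.quadFormOdd n F) → ℕ) ≠ Set.range (orderOf : Cfsg.PSp n F → ℕ) := by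
  obtain ⟨m, rfl⟩ : ∃ m, n = m + 1 := ⟨n - 1, by omega⟩
  obtain ⟨p, hp⟩ := CharP.exists F
  haveI := Fact.mk (CharP.char_is_prime F p)
  intro h
  exact omega_no_order p hodd m (by omega) (h ▸ sp_order p m (by omega))

end Cfsg.Agent.Classical.OddVsSp
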