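import Cfsg.Agent.Lib.Classical.BCGraphTorus
import Cfsg.Agent.Lib.Classical.OddVsSpOrders

/-!
# `PΩ₂ₙ₊₁(q)` and `PSp₂ₙ(q)` have the same prime graph

The centraliser of a semisimple element of odd order acts on the sum of the moved spaces in the same
way for both groups, since alternating and symmetric invariant forms there determine each other.
-/

set_option autoImplicit false
set_option linter.unusedSectionVars false
set_option linter.style.haveILetI false

namespace Cfsg.Agent.Classical.BCGraph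

open Module QuadraticMap OCount ORefl OOmega SOSinger SpCount Matrix

universe u

variable {F : Type u} [Field F]

/-! ### Groups with squares trivial -/

theorem both_eq_one_of_odd {V : Type u} [AddCommGroup V] [Module F V] [FiniteDimensional F V] {Q : QuadraticForm F V}
    [Finite F] (h2 : (2 : F) ≠ 0) (hQ : PND Q) {g : ↥(Iso Q)} {k : ℕ} (hk : Odd k) (hg : g ^ k = 1) :
    both Q h2 hQ g = 1 := by
  obtain ⟨m, rfl⟩ := hk
  have h := congrArg (both Q h2 hQ) hg
  rw [map_pow, map_one, pow_succ, pow_mul] at h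
  have hsq : (both Q h2 hQ g) ^ 2 = 1 := Prod.ext (Int.units_sq _) (Int.units_sq _)
  rwa [hsq, one_pow, one_mul] at h

theorem both_sq {V : Type u} [AddCommGroup V] [Module F V] [FiniteDimensional F V] {Q : QuadraticForm F V}
    [Finite F] (h2 : (2 : F) ≠ 0) (hQ : PND Q) (g : ↥(Iso Q)) : both Q h2 hQ (g * g) = 1 := by
  rw [map_mul]; exact Prod.ext (Int.units_mul_self _) (Int.units_mul_self _)

/-! ### The isometries of an alternating form -/

section Alt

variable {V : Type u} [AddCommGroup V] [Module F V] {B : V →ₗ[F] V →ₗ[F] F}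

/-- Minus one. -/
def altNeg (B : V →ₗ[F] V →ₗ[F] F) : ↥(isom B) :=
  ⟨LinearEquiv.neg F, fun x y => by simp [LinearEquiv.neg_apply]⟩

theorem altNeg_apply (x : V) : (altNeg B).1 x = -x := rfl

theorem altNeg_sq : altNeg B * altNeg B = 1 := Subtype.ext (LinearEquiv.ext fun x => neg_neg x)

theorem altNeg_comm (g : ↥(isom B)) : Commute (altNeg B) g := Subtype.ext (LinearEquiv.ext fun x => by
  change -(g.1 x) = g.1 (-x)
  rw [map_neg])

theorem center_cases [FiniteDimensional F V] (hB : IsAltND B) {m : ℕ} (hV : finrank F V = 2 * m) {z : ↥(isom B)}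
    (hz : z ∈ Subgroup.center ↥(isom B)) : z = 1 ∨ z = altNeg B := by
  obtain ⟨f⟩ := exists_fam m hB hV
  let e := isomEquiv hB hV f
  have hez : e z ∈ Subgroup.center (Matrix.symplecticGroup (Fin m) F) := Subgroup.mem_center_iff.mpr fun x => by
    obtain ⟨w, rfl⟩ := e.surjective x
    rw [← map_mul, ← map_mul, Subgroup.mem_center_iff.mp hz w]
  obtain ⟨c, hc, hzc⟩ := Small.sp_center_smul m (e z) hez
  have hlin : z.1.toLinearMap = c • LinearMap.id := by
    refine (LinearMap.toMatrix (famBasis hB hV f) (famBasis hB hV f)).injective ?_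
    rw [map_smul, LinearMap.toMatrix_id]
    exact hzc
  rcases mul_self_eq_one_iff.mp hc with rfl | rfl
  · refine Or.inl (Subtype.ext (LinearEquiv.ext fun x => ?_))
    have := LinearMap.congr_fun hlin x
    simpa using this
  · refine Or.inr (Subtype.ext (LinearEquiv.ext fun x => ?_))
    have := LinearMap.congr_fun hlin x
    rw [altNeg_apply]
    simpa using this

theorem neg_mem_center : altNeg B ∈ Subgroup.center ↥(isom B) :=
  Subgroup.mem_center_iff.mpr fun g => (altNeg_comm g).eq.symm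

theorem isom_det [FiniteDimensional F V] [Finite F] (hB : IsAltND B) {m : ℕ} (hV : finrank F V = 2 * m) (g : ↥(isom B)) :
    LinearMap.det (g.1 : V →ₗ[F] V) = 1 := by
  classical
  haveI := Fintype.ofFinite F
  obtain ⟨f⟩ := exists_fam m hB hV
  rw [← LinearMap.det_toMatrix (famBasis hB hV f)]
  exact Small.SymplecticClasses.det_eq_one (isomEquiv hB hV f g)

variable [Finite F]

/-- Building an element of order `r s` in `PSp`. -/
theorem sp_target [FiniteDimensional F V] (hB : IsAltND B) {n r s : ℕ} (hV : finrank F V = 2 * n) (hr : r.Prime)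
    (hs : s.Prime) (hrs : r ≠ s) (x y : ↥(isom B)) (hc : Commute x y) (hx1 : x ≠ 1) (hxn : x ≠ altNeg B)
    (hxr : x ^ r = 1 ∨ x ^ r = altNeg B) (hy1 : y ≠ 1) (hyn : y ≠ altNeg B) (hys : y ^ s = 1) :
    r * s ∈ Set.range (orderOf : Cfsg.PSp n F → ℕ) := by
  haveI : Finite V := Module.finite_of_finite F
  haveI : Finite (V ≃ₗ[F] V) := Finite.of_injective (fun g => (g : V → V)) DFunLike.coe_injective
  obtain ⟨e⟩ := exists_isomEquiv hB hV
  obtain ⟨e'⟩ := OddVsSp.psp_congr e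
  refine ⟨e' ((x * y : ↥(isom B)) : ↥(isom B) ⧸ Subgroup.center ↥(isom B)), (e'.orderOf_eq _).trans ?_⟩
  refine Small.PSLPrimeGraph.orderOf_mk_mul hr hs hrs x y hc (fun h => ?_) ?_ (fun h => ?_) (hys ▸ one_mem _)
  · exact (center_cases hB hV h).elim hx1 hxn
  · rcases hxr with h | h <;> rw [h]
    exacts [one_mem _, neg_mem_center]
  · exact (center_cases hB hV h).elim hy1 hyn

end Alt

/-! ### The odd orthogonal groups -/

section Orth

variable [Fintype F]

/-- The standard form. -/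
noncomputable abbrev stdOdd (n : ℕ) (F : Type u) [Field F] : QuadraticForm F (Unit ⊕ (Fin n ⊕ Fin n) → F) :=
  formOf n (Equiv.sumComm Unit (Fin n ⊕ Fin n)) (lineForm F)

theorem range_POmega (h2 : (2 : F) ≠ 0) {n : ℕ} (hn : 2 ≤ n) (N : ℕ) :
    N ∈ Set.range (orderOf : Cfsg.POmega F (Cfsg.quadFormOdd n F) → ℕ) ↔
      ∃ g ∈ commutator ↥(Iso (stdOdd n F)), orderOf g = N := by
  classical
  have hP := pnd_line h2
  have hQ : PND (formOf n (Equiv.sumComm Unit (Fin n ⊕ Fin n)) (lineForm F)) := formOf_pnd hP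
  rw [stdOdd, ← coe_odd n]
  revert hQ
  generalize hQd : formOf n (Equiv.sumComm Unit (Fin n ⊕ Fin n)) (lineForm F) = Q
  intro hQ
  have hz : Nat.card ↥(Subgroup.center ↥(commutator ↥(Iso Q))) = 1 := by
    have hz := card_center_standard (e := Equiv.sumComm Unit (Fin n ⊕ Fin n)) (F := F) hP hn (by simp; omega)
    rw [hQd] at hz
    rw [hz, if_neg]
    rintro ⟨hn', -⟩
    rw [← hQd, negI_mem_standard h2 hP (by simp; omega) [fun _ => 1] ?_ (List.pairwise_singleton _ _) ?_] at hn'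
    · simp [Nat.even_add_one] at hn'
    · intro z hz
      rw [List.mem_singleton] at hz
      subst hz
      change (1 : F) * 1 ≠ 0
      simp
    · intro x hx
      refine hP x fun y => ?_
      have := hx _ List.mem_cons_self
      rw [show y = y () • (fun _ : Unit => (1 : F)) from funext fun r => by simp, QuadraticMap.polar_smul_right,
        QuadraticMap.polar_comm, this, smul_zero]
  let e : ↥(commutator ↥(Iso Q)) ≃* ↥(Cfsg.Omega F ⇑Q) :=
    ((commutator ↥(Iso Q)).equivMapOfInjective _ (toMat Q).injective).trans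
      (MulEquiv.subgroupCongr (omega_eq_map (Q := Q)).symm)
  have hbot : Subgroup.center ↥(Cfsg.Omega F ⇑Q) = ⊥ := by
    refine Subgroup.card_eq_one.mp ?_
    rw [← Nat.card_congr (Subgroup.centerCongr e).toEquiv, hz]
  have hinj : Function.Injective (QuotientGroup.mk' (Subgroup.center ↥(Cfsg.Omega F ⇑Q))) := by
    rw [← MonoidHom.ker_eq_bot_iff, QuotientGroup.ker_mk', hbot]
  constructor
  · rintro ⟨y, hy⟩
    obtain ⟨w, rfl⟩ := QuotientGroup.mk'_surjective _ y
    rw [orderOf_injective _ hinj] at hy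
    exact ⟨(e.symm w).1, (e.symm w).2, by rw [Subgroup.orderOf_coe, MulEquiv.orderOf_eq, hy]⟩
  · rintro ⟨g, hg, hgo⟩
    refine ⟨QuotientGroup.mk' (Subgroup.center ↥(Cfsg.Omega F ⇑Q)) (e ⟨g, hg⟩), ?_⟩
    rw [orderOf_injective _ hinj, MulEquiv.orderOf_eq, ← Subgroup.orderOf_coe]
    exact hgo

/-- An element of the derived group of any space of dimension `2n+1`. -/
theorem o_target (h2 : (2 : F) ≠ 0) {n : ℕ} (hn : 2 ≤ n) {V : Type u} [AddCommGroup V] [Module F V]
    [FiniteDimensional F V] {Q : QuadraticForm F V} (hQ : PND Q) (hV : finrank F V = 2 * n + 1) {g : ↥(Iso Q)}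
    (hg : g ∈ commutator ↥(Iso Q)) :
    orderOf g ∈ Set.range (orderOf : Cfsg.POmega F (Cfsg.quadFormOdd n F) → ℕ) := by
  obtain ⟨d, L, hd, hL⟩ := Small.QuadModels.odd_model Q hV (Small.QuadModels.nondegenerate hQ)
  have hL' : ∀ v, Q (L v) = d * stdOdd n F v := fun v => by rw [hL, stdOdd, coe_odd]
  rw [range_POmega h2 hn]
  refine ⟨(simConj L hd hL').symm g, ?_, MulEquiv.orderOf_eq _ g⟩
  rw [← map_commutator_equiv (simConj L hd hL').symm]
  exact ⟨g, hg, rfl⟩

end Orth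

/-! ### Splitting -/

section Split

variable {V : Type u} [AddCommGroup V] [Module F V] [FiniteDimensional F V]

/-- A non-degenerate bilinear form splits along the fixed space of an isometry of order prime to `p`. -/
theorem split_form (B : V →ₗ[F] V →ₗ[F] F) (hBr : ∀ a b, B a b = 0 → B b a = 0)
    (hB : ∀ v, (∀ w, B v w = 0) → v = 0) (t : V ≃ₗ[F] V) (hiso : ∀ a b, B (t a) (t b) = B a b) {N : ℕ}
    (hN : (N : F) ≠ 0) (ht : t ^ N = 1) :
    ∃ W C : Submodule F V, IsCompl W C ∧ (∀ c ∈ C, t c = c) ∧ (∀ w ∈ W, t w = w → w = 0) ∧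
      (∀ w ∈ W, ∀ c ∈ C, B w c = 0) ∧ (∀ g : V ≃ₗ[F] V, Commute g t → (∀ w ∈ W, g w ∈ W) ∧ ∀ c ∈ C, g c ∈ C) ∧
      (∀ w ∈ W, (∀ w' ∈ W, B w w' = 0) → w = 0) ∧ (∀ c ∈ C, (∀ c' ∈ C, B c c' = 0) → c = 0) := by
  obtain ⟨T, hT⟩ : ∃ T : Module.End F V, T = (t : V →ₗ[F] V) := ⟨_, rfl⟩
  have hTp : ∀ i : ℕ, ∀ v, (T ^ i) v = (t ^ i) v := by
    intro i
    induction i with
    | zero => intro v; rfl
    | succ i ih => intro v; rw [pow_succ, pow_succ, Module.End.mul_apply, ih, hT]; rfl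
  have hTN : T ^ N = 1 := LinearMap.ext fun v => by rw [hTp, ht]; rfl
  have hc := isCompl_fix hN hTN
  have hker : ∀ c, c ∈ LinearMap.ker (T - 1) ↔ t c = c := fun c => by
    rw [LinearMap.mem_ker, LinearMap.sub_apply, Module.End.one_apply, sub_eq_zero, hT]; rfl
  have hperp : ∀ w ∈ LinearMap.range (T - 1), ∀ c ∈ LinearMap.ker (T - 1), B w c = 0 := by
    rintro _ ⟨u, rfl⟩ c hcm
    rw [hker] at hcm
    rw [hT, LinearMap.sub_apply, Module.End.one_apply, map_sub, LinearMap.sub_apply, LinearEquiv.coe_coe]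
    conv_lhs => arg 1; rw [← hcm]
    rw [hiso, sub_self]
  have hdec : ∀ v : V, ∃ w ∈ LinearMap.range (T - 1), ∃ c ∈ LinearMap.ker (T - 1), w + c = v := fun v =>
    Submodule.mem_sup.mp (hc.sup_eq_top ▸ Submodule.mem_top : v ∈ LinearMap.range (T - 1) ⊔ LinearMap.ker (T - 1))
  refine ⟨_, _, hc, fun c h => (hker c).mp h, fun w hw h => ?_, hperp, fun g hg => ?_, fun w hw h => ?_, fun c hcm h => ?_⟩
  · exact Submodule.disjoint_def.mp hc.disjoint w hw ((hker w).mpr h)
  · have hg' : ∀ v, g (t v) = t (g v) := fun v => LinearEquiv.congr_fun hg.eq v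
    refine ⟨?_, fun c h => (hker _).mpr (by rw [← hg', (hker c).mp h])⟩
    rintro _ ⟨u, rfl⟩
    exact ⟨g u, by simp [hT, hg']⟩
  · refine hB w fun v => ?_
    obtain ⟨a, ha, c, hcm, rfl⟩ := hdec v
    rw [map_add, h a ha, hperp w hw c hcm, add_zero]
  · refine hB c fun v => ?_
    obtain ⟨a, ha, c', hc', rfl⟩ := hdec v
    rw [map_add, h c' hc', hBr _ _ (hperp a ha c hcm), add_zero]

omit [FiniteDimensional F V] in
theorem exists_restrict {W : Submodule F V} [FiniteDimensional F W] (g : V ≃ₗ[F] V) (hg : ∀ w ∈ W, g w ∈ W) :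
    ∃ y : W ≃ₗ[F] W, ∀ w : W, ((y w : W) : V) = g w :=
  ⟨LinearEquiv.ofInjectiveEndo ((g : V →ₗ[F] V).restrict hg) (fun a b e => Subtype.ext (g.injective (congrArg Subtype.val e))),
    fun _ => rfl⟩

omit [FiniteDimensional F V] in
theorem restrict_comm {W : Submodule F V} {g h : V ≃ₗ[F] V} {y z : W ≃ₗ[F] W} (hy : ∀ w : W, ((y w : W) : V) = g w)
    (hz : ∀ w : W, ((z w : W) : V) = h w) (hc : Commute g h) : Commute y z :=
  LinearEquiv.ext fun w => Subtype.ext (by
    change ((y (z w) : W) : V) = ((z (y w) : W) : V)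
    rw [hy, hz, hz, hy]
    exact LinearEquiv.congr_fun hc.eq _)

omit [FiniteDimensional F V] in
/-- An element fixing the complement has the order of its restriction. -/
theorem orderOf_restrict {W C : Submodule F V} (hc : IsCompl W C) {g : V ≃ₗ[F] V} {y : W ≃ₗ[F] W}
    (hy : ∀ w : W, ((y w : W) : V) = g w) (hgC : ∀ c ∈ C, g c = c) : orderOf y = orderOf g := by
  have hk : ∀ k : ℕ, (∀ w : W, (((y ^ k) w : W) : V) = (g ^ k) w) ∧ ∀ c ∈ C, (g ^ k) c = c := by
    intro k
    induction k with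
    | zero => exact ⟨fun w => rfl, fun c _ => rfl⟩
    | succ k ih =>
      refine ⟨fun w => ?_, fun c hcm => ?_⟩
      · rw [pow_succ, pow_succ, LinearEquiv.mul_apply, LinearEquiv.mul_apply, ih.1, hy]
      · rw [pow_succ, LinearEquiv.mul_apply, hgC c hcm, ih.2 c hcm]
  refine Nat.dvd_antisymm (orderOf_dvd_of_pow_eq_one (LinearEquiv.ext fun w => Subtype.ext ?_))
    (orderOf_dvd_of_pow_eq_one (LinearEquiv.ext fun v => ?_))
  · rw [(hk _).1, pow_orderOf_eq_one]; rfl
  · obtain ⟨a, ha, c, hcm, rfl⟩ := Submodule.mem_sup.mp (hc.sup_eq_top ▸ Submodule.mem_top : v ∈ W ⊔ C)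
    rw [map_add, (hk _).2 c hcm]
    have := (hk (orderOf y)).1 ⟨a, ha⟩
    rw [pow_orderOf_eq_one] at this
    rw [show (g ^ orderOf y) a = a from this.symm]
    rfl

omit [FiniteDimensional F V] in
theorem eq_of_split {W C : Submodule F V} (hc : IsCompl W C) {g h : V ≃ₗ[F] V} (hW : ∀ w ∈ W, g w = h w)
    (hC : ∀ c ∈ C, g c = h c) : g = h := LinearEquiv.ext fun v => by
  obtain ⟨a, ha, c, hcm, rfl⟩ := Submodule.mem_sup.mp (hc.sup_eq_top ▸ Submodule.mem_top : v ∈ W ⊔ C)
  rw [map_add, map_add, hW a ha, hC c hcm]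

theorem det_split {W C : Submodule F V} (hc : IsCompl W C) (g : V →ₗ[F] V) (a : W →ₗ[F] W) (b : C →ₗ[F] C)
    (ha : ∀ w : W, ((a w : W) : V) = g w) (hb : ∀ c : C, ((b c : C) : V) = g c) :
    LinearMap.det g = LinearMap.det a * LinearMap.det b := by
  rw [← LinearMap.det_prodMap, ← LinearMap.det_conj (a.prodMap b) (Submodule.prodEquivOfIsCompl W C hc)]
  congr 1
  refine LinearMap.ext fun v => ?_
  obtain ⟨⟨w, c⟩, rfl⟩ := (Submodule.prodEquivOfIsCompl W C hc).surjective v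
  simp [ha, hb]

end Split

/-! ### Transfer of forms on the moved space -/

section Transfer

variable {W : Type u} [AddCommGroup W] [Module F W] [FiniteDimensional F W]

theorem eq_zero_of_sq_fixed {t : W ≃ₗ[F] W} {N : ℕ} (hN : Odd N) (ht : t ^ N = 1) (hfix : ∀ w, t w = w → w = 0)
    {v : W} (hv : t (t v) = v) : v = 0 := by
  obtain ⟨m, rfl⟩ := hN
  have h : ∀ i : ℕ, (t ^ (2 * i)) v = v := by
    intro i
    induction i with
    | zero => rfl
    | succ i ih => rw [Nat.mul_succ, pow_add, LinearEquiv.mul_apply, pow_two, LinearEquiv.mul_apply, hv, ih]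
  refine hfix v ?_
  conv_rhs => rw [show v = ((t ^ (2 * m + 1)) v) by rw [ht]; rfl, pow_succ', LinearEquiv.mul_apply, h]

theorem exists_quad {B : W →ₗ[F] W →ₗ[F] F} (hB : IsAltND B) (t : ↥(isom B)) {N : ℕ} (hN : Odd N)
    (ht : t ^ N = 1) (hfix : ∀ w, t.1 w = w → w = 0) :
    ∃ Qw : QuadraticForm F W, PND Qw ∧ ∀ g : W ≃ₗ[F] W, g ∈ isom B → Commute g t.1 → g ∈ Iso Qw := by
  refine ⟨LinearMap.BilinMap.toQuadraticMap (B.compl₁₂ LinearMap.id (t.1 : W →ₗ[F] W)), fun v hv => ?_,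
    fun g hg hgt v => ?_⟩
  · refine eq_zero_of_sq_fixed hN (congrArg Subtype.val ht) hfix (v := v) ?_
    have h1 : t.1 v - t.1.symm v = 0 := hB.nondeg _ fun w => by
      have h := hv w
      rw [LinearMap.BilinMap.polar_toQuadraticMap] at h
      simp only [LinearMap.compl₁₂_apply, LinearMap.id_coe, id_eq, LinearEquiv.coe_coe] at h
      have e1 : B v (t.1 w) = B (t.1.symm v) w := by
        conv_lhs => rw [← t.1.apply_symm_apply v]
        exact t.2 _ _
      rw [map_sub, LinearMap.sub_apply, ← e1, hB.swap (t.1 v) w]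
      linear_combination -h
    rw [sub_eq_zero] at h1
    rw [h1, t.1.apply_symm_apply]
  · simp only [LinearMap.BilinMap.toQuadraticMap_apply, LinearMap.compl₁₂_apply, LinearMap.id_coe, id_eq,
      LinearEquiv.coe_coe]
    rw [← show g (t.1 v) = t.1 (g v) from LinearEquiv.congr_fun hgt.eq v, hg]

theorem exists_alt {Qw : QuadraticForm F W} (hQ : PND Qw) (t : ↥(Iso Qw)) {N : ℕ} (hN : Odd N) (ht : t ^ N = 1)
    (hfix : ∀ w, t.1 w = w → w = 0) :
    ∃ B : W →ₗ[F] W →ₗ[F] F, IsAltND B ∧ ∀ g : W ≃ₗ[F] W, g ∈ Iso Qw → Commute g t.1 → g ∈ isom B := by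
  refine ⟨(polarBilin Qw).compl₁₂ LinearMap.id (t.1 : W →ₗ[F] W) - (polarBilin Qw).compl₁₂ (t.1 : W →ₗ[F] W) LinearMap.id,
    ⟨fun v => by simp [polar_comm Qw v], fun v hv => ?_⟩, fun g hg hgt x y => ?_⟩
  · refine eq_zero_of_sq_fixed hN (congrArg Subtype.val ht) hfix (v := v) ?_
    have h1 : t.1.symm v - t.1 v = 0 := hQ _ fun w => by
      have h := hv w
      simp only [LinearMap.sub_apply, LinearMap.compl₁₂_apply, LinearMap.id_coe, id_eq, LinearEquiv.coe_coe,
        polarBilin_apply_apply] at h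
      have e1 : polar Qw v (t.1 w) = polar Qw (t.1.symm v) w := by
        conv_lhs => rw [← t.1.apply_symm_apply v]
        exact polar_iso t.2 _ _
      rw [polar_sub_left, ← e1]
      exact h
    rw [sub_eq_zero] at h1
    rw [← h1, t.1.apply_symm_apply]
  · have hgt' : ∀ w, t.1 (g w) = g (t.1 w) := fun w => (LinearEquiv.congr_fun hgt.eq w).symm
    simp only [LinearMap.sub_apply, LinearMap.compl₁₂_apply, LinearMap.id_coe, id_eq, LinearEquiv.coe_coe,
      polarBilin_apply_apply, hgt', polar_iso hg]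

end Transfer

/-! ### Products -/

section Product

variable {W C : Type u} [AddCommGroup W] [Module F W] [AddCommGroup C] [Module F C]

/-- The product embedding. -/
def oProd (Q₁ : QuadraticForm F W) (Q₂ : QuadraticForm F C) : ↥(Iso Q₁) × ↥(Iso Q₂) →* ↥(Iso (Q₁.prod Q₂)) where
  toFun g := ⟨g.1.1.prodCongr g.2.1, fun x => by
    simp [QuadraticMap.prod_apply, g.1.2 x.1, g.2.2 x.2]⟩
  map_one' := Subtype.ext (LinearEquiv.ext fun _ => rfl)
  map_mul' _ _ := Subtype.ext (LinearEquiv.ext fun _ => rfl)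

theorem oProd_injective (Q₁ : QuadraticForm F W) (Q₂ : QuadraticForm F C) : Function.Injective (oProd Q₁ Q₂) :=
  fun g h e => Prod.ext
    (Subtype.ext (LinearEquiv.ext fun w => congrArg (fun f : ↥(Iso (Q₁.prod Q₂)) => (f.1 (w, 0)).1) e))
    (Subtype.ext (LinearEquiv.ext fun c => congrArg (fun f : ↥(Iso (Q₁.prod Q₂)) => (f.1 (0, c)).2) e))

theorem pnd_prod {Q₁ : QuadraticForm F W} {Q₂ : QuadraticForm F C} (h₁ : PND Q₁) (h₂ : PND Q₂) :
    PND (Q₁.prod Q₂) := fun x hx => Prod.ext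
  (h₁ _ fun w => by have := hx (w, 0); simpa [QuadraticMap.polar] using this)
  (h₂ _ fun c => by have := hx (0, c); simpa [QuadraticMap.polar] using this)

/-- The sum of two alternating forms. -/
def altProd (B₁ : W →ₗ[F] W →ₗ[F] F) (B₂ : C →ₗ[F] C →ₗ[F] F) : (W × C) →ₗ[F] (W × C) →ₗ[F] F :=
  B₁.compl₁₂ (LinearMap.fst F W C) (LinearMap.fst F W C) + B₂.compl₁₂ (LinearMap.snd F W C) (LinearMap.snd F W C)

theorem altProd_nd {B₁ : W →ₗ[F] W →ₗ[F] F} {B₂ : C →ₗ[F] C →ₗ[F] F} (h₁ : IsAltND B₁) (h₂ : IsAltND B₂) :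
    IsAltND (altProd B₁ B₂) := by
  refine ⟨fun v => by simp [altProd, h₁.self, h₂.self], fun v hv => Prod.ext ?_ ?_⟩
  · exact h₁.nondeg _ fun w => by have := hv (w, 0); simpa [altProd] using this
  · exact h₂.nondeg _ fun c => by have := hv (0, c); simpa [altProd] using this

/-- The product embedding. -/
def spProd (B₁ : W →ₗ[F] W →ₗ[F] F) (B₂ : C →ₗ[F] C →ₗ[F] F) : ↥(isom B₁) × ↥(isom B₂) →* ↥(isom (altProd B₁ B₂)) where
  toFun g := ⟨g.1.1.prodCongr g.2.1, fun x y => by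
    simp [altProd, g.1.2 x.1 y.1, g.2.2 x.2 y.2]⟩
  map_one' := Subtype.ext (LinearEquiv.ext fun _ => rfl)
  map_mul' _ _ := Subtype.ext (LinearEquiv.ext fun _ => rfl)

theorem spProd_injective (B₁ : W →ₗ[F] W →ₗ[F] F) (B₂ : C →ₗ[F] C →ₗ[F] F) : Function.Injective (spProd B₁ B₂) :=
  fun g h e => Prod.ext
    (Subtype.ext (LinearEquiv.ext fun w => congrArg (fun f : ↥(isom (altProd B₁ B₂)) => (f.1 (w, 0)).1) e))
    (Subtype.ext (LinearEquiv.ext fun c => congrArg (fun f : ↥(isom (altProd B₁ B₂)) => (f.1 (0, c)).2) e))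

theorem spProd_neg (B₁ : W →ₗ[F] W →ₗ[F] F) (B₂ : C →ₗ[F] C →ₗ[F] F) :
    spProd B₁ B₂ (altNeg B₁, altNeg B₂) = altNeg (altProd B₁ B₂) := Subtype.ext (LinearEquiv.ext fun _ => rfl)

end Product

/-! ### Elements on the fixed space -/

section Second

variable [Fintype F]

theorem o_second (p : ℕ) [Fact p.Prime] [CharP F p] (h2 : (2 : F) ≠ 0) {j r : ℕ} (hj : 1 ≤ j) (hr : r = 2 ∨ r = p) :
    ∃ a ∈ commutator ↥(Iso (stdOdd j F)), a ^ r = 1 ∧ a ≠ 1 := by
  classical
  have hP := pnd_line h2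
  have hQ : PND (stdOdd j F) := formOf_pnd hP
  have hd : 2 ≤ finrank F (Unit ⊕ (Fin j ⊕ Fin j) → F) := by simp; omega
  rw [commutator_eq h2 hQ hd]
  obtain ⟨i, -⟩ : ∃ i : Fin j, i.1 = 0 := ⟨⟨0, hj⟩, rfl⟩
  obtain ⟨e, he⟩ : ∃ e, e = Equiv.sumComm Unit (Fin j ⊕ Fin j) := ⟨_, rfl⟩
  obtain ⟨w, hw⟩ : ∃ w : Unit ⊕ (Fin j ⊕ Fin j) → F, w = bv e (.inr ()) := ⟨_, rfl⟩
  have hQw : stdOdd j F w = 1 := by
    rw [hw, he, stdOdd, formOf_bv]
    simp [show ∀ z, lineForm F z = z () * z () from fun z => rfl]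
  have hbw : ∀ k, polar (stdOdd j F) (bv e (.inl k)) w = 0 := fun k => by
    rw [hw, he, stdOdd, formOf_polar_bv]; simp [OCount.gram]
  rcases hr with rfl | rfl
  · obtain ⟨v, hv⟩ : ∃ v : Unit ⊕ (Fin j ⊕ Fin j) → F, v = pos e i := ⟨_, rfl⟩
    have hQv : stdOdd j F v = 1 := by rw [hv, he]; exact value_pos i
    have hvw : polar (stdOdd j F) v w = 0 := by rw [hv, pos, polar_add_left, hbw, hbw, add_zero]
    refine ⟨rf (stdOdd j F) v * rf (stdOdd j F) w, ?_, ?_, fun e1 => ?_⟩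
    · rw [MonoidHom.mem_ker, map_mul]
      refine Prod.ext ?_ ?_
      · change dsign h2 hQ _ * dsign h2 hQ _ = 1
        rw [dsign_rf h2 hQ (hQv ▸ one_ne_zero), dsign_rf h2 hQ (hQw ▸ one_ne_zero)]; rfl
      · change spinor _ _ * spinor _ _ = 1
        rw [(spinor_rf h2 hQ hd (hQv ▸ one_ne_zero)).mpr (hQv ▸ IsSquare.one),
          (spinor_rf h2 hQ hd (hQw ▸ one_ne_zero)).mpr (hQw ▸ IsSquare.one), one_mul]
    · have hc : Commute (rf (stdOdd j F) v) (rf (stdOdd j F) w) := by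
        have h1 := conj_rf (rf (stdOdd j F) v) w
        rw [show (rf (stdOdd j F) v).1 w = w from refl_fix hvw] at h1
        exact mul_inv_eq_iff_eq_mul.mp h1
      rw [pow_two, hc.symm.mul_mul_mul_comm, rf_mul_self, rf_mul_self, one_mul]
    · have h1 := congrArg (fun g : ↥(Iso (stdOdd j F)) => g.1 w) e1
      change refl (stdOdd j F) v (refl (stdOdd j F) w w) = w at h1
      rw [refl_self (hQw ▸ one_ne_zero), map_neg, refl_fix hvw] at h1
      have h0 := neg_fixed_free h2 h1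
      rw [h0, QuadraticMap.map_zero] at hQw
      exact zero_ne_one hQw
  · obtain ⟨x, hx⟩ : ∃ x, x = bv (F := F) e (.inl (.inl i)) := ⟨_, rfl⟩
    have hQx : stdOdd j F x = 0 := by rw [hx, he, stdOdd, formOf_bv]; rfl
    have hxw : ∀ k : ℕ, polar (stdOdd j F) x ((k : F) • w) = 0 := fun k => by
      rw [polar_smul_right, hx, hbw, smul_zero]
    obtain ⟨a, ha⟩ : ∃ a : ↥(Iso (stdOdd j F)), a = ⟨siegel hQx (hxw 1), siegel_mem hQx (hxw 1)⟩ := ⟨_, rfl⟩
    have hk : ∀ k : ℕ, ∀ v, (a ^ k).1 v = siegelMap (stdOdd j F) x ((k : F) • w) v := by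
      intro k
      induction k with
      | zero => intro v; rw [Nat.cast_zero, zero_smul, siegelMap_zero]; rfl
      | succ k ih =>
        intro v
        rw [pow_succ]
        change (a ^ k).1 (a.1 v) = _
        rw [ih, ha]
        change siegelMap (stdOdd j F) x ((k : F) • w) (siegelMap (stdOdd j F) x (((1 : ℕ) : F) • w) v) = _
        rw [siegelMap_add hQx (hxw k) (hxw 1), ← add_smul, ← Nat.cast_add]
    have hap : a ^ r = 1 := Subtype.ext (LinearEquiv.ext fun v => by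
      rw [hk, CharP.cast_eq_zero, zero_smul, siegelMap_zero]; rfl)
    refine ⟨a, MonoidHom.mem_ker.mpr (both_eq_one_of_odd h2 hQ ((Fact.out : r.Prime).odd_of_ne_two fun e2 => h2 ?_) hap),
      hap, fun e1 => ?_⟩
    · subst e2; exact_mod_cast CharP.cast_eq_zero F 2
    · obtain ⟨z, hz⟩ : ∃ z, z = bv (F := F) e (.inl (.inr i)) := ⟨_, rfl⟩
      have hxz : polar (stdOdd j F) x z = 1 := by
        rw [hx, hz, he, stdOdd, formOf_polar_bv]; simp [OCount.gram]
      have hwz : polar (stdOdd j F) w z = 0 := by rw [polar_comm, hz, hbw]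
      have h1 := congrArg (fun g : ↥(Iso (stdOdd j F)) => polar (stdOdd j F) w (g.1 z)) e1
      rw [← pow_one a] at h1
      simp only [hk, siegelMap_apply, Nat.cast_one, one_smul, hxz, hwz] at h1
      change polar _ w (z + w - _ • x) = polar _ w z at h1
      rw [polar_sub_right, polar_add_right, polar_smul_right, hwz, polar_comm _ w x, hx, hbw, polar_self_two, hQw,
        smul_zero, sub_zero, zero_add, mul_one] at h1
      exact h2 h1

theorem sp_second (p : ℕ) [Fact p.Prime] [CharP F p] (h2 : (2 : F) ≠ 0) {j r : ℕ} (hj : 1 ≤ j) (hr : r = 2 ∨ r = p) :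
    ∃ a : ↥(isom (Small.SpPrimeGraph.stdForm j F)), a ^ r = 1 ∧ a ≠ 1 := by
  classical
  have hB := Small.SpPrimeGraph.stdForm_alt (F := F) (n := j)
  obtain ⟨i, -⟩ : ∃ i : Fin j, i.1 = 0 := ⟨⟨0, hj⟩, rfl⟩
  obtain ⟨w, hw0⟩ : ∃ w : Fin j ⊕ Fin j → F, w ≠ 0 := ⟨Pi.single (.inl i) 1, by simp⟩
  rcases hr with rfl | rfl
  · refine ⟨altNeg _, by rw [pow_two, altNeg_sq], fun e => ?_⟩
    exact hw0 (neg_fixed_free h2 (show -w = w from congrArg (fun g : ↥(isom (Small.SpPrimeGraph.stdForm j F)) => g.1 w) e))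
  · let B := Small.SpPrimeGraph.stdForm j F
    let T : (Fin j ⊕ Fin j → F) ≃ₗ[F] (Fin j ⊕ Fin j → F) :=
      LinearEquiv.ofLinear (LinearMap.id + (B.flip w).smulRight w) (LinearMap.id - (B.flip w).smulRight w)
        (LinearMap.ext fun y => by simp [map_sub, B, hB.self, sub_smul])
        (LinearMap.ext fun y => by simp [map_add, B, hB.self, add_smul])
    have hT : ∀ y, T y = y + B y w • w := fun y => rfl
    have hTm : T ∈ isom B := fun y z => by
      rw [hT, hT]
      simp only [map_add, map_smul, LinearMap.add_apply, LinearMap.smul_apply, smul_eq_mul, B, hB.self]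
      rw [hB.swap w z]
      ring
    have hk : ∀ (k : ℕ) v, ((⟨T, hTm⟩ : ↥(isom B)) ^ k).1 v = v + ((k : F) * B v w) • w := by
      intro k
      induction k with
      | zero => intro v; simp
      | succ k ih =>
        intro v
        rw [pow_succ]
        change ((⟨T, hTm⟩ : ↥(isom B)) ^ k).1 (T v) = _
        rw [ih, hT, map_add, map_smul, LinearMap.add_apply, LinearMap.smul_apply, show B w w = 0 from hB.self w,
          smul_zero, add_zero, Nat.cast_succ, add_assoc, ← add_smul]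
        congr 2; ring
    refine ⟨⟨T, hTm⟩, Subtype.ext (LinearEquiv.ext fun v => by rw [hk, CharP.cast_eq_zero]; simp), fun e => ?_⟩
    obtain ⟨v, hv⟩ : ∃ v, B v w ≠ 0 := by
      by_contra! hc
      exact hw0 (hB.nondeg w fun v => by rw [hB.swap, show B v w = 0 from hc v, neg_zero])
    have h1 := congrArg (fun g : ↥(isom B) => g.1 v) e
    change T v = v at h1
    rw [hT, add_eq_left, smul_eq_zero] at h1
    exact hw0 (h1.resolve_left hv)

end Second

/-! ### The main theorem -/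

section Main

variable [Fintype F]

theorem sp_neg_ne_one {V : Type u} [AddCommGroup V] [Module F V] {B : V →ₗ[F] V →ₗ[F] F} (h2 : (2 : F) ≠ 0)
    [FiniteDimensional F V] [Nontrivial V] : altNeg B ≠ 1 := fun e => by
  obtain ⟨v, hv⟩ := exists_ne (0 : V)
  exact hv (neg_fixed_free h2 (show -v = v from congrArg (fun g : ↥(isom B) => g.1 v) e))

theorem ne_neg_of_odd {V : Type u} [AddCommGroup V] [Module F V] {B : V →ₗ[F] V →ₗ[F] F} (h2 : (2 : F) ≠ 0)
    [FiniteDimensional F V] [Nontrivial V] {g : ↥(isom B)} {k : ℕ} (hk : Odd k) (hg : g ^ k = 1) : g ≠ altNeg B := by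
  rintro rfl
  obtain ⟨m, rfl⟩ := hk
  rw [pow_succ, pow_mul, pow_two, altNeg_sq, one_pow, one_mul] at hg
  exact sp_neg_ne_one h2 hg

set_option maxHeartbeats 1000000 in
theorem sp_to_o (p : ℕ) [Fact p.Prime] [CharP F p] (h2 : (2 : F) ≠ 0) {n : ℕ} (hn : 2 ≤ n) {r s : ℕ} (hr : r.Prime)
    (hs : s.Prime) (hrs : r ≠ s) (hs2 : s ≠ 2) (hsp : s ≠ p) (h : r * s ∈ Set.range (orderOf : Cfsg.PSp n F → ℕ)) :
    r * s ∈ Set.range (orderOf : Cfsg.POmega F (Cfsg.quadFormOdd n F) → ℕ) := by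
  classical
  obtain ⟨B, hBdef⟩ : ∃ B, B = Small.SpPrimeGraph.stdForm n F := ⟨_, rfl⟩
  have hB : IsAltND B := hBdef ▸ Small.SpPrimeGraph.stdForm_alt
  have hV : finrank F (Fin n ⊕ Fin n → F) = 2 * n := by simp [two_mul]
  haveI : Nontrivial (Fin n ⊕ Fin n → F) := Module.nontrivial_of_finrank_pos (R := F) (by omega)
  obtain ⟨E⟩ := exists_isomEquiv hB hV
  obtain ⟨E'⟩ := OddVsSp.psp_congr E
  obtain ⟨g, hg⟩ := h
  obtain ⟨h, hh⟩ := QuotientGroup.mk_surjective (E'.symm g)
  have ho : orderOf (h : ↥(isom B) ⧸ Subgroup.center ↥(isom B)) = r * s := by rw [hh, MulEquiv.orderOf_eq, hg]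
  have hz2 : ∀ k, r * s ∣ k → h ^ (2 * k) = 1 := fun k hk => by
    have hz : h ^ k ∈ Subgroup.center ↥(isom B) := by
      rw [← QuotientGroup.eq_one_iff, QuotientGroup.mk_pow, ← orderOf_dvd_iff_pow_eq_one, ho]; exact hk
    rw [mul_comm, pow_mul, pow_two]
    rcases center_cases hB hV hz with e | e <;> rw [e]
    exacts [one_mul 1, altNeg_sq]
  have hnz : ∀ k, ¬ r * s ∣ k → h ^ k ∉ Subgroup.center ↥(isom B) := fun k hk hz => hk (by
    rw [← ho, orderOf_dvd_iff_pow_eq_one, ← QuotientGroup.mk_pow, QuotientGroup.eq_one_iff]; exact hz)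
  have hsodd := hs.odd_of_ne_two hs2
  have hys : ¬ r * s ∣ 2 * r := fun hd => by
    have := (hs.dvd_mul.mp ((dvd_mul_left s r).trans hd))
    rcases this with e | e
    · exact hs2 ((Nat.prime_dvd_prime_iff_eq hs Nat.prime_two).mp e)
    · exact hrs ((Nat.prime_dvd_prime_iff_eq hs hr).mp e).symm
  obtain ⟨y, hy⟩ : ∃ y, y = h ^ (2 * r) := ⟨_, rfl⟩
  have hy1 : y ≠ 1 := fun e => hnz _ hys (by rw [← hy, e]; exact one_mem _)
  have hyp : y ^ s = 1 := by rw [hy, ← pow_mul, mul_assoc]; exact hz2 _ dvd_rfl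
  have hsF : (s : F) ≠ 0 := Small.SpPrimeGraph.natCast_ne_zero (p := p) hs hsp
  rw [range_POmega h2 hn]
  suffices H : ∃ (V : Type u) (_ : AddCommGroup V) (_ : Module F V) (_ : FiniteDimensional F V) (Q : QuadraticForm F V)
      (a : ↥(Iso Q)), PND Q ∧ finrank F V = 2 * n + 1 ∧ a ∈ commutator ↥(Iso Q) ∧ orderOf a = r * s by
    obtain ⟨V, i1, i2, i3, Q, a, hQ, hd, ha, hao⟩ := H
    exact (range_POmega h2 hn _).mp (hao ▸ o_target h2 hn hQ hd ha)
  -- the splitting element
  have main : ∀ (t : ↥(isom B)) (N : ℕ), Odd N → (N : F) ≠ 0 → t ^ N = 1 → t ≠ 1 →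
      ∃ (W : Submodule F (Fin n ⊕ Fin n → F)) (Qw : QuadraticForm F W) (j : ℕ) (tw : ↥(Iso Qw)),
        PND Qw ∧ finrank F W + 2 * j = 2 * n ∧ 1 ≤ finrank F W ∧ Even (finrank F W) ∧
        (tw : W ≃ₗ[F] W) ^ N = 1 ∧ orderOf tw = orderOf t ∧
        (j = 0 → ∀ x : ↥(isom B), Commute x t → ∃ xw : ↥(Iso Qw), Commute xw tw ∧
          (∀ w : W, ((xw.1 w : W) : Fin n ⊕ Fin n → F) = x.1 w) ∧ orderOf xw = orderOf x ∧
          LinearMap.det (xw.1 : W →ₗ[F] W) = 1) := by
    intro t N hNo hNF htN ht1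
    obtain ⟨W, C, hc, hCfix, hWfix, hperp, hcomm, hWnd, hCnd⟩ := split_form B
      (fun a b e => by rw [hB.swap, e, neg_zero]) hB.nondeg t.1 t.2 hNF (congrArg Subtype.val htN)
    obtain ⟨tw, htw⟩ := exists_restrict t.1 (hcomm t.1 (Commute.refl _)).1
    have hBw : IsAltND (B.compl₁₂ W.subtype W.subtype) :=
      ⟨fun w => hB.self _, fun w hw => Subtype.ext (hWnd _ w.2 fun w' hw' => hw ⟨w', hw'⟩)⟩
    have hBc : IsAltND (B.compl₁₂ C.subtype C.subtype) :=
      ⟨fun w => hB.self _, fun w hw => Subtype.ext (hCnd _ w.2 fun w' hw' => hw ⟨w', hw'⟩)⟩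
    obtain ⟨j, hj⟩ := Small.SymplecticSemisimple.exists_even _ hBc rfl
    obtain ⟨i, hi⟩ := Small.SymplecticSemisimple.exists_even _ hBw rfl
    have htwm : tw ∈ isom (B.compl₁₂ W.subtype W.subtype) := fun a b => by
      simp only [LinearMap.compl₁₂_apply, Submodule.subtype_apply, htw]
      exact t.2 _ _
    have hord : orderOf tw = orderOf t.1 := orderOf_restrict hc htw hCfix
    have htwN : tw ^ N = 1 := by
      rw [← orderOf_dvd_iff_pow_eq_one, hord, orderOf_dvd_iff_pow_eq_one]; exact congrArg Subtype.val htN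
    obtain ⟨Qw, hQw, htrans⟩ := exists_quad hBw ⟨tw, htwm⟩ hNo (Subtype.ext htwN) fun w hw =>
      Subtype.ext (hWfix _ w.2 (by rw [← htw]; exact congrArg Subtype.val hw))
    have hW1 : 1 ≤ finrank F W := Nat.one_le_iff_ne_zero.mpr fun e => ht1 (Subtype.ext (eq_of_split hc
      (fun w hw => by rw [(Submodule.eq_bot_iff W).mp (Submodule.finrank_eq_zero.mp e) w hw]; simp)
      fun c hcm => hCfix c hcm))
    refine ⟨W, Qw, j, ⟨tw, htrans tw htwm (Commute.refl _)⟩, hQw, ?_, hW1, ⟨i, by omega⟩, htwN,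
      (Subgroup.orderOf_mk _ _).trans (hord.trans (Subgroup.orderOf_coe t)), fun hj0 x hx => ?_⟩
    · rw [← hj, Submodule.finrank_add_eq_of_isCompl hc, hV]
    · obtain ⟨xw, hxw⟩ := exists_restrict x.1 (hcomm x.1 (congrArg Subtype.val hx.eq)).1
      have hxwm : xw ∈ isom (B.compl₁₂ W.subtype W.subtype) := fun a b => by
        simp only [LinearMap.compl₁₂_apply, Submodule.subtype_apply, hxw]
        exact x.2 _ _
      have hxc : Commute xw tw := restrict_comm hxw htw (congrArg Subtype.val hx.eq)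
      have hCbot : ∀ c ∈ C, x.1 c = c := fun c hcm => by
        rw [(Submodule.eq_bot_iff C).mp (Submodule.finrank_eq_zero.mp (by omega : finrank F C = 0)) c hcm, map_zero]
      refine ⟨⟨xw, htrans xw hxwm hxc⟩, Subtype.ext hxc.eq, hxw, ?_, isom_det hBw hi ⟨xw, hxwm⟩⟩
      rw [Subgroup.orderOf_mk, orderOf_restrict hc hxw hCbot, Subgroup.orderOf_coe]
  have hdimV' : ∀ (W : Submodule F (Fin n ⊕ Fin n → F)) (j : ℕ), finrank F W + 2 * j = 2 * n →
      finrank F (↥W × (Unit ⊕ (Fin j ⊕ Fin j) → F)) = 2 * n + 1 := fun W j e => by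
    rw [Module.finrank_prod]; simp; omega
  by_cases hr' : r = 2 ∨ r = p
  swap
  · -- both odd and prime to the characteristic
    obtain ⟨hr2, hrp⟩ := not_or.mp hr'
    obtain ⟨t, ht⟩ : ∃ t, t = h ^ 2 := ⟨_, rfl⟩
    have htN : t ^ (r * s) = 1 := by rw [ht, ← pow_mul]; exact hz2 _ dvd_rfl
    have hto : orderOf t = r * s := by
      refine Nat.dvd_antisymm (orderOf_dvd_of_pow_eq_one htN) ?_
      have h1 : r * s ∣ 2 * orderOf t := by
        by_contra hd
        refine hnz _ hd ?_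
        rw [pow_mul, ← ht, pow_orderOf_eq_one]; exact one_mem _
      exact (Nat.Coprime.mul_left ((Nat.coprime_primes hr Nat.prime_two).mpr hr2)
        ((Nat.coprime_primes hs Nat.prime_two).mpr hs2)).dvd_of_dvd_mul_left h1
    have hodd : Odd (r * s) := (hr.odd_of_ne_two hr2).mul hsodd
    obtain ⟨W, Qw, j, tw, hQw, hdim, -, -, htwN, htwo, -⟩ := main t (r * s) hodd
      (by rw [Nat.cast_mul]; exact mul_ne_zero (Small.SpPrimeGraph.natCast_ne_zero (p := p) hr hrp) hsF) htN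
      (fun e => by
        rw [e, orderOf_one] at hto
        exact absurd hto.symm (by have := hr.two_le; have := hs.two_le; nlinarith))
    have hQ := pnd_prod hQw (formOf_pnd (e := Equiv.sumComm Unit (Fin j ⊕ Fin j)) (pnd_line h2))
    refine ⟨_, _, _, inferInstance, Qw.prod (stdOdd j F), oProd Qw (stdOdd j F) (tw, 1), hQ, hdimV' W j hdim, ?_, ?_⟩
    · rw [commutator_eq h2 hQ (by rw [hdimV' W j hdim]; omega), MonoidHom.mem_ker]
      refine both_eq_one_of_odd h2 hQ hodd ?_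
      rw [← map_pow, Prod.pow_mk, show tw ^ (r * s) = 1 from Subtype.ext htwN, one_pow]
      exact map_one _
    · rw [orderOf_injective _ (oProd_injective _ _), Prod.orderOf, orderOf_one, Nat.lcm_one_right, htwo, hto]
  · -- a second element centralising the first
    obtain ⟨W, Qw, j, tw, hQw, hdim, hW1, hWeven, htwN, htwo, hext⟩ := main y s hsodd hsF hyp hy1
    have hyo : orderOf tw = s := by rw [htwo]; exact @orderOf_eq_prime _ _ _ s ⟨hs⟩ hyp hy1
    have hco : Nat.Coprime r s := (Nat.coprime_primes hr hs).mpr hrs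
    have hQ := pnd_prod hQw (formOf_pnd (e := Equiv.sumComm Unit (Fin j ⊕ Fin j)) (pnd_line h2))
    have hd2 : 2 ≤ finrank F (↥W × (Unit ⊕ (Fin j ⊕ Fin j) → F)) := by rw [hdimV' W j hdim]; omega
    have htc : oProd Qw (stdOdd j F) (tw, 1) ∈ commutator ↥(Iso (Qw.prod (stdOdd j F))) := by
      rw [commutator_eq h2 hQ hd2, MonoidHom.mem_ker]
      refine both_eq_one_of_odd h2 hQ hsodd ?_
      rw [← map_pow, Prod.pow_mk, show tw ^ s = 1 from Subtype.ext htwN, one_pow]
      exact map_one _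
    suffices K : ∃ a : ↥(Iso Qw) × ↥(Iso (stdOdd j F)), Commute a (tw, 1) ∧ orderOf a = r ∧
        oProd Qw (stdOdd j F) a ∈ commutator ↥(Iso (Qw.prod (stdOdd j F))) by
      obtain ⟨a, hac, hao, ham⟩ := K
      refine ⟨_, _, _, inferInstance, _, oProd Qw (stdOdd j F) (a * (tw, 1)), hQ, hdimV' W j hdim, ?_, ?_⟩
      · rw [map_mul]; exact mul_mem ham htc
      · have hb : orderOf ((tw, 1) : ↥(Iso Qw) × ↥(Iso (stdOdd j F))) = s := by
          rw [Prod.orderOf, orderOf_one, Nat.lcm_one_right, hyo]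
        rw [orderOf_injective _ (oProd_injective _ _), hac.orderOf_mul_eq_mul_orderOf_of_coprime (by rwa [hao, hb]),
          hao, hb]
    rcases Nat.eq_zero_or_pos j with hj | hj
    · -- fixed-point-free
      have hx : ∃ x : ↥(isom B), Commute x y ∧ x ≠ 1 ∧ x ≠ altNeg B ∧
          ((r ≠ 2 ∧ x ^ r = 1) ∨ (r = 2 ∧ (x * x = 1 ∨ x * x = altNeg B))) := by
        have hnd : ∀ k, ¬ s ∣ k → h ^ k ≠ 1 ∧ h ^ k ≠ altNeg B := fun k hk => by
          have h1 := hnz k fun hd => hk ((dvd_mul_left s r).trans hd)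
          exact ⟨fun e => h1 (e ▸ one_mem _), fun e => h1 (e ▸ neg_mem_center)⟩
        by_cases hr2 : r = 2
        · refine ⟨h ^ s, hy ▸ (Commute.refl h).pow_pow _ _, ?_, ?_, Or.inr ⟨hr2, ?_⟩⟩
          · exact fun e => hnz s (fun hd => by
              have := Nat.le_of_dvd hs.pos hd; have := hs.two_le; have := hr.two_le; nlinarith) (e ▸ one_mem _)
          · exact fun e => hnz s (fun hd => by
              have := Nat.le_of_dvd hs.pos hd; have := hs.two_le; have := hr.two_le; nlinarith) (e ▸ neg_mem_center)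
          · refine center_cases hB hV ?_
            rw [← pow_add, ← two_mul, ← hr2, ← QuotientGroup.eq_one_iff, QuotientGroup.mk_pow, ← ho]
            exact pow_orderOf_eq_one _
        · have hk : ¬ r * s ∣ 2 * s := fun hd => by
            rcases hr.dvd_mul.mp ((dvd_mul_right r s).trans hd) with e | e
            · exact hr2 ((Nat.prime_dvd_prime_iff_eq hr Nat.prime_two).mp e)
            · exact hrs ((Nat.prime_dvd_prime_iff_eq hr hs).mp e)
          refine ⟨h ^ (2 * s), hy ▸ (Commute.refl h).pow_pow _ _, fun e => hnz _ hk (e ▸ one_mem _),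
            fun e => hnz _ hk (e ▸ neg_mem_center), Or.inl ⟨hr2, ?_⟩⟩
          rw [← pow_mul, mul_assoc, mul_comm s r]; exact hz2 _ dvd_rfl
      obtain ⟨x, hxy, hx1, hxn, hxr⟩ := hx
      obtain ⟨xw, hxc, hxw, hxo, hxdet⟩ := hext hj x hxy
      rcases hxr with ⟨hr2, hxr⟩ | ⟨rfl, hxx⟩
      · haveI := Fact.mk hr
        refine ⟨(xw, 1), hxc.prod (Commute.one_left _), ?_, ?_⟩
        · rw [Prod.orderOf, orderOf_one, Nat.lcm_one_right, hxo, orderOf_eq_prime hxr hx1]
        · rw [commutator_eq h2 hQ hd2, MonoidHom.mem_ker]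
          refine both_eq_one_of_odd h2 hQ (hr.odd_of_ne_two hr2) ?_
          rw [← map_pow, Prod.pow_mk, show xw ^ r = 1 by
            rw [← orderOf_dvd_iff_pow_eq_one, hxo, orderOf_dvd_iff_pow_eq_one, hxr], one_pow]
          exact map_one _
      · haveI : Nontrivial W := Module.nontrivial_of_finrank_pos (R := F) hW1
        haveI : Fact (Nat.Prime 2) := ⟨Nat.prime_two⟩
        have hWn : ∀ w : W, (negI Qw).1 w = -w := fun w => rfl
        have hn1 : negI Qw ≠ 1 := fun e => by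
          obtain ⟨v, hv⟩ := exists_ne (0 : W)
          exact hv (neg_fixed_free h2 (show -v = v from congrArg (fun g : ↥(Iso Qw) => g.1 v) e))
        have hnc : Commute (negI Qw) tw := Subtype.ext (LinearEquiv.ext fun w => by
          change -(tw.1 w) = tw.1 (-w); rw [map_neg])
        have hnn : negI Qw ^ 2 = 1 := Subtype.ext (LinearEquiv.ext fun w => by
          rw [pow_two]; exact neg_neg w)
        rcases hxx with hxx | hxx
        · -- one of three involutions
          have hxo2 : xw ^ 2 = 1 := by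
            rw [← orderOf_dvd_iff_pow_eq_one, hxo, orderOf_dvd_iff_pow_eq_one, pow_two, hxx]
          have hxw1 : xw ≠ 1 := fun e => by
            rw [e, orderOf_one] at hxo
            exact hx1 (orderOf_eq_one_iff.mp hxo.symm)
          have hxwn : xw ≠ negI Qw := fun e => hxn (Subtype.ext (LinearEquiv.ext fun v => by
            have hWtop : W = ⊤ := Submodule.eq_top_of_finrank_eq (by rw [hV]; omega)
            have := hxw ⟨v, hWtop ▸ Submodule.mem_top⟩
            rw [e, hWn] at this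
            exact this.symm))
          have hxn' : Commute xw (negI Qw) := Subtype.ext (LinearEquiv.ext fun w => by
            change xw.1 (-w) = -(xw.1 w); rw [map_neg])
          have hmem : ∀ a : ↥(Iso Qw), LinearMap.det (a.1 : W →ₗ[F] W) = 1 →
              dsign h2 hQ (oProd Qw (stdOdd j F) (a, 1)) = 1 := fun a ha => if_pos (by
            change LinearMap.det ((a.1 : W →ₗ[F] W).prodMap (LinearMap.id : (Unit ⊕ (Fin j ⊕ Fin j) → F) →ₗ[F] _)) = 1
            rw [LinearMap.det_prodMap, ha, LinearMap.det_id, one_mul])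
          have hndet : LinearMap.det ((negI Qw).1 : W →ₗ[F] W) = 1 := by
            rw [show ((negI Qw).1 : W →ₗ[F] W) = (-1 : F) • LinearMap.id from LinearMap.ext fun w => by simp [hWn],
              LinearMap.det_smul, LinearMap.det_id, mul_one, hWeven.neg_one_pow]
          rw [commutator_eq h2 hQ hd2]
          obtain ⟨σ, hσ⟩ : ∃ σ, σ = (spinor (Qw.prod (stdOdd j F))).comp ((oProd Qw (stdOdd j F)).comp (MonoidHom.inl _ _)) :=
            ⟨_, rfl⟩
          have hfin : ∀ a : ↥(Iso Qw), a ^ 2 = 1 → a ≠ 1 → Commute a tw → LinearMap.det (a.1 : W →ₗ[F] W) = 1 →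
              σ a = 1 → ∃ b : ↥(Iso Qw) × ↥(Iso (stdOdd j F)), Commute b (tw, 1) ∧ orderOf b = 2 ∧
                oProd Qw (stdOdd j F) b ∈ (both (Qw.prod (stdOdd j F)) h2 hQ).ker := by
            intro a ha2 ha1 hac hdet ha
            refine ⟨(a, 1), hac.prod (Commute.one_left _), ?_, MonoidHom.mem_ker.mpr (Prod.ext (hmem a hdet) ?_)⟩
            · rw [Prod.orderOf, orderOf_one, Nat.lcm_one_right, orderOf_eq_prime ha2 ha1]
            · rw [hσ] at ha; exact ha
          rcases Int.units_eq_one_or (σ xw) with e1 | e1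
          · exact hfin xw hxo2 hxw1 hxc hxdet e1
          rcases Int.units_eq_one_or (σ (negI Qw)) with e2 | e2
          · exact hfin _ hnn hn1 hnc hndet e2
          refine hfin (xw * negI Qw) (by rw [hxn'.mul_pow, hxo2, hnn, one_mul]) (fun e => hxwn ?_)
            (hxc.mul_left hnc) ?_ (by rw [map_mul, e1, e2]; rfl)
          · rw [← mul_one xw, ← hnn, pow_two, ← mul_assoc, e, one_mul]
          · rw [show ((xw * negI Qw).1 : W →ₗ[F] W) = (xw.1 : W →ₗ[F] W) * ((negI Qw).1 : W →ₗ[F] W) from rfl, map_mul,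
              hxdet, hndet, one_mul]
        · -- a square root of minus one
          refine ⟨(xw * xw, 1), (hxc.mul_left hxc).prod (Commute.one_left _), ?_, ?_⟩
          · rw [Prod.orderOf, orderOf_one, Nat.lcm_one_right, ← pow_two]
            refine orderOf_eq_prime ?_ fun e => ?_
            · rw [← pow_mul, ← orderOf_dvd_iff_pow_eq_one, hxo, orderOf_dvd_iff_pow_eq_one, pow_mul, pow_two x, hxx,
                pow_two, altNeg_sq]
            · rw [← orderOf_dvd_iff_pow_eq_one, hxo, orderOf_dvd_iff_pow_eq_one, pow_two, hxx] at e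
              exact sp_neg_ne_one h2 e
          · rw [commutator_eq h2 hQ hd2, MonoidHom.mem_ker,
              show ((xw * xw, 1) : ↥(Iso Qw) × ↥(Iso (stdOdd j F))) = (xw, 1) * (xw, 1) by rw [Prod.mk_mul_mk, one_mul],
              map_mul]
            exact both_sq h2 hQ _
    · obtain ⟨a, ha, har, ha1⟩ := o_second (F := F) p h2 hj hr'
      haveI := Fact.mk hr
      refine ⟨(1, a), (Commute.one_left _).prod (Commute.one_right _), ?_, ?_⟩
      · rw [Prod.orderOf, orderOf_one, Nat.lcm_one_left, orderOf_eq_prime har ha1]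
      · have hle : (commutator ↥(Iso (stdOdd j F))).map ((oProd Qw (stdOdd j F)).comp (MonoidHom.inr _ _)) ≤
            commutator ↥(Iso (Qw.prod (stdOdd j F))) := by
          rw [commutator_def, Subgroup.map_commutator, commutator_def]
          exact Subgroup.commutator_mono le_top le_top
        exact hle ⟨a, ha, rfl⟩

set_option maxHeartbeats 1000000 in
theorem o_to_sp (p : ℕ) [Fact p.Prime] [CharP F p] (h2 : (2 : F) ≠ 0) {n : ℕ} (hn : 2 ≤ n) {r s : ℕ} (hr : r.Prime)
    (hs : s.Prime) (hrs : r ≠ s) (hs2 : s ≠ 2) (hsp : s ≠ p)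
    (h : r * s ∈ Set.range (orderOf : Cfsg.POmega F (Cfsg.quadFormOdd n F) → ℕ)) :
    r * s ∈ Set.range (orderOf : Cfsg.PSp n F → ℕ) := by
  classical
  obtain ⟨g, hgm, hgo⟩ := (range_POmega h2 hn _).mp h
  obtain ⟨Q, hQdef⟩ : ∃ Q, Q = stdOdd n F := ⟨_, rfl⟩
  revert g
  rw [← hQdef]
  intro g hgm hgo
  have hQ : PND Q := hQdef ▸ formOf_pnd (pnd_line h2)
  have hV : finrank F (Unit ⊕ (Fin n ⊕ Fin n) → F) = 2 * n + 1 := by simp; omega
  obtain ⟨x, hx⟩ : ∃ x, x = g ^ s := ⟨_, rfl⟩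
  obtain ⟨y, hy⟩ : ∃ y, y = g ^ r := ⟨_, rfl⟩
  have hxo : orderOf x = r := by
    rw [hx, orderOf_pow_of_dvd hs.ne_zero (hgo ▸ dvd_mul_left s r), hgo, Nat.mul_div_cancel _ hs.pos]
  have hyo : orderOf y = s := by
    rw [hy, orderOf_pow_of_dvd hr.ne_zero (hgo ▸ dvd_mul_right r s), hgo, Nat.mul_div_cancel_left _ hr.pos]
  have hsodd := hs.odd_of_ne_two hs2
  have hsF : (s : F) ≠ 0 := Small.SpPrimeGraph.natCast_ne_zero (p := p) hs hsp
  have main : ∀ (t : ↥(Iso Q)) (N : ℕ), Odd N → (N : F) ≠ 0 → orderOf t = N → N ≠ 1 →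
      ∃ (W C : Submodule F (Unit ⊕ (Fin n ⊕ Fin n) → F)) (hs : OSplit Q W C)
        (Bw : ↥W →ₗ[F] ↥W →ₗ[F] F) (j : ℕ) (tw : ↥(Iso (res Q W))) (tb : tw.1 ∈ isom Bw),
        IsAltND Bw ∧ finrank F W + 2 * j = 2 * n ∧ 1 ≤ finrank F W ∧ Even (finrank F W) ∧ finrank F C = 2 * j + 1 ∧
        orderOf tw = N ∧ (∀ w : W, tw.1 w = w → w = 0) ∧ (∀ gw : ↥(Iso (res Q W)), Commute gw tw → gw.1 ∈ isom Bw) ∧
        ∀ a : ↥(Iso Q), Commute a t → (∀ c ∈ C, a.1 c ∈ C) ∧
          ∃ aw : ↥(Iso (res Q W)), Commute aw tw ∧ ∀ w : W, ((aw.1 w : W) : Unit ⊕ (Fin n ⊕ Fin n) → F) = a.1 w := by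
    intro t N hNo hNF hto hN1
    obtain ⟨W, C, hc, hCfix, hWfix, hperp, hcomm, hWnd, hCnd⟩ := split_form (polarBilin Q)
      (fun a b e => by change polar Q b a = 0; rw [polar_comm]; exact e) hQ t.1 (polar_iso t.2) hNF
      (congrArg Subtype.val (hto ▸ pow_orderOf_eq_one t))
    obtain ⟨tw, htw⟩ := exists_res W t (hcomm t.1 (Commute.refl _)).1
    have hs' : OSplit Q W C := ⟨hc, hperp⟩
    have hfix : ∀ w : W, tw.1 w = w → w = 0 := fun w hw =>
      Subtype.ext (hWfix _ w.2 (by rw [← htw]; exact congrArg Subtype.val hw))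
    have hord : orderOf tw = N := by rw [← Subgroup.orderOf_coe, orderOf_restrict hc htw hCfix, Subgroup.orderOf_coe, hto]
    obtain ⟨Bw, hBw, htrans⟩ := exists_alt (pnd_left hs' hQ) tw hNo (hord ▸ pow_orderOf_eq_one tw) hfix
    obtain ⟨i, hi⟩ := Small.SymplecticSemisimple.exists_even _ hBw rfl
    have hsum := Submodule.finrank_add_eq_of_isCompl hc
    rw [hV, hi] at hsum
    have hW1 : 1 ≤ finrank F W := Nat.one_le_iff_ne_zero.mpr fun e => hN1 (by
      rw [← hto, orderOf_eq_one_iff]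
      exact Subtype.ext (eq_of_split hc
        (fun w hw => by rw [(Submodule.eq_bot_iff W).mp (Submodule.finrank_eq_zero.mp e) w hw]; simp)
        fun c hcm => hCfix c hcm))
    refine ⟨W, C, hs', Bw, n - i, tw, htrans _ tw.2 (Commute.refl _), hBw, by omega, hW1, ⟨i, by omega⟩, by omega, hord,
      hfix, fun gw hgw => htrans _ gw.2 (congrArg Subtype.val hgw.eq), fun a ha => ?_⟩
    obtain ⟨aw, haw⟩ := exists_res W a (hcomm a.1 (congrArg Subtype.val ha.eq)).1
    exact ⟨(hcomm a.1 (congrArg Subtype.val ha.eq)).2, aw, Subtype.ext (restrict_comm haw htw (congrArg Subtype.val ha.eq)).eq, haw⟩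
  have build : ∀ {W : Submodule F (Unit ⊕ (Fin n ⊕ Fin n) → F)} {Bw : ↥W →ₗ[F] ↥W →ₗ[F] F} (j : ℕ),
      IsAltND Bw → finrank F W + 2 * j = 2 * n → IsAltND (altProd Bw (Small.SpPrimeGraph.stdForm j F)) ∧
        finrank F (↥W × (Fin j ⊕ Fin j → F)) = 2 * n := fun j hBw hd =>
    ⟨altProd_nd hBw Small.SpPrimeGraph.stdForm_alt, by rw [Module.finrank_prod]; simp; omega⟩
  by_cases hr' : r = 2 ∨ r = p
  swap
  · obtain ⟨hr2, hrp⟩ := not_or.mp hr'
    have hrodd := hr.odd_of_ne_two hr2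
    obtain ⟨W, C, -, Bw, j, tw, tb, hBw, hdim, hW1, -, -, hto, -, -, -⟩ := main g (r * s) (hrodd.mul hsodd)
      (by rw [Nat.cast_mul]; exact mul_ne_zero (Small.SpPrimeGraph.natCast_ne_zero (p := p) hr hrp) hsF) hgo
      (by have := hr.two_le; have := hs.two_le; nlinarith)
    obtain ⟨hBV, hdV⟩ := build j hBw hdim
    haveI : Nontrivial (↥W × (Fin j ⊕ Fin j → F)) := Module.nontrivial_of_finrank_pos (R := F) (by omega)
    obtain ⟨T, hT⟩ : ∃ T : ↥(isom Bw), T = ⟨tw.1, tb⟩ := ⟨_, rfl⟩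
    obtain ⟨Z, hZ⟩ : ∃ Z, Z = spProd Bw (Small.SpPrimeGraph.stdForm j F) (T, 1) := ⟨_, rfl⟩
    have hZo : orderOf Z = r * s := by
      rw [hZ, orderOf_injective _ (spProd_injective _ _), Prod.orderOf, orderOf_one, Nat.lcm_one_right, hT,
        Subgroup.orderOf_mk, Subgroup.orderOf_coe, hto]
    have h1 : orderOf (Z ^ s) = r := by
      rw [orderOf_pow_of_dvd hs.ne_zero (hZo ▸ dvd_mul_left s r), hZo, Nat.mul_div_cancel _ hs.pos]
    have h3 : orderOf (Z ^ r) = s := by
      rw [orderOf_pow_of_dvd hr.ne_zero (hZo ▸ dvd_mul_right r s), hZo, Nat.mul_div_cancel_left _ hr.pos]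
    exact sp_target hBV hdV hr hs hrs (Z ^ s) (Z ^ r) ((Commute.refl Z).pow_pow _ _)
      (fun e => hr.ne_one (by rw [← h1, e, orderOf_one]))
      (ne_neg_of_odd h2 hrodd (orderOf_dvd_iff_pow_eq_one.mp h1.dvd)) (Or.inl (orderOf_dvd_iff_pow_eq_one.mp h1.dvd))
      (fun e => hs.ne_one (by rw [← h3, e, orderOf_one]))
      (ne_neg_of_odd h2 hsodd (orderOf_dvd_iff_pow_eq_one.mp h3.dvd)) (orderOf_dvd_iff_pow_eq_one.mp h3.dvd)
  obtain ⟨W, C, hsplit, Bw, j, tw, tb, hBw, hdim, hW1, hWeven, hC, hto, hfix, htrans, hext⟩ :=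
    main y s hsodd hsF hyo hs.ne_one
  obtain ⟨hBV, hdV⟩ := build j hBw hdim
  haveI : Nontrivial (↥W × (Fin j ⊕ Fin j → F)) := Module.nontrivial_of_finrank_pos (R := F) (by omega)
  haveI : Nontrivial W := Module.nontrivial_of_finrank_pos (R := F) hW1
  haveI := Fact.mk hr
  haveI := Fact.mk hs
  obtain ⟨T, hT⟩ : ∃ T : ↥(isom Bw), T = ⟨tw.1, tb⟩ := ⟨_, rfl⟩
  have hTs : T ^ s = 1 := by
    rw [← orderOf_dvd_iff_pow_eq_one, hT, Subgroup.orderOf_mk, Subgroup.orderOf_coe, hto]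
  have hT1 : T ≠ 1 := fun e => hs.ne_one (by
    rw [hT] at e
    rw [← hto, ← Subgroup.orderOf_coe, show (tw : ↥W ≃ₗ[F] ↥W) = 1 from congrArg Subtype.val e, orderOf_one])
  suffices K : ∃ a : ↥(isom Bw) × ↥(isom (Small.SpPrimeGraph.stdForm j F)), Commute a (T, 1) ∧ a ≠ 1 ∧
      a ≠ (altNeg _, altNeg _) ∧ (a ^ r = 1 ∨ a ^ r = (altNeg _, altNeg _)) by
    obtain ⟨a, hac, ha1, han, har⟩ := K
    have hinj := spProd_injective Bw (Small.SpPrimeGraph.stdForm j F)
    have hys : (spProd Bw (Small.SpPrimeGraph.stdForm j F) (T, 1)) ^ s = 1 := by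
      rw [← map_pow, Prod.pow_mk, hTs, one_pow]; exact map_one _
    refine sp_target hBV hdV hr hs hrs _ _ (hac.map _) ((map_ne_one_iff _ hinj).mpr ha1) ?_ ?_
      ((map_ne_one_iff _ hinj).mpr fun e => hT1 (congrArg Prod.fst e)) (ne_neg_of_odd h2 hsodd hys) hys
    · rw [← spProd_neg]; exact fun e => han (hinj e)
    · rw [← map_pow, ← spProd_neg]
      rcases har with e | e <;> rw [e]
      exacts [Or.inl (map_one _), Or.inr rfl]
  rcases Nat.eq_zero_or_pos j with hj | hj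
  swap
  · obtain ⟨a, har, ha1⟩ := sp_second (F := F) p h2 hj hr'
    refine ⟨(1, a), (Commute.one_left _).prod (Commute.one_right _), fun e => ha1 (congrArg Prod.snd e),
      fun e => sp_neg_ne_one (B := Bw) h2 (congrArg Prod.fst e).symm, Or.inl ?_⟩
    rw [Prod.pow_mk, har, one_pow]; rfl
  -- fixed-point-free
  subst hj
  have hxy : Commute x y := hx ▸ hy ▸ (Commute.refl g).pow_pow _ _
  obtain ⟨hxC, xw, hxc, hxw⟩ := hext x hxy
  obtain ⟨X, hX⟩ : ∃ X : ↥(isom Bw), X = ⟨xw.1, htrans xw hxc⟩ := ⟨_, rfl⟩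
  have hXT : Commute X T := by
    refine Subtype.ext ?_
    rw [Subgroup.coe_mul, Subgroup.coe_mul, hX, hT]
    exact congrArg Subtype.val hxc.eq
  have hxr : x ^ r = 1 := orderOf_dvd_iff_pow_eq_one.mp hxo.dvd
  have hXr : X ^ r = 1 := by
    refine Subtype.ext (LinearEquiv.ext fun w => Subtype.ext ?_)
    rw [SubmonoidClass.coe_pow, hX, coe_pow_ofSubmodules xw.1 hxw r w, ← SubmonoidClass.coe_pow, hxr]
    rfl
  obtain ⟨xc, hxcdef⟩ : ∃ xc : ↥C →ₗ[F] ↥C, xc = x.1.toLinearMap.restrict hxC := ⟨_, rfl⟩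
  obtain ⟨c, hc⟩ : ∃ c : F, xc = c • LinearMap.id := by
    obtain ⟨v, hv, hall⟩ := finrank_eq_one_iff'.mp (show finrank F C = 1 by omega)
    obtain ⟨c, hc⟩ := hall (xc v)
    refine ⟨c, LinearMap.ext fun w => ?_⟩
    obtain ⟨d, rfl⟩ := hall w
    rw [map_smul, ← hc, LinearMap.smul_apply, LinearMap.id_apply, smul_comm]
  have hxCc : ∀ v ∈ C, x.1 v = c • v := fun v hv => by
    have := congrArg Subtype.val (LinearMap.congr_fun hc ⟨v, hv⟩)
    rw [hxcdef] at this
    exact this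
  have hcr : c ^ r = 1 := by
    have hk : ∀ k : ℕ, ∀ v ∈ C, (x ^ k).1 v = c ^ k • v := by
      intro k
      induction k with
      | zero => intro v _; rw [pow_zero, pow_zero, one_smul]; rfl
      | succ k ih =>
        intro v hv
        rw [pow_succ]
        change (x ^ k).1 (x.1 v) = _
        rw [hxCc v hv, map_smul, ih v hv, smul_smul, pow_succ']
    obtain ⟨v, hv, hv0⟩ := Submodule.exists_mem_ne_zero_of_ne_bot (p := C) fun e => by
      rw [e, finrank_bot] at hC; omega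
    have := hk r v hv
    rw [hxr] at this
    exact smul_left_injective F hv0 (show c ^ r • v = (1 : F) • v by rw [one_smul]; exact this.symm)
  have hdet : LinearMap.det x.1.toLinearMap = 1 := by
    have hd : dsign h2 hQ x = 1 := by
      have hxm : x ∈ commutator ↥(Iso Q) := hx ▸ Subgroup.pow_mem _ hgm s
      rw [commutator_eq h2 hQ (by omega), MonoidHom.mem_ker] at hxm
      exact congrArg Prod.fst hxm
    by_contra hne
    rw [show dsign h2 hQ x = -1 from if_neg hne] at hd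
    exact absurd hd (by decide)
  have hc1 : LinearMap.det (xw.1 : ↥W →ₗ[F] ↥W) = 1 → c = 1 := fun hw => by
    rw [det_split hsplit.compl x.1.toLinearMap (xw.1 : ↥W →ₗ[F] ↥W) xc hxw
      (fun v => by rw [hxcdef]; rfl), hw, hc, LinearMap.det_smul, LinearMap.det_id, hC, one_mul, pow_one, mul_one] at hdet
    exact hdet
  obtain ⟨i, hi⟩ := Small.SymplecticSemisimple.exists_even _ hBw rfl
  have hXdet : LinearMap.det (xw.1 : ↥W →ₗ[F] ↥W) = 1 := by
    have := isom_det hBw hi X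
    rwa [hX] at this
  have hC1 := hc1 hXdet
  have hX1 : X ≠ 1 := fun e => hr.ne_one (by
    rw [← hxo, orderOf_eq_one_iff]
    refine Subtype.ext (eq_of_split hsplit.compl (fun w hw => ?_) fun v hv => by rw [hxCc v hv, hC1, one_smul]; rfl)
    have h1 := hxw ⟨w, hw⟩
    rw [hX] at e
    rw [show xw.1 ⟨w, hw⟩ = ⟨w, hw⟩ from LinearEquiv.congr_fun (congrArg Subtype.val e) ⟨w, hw⟩] at h1
    exact h1.symm)
  by_cases hXn : X = altNeg Bw
  swap
  · refine ⟨(X, 1), hXT.prod (Commute.one_left _), fun e => hX1 (congrArg Prod.fst e),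
      fun e => hXn (congrArg Prod.fst e), Or.inl ?_⟩
    rw [Prod.pow_mk, hXr, one_pow]; rfl
  -- minus one on the moved space
  have hr2 : r = 2 := hr.eq_two_or_odd'.resolve_right fun ho => ne_neg_of_odd h2 ho hXr hXn
  subst hr2
  have hneg : negI (res Q W) ∈ commutator ↥(Iso (res Q W)) := by
    obtain ⟨e, heW, heC, -⟩ := exists_ext hsplit
    have hxe : x = e (negI (res Q W)) := by
      refine Subtype.ext (eq_of_split hsplit.compl (fun w hw => ?_) fun v hv => ?_)
      · have h1 := hxw ⟨w, hw⟩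
        rw [hX] at hXn
        rw [show xw.1 ⟨w, hw⟩ = -⟨w, hw⟩ from LinearEquiv.congr_fun (congrArg Subtype.val hXn) ⟨w, hw⟩] at h1
        rw [show w = ((⟨w, hw⟩ : W) : Unit ⊕ (Fin n ⊕ Fin n) → F) from rfl, heW, ← h1]
        rfl
      · rw [hxCc v hv, hC1, one_smul, heC _ v hv]
    have hxm : x ∈ commutator ↥(Iso Q) := hx ▸ Subgroup.pow_mem _ hgm s
    rw [commutator_eq h2 hQ (by omega), MonoidHom.mem_ker, hxe,
      both_ext hsplit h2 hQ (by omega) (by omega) e heW heC] at hxm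
    rw [commutator_eq h2 (pnd_left hsplit hQ) (by omega), MonoidHom.mem_ker]
    exact hxm
  obtain ⟨y', hy'c, hy'1, hy'n, hy'2⟩ := exists_four p h2 (pnd_left hsplit hQ) (n := n) (by omega) (by omega) tw hs hs2 hsp
    (hto ▸ pow_orderOf_eq_one tw) hfix hneg
  obtain ⟨Y, hY⟩ : ∃ Y : ↥(isom Bw), Y = ⟨y'.1, htrans y' hy'c⟩ := ⟨_, rfl⟩
  refine ⟨(Y, 1), ?_, fun e => hy'1 ?_, fun e => hy'n ?_, ?_⟩
  · refine Commute.prod (Subtype.ext ?_) (Commute.one_left _)
    rw [Subgroup.coe_mul, Subgroup.coe_mul, hY, hT]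
    exact congrArg Subtype.val hy'c.eq
  · have h1 := congrArg (fun a : ↥(isom Bw) × _ => a.1) e
    rw [hY] at h1
    exact Subtype.ext (congrArg Subtype.val h1 :)
  · have h1 := congrArg (fun a : ↥(isom Bw) × _ => a.1) e
    rw [hY] at h1
    exact Subtype.ext (congrArg Subtype.val h1 :)
  · have hsub : Subsingleton ↥(isom (Small.SpPrimeGraph.stdForm 0 F)) :=
      ⟨fun a b => Subtype.ext (LinearEquiv.ext fun v => funext fun k => isEmptyElim k)⟩
    rcases hy'2 with e | e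
    · refine Or.inl (Prod.ext ?_ (Subsingleton.elim _ _))
      rw [Prod.pow_fst, pow_two, hY]
      exact Subtype.ext (congrArg Subtype.val e :)
    · refine Or.inr (Prod.ext ?_ (Subsingleton.elim _ _))
      rw [Prod.pow_fst, pow_two, hY]
      exact Subtype.ext (congrArg Subtype.val e :)

theorem two_char (p : ℕ) [Fact p.Prime] [CharP F p] (h2 : (2 : F) ≠ 0) {n : ℕ} (hn : 3 ≤ n) :
    2 * p ∈ Set.range (orderOf : Cfsg.POmega F (Cfsg.quadFormOdd n F) → ℕ) ∧
      2 * p ∈ Set.range (orderOf : Cfsg.PSp n F → ℕ) := by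
  classical
  have hp2 : p ≠ 2 := fun e => h2 (by subst e; exact_mod_cast CharP.cast_eq_zero F 2)
  have hp : p.Prime := Fact.out
  have hpodd := hp.odd_of_ne_two hp2
  obtain ⟨j, rfl⟩ : ∃ j, n = j + 1 := ⟨n - 1, by omega⟩
  constructor
  · obtain ⟨a, ha, hap, ha1⟩ := o_second (F := F) p h2 (j := j) (by omega) (Or.inr rfl)
    have hab : ∃ (a0 b0 : F), ∀ z₁ z₂ : F, z₁ ^ 2 + a0 * z₁ * z₂ + b0 * z₂ ^ 2 = 0 → z₁ = 0 ∧ z₂ = 0 :=
      Small.QuadModels.exists_aniso
    obtain ⟨a0, b0, hab⟩ := hab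
    have hodd : Odd (Fintype.card F) := by
      obtain ⟨f, -, hf⟩ := FiniteField.card F p
      rw [hf]; exact hpodd.pow
    have key : ∀ {κ : Type} [Fintype κ] [DecidableEq κ] (Qw : QuadraticForm F (κ → F)), PND Qw →
        finrank F (κ → F) = 2 → negI Qw ∈ commutator ↥(Iso Qw) →
        2 * p ∈ Set.range (orderOf : Cfsg.POmega F (Cfsg.quadFormOdd (j + 1) F) → ℕ) := by
      intro κ _ _ Qw hQw hWd hneg
      have hQ := pnd_prod hQw (formOf_pnd (e := Equiv.sumComm Unit (Fin j ⊕ Fin j)) (pnd_line h2))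
      have hdim : finrank F ((κ → F) × (Unit ⊕ (Fin j ⊕ Fin j) → F)) = 2 * (j + 1) + 1 := by
        rw [Module.finrank_prod, hWd]; simp; omega
      haveI : Nontrivial (κ → F) := Module.nontrivial_of_finrank_pos (R := F) (by omega)
      have h1 : orderOf (oProd Qw (stdOdd j F) (negI Qw, a)) = 2 * p := by
        haveI : Fact (Nat.Prime 2) := ⟨Nat.prime_two⟩
        rw [orderOf_injective _ (oProd_injective _ _), Prod.orderOf, orderOf_eq_prime hap ha1, orderOf_eq_prime
          (show negI Qw ^ 2 = 1 from Subtype.ext (LinearEquiv.ext fun w => by rw [pow_two]; exact neg_neg w)) (fun e => by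
            obtain ⟨v, hv⟩ := exists_ne (0 : κ → F)
            exact hv (neg_fixed_free h2 (show -v = v from congrArg (fun g : ↥(Iso Qw) => g.1 v) e)))]
        exact ((Nat.coprime_primes Nat.prime_two hp).mpr (Ne.symm hp2)).lcm_eq_mul
      rw [← h1]
      refine o_target h2 (by omega) hQ hdim ?_
      have hle : ((commutator ↥(Iso Qw)).prod (commutator ↥(Iso (stdOdd j F)))).map (oProd Qw (stdOdd j F)) ≤
          commutator ↥(Iso (Qw.prod (stdOdd j F))) := by
        rw [commutator_def, commutator_def, ← Subgroup.commutator_prod_prod, Subgroup.map_commutator, commutator_def]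
        exact Subgroup.commutator_mono le_top le_top
      exact hle ⟨(negI Qw, a), ⟨hneg, ha⟩, rfl⟩
    rcases (show Fintype.card F ^ 1 % 4 = 1 ∨ Fintype.card F ^ 1 % 4 = 3 by
      rw [pow_one]; rw [Nat.odd_iff] at hodd; omega) with hm | hm
    · exact key _ (formOf_pnd pnd_empty) (by simp) ((negI_plus hodd (m := 1) le_rfl).mpr hm)
    · exact key _ (formOf_pnd (pnd_plane hab)) (by simp) ((negI_minus hodd (m := 1) le_rfl a0 b0 hab).mpr hm)
  · obtain ⟨a, hap, ha1⟩ := sp_second (F := F) p h2 (j := j) (by omega) (Or.inr rfl)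
    haveI : Nontrivial (Fin j ⊕ Fin j → F) := Module.nontrivial_of_finrank_pos (R := F) (by simp; omega)
    let S := spProd (Small.SpPrimeGraph.stdForm 1 F) (Small.SpPrimeGraph.stdForm j F)
    have hB := altProd_nd (Small.SpPrimeGraph.stdForm_alt (F := F) (n := 1)) (Small.SpPrimeGraph.stdForm_alt (F := F) (n := j))
    have hdim : finrank F ((Fin 1 ⊕ Fin 1 → F) × (Fin j ⊕ Fin j → F)) = 2 * (j + 1) := by
      rw [Module.finrank_prod]; simp; omega
    have hinj := spProd_injective (Small.SpPrimeGraph.stdForm 1 F) (Small.SpPrimeGraph.stdForm j F)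
    haveI : Nontrivial ((Fin 1 ⊕ Fin 1 → F) × (Fin j ⊕ Fin j → F)) := Module.nontrivial_of_finrank_pos (R := F) (by omega)
    have hys : (S (1, a)) ^ p = 1 := by rw [← map_pow, Prod.pow_mk, hap, one_pow]; exact map_one _
    refine sp_target hB hdim Nat.prime_two hp (Ne.symm hp2) (S (altNeg _, 1)) (S (1, a))
      (((Commute.one_right _).prod (Commute.one_left _)).map S)
      ((map_ne_one_iff _ hinj).mpr fun e => sp_neg_ne_one h2 (congrArg Prod.fst e))
      (fun e => ?_) (Or.inl ?_) ((map_ne_one_iff _ hinj).mpr fun e => ha1 (congrArg Prod.snd e))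
      (ne_neg_of_odd h2 hpodd hys) hys
    · rw [← spProd_neg] at e
      exact sp_neg_ne_one h2 (congrArg Prod.snd (hinj e)).symm
    · rw [← map_pow, Prod.pow_mk, pow_two (altNeg _), altNeg_sq, one_pow]; exact map_one _

theorem adjacent_iff {F : Type u} [Field F] [Fintype F] (hodd : Odd (Fintype.card F)) (n : ℕ) (hn : 3 ≤ n) (r s : ℕ)
    (hr : r.Prime) (hs : s.Prime) (hrs : r ≠ s) :
    (r * s ∈ Set.range (orderOf : Cfsg.POmega F (Cfsg.quadFormOdd n F) → ℕ)) ↔
      (r * s ∈ Set.range (orderOf : Cfsg.PSp n F → ℕ)) := by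
  obtain ⟨p, hp⟩ := CharP.exists F
  haveI := Fact.mk (CharP.char_is_prime F p)
  have h2 := two_ne_of_odd hodd
  have key : ∀ r s : ℕ, r.Prime → s.Prime → r ≠ s → s ≠ 2 → s ≠ p →
      ((r * s ∈ Set.range (orderOf : Cfsg.POmega F (Cfsg.quadFormOdd n F) → ℕ)) ↔
        (r * s ∈ Set.range (orderOf : Cfsg.PSp n F → ℕ))) := fun r s hr hs hrs hs2 hsp =>
    ⟨o_to_sp p h2 (by omega) hr hs hrs hs2 hsp, sp_to_o p h2 (by omega) hr hs hrs hs2 hsp⟩
  by_cases hs' : s ≠ 2 ∧ s ≠ p
  · exact key r s hr hs hrs hs'.1 hs'.2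
  by_cases hr' : r ≠ 2 ∧ r ≠ p
  · rw [mul_comm]; exact key s r hs hr (Ne.symm hrs) hr'.1 hr'.2
  have h := two_char (F := F) p h2 hn
  have hcase : r * s = 2 * p := by
    rcases not_and_or.mp hs' with e | e <;> rcases not_and_or.mp hr' with e' | e' <;>
      rw [not_not] at e e' <;> subst e <;> subst e'
    · exact absurd rfl hrs
    · exact mul_comm _ _
    · rfl
    · exact absurd rfl hrs
  rw [hcase]
  exact iff_of_true h.1 h.2

end Main

end Cfsg.Agent.Classical.BCGraph
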