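/-
Generation of symplectic groups by transvections over an arbitrary field, and perfectness for at least four elements.
-/
import Cfsg.Agent.Lib.Small.PSpn.Basic

set_option autoImplicit false
set_option linter.unusedSectionVars false

namespace Cfsg.Agent.Classical.SpGen

open Matrix Cfsg.Agent.Small.PSpn
open Cfsg.Agent.Lead.Symp (form_eq form_self form_swap trans_mulVec)

variable {F : Type*} [Field F] {m : ℕ}

local notation "Vm" => Fin m ⊕ Fin m → F
local notation "Gm" => Matrix.symplecticGroup (Fin m) F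

variable (F m) in
/-- The subgroup generated by the transvections. -/
noncomputable def TG : Subgroup (Matrix.symplecticGroup (Fin m) F) :=
  Subgroup.closure {g | ∃ (v : Fin m ⊕ Fin m → F) (t : F), g = eich v 0 t}

theorem trans_mem_TG (v : Vm) (t : F) : eich v 0 t ∈ TG F m := Subgroup.subset_closure ⟨v, t, rfl⟩

/-- A non-degenerate subspace. -/
def NDeg (U : Submodule F Vm) : Prop := ∀ u ∈ U, u ≠ 0 → ∃ x ∈ U, sf u x ≠ 0

theorem sf_ne_swap {a b : Vm} (h : sf b a ≠ 0) : sf a b ≠ 0 := by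
  rw [sf, form_swap, ← sf]; exact neg_ne_zero.mpr h

theorem exists_common (U : Submodule F Vm) (hU : NDeg U) {u v : Vm} (hu : u ∈ U) (hv : v ∈ U)
    (hu0 : u ≠ 0) (hv0 : v ≠ 0) : ∃ z ∈ U, sf u z ≠ 0 ∧ sf v z ≠ 0 := by
  obtain ⟨x, hx, hux⟩ := hU u hu hu0
  obtain ⟨y, hy, hvy⟩ := hU v hv hv0
  by_cases h1 : sf v x = 0
  · by_cases h3 : sf u y = 0
    · refine ⟨x + y, U.add_mem hx hy, ?_, ?_⟩
      · rwa [sf_add_right, h3, add_zero]
      · rwa [sf_add_right, h1, zero_add]
    · exact ⟨y, hy, h3, hvy⟩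
  · exact ⟨x, hx, hux, h1⟩

/-- The symmetric difference step. -/
theorem exists_step_in (U : Submodule F Vm) {u u' : Vm} (hu : u ∈ U) (hu' : u' ∈ U)
    (h : sf u' u ≠ 0) :
    ∃ g ∈ TG F m, act g u = u' ∧ (∀ x, sf (u' - u) x = 0 → act g x = x) ∧
      ∀ x ∈ U, act g x ∈ U := by
  refine ⟨eich (u' - u) 0 (sf u' u)⁻¹, trans_mem_TG _ _, ?_, fun x hx => ?_, fun x hx => ?_⟩
  · rw [act_eich_zero, sf_sub_left, show sf u u = 0 from form_self u, sub_zero, inv_mul_cancel₀ h,
      one_smul, add_sub_cancel]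
  · rw [act_eich_zero, hx, mul_zero, zero_smul, add_zero]
  · rw [act_eich_zero]
    exact U.add_mem hx (U.smul_mem _ (U.sub_mem hu' hu))

theorem exists_pair_in (U : Submodule F Vm) (hU : NDeg U) {u v u' v' : Vm} (hu : u ∈ U) (hv : v ∈ U)
    (hu' : u' ∈ U) (hv' : v' ∈ U) (h : sf u v = 1) (h' : sf u' v' = 1) :
    ∃ g ∈ TG F m, act g u = u' ∧ act g v = v' ∧
      ∀ x, (∀ y ∈ U, sf y x = 0) → act g x = x := by
  have hu0 : u ≠ 0 := fun h0 => by rw [h0, sf_zero_left] at h; exact zero_ne_one h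
  have hu'0 : u' ≠ 0 := fun h0 => by rw [h0, sf_zero_left] at h'; exact zero_ne_one h'
  obtain ⟨z, hz, hzu, hzu'⟩ := exists_common U hU hu hu' hu0 hu'0
  obtain ⟨A₁, hA₁, hA₁u, hA₁x, hA₁U⟩ := exists_step_in U hu hz (sf_ne_swap hzu)
  obtain ⟨A₂, hA₂, hA₂z, hA₂x, hA₂U⟩ := exists_step_in U hz hu' hzu'
  set A := A₂ * A₁ with hA
  have hAT : A ∈ TG F m := mul_mem hA₂ hA₁
  have hAu : act A u = u' := by rw [hA, act_mul, hA₁u, hA₂z]
  have hAfix : ∀ x, (∀ y ∈ U, sf y x = 0) → act A x = x := fun x hx => by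
    rw [hA, act_mul, hA₁x x (hx _ (U.sub_mem hz hu)), hA₂x x (hx _ (U.sub_mem hu' hz))]
  set w := act A v with hw
  have hwU : w ∈ U := by rw [hw, hA, act_mul]; exact hA₂U _ (hA₁U v hv)
  have hw1 : sf u' w = 1 := by rw [← hAu, hw, sf_act, h]
  suffices ∃ B ∈ TG F m, act B u' = u' ∧ act B w = v' ∧
      ∀ x, (∀ y ∈ U, sf y x = 0) → act B x = x by
    obtain ⟨B, hB, hB1, hB2, hB3⟩ := this
    exact ⟨B * A, mul_mem hB hAT, by rw [act_mul, hAu, hB1], by rw [act_mul, ← hw, hB2],
      fun x hx => by rw [act_mul, hAfix x hx, hB3 x hx]⟩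
  have hfix : ∀ a b : Vm, sf u' a = 1 → sf u' b = 1 → sf (b - a) u' = 0 := fun a b ha hb => by
    rw [sf, form_swap, ← sf, sf_sub_right, ha, hb, sub_self, neg_zero]
  by_cases h0 : sf v' w = 0
  · have hm : sf u' (u' + w) = 1 := by
      rw [sf_add_right, show sf u' u' = 0 from form_self u', hw1, zero_add]
    have e2 : sf (u' + w) w ≠ 0 := by
      rw [sf_add_left, show sf w w = 0 from form_self w, hw1, add_zero]; exact one_ne_zero
    have e3 : sf v' (u' + w) ≠ 0 := by
      rw [sf_add_right, h0, add_zero]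
      exact sf_ne_swap (by rw [h']; exact one_ne_zero)
    obtain ⟨B, hB, hBw, hBfix, -⟩ := exists_step_in U hwU (U.add_mem hu' hwU) e2
    obtain ⟨C, hC, hCw, hCfix, -⟩ := exists_step_in U (U.add_mem hu' hwU) hv' e3
    refine ⟨C * B, mul_mem hC hB, ?_, ?_, fun x hx => ?_⟩
    · rw [act_mul, hBfix u' (hfix _ _ hw1 hm), hCfix u' (hfix _ _ hm h')]
    · rw [act_mul, hBw, hCw]
    · rw [act_mul, hBfix x (hx _ (U.sub_mem (U.add_mem hu' hwU) hwU)),
        hCfix x (hx _ (U.sub_mem hv' (U.add_mem hu' hwU)))]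
  · obtain ⟨B, hB, hBw, hBfix, -⟩ := exists_step_in U hwU hv' h0
    exact ⟨B, hB, hBfix u' (hfix _ _ hw1 h'), hBw, fun x hx => hBfix x (hx _ (U.sub_mem hv' hwU))⟩

/-- Vectors supported on the pairs in `S`. -/
def USub (S : Finset (Fin m)) : Submodule F Vm where
  carrier := {v | ∀ i, i ∉ S → v (.inl i) = 0 ∧ v (.inr i) = 0}
  add_mem' ha hb i hi := ⟨by simp [(ha i hi).1, (hb i hi).1], by simp [(ha i hi).2, (hb i hi).2]⟩
  zero_mem' _ _ := ⟨rfl, rfl⟩
  smul_mem' c v hv i hi := ⟨by simp [(hv i hi).1], by simp [(hv i hi).2]⟩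

theorem NDeg_USub (S : Finset (Fin m)) : NDeg (USub (F := F) S) := by
  classical
  intro u hu hu0
  obtain ⟨y, hy⟩ := Cfsg.Agent.Lead.Symp.exists_form_ne hu0
  refine ⟨fun k => if Sum.elim id id k ∈ S then y k else 0, fun i hi => by simp [hi], ?_⟩
  have : sf u (fun k => if Sum.elim id id k ∈ S then y k else 0) = sf u y := by
    simp only [sf, form_eq, Sum.elim_inl, Sum.elim_inr, id]
    refine Finset.sum_congr rfl fun i _ => ?_
    by_cases hi : i ∈ S
    · simp [hi]
    · simp [hi, (hu i hi).1, (hu i hi).2]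
  rw [this]
  exact hy

theorem sp_generated : TG F m = ⊤ := by
  classical
  refine eq_top_iff.mpr fun g _ => ?_
  suffices h : ∀ (S : Finset (Fin m)) (g : Gm),
      (∀ i, i ∉ S → act g (se i) = se i ∧ act g (sff i) = sff i) → g ∈ TG F m from
    h Finset.univ g fun i hi => absurd (Finset.mem_univ i) hi
  intro S
  induction S using Finset.strongInduction with
  | H S ih =>
  intro g hg
  rcases S.eq_empty_or_nonempty with rfl | ⟨i, hi⟩
  · convert (TG F m).one_mem
    apply Subtype.ext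
    ext a b
    have : act g (Pi.single b 1) a = (Pi.single b 1 : Vm) a := by
      rcases b with j | j
      · exact congrFun (hg j (Finset.notMem_empty j)).2 a
      · exact congrFun (hg j (Finset.notMem_empty j)).1 a
    rw [act, Matrix.mulVec_single_one, Matrix.col_apply] at this
    rw [this, OneMemClass.coe_one, Matrix.one_apply, Pi.single_apply]
  have hmem : ∀ j, j ∈ S → (se j : Vm) ∈ USub S ∧ (sff j : Vm) ∈ USub S := fun j hj => by
    constructor <;> intro k hk <;> simp [se, sff, show k ≠ j from fun h => hk (h ▸ hj)]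
  have himg : ∀ x ∈ USub (F := F) S, act g x ∈ USub S := by
    intro x hx k hk
    obtain ⟨h1, h2⟩ := hg k hk
    constructor
    · rw [← sf_se_left k (act g x), ← h1, sf_act, sf_se_left]; exact (hx k hk).1
    · rw [← sf_sff_right k (act g x), ← h2, sf_act, sf_sff_right]; exact (hx k hk).2
  obtain ⟨A, hA, hAu, hAv, hAfix⟩ := exists_pair_in (USub S) (NDeg_USub S)
    (himg _ (hmem i hi).1) (himg _ (hmem i hi).2) (hmem i hi).1 (hmem i hi).2
    (by rw [sf_act, sf_se_sff]) (sf_se_sff i)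
  have hperp : ∀ k, k ∉ S → ∀ y ∈ USub (F := F) S, sf y (se k) = 0 ∧ sf y (sff k) = 0 :=
    fun k hk y hy => ⟨by rw [sf, form_swap, ← sf, sf_se_left, (hy k hk).1, neg_zero],
      by rw [sf_sff_right, (hy k hk).2]⟩
  have h1 : A * g ∈ TG F m := by
    refine ih (S.erase i) (Finset.erase_ssubset hi) _ fun k hk => ?_
    rcases eq_or_ne k i with rfl | hki
    · exact ⟨by rw [act_mul, hAu], by rw [act_mul, hAv]⟩
    · have hkS : k ∉ S := fun h => hk (Finset.mem_erase.mpr ⟨hki, h⟩)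
      exact ⟨by rw [act_mul, (hg k hkS).1, hAfix _ fun y hy => (hperp k hkS y hy).1],
        by rw [act_mul, (hg k hkS).2, hAfix _ fun y hy => (hperp k hkS y hy).2]⟩
  simpa using (TG F m).mul_mem ((TG F m).inv_mem hA) h1

theorem eich_eq_trans (w : Vm) (c : F) :
    ((eich w 0 (-c) : Gm) : Matrix (Fin m ⊕ Fin m) (Fin m ⊕ Fin m) F) = Cfsg.sympTransvection m w c := by
  refine ext_mulVec fun x => ?_
  rw [trans_mulVec]
  change act (eich w 0 (-c)) x = _
  rw [act_eich_zero, sf, form_swap x w]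
  ring_nf

/-- The symplectic transvection matrices generate. -/
theorem closure_transvections : Subgroup.closure {A : Matrix.symplecticGroup (Fin m) F | ∃ (w : Vm) (c : F),
    (A : Matrix (Fin m ⊕ Fin m) (Fin m ⊕ Fin m) F) = Cfsg.sympTransvection m w c} = ⊤ := by
  rw [eq_top_iff, ← sp_generated, TG]
  refine Subgroup.closure_mono ?_
  rintro _ ⟨v, t, rfl⟩
  exact ⟨v, -t, by rw [← eich_eq_trans, neg_neg]⟩

/-- The symplectic group is perfect over a field with an element whose square is neither zero nor one. -/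
theorem commutator_eq_top {a : F} (ha : a ≠ 0) (ha2 : a * a ≠ 1) :
    commutator (Matrix.symplecticGroup (Fin m) F) = ⊤ := by
  rw [eq_top_iff, ← sp_generated, TG, Subgroup.closure_le]
  rintro _ ⟨v, t, rfl⟩
  rcases eq_or_ne v 0 with rfl | hv
  · have e0 : (eich (0 : Vm) 0 t : Gm) = 1 := eq_of_act fun x => by rw [act_eich_zero, smul_zero, add_zero, act_one]
    rw [e0]
    exact (commutator Gm).one_mem
  obtain ⟨y, hy⟩ := Cfsg.Agent.Lead.Symp.exists_form_ne hv
  have hw : sf v ((sf v y)⁻¹ • y) = 1 := by rw [sf_smul_right, inv_mul_cancel₀ hy]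
  have hw' : sf (a • v) (a⁻¹ • ((sf v y)⁻¹ • y)) = 1 := by
    rw [sf_smul_left, sf_smul_right, hw, mul_one, mul_inv_cancel₀ ha]
  have hU : NDeg (⊤ : Submodule F Vm) := fun u _ hu => by
    obtain ⟨z, hz⟩ := Cfsg.Agent.Lead.Symp.exists_form_ne hu
    exact ⟨z, trivial, hz⟩
  obtain ⟨g, -, hg, -, -⟩ := exists_pair_in ⊤ hU (u := v) (u' := a • v) trivial trivial trivial trivial hw hw'
  set s := t / (a * a - 1)
  have hs : s * (a * a - 1) = t := div_mul_cancel₀ _ (sub_ne_zero.mpr ha2)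
  have e : eich v 0 t = g * eich v 0 s * g⁻¹ * (eich v 0 s)⁻¹ := by
    rw [eq_mul_inv_iff_mul_eq, eq_mul_inv_iff_mul_eq]
    refine eq_of_act fun x => ?_
    have h1 : sf (a • v) (act g x) = sf v x := by rw [← hg, sf_act]
    rw [sf_smul_left] at h1
    simp only [act_mul, act_eich_zero, act_add, act_smul, hg, sf_add_right, sf_smul_right, show sf v v = 0 from form_self v,
      mul_zero, add_zero, smul_smul, add_assoc, ← add_smul]
    rw [zero_smul, add_zero, ← add_smul]
    congr 2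
    linear_combination (-sf v (act g x)) * hs + (s * a) * h1
  rw [e, commutator_def]
  exact Subgroup.commutator_mem_commutator trivial trivial

end Cfsg.Agent.Classical.SpGen
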