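import Cfsg.Agent.Lib.Classical.SymplecticCount

/-!
# The isometry group of a non-degenerate alternating form is a standard symplectic group
-/

set_option autoImplicit false
set_option linter.unusedSectionVars false

namespace Cfsg.Agent.Classical.SpCount

open Module Matrix

universe u v

variable {F : Type u} [Field F] {V : Type v} [AddCommGroup V] [Module F V] {B : V →ₗ[F] V →ₗ[F] F}

/-- The isometries of a bilinear form. -/
def isom (B : V →ₗ[F] V →ₗ[F] F) : Subgroup (V ≃ₗ[F] V) where
  carrier := {g | ∀ x y, B (g x) (g y) = B x y}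
  one_mem' := fun _ _ => rfl
  mul_mem' {g h} hg hh x y := (hg (h x) (h y)).trans (hh x y)
  inv_mem' {g} hg x y := by
    have h := hg (g.symm x) (g.symm y)
    rw [g.apply_symm_apply, g.apply_symm_apply] at h
    exact h.symm

theorem mem_isom {g : V ≃ₗ[F] V} : g ∈ isom B ↔ ∀ x y, B (g x) (g y) = B x y := Iff.rfl

theorem toMatrix₂_basis [FiniteDimensional F V] (hB : IsAltND B) {m : ℕ} (hV : finrank F V = 2 * m)
    (f : SpFam B m) :
    LinearMap.toMatrix₂ (famBasis hB hV f) (famBasis hB hV f) B = Matrix.J (Fin m) F := by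
  ext i j
  rw [LinearMap.toMatrix₂_apply, famBasis, Basis.mk_apply, Basis.mk_apply, f.2]

theorem toMatrix_mem_iff [FiniteDimensional F V] (hB : IsAltND B) {m : ℕ} (hV : finrank F V = 2 * m)
    (f : SpFam B m) (g : V →ₗ[F] V) :
    LinearMap.toMatrix (famBasis hB hV f) (famBasis hB hV f) g ∈ Matrix.symplecticGroup (Fin m) F ↔
      ∀ x y, B (g x) (g y) = B x y := by
  rw [SymplecticGroup.mem_iff', ← toMatrix₂_basis hB hV f,
    ← LinearMap.toMatrix₂_compl₁₂, (LinearMap.toMatrix₂ _ _).injective.eq_iff]
  exact ⟨fun h x y => LinearMap.congr_fun (LinearMap.congr_fun h x) y,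
    fun h => LinearMap.ext fun x => LinearMap.ext fun y => h x y⟩

/-- The isometry group is the symplectic group. -/
noncomputable def isomEquiv [FiniteDimensional F V] (hB : IsAltND B) {m : ℕ} (hV : finrank F V = 2 * m)
    (f : SpFam B m) : isom B ≃* Matrix.symplecticGroup (Fin m) F where
  toFun g := ⟨LinearMap.toMatrix (famBasis hB hV f) (famBasis hB hV f) g.1.toLinearMap,
    (toMatrix_mem_iff hB hV f _).mpr g.2⟩
  invFun A :=
    have h : ∀ C : Matrix.symplecticGroup (Fin m) F, ∀ x,
        Matrix.toLin (famBasis hB hV f) (famBasis hB hV f) C.1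
          (Matrix.toLin (famBasis hB hV f) (famBasis hB hV f) (C⁻¹).1 x) = x := fun C x => by
      rw [← LinearMap.comp_apply, ← Matrix.toLin_mul, ← Submonoid.coe_mul, mul_inv_cancel,
        Submonoid.coe_one, Matrix.toLin_one]
      rfl
    ⟨LinearEquiv.ofLinear (Matrix.toLin (famBasis hB hV f) (famBasis hB hV f) A.1)
        (Matrix.toLin (famBasis hB hV f) (famBasis hB hV f) (A⁻¹).1)
        (LinearMap.ext fun x => h A x)
        (LinearMap.ext fun x => by have := h A⁻¹ x; rwa [inv_inv] at this),
      (toMatrix_mem_iff hB hV f (Matrix.toLin (famBasis hB hV f) (famBasis hB hV f) A.1)).mp (by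
        rw [LinearMap.toMatrix_toLin]; exact A.2)⟩
  left_inv g := by
    apply Subtype.ext
    apply LinearEquiv.ext
    intro x
    exact LinearMap.congr_fun (Matrix.toLin_toMatrix (famBasis hB hV f) (famBasis hB hV f) g.1.toLinearMap) x
  right_inv A := by
    apply Subtype.ext
    exact LinearMap.toMatrix_toLin _ _ _
  map_mul' g h := by
    apply Subtype.ext
    exact LinearMap.toMatrix_comp (famBasis hB hV f) (famBasis hB hV f) (famBasis hB hV f) _ _

theorem exists_isomEquiv [FiniteDimensional F V] (hB : IsAltND B) {m : ℕ} (hV : finrank F V = 2 * m) :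
    Nonempty (isom B ≃* Matrix.symplecticGroup (Fin m) F) := by
  obtain ⟨f⟩ := exists_fam m hB hV
  exact ⟨isomEquiv hB hV f⟩

end Cfsg.Agent.Classical.SpCount
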