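import Cfsg.Agent.Lib.Classical.SOOddMissingOrder
import Cfsg.Agent.Lib.Classical.OrthPOmega
import Cfsg.Agent.Lib.Small.OrthogonalPrimeClasses
import Cfsg.Agent.Lib.Small.SpPrimeGraph

/-!
# Square roots of `±1` commuting with a fixed-point-free isometry

If `-1` lies in the derived group of the orthogonal group of an even dimensional space and `t` is an
isometry of odd prime order without fixed vectors, the centraliser of `t` has order divisible by four.
-/

set_option autoImplicit false
set_option linter.unusedSectionVars false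
set_option linter.style.haveILetI false

namespace Cfsg.Agent.Classical.BCGraph

open Module QuadraticMap OCount ORefl OOmega Polynomial SOSinger

universe u

variable {F : Type u} [Field F] {V : Type u} [AddCommGroup V] [Module F V] {Q : QuadraticForm F V}

/-! ### Splitting off the fixed space -/

theorem smul_of_sub_fixed {t : Module.End F V} {w : V} (hv : t (t w - w) = t w - w) (i : ℕ) :
    (t ^ i) w = w + (i : F) • (t w - w) := by
  induction i with
  | zero => simp
  | succ i ih =>
    rw [pow_succ', Module.End.mul_apply, ih, map_add, map_smul, hv, Nat.cast_succ, add_smul, one_smul]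
    abel

/-- An element of order prime to the characteristic splits off its fixed space. -/
theorem isCompl_fix [FiniteDimensional F V] {t : Module.End F V} {s : ℕ} (hs : (s : F) ≠ 0) (ht : t ^ s = 1) :
    IsCompl (LinearMap.range (t - 1)) (LinearMap.ker (t - 1)) := by
  have hd : Disjoint (LinearMap.range (t - 1)) (LinearMap.ker (t - 1)) := by
    rw [Submodule.disjoint_def]
    rintro v ⟨w, rfl⟩ hv
    simp only [LinearMap.mem_ker, LinearMap.sub_apply, Module.End.one_apply, sub_eq_zero] at hv ⊢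
    have h := smul_of_sub_fixed hv s
    rw [ht, Module.End.one_apply, eq_comm, add_eq_left, smul_eq_zero] at h
    exact sub_eq_zero.mp (h.resolve_left hs)
  refine ⟨hd, codisjoint_iff.mpr (Submodule.eq_top_of_finrank_eq ?_)⟩
  have h1 := Submodule.finrank_sup_add_finrank_inf_eq (LinearMap.range (t - 1)) (LinearMap.ker (t - 1))
  rw [hd.eq_bot, finrank_bot, add_zero, LinearMap.finrank_range_add_finrank_ker] at h1
  exact h1

/-! ### Isometries -/

/-- A similarity conjugates the isometry groups. -/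
noncomputable def simConj {V' : Type u} [AddCommGroup V'] [Module F V'] {Q' : QuadraticForm F V'} (L : V ≃ₗ[F] V')
    {c : F} (hc : c ≠ 0) (hL : ∀ v, Q' (L v) = c * Q v) : ↥(Iso Q) ≃* ↥(Iso Q') where
  toFun g := ⟨L.symm.trans (g.1.trans L), fun x => by
    change Q' (L (g.1 (L.symm x))) = Q' x
    rw [hL, g.2, ← hL, L.apply_symm_apply]⟩
  invFun g := ⟨L.trans (g.1.trans L.symm), fun x => by
    change Q (L.symm (g.1 (L x))) = Q x
    refine mul_left_cancel₀ hc ?_
    rw [← hL, L.apply_symm_apply, g.2, hL]⟩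
  left_inv g := Subtype.ext (LinearEquiv.ext fun x => by simp)
  right_inv g := Subtype.ext (LinearEquiv.ext fun x => by simp)
  map_mul' g h := Subtype.ext (LinearEquiv.ext fun x => by
    change L ((g.1 * h.1) (L.symm x)) = L (g.1 (L.symm (L (h.1 (L.symm x)))))
    rw [L.symm_apply_apply]; rfl)

theorem mem_commutator_simConj {V' : Type u} [AddCommGroup V'] [Module F V'] {Q' : QuadraticForm F V'}
    (L : V ≃ₗ[F] V') {c : F} (hc : c ≠ 0) (hL : ∀ v, Q' (L v) = c * Q v) {g : ↥(Iso Q)}
    (hg : g ∈ commutator ↥(Iso Q)) : simConj L hc hL g ∈ commutator ↥(Iso Q') := by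
  rw [← map_commutator_equiv (simConj L hc hL)]
  exact ⟨g, hg, rfl⟩

theorem negI_simConj {V' : Type u} [AddCommGroup V'] [Module F V'] {Q' : QuadraticForm F V'}
    (L : V ≃ₗ[F] V') {c : F} (hc : c ≠ 0) (hL : ∀ v, Q' (L v) = c * Q v) :
    simConj L hc hL (negI Q) = negI Q' := Subtype.ext (LinearEquiv.ext fun x => by
  change L (-L.symm x) = -x
  rw [map_neg, L.apply_symm_apply])

variable [Finite F] [FiniteDimensional F V]

/-- The isometry equal to a given endomorphism. -/
theorem exists_iso (h2 : (2 : F) ≠ 0) {a : Module.End F V}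
    (hpol : ∀ u v, polar Q (a u) (a v) = polar Q u v) (hinj : Function.Injective a) :
    ∃ y : ↥(Iso Q), ∀ v, y.1 v = a v := by
  refine ⟨⟨LinearEquiv.ofInjectiveEndo a hinj, fun v => ?_⟩, fun v => rfl⟩
  change Q (a v) = Q v
  have h := hpol v v
  rw [polar_self_two, polar_self_two] at h
  exact mul_left_cancel₀ h2 h

/-- A non-trivial orthogonal splitting invariant under `t` gives a central-free involution. -/
theorem exists_of_split (h2 : (2 : F) ≠ 0) {U C : Submodule F V}
    (hs : OSplit Q U C) (hU : U ≠ ⊥) (hC : C ≠ ⊥) (t : ↥(Iso Q)) (htU : ∀ v ∈ U, t.1 v ∈ U) (htC : ∀ v ∈ C, t.1 v ∈ C) :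
    ∃ y : ↥(Iso Q), Commute y t ∧ y ≠ 1 ∧ y ≠ negI Q ∧ (y * y = 1 ∨ y * y = negI Q) := by
  obtain ⟨e, heU, heC, -⟩ := exists_ext hs
  obtain ⟨y, hy⟩ : ∃ y, y = e (negI (res Q U)) := ⟨_, rfl⟩
  have hyU : ∀ v ∈ U, y.1 v = -v := fun v hv => by rw [hy, show v = ((⟨v, hv⟩ : U) : V) from rfl, heU]; rfl
  have hyC : ∀ v ∈ C, y.1 v = v := fun v hv => by rw [hy]; exact heC _ v hv
  refine ⟨y, ?_, ?_, ?_, Or.inl ?_⟩
  · refine Subtype.ext (LinearEquiv.ext fun v => ?_)
    obtain ⟨a, ha, c, hc, rfl⟩ := exists_decomp hs v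
    change y.1 (t.1 (a + c)) = t.1 (y.1 (a + c))
    rw [map_add, map_add, hyU _ (htU a ha), hyC _ (htC c hc), map_add, hyU a ha, hyC c hc, map_add, map_neg]
  · intro e1
    obtain ⟨v, hv, hv0⟩ := Submodule.exists_mem_ne_zero_of_ne_bot hU
    have h := hyU v hv
    rw [e1] at h
    exact hv0 (neg_fixed_free h2 h.symm)
  · intro e1
    obtain ⟨v, hv, hv0⟩ := Submodule.exists_mem_ne_zero_of_ne_bot hC
    have h := hyC v hv
    rw [e1, negI_apply] at h
    exact hv0 (neg_fixed_free h2 h)
  · refine Subtype.ext (LinearEquiv.ext fun v => ?_)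
    obtain ⟨a, ha, c, hc, rfl⟩ := exists_decomp hs v
    change y.1 (y.1 (a + c)) = a + c
    rw [map_add, hyU a ha, hyC c hc, map_add, map_neg, hyU a ha, hyC c hc, neg_neg]

/-- The orthogonal complement of a non-degenerate subspace. -/
theorem exists_osplit (hQ : PND Q) (U : Submodule F V)
    (hnd : ∀ u ∈ U, (∀ v ∈ U, polar Q u v = 0) → u = 0) :
    OSplit Q U (LinearMap.BilinForm.orthogonal (polarBilin Q) U) := by
  have hn := ORefl.nondeg hQ
  have hd : U ⊓ LinearMap.BilinForm.orthogonal (polarBilin Q) U = ⊥ := by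
    rw [Submodule.eq_bot_iff]
    rintro u ⟨hu, hu'⟩
    refine hnd u hu fun v hv => ?_
    rw [polar_comm]
    exact LinearMap.BilinForm.mem_orthogonal_iff.1 hu' v hv
  refine ⟨⟨disjoint_iff.mpr hd, codisjoint_iff.mpr (Submodule.eq_top_of_finrank_eq ?_)⟩,
    fun w hw c hc => LinearMap.BilinForm.mem_orthogonal_iff.1 hc w hw⟩
  have h1 := Submodule.finrank_sup_add_finrank_inf_eq U (LinearMap.BilinForm.orthogonal (polarBilin Q) U)
  rw [hd, finrank_bot, add_zero, LinearMap.BilinForm.finrank_orthogonal hn U] at h1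
  have := Submodule.finrank_le U
  omega

theorem orth_invariant (t : ↥(Iso Q)) {U : Submodule F V} (hU : ∀ v ∈ U, t.1.symm v ∈ U) {v : V}
    (hv : v ∈ LinearMap.BilinForm.orthogonal (polarBilin Q) U) :
    t.1 v ∈ LinearMap.BilinForm.orthogonal (polarBilin Q) U := by
  rw [LinearMap.BilinForm.mem_orthogonal_iff] at hv ⊢
  intro u hu
  change polar Q u (t.1 v) = 0
  rw [← t.1.apply_symm_apply u, polar_iso t.2]
  exact hv _ (hU u hu)

/-! ### Powers of the torus element -/

section Powers

variable {t : ↥(Iso Q)} {s : ℕ}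

theorem lm_pow_one (ht : t ^ s = 1) : SOSinger.lm t ^ s = 1 := by
  rw [← SOSinger.lm_pow, ht]; rfl

theorem symm_eq (ht : t ^ s = 1) (hs : 0 < s) (v : V) : t.1.symm v = (SOSinger.lm t ^ (s - 1)) v := by
  apply t.1.injective
  rw [t.1.apply_symm_apply]
  change v = SOSinger.lm t ((SOSinger.lm t ^ (s - 1)) v)
  rw [← Module.End.mul_apply, ← pow_succ', Nat.sub_add_cancel hs, lm_pow_one ht]
  rfl

theorem pow_mem {U : Submodule F V} (hU : ∀ v ∈ U, t.1 v ∈ U) (i : ℕ) {v : V} (hv : v ∈ U) :
    (SOSinger.lm t ^ i) v ∈ U := by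
  induction i with
  | zero => simpa using hv
  | succ i ih => rw [pow_succ', Module.End.mul_apply]; exact hU _ ih

theorem aeval_mem {U : Submodule F V} (hU : ∀ v ∈ U, t.1 v ∈ U) (P : F[X]) {v : V} (hv : v ∈ U) :
    aeval (SOSinger.lm t) P v ∈ U := by
  induction P using Polynomial.induction_on' with
  | add a b ha hb => rw [map_add, LinearMap.add_apply]; exact add_mem ha hb
  | monomial n c =>
    rw [aeval_monomial, ← Algebra.smul_def, LinearMap.smul_apply]
    exact U.smul_mem c (pow_mem hU n hv)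

theorem adj (ht : t ^ s = 1) (hs : 0 < s) (P : F[X]) (u v : V) :
    polar Q (aeval (SOSinger.lm t) P u) v = polar Q u (aeval (SOSinger.lm t ^ (s - 1)) P v) := by
  induction P using Polynomial.induction_on' generalizing u v with
  | add a b ha hb => simp only [map_add, LinearMap.add_apply, polar_add_left, polar_add_right, ha, hb]
  | monomial n c =>
    rw [aeval_monomial, aeval_monomial, ← Algebra.smul_def, ← Algebra.smul_def, LinearMap.smul_apply,
      LinearMap.smul_apply, polar_smul_left, polar_smul_right]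
    congr 1
    induction n generalizing u v with
    | zero => simp
    | succ n ih =>
      rw [pow_succ, Module.End.mul_apply, ih, pow_succ', Module.End.mul_apply, ← symm_eq ht hs]
      conv_lhs => rw [← t.1.apply_symm_apply ((((SOSinger.lm t) ^ (s - 1)) ^ n) v)]
      exact polar_iso t.2 _ _

end Powers

/-! ### Irreducible subspaces -/

/-- On an irreducible subspace the element generates a field of matching degree. -/
theorem exists_field {t : ↥(Iso Q)} {U : Submodule F V} (hU0 : U ≠ ⊥) (hU : ∀ v ∈ U, t.1 v ∈ U)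
    (hmin : ∀ U' ≤ U, (∀ v ∈ U', t.1 v ∈ U') → U' = ⊥ ∨ U' = U) :
    ∃ g : F[X], Irreducible g ∧ g.natDegree = finrank F U ∧ (∀ v ∈ U, aeval (SOSinger.lm t) g v = 0) ∧
      ∀ P : F[X], (∀ v ∈ U, aeval (SOSinger.lm t) P v = 0) → g ∣ P := by
  classical
  obtain ⟨tU, htU⟩ : ∃ tU : Module.End F U, ∀ v : U, (tU v : V) = t.1 v :=
    ⟨(SOSinger.lm t).restrict hU, fun v => rfl⟩
  have hev : ∀ (P : F[X]) (v : U), ((aeval tU P v : U) : V) = aeval (SOSinger.lm t) P v := by
    intro P
    induction P using Polynomial.induction_on' with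
    | add a b ha hb => intro v; simp [ha, hb]
    | monomial n c =>
      intro v
      rw [aeval_monomial, aeval_monomial, ← Algebra.smul_def, ← Algebra.smul_def, LinearMap.smul_apply,
        LinearMap.smul_apply, Submodule.coe_smul]
      congr 1
      induction n generalizing v with
      | zero => simp
      | succ n ih => rw [pow_succ, pow_succ, Module.End.mul_apply, Module.End.mul_apply, ih, htU]; rfl
  haveI : Nontrivial U := Submodule.nontrivial_iff_ne_bot.mpr hU0
  have hint : IsIntegral F tU := Algebra.IsIntegral.isIntegral tU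
  obtain ⟨g₀, hg₀, hg₀d⟩ := WfDvdMonoid.exists_irreducible_factor (minpoly.not_isUnit F tU) (minpoly.ne_zero hint)
  obtain ⟨h, hh⟩ := hg₀d
  obtain ⟨v₀, hv₀, hgv⟩ : ∃ v : U, v ≠ 0 ∧ aeval tU g₀ v = 0 := by
    by_contra! hcon
    have hh0 : h ≠ 0 := fun h0 => minpoly.ne_zero hint (by rw [hh, h0, mul_zero])
    have hh1 : aeval tU h = 0 := LinearMap.ext fun v => by
      by_contra hne
      refine hcon _ hne ?_
      have := LinearMap.congr_fun (minpoly.aeval F tU) v
      rwa [hh, map_mul, Module.End.mul_apply] at this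
    have := natDegree_le_of_dvd (minpoly.dvd F tU hh1) hh0
    rw [hh, natDegree_mul hg₀.ne_zero hh0] at this
    have := hg₀.natDegree_pos
    omega
  let A := SOSinger.lm t
  have hcomm : ∀ (P : F[X]) (w : V), t.1 (aeval A P w) = aeval A P (t.1 w) := fun P w => by
    have h1 : Commute A (aeval A P) := Algebra.commute_of_mem_adjoin_singleton_of_commute
      (aeval_mem_adjoin_singleton F A) (Commute.refl A)
    exact LinearMap.congr_fun h1.eq w
  have hker : U ⊓ LinearMap.ker (aeval A g₀) = U := by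
    refine (hmin _ inf_le_left fun v hv => ⟨hU v hv.1, ?_⟩).resolve_left fun e => hv₀ (Subtype.ext ?_)
    · change aeval A g₀ (t.1 v) = 0
      rw [← hcomm, show aeval A g₀ v = 0 from hv.2, map_zero]
    · have : (v₀ : V) ∈ U ⊓ LinearMap.ker (aeval A g₀) := ⟨v₀.2, by
        change aeval A g₀ (v₀ : V) = 0
        rw [← hev, hgv]; rfl⟩
      rwa [e, Submodule.mem_bot] at this
  have hgU : ∀ v ∈ U, aeval A g₀ v = 0 := fun v hv => (hker.symm ▸ hv : v ∈ U ⊓ LinearMap.ker (aeval A g₀)).2
  refine ⟨g₀, hg₀, le_antisymm ?_ ?_, hgU, fun P hP => ?_⟩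
  · refine (natDegree_le_of_dvd ?_ tU.charpoly_monic.ne_zero).trans (LinearMap.charpoly_natDegree tU).le
    exact (hh ▸ dvd_mul_right g₀ h : g₀ ∣ minpoly F tU).trans (LinearMap.minpoly_dvd_charpoly tU)
  · obtain ⟨ev, hev'⟩ : ∃ ev : F[X] →ₗ[F] V, ∀ P, ev P = aeval A P (v₀ : V) :=
      ⟨(LinearMap.applyₗ (v₀ : V)).comp (aeval A).toLinearMap, fun P => rfl⟩
    have htop : Submodule.map ev (degreeLT F g₀.natDegree) = U := by
      refine le_antisymm ?_ fun w hw => ?_
      · rintro _ ⟨P, -, rfl⟩
        rw [hev']; exact aeval_mem hU P v₀.2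
      have hR : LinearMap.range ev = U := by
        refine (hmin _ ?_ ?_).resolve_left fun e => hv₀ (Subtype.ext ?_)
        · rintro _ ⟨P, rfl⟩
          rw [hev']; exact aeval_mem hU P v₀.2
        · rintro _ ⟨P, rfl⟩
          refine ⟨X * P, ?_⟩
          rw [hev', hev', map_mul, aeval_X]; rfl
        · have : ev 1 ∈ LinearMap.range ev := ⟨1, rfl⟩
          rw [e, Submodule.mem_bot, hev', map_one] at this
          exact this
      obtain ⟨P, rfl⟩ := hR.symm ▸ hw
      have hm : Irreducible g₀ := hg₀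
      refine ⟨P % g₀, Polynomial.mem_degreeLT.mpr ?_, ?_⟩
      · rw [← degree_eq_natDegree hm.ne_zero]; exact EuclideanDomain.mod_lt P hm.ne_zero
      · rw [hev', hev']
        conv_rhs => rw [← EuclideanDomain.mod_add_div P g₀, map_add, mul_comm g₀, map_mul, LinearMap.add_apply,
          Module.End.mul_apply, hgU _ v₀.2, map_zero, add_zero]
    rw [← htop]
    refine (Submodule.finrank_map_le ev _).trans ?_
    rw [(degreeLTEquiv F g₀.natDegree).finrank_eq, Module.finrank_fin_fun]
  · by_contra hnd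
    obtain ⟨a, b, hab⟩ := (hg₀.coprime_iff_not_dvd.mpr hnd)
    refine hv₀ (Subtype.ext ?_)
    have := LinearMap.congr_fun (congrArg (aeval A) hab) (v₀ : V)
    rw [map_add, map_mul, map_mul, map_one, LinearMap.add_apply, Module.End.mul_apply, Module.End.mul_apply,
      hP _ v₀.2, hgU _ v₀.2, map_zero, map_zero, add_zero, Module.End.one_apply] at this
    exact this.symm

/-- With `-1` in the derived group, the centraliser of `t` has a further square root of `±1`. -/
theorem exists_four (p : ℕ) [Fact p.Prime] [CharP F p] (h2 : (2 : F) ≠ 0) (hQ : PND Q) {n : ℕ} (hn : 1 ≤ n)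
    (hV : finrank F V = 2 * n) (t : ↥(Iso Q)) {s : ℕ} (hs : s.Prime) (hs2 : s ≠ 2) (hsp : s ≠ p) (ht : t ^ s = 1)
    (hfix : ∀ v, t.1 v = v → v = 0) (hneg : negI Q ∈ commutator ↥(Iso Q)) :
    ∃ y : ↥(Iso Q), Commute y t ∧ y ≠ 1 ∧ y ≠ negI Q ∧ (y * y = 1 ∨ y * y = negI Q) := by
  classical
  haveI := Fintype.ofFinite F
  haveI : Finite V := Module.finite_of_finite F
  haveI : Nontrivial V := Module.nontrivial_of_finrank_pos (R := F) (by omega)
  haveI : CharP (Module.End F V) p :=
    charP_of_injective_algebraMap (FaithfulSMul.algebraMap_injective F (Module.End F V)) p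
  haveI := Fact.mk hs
  have hodd : Odd (Fintype.card F) := by
    rw [Nat.odd_iff]
    by_contra hc
    refine h2 ?_
    haveI := ringChar.of_eq (FiniteField.even_card_iff_char_two.mpr (by omega) : ringChar F = 2)
    exact CharTwo.two_eq_zero
  obtain ⟨f, hp, hcard⟩ := FiniteField.card F p
  have hs0 : 0 < s := hs.pos
  have hqs : ((Fintype.card F : ℕ) : ZMod s) ≠ 0 := Small.OrthogonalPrimeClasses.cast_ne_zero_of (p := p) hs hsp
  -- the type of the space
  have hcount : Nat.card {v // Q v = 1} ≡ 0 [MOD s] := by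
    let g : {v // Q v = 1} → {v // Q v = 1} := fun v => ⟨t.1 v.1, (t.2 _).trans v.2⟩
    have hg : ∀ (k : ℕ) v, (g^[k] v).1 = (SOSinger.lm t ^ k) v.1 := by
      intro k
      induction k with
      | zero => intro v; rfl
      | succ k ih => intro v; rw [Function.iterate_succ_apply', pow_succ', Module.End.mul_apply, ← ih]; rfl
    have h := Small.OrthogonalPrimeClasses.card_modEq_fixed hs g (funext fun v => Subtype.ext (by
      rw [hg, lm_pow_one ht]; rfl))
    haveI : IsEmpty {a // g a = a} := ⟨fun a => by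
      have h0 := hfix _ (congrArg Subtype.val a.2)
      have := a.1.2
      rw [h0, QuadraticMap.map_zero] at this
      exact zero_ne_one this⟩
    rw [Nat.card_of_isEmpty (α := {a // g a = a})] at h
    exact h
  rw [Nat.modEq_zero_iff_dvd] at hcount
  have hpow : ∀ N : ℕ, (N : ZMod s) = 1 → SOSinger.lm t ^ N = SOSinger.lm t := fun N hN => by
    rw [pow_eq_pow_mod N (lm_pow_one ht), ← ZMod.val_natCast, hN, ZMod.val_one, pow_one]
  obtain ⟨a, b, hab⟩ := Small.QuadModels.exists_aniso (F := F)
  have htype : (Fintype.card F ^ n % 4 = 1 ∧ ((Fintype.card F : ℕ) : ZMod s) ^ n = 1) ∨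
      (Fintype.card F ^ n % 4 = 3 ∧ ((Fintype.card F : ℕ) : ZMod s) ^ n = -1) := by
    rcases Small.OrthogonalPrimeClasses.even_count Q hn hV hQ a b hab with ⟨⟨L, hL⟩, eQ⟩ | ⟨⟨L, hL⟩, eQ⟩
    · left
      rw [eQ, Small.OrthogonalPrimeClasses.plus_dvd_iff hs Fintype.card_pos hqs] at hcount
      refine ⟨(negI_plus hodd hn).mp ?_, hcount⟩
      have hL' : ∀ v, formOf n (Equiv.sumEmpty (Fin n ⊕ Fin n) Empty).symm (0 : QuadraticForm F (Empty → F)) (L.symm v) =
          1 * Q v := fun v => by
        rw [one_mul, coe_plus, ← hL, L.apply_symm_apply]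
      rw [← negI_simConj L.symm one_ne_zero hL']
      exact mem_commutator_simConj L.symm one_ne_zero hL' hneg
    · right
      rw [eQ, Small.OrthogonalPrimeClasses.minus_dvd_iff hs hqs] at hcount
      refine ⟨(negI_minus hodd hn a b hab).mp ?_, hcount⟩
      have hL' : ∀ v, formOf (n - 1) (Equiv.refl ((Fin (n - 1) ⊕ Fin (n - 1)) ⊕ Fin 2)) (planeForm a b) (L.symm v) =
          1 * Q v := fun v => by
        rw [one_mul, coe_minus, ← hL, L.apply_symm_apply]
      rw [← negI_simConj L.symm one_ne_zero hL']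
      exact mem_commutator_simConj L.symm one_ne_zero hL' hneg
  have hcardp : Fintype.card F ^ n = p ^ ((f : ℕ) * n) := by rw [hcard, pow_mul]
  rcases htype with ⟨hq4, hqn⟩ | ⟨hq4, hqn⟩
  · -- the split case
    have hfrob : SOSinger.lm t ^ (Fintype.card F ^ n) = SOSinger.lm t := hpow _ (by rw [Nat.cast_pow, hqn])
    obtain ⟨U, hU0, hU, hmin⟩ : ∃ U : Submodule F V, U ≠ ⊥ ∧ (∀ v ∈ U, t.1 v ∈ U) ∧
        ∀ U' ≤ U, (∀ v ∈ U', t.1 v ∈ U') → U' = ⊥ ∨ U' = U := by
      have hex : ∃ d, ∃ U : Submodule F V, U ≠ ⊥ ∧ (∀ v ∈ U, t.1 v ∈ U) ∧ finrank F U = d :=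
        ⟨_, ⊤, top_ne_bot, fun _ _ => Submodule.mem_top, rfl⟩
      obtain ⟨U, hU0, hU, hUd⟩ := Nat.find_spec hex
      refine ⟨U, hU0, hU, fun U' hle hU' => or_iff_not_imp_left.mpr fun h0 => ?_⟩
      exact Submodule.eq_of_le_of_finrank_le hle (hUd ▸ Nat.find_min' hex ⟨U', h0, hU', rfl⟩)
    obtain ⟨g, hg, hgd, hgU, hgdvd⟩ := exists_field hU0 hU hmin
    have hsymm : ∀ {W : Submodule F V}, (∀ v ∈ W, t.1 v ∈ W) → ∀ v ∈ W, t.1.symm v ∈ W := fun {W} hW v hv => by
      rw [symm_eq ht hs0]; exact pow_mem hW _ hv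
    -- all elements of the field are fixed by the power of Frobenius
    haveI : Fact (Irreducible g) := ⟨hg⟩
    haveI : Module.Finite F (AdjoinRoot g) := (AdjoinRoot.powerBasis hg.ne_zero).finite
    haveI : Finite (AdjoinRoot g) := Module.finite_of_finite F
    haveI := Fintype.ofFinite (AdjoinRoot g)
    have hE : Fintype.card (AdjoinRoot g) = Fintype.card F ^ finrank F U := by
      rw [← Nat.card_eq_fintype_card, Module.natCard_eq_pow_finrank (K := F), Nat.card_eq_fintype_card,
        (AdjoinRoot.powerBasis hg.ne_zero).finrank, AdjoinRoot.powerBasis_dim, hgd]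
    by_cases htop : U = ⊤
    · exfalso
      have hz : ∀ z : AdjoinRoot g, z ^ (Fintype.card F ^ n) = z := fun z => by
        obtain ⟨P, rfl⟩ := AdjoinRoot.mk_surjective z
        have hX : AdjoinRoot.mk g (X ^ (Fintype.card F ^ n)) = AdjoinRoot.mk g X := by
          refine AdjoinRoot.mk_eq_mk.mpr (hgdvd _ fun v _ => ?_)
          rw [map_sub, map_pow, aeval_X, hfrob, sub_self]; rfl
        have hexp : ∀ k : ℕ, (P : F[X]) ^ (Fintype.card F ^ k) = Polynomial.expand F (Fintype.card F ^ k) P := by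
          intro k
          induction k with
          | zero => simp
          | succ k ih =>
            rw [pow_succ, pow_mul, ih, ← FiniteField.expand_card, Polynomial.expand_expand, mul_comm]
        rw [← map_pow, hexp, ← AdjoinRoot.aeval_eq, expand_aeval, ← AdjoinRoot.aeval_eq]
        rw [map_pow, AdjoinRoot.mk_X] at hX
        rw [hX]
      have hne : (X ^ (Fintype.card F ^ n) - X : (AdjoinRoot g)[X]) ≠ 0 :=
        FiniteField.X_pow_card_sub_X_ne_zero _ (Nat.one_lt_pow (by omega) Fintype.one_lt_card)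
      have hle : Fintype.card (AdjoinRoot g) ≤ Fintype.card F ^ n := by
        rw [← FiniteField.X_pow_card_sub_X_natDegree_eq (AdjoinRoot g) (Nat.one_lt_pow (by omega : n ≠ 0)
          (Fintype.one_lt_card (α := F)))]
        refine le_trans ?_ (Polynomial.card_roots' _)
        refine le_trans ?_ (Multiset.toFinset_card_le _)
        rw [← Finset.card_univ]
        refine Finset.card_le_card fun z _ => ?_
        rw [Multiset.mem_toFinset, mem_roots hne, IsRoot, eval_sub, eval_pow, eval_X, hz z, sub_self]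
      rw [hE, htop, finrank_top, hV] at hle
      have := (Nat.pow_le_pow_iff_right (Fintype.one_lt_card (α := F))).mp hle
      omega
    by_cases hnd : ∀ u ∈ U, (∀ v ∈ U, polar Q u v = 0) → u = 0
    · have hs' := exists_osplit hQ U hnd
      refine exists_of_split h2 hs' hU0 (fun e => htop ?_) t hU fun v hv => orth_invariant t (hsymm hU) hv
      have := hs'.compl.sup_eq_top
      rwa [e, sup_bot_eq] at this
    push Not at hnd
    obtain ⟨u₀, hu₀, hperp, hu₀0⟩ := hnd
    obtain ⟨Uo, hUo⟩ : ∃ Uo, Uo = LinearMap.BilinForm.orthogonal (polarBilin Q) U := ⟨_, rfl⟩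
    have hUoinv : ∀ v ∈ Uo, t.1 v ∈ Uo := fun v hv => hUo ▸ orth_invariant t (hsymm hU) (hUo ▸ hv)
    have hsing : U ≤ Uo := by
      have h := (hmin (U ⊓ Uo) inf_le_left fun v hv => ⟨hU v hv.1, hUoinv v hv.2⟩).resolve_left fun e => hu₀0 (by
        have : u₀ ∈ U ⊓ Uo := ⟨hu₀, hUo ▸ LinearMap.BilinForm.mem_orthogonal_iff.2 fun v hv => by
          change polar Q v u₀ = 0
          rw [polar_comm]; exact hperp v hv⟩
        rwa [e, Submodule.mem_bot] at this)
      exact h ▸ inf_le_right
    have hQU : ∀ u ∈ U, Q u = 0 := fun u hu => by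
      have h := LinearMap.BilinForm.mem_orthogonal_iff.1 (hUo ▸ hsing hu) u hu
      change polar Q u u = 0 at h
      rw [polar_self_two] at h
      exact (mul_eq_zero.mp h).resolve_left h2
    have hsemi : (SOSinger.lm t).IsSemisimple := by
      refine Module.End.isSemisimple_of_squarefree_aeval_eq_zero (p := X ^ s - 1) ?_ (by simp [lm_pow_one ht])
      refine (X_pow_sub_one_separable_iff.mpr ?_).squarefree
      rw [Ne, CharP.cast_eq_zero_iff F p, Nat.prime_dvd_prime_iff_eq Fact.out hs]
      exact Ne.symm hsp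
    obtain ⟨K, hKinv, hKc⟩ := Module.End.isSemisimple_iff.mp hsemi Uo (fun v hv => hUoinv v hv)
    have hK : ∀ v ∈ K, t.1 v ∈ K := fun v hv => hKinv hv
    have hKd : finrank F K = finrank F U := by
      have h1 := Submodule.finrank_add_eq_of_isCompl hKc
      rw [hUo, LinearMap.BilinForm.finrank_orthogonal (ORefl.nondeg hQ) U] at h1
      have := Submodule.finrank_le U
      omega
    have hUK : Disjoint U K := hKc.disjoint.mono_left hsing
    have hkey : ∀ k ∈ K, (∀ u ∈ U, polar Q u k = 0) → k = 0 := fun k hk h => by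
      have : k ∈ Uo ⊓ K := ⟨hUo ▸ LinearMap.BilinForm.mem_orthogonal_iff.2 h, hk⟩
      rwa [hKc.disjoint.eq_bot, Submodule.mem_bot] at this
    have hsupnd : ∀ v ∈ U ⊔ K, (∀ w ∈ U ⊔ K, polar Q v w = 0) → v = 0 := by
      intro v hv hw
      obtain ⟨u, hu, k, hk, rfl⟩ := Submodule.mem_sup.mp hv
      have hk0 : k = 0 := hkey k hk fun u' hu' => by
        have h := hw u' (Submodule.mem_sup_left hu')
        rw [polar_add_left, show polar Q u u' = 0 from
          LinearMap.BilinForm.mem_orthogonal_iff.1 (hUo ▸ hsing hu') u hu, zero_add, polar_comm] at h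
        exact h
      subst hk0
      simp only [add_zero] at hw ⊢
      have hUK' : IsCompl Uo K := hKc
      refine hQ u fun w => ?_
      obtain ⟨a, ha, c, hc, rfl⟩ := Submodule.mem_sup.mp (hUK'.sup_eq_top ▸ Submodule.mem_top : w ∈ Uo ⊔ K)
      rw [polar_add_right, hw c (Submodule.mem_sup_right hc),
        show polar Q u a = 0 from LinearMap.BilinForm.mem_orthogonal_iff.1 (hUo ▸ ha) u hu, add_zero]
    have hsupinv : ∀ v ∈ U ⊔ K, t.1 v ∈ U ⊔ K := fun v hv => by
      obtain ⟨u, hu, k, hk, rfl⟩ := Submodule.mem_sup.mp hv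
      rw [map_add]
      exact add_mem (Submodule.mem_sup_left (hU u hu)) (Submodule.mem_sup_right (hK k hk))
    by_cases hfull : U ⊔ K = ⊤
    swap
    · have hs' := exists_osplit hQ (U ⊔ K) hsupnd
      refine exists_of_split h2 hs' (fun e => hU0 (le_bot_iff.mp (e ▸ le_sup_left))) (fun e => hfull ?_) t hsupinv
        fun v hv => orth_invariant t (hsymm hsupinv) hv
      have := hs'.compl.sup_eq_top
      rwa [e, sup_bot_eq] at this
    have hUn : finrank F U = n := by
      have h1 := Submodule.finrank_sup_add_finrank_inf_eq U K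
      rw [hfull, hUK.eq_bot, finrank_top, finrank_bot, hV, hKd] at h1
      omega
    by_cases hQK : ∀ k ∈ K, ∀ k' ∈ K, polar Q k k' = 0
    swap
    · by_cases hKnd : ∀ k ∈ K, (∀ v ∈ K, polar Q k v = 0) → k = 0
      · have hs' := exists_osplit hQ K hKnd
        have hK0 : K ≠ ⊥ := fun e => by rw [e, finrank_bot] at hKd; omega
        refine exists_of_split h2 hs' hK0 (fun e => ?_) t hK fun v hv => orth_invariant t (hsymm hK) hv
        have h3 := hs'.compl.sup_eq_top
        rw [e, sup_bot_eq] at h3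
        rw [h3, finrank_top, hV, hUn] at hKd
        omega
      exfalso
      refine hQK ?_
      push Not at hKnd
      obtain ⟨k₀, hk₀, hk₀p, hk₀0⟩ := hKnd
      obtain ⟨K₀, hK₀⟩ : ∃ K₀, K₀ = K ⊓ LinearMap.BilinForm.orthogonal (polarBilin Q) K := ⟨_, rfl⟩
      have hK₀inv : ∀ v ∈ K₀, t.1 v ∈ K₀ := by
        subst hK₀
        exact fun v hv => ⟨hK v hv.1, orth_invariant t (hsymm hK) hv.2⟩
      have hann : U ⊓ LinearMap.BilinForm.orthogonal (polarBilin Q) K₀ = ⊥ := by
        refine (hmin _ inf_le_left fun v hv => ⟨hU v hv.1, orth_invariant t (hsymm hK₀inv) hv.2⟩).resolve_right fun e => ?_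
        refine hk₀0 (hkey k₀ hk₀ fun u hu => ?_)
        have h1 : u ∈ U ⊓ LinearMap.BilinForm.orthogonal (polarBilin Q) K₀ := e.symm ▸ hu
        rw [polar_comm]
        refine LinearMap.BilinForm.mem_orthogonal_iff.1 h1.2 k₀ (hK₀ ▸ ⟨hk₀, ?_⟩)
        exact LinearMap.BilinForm.mem_orthogonal_iff.2 fun v hv => by
          change polar Q v k₀ = 0
          rw [polar_comm]; exact hk₀p v hv
      have hKK : K₀ = K := by
        refine Submodule.eq_of_le_of_finrank_le (hK₀ ▸ inf_le_left) ?_
        have h1 := Submodule.finrank_sup_add_finrank_inf_eq U (LinearMap.BilinForm.orthogonal (polarBilin Q) K₀)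
        rw [hann, finrank_bot, add_zero, LinearMap.BilinForm.finrank_orthogonal (ORefl.nondeg hQ) K₀] at h1
        have h3 := Submodule.finrank_le (U ⊔ LinearMap.BilinForm.orthogonal (polarBilin Q) K₀)
        have := Submodule.finrank_le K₀
        omega
      intro k hk k' hk'
      have h1 : k' ∈ K ⊓ LinearMap.BilinForm.orthogonal (polarBilin Q) K := hK₀ ▸ hKK.symm ▸ hk'
      exact LinearMap.BilinForm.mem_orthogonal_iff.1 h1.2 k hk
    -- a square root of minus one
    obtain ⟨c, hc⟩ : IsSquare (-1 : AdjoinRoot g) := by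
      rw [FiniteField.isSquare_neg_one_iff, hE, hUn, hq4]; norm_num
    obtain ⟨P, rfl⟩ := AdjoinRoot.mk_surjective c
    have hP : ∀ u ∈ U, aeval (SOSinger.lm t) P (aeval (SOSinger.lm t) P u) = -u := fun u hu => by
      have h1 : AdjoinRoot.mk g (P * P + 1) = 0 := by rw [map_add, map_mul, ← hc, map_one, neg_add_cancel]
      obtain ⟨d, hd⟩ := AdjoinRoot.mk_eq_zero.mp h1
      have h3 := LinearMap.congr_fun (congrArg (aeval (SOSinger.lm t)) hd) u
      rw [map_add, map_mul, map_one, mul_comm g d, map_mul, LinearMap.add_apply, Module.End.mul_apply,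
        Module.End.mul_apply, Module.End.one_apply, hgU u hu, map_zero] at h3
      exact eq_neg_of_add_eq_zero_left h3
    obtain ⟨A, hA⟩ : ∃ A, A = aeval (SOSinger.lm t) P := ⟨_, rfl⟩
    obtain ⟨B, hB⟩ : ∃ B, B = aeval (SOSinger.lm t ^ (s - 1)) P := ⟨_, rfl⟩
    have hAU : ∀ u ∈ U, A u ∈ U := fun u hu => hA ▸ aeval_mem hU P hu
    have hBK : ∀ k ∈ K, B k ∈ K := fun k hk => by
      rw [hB, show aeval (SOSinger.lm t ^ (s - 1)) P = aeval (SOSinger.lm t) (P.comp (X ^ (s - 1))) by
        rw [aeval_comp, map_pow, aeval_X]]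
      exact aeval_mem hK _ hk
    have hadj : ∀ u v, polar Q (A u) v = polar Q u (B v) := fun u v => hA ▸ hB ▸ adj ht hs0 P u v
    have hcompl : IsCompl U K := ⟨hUK, codisjoint_iff.mpr hfull⟩
    have hB2 : ∀ k ∈ K, B (B k) = -k := fun k hk => eq_neg_of_add_eq_zero_left (hkey _ (add_mem (hBK _ (hBK k hk)) hk)
      fun u hu => by rw [polar_add_right, ← hadj, ← hadj, hA, hP u hu, polar_neg_left, neg_add_cancel])
    obtain ⟨a', ha'⟩ : ∃ a', a' = LinearMap.ofIsCompl hcompl (A.comp U.subtype) (-(B.comp K.subtype)) := ⟨_, rfl⟩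
    have hval : ∀ u ∈ U, ∀ k ∈ K, a' (u + k) = A u - B k := fun u hu k hk => by
      rw [ha', map_add, show u = ((⟨u, hu⟩ : U) : V) from rfl, show k = ((⟨k, hk⟩ : K) : V) from rfl,
        LinearMap.ofIsCompl_left_apply, LinearMap.ofIsCompl_right_apply]
      simp [sub_eq_add_neg]
    have hdec : ∀ v : V, ∃ u ∈ U, ∃ k ∈ K, u + k = v := fun v =>
      Submodule.mem_sup.mp (hfull ▸ Submodule.mem_top : v ∈ U ⊔ K)
    have hsq : ∀ v, a' (a' v) = -v := fun v => by
      obtain ⟨u, hu, k, hk, rfl⟩ := hdec v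
      rw [hval u hu k hk, sub_eq_add_neg, hval _ (hAU u hu) _ (neg_mem (hBK k hk)), map_neg, sub_neg_eq_add, hB2 k hk,
        hA, hP u hu]
      abel
    have hpol : ∀ v w, polar Q (a' v) (a' w) = polar Q v w := fun v w => by
      obtain ⟨u, hu, k, hk, rfl⟩ := hdec v
      obtain ⟨u', hu', k', hk', rfl⟩ := hdec w
      rw [hval u hu k hk, hval u' hu' k' hk']
      simp only [polar_sub_left, polar_sub_right, polar_add_left, polar_add_right]
      rw [hQK _ (hBK k hk) _ (hBK k' hk'), hQK k hk k' hk',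
        show polar Q (A u) (A u') = 0 from LinearMap.BilinForm.mem_orthogonal_iff.1 (hUo ▸ hsing (hAU u' hu')) _ (hAU u hu),
        show polar Q u u' = 0 from LinearMap.BilinForm.mem_orthogonal_iff.1 (hUo ▸ hsing hu') _ hu,
        hadj, hB2 k' hk', polar_comm Q (B k), hadj, hB2 k hk, polar_neg_right, polar_neg_right, polar_comm Q k u']
      ring
    obtain ⟨y, hy⟩ := exists_iso h2 hpol fun v w e => by
      have := congrArg a' e; rw [hsq, hsq] at this; exact neg_injective this
    have hyy : y * y = negI Q := Subtype.ext (LinearEquiv.ext fun v => by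
      change y.1 (y.1 v) = -v; rw [hy, hy, hsq])
    refine ⟨y, ?_, fun e => ?_, fun e => ?_, Or.inr hyy⟩
    · refine Subtype.ext (LinearEquiv.ext fun v => ?_)
      obtain ⟨u, hu, k, hk, rfl⟩ := hdec v
      change y.1 (t.1 (u + k)) = t.1 (y.1 (u + k))
      rw [hy, hy, map_add, hval _ (hU u hu) _ (hK k hk), hval u hu k hk, map_sub]
      have h1 : Commute (SOSinger.lm t) A := hA ▸ Algebra.commute_of_mem_adjoin_singleton_of_commute
        (aeval_mem_adjoin_singleton F _) (Commute.refl _)
      have h3 : Commute (SOSinger.lm t) B := by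
        rw [hB]
        exact (Algebra.commute_of_mem_adjoin_singleton_of_commute (aeval_mem_adjoin_singleton F (SOSinger.lm t ^ (s - 1)))
          (Commute.self_pow _ _))
      exact congrArg₂ (· - ·) (LinearMap.congr_fun h1.eq u).symm (LinearMap.congr_fun h3.eq k).symm
    all_goals
      obtain ⟨v, hv⟩ := exists_ne (0 : V)
      have h1 := congrArg (fun g : ↥(Iso Q) => g.1 v) hyy
      rw [e] at h1
      first
        | exact hv (neg_fixed_free h2 (show -v = v from h1.symm))
        | exact hv (neg_fixed_free h2 (show -v = v by simpa [negI_apply] using h1.symm))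
  · -- the anisotropic case
    obtain ⟨δ, hδ⟩ : ∃ δ, δ = SOSinger.lm t - SOSinger.lm t ^ (s - 1) := ⟨_, rfl⟩
    have hinv : SOSinger.lm t ^ (Fintype.card F ^ n) = SOSinger.lm t ^ (s - 1) := by
      rw [pow_eq_pow_mod _ (lm_pow_one ht), pow_eq_pow_mod (s - 1) (lm_pow_one ht)]
      congr 1
      refine (ZMod.natCast_eq_natCast_iff' _ _ s).mp ?_
      rw [Nat.cast_pow, hqn, Nat.cast_sub hs0, ZMod.natCast_self, Nat.cast_one, zero_sub]
    have hδq : δ ^ (Fintype.card F ^ n) = -δ := by
      rw [hδ, hcardp, sub_pow_char_pow_of_commute (p := p) (h := Commute.self_pow _ _), ← hcardp, ← pow_mul, mul_comm,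
        pow_mul, hinv, ← pow_mul, show (s - 1) * (s - 1) = s * (s - 2) + 1 by
          have : 2 ≤ s := hs.two_le
          obtain ⟨w, rfl⟩ : ∃ w, s = w + 2 := ⟨s - 2, by omega⟩
          rw [Nat.add_sub_cancel, show w + 2 - 1 = w + 1 by omega]; ring,
        pow_succ, pow_mul, lm_pow_one ht, one_pow, one_mul, neg_sub]
    have hδinj : ∀ v, δ v = 0 → v = 0 := fun v hv => by
      rw [hδ, LinearMap.sub_apply, sub_eq_zero, ← symm_eq ht hs0] at hv
      have h1 : (SOSinger.lm t ^ 2) v = v := by
        rw [_root_.sq, Module.End.mul_apply, show SOSinger.lm t v = t.1.symm v from hv]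
        exact t.1.apply_symm_apply v
      exact hfix v (Small.SpPrimeGraph.apply_eq_of_coprime (a := 2) (b := s)
        (Nat.coprime_two_left.mpr (hs.odd_of_ne_two hs2)) h1 (by rw [lm_pow_one ht]; rfl))
    obtain ⟨m, hm⟩ : ∃ m, m = (Fintype.card F ^ n - 1) / 2 := ⟨_, rfl⟩
    have hQm : 2 * m + 1 = Fintype.card F ^ n := by omega
    have hmodd : Odd m := by rw [Nat.odd_iff]; omega
    have hsq : ∀ v, (δ ^ m) ((δ ^ m) v) = -v := fun v => by
      refine eq_neg_of_add_eq_zero_left (hδinj _ ?_)
      rw [map_add, ← Module.End.mul_apply (δ ^ m) (δ ^ m), ← pow_add, ← Module.End.mul_apply, ← pow_succ',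
        show m + m + 1 = Fintype.card F ^ n by omega, hδq, LinearMap.neg_apply, neg_add_cancel]
    have hskew : ∀ u v, polar Q (δ u) v = -polar Q u (δ v) := fun u v => by
      rw [hδ]
      simp only [LinearMap.sub_apply, polar_sub_left, polar_sub_right]
      have e1 : ∀ a b, polar Q (SOSinger.lm t a) b = polar Q a ((SOSinger.lm t ^ (s - 1)) b) := fun a b => by
        have := adj ht hs0 X a b
        rwa [aeval_X, aeval_X] at this
      rw [e1, polar_comm Q ((SOSinger.lm t ^ (s - 1)) u) v, ← e1 v u, polar_comm Q (SOSinger.lm t v) u]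
      ring
    have hskewk : ∀ (k : ℕ) u v, polar Q ((δ ^ k) u) v = (-1) ^ k * polar Q u ((δ ^ k) v) := by
      intro k
      induction k with
      | zero => simp
      | succ k ih =>
        intro u v
        rw [pow_succ, Module.End.mul_apply, ih, hskew, ← Module.End.mul_apply, ← pow_succ', pow_succ (-1 : F),
          pow_succ]
        ring
    obtain ⟨y, hy⟩ := exists_iso (a := δ ^ m) h2 (fun u v => by
      rw [hskewk, hsq, hmodd.neg_one_pow, polar_neg_right]; ring) fun v w e => by
      have := congrArg (δ ^ m) e; rw [hsq, hsq] at this; exact neg_injective this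
    have hyy : y * y = negI Q := Subtype.ext (LinearEquiv.ext fun v => by
      change y.1 (y.1 v) = -v; rw [hy, hy, hsq])
    refine ⟨y, ?_, fun e => ?_, fun e => ?_, Or.inr hyy⟩
    · refine Subtype.ext (LinearEquiv.ext fun v => ?_)
      change y.1 (t.1 v) = t.1 (y.1 v)
      rw [hy, hy]
      have h1 : Commute (SOSinger.lm t) (δ ^ m) :=
        (hδ ▸ (Commute.refl (SOSinger.lm t)).sub_right (Commute.self_pow _ _) : Commute (SOSinger.lm t) δ).pow_right m
      exact (LinearMap.congr_fun h1.eq v).symm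
    all_goals
      obtain ⟨v, hv⟩ := exists_ne (0 : V)
      have h1 := congrArg (fun g : ↥(Iso Q) => g.1 v) hyy
      rw [e] at h1
      first
        | exact hv (neg_fixed_free h2 (show -v = v from h1.symm))
        | exact hv (neg_fixed_free h2 (show -v = v by simpa [negI_apply] using h1.symm))

end Cfsg.Agent.Classical.BCGraph
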