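import Cfsg.Agent.Lib.Classical.SL2FourSylow
import Cfsg.Agent.Lib.Classical.KleinNormalizer

/-!
# The subgroups `A₄` and `S₄` of `PSL₂(q)`
-/

set_option autoImplicit false
set_option linter.unusedSectionVars false

namespace Cfsg.Agent.Classical.SL2Four

open Matrix Cfsg.Agent.Small Cfsg.Agent.Small.SL2C

variable {F : Type*} [Field F] [Fintype F]

local notation "M2" => Matrix (Fin 2) (Fin 2) F
local notation "SL2" => Matrix.SpecialLinearGroup (Fin 2) F
local notation "P2" => Matrix.ProjectiveSpecialLinearGroup (Fin 2) F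

theorem anti_inverts {A j : SL2} (h0 : A.1.trace = 0) (hj : Anti A j) :
    j * A = A⁻¹ * j :=
  Subtype.ext (by
    rw [val_mul', val_mul', inv_of_trace_zero h0, Matrix.neg_mul,
      show A.1 * j.1 = -(j.1 * A.1) from hj, neg_neg])

theorem klein_self_centralizing (h2 : (2 : F) ≠ 0) {V : Subgroup P2} (hV : IsKleinFour V) :
    Subgroup.centralizer (V : Set P2) ≤ V := by
  obtain ⟨⟨x, y⟩, hxy, hxV, hyV⟩ := exists_pair V
  obtain ⟨A, rfl⟩ := PSL2.pr_surjective x
  obtain ⟨j, rfl⟩ := PSL2.pr_surjective y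
  obtain ⟨hA, hj⟩ : A.1.trace = 0 ∧ Anti A j := (isPair_pr_iff h2 (A, j)).mp hxy
  intro z hz
  obtain ⟨Z, rfl⟩ := PSL2.pr_surjective z
  have hcA : Commute (PSL2.pr A) (PSL2.pr Z) := Subgroup.mem_centralizer_iff.mp hz _ hxV
  have hcj : Commute (PSL2.pr j) (PSL2.pr Z) := Subgroup.mem_centralizer_iff.mp hz _ hyV
  have htor : ∀ t ∈ tor A, Commute (PSL2.pr j) (PSL2.pr t) → PSL2.pr t ∈ V := by
    intro t ht hc
    have hinv := inverts (not_isSc_of_trace_zero h2 hA) (anti_inverts hA hj) ht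
    have he : PSL2.pr t⁻¹ = PSL2.pr t := by
      refine mul_right_cancel (b := PSL2.pr j) ?_
      rw [← map_mul, ← hinv, map_mul]
      exact hc.eq
    rw [map_inv] at he
    have h1 : PSL2.pr t * PSL2.pr t = 1 := by
      nth_rewrite 1 [← he]
      exact inv_mul_cancel _
    rcases (pr_self_mul_eq_one_iff h2).mp h1 with h | h
    · rw [pr_eq_one_iff.mpr h]; exact one_mem V
    · rcases eq_or_inv_of_mem_tor h2 hA ht h with rfl | rfl
      · exact hxV
      · rw [pr_inv_of_trace_zero hA]; exact hxV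
  have hc' := hcA
  rw [Commute, SemiconjBy, ← map_mul, ← map_mul, PSL2.pr_eq_iff] at hc'
  obtain ⟨ε, hε, h⟩ := hc'
  rw [val_mul', val_mul'] at h
  rcases mul_self_eq_one_iff.mp hε with e | e
  · rw [e, one_smul] at h
    exact htor Z (mem_tor.mpr h.symm) hcj
  · rw [e, neg_one_smul] at h
    have ht := (anti_iff hj).mp (show Anti A Z from h)
    rw [show Z = j * (j⁻¹ * Z) by rw [mul_inv_cancel_left], map_mul]
    refine mul_mem hyV (htor _ ht ?_)
    rw [map_mul, map_inv]
    exact ((Commute.refl _).inv_right).mul_right hcj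

theorem three_dvd_normalizer (h2 : (2 : F) ≠ 0) {A j : SL2} (hA : A.1.trace = 0)
    (hj : Anti A j) {V : Subgroup P2} (hV : IsKleinFour V) (hAV : PSL2.pr A ∈ V)
    (hjV : PSL2.pr j ∈ V) : 3 ∣ Nat.card (Subgroup.normalizer (V : Set P2)) := by
  have : Fact (Nat.Prime 3) := ⟨Nat.prime_three⟩
  obtain ⟨w, hw, hwx, hws⟩ := exists_triality h2 (sq_of_trace_zero hA)
    (sq_of_trace_zero (trace_of_anti h2 hA hj)) (anti_inverts hA hj)
  have hn : PSL2.pr w ≠ 1 := by
    rw [Ne, pr_eq_one_iff]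
    intro h
    have h' : w ^ 2 = 1 := Subtype.ext (by
      rcases isSc_SL h with e | e <;> simp [pow_two, val_mul', e])
    have := orderOf_dvd_of_pow_eq_one h'
    rw [hw] at this
    omega
  have ho : orderOf (PSL2.pr w) = 3 := orderOf_eq_prime (by
    rw [← map_pow, ← hw, pow_orderOf_eq_one, map_one]) hn
  have hmem : PSL2.pr w ∈ Subgroup.normalizer (V : Set P2) := by
    rw [Subgroup.mem_normalizer_iff_map_conj_eq]
    have := klein_map V (PSL2.pr w)
    have hp : IsPair (PSL2.pr (A * j), PSL2.pr A) := by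
      have hpair : IsPair (PSL2.pr A, PSL2.pr j) := (isPair_pr_iff h2 (A, j)).mpr ⟨hA, hj⟩
      obtain ⟨-, -, h1, hne, -, -, -, -⟩ := pair_facts hpair
      rw [map_mul]
      exact ⟨orderOf_of_klein (mul_mem hAV hjV) h1, hpair.1, commute_of_klein (mul_mem hAV hjV) hAV, hne⟩
    exact (eq_pairGroup (V := V.map (MulAut.conj (PSL2.pr w)).toMonoidHom) hp
      ⟨_, hAV, by rw [MulEquiv.coe_toMonoidHom, MulAut.conj_apply, ← map_inv, ← map_mul, ← map_mul, hwx]⟩
      ⟨_, hjV, by rw [MulEquiv.coe_toMonoidHom, MulAut.conj_apply, ← map_inv, ← map_mul, ← map_mul, hws]⟩).trans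
      (eq_pairGroup (V := V) hp (by rw [map_mul]; exact mul_mem hAV hjV) hAV).symm
  rw [← ho, ← Subgroup.orderOf_mk (PSL2.pr w) hmem]
  exact orderOf_dvd_natCard _

section normal

variable {G : Type*} [Group G] (V : Subgroup G)

theorem klein_subgroupOf [hV : IsKleinFour V] {H : Subgroup G} (hle : V ≤ H) :
    IsKleinFour (V.subgroupOf H) :=
  ⟨(Nat.card_congr (Subgroup.subgroupOfEquivOfLe hle).toEquiv).trans IsKleinFour.card_four,
    (Monoid.exponent_eq_of_mulEquiv (Subgroup.subgroupOfEquivOfLe hle)).trans IsKleinFour.exponent_two⟩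

theorem centralizer_subgroupOf_le {H : Subgroup G} (hle : V ≤ H)
    (hC : Subgroup.centralizer (V : Set G) ≤ V) :
    Subgroup.centralizer ((V.subgroupOf H : Subgroup H) : Set H) ≤ V.subgroupOf H := fun x hx =>
  hC (Subgroup.mem_centralizer_iff.mpr fun v hv =>
    congrArg Subtype.val (Subgroup.mem_centralizer_iff.mp hx ⟨v, hle hv⟩ hv))

end normal

theorem exists_normalizer_odd (h2 : (2 : F) ≠ 0) :
    ∃ H : Subgroup P2, (Nat.card H = 12 ∧ Nonempty (H ≃* alternatingGroup (Fin 4)) ∧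
        (Fintype.card F % 8 = 3 ∨ Fintype.card F % 8 = 5)) ∨
      (Nat.card H = 24 ∧ Nonempty (H ≃* Equiv.Perm (Fin 4)) ∧
        (Fintype.card F % 8 = 1 ∨ Fintype.card F % 8 = 7)) := by
  obtain ⟨A, hA⟩ := exists_trace_zero (F := F) h2
  obtain ⟨j, hj⟩ := exists_anti h2 hA
  have hp : IsPair (PSL2.pr A, PSL2.pr j) := (isPair_pr_iff h2 (A, j)).mpr ⟨hA, hj⟩
  have hV := pairGroup_isKleinFour hp
  have hAV : PSL2.pr A ∈ pairGroup hp := Or.inr (Or.inl rfl)
  have hjV : PSL2.pr j ∈ pairGroup hp := Or.inr (Or.inr (Or.inl rfl))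
  set V := pairGroup hp with hVdef
  set N := Subgroup.normalizer (V : Set P2) with hN
  have hle : V ≤ N := Subgroup.le_normalizer
  have hKN := klein_subgroupOf V hle
  have : (V.subgroupOf N).Normal := Subgroup.normal_in_normalizer
  have hC := centralizer_subgroupOf_le V hle (klein_self_centralizing h2 hV)
  have h24 := card_dvd_of_klein_normal (V.subgroupOf N) hC
  have h3 := three_dvd_normalizer h2 hA hj hV hAV hjV
  have h4 : 4 ∣ Nat.card N := by
    rw [← (IsKleinFour.card_four : Nat.card V = 4)]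
    exact Subgroup.card_dvd_of_le hle
  have h12 : 12 ∣ Nat.card N := Nat.Coprime.mul_dvd_of_dvd_of_dvd (by decide : Nat.Coprime 3 4) h3 h4
  have hodd := card_odd_of_two_ne_zero h2
  refine ⟨N, ?_⟩
  rcases (show (Fintype.card F % 8 = 3 ∨ Fintype.card F % 8 = 5) ∨
      (Fintype.card F % 8 = 1 ∨ Fintype.card F % 8 = 7) by omega) with h8 | h8
  · have hc : Nat.card N = 12 := by
      have : Fact (Nat.Prime 2) := ⟨Nat.prime_two⟩
      have hn8 : ¬ 8 ∣ Nat.card N := by
        intro h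
        obtain ⟨S⟩ : Nonempty (Sylow 2 P2) := inferInstance
        have hS := sylow_psl_klein h2 h8 S
        have h' : 2 ^ 3 ∣ Nat.card (S : Subgroup P2) :=
          S.pow_dvd_card_of_pow_dvd_card (h.trans (Subgroup.card_subgroup_dvd_card N))
        rw [IsKleinFour.card_four] at h'
        omega
      have hle' := Nat.le_of_dvd (by norm_num) h24
      obtain ⟨k, hk⟩ := h12
      have : k = 1 ∨ k = 2 := by
        have := Nat.card_pos (α := N)
        omega
      rcases this with rfl | rfl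
      · exact hk
      · exact absurd (by rw [hk]; norm_num) hn8
    exact Or.inl ⟨hc, equiv_alt_four (V.subgroupOf N) hC hc, h8⟩
  · have hc : Nat.card N = 24 := by
      refine Nat.dvd_antisymm h24 ?_
      exact Nat.Coprime.mul_dvd_of_dvd_of_dvd (by decide : Nat.Coprime 3 8) h3
        (eight_dvd_normalizer h2 h8 hA hj hV hAV hjV)
    exact Or.inr ⟨hc, equiv_symm_four (V.subgroupOf N) hC hc, h8⟩

theorem exists_alt_four_odd (h2 : (2 : F) ≠ 0) :
    ∃ H : Subgroup P2, Nonempty (H ≃* alternatingGroup (Fin 4)) := by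
  obtain ⟨H, ⟨-, h, -⟩ | ⟨-, ⟨e⟩, -⟩⟩ := exists_normalizer_odd (F := F) h2
  · exact ⟨H, h⟩
  · exact ⟨((alternatingGroup (Fin 4)).map e.symm.toMonoidHom).map H.subtype,
      ⟨((((alternatingGroup (Fin 4)).map e.symm.toMonoidHom).equivMapOfInjective H.subtype
        H.subtype_injective).symm).trans
        (((alternatingGroup (Fin 4)).equivMapOfInjective e.symm.toMonoidHom e.symm.injective).symm)⟩⟩

theorem exists_alt_four_even (h2 : (2 : F) = 0) (h3 : 3 ∣ Fintype.card F - 1) :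
    ∃ H : Subgroup P2, Nonempty (H ≃* alternatingGroup (Fin 4)) := by
  classical
  have : Fact (Nat.Prime 3) := ⟨Nat.prime_three⟩
  obtain ⟨u, hu⟩ : ∃ u : Fˣ, orderOf u = 3 := exists_prime_orderOf_dvd_card 3 (by
    rwa [Fintype.card_units])
  have hu3 : (u : F) ^ 3 = 1 := by
    rw [← Units.val_pow_eq_pow_val, ← hu, pow_orderOf_eq_one, Units.val_one]
  have hu1 : (u : F) ≠ 1 := fun h => by
    rw [Units.val_eq_one.mp h, orderOf_one] at hu; omega
  have hsq : ∀ x : F, PSL2.pr (PSL2.uS x) * PSL2.pr (PSL2.uS x) = 1 := by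
    intro x
    rw [← map_mul, ← PSL2.uS_add, show x + x = 0 by linear_combination x * h2, pr_eq_one_iff]
    exact ⟨1, by ext i j; fin_cases i <;> fin_cases j <;> simp⟩
  have h1 : PSL2.pr (PSL2.uS (0 : F)) = 1 := by
    rw [pr_eq_one_iff]; exact ⟨1, by ext i j; fin_cases i <;> fin_cases j <;> simp⟩
  have hne : ∀ x : F, x ≠ 0 → PSL2.pr (PSL2.uS x) ≠ 1 := fun x hx h =>
    hx (PSL2.pr_uS_inj (h.trans h1.symm))
  have hord : ∀ x : F, x ≠ 0 → orderOf (PSL2.pr (PSL2.uS x)) = 2 := fun x hx =>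
    orderOf_eq_prime (by rw [pow_two, hsq x]) (hne x hx)
  have hp : IsPair (PSL2.pr (PSL2.uS (1 : F)), PSL2.pr (PSL2.uS (u : F))) := by
    refine ⟨hord 1 one_ne_zero, hord _ u.ne_zero, ?_, fun h => hu1 (PSL2.pr_uS_inj h).symm⟩
    rw [Commute, SemiconjBy, ← map_mul, ← map_mul, ← PSL2.uS_add, ← PSL2.uS_add, add_comm]
  have hV := pairGroup_isKleinFour hp
  set V := pairGroup hp with hVdef
  set h := PSL2.pr (PSL2.hS u) with hh
  have hconj : ∀ x : F, h * PSL2.pr (PSL2.uS x) * h⁻¹ = PSL2.pr (PSL2.uS ((u : F) ^ 2 * x)) := by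
    intro x
    rw [hh, ← map_mul, PSL2.hS_uS, map_mul, mul_inv_cancel_right]
  have hh3 : h ^ 3 = 1 := by
    rw [hh, ← map_pow, pr_eq_one_iff]
    refine ⟨1, ?_⟩
    rw [Matrix.SpecialLinearGroup.coe_pow, one_smul]
    simp [pow_succ, Matrix.one_fin_two]
    constructor
    · linear_combination hu3
    · rw [← mul_inv, ← mul_inv, inv_eq_one]; linear_combination hu3
  have hh1 : h ≠ 1 := fun e => hu1 (by
    have := hconj 1
    rw [e, one_mul, inv_one, mul_one, mul_one] at this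
    have e2 := PSL2.pr_uS_inj this
    calc (u : F) = (u : F) * (u : F) ^ 2 := by rw [← e2, mul_one]
      _ = 1 := by linear_combination hu3)
  have hh' : orderOf h = 3 := orderOf_eq_prime hh3 hh1
  have hsum : (1 : F) + (u : F) = (u : F) ^ 2 := by
    have : ((u : F) - 1) * ((u : F) ^ 2 + (u : F) + 1) = 0 := by linear_combination hu3
    linear_combination (mul_eq_zero.mp this).resolve_left (sub_ne_zero.mpr hu1) - ((u : F) ^ 2) * h2
  have hhN : h ∈ Subgroup.normalizer (V : Set P2) := by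
    rw [Subgroup.mem_normalizer_iff_map_conj_eq]
    have := klein_map V h
    refine eq_pairGroup (V := V.map (MulAut.conj h).toMonoidHom) hp ?_ ?_
    · refine ⟨PSL2.pr (PSL2.uS (u : F)), Or.inr (Or.inr (Or.inl rfl)), ?_⟩
      rw [MulEquiv.coe_toMonoidHom, MulAut.conj_apply, hconj, ← pow_succ, hu3]
    · refine ⟨PSL2.pr (PSL2.uS (1 : F)) * PSL2.pr (PSL2.uS (u : F)),
        Or.inr (Or.inr (Or.inr rfl)), ?_⟩
      rw [MulEquiv.coe_toMonoidHom, MulAut.conj_apply, ← map_mul, ← PSL2.uS_add, hconj, hsum]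
      congr 2
      linear_combination (u : F) * hu3
  set N := V ⊔ Subgroup.zpowers h with hN
  have hNle : N ≤ Subgroup.normalizer (V : Set P2) :=
    sup_le Subgroup.le_normalizer (Subgroup.zpowers_le.mpr hhN)
  have hle : V ≤ N := le_sup_left
  have hmem : ∀ g ∈ N, ∃ v ∈ V, ∃ m : ℤ, g = v * h ^ m := by
    intro g hg
    rw [hN, ← SetLike.mem_coe,
      Subgroup.coe_mul_of_right_le_normalizer_left V (Subgroup.zpowers h)
        (Subgroup.zpowers_le.mpr hhN), Set.mem_mul] at hg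
    obtain ⟨v, hv, w, ⟨m, rfl⟩, rfl⟩ := hg
    exact ⟨v, hv, m, rfl⟩
  have hC : Subgroup.centralizer ((V.subgroupOf N : Subgroup N) : Set N) ≤ V.subgroupOf N := by
    intro g hg
    obtain ⟨v, hv, m, hgm⟩ := hmem g g.2
    have hx1 : PSL2.pr (PSL2.uS (1 : F)) ∈ V := Or.inr (Or.inl rfl)
    have hc : Commute (PSL2.pr (PSL2.uS (1 : F))) (g : P2) :=
      congrArg Subtype.val (Subgroup.mem_centralizer_iff.mp hg ⟨_, hle hx1⟩ hx1)
    have hc2 : Commute (PSL2.pr (PSL2.uS (1 : F))) (h ^ m) := by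
      rw [show h ^ m = v⁻¹ * (g : P2) by rw [hgm, inv_mul_cancel_left]]
      exact (commute_of_klein hx1 (inv_mem hv)).mul_right hc
    have hnc : ¬ Commute (PSL2.pr (PSL2.uS (1 : F))) h := fun hcm => by
      have := hconj 1
      rw [hcm.symm.eq, mul_inv_cancel_right, mul_one] at this
      have e2 := PSL2.pr_uS_inj this
      exact hu1 (by linear_combination (u : F) * e2 + hu3)
    have hm3 : (3 : ℤ) ∣ m := by
      by_contra hm
      refine hnc ?_
      have e : h ^ m = h ^ (m % 3) := by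
        conv_lhs => rw [← Int.emod_add_mul_ediv m 3]
        rw [_root_.zpow_add, _root_.zpow_mul, show (h ^ (3 : ℤ)) = 1 by exact_mod_cast hh3,
          _root_.one_zpow, mul_one]
      rw [e] at hc2
      rcases (show m % 3 = 1 ∨ m % 3 = 2 by omega) with e' | e' <;> rw [e'] at hc2
      · rwa [_root_.zpow_one] at hc2
      · have h4 := hc2.zpow_right 2
        rw [← _root_.zpow_mul, show (2 : ℤ) * 2 = 3 + 1 from rfl, _root_.zpow_add, _root_.zpow_one,
          show (h ^ (3 : ℤ)) = 1 by exact_mod_cast hh3, one_mul] at h4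
        exact h4
    obtain ⟨k, rfl⟩ := hm3
    show (g : P2) ∈ V
    rw [hgm, _root_.zpow_mul, show (h ^ (3 : ℤ)) = 1 by exact_mod_cast hh3, _root_.one_zpow, mul_one]
    exact hv
  have hcard : Nat.card N = 12 := by
    refine Nat.dvd_antisymm ?_ ?_
    · have hsur : Function.Surjective (fun p : V × Subgroup.zpowers h =>
          (⟨p.1 * p.2, mul_mem (hle p.1.2) (Subgroup.mem_sup_right p.2.2)⟩ : N)) := fun g => by
        obtain ⟨v, hv, m, hgm⟩ := hmem g g.2
        exact ⟨(⟨v, hv⟩, ⟨h ^ m, Subgroup.zpow_mem_zpowers h m⟩), Subtype.ext hgm.symm⟩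
      have hle12 := Nat.card_le_card_of_surjective _ hsur
      rw [Nat.card_prod, (IsKleinFour.card_four : Nat.card V = 4), Nat.card_zpowers, hh'] at hle12
      have h4 : 4 ∣ Nat.card N := by
        rw [← (IsKleinFour.card_four : Nat.card V = 4)]; exact Subgroup.card_dvd_of_le hle
      have h3' : 3 ∣ Nat.card N := by
        rw [← hh', ← Nat.card_zpowers]; exact Subgroup.card_dvd_of_le le_sup_right
      have := Nat.le_of_dvd Nat.card_pos
        (Nat.Coprime.mul_dvd_of_dvd_of_dvd (by decide : Nat.Coprime 4 3) h4 h3')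
      exact dvd_of_eq (by omega)
    · refine Nat.Coprime.mul_dvd_of_dvd_of_dvd (by decide : Nat.Coprime 4 3) ?_ ?_
      · rw [← (IsKleinFour.card_four : Nat.card V = 4)]; exact Subgroup.card_dvd_of_le hle
      · rw [← hh', ← Nat.card_zpowers]; exact Subgroup.card_dvd_of_le le_sup_right
  have := klein_subgroupOf V hle
  have : (V.subgroupOf N).Normal := Subgroup.normal_subgroupOf_of_le_normalizer hNle
  exact ⟨N, equiv_alt_four (V.subgroupOf N) hC hcard⟩

theorem no_alt_four_even (h2 : (2 : F) = 0) (h3 : ¬ 3 ∣ Fintype.card F - 1) (H : Subgroup P2)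
    (e : H ≃* alternatingGroup (Fin 4)) : False := by
  have : DecidableEq F := _root_.Classical.decEq F
  obtain ⟨a, b, r, ha, hb, hr, hab, hcomm, hrab⟩ :
      ∃ a b r : alternatingGroup (Fin 4), a ^ 2 = 1 ∧ b ^ 2 = 1 ∧ r ^ 3 = 1 ∧ a ≠ b ∧ a * b = b * a ∧
        (a ≠ 1 ∧ r * a = b * r) :=
    ⟨⟨Equiv.swap 0 1 * Equiv.swap 2 3, Equiv.Perm.mem_alternatingGroup.mpr (by decide)⟩, ⟨Equiv.swap 0 3 * Equiv.swap 1 2, Equiv.Perm.mem_alternatingGroup.mpr (by decide)⟩,
      ⟨Equiv.swap 0 1 * Equiv.swap 1 2, Equiv.Perm.mem_alternatingGroup.mpr (by decide)⟩, by decide⟩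
  set A : P2 := (e.symm a : P2) with hA
  set B : P2 := (e.symm b : P2) with hB
  set R : P2 := (e.symm r : P2) with hR
  have tr : ∀ x y : alternatingGroup (Fin 4), ((e.symm (x * y) : H) : P2) = (e.symm x : P2) * (e.symm y : P2) :=
    fun x y => by rw [map_mul]; rfl
  have hinj : ∀ x y : alternatingGroup (Fin 4), (e.symm x : P2) = (e.symm y : P2) → x = y :=
    fun x y h => e.symm.injective (Subtype.ext h)
  have h1 : ((e.symm 1 : H) : P2) = 1 := by rw [map_one]; rfl
  have hA2 : A * A = 1 := by rw [hA, ← tr, ← pow_two, ha, h1]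
  have hA1 : A ≠ 1 := fun h => hrab.1 (hinj _ _ (h.trans h1.symm))
  obtain ⟨g, hg⟩ := PSL2.pr_surjective A
  have hgns : ¬ IsSc g.1 := fun h => hA1 (by rw [← hg, pr_eq_one_iff]; exact h)
  have hgt : g.1.trace = 0 := by
    rw [← hg, ← map_mul, pr_eq_one_iff, val_mul', sq_eq] at hA2
    obtain ⟨c, hc⟩ := hA2
    by_contra ht
    refine hgns ⟨g.1.trace⁻¹ * (c + 1), ?_⟩
    rw [mul_smul, add_smul, ← hc, one_smul, sub_add_cancel, smul_smul, inv_mul_cancel₀ ht, one_smul]
  obtain ⟨x, hx, hcj⟩ := exists_pr_uS hgns (by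
    rw [hgt, mul_zero]; linear_combination (-2 : F) * h2)
  rw [hg] at hcj
  obtain ⟨c, hc⟩ := isConj_iff.mp hcj
  have hBc : Commute (c * B * c⁻¹) (PSL2.pr (PSL2.uS x)) := by
    rw [← hc]
    have : B * A = A * B := by rw [hA, hB, ← tr, ← tr, hcomm]
    show c * B * c⁻¹ * (c * A * c⁻¹) = c * A * c⁻¹ * (c * B * c⁻¹)
    calc c * B * c⁻¹ * (c * A * c⁻¹) = c * (B * A) * c⁻¹ := by group
      _ = c * (A * B) * c⁻¹ := by rw [this]
      _ = _ := by group
  obtain ⟨y, hy⟩ := (PSL2.mem_U _).mp (PSL2.mem_U_of_commute hx hBc)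
  obtain ⟨M, hM⟩ := PSL2.pr_surjective (c * R * c⁻¹)
  have hconj : PSL2.pr M * PSL2.pr (PSL2.uS x) = PSL2.pr (PSL2.uS y) * PSL2.pr M := by
    rw [hy, hM, ← hc]
    have : R * A = B * R := by rw [hR, hA, hB, ← tr, ← tr, hrab.2]
    calc c * R * c⁻¹ * (c * A * c⁻¹) = c * (R * A) * c⁻¹ := by group
      _ = c * (B * R) * c⁻¹ := by rw [this]
      _ = _ := by group
  have htri := PSL2.triangular_of_conj hx hconj
  have hM3 : IsSc (M ^ 3).1 := by
    rw [← pr_eq_one_iff, map_pow, hM, conj_pow, conj_eq_one_iff, hR]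
    have : ((e.symm r : H) : P2) ^ 3 = ((e.symm (r ^ 3) : H) : P2) := by
      rw [map_pow]; rfl
    rw [this, hr, h1]
  obtain ⟨d, hd⟩ := hM3
  have hdet := PSL2.det_two M
  rw [htri, mul_zero, sub_zero] at hdet
  have h00 : M.1 0 0 ^ 3 = d := by
    have := congrFun (congrFun hd 0) 0
    rw [Matrix.SpecialLinearGroup.coe_pow] at this
    simp [pow_succ, Matrix.mul_apply, Fin.sum_univ_two, htri] at this
    linear_combination this
  have h11 : M.1 1 1 ^ 3 = d := by
    have := congrFun (congrFun hd 1) 1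
    rw [Matrix.SpecialLinearGroup.coe_pow] at this
    simp [pow_succ, Matrix.mul_apply, Fin.sum_univ_two, htri] at this
    linear_combination this
  have hd2 : d = 1 := by
    have e : d * d = 1 := by
      calc d * d = (M.1 0 0 * M.1 1 1) ^ 3 := by rw [mul_pow, h00, h11]
        _ = 1 := by rw [hdet, one_pow]
    rcases mul_self_eq_one_iff.mp e with h | h
    · exact h
    · linear_combination h - h2
  rw [hd2] at h00
  have hα : M.1 0 0 = 1 := by
    by_contra hne
    have hne0 : M.1 0 0 ≠ 0 := fun h0 => by simp [h0] at h00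
    have : Fact (Nat.Prime 3) := ⟨Nat.prime_three⟩
    have ho : orderOf (Units.mk0 _ hne0) = 3 := orderOf_eq_prime
      (Units.ext (by simpa using h00)) (fun h => hne (by simpa using congrArg Units.val h))
    refine h3 ?_
    rw [← ho, ← Fintype.card_units]
    exact orderOf_dvd_card
  have hxy : PSL2.pr (PSL2.uS y) = PSL2.pr (PSL2.uS x) := by
    have h := PSL2.triangular_mul_uS M htri x
    rw [hα, one_pow, one_mul] at h
    have h' := congrArg (PSL2.pr (F := F)) h
    rw [map_mul, map_mul, hconj] at h'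
    exact mul_right_cancel h'
  rw [hy, ← hc] at hxy
  exact hab (hinj _ _ (mul_left_cancel (mul_right_cancel hxy)).symm)

end Cfsg.Agent.Classical.SL2Four
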