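/-
Finite simple groups with transitive commuting: the involution centralizers and the doubly transitive action.
-/
import Cfsg.Agent.Lib.Local.Basics
import Cfsg.Agent.S0885

set_option autoImplicit false
set_option linter.style.haveILetI false
set_option linter.unusedSectionVars false

open Cfsg

namespace Cfsg.Agent.Classical.CT

variable {G : Type*} [Group G]

/-- Commuting is transitive on the non-identity elements. -/
def IsCT (G : Type*) [Group G] : Prop :=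
  ∀ a b c : G, a ≠ 1 → b ≠ 1 → c ≠ 1 → Commute a b → Commute b c → Commute a c

/-- An involution centralizer `A` in a non-abelian simple group with transitive commuting. -/
structure Ctx (A : Subgroup G) : Prop where
  ct : IsCT G
  simple : ∀ N : Subgroup G, N.Normal → N = ⊥ ∨ N = ⊤
  nonab : ∃ a b : G, a * b ≠ b * a
  cent : ∃ t : G, t * t = 1 ∧ t ≠ 1 ∧ ∀ x, x ∈ A ↔ x * t = t * x

/-- The involutions of a subgroup. -/
abbrev Inv (A : Subgroup G) : Type _ := {s : G // s ∈ A ∧ s * s = 1 ∧ s ≠ 1}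

/-- `N(A)`. -/
def Hn (A : Subgroup G) : Subgroup G := Subgroup.normalizer (A : Set G)

/-- `N(A) ∩ N(A)^g`. -/
def Dg (A : Subgroup G) (g : G) : Subgroup G := Hn A ⊓ (Hn A).map (MulAut.conj g).toMonoidHom

theorem mem_Dg {A : Subgroup G} {g x : G} : x ∈ Dg A g ↔ x ∈ Hn A ∧ g⁻¹ * x * g ∈ Hn A := by
  rw [Dg, Subgroup.mem_inf, Local.mem_conj_map]

theorem A_le {A : Subgroup G} : A ≤ Hn A := Subgroup.le_normalizer

theorem conj_A {A : Subgroup G} {h x : G} (hh : h ∈ Hn A) (hx : x ∈ A) : h * x * h⁻¹ ∈ A :=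
  (Subgroup.mem_normalizer_iff.1 hh x).1 hx

variable [Finite G] {A : Subgroup G} (hC : Ctx A)

include hC

theorem comm {x y : G} (hx : x ∈ A) (hy : y ∈ A) : x * y = y * x := by
  obtain ⟨t, -, ht1, hA⟩ := hC.cent
  by_cases hx1 : x = 1
  · subst hx1; simp
  by_cases hy1 : y = 1
  · subst hy1; simp
  exact hC.ct x t y hx1 ht1 hy1 ((hA x).1 hx) ((hA y).1 hy).symm

theorem cent_A {a g : G} (ha : a ∈ A) (ha1 : a ≠ 1) (hg : g * a = a * g) : g ∈ A := by
  obtain ⟨t, -, ht1, hA⟩ := hC.cent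
  by_cases hg1 : g = 1
  · rw [hg1]; exact one_mem A
  exact (hA g).2 (hC.ct g a t hg1 ha1 ht1 hg ((hA a).1 ha))

theorem ti {a g : G} (ha : a ∈ A) (ha1 : a ≠ 1) (hg : g * a * g⁻¹ ∈ A) : g ∈ Hn A := by
  have key : ∀ x ∈ A, g * x * g⁻¹ ∈ A := fun x hx => by
    refine cent_A hC hg (fun e => ha1 (by simpa using e)) ?_
    calc g * x * g⁻¹ * (g * a * g⁻¹) = g * (x * a) * g⁻¹ := by group
      _ = g * (a * x) * g⁻¹ := by rw [comm hC hx ha]
      _ = g * a * g⁻¹ * (g * x * g⁻¹) := by group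
  refine Subgroup.mem_normalizer_fintype ?_
  exact key

theorem invol_H {s : G} (hs : s ∈ Hn A) (hss : s * s = 1) : s ∈ A := by
  obtain ⟨t, htt, ht1, hA⟩ := hC.cent
  have ht : t ∈ A := (hA t).2 rfl
  have hsi : s⁻¹ = s := inv_eq_of_mul_eq_one_right hss
  have hst : s * t * s ∈ A := by have := conj_A hs ht; rwa [hsi] at this
  have hw : s * (t * (s * t * s)) = (t * (s * t * s)) * s := by
    rw [comm hC ht hst]
    calc s * (s * t * s * t) = (s * s) * t * s * t := by group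
      _ = t * s * t := by rw [hss, one_mul]
      _ = t * s * t * (s * s) := by rw [hss, mul_one]
      _ = t * (s * t * s) * s := by group
      _ = s * t * s * t * s := by rw [comm hC ht hst]
  by_cases h1 : t * (s * t * s) = 1
  · refine (hA s).2 ?_
    have h2 : s * t * s = t := by rw [← inv_eq_of_mul_eq_one_right h1, inv_eq_of_mul_eq_one_right htt]
    calc s * t = s * t * (s * s) := by rw [hss, mul_one]
      _ = s * t * s * s := by group
      _ = t * s := by rw [h2]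
  · exact cent_A hC (mul_mem ht hst) h1 hw

/-- An involution of `A` is conjugate to every involution outside. -/
theorem conj_outside {t s : G} (ht : t ∈ A) (htt : t * t = 1) (ht1 : t ≠ 1) (hs : s * s = 1) (hsA : s ∉ A) :
    ∃ g : G, g * t * g⁻¹ = s := by
  obtain ⟨w, hw⟩ : ∃ w, w = s * t := ⟨_, rfl⟩
  have htw : t * w * t = w⁻¹ := by
    rw [hw, mul_inv_rev, inv_eq_of_mul_eq_one_right hs, inv_eq_of_mul_eq_one_right htt,
      show t * (s * t) * t = t * s * (t * t) by group, htt, mul_one]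
  have htwk : ∀ k : ℕ, t * w ^ k * t = (w ^ k)⁻¹ := by
    intro k
    induction k with
    | zero => simp [htt]
    | succ k ih =>
      rw [show t * w ^ (k + 1) * t = (t * w ^ k * t) * (t * w * t) by
        rw [pow_succ, show t * w ^ k * t * (t * w * t) = t * w ^ k * (t * t) * w * t by group, htt]; group,
        ih, htw, ← mul_inv_rev, ← pow_succ']
  rcases Nat.even_or_odd (orderOf w) with ⟨k, hk⟩ | ⟨k, hk⟩
  · exfalso
    obtain ⟨v, hv⟩ : ∃ v, v = w ^ k := ⟨_, rfl⟩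
    have hk0 : 0 < k := by
      have := orderOf_pos w
      omega
    have hv1 : v ≠ 1 := fun e => by
      have := orderOf_le_of_pow_eq_one hk0 (hv ▸ e)
      omega
    have hvv : v * v = 1 := by rw [hv, ← pow_add, ← hk, pow_orderOf_eq_one]
    have hvt : v * t = t * v := by
      have := htwk k
      rw [← hv, inv_eq_of_mul_eq_one_right hvv] at this
      calc v * t = t * v * t * t := by rw [this]
        _ = t * v := by rw [mul_assoc, htt, mul_one]
    have hvw : v * w = w * v := by rw [hv, ← pow_succ, ← pow_succ']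
    have hvA : v ∈ A := cent_A hC ht ht1 hvt
    have hsv : s * v = v * s := by
      have e : s = w * t := by rw [hw, mul_assoc, htt, mul_one]
      rw [e, mul_assoc w t v, ← hvt, ← mul_assoc, ← hvw, mul_assoc]
    exact hsA (cent_A hC hvA hv1 hsv)
  · refine ⟨w ^ (k + 1), ?_⟩
    have h1 : t * w ^ (k + 1) = (w ^ (k + 1))⁻¹ * t := by
      rw [← htwk (k + 1), mul_assoc, htt, mul_one]
    rw [mul_assoc, show t * (w ^ (k + 1))⁻¹ = w ^ (k + 1) * t by
      rw [← mul_right_inj t, ← mul_assoc, htt, one_mul, ← mul_assoc, h1, mul_assoc, htt, mul_one],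
      ← mul_assoc, ← pow_add, show k + 1 + (k + 1) = orderOf w + 1 by omega, pow_succ, pow_orderOf_eq_one,
      one_mul, hw, mul_assoc, htt, mul_one]

theorem A_ne_top : A ≠ ⊤ := fun e => by
  obtain ⟨a, b, hab⟩ := hC.nonab
  exact hab (comm hC (e ▸ Subgroup.mem_top a) (e ▸ Subgroup.mem_top b))

theorem A_ne_bot : A ≠ ⊥ := fun e => by
  obtain ⟨t, -, ht1, hA⟩ := hC.cent
  exact ht1 (Subgroup.mem_bot.1 (e ▸ (hA t).2 rfl))

theorem H_ne_top : Hn A ≠ ⊤ := fun e => by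
  rcases hC.simple A (Subgroup.normalizer_eq_top_iff.1 e) with h | h
  · exact A_ne_bot hC h
  · exact A_ne_top hC h

theorem exists_invol_outside : ∃ u : G, u * u = 1 ∧ u ∉ Hn A := by
  obtain ⟨t, htt, ht1, hA⟩ := hC.cent
  obtain ⟨g, hg⟩ : ∃ g : G, g ∉ Hn A := by
    by_contra hno
    push Not at hno
    exact H_ne_top hC (eq_top_iff.2 fun g _ => hno g)
  have hcc : g * t * g⁻¹ * (g * t * g⁻¹) = 1 := by
    rw [show g * t * g⁻¹ * (g * t * g⁻¹) = g * (t * t) * g⁻¹ by group, htt]; group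
  exact ⟨g * t * g⁻¹, hcc, fun hH => hg (ti hC ((hA t).2 rfl) ht1 (invol_H hC hH hcc))⟩

theorem conj_H {t t' : G} (ht : t ∈ A) (htt : t * t = 1) (ht1 : t ≠ 1) (ht' : t' ∈ A) (ht't' : t' * t' = 1)
    (ht'1 : t' ≠ 1) : ∃ g ∈ Hn A, g * t * g⁻¹ = t' := by
  obtain ⟨u, huu, huH⟩ := exists_invol_outside hC
  have huA : u ∉ A := fun e => huH (A_le e)
  obtain ⟨a, ha⟩ := conj_outside hC ht htt ht1 huu huA
  obtain ⟨b, hb⟩ := conj_outside hC ht' ht't' ht'1 huu huA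
  have e : b⁻¹ * a * t * (b⁻¹ * a)⁻¹ = t' := by
    rw [show b⁻¹ * a * t * (b⁻¹ * a)⁻¹ = b⁻¹ * (a * t * a⁻¹) * b by group, ha, ← hb]; group
  exact ⟨_, ti hC ht ht1 (e.symm ▸ ht'), e⟩

theorem card_H : Nat.card (Hn A) = Nat.card A * Nat.card (Inv A) := by
  classical
  obtain ⟨t, htt, ht1, hA⟩ := hC.cent
  have ht : t ∈ A := (hA t).2 rfl
  choose s hsH hs using fun x : Inv A => conj_H hC ht htt ht1 x.2.1 x.2.2.1 x.2.2.2
  have e : A × Inv A ≃ Hn A := by
    refine Equiv.ofBijective (fun p => ⟨s p.2 * p.1, mul_mem (hsH p.2) (A_le p.1.2)⟩) ⟨?_, ?_⟩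
    · rintro ⟨a, x⟩ ⟨b, y⟩ hxy
      have h1 : s x * a = s y * b := congrArg Subtype.val hxy
      have hc : ∀ (z : Inv A) (c : A), s z * c * t * (s z * c)⁻¹ = (z : G) := fun z c => by
        rw [mul_assoc (s z) (c : G) t, comm hC c.2 ht, ← mul_assoc (s z) t, mul_inv_rev,
          show s z * t * c * ((c : G)⁻¹ * (s z)⁻¹) = s z * t * (s z)⁻¹ by group, hs]
      have hxy' : x = y := Subtype.ext (by rw [← hc x a, ← hc y b, h1])
      subst hxy'
      exact Prod.ext (Subtype.ext (mul_left_cancel h1)) rfl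
    · rintro ⟨g, hg⟩
      obtain ⟨z, hz⟩ : ∃ z : Inv A, (z : G) = g * t * g⁻¹ :=
        ⟨⟨_, conj_A hg ht, by rw [show g * t * g⁻¹ * (g * t * g⁻¹) = g * (t * t) * g⁻¹ by group, htt]; group,
          fun e => ht1 (by simpa using e)⟩, rfl⟩
      have h2 := (hs z).trans hz
      have haA : (s z)⁻¹ * g ∈ A := by
        refine (hA _).2 ?_
        calc (s z)⁻¹ * g * t = (s z)⁻¹ * (g * t * g⁻¹) * g := by group
          _ = (s z)⁻¹ * (s z * t * (s z)⁻¹) * g := by rw [h2]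
          _ = _ := by group
      exact ⟨(⟨_, haA⟩, z), Subtype.ext (mul_inv_cancel_left _ _)⟩
  rw [← Nat.card_congr e, Nat.card_prod]

theorem coprime : Nat.Coprime (Nat.card A) (Nat.card (Inv A)) := by
  rw [Nat.coprime_iff_gcd_eq_one]
  by_contra hne
  obtain ⟨l, hl, hdvd⟩ := Nat.exists_prime_and_dvd hne
  have hlA := hdvd.trans (Nat.gcd_dvd_left _ _)
  have hlm := hdvd.trans (Nat.gcd_dvd_right _ _)
  haveI : Fact l.Prime := ⟨hl⟩
  have hA0 : Nat.card A ≠ 0 := Nat.card_pos.ne'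
  have hdv : l ^ ((Nat.card A).factorization l + 1) ∣ Nat.card (Hn A) := by
    rw [pow_succ, card_H hC]
    exact mul_dvd_mul (Nat.ordProj_dvd _ _) hlm
  obtain ⟨P⟩ : Nonempty (Sylow l (Hn A)) := inferInstance
  have hP : l ^ ((Nat.card A).factorization l + 1) ∣ Nat.card (P : Subgroup (Hn A)) :=
    P.pow_dvd_card_of_pow_dvd_card hdv
  obtain ⟨⟨a, haA⟩, hao⟩ := exists_prime_orderOf_dvd_card' l hlA
  have hao' : orderOf (⟨a, A_le haA⟩ : Hn A) = l := by
    rw [Subgroup.orderOf_mk] at hao ⊢; exact hao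
  have hpa : IsPGroup l (Subgroup.zpowers (⟨a, A_le haA⟩ : Hn A)) :=
    IsPGroup.of_card (n := 1) (by rw [Nat.card_zpowers, hao', pow_one])
  obtain ⟨Q, hQ⟩ := hpa.exists_le_sylow
  obtain ⟨g, hg⟩ := MulAction.exists_smul_eq (Hn A) Q P
  obtain ⟨b, hbP, hbA, hb1⟩ : ∃ b : Hn A, b ∈ P ∧ (b : G) ∈ A ∧ (b : G) ≠ 1 := by
    refine ⟨g * ⟨a, A_le haA⟩ * g⁻¹, ?_, conj_A g.2 haA, fun e => ?_⟩
    · rw [← hg]
      exact ⟨_, hQ (Subgroup.mem_zpowers _), rfl⟩
    · have ha1 : a = 1 := by simpa using e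
      rw [Subgroup.orderOf_mk, ha1, orderOf_one] at hao
      exact hl.ne_one hao.symm
  haveI : Nontrivial (P : Subgroup (Hn A)) :=
    ⟨⟨b, hbP⟩, 1, fun e => hb1 (congrArg (fun z : (P : Subgroup (Hn A)) => ((z : Hn A) : G)) e)⟩
  haveI := P.isPGroup'.center_nontrivial
  obtain ⟨⟨z, hz⟩, hz1⟩ := exists_ne (1 : Subgroup.center (P : Subgroup (Hn A)))
  have hzc : ∀ y : (P : Subgroup (Hn A)), ((y : Hn A) : G) * ((z : Hn A) : G) = ((z : Hn A) : G) * ((y : Hn A) : G) :=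
    fun y => congrArg (fun w : (P : Subgroup (Hn A)) => ((w : Hn A) : G)) (Subgroup.mem_center_iff.1 hz y)
  have hzA : ((z : Hn A) : G) ∈ A := cent_A hC hbA hb1 (hzc ⟨b, hbP⟩).symm
  have hz1' : ((z : Hn A) : G) ≠ 1 := fun e => hz1 (Subtype.ext (Subtype.ext (Subtype.ext e)))
  have hPA : Nat.card (P : Subgroup (Hn A)) ∣ Nat.card A := by
    have hle : (P : Subgroup (Hn A)).map (Hn A).subtype ≤ A := by
      rintro _ ⟨y, hy, rfl⟩
      exact cent_A hC hzA hz1' (hzc ⟨y, hy⟩)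
    rw [← Subgroup.card_map_of_injective (K := (P : Subgroup (Hn A))) (Hn A).subtype_injective]
    exact Subgroup.card_dvd_of_le hle
  exact Nat.pow_succ_factorization_not_dvd hA0 hl (hP.trans hPA)

theorem orderOf_dvd_of_not_mem {x : G} (hx : x ∈ Hn A) (hxA : x ∉ A) : orderOf x ∣ Nat.card (Inv A) := by
  haveI hnorm : (A.subgroupOf (Hn A)).Normal := Subgroup.normal_in_normalizer
  have hidx : (A.subgroupOf (Hn A)).index = Nat.card (Inv A) := by
    have h1 := (A.subgroupOf (Hn A)).card_mul_index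
    rw [Nat.card_congr (Subgroup.subgroupOfEquivOfLe (A_le (A := A))).toEquiv, card_H hC] at h1
    exact Nat.eq_of_mul_eq_mul_left Nat.card_pos h1
  have hmem : x ^ Nat.card (Inv A) ∈ A := by
    have := Subgroup.pow_index_mem (A.subgroupOf (Hn A)) (⟨x, hx⟩ : Hn A)
    rw [hidx] at this
    exact this
  refine orderOf_dvd_of_pow_eq_one ?_
  by_contra hne
  exact hxA (cent_A hC hmem hne (Commute.self_pow x _).eq)

theorem Dg_A {g x : G} (hg : g ∉ Hn A) (hx : x ∈ Dg A g) (hxA : x ∈ A) : x = 1 := by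
  by_contra hx1
  obtain ⟨-, h2⟩ := mem_Dg.1 hx
  by_cases h3 : g⁻¹ * x * g ∈ A
  · exact hg (inv_mem_iff.1 (ti hC hxA hx1 (g := g⁻¹) (by rwa [inv_inv])))
  · have h4 := orderOf_dvd_of_not_mem hC h2 h3
    rw [show orderOf (g⁻¹ * x * g) = orderOf x from by
      conv_lhs => rw [show g⁻¹ * x * g = MulAut.conj g⁻¹ x by simp]
      exact (MulAut.conj g⁻¹).orderOf_eq x] at h4
    have h5 : orderOf x ∣ Nat.card A := A.orderOf_dvd_natCard hxA
    exact hx1 (orderOf_eq_one_iff.1 (Nat.eq_one_of_dvd_coprimes (coprime hC) h5 h4))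

theorem Dg_no_invol {g x : G} (hg : g ∉ Hn A) (hx : x ∈ Dg A g) (hxx : x * x = 1) : x = 1 :=
  Dg_A hC hg hx (invol_H hC (mem_Dg.1 hx).1 hxx)

theorem Dg_card_le {g : G} (hg : g ∉ Hn A) : Nat.card (Dg A g) ≤ Nat.card (Inv A) := by
  classical
  have e : ∀ p q : Dg A g × A, (p.1 : G) * p.2 = q.1 * q.2 → p = q := by
    rintro ⟨a, x⟩ ⟨b, y⟩ e1
    have e2 : (b : G)⁻¹ * a = y * (x : G)⁻¹ := by
      calc (b : G)⁻¹ * a = (b : G)⁻¹ * ((a : G) * x) * (x : G)⁻¹ := by group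
        _ = (b : G)⁻¹ * ((b : G) * y) * (x : G)⁻¹ := by rw [e1]
        _ = _ := by group
    have h0 := Dg_A hC hg (mul_mem (inv_mem b.2) a.2) (e2 ▸ mul_mem y.2 (inv_mem x.2))
    have hab : a = b := Subtype.ext (inv_mul_eq_one.1 h0).symm
    subst hab
    exact Prod.ext rfl (Subtype.ext (mul_left_cancel e1))
  have h1 := Nat.card_le_card_of_injective
    (fun p : Dg A g × A => (⟨p.1 * p.2, mul_mem (mem_Dg.1 p.1.2).1 (A_le p.2.2)⟩ : Hn A))
    fun p q h => e p q (congrArg Subtype.val h)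
  rw [Nat.card_prod, card_H hC, mul_comm] at h1
  exact Nat.le_of_mul_le_mul_left h1 Nat.card_pos

/-- Each coset outside `N(A)` contains as many involutions as `A`, all inverting `D_g`. -/
theorem coset_facts {g : G} (hg : g ∉ Hn A) :
    (∃ s : G, s * s = 1 ∧ g⁻¹ * s ∈ Hn A) ∧ Nat.card (Dg A g) = Nat.card (Inv A) ∧
      ∀ s : G, s * s = 1 → g⁻¹ * s ∈ Hn A → ∀ d ∈ Dg A g, s * d * s⁻¹ = d⁻¹ := by
  classical
  haveI : Fintype G := Fintype.ofFinite G
  obtain ⟨m, hm⟩ : ∃ m, m = Nat.card (Inv A) := ⟨_, rfl⟩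
  rw [← hm]
  obtain ⟨t, htt, ht1, hA⟩ := hC.cent
  have ht : t ∈ A := (hA t).2 rfl
  have hm0 : 0 < m := by
    haveI : Nonempty (Inv A) := ⟨⟨t, ht, htt, ht1⟩⟩
    exact hm ▸ Nat.card_pos
  let I : G ⧸ Hn A → Finset G := fun x =>
    Finset.univ.filter (fun s : G => s * s = 1 ∧ s ≠ 1 ∧ (QuotientGroup.mk s : G ⧸ Hn A) = x)
  have hI : ∀ (x : G) (s : G), s ∈ I (QuotientGroup.mk x) ↔ s * s = 1 ∧ s ≠ 1 ∧ x⁻¹ * s ∈ Hn A := by
    intro x s
    simp only [I, Finset.mem_filter, Finset.mem_univ, true_and]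
    rw [eq_comm (a := (QuotientGroup.mk s : G ⧸ Hn A)), QuotientGroup.eq]
  have pair : ∀ {x s s' : G}, s ∈ I (QuotientGroup.mk x) → s' ∈ I (QuotientGroup.mk x) →
      s * s' ∈ Dg A x ∧ s * (s * s') * s⁻¹ = (s * s')⁻¹ := by
    intro x s s' hs hs'
    obtain ⟨hss, -, hsx⟩ := (hI x s).1 hs
    obtain ⟨hss', -, hsx'⟩ := (hI x s').1 hs'
    obtain ⟨a, ha⟩ : ∃ a, a = x⁻¹ * s := ⟨_, rfl⟩
    obtain ⟨b, hb⟩ : ∃ b, b = x⁻¹ * s' := ⟨_, rfl⟩
    rw [← ha] at hsx; rw [← hb] at hsx'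
    have e1 : s * s' = a⁻¹ * b := by
      rw [ha, hb, mul_inv_rev, inv_eq_of_mul_eq_one_right hss]; group
    have e2 : x⁻¹ * (s * s') * x = a * b⁻¹ := by
      rw [ha, hb, mul_inv_rev, inv_eq_of_mul_eq_one_right hss']; group
    refine ⟨mem_Dg.2 ⟨e1 ▸ mul_mem (inv_mem hsx) hsx', e2 ▸ mul_mem hsx (inv_mem hsx')⟩, ?_⟩
    rw [mul_inv_rev, inv_eq_of_mul_eq_one_right hss', inv_eq_of_mul_eq_one_right hss,
      show s * (s * s') * s = (s * s) * s' * s by group, hss, one_mul]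
  have hnum : (Finset.univ.filter (fun s : G => s * s = 1 ∧ s ≠ 1)).card * Nat.card A = Nat.card G := by
    have hall : ∀ s : {s : G // s * s = 1 ∧ s ≠ 1}, ∃ g : G, g * t * g⁻¹ = s.1 := fun s => by
      by_cases hsA : s.1 ∈ A
      · obtain ⟨g, -, e⟩ := conj_H hC ht htt ht1 hsA s.2.1 s.2.2
        exact ⟨g, e⟩
      · exact conj_outside hC ht htt ht1 s.2.1 hsA
    choose c hc using hall
    have e : {s : G // s * s = 1 ∧ s ≠ 1} × A ≃ G := by
      refine Equiv.ofBijective (fun p => c p.1 * p.2) ⟨?_, ?_⟩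
      · rintro ⟨x, a⟩ ⟨y, b⟩ hxy
        replace hxy : c x * a = c y * b := hxy
        have hcj : ∀ (z : {s : G // s * s = 1 ∧ s ≠ 1}) (a : A), c z * a * t * (c z * a)⁻¹ = z.1 := fun z a => by
          rw [mul_assoc (c z) (a : G) t, comm hC a.2 ht, ← mul_assoc (c z) t, mul_inv_rev,
            show c z * t * a * ((a : G)⁻¹ * (c z)⁻¹) = c z * t * (c z)⁻¹ by group, hc]
        have hxy' : x = y := Subtype.ext (by rw [← hcj x a, ← hcj y b, hxy])
        subst hxy'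
        exact Prod.ext rfl (Subtype.ext (mul_left_cancel hxy))
      · intro y
        obtain ⟨z, hz⟩ : ∃ z : {s : G // s * s = 1 ∧ s ≠ 1}, z.1 = y * t * y⁻¹ :=
          ⟨⟨_, by rw [show y * t * y⁻¹ * (y * t * y⁻¹) = y * (t * t) * y⁻¹ by group, htt]; group,
            fun e => ht1 (by simpa using e)⟩, rfl⟩
        have h2 := (hc z).trans hz
        refine ⟨(z, ⟨(c z)⁻¹ * y, (hA _).2 ?_⟩), mul_inv_cancel_left _ _⟩
        calc _ = (c z)⁻¹ * (y * t * y⁻¹) * y := by group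
          _ = (c z)⁻¹ * (c z * t * (c z)⁻¹) * y := by rw [h2]
          _ = _ := by group
    rw [← Nat.card_congr e, Nat.card_prod, Nat.card_eq_fintype_card (α := {s : G // s * s = 1 ∧ s ≠ 1}),
      Fintype.card_subtype]
  have hnum' : (Finset.univ.filter (fun s : G => s * s = 1 ∧ s ≠ 1)).card = Nat.card (G ⧸ Hn A) * m := by
    have h1 := Subgroup.card_eq_card_quotient_mul_card_subgroup (Hn A)
    rw [card_H hC, ← hm, ← hnum, mul_comm (Nat.card A) m, ← mul_assoc] at h1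
    exact Nat.eq_of_mul_eq_mul_right Nat.card_pos h1
  have hsum : (Finset.univ.filter (fun s : G => s * s = 1 ∧ s ≠ 1)).card = ∑ x : G ⧸ Hn A, (I x).card := by
    rw [Finset.card_eq_sum_card_fiberwise (t := Finset.univ) (f := fun s : G => (QuotientGroup.mk s : G ⧸ Hn A))
      (fun s _ => Finset.mem_univ _)]
    refine Finset.sum_congr rfl fun x _ => congrArg Finset.card ?_
    ext s; simp [I, and_assoc]
  have hle : ∀ x : G ⧸ Hn A, (I x).card ≤ m := by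
    intro x
    obtain ⟨x, rfl⟩ := QuotientGroup.mk_surjective x
    by_cases hx : x ∈ Hn A
    · rw [hm, ← Nat.card_eq_finsetCard]
      refine Nat.card_le_card_of_injective (fun s => (⟨s.1, ?_, ((hI x s.1).1 s.2).1, ((hI x s.1).1 s.2).2.1⟩ : Inv A))
        fun a b e => Subtype.ext (congrArg (fun w : Inv A => (w : G)) e)
      obtain ⟨h1, -, h3⟩ := (hI x s.1).1 s.2
      exact invol_H hC (by simpa using mul_mem hx h3) h1
    · rcases (I (QuotientGroup.mk x)).eq_empty_or_nonempty with h0 | ⟨s, hs⟩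
      · rw [h0]; simp
      refine le_trans ?_ (hm ▸ Dg_card_le hC hx)
      rw [← Nat.card_eq_finsetCard]
      exact Nat.card_le_card_of_injective (fun s' => (⟨s * s'.1, (pair hs s'.2).1⟩ : Dg A x))
        (fun a b e => Subtype.ext (mul_left_cancel (congrArg Subtype.val e)))
  have heq : ∀ x : G ⧸ Hn A, (I x).card = m := by
    have := (Finset.sum_eq_sum_iff_of_le (s := Finset.univ) (fun x _ => hle x)).1 (by
      rw [← hsum, hnum', Finset.sum_const, Finset.card_univ, smul_eq_mul, Nat.card_eq_fintype_card])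
    exact fun x => this x (Finset.mem_univ _)
  obtain ⟨s₀, hs₀⟩ : (I (QuotientGroup.mk g)).Nonempty := Finset.card_pos.1 (by rw [heq]; omega)
  have hcard : Nat.card (Dg A g) = m := by
    refine le_antisymm (hm ▸ Dg_card_le hC hg) ?_
    rw [← heq (QuotientGroup.mk g), ← Nat.card_eq_finsetCard]
    exact Nat.card_le_card_of_injective (fun s' => (⟨s₀ * s'.1, (pair hs₀ s'.2).1⟩ : Dg A g))
      (fun a b e => Subtype.ext (mul_left_cancel (congrArg Subtype.val e)))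
  refine ⟨⟨s₀, ((hI g s₀).1 hs₀).1, ((hI g s₀).1 hs₀).2.2⟩, hcard, fun s hss hsg d hd => ?_⟩
  have hs1 : s ≠ 1 := fun e => hg (inv_mem_iff.1 (by simpa [e] using hsg))
  have hs : s ∈ I (QuotientGroup.mk g) := (hI g s).2 ⟨hss, hs1, hsg⟩
  obtain ⟨⟨s', hs'⟩, hsd⟩ := (Nat.bijective_iff_injective_and_card
    (fun s' : ↥(I (QuotientGroup.mk g)) => (⟨s * s'.1, (pair hs s'.2).1⟩ : Dg A g))).2
      ⟨fun a b e => Subtype.ext (mul_left_cancel (congrArg Subtype.val e)),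
        by rw [Nat.card_eq_finsetCard, heq, hcard]⟩ |>.2 ⟨d, hd⟩
  have hd' : s * s' = d := congrArg Subtype.val hsd
  rw [← hd']
  exact (pair hs hs').2

variable {u : G} (huu : u * u = 1) (huH : u ∉ Hn A)

include huu huH

theorem u_inverts {d : G} (hd : d ∈ Dg A u) : u * d * u⁻¹ = d⁻¹ :=
  (coset_facts hC huH).2.2 u huu (by simp) d hd

theorem card_D : Nat.card (Dg A u) = Nat.card (Inv A) := (coset_facts hC huH).2.1

theorem decomp {g : G} (hg : g ∈ Hn A) : ∃ d ∈ Dg A u, ∃ t ∈ A, g = d * t := by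
  classical
  have hb := (Nat.bijective_iff_injective_and_card
    (fun p : Dg A u × A => (⟨p.1 * p.2, mul_mem (mem_Dg.1 p.1.2).1 (A_le p.2.2)⟩ : Hn A))).2 ⟨?_, ?_⟩
  · obtain ⟨⟨d, t⟩, e⟩ := hb.2 ⟨g, hg⟩
    exact ⟨d, d.2, t, t.2, (congrArg Subtype.val e).symm⟩
  · rintro ⟨a, x⟩ ⟨b, y⟩ e
    have e1 : (a : G) * x = b * y := congrArg Subtype.val e
    have e2 : (b : G)⁻¹ * a = y * (x : G)⁻¹ := by
      calc (b : G)⁻¹ * a = (b : G)⁻¹ * ((a : G) * x) * (x : G)⁻¹ := by group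
        _ = (b : G)⁻¹ * ((b : G) * y) * (x : G)⁻¹ := by rw [e1]
        _ = _ := by group
    have h0 := Dg_A hC huH (mul_mem (inv_mem b.2) a.2) (e2 ▸ mul_mem y.2 (inv_mem x.2))
    have hab : a = b := Subtype.ext (inv_mul_eq_one.1 h0).symm
    subst hab
    exact Prod.ext rfl (Subtype.ext (mul_left_cancel e1))
  · rw [Nat.card_prod, card_D hC huu huH, card_H hC, mul_comm]

theorem C_inter_H {d : G} (hd : d ∈ Dg A u) (hd1 : d ≠ 1) {x : G} (hx : x ∈ Hn A) (hc : x * d = d * x) :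
    x ∈ Dg A u := by
  obtain ⟨e, he, t, ht, rfl⟩ := decomp hC huu huH hx
  have hde : e * d = d * e := by
    have e1 := u_inverts hC huu huH (mul_mem he hd)
    rw [show u * (e * d) * u⁻¹ = (u * e * u⁻¹) * (u * d * u⁻¹) by group, u_inverts hC huu huH he,
      u_inverts hC huu huH hd, ← mul_inv_rev, inv_inj] at e1
    exact e1.symm
  have htd : t * d = d * t := by
    have h1 : e * (t * d) = e * (d * t) := by
      rw [← mul_assoc, hc, ← mul_assoc, ← hde, mul_assoc]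
    exact mul_left_cancel h1
  by_cases ht1 : t = 1
  · rwa [ht1, mul_one]
  · exact absurd (Dg_A hC huH hd (cent_A hC ht ht1 htd.symm)) hd1

/-- The centralizer of a non-identity element of `D` is `D`. -/
theorem C_eq {d : G} (hd : d ∈ Dg A u) (hd1 : d ≠ 1) {c : G} (hc : c * d = d * c) : c ∈ Dg A u := by
  classical
  by_cases hcH : c ∈ Hn A
  · exact C_inter_H hC huu huH hd hd1 hcH hc
  exfalso
  have hdd : ¬ d * d = 1 := fun e => hd1 (Dg_no_invol hC huH hd e)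
  have hud := u_inverts hC huu huH hd
  have hu1 : u ≠ 1 := fun e => huH (e ▸ one_mem _)
  obtain ⟨C, hCdef⟩ : ∃ C, C = Subgroup.centralizer ({d} : Set G) := ⟨_, rfl⟩
  have hm : ∀ x, x ∈ C ↔ x * d = d * x := fun x => by rw [hCdef, Subgroup.mem_centralizer_singleton_iff]
  have hun : ∀ x ∈ C, u * x * u⁻¹ ∈ C := by
    intro x hx
    have hxi : x * d⁻¹ = d⁻¹ * x := ((show Commute x d from (hm x).1 hx).inv_right).eq
    rw [hm]
    have e : (u * x * u⁻¹) * d⁻¹⁻¹ = d⁻¹⁻¹ * (u * x * u⁻¹) := by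
      have hud' : u * d⁻¹ * u⁻¹ = d⁻¹⁻¹ := by rw [← conj_inv, hud]
      rw [← hud']
      calc u * x * u⁻¹ * (u * d⁻¹ * u⁻¹) = u * (x * d⁻¹) * u⁻¹ := by group
        _ = u * (d⁻¹ * x) * u⁻¹ := by rw [hxi]
        _ = u * d⁻¹ * u⁻¹ * (u * x * u⁻¹) := by group
    rwa [inv_inv] at e
  have hfix : ∀ x ∈ C, u * x * u⁻¹ = x → x = 1 := by
    intro x hx e
    by_contra hx1
    have h1 : Commute d x := ((hm x).1 hx).symm
    have h2 : Commute x u := (mul_inv_eq_iff_eq_mul.1 e).symm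
    have h3 := hC.ct d x u hd1 hx1 hu1 h1 h2
    refine hdd ?_
    have h4 : u * d * u⁻¹ = d := mul_inv_eq_iff_eq_mul.2 h3.symm.eq
    exact inv_eq_iff_mul_eq_one.1 (hud.symm.trans h4)
  have hinv : ∀ x ∈ C, u * x * u⁻¹ = x⁻¹ := by
    have hinj : Function.Injective (fun k : C => (⟨(k : G)⁻¹ * (u * k * u⁻¹), mul_mem (inv_mem k.2) (hun k k.2)⟩ : C)) := by
      intro a b e
      have e1 : (a : G)⁻¹ * (u * a * u⁻¹) = (b : G)⁻¹ * (u * b * u⁻¹) := congrArg Subtype.val e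
      have e2 : u * ((a : G) * (b : G)⁻¹) * u⁻¹ = (a : G) * (b : G)⁻¹ := by
        calc u * ((a : G) * (b : G)⁻¹) * u⁻¹ = (a : G) * ((a : G)⁻¹ * (u * a * u⁻¹)) * (u * b * u⁻¹)⁻¹ := by group
          _ = (a : G) * ((b : G)⁻¹ * (u * b * u⁻¹)) * (u * b * u⁻¹)⁻¹ := by rw [e1]
          _ = _ := by group
      exact Subtype.ext (mul_inv_eq_one.1 (hfix _ (mul_mem a.2 (inv_mem b.2)) e2))
    intro x hx
    obtain ⟨k, hk⟩ := (Finite.injective_iff_surjective.1 hinj) ⟨x, hx⟩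
    have hk' : (k : G)⁻¹ * (u * k * u⁻¹) = x := congrArg Subtype.val hk
    rw [← hk', show u * ((k : G)⁻¹ * (u * k * u⁻¹)) * u⁻¹ = (u * k * u⁻¹)⁻¹ * ((u * u) * k * (u * u)⁻¹) by group, huu]
    group
  have hcC : c ∈ C := (hm c).2 hc
  have hdc : d ∈ Dg A c := mem_Dg.2 ⟨(mem_Dg.1 hd).1, by
    rw [mul_assoc, ← hc, inv_mul_cancel_left]; exact (mem_Dg.1 hd).1⟩
  obtain ⟨⟨s, hss, hsc⟩, -, hsinv⟩ := coset_facts hC hcH
  have hsd := hsinv s hss hsc d hdc
  have hus : u * s ∈ C := by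
    rw [hm]
    have e : (u * s) * d * (u * s)⁻¹ = d := by
      rw [show u * s * d * (u * s)⁻¹ = u * (s * d * s⁻¹) * u⁻¹ by group, hsd,
        show u * d⁻¹ * u⁻¹ = (u * d * u⁻¹)⁻¹ by group, hud, inv_inv]
    exact mul_inv_eq_iff_eq_mul.1 e
  obtain ⟨a, ha⟩ : ∃ a, a = c⁻¹ * s := ⟨_, rfl⟩
  rw [← ha] at hsc
  have hce : a = u * (c * (u * s)) := by
    have e := hinv c hcC
    rw [ha, ← e, inv_eq_of_mul_eq_one_right huu]
    calc u * c * u * s = u * (c * (u * s)) := by group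
      _ = _ := rfl
  have haa : a * a = 1 := by
    rw [hce]
    have e := hinv _ (mul_mem hcC hus)
    rw [inv_eq_of_mul_eq_one_right huu] at e
    calc u * (c * (u * s)) * (u * (c * (u * s))) = u * (c * (u * s)) * u * (c * (u * s)) := by group
      _ = _ := by rw [e]; group
  have haA := invol_H hC hsc haa
  have hcs : a * d * a⁻¹ = d⁻¹ := by
    rw [ha, show c⁻¹ * s * d * (c⁻¹ * s)⁻¹ = c⁻¹ * (s * d * s⁻¹) * c by group, hsd, mul_assoc,
      ← ((show Commute c d from hc).inv_right).eq, inv_mul_cancel_left]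
  have hd2 : d⁻¹ * d⁻¹ ∈ A := by
    have : a * (d * a⁻¹ * d⁻¹) ∈ A := mul_mem haA (conj_A (mem_Dg.1 hd).1 (inv_mem haA))
    rwa [show a * (d * a⁻¹ * d⁻¹) = a * d * a⁻¹ * d⁻¹ by group, hcs] at this
  have h0 := Dg_A hC huH (mul_mem (inv_mem hd) (inv_mem hd)) hd2
  rw [← mul_inv_rev, inv_eq_one] at h0
  exact hdd h0

/-- Fixed points of a non-identity element of `D`. -/
theorem fixed {d : G} (hd : d ∈ Dg A u) (hd1 : d ≠ 1) {g : G} (hg : g⁻¹ * d * g ∈ Hn A) :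
    g ∈ Hn A ∨ u⁻¹ * g ∈ Hn A := by
  by_cases hgH : g ∈ Hn A
  · exact Or.inl hgH
  right
  obtain ⟨⟨s, hss, hsg⟩, -, hsinv⟩ := coset_facts hC hgH
  have hsd := hsinv s hss hsg d (mem_Dg.2 ⟨(mem_Dg.1 hd).1, hg⟩)
  have hus : u * s ∈ Dg A u := by
    refine C_eq hC huu huH hd hd1 (mul_inv_eq_iff_eq_mul.1 ?_)
    rw [show u * s * d * (u * s)⁻¹ = u * (s * d * s⁻¹) * u⁻¹ by group, hsd,
      show u * d⁻¹ * u⁻¹ = (u * d * u⁻¹)⁻¹ by group, u_inverts hC huu huH hd, inv_inv]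
  rw [show u⁻¹ * g = (u * s) * (g⁻¹ * s)⁻¹ by rw [inv_eq_of_mul_eq_one_right huu]; group]
  exact mul_mem (mem_Dg.1 hus).1 (inv_mem hsg)

theorem exists_D_ne_one (h2 : 2 ≤ Nat.card (Inv A)) : ∃ d ∈ Dg A u, d ≠ 1 := by
  by_contra hno
  push Not at hno
  have h1 := card_D hC huu huH
  rw [(Subgroup.eq_bot_iff_forall _).2 hno, Subgroup.card_bot] at h1
  omega

/-- `A` is transitive outside `N(A)`. -/
theorem bruhat (h2 : 2 ≤ Nat.card (Inv A)) {g : G} (hg : g ∉ Hn A) : ∃ t ∈ A, (t * u)⁻¹ * g ∈ Hn A := by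
  classical
  haveI : Fintype G := Fintype.ofFinite G
  have hmem : ∀ p : A × {d : Dg A u // d ≠ 1},
      (p.1 : G) * p.2.1 * (p.1 : G)⁻¹ ∈ Hn A ∧ (p.1 : G) * p.2.1 * (p.1 : G)⁻¹ ∉ A := by
    rintro ⟨t, d, hd1⟩
    refine ⟨mul_mem (mul_mem (A_le t.2) (mem_Dg.1 d.2).1) (inv_mem (A_le t.2)), fun hT => hd1 (Subtype.ext ?_)⟩
    refine Dg_A hC huH d.2 ?_
    have := mul_mem (mul_mem (inv_mem t.2) hT) t.2
    rwa [show (t : G)⁻¹ * ((t : G) * d * (t : G)⁻¹) * t = d by group] at this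
  let Φ : A × {d : Dg A u // d ≠ 1} → {x : Hn A // (x : G) ∉ A} := fun p => ⟨⟨_, (hmem p).1⟩, (hmem p).2⟩
  have hinj : Function.Injective Φ := by
    rintro ⟨a, d, hd1⟩ ⟨b, e, he1⟩ heq
    have e1 : (a : G) * d * (a : G)⁻¹ = (b : G) * e * (b : G)⁻¹ :=
      congrArg (fun w : {x : Hn A // (x : G) ∉ A} => (w.1 : G)) heq
    obtain ⟨c, hc⟩ : ∃ c, c = (b : G)⁻¹ * a := ⟨_, rfl⟩
    have hcA : c ∈ A := hc ▸ mul_mem (inv_mem b.2) a.2
    have e2 : c * d * c⁻¹ = e := by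
      rw [hc, show (b : G)⁻¹ * a * d * ((b : G)⁻¹ * a)⁻¹ = (b : G)⁻¹ * ((a : G) * d * (a : G)⁻¹) * b by group, e1]
      group
    have h0 : c * d * c⁻¹ * (d : G)⁻¹ = 1 := by
      refine Dg_A hC huH (e2.symm ▸ mul_mem e.2 (inv_mem d.2)) ?_
      rw [show c * d * c⁻¹ * (d : G)⁻¹ = c * (d * c⁻¹ * (d : G)⁻¹) by group]
      exact mul_mem hcA (conj_A (mem_Dg.1 d.2).1 (inv_mem hcA))
    have hde : (d : G) = e := by rw [← e2]; exact (mul_inv_eq_one.1 h0).symm
    have hc1 : c = 1 := Dg_A hC huH (C_eq hC huu huH d.2 (fun e' => hd1 (Subtype.ext e'))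
      (mul_inv_eq_iff_eq_mul.1 (mul_inv_eq_one.1 h0))) hcA
    rw [hc, inv_mul_eq_one] at hc1
    exact Prod.ext (Subtype.ext hc1.symm) (Subtype.ext (Subtype.ext hde))
  have hcard : Fintype.card (A × {d : Dg A u // d ≠ 1}) = Fintype.card {x : Hn A // (x : G) ∉ A} := by
    have hT : Fintype.card {x : Hn A // (x : G) ∈ A} = Fintype.card A :=
      Fintype.card_congr
        { toFun := fun x => ⟨x.1.1, x.2⟩
          invFun := fun x => ⟨⟨x.1, A_le x.2⟩, x.2⟩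
          left_inv := fun x => rfl
          right_inv := fun x => rfl }
    have hD := card_D hC huu huH
    have hH := card_H hC
    rw [Fintype.card_prod, Fintype.card_subtype_compl, Fintype.card_subtype_compl, hT]
    simp only [Nat.card_eq_fintype_card] at hD hH
    rw [hH, hD, Fintype.card_subtype_eq, Nat.mul_sub_left_distrib, mul_one]
  have hsurj := ((Fintype.bijective_iff_injective_and_card Φ).2 ⟨hinj, hcard⟩).2
  obtain ⟨x, hx, hx1⟩ : ∃ x ∈ Dg A g, x ≠ 1 := by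
    by_contra hno
    push Not at hno
    have h1 := (coset_facts hC hg).2.1
    rw [(Subgroup.eq_bot_iff_forall _).2 hno, Subgroup.card_bot] at h1
    omega
  have hxA : x ∉ A := fun e => hx1 (Dg_A hC hg hx e)
  obtain ⟨⟨t, d, hd1⟩, hp⟩ := hsurj ⟨⟨x, (mem_Dg.1 hx).1⟩, hxA⟩
  have hxe : (t : G) * d * (t : G)⁻¹ = x := congrArg (fun w : {x : Hn A // (x : G) ∉ A} => (w.1 : G)) hp
  refine ⟨t, t.2, ?_⟩
  have hfix : ((t : G)⁻¹ * g)⁻¹ * d * ((t : G)⁻¹ * g) ∈ Hn A := by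
    rw [show ((t : G)⁻¹ * g)⁻¹ * d * ((t : G)⁻¹ * g) = g⁻¹ * ((t : G) * d * (t : G)⁻¹) * g by group, hxe]
    exact (mem_Dg.1 hx).2
  rcases fixed hC huu huH d.2 (fun e => hd1 (Subtype.ext e)) hfix with h1 | h1
  · exact absurd (by simpa using mul_mem (A_le t.2) h1) hg
  · rwa [mul_inv_rev, mul_assoc]

theorem free {t t' : G} (ht : t ∈ A) (ht' : t' ∈ A) (he : (t * u)⁻¹ * (t' * u) ∈ Hn A) : t = t' := by
  obtain ⟨a, ha⟩ : ∃ a, a = t⁻¹ * t' := ⟨_, rfl⟩
  have haA : a ∈ A := ha ▸ mul_mem (inv_mem ht) ht'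
  have hee : u⁻¹ * a * u ∈ Hn A := by
    rw [ha]
    rwa [show u⁻¹ * (t⁻¹ * t') * u = (t * u)⁻¹ * (t' * u) by group]
  have h1 := Dg_A hC huH (mem_Dg.2 ⟨A_le haA, hee⟩) haA
  exact inv_mul_eq_one.1 (ha ▸ h1)

end Cfsg.Agent.Classical.CT
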