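/-
Involution centralizers in simple groups with transitive commuting are elementary abelian; `PSL₂` in characteristic
two has transitive commuting.
-/
import Cfsg.Agent.Lib.Classical.CTGroups
import Cfsg.Agent.S0182

set_option autoImplicit false
set_option linter.style.haveILetI false
set_option linter.unusedSectionVars false

open Cfsg

namespace Cfsg.Agent.Classical.CT

variable {G : Type*} [Group G] [Finite G]

theorem simple_of [IsSimpleGroup G] (N : Subgroup G) (hN : N.Normal) : N = ⊥ ∨ N = ⊤ :=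
  IsSimpleGroup.eq_bot_or_eq_top_of_normal N hN

/-- A non-abelian simple group with transitive commuting has even order. -/
theorem exists_invol (hct : IsCT G) [IsSimpleGroup G] (hna : ∃ a b : G, a * b ≠ b * a) :
    ∃ t : G, t * t = 1 ∧ t ≠ 1 := by
  rcases Nat.even_or_odd (Nat.card G) with he | ho
  · haveI : Fact (Nat.Prime 2) := ⟨Nat.prime_two⟩
    obtain ⟨t, ht⟩ := exists_prime_orderOf_dvd_card' 2 (even_iff_two_dvd.1 he)
    refine ⟨t, ?_, fun e => ?_⟩
    · rw [← sq, ← ht]; exact pow_orderOf_eq_one t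
    · rw [e, orderOf_one] at ht; omega
  exfalso
  haveI hsol : Group.IsSolvable G := S0182.result ho fun x hx a ha b hb => by
    rw [Subgroup.mem_centralizer_singleton_iff] at ha hb
    by_cases ha1 : a = 1
    · subst ha1; simp
    by_cases hb1 : b = 1
    · subst hb1; simp
    exact hct a x b ha1 hx hb1 ha hb.symm
  have h1 : commutator G = ⊥ := by
    rcases simple_of (commutator G) inferInstance with h | h
    · exact h
    · exact absurd h (Group.IsSolvable.commutator_lt_top_of_nontrivial G).ne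
  obtain ⟨a, b, hab⟩ := hna
  refine hab (commutatorElement_eq_one_iff_mul_comm.1 (Subgroup.mem_bot.1 (h1 ▸ ?_)))
  exact Subgroup.commutator_mem_commutator (Subgroup.mem_top a) (Subgroup.mem_top b)

variable {A : Subgroup G} (hC : Ctx A)

include hC

theorem exists_sylow_le : ∃ T : Sylow 2 G, (T : Subgroup G) ≤ A := by
  classical
  haveI : Fact (Nat.Prime 2) := ⟨Nat.prime_two⟩
  obtain ⟨t, htt, ht1, hA⟩ := hC.cent
  have hp : IsPGroup 2 (Subgroup.zpowers t) := IsPGroup.of_card (n := 1) (by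
    rw [Nat.card_zpowers, pow_one]; exact orderOf_eq_prime (by rw [sq]; exact htt) ht1)
  obtain ⟨T, hT⟩ := hp.exists_le_sylow
  refine ⟨T, fun x hx => ?_⟩
  have htT := hT (Subgroup.mem_zpowers t)
  haveI : Nontrivial (T : Subgroup G) := ⟨⟨t, htT⟩, 1, fun e => ht1 (congrArg Subtype.val e)⟩
  haveI := T.isPGroup'.center_nontrivial
  obtain ⟨⟨z, hz⟩, hz1⟩ := exists_ne (1 : Subgroup.center (T : Subgroup G))
  have hzc : ∀ y : (T : Subgroup G), (y : G) * z = z * y := fun y =>
    congrArg Subtype.val (Subgroup.mem_center_iff.1 hz y)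
  have hzA : (z : G) ∈ A := (hA _).2 (hzc ⟨t, htT⟩).symm
  exact cent_A hC hzA (fun e => hz1 (Subtype.ext (Subtype.ext e))) (hzc ⟨x, hx⟩)

theorem two_le_inv : 2 ≤ Nat.card (Inv A) := by
  classical
  haveI : Fact (Nat.Prime 2) := ⟨Nat.prime_two⟩
  obtain ⟨t, htt, ht1, hA⟩ := hC.cent
  by_contra hlt
  haveI hne : Nonempty (Inv A) := ⟨⟨t, (hA t).2 rfl, htt, ht1⟩⟩
  have hm1 : Nat.card (Inv A) = 1 := by have := Nat.card_pos (α := Inv A); omega
  haveI := (Nat.card_eq_one_iff_unique.1 hm1).1
  have hHA : Hn A ≤ A := by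
    have hHcard : Nat.card (Hn A) ≤ Nat.card A := by rw [card_H hC, hm1, mul_one]
    exact (Subgroup.eq_of_le_of_card_ge A_le hHcard).ge
  obtain ⟨T, hTA⟩ := exists_sylow_le hC
  have hT0 : (T : Subgroup G) ≠ ⊥ := fun e => by
    have h2 : 2 ∣ Nat.card (T : Subgroup G) := by
      refine T.dvd_card_of_dvd_card ?_
      rw [← orderOf_eq_prime (p := 2) (by rw [sq]; exact htt) ht1]
      exact orderOf_dvd_natCard t
    rw [e, Subgroup.card_bot] at h2
    omega
  have hNC : Subgroup.normalizer ((T : Subgroup G) : Set G) ≤ Subgroup.centralizer ((T : Subgroup G) : Set G) := by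
    intro g hg
    obtain ⟨a, ha, ha1⟩ : ∃ a ∈ (T : Subgroup G), a ≠ 1 := by
      by_contra hno
      push Not at hno
      exact hT0 ((Subgroup.eq_bot_iff_forall _).2 hno)
    have hgA : g ∈ A := hHA (ti hC (hTA ha) ha1 (hTA ((Subgroup.mem_normalizer_iff.1 hg a).1 ha)))
    exact Subgroup.mem_centralizer_iff.2 fun x hx => comm hC (hTA hx) hgA
  have hK := MonoidHom.ker_transferSylow_isComplement' T hNC
  rcases hC.simple (MonoidHom.transferSylow T hNC).ker inferInstance with h | h
  · rw [h, Subgroup.isComplement'_bot_left] at hK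
    exact A_ne_top hC (eq_top_iff.2 (hK ▸ hTA))
  · rw [h, Subgroup.isComplement'_top_left] at hK
    exact hT0 hK

/-- The action on the cosets of `N(A)` is a Zassenhaus action. -/
theorem zassenhaus {u : G} (huu : u * u = 1) (huH : u ∉ Hn A) : IsZassenhausGroup G (G ⧸ Hn A) := by
  classical
  have hm2 := two_le_inv hC
  have fix_base : ∀ g : G, g • (QuotientGroup.mk 1 : G ⧸ Hn A) = QuotientGroup.mk 1 ↔ g ∈ Hn A := fun g => by
    rw [MulAction.Quotient.smul_mk, smul_eq_mul, mul_one, QuotientGroup.eq]; simp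
  have mk_tu : ∀ x : G ⧸ Hn A, x ≠ QuotientGroup.mk 1 → ∃ t ∈ A, (QuotientGroup.mk (t * u) : G ⧸ Hn A) = x := by
    intro x hx
    obtain ⟨g, rfl⟩ := QuotientGroup.mk_surjective x
    obtain ⟨t, ht, e⟩ := bruhat hC huu huH hm2 (g := g) fun hg => hx (QuotientGroup.eq.2 (by simpa using hg))
    exact ⟨t, ht, QuotientGroup.eq.2 e⟩
  have hsimp := hC.simple
  obtain ⟨d₀, hd₀, hd₀1⟩ := exists_D_ne_one hC huu huH hm2
  have hfix₀ : d₀ • (QuotientGroup.mk u : G ⧸ Hn A) = QuotientGroup.mk u := by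
    rw [MulAction.Quotient.smul_mk, smul_eq_mul, QuotientGroup.eq, mul_inv_rev]
    have := inv_mem (mem_Dg.1 hd₀).2
    simpa [mul_assoc] using this
  have hne : (QuotientGroup.mk 1 : G ⧸ Hn A) ≠ QuotientGroup.mk u := fun e => huH (by
    rw [QuotientGroup.eq] at e; simpa using e)
  -- standard position
  have std : ∀ x y : G ⧸ Hn A, x ≠ y → ∃ g : G, g • x = QuotientGroup.mk 1 ∧ g • y = QuotientGroup.mk u := by
    intro x y hxy
    obtain ⟨a, rfl⟩ := QuotientGroup.mk_surjective x
    have ha : a⁻¹ • (QuotientGroup.mk a : G ⧸ Hn A) = QuotientGroup.mk 1 := by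
      rw [MulAction.Quotient.smul_mk, smul_eq_mul, inv_mul_cancel]
    obtain ⟨t, ht, e2⟩ := mk_tu (a⁻¹ • y) fun e => hxy (MulAction.injective a⁻¹ (ha.trans e.symm))
    refine ⟨t⁻¹ * a⁻¹, ?_, ?_⟩
    · rw [mul_smul, ha, fix_base]; exact inv_mem (A_le ht)
    · rw [mul_smul, ← e2, MulAction.Quotient.smul_mk, smul_eq_mul, inv_mul_cancel_left]
  refine ⟨⟨fun {g g'} hgg => ?_⟩, ?_, ?_, ⟨d₀, hd₀1, _, _, hne, (fix_base d₀).2 (mem_Dg.1 hd₀).1, hfix₀⟩, ?_⟩
  · rcases hsimp (Hn A).normalCore inferInstance with h | h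
    · have hmem : g⁻¹ * g' ∈ (Hn A).normalCore := fun b => by
        have e := hgg (QuotientGroup.mk b⁻¹)
        rw [MulAction.Quotient.smul_mk, MulAction.Quotient.smul_mk, smul_eq_mul, smul_eq_mul, QuotientGroup.eq] at e
        rwa [show (g * b⁻¹)⁻¹ * (g' * b⁻¹) = b * (g⁻¹ * g') * b⁻¹ by group] at e
      rw [h, Subgroup.mem_bot, inv_mul_eq_one] at hmem
      exact hmem
    · exact absurd (eq_top_iff.2 (h ▸ Subgroup.normalCore_le _)) (H_ne_top hC)
  · rw [MulAction.is_two_pretransitive_iff]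
    intro a b c d hab hcd
    obtain ⟨g, g1, g2⟩ := std a b hab
    obtain ⟨k, k1, k2⟩ := std c d hcd
    exact ⟨k⁻¹ * g, by rw [mul_smul, g1, ← k1, inv_smul_smul], by rw [mul_smul, g2, ← k2, inv_smul_smul]⟩
  · intro g a b c hab hbc hac ga gb gc
    obtain ⟨k, k1, k2⟩ := std a b hab
    have hk : ∀ x : G ⧸ Hn A, g • x = x → (k * g * k⁻¹) • (k • x) = k • x := fun x e => by
      rw [← mul_smul, inv_mul_cancel_right, mul_smul, e]
    obtain ⟨d, hd⟩ : ∃ d, d = k * g * k⁻¹ := ⟨_, rfl⟩
    have e1 := hk a ga; rw [k1, ← hd] at e1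
    have e2 := hk b gb; rw [k2, ← hd] at e2
    have e3 := hk c gc; rw [← hd] at e3
    obtain ⟨t, ht, e4⟩ := mk_tu (k • c) fun e => hac (MulAction.injective k (k1.trans e.symm))
    have hdD : d ∈ Dg A u := mem_Dg.2 ⟨(fix_base d).1 e1, by
      rw [MulAction.Quotient.smul_mk, smul_eq_mul, QuotientGroup.eq] at e2
      have := inv_mem e2
      simpa [mul_assoc] using this⟩
    have ht1 : t ≠ 1 := fun e => hbc (MulAction.injective k (by
      show k • b = k • c
      rw [k2, ← e4, e, one_mul]))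
    have hdt : d * t * d⁻¹ = t := by
      refine free hC huu huH (conj_A (mem_Dg.1 hdD).1 ht) ht ?_
      rw [← e4, MulAction.Quotient.smul_mk, smul_eq_mul, QuotientGroup.eq] at e3
      have h1 := mul_mem (mem_Dg.1 hdD).2 (inv_mem (inv_mem e3))
      have h2 : (d * t * d⁻¹ * u)⁻¹ * (t * u) = u⁻¹ * d * u * ((d * (t * u))⁻¹ * (t * u)) := by group
      rw [h2]
      exact mul_mem (mem_Dg.1 hdD).2 e3
    have hd1 := Dg_A hC huH hdD (cent_A hC ht ht1 (mul_inv_eq_iff_eq_mul.1 hdt))
    rw [hd1] at hd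
    simpa using hd.symm
  · intro N hN htr
    rcases hsimp N hN with h | h
    · exfalso
      obtain ⟨⟨g, hg⟩, hgx⟩ := htr.exists_smul_eq (QuotientGroup.mk 1 : G ⧸ Hn A) (QuotientGroup.mk u)
      rw [h, Subgroup.mem_bot] at hg
      subst hg
      exact hne (by simpa [Subgroup.smul_def] using hgx)
    · refine ⟨QuotientGroup.mk 1, fun hb => hd₀1 ?_⟩
      have hdN : d₀ ∈ N := h ▸ Subgroup.mem_top d₀
      have hm : (⟨d₀, hdN⟩ : N) ∈ MulAction.stabilizer N (QuotientGroup.mk 1 : G ⧸ Hn A) :=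
        MulAction.mem_stabilizer_iff.2 ((fix_base d₀).2 (mem_Dg.1 hd₀).1)
      have h1 : (⟨d₀, hdN⟩ : N) = 1 := Subgroup.mem_bot.1 ((le_of_eq hb) hm)
      exact congrArg Subtype.val h1

theorem odd_inv : Odd (Nat.card (Inv A)) := by
  classical
  obtain ⟨u, huu, huH⟩ := exists_invol_outside hC
  haveI : Fact (Nat.Prime 2) := ⟨Nat.prime_two⟩
  rw [← card_D hC huu huH, Nat.odd_iff, ← Nat.two_dvd_ne_zero]
  intro hd
  obtain ⟨⟨x, hx⟩, hxo⟩ := exists_prime_orderOf_dvd_card' 2 hd
  rw [Subgroup.orderOf_mk] at hxo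
  have := Dg_no_invol hC huH hx (by rw [← sq, ← hxo]; exact pow_orderOf_eq_one x)
  rw [this, orderOf_one] at hxo
  omega

/-- The centralizer of an involution is elementary abelian. -/
theorem elementary : ∀ c ∈ A, c * c = 1 := by
  classical
  obtain ⟨u, huu, huH⟩ := exists_invol_outside hC
  have hm2 := two_le_inv hC
  letI : Fintype (G ⧸ Hn A) := Fintype.ofFinite _
  have fix_base : ∀ g : G, g • (QuotientGroup.mk 1 : G ⧸ Hn A) = QuotientGroup.mk 1 ↔ g ∈ Hn A := fun g => by
    rw [MulAction.Quotient.smul_mk, smul_eq_mul, mul_one, QuotientGroup.eq]; simp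
  have hne : (QuotientGroup.mk 1 : G ⧸ Hn A) ≠ QuotientGroup.mk u := fun e => huH (by
    rw [QuotientGroup.eq] at e; simpa using e)
  have hstab : MulAction.stabilizer G (QuotientGroup.mk 1 : G ⧸ Hn A) ⊓
      MulAction.stabilizer G (QuotientGroup.mk u : G ⧸ Hn A) = Dg A u := by
    ext g
    rw [Subgroup.mem_inf, MulAction.mem_stabilizer_iff, MulAction.mem_stabilizer_iff, fix_base, mem_Dg,
      MulAction.Quotient.smul_mk, smul_eq_mul, QuotientGroup.eq]
    refine and_congr_right fun _ => ?_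
    rw [← inv_mem_iff (x := u⁻¹ * g * u)]
    simp [mul_assoc]
  have hcard : Nat.card A + 1 = Fintype.card (G ⧸ Hn A) := by
    have e : Option A ≃ G ⧸ Hn A := by
      refine Equiv.ofBijective (fun o => o.elim (QuotientGroup.mk 1) fun t => QuotientGroup.mk ((t : G) * u)) ⟨?_, ?_⟩
      · rintro (_ | ⟨t, ht⟩) (_ | ⟨t', ht'⟩) h
        · rfl
        · exact absurd (by simpa using mul_mem (inv_mem (A_le ht')) (QuotientGroup.eq.1 h)) huH
        · exfalso
          have := inv_mem (QuotientGroup.eq.1 h)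
          exact huH (by simpa using mul_mem (inv_mem (A_le ht)) this)
        · exact congrArg some (Subtype.ext (free hC huu huH ht ht' (QuotientGroup.eq.1 h)))
      · intro x
        obtain ⟨g, rfl⟩ := QuotientGroup.mk_surjective x
        by_cases hg : g ∈ Hn A
        · exact ⟨none, QuotientGroup.eq.2 (by simpa using hg)⟩
        · obtain ⟨t, ht, e⟩ := bruhat hC huu huH hm2 hg
          exact ⟨some ⟨t, ht⟩, QuotientGroup.eq.2 e⟩
    rw [← Nat.card_eq_fintype_card, ← Nat.card_congr e, Finite.card_option]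
  rcases S0885.result (zassenhaus hC huu huH) hne (Nat.card A) (Nat.card (Inv A)) hcard.symm
      (by rw [hstab, card_D hC huu huH]) (odd_inv hC) A (fun a ha => (fix_base a).2 (A_le ha)) hcard
      (fun a ha ha1 c hc => by
        by_contra hc1
        obtain ⟨g, rfl⟩ := QuotientGroup.mk_surjective c
        obtain ⟨t, ht, e⟩ := bruhat hC huu huH hm2 (g := g) fun hg => hc1 (QuotientGroup.eq.2 (by simpa using hg))
        rw [← QuotientGroup.eq.2 e, MulAction.Quotient.smul_mk, smul_eq_mul, ← mul_assoc, QuotientGroup.eq] at hc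
        have h1 := free hC huu huH (mul_mem ha ht) ht hc
        exact ha1 (mul_eq_right.1 h1)) with h | h
  · let K : Subgroup G := { carrier := {a | a ∈ A ∧ a * a = 1}
                            one_mem' := ⟨one_mem A, mul_one 1⟩
                            mul_mem' := fun {a b} ha hb => ⟨mul_mem ha.1 hb.1, by
                              rw [show a * b * (a * b) = a * (b * a) * b by group, comm hC hb.1 ha.1,
                                show a * (a * b) * b = (a * a) * (b * b) by group, ha.2, hb.2, one_mul]⟩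
                            inv_mem' := fun {a} ha => ⟨inv_mem ha.1, by rw [← mul_inv_rev, ha.2, inv_one]⟩ }
    have hK : Nat.card K = Nat.card (Inv A) + 1 := by
      have e : Option (Inv A) ≃ K := by
        refine Equiv.ofBijective (fun o => o.elim 1 fun s => ⟨s.1, s.2.1, s.2.2.1⟩) ⟨?_, ?_⟩
        · rintro (_ | s) (_ | s') h
          · rfl
          · exact absurd (congrArg Subtype.val h).symm s'.2.2.2
          · exact absurd (congrArg Subtype.val h) s.2.2.2
          · exact congrArg some (Subtype.ext (congrArg (fun z : K => (z : G)) h))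
        · rintro ⟨a, ha⟩
          by_cases ha1 : a = 1
          · exact ⟨none, Subtype.ext ha1.symm⟩
          · exact ⟨some ⟨a, ha.1, ha.2, ha1⟩, rfl⟩
      rw [← Nat.card_congr e, Finite.card_option]
    have hle : K ≤ A := fun a ha => ha.1
    intro c hc
    by_contra hcc
    obtain ⟨j, hj⟩ := Subgroup.card_dvd_of_le hle
    have hj2 : 2 ≤ j := by
      by_contra hj2
      have hpos := Nat.card_pos (α := A)
      have : j = 1 := by
        rcases j with _ | _ | j
        · rw [mul_zero] at hj; omega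
        · rfl
        · omega
      rw [this, mul_one] at hj
      exact hcc ((Subgroup.eq_of_le_of_card_ge hle hj.le).ge hc).2
    have := Nat.mul_le_mul_left (Nat.card K) hj2
    rw [← hj, hK] at this
    omega
  · obtain ⟨-, ⟨⟨x, hx⟩, ⟨y, hy⟩, hxy⟩, -⟩ := h
    exact absurd (Subtype.ext (comm hC hx hy)) hxy

omit hC

/-- `SL₂` in characteristic two has transitive commuting, hence so does `PSL₂`. -/
theorem isCT_psl {F : Type*} [Field F] (h2 : (2 : F) = 0) :
    IsCT (Matrix.ProjectiveSpecialLinearGroup (Fin 2) F) := by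
  have hz : Subgroup.center (Matrix.SpecialLinearGroup (Fin 2) F) = ⊥ := by
    refine (Subgroup.eq_bot_iff_forall _).2 fun x hx => ?_
    obtain ⟨r, hr, hrx⟩ := Matrix.SpecialLinearGroup.mem_center_iff.1 hx
    rw [Fintype.card_fin] at hr
    have hr1 : r = 1 := by
      have : (r - 1) * (r - 1) = 0 := by linear_combination hr + (1 - r) * h2
      exact sub_eq_zero.1 (mul_self_eq_zero.1 this)
    subst hr1
    exact Subtype.ext (by rw [← hrx]; simp)
  intro a b c ha hb hc hab hbc
  obtain ⟨a, rfl⟩ := QuotientGroup.mk_surjective a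
  obtain ⟨b, rfl⟩ := QuotientGroup.mk_surjective b
  obtain ⟨c, rfl⟩ := QuotientGroup.mk_surjective c
  have lift : ∀ {x y : Matrix.SpecialLinearGroup (Fin 2) F},
      Commute (x : Matrix.ProjectiveSpecialLinearGroup (Fin 2) F) y → x * y = y * x := fun {x y} h => by
    have h' : ((x * y : Matrix.SpecialLinearGroup (Fin 2) F) : Matrix.ProjectiveSpecialLinearGroup (Fin 2) F) =
        ((y * x : Matrix.SpecialLinearGroup (Fin 2) F) : Matrix.ProjectiveSpecialLinearGroup (Fin 2) F) := h
    rw [QuotientGroup.eq, hz, Subgroup.mem_bot, inv_mul_eq_one] at h'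
    exact h'
  have hb' : ¬ (b.1 0 1 = 0 ∧ b.1 1 0 = 0 ∧ b.1 0 0 = b.1 1 1) := by
    rintro ⟨e1, e2, e3⟩
    refine hb ?_
    have hd := b.2
    rw [Matrix.det_fin_two, e1, e2, mul_zero, sub_zero, ← e3] at hd
    have e4 : b.1 0 0 = 1 := by
      have : (b.1 0 0 - 1) * (b.1 0 0 - 1) = 0 := by linear_combination hd + (1 - b.1 0 0) * h2
      exact sub_eq_zero.1 (mul_self_eq_zero.1 this)
    have : b = 1 := Subtype.ext (by
      ext i j; fin_cases i <;> fin_cases j <;> simp [e1, e2, e4, ← e3])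
    rw [this]; rfl
  have key : a * c = c * a := by
    have e := congrArg Subtype.val (lift hab)
    have f := congrArg Subtype.val (lift hbc)
    have ext4 := fun (M N : Matrix (Fin 2) (Fin 2) F) (h : M = N) =>
      (⟨congrFun (congrFun h 0) 0, congrFun (congrFun h 0) 1, congrFun (congrFun h 1) 0⟩ :
        M 0 0 = N 0 0 ∧ M 0 1 = N 0 1 ∧ M 1 0 = N 1 0)
    obtain ⟨e00, e01, e10⟩ := ext4 _ _ e
    obtain ⟨f00, f01, f10⟩ := ext4 _ _ f
    simp only [Matrix.SpecialLinearGroup.coe_mul, Matrix.mul_apply, Fin.sum_univ_two] at e00 e01 e10 f00 f01 f10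
    have g1 : a.1 0 1 * c.1 1 0 = a.1 1 0 * c.1 0 1 ∧
        (a.1 0 0 - a.1 1 1) * c.1 0 1 = a.1 0 1 * (c.1 0 0 - c.1 1 1) ∧
        (a.1 0 0 - a.1 1 1) * c.1 1 0 = a.1 1 0 * (c.1 0 0 - c.1 1 1) := by
      by_cases h01 : b.1 0 1 = 0
      · by_cases h10 : b.1 1 0 = 0
        · have hdd : b.1 0 0 - b.1 1 1 ≠ 0 := fun h => hb' ⟨h01, h10, sub_eq_zero.1 h⟩
          have a01 : a.1 0 1 = 0 := by
            refine (mul_eq_zero.1 (show (b.1 0 0 - b.1 1 1) * a.1 0 1 = 0 by
              linear_combination (-1 : F) * e01 + (a.1 0 0 - a.1 1 1) * h01)).resolve_left hdd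
          have a10 : a.1 1 0 = 0 := by
            refine (mul_eq_zero.1 (show (b.1 0 0 - b.1 1 1) * a.1 1 0 = 0 by
              linear_combination e10 + (a.1 0 0 - a.1 1 1) * h10)).resolve_left hdd
          have c01 : c.1 0 1 = 0 := by
            refine (mul_eq_zero.1 (show (b.1 0 0 - b.1 1 1) * c.1 0 1 = 0 by
              linear_combination f01 + (c.1 0 0 - c.1 1 1) * h01)).resolve_left hdd
          have c10 : c.1 1 0 = 0 := by
            refine (mul_eq_zero.1 (show (b.1 0 0 - b.1 1 1) * c.1 1 0 = 0 by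
              linear_combination (-1 : F) * f10 + (c.1 0 0 - c.1 1 1) * h10)).resolve_left hdd
          refine ⟨?_, ?_, ?_⟩ <;> simp [a01, a10, c01, c10]
        · have g1 : a.1 0 1 * c.1 1 0 = a.1 1 0 * c.1 0 1 :=
            mul_left_cancel₀ h10 (by linear_combination (c.1 1 0) * e00 + (a.1 1 0) * f00)
          refine ⟨g1, ?_, ?_⟩
          · exact mul_left_cancel₀ h10 (by linear_combination (-c.1 0 1) * e10 - (a.1 0 1) * f10
              - (b.1 0 0 - b.1 1 1) * g1)
          · exact mul_left_cancel₀ h10 (by linear_combination (-c.1 1 0) * e10 - (a.1 1 0) * f10)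
      · have g1 : a.1 0 1 * c.1 1 0 = a.1 1 0 * c.1 0 1 :=
          mul_left_cancel₀ h01 (by linear_combination (c.1 0 1) * e00 + (a.1 0 1) * f00)
        refine ⟨g1, ?_, ?_⟩
        · exact mul_left_cancel₀ h01 (by linear_combination (c.1 0 1) * e01 + (a.1 0 1) * f01)
        · exact mul_left_cancel₀ h01 (by linear_combination (c.1 1 0) * e01 + (a.1 1 0) * f01
            + (b.1 0 0 - b.1 1 1) * g1)
    obtain ⟨g1, g2, g3⟩ := g1
    refine Subtype.ext ?_
    ext i j
    fin_cases i <;> fin_cases j <;>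
      simp only [Matrix.SpecialLinearGroup.coe_mul, Matrix.mul_apply, Fin.sum_univ_two, Fin.zero_eta, Fin.mk_one,
        Fin.isValue]
    · linear_combination g1
    · linear_combination g2
    · linear_combination (-1 : F) * g3
    · linear_combination (-1 : F) * g1
  exact Commute.map (show Commute a c from key) (QuotientGroup.mk' _)

end Cfsg.Agent.Classical.CT
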