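/-
Stabilisers of the coordinate subspaces in GL_n: order, the inverse-transpose isomorphism, non-conjugacy.
-/
import Mathlib
import Cfsg.Agent.Lib.Classical.LinBasic
import Cfsg.Agent.Lib.Small.Flags.Count
import Cfsg.Prelude.Def_ClassicalGeometry

set_option autoImplicit false

namespace Cfsg.Agent.Classical.Coord

open Matrix

variable {n : ℕ} {F : Type*} [Field F]

/-- The coordinate subspace of the first `k` coordinates. -/
def W (n : ℕ) (F : Type*) [Field F] (k : ℕ) : Submodule F (Fin n → F) where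
  carrier := {v | ∀ i : Fin n, k ≤ (i : ℕ) → v i = 0}
  add_mem' ha hb i hi := by simp [ha i hi, hb i hi]
  zero_mem' _ _ := rfl
  smul_mem' c v hv i hi := by simp [hv i hi]

theorem mem_W {k : ℕ} {v : Fin n → F} : v ∈ W n F k ↔ ∀ i : Fin n, k ≤ (i : ℕ) → v i = 0 := Iff.rfl

/-- The block label. -/
def lab (k : ℕ) (i : Fin n) : Bool := decide (k ≤ (i : ℕ))

theorem lab_lt {k : ℕ} {i j : Fin n} : lab k i < lab k j ↔ (i : ℕ) < k ∧ k ≤ (j : ℕ) := by
  simp [lab, Bool.lt_iff]

theorem mulVec_mem {k : ℕ} {M : Matrix (Fin n) (Fin n) F} (hM : M.BlockTriangular (lab k))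
    {v : Fin n → F} (hv : v ∈ W n F k) : M *ᵥ v ∈ W n F k := by
  intro i hi
  change ∑ j, M i j * v j = 0
  refine Finset.sum_eq_zero fun j _ => ?_
  by_cases hj : k ≤ (j : ℕ)
  · rw [hv j hj, mul_zero]
  · rw [hM (lab_lt.mpr ⟨Nat.lt_of_not_le hj, hi⟩), zero_mul]

theorem mem_stab {k : ℕ} {g : GL (Fin n) F} :
    g ∈ Cfsg.stabilizing (Cfsg.glToMat (Fin n) F) {v : Fin n → F | ∀ i : Fin n, k ≤ (i : ℕ) → v i = 0} ↔
      (g : Matrix (Fin n) (Fin n) F).BlockTriangular (lab k) := by
  constructor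
  · intro h i j hij
    obtain ⟨hj, hi⟩ := lab_lt.mp hij
    have hs : (Pi.single j (1 : F) : Fin n → F) ∈ W n F k := fun l hl => by
      have : l ≠ j := fun e => by subst e; omega
      simp [this]
    have := (h _).mp hs i hi
    simpa using this
  · intro h v
    refine ⟨fun hv => mulVec_mem h hv, fun hv => ?_⟩
    have hinv : ((g⁻¹ : GL (Fin n) F) : Matrix (Fin n) (Fin n) F).BlockTriangular (lab k) := by
      have : Invertible (g : Matrix (Fin n) (Fin n) F) := g.invertible
      rw [Matrix.coe_units_inv]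
      exact Matrix.blockTriangular_inv_of_blockTriangular h
    have := mulVec_mem hinv (v := (g : Matrix (Fin n) (Fin n) F) *ᵥ v) hv
    rwa [show ((g⁻¹ : GL (Fin n) F) : Matrix (Fin n) (Fin n) F) *ᵥ
      ((g : Matrix (Fin n) (Fin n) F) *ᵥ v) = v from gl_inv_mulVec_cancel g v] at this

theorem card_stab [Fintype F] (k : ℕ) (hk : k ≤ n) :
    Nat.card ↥(Cfsg.stabilizing (Cfsg.glToMat (Fin n) F) {v : Fin n → F | ∀ i : Fin n, k ≤ (i : ℕ) → v i = 0}) =
      Fintype.card F ^ (k * (n - k)) *
        (∏ i : Fin k, (Fintype.card F ^ k - Fintype.card F ^ (i : ℕ))) *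
        ∏ i : Fin (n - k), (Fintype.card F ^ (n - k) - Fintype.card F ^ (i : ℕ)) := by
  classical
  have hdet : ∀ M : Matrix (Fin n) (Fin n) F, M.BlockTriangular (lab k) →
      (M.det ≠ 0 ↔ ∀ b, (M.toSquareBlock (lab k) b).det ≠ 0) := by
    intro M hM
    rw [hM.det, Finset.prod_ne_zero_iff]
    refine ⟨fun h b => ?_, fun h b _ => h b⟩
    by_cases hb : b ∈ Finset.univ.image (lab (n := n) k)
    · exact h b hb
    · have : IsEmpty {a : Fin n // lab k a = b} := ⟨fun a => hb (by
        rw [← a.2]; exact Finset.mem_image_of_mem _ (Finset.mem_univ _))⟩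
      rw [Matrix.det_isEmpty]
      exact one_ne_zero
  let mk : (∀ b, GL {a : Fin n // lab k a = b} F) ×
      ({p : Fin n × Fin n // lab k p.1 < lab k p.2} → F) → Matrix (Fin n) (Fin n) F := fun x =>
    Matrix.of fun i j => if h : lab k j = lab k i then (x.1 (lab k i)).val ⟨i, rfl⟩ ⟨j, h⟩
      else if h' : lab k i < lab k j then x.2 ⟨(i, j), h'⟩ else 0
  have hmk : ∀ x, (mk x).BlockTriangular (lab k) := by
    intro x i j hij
    simp [mk, hij.ne, not_lt.mpr hij.le]
  have hblock : ∀ x b, (mk x).toSquareBlock (lab k) b = (x.1 b).val := by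
    intro x b
    ext a c
    obtain ⟨a, rfl⟩ := a
    simp [mk, Matrix.toSquareBlock_def, c.2]
  let e : ↥(Cfsg.stabilizing (Cfsg.glToMat (Fin n) F) {v : Fin n → F | ∀ i : Fin n, k ≤ (i : ℕ) → v i = 0}) ≃
      (∀ b, GL {a : Fin n // lab k a = b} F) × ({p : Fin n × Fin n // lab k p.1 < lab k p.2} → F) :=
    { toFun := fun g => (fun b => Matrix.GeneralLinearGroup.mkOfDetNeZero
          (g.1.val.toSquareBlock (lab k) b)
          ((hdet _ (mem_stab.mp g.2)).mp (Matrix.GeneralLinearGroup.det_ne_zero g.1) b),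
        fun p => g.1.val p.1.1 p.1.2)
      invFun := fun x => ⟨Matrix.GeneralLinearGroup.mkOfDetNeZero (mk x)
          ((hdet _ (hmk x)).mpr fun b => by
            rw [hblock]; exact Matrix.GeneralLinearGroup.det_ne_zero _),
        mem_stab.mpr (hmk x)⟩
      left_inv := fun g => by
        apply Subtype.ext
        apply Units.ext
        ext i j
        change mk _ i j = _
        simp only [mk, Matrix.of_apply]
        split_ifs with h h'
        · rfl
        · rfl
        · exact (mem_stab.mp g.2 (lt_of_le_of_ne (not_lt.mp h') h)).symm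
      right_inv := fun x => by
        refine Prod.ext (funext fun b => Units.ext (hblock x b)) (funext fun p => ?_)
        change mk x p.1.1 p.1.2 = _
        simp [mk, p.2.ne', p.2] }
  have hlow : Fintype.card {a : Fin n // lab k a = false} = k := by
    rw [← Fintype.card_congr (Equiv.subtypeEquivRight (p := fun a : Fin n => (a : ℕ) < k)
      (q := fun a : Fin n => lab k a = false) fun a => by simp [lab])]
    exact Fintype.card_fin_lt_of_le hk
  have hhigh : Fintype.card {a : Fin n // lab k a = true} = n - k := by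
    rw [← Fintype.card_congr (Equiv.subtypeEquivRight (p := fun a : Fin n => ¬ (a : ℕ) < k)
      (q := fun a : Fin n => lab k a = true) fun a => by simp [lab]),
      Fintype.card_subtype_compl, Fintype.card_fin, Fintype.card_fin_lt_of_le hk]
  have hpairs : Nat.card {p : Fin n × Fin n // lab k p.1 < lab k p.2} = k * (n - k) := by
    let e' : {p : Fin n × Fin n // lab k p.1 < lab k p.2} ≃
        {a : Fin n // lab k a = false} × {a : Fin n // lab k a = true} :=
      { toFun := fun p => (⟨p.1.1, (Bool.lt_iff.mp p.2).1⟩, ⟨p.1.2, (Bool.lt_iff.mp p.2).2⟩)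
        invFun := fun x => ⟨(x.1.1, x.2.1), Bool.lt_iff.mpr ⟨x.1.2, x.2.2⟩⟩
        left_inv := fun _ => rfl
        right_inv := fun _ => rfl }
    rw [Nat.card_congr e']
    rw [Nat.card_prod, Nat.card_eq_fintype_card, Nat.card_eq_fintype_card, hlow, hhigh]
  rw [Nat.card_congr e, Nat.card_prod, Nat.card_pi, Nat.card_fun, hpairs, Fintype.prod_bool,
    Cfsg.Agent.Small.Flags.card_GL_type, Cfsg.Agent.Small.Flags.card_GL_type, hlow, hhigh,
    ← Cfsg.Agent.Small.Flags.prod_pow_sub, ← Cfsg.Agent.Small.Flags.prod_pow_sub,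
    Fin.prod_univ_eq_prod_range (fun i => Fintype.card F ^ k - Fintype.card F ^ i),
    Fin.prod_univ_eq_prod_range (fun i => Fintype.card F ^ (n - k) - Fintype.card F ^ i),
    Nat.card_eq_fintype_card]
  ring

theorem rev_mul (A B : Matrix (Fin n) (Fin n) F) :
    A.submatrix Fin.rev Fin.rev * B.submatrix Fin.rev Fin.rev = (A * B).submatrix Fin.rev Fin.rev :=
  Matrix.submatrix_mul_equiv A B Fin.rev Fin.revPerm Fin.rev

/-- Inverse transpose conjugated by the reversal permutation. -/
def rho (n : ℕ) (F : Type*) [Field F] : GL (Fin n) F ≃* GL (Fin n) F where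
  toFun g := ⟨((g⁻¹ : GL (Fin n) F) : Matrix (Fin n) (Fin n) F)ᵀ.submatrix Fin.rev Fin.rev,
    (g : Matrix (Fin n) (Fin n) F)ᵀ.submatrix Fin.rev Fin.rev,
    by rw [rev_mul,
      ← Matrix.transpose_mul, ← Units.val_mul, mul_inv_cancel, Units.val_one, Matrix.transpose_one,
      Matrix.submatrix_one _ Fin.rev_injective],
    by rw [rev_mul,
      ← Matrix.transpose_mul, ← Units.val_mul, inv_mul_cancel, Units.val_one, Matrix.transpose_one,
      Matrix.submatrix_one _ Fin.rev_injective]⟩
  invFun g := ⟨((g⁻¹ : GL (Fin n) F) : Matrix (Fin n) (Fin n) F)ᵀ.submatrix Fin.rev Fin.rev,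
    (g : Matrix (Fin n) (Fin n) F)ᵀ.submatrix Fin.rev Fin.rev,
    by rw [rev_mul,
      ← Matrix.transpose_mul, ← Units.val_mul, mul_inv_cancel, Units.val_one, Matrix.transpose_one,
      Matrix.submatrix_one _ Fin.rev_injective],
    by rw [rev_mul,
      ← Matrix.transpose_mul, ← Units.val_mul, inv_mul_cancel, Units.val_one, Matrix.transpose_one,
      Matrix.submatrix_one _ Fin.rev_injective]⟩
  left_inv g := by apply Units.ext; ext i j; simp
  right_inv g := by apply Units.ext; ext i j; simp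
  map_mul' g h := by
    apply Units.ext
    change ((g * h)⁻¹ : GL (Fin n) F).valᵀ.submatrix Fin.rev Fin.rev =
      (g⁻¹ : GL (Fin n) F).valᵀ.submatrix Fin.rev Fin.rev * (h⁻¹ : GL (Fin n) F).valᵀ.submatrix Fin.rev Fin.rev
    rw [_root_.mul_inv_rev, Units.val_mul, Matrix.transpose_mul]
    exact (rev_mul _ _).symm

theorem rho_mem {k : ℕ} (hk : k ≤ n) {g : GL (Fin n) F}
    (hg : (g : Matrix (Fin n) (Fin n) F).BlockTriangular (lab k)) :
    (rho n F g : Matrix (Fin n) (Fin n) F).BlockTriangular (lab (n - k)) := by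
  have hinv : ((g⁻¹ : GL (Fin n) F) : Matrix (Fin n) (Fin n) F).BlockTriangular (lab k) := by
    have : Invertible (g : Matrix (Fin n) (Fin n) F) := g.invertible
    rw [Matrix.coe_units_inv]
    exact Matrix.blockTriangular_inv_of_blockTriangular hg
  intro i j hij
  obtain ⟨hj, hi⟩ := lab_lt.mp hij
  change ((g⁻¹ : GL (Fin n) F) : Matrix (Fin n) (Fin n) F) (Fin.rev j) (Fin.rev i) = 0
  refine hinv (lab_lt.mpr ⟨?_, ?_⟩) <;> (simp only [Fin.val_rev]; omega)

theorem map_rho {k : ℕ} (hk : k ≤ n) :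
    (Cfsg.stabilizing (Cfsg.glToMat (Fin n) F) {v : Fin n → F | ∀ i : Fin n, k ≤ (i : ℕ) → v i = 0}).map
      (rho n F).toMonoidHom =
    Cfsg.stabilizing (Cfsg.glToMat (Fin n) F) {v : Fin n → F | ∀ i : Fin n, n - k ≤ (i : ℕ) → v i = 0} := by
  refine le_antisymm ?_ fun g hg => ?_
  · rintro _ ⟨g, hg, rfl⟩
    exact mem_stab.mpr (rho_mem hk (mem_stab.mp hg))
  · refine ⟨(rho n F).symm g, ?_, (rho n F).apply_symm_apply g⟩
    refine mem_stab.mpr ?_
    have := rho_mem (Nat.sub_le n k) (mem_stab.mp hg)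
    rwa [Nat.sub_sub_self hk] at this

/-- A subspace invariant under the stabiliser of `W j` is trivial, `W j` or everything. -/
theorem invariant_eq {j : ℕ} {U : Submodule F (Fin n → F)}
    (hU : ∀ g : GL (Fin n) F, (g : Matrix (Fin n) (Fin n) F).BlockTriangular (lab j) →
      ∀ u ∈ U, (g : Matrix (Fin n) (Fin n) F) *ᵥ u ∈ U) (hU0 : U ≠ ⊥) :
    U = W n F j ∨ U = ⊤ := by
  classical
  have key : ∀ u ∈ U, ∀ l, u l ≠ 0 → ∀ i, i ≠ l → ¬ ((l : ℕ) < j ∧ j ≤ (i : ℕ)) →
      (Pi.single i (1 : F) : Fin n → F) ∈ U := by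
    intro u hu l hl i hil hij
    have htri : (transGL hil (1 : F) : Matrix (Fin n) (Fin n) F).BlockTriangular (lab j) := by
      rw [transGL_coe]
      intro a b hab
      have hab' := lab_lt.mp hab
      have h1 : a ≠ b := fun e => by subst e; omega
      have h2 : ¬ (a = i ∧ b = l) := fun e => by
        obtain ⟨rfl, rfl⟩ := e; exact hij hab'
      simp [Matrix.transvection, Matrix.one_apply_ne h1, Matrix.single_apply]
      intro e1 e2
      exact absurd ⟨e1.symm, e2.symm⟩ h2
    have h := hU _ htri u hu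
    rw [transGL_mulVec] at h
    have h' := U.smul_mem (u l)⁻¹ (U.sub_mem h hu)
    simpa [smul_smul, hl, ← Pi.single_smul] using h'
  have full : ∀ u ∈ U, ∀ l, u l ≠ 0 → (∀ i, u i ≠ 0 → ¬ ((l : ℕ) < j ∧ j ≤ (i : ℕ))) →
      (Pi.single l (1 : F) : Fin n → F) ∈ U := by
    intro u hu l hl hsupp
    have hsum : ∑ i ∈ Finset.univ.erase l, Pi.single i (u i) ∈ U := by
      refine U.sum_mem fun i hi => ?_
      by_cases h0 : u i = 0
      · rw [h0, Pi.single_zero]; exact U.zero_mem
      · rw [show Pi.single i (u i) = u i • (Pi.single i (1 : F) : Fin n → F) by simp [← Pi.single_smul]]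
        exact U.smul_mem _ (key u hu l hl i (Finset.ne_of_mem_erase hi) (hsupp i h0))
    have h := U.sub_mem hu hsum
    have e : u - ∑ i ∈ Finset.univ.erase l, Pi.single i (u i) = Pi.single l (u l) := by
      conv_lhs => enter [1]; rw [← Finset.univ_sum_single u, ← Finset.add_sum_erase _ _ (Finset.mem_univ l)]
      abel
    rw [e] at h
    simpa [← Pi.single_smul, hl] using U.smul_mem (u l)⁻¹ h
  have span : ∀ V : Submodule F (Fin n → F), (∀ v ∈ V, ∀ i, v i ≠ 0 → (Pi.single i (1 : F) : Fin n → F) ∈ U) →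
      V ≤ U := by
    intro V hV v hv
    rw [← Finset.univ_sum_single v]
    refine U.sum_mem fun i _ => ?_
    by_cases h0 : v i = 0
    · rw [h0, Pi.single_zero]; exact U.zero_mem
    · rw [show Pi.single i (v i) = v i • (Pi.single i (1 : F) : Fin n → F) by simp [← Pi.single_smul]]
      exact U.smul_mem _ (hV v hv i h0)
  by_cases hW : U ≤ W n F j
  · left
    refine le_antisymm hW (span _ fun v hv i hi => ?_)
    obtain ⟨u, hu, hu0⟩ := U.exists_mem_ne_zero_of_ne_bot hU0
    obtain ⟨l, hl⟩ := Function.ne_iff.mp hu0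
    have hlj : (l : ℕ) < j := Nat.lt_of_not_le fun h => hl (hW hu l h)
    have hij : (i : ℕ) < j := Nat.lt_of_not_le fun h => hi (hv i h)
    by_cases hil : i = l
    · subst hil
      exact full u hu i hl fun a ha hc => ha (hW hu a hc.2)
    · exact key u hu l hl i hil (fun hc => by omega)
  · right
    obtain ⟨u, hu, huW⟩ := SetLike.not_le_iff_exists.mp hW
    simp only [mem_W, not_forall] at huW
    obtain ⟨l, hlj, hl⟩ := huW
    refine top_le_iff.mp (span _ fun v _ i _ => ?_)
    by_cases hil : i = l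
    · subst hil
      exact full u hu i hl fun a _ hc => by omega
    · exact key u hu l hl i hil (fun hc => by omega)

theorem not_conj [Finite F] {k : ℕ} (hk0 : 0 < k) (hkn : k < n) (h2 : 2 * k ≠ n) (g : GL (Fin n) F) :
    (Cfsg.stabilizing (Cfsg.glToMat (Fin n) F) {v : Fin n → F | ∀ i : Fin n, k ≤ (i : ℕ) → v i = 0}).map
      (MulAut.conj g).toMonoidHom ≠
    Cfsg.stabilizing (Cfsg.glToMat (Fin n) F) {v : Fin n → F | ∀ i : Fin n, n - k ≤ (i : ℕ) → v i = 0} := by
  classical
  intro heq
  have hcard : ∀ a : ℕ, a ≤ n → Nat.card (W n F a) = Nat.card F ^ a := by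
    intro a ha
    let e : W n F a ≃ ({i : Fin n // (i : ℕ) < a} → F) :=
      { toFun := fun v i => v.1 i
        invFun := fun x => ⟨fun i => if h : (i : ℕ) < a then x ⟨i, h⟩ else 0,
          fun i hi => by simp [Nat.not_lt.mpr hi]⟩
        left_inv := fun v => by
          apply Subtype.ext; funext i
          by_cases h : (i : ℕ) < a
          · simp [h]
          · simp [h, v.2 i (Nat.le_of_not_lt h)]
        right_inv := fun x => by funext i; simp [i.2] }
    rw [Nat.card_congr e, Nat.card_fun, Nat.card_eq_fintype_card (α := {i : Fin n // (i : ℕ) < a}),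
      Fintype.card_fin_lt_of_le ha]
  set U := (W n F k).map (Matrix.toLin' (g : Matrix (Fin n) (Fin n) F)) with hUdef
  have hinj : Function.Injective (Matrix.toLin' (g : Matrix (Fin n) (Fin n) F)) := fun a b h =>
    gl_mulVec_injective g (by simpa using h)
  have hcU : Nat.card U = Nat.card F ^ k := by
    rw [← hcard k hkn.le]
    exact (Nat.card_congr (Submodule.equivMapOfInjective _ hinj _).toEquiv).symm
  have h1F : 1 < Nat.card F := Finite.one_lt_card
  have hinv : ∀ h : GL (Fin n) F, (h : Matrix (Fin n) (Fin n) F).BlockTriangular (lab (n - k)) →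
      ∀ u ∈ U, (h : Matrix (Fin n) (Fin n) F) *ᵥ u ∈ U := by
    intro h hh u hu
    have hmem := mem_stab.mpr hh
    rw [← heq] at hmem
    obtain ⟨a, ha, rfl⟩ := hmem
    obtain ⟨v, hv, rfl⟩ := hu
    refine ⟨(a : Matrix (Fin n) (Fin n) F) *ᵥ v, mulVec_mem (mem_stab.mp ha) hv, ?_⟩
    simp only [Matrix.toLin'_apply, MulEquiv.coe_toMonoidHom, MulAut.conj_apply, Units.val_mul,
      ← Matrix.mulVec_mulVec, gl_inv_mulVec_cancel]
  have hU0 : U ≠ ⊥ := fun h => by
    rw [h] at hcU
    simp only [Nat.card_unique] at hcU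
    exact absurd hcU.symm (Nat.one_lt_pow hk0.ne' h1F).ne'
  rcases invariant_eq hinv hU0 with h | h
  · rw [h, hcard _ (Nat.sub_le _ _)] at hcU
    have := Nat.pow_right_injective h1F hcU
    omega
  · rw [h, Nat.card_congr (Submodule.topEquiv (R := F) (M := Fin n → F)).toEquiv, Nat.card_fun,
      Nat.card_eq_fintype_card (α := Fin n), Fintype.card_fin] at hcU
    have := Nat.pow_right_injective h1F hcU
    omega

end Cfsg.Agent.Classical.Coord
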