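/-
Subfield subgroups of prime index are maximal in the special linear group.
-/
import Cfsg.Agent.Lib.Classical.LinMaximal
import Cfsg.Agent.Lib.Classical.Subfield
import Cfsg.Agent.Lib.Classical.SL2PlaneGen

set_option autoImplicit false
set_option linter.unusedSectionVars false
set_option linter.style.haveILetI false

namespace Cfsg.Agent.Classical.SubMaxSL

open Matrix Cfsg.Geo
open Cfsg.Agent.Classical

universe u

variable {ι : Type} [Fintype ι] [DecidableEq ι] {F : Type u} [Field F] [Fintype F] {F₀ : Subfield F}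

/-- `g` is the transvection `x ↦ x + (φ ⬝ x) v`. -/
def Tv (g : GL ι F) (v φ : ι → F) : Prop := ∀ x, (g : Matrix ι ι F) *ᵥ x = x + (φ ⬝ᵥ x) • v

/-- Some transvection in `K` has these parameters. -/
def Has (K : Subgroup (GL ι F)) (v φ : ι → F) : Prop := ∃ g ∈ K, Tv g v φ

theorem exists_tv {v φ : ι → F} (h : φ ⬝ᵥ v = 0) : ∃ g ∈ specialLinear ι F, Tv g v φ := by
  let M : Matrix ι ι F := 1 + Matrix.replicateCol Unit v * Matrix.replicateRow Unit φ
  have hd : M.det = 1 := by rw [Matrix.det_one_add_replicateCol_mul_replicateRow, h, add_zero]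
  refine ⟨Matrix.GeneralLinearGroup.mkOfDetNeZero M (by rw [hd]; exact one_ne_zero),
    mem_specialLinear_iff.mpr (by rw [Matrix.GeneralLinearGroup.val_mkOfDetNeZero]; exact hd), fun x => ?_⟩
  rw [Matrix.GeneralLinearGroup.val_mkOfDetNeZero]
  simp only [M]
  rw [Matrix.add_mulVec, Matrix.one_mulVec, ← Matrix.mulVec_mulVec]
  congr 1
  funext i
  simp [Matrix.mulVec, dotProduct, Matrix.replicateCol_apply, Matrix.replicateRow_apply, Finset.sum_mul,
    mul_comm, mul_left_comm]

theorem has_rat {K : Subgroup (GL ι F)} (hK : subfieldSubgroup F₀ 1 ⊓ specialLinear ι F ≤ K) {v φ : ι → F}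
    (hv : ∀ i, v i ∈ F₀) (hφ : ∀ i, φ i ∈ F₀) (h : φ ⬝ᵥ v = 0) : Has K v φ := by
  obtain ⟨g, hg, ht⟩ := exists_tv h
  refine ⟨g, hK ⟨mem_subfieldSubgroup.mpr (Subgroup.mem_sup_left (mem_range_map_subfield fun i j => ?_)), hg⟩, ht⟩
  rw [inv_one, one_mul, mul_one, show (g : Matrix ι ι F) i j = ((g : Matrix ι ι F) *ᵥ Pi.single j 1) i by
    rw [Matrix.mulVec_single_one]; rfl, ht]
  simp only [Pi.add_apply, Pi.smul_apply, dotProduct_single, mul_one, smul_eq_mul]
  refine add_mem ?_ (mul_mem (hφ j) (hv i))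
  rw [Pi.single_apply]
  split_ifs
  exacts [one_mem _, zero_mem _]

theorem Has.scale {K : Subgroup (GL ι F)} {v φ : ι → F} (h : Has K v φ) {c : F} (hc : c ≠ 0) :
    Has K (c • v) (c⁻¹ • φ) := by
  obtain ⟨g, hg, ht⟩ := h
  exact ⟨g, hg, fun x => by rw [ht, smul_dotProduct, smul_eq_mul, smul_smul, mul_right_comm, inv_mul_cancel₀ hc, one_mul]⟩

theorem Has.congr {K : Subgroup (GL ι F)} {v φ v' φ' : ι → F} (h : Has K v φ)
    (e : ∀ x, (φ ⬝ᵥ x) • v = (φ' ⬝ᵥ x) • v') : Has K v' φ' := by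
  obtain ⟨g, hg, ht⟩ := h
  exact ⟨g, hg, fun x => by rw [ht, e]⟩

theorem Has.conj {K : Subgroup (GL ι F)} {v φ : ι → F} (h : Has K v φ) {y : GL ι F} (hy : y ∈ K) :
    Has K ((y : Matrix ι ι F) *ᵥ v) (φ ᵥ* ((y⁻¹ : GL ι F) : Matrix ι ι F)) := by
  obtain ⟨g, hg, ht⟩ := h
  refine ⟨y * g * y⁻¹, mul_mem (mul_mem hy hg) (inv_mem hy), fun x => ?_⟩
  rw [gl_mul_mulVec, gl_mul_mulVec, ht, Matrix.mulVec_add, gl_mulVec_inv_cancel, Matrix.mulVec_smul,
    Matrix.dotProduct_mulVec]

/-- Commutators of transvections. -/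
theorem Has.comm {K : Subgroup (GL ι F)} {v u r w : ι → F} (h : Has K v u) (h' : Has K r w) (hwv : w ⬝ᵥ v = 0)
    (hwr : w ⬝ᵥ r = 0) : Has K v ((u ⬝ᵥ r) • w) := by
  obtain ⟨t, htK, ht⟩ := h
  obtain ⟨s, hsK, hst⟩ := h'
  refine ⟨t * s * t⁻¹ * s⁻¹, mul_mem (mul_mem (mul_mem htK hsK) (inv_mem htK)) (inv_mem hsK), fun x => ?_⟩
  set y := ((s⁻¹ : GL ι F) : Matrix ι ι F) *ᵥ x with hy
  set z := ((t⁻¹ : GL ι F) : Matrix ι ι F) *ᵥ y with hz
  have hxy : x = y + (w ⬝ᵥ y) • r := by rw [← hst, hy, gl_mulVec_inv_cancel]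
  have hyz : y = z + (u ⬝ᵥ z) • v := by rw [← ht, hz, gl_mulVec_inv_cancel]
  have hfy : w ⬝ᵥ x = w ⬝ᵥ y := by rw [hxy, dotProduct_add, dotProduct_smul, hwr, smul_zero, add_zero]
  have hfz : w ⬝ᵥ z = w ⬝ᵥ y := by rw [hyz, dotProduct_add, dotProduct_smul, hwv, smul_zero, add_zero]
  rw [gl_mul_mulVec, gl_mul_mulVec, gl_mul_mulVec, ← hy, ← hz, hst, Matrix.mulVec_add, Matrix.mulVec_smul,
    ht z, ← hyz, ht r, smul_dotProduct, smul_eq_mul, hfy, hfz, hxy]
  module

/-- A rational vector orthogonal to `a` and vanishing at a given place. -/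
theorem exists_rat_orth (h3 : 3 ≤ Fintype.card ι) {a : ι → F} (ha : ∀ i, a i ∈ F₀) (k : ι) :
    ∃ b : ι → F, b ≠ 0 ∧ (∀ i, b i ∈ F₀) ∧ a ⬝ᵥ b = 0 ∧ b k = 0 := by
  classical
  obtain ⟨p, hp, q, hq, hpq⟩ : ∃ p ∈ (Finset.univ \ {k} : Finset ι), ∃ q ∈ (Finset.univ \ {k} : Finset ι), p ≠ q := by
    refine Finset.one_lt_card.mp ?_
    rw [Finset.card_sdiff_of_subset (Finset.subset_univ _), Finset.card_univ, Finset.card_singleton]
    omega
  simp only [Finset.mem_sdiff, Finset.mem_univ, true_and, Finset.mem_singleton] at hp hq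
  have hs : ∀ (i : ι) (c : F), c ∈ F₀ → ∀ j, (Pi.single i c : ι → F) j ∈ F₀ := fun i c hc j => by
    rw [Pi.single_apply]; split_ifs; exacts [hc, zero_mem _]
  by_cases h : a p = 0
  · exact ⟨Pi.single p 1, by simp, hs _ _ (one_mem _), by rw [dotProduct_single, h, zero_mul],
      Pi.single_eq_of_ne (Ne.symm hp) _⟩
  · refine ⟨Pi.single q (a p) + Pi.single p (-a q), fun e => h ?_, fun j => ?_, ?_, ?_⟩
    · have := congrFun e q
      simpa [hpq.symm] using this
    · exact add_mem (hs _ _ (ha p) j) (hs _ _ (neg_mem (ha q)) j)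
    · rw [dotProduct_add, dotProduct_single, dotProduct_single]; ring
    · simp [Ne.symm hp, Ne.symm hq]

/-- From a transvection whose centre is annihilated by a rational functional to one with rational parameters. -/
theorem stage_two (h3 : 3 ≤ Fintype.card ι) {K : Subgroup (GL ι F)}
    (hK : subfieldSubgroup F₀ 1 ⊓ specialLinear ι F ≤ K) {w φ β : ι → F} (h : Has K w φ) (hφw : φ ⬝ᵥ w = 0)
    (hbad : ∃ k l, w k * φ l ∉ F₀) (hβ : β ≠ 0) (hβr : ∀ i, β i ∈ F₀) (hβw : β ⬝ᵥ w = 0) :
    ∃ (b β : ι → F) (l : F), b ≠ 0 ∧ β ≠ 0 ∧ (∀ i, b i ∈ F₀) ∧ (∀ i, β i ∈ F₀) ∧ β ⬝ᵥ b = 0 ∧ l ∉ F₀ ∧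
      Has K b (l • β) := by
  classical
  obtain ⟨k, l, hkl⟩ := hbad
  have hw0 : w k ≠ 0 := fun e => hkl (by rw [e, zero_mul]; exact zero_mem _)
  have hsingle : ∀ (i j : ι), (Pi.single i (1 : F) : ι → F) j ∈ F₀ := fun i j => by
    rw [Pi.single_apply]; split_ifs; exacts [one_mem _, zero_mem _]
  by_cases hr : ∀ j, w j / w k ∈ F₀
  · -- rational centre
    obtain ⟨b, hb⟩ : ∃ b, b = (w k)⁻¹ • w := ⟨_, rfl⟩
    have hbr : ∀ i, b i ∈ F₀ := fun i => by
      rw [hb, Pi.smul_apply, smul_eq_mul, mul_comm, ← div_eq_mul_inv]; exact hr i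
    have hb0 : b ≠ 0 := fun e => one_ne_zero (α := F) (by
      have := congrFun e k
      rwa [hb, Pi.smul_apply, smul_eq_mul, inv_mul_cancel₀ hw0, Pi.zero_apply] at this)
    obtain ⟨γ, hγ0, hγr, hγb, hγl⟩ := exists_rat_orth h3 hbr l
    refine ⟨b, γ, w k * φ l, hb0, hγ0, hbr, hγr, by rw [dotProduct_comm]; exact hγb, hkl, ?_⟩
    have h1 : Has K b (w k • φ) := by
      have := h.scale (inv_ne_zero hw0)
      rwa [inv_inv, ← hb] at this
    have := h1.comm (has_rat hK (v := Pi.single l 1) (hsingle l) hγr (by rw [dotProduct_single, hγl, zero_mul]))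
      (by rw [dotProduct_comm]; exact hγb) (by rw [dotProduct_single, hγl, zero_mul])
    rwa [smul_dotProduct, dotProduct_single, mul_one, smul_eq_mul] at this
  · -- rational axis
    obtain ⟨j, hj⟩ := not_forall.mp hr
    obtain ⟨v, hv, hvβ, hvnr⟩ : ∃ v, Has K v β ∧ β ⬝ᵥ v = 0 ∧ ∃ k, v k ∉ F₀ := by
      obtain ⟨c, hc, hcw⟩ : ∃ c : F, c ≠ 0 ∧ Has K (c • w) β := by
        by_cases hex : ∃ r : ι → F, (∀ i, r i ∈ F₀) ∧ β ⬝ᵥ r = 0 ∧ φ ⬝ᵥ r ≠ 0
        · obtain ⟨r, hrr, hβr', hφr⟩ := hex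
          refine ⟨φ ⬝ᵥ r, hφr, ?_⟩
          exact (h.comm (has_rat hK hrr hβr hβr') hβw hβr').congr fun x => by
            rw [smul_dotProduct, smul_eq_mul, smul_smul, mul_comm]
        · push Not at hex
          obtain ⟨m, hm⟩ : ∃ m, β m ≠ 0 := Function.ne_iff.mp hβ
          have hprop : ∀ i, φ i = φ m / β m * β i := fun i => by
            have hs : ∀ (i : ι) (c : F), c ∈ F₀ → ∀ j, (Pi.single i c : ι → F) j ∈ F₀ := fun i c hc j => by
              rw [Pi.single_apply]; split_ifs; exacts [hc, zero_mem _]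
            have := hex (Pi.single i (β m) + Pi.single m (-β i))
              (fun t => add_mem (hs _ _ (hβr m) t) (hs _ _ (neg_mem (hβr i)) t))
              (by rw [dotProduct_add, dotProduct_single, dotProduct_single]; ring)
            rw [dotProduct_add, dotProduct_single, dotProduct_single] at this
            field_simp
            linear_combination this
          refine ⟨φ m / β m, fun e => hkl (by rw [hprop l, e, zero_mul, mul_zero]; exact zero_mem _), ?_⟩
          refine h.congr fun x => ?_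
          rw [smul_smul]
          congr 1
          rw [show φ = (φ m / β m) • β from funext hprop, smul_dotProduct, smul_eq_mul]
          rw [Pi.smul_apply, smul_eq_mul]
          field_simp
      refine ⟨_, hcw, by rw [dotProduct_smul, hβw, smul_zero], ?_⟩
      by_contra hall
      push Not at hall
      refine hj ?_
      have := mul_mem (hall j) (inv_mem (hall k))
      rwa [Pi.smul_apply, Pi.smul_apply, smul_eq_mul, smul_eq_mul,
        show c * w j * (c * w k)⁻¹ = w j / w k by field_simp] at this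
    obtain ⟨k', hk'⟩ := hvnr
    obtain ⟨b, hb0, hbr, hbβ, hbk⟩ := exists_rat_orth h3 hβr k'
    refine ⟨b, β, v k', hb0, hβ, hbr, hβr, hbβ, hk', ?_⟩
    have := (has_rat hK hbr (hsingle k') (by rw [single_dotProduct, hbk, mul_zero])).comm hv hbβ hvβ
    rwa [single_dotProduct, one_mul] at this

/-- Every subgroup properly above the rational one contains all transvections. -/
theorem full (h3 : 3 ≤ Fintype.card ι) {r : ℕ} (hr : r.Prime) (hcard : Fintype.card F = Nat.card F₀ ^ r)
    {K : Subgroup (GL ι F)} (hK : subfieldSubgroup F₀ 1 ⊓ specialLinear ι F ≤ K) (hKS : K ≤ specialLinear ι F)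
    (hne : ¬ K ≤ subfieldSubgroup F₀ 1) : specialLinear ι F ≤ K := by
  classical
  haveI : Nonempty ι := Fintype.card_pos_iff.mp (by omega)
  haveI : Nontrivial ι := Fintype.one_lt_card_iff_nontrivial.mp (by omega)
  have hs : ∀ (i : ι) (c : F), c ∈ F₀ → ∀ j, (Pi.single i c : ι → F) j ∈ F₀ := fun i c hc j => by
    rw [Pi.single_apply]; split_ifs; exacts [hc, zero_mem _]
  have hone : ∀ i j : ι, (Pi.single i (1 : F) : ι → F) j ∈ F₀ := fun i => hs i 1 (one_mem _)
  have hsd : ∀ (i : ι) (v : ι → F), (Pi.single i (1 : F) : ι → F) ⬝ᵥ v = v i := fun i v => by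
    rw [single_dotProduct, one_mul]
  -- an irrational transvection
  obtain ⟨g, hg, hgn⟩ := SetLike.not_le_iff_exists.mp hne
  obtain ⟨w, φ, hwφ, hφw, hbad⟩ : ∃ w φ, Has K w φ ∧ φ ⬝ᵥ w = 0 ∧ ∃ k l, w k * φ l ∉ F₀ := by
    by_contra hcon
    push Not at hcon
    apply hgn
    have hprod : ∀ i j, i ≠ j → ∀ k l,
        (g : Matrix ι ι F) k i * ((g⁻¹ : GL ι F) : Matrix ι ι F) j l ∈ F₀ := fun i j hij k l => by
      have := hcon _ _ ((has_rat hK (hone i) (hone j) (by rw [hsd, Pi.single_eq_of_ne hij.symm])).conj hg)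
        (by rw [← Matrix.dotProduct_mulVec, gl_inv_mulVec_cancel, hsd, Pi.single_eq_of_ne hij.symm]) k l
      rwa [Matrix.mulVec_single_one, Matrix.single_one_vecMul, Matrix.col_apply, Matrix.row_apply] at this
    obtain ⟨i₀, k₀, hk₀⟩ : ∃ i k, (g : Matrix ι ι F) k i ≠ 0 := by
      by_contra h
      push Not at h
      have h0 : (g : Matrix ι ι F) = 0 := Matrix.ext fun a b => h b a
      exact ((Matrix.isUnit_iff_isUnit_det _).mp g.isUnit).ne_zero (by rw [h0, Matrix.det_zero])
    have hrat : ∀ i k, (g : Matrix ι ι F) k i / (g : Matrix ι ι F) k₀ i₀ ∈ F₀ := fun i k => by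
      obtain ⟨j, hji, hji₀⟩ : ∃ j, j ≠ i ∧ j ≠ i₀ := by
        by_contra h
        push Not at h
        have : (Finset.univ : Finset ι) ⊆ {i, i₀} := fun j _ => by
          by_cases hj : j = i
          · simp [hj]
          · simp [h j hj]
        have := Finset.card_le_card this
        have := Finset.card_le_two (a := i) (b := i₀)
        rw [Finset.card_univ] at *
        omega
      obtain ⟨l, hl⟩ : ∃ l, ((g⁻¹ : GL ι F) : Matrix ι ι F) j l ≠ 0 := by
        by_contra h
        push Not at h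
        exact ((Matrix.isUnit_iff_isUnit_det _).mp (g⁻¹ : GL ι F).isUnit).ne_zero
          (Matrix.det_eq_zero_of_row_eq_zero j h)
      have := mul_mem (hprod i j hji.symm k l) (inv_mem (hprod i₀ j hji₀.symm k₀ l))
      rwa [mul_inv, mul_mul_mul_comm, mul_inv_cancel₀ hl, mul_one, ← div_eq_mul_inv] at this
    obtain ⟨G₀, hG₀⟩ : ∃ M : Matrix ι ι F, M = ((g : Matrix ι ι F) k₀ i₀)⁻¹ • (g : Matrix ι ι F) := ⟨_, rfl⟩
    have hG₀d : G₀.det ≠ 0 := by
      rw [hG₀, Matrix.det_smul]
      exact mul_ne_zero (pow_ne_zero _ (inv_ne_zero hk₀)) ((Matrix.isUnit_iff_isUnit_det _).mp g.isUnit).ne_zero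
    rw [mem_subfieldSubgroup, inv_one, one_mul, mul_one]
    have e : g = Matrix.GeneralLinearGroup.mkOfDetNeZero G₀ hG₀d *
        Units.map (Matrix.scalar ι : F →+* Matrix ι ι F).toMonoidHom (Units.mk0 _ hk₀) := by
      refine Units.ext (Matrix.ext fun a b => ?_)
      rw [Units.val_mul, Matrix.GeneralLinearGroup.val_mkOfDetNeZero]
      simp [hG₀, Matrix.mul_diagonal, Matrix.scalar_apply]
      field_simp
    rw [e]
    refine mul_mem (Subgroup.mem_sup_left (mem_range_map_subfield fun a b => ?_)) (Subgroup.mem_sup_right ⟨_, rfl⟩)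
    rw [Matrix.GeneralLinearGroup.val_mkOfDetNeZero, hG₀, Matrix.smul_apply, smul_eq_mul, mul_comm, ← div_eq_mul_inv]
    exact hrat b a
  -- a rational functional annihilating the centre
  obtain ⟨w, φ, β, hwφ, hφw, hbad, hβ, hβr, hβw⟩ : ∃ w φ β, Has K w φ ∧ φ ⬝ᵥ w = 0 ∧ (∃ k l, w k * φ l ∉ F₀) ∧
      β ≠ 0 ∧ (∀ i, β i ∈ F₀) ∧ β ⬝ᵥ w = 0 := by
    by_cases hann : ∃ β : ι → F, β ≠ 0 ∧ (∀ i, β i ∈ F₀) ∧ β ⬝ᵥ w = 0
    · obtain ⟨β, h1, h2, h3⟩ := hann
      exact ⟨w, φ, β, hwφ, hφw, hbad, h1, h2, h3⟩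
    push Not at hann
    obtain ⟨k₁, l₁, hkl⟩ := hbad
    by_cases hker : ∃ x : ι → F, x ≠ 0 ∧ (∀ i, x i ∈ F₀) ∧ φ ⬝ᵥ x = 0
    · obtain ⟨x, hx0, hxr, hφx⟩ := hker
      obtain ⟨k, hxk⟩ : ∃ k, x k ≠ 0 := Function.ne_iff.mp hx0
      obtain ⟨i₁, hi₁, i₂, hi₂, hi12⟩ : ∃ a ∈ (Finset.univ \ {k} : Finset ι), ∃ b ∈ (Finset.univ \ {k} : Finset ι),
          a ≠ b := by
        refine Finset.one_lt_card.mp ?_
        rw [Finset.card_sdiff_of_subset (Finset.subset_univ _), Finset.card_univ, Finset.card_singleton]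
        omega
      simp only [Finset.mem_sdiff, Finset.mem_univ, true_and, Finset.mem_singleton] at hi₁ hi₂
      obtain ⟨B, hB⟩ : ∃ B : ι → ι → F, ∀ i, B i = Pi.single i (x k) + Pi.single k (-x i) := ⟨_, fun i => rfl⟩
      have hBr : ∀ i t, B i t ∈ F₀ := fun i t => by
        rw [hB]; exact add_mem (hs _ _ (hxr k) t) (hs _ _ (neg_mem (hxr i)) t)
      have hBx : ∀ i, B i ⬝ᵥ x = 0 := fun i => by
        rw [hB, add_dotProduct, single_dotProduct, single_dotProduct]; ring
      have hnew : ∀ i, Has K x ((B i ⬝ᵥ w) • φ) := fun i => (has_rat hK hxr (hBr i) (hBx i)).comm hwφ hφx hφw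
      have hBne : ∀ i, i ≠ k → B i ≠ 0 := fun i hi e => hxk (by
        have := congrFun e i
        simpa [hB, hi] using this)
      obtain ⟨i, hi, hibad⟩ : ∃ i, i ≠ k ∧ ∃ a b, x a * (((B i ⬝ᵥ w) • φ) b) ∉ F₀ := by
        by_contra hcon
        push Not at hcon
        have hy : ∀ i, i ≠ k → (B i ⬝ᵥ w) * φ l₁ ∈ F₀ := fun i hi => by
          have := mul_mem (inv_mem (hxr k)) (hcon i hi k l₁)
          rwa [Pi.smul_apply, smul_eq_mul, inv_mul_cancel_left₀ hxk] at this
        have hφl : φ l₁ ≠ 0 := fun e => hkl (by rw [e, mul_zero]; exact zero_mem _)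
        have h1 := hann ((B i₂ ⬝ᵥ w * φ l₁) • B i₁ - (B i₁ ⬝ᵥ w * φ l₁) • B i₂)
        refine h1 (fun e => ?_) (fun t => ?_) (by
          rw [sub_dotProduct, smul_dotProduct, smul_dotProduct, smul_eq_mul, smul_eq_mul]; ring)
        · have := congrFun e i₁
          simp [hB, hi12, hi₁, hxk, hφl] at this
          refine hann (B i₂) (hBne i₂ hi₂) (hBr i₂) ?_
          rw [hB, add_dotProduct, single_dotProduct, single_dotProduct]
          linear_combination this
        · exact sub_mem (mul_mem (hy i₂ hi₂) (hBr i₁ t)) (mul_mem (hy i₁ hi₁) (hBr i₂ t))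
      exact ⟨x, _, B i, hnew i, by rw [smul_dotProduct, hφx, smul_zero], hibad, hBne i hi, hBr i, hBx i⟩
    push Not at hker
    -- two rational vectors with a common axis and the irrational transvection
    obtain ⟨e₁, e₂, e₃, h12, h13, h23⟩ : ∃ a b c : ι, a ≠ b ∧ a ≠ c ∧ b ≠ c := by
      obtain ⟨f⟩ := Function.Embedding.nonempty_of_card_le (α := Fin 3) (β := ι) (by simpa using h3)
      exact ⟨f 0, f 1, f 2, f.injective.ne (by decide), f.injective.ne (by decide), f.injective.ne (by decide)⟩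
    have hw3 : w e₃ ≠ 0 := fun e => hann (Pi.single e₃ 1) (by simp) (hone e₃) (by rw [hsd, e])
    have hlin : ∀ x ∈ F₀, ∀ y ∈ F₀, ∀ z ∈ F₀, x * φ e₁ + y * φ e₂ + z * φ e₃ = 0 → x = 0 ∧ y = 0 ∧ z = 0 := by
      intro x hx y hy z hz h
      obtain ⟨v, hv⟩ : ∃ v : ι → F, v = Pi.single e₁ x + Pi.single e₂ y + Pi.single e₃ z := ⟨_, rfl⟩
      have h0 : v = 0 := by
        by_contra hv0
        refine hker v hv0 (fun t => by rw [hv]; exact add_mem (add_mem (hs _ _ hx t) (hs _ _ hy t)) (hs _ _ hz t)) ?_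
        rw [hv, dotProduct_add, dotProduct_add, dotProduct_single, dotProduct_single, dotProduct_single]
        linear_combination h
      exact ⟨by simpa [hv, h12, h13] using congrFun h0 e₁, by simpa [hv, h12.symm, h23] using congrFun h0 e₂,
        by simpa [hv, h13.symm, h23.symm] using congrFun h0 e₃⟩
    obtain ⟨s, hsK, hst⟩ := hwφ
    let π : (ι → F) → Fin 2 → F := fun x => ![φ ⬝ᵥ x, x e₃]
    obtain ⟨W, hW⟩ : ∃ W, W = Submodule.span F ({w, Pi.single e₁ 1, Pi.single e₂ 1} : Set (ι → F)) := ⟨_, rfl⟩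
    let G : Subgroup (Matrix.SpecialLinearGroup (Fin 2) F) :=
      { carrier := {M | ∃ y ∈ K, ∀ x, π ((y : Matrix ι ι F) *ᵥ x) = (M : Matrix (Fin 2) (Fin 2) F) *ᵥ π x ∧
          (y : Matrix ι ι F) *ᵥ x - x ∈ W}
        one_mem' := ⟨1, one_mem _, fun x => ⟨by simp, by simp⟩⟩
        mul_mem' := by
          rintro M N ⟨y, hy, hyp⟩ ⟨z, hz, hzp⟩
          refine ⟨y * z, mul_mem hy hz, fun x => ⟨?_, ?_⟩⟩
          · rw [gl_mul_mulVec, (hyp _).1, (hzp x).1, Matrix.mulVec_mulVec]; rfl
          · rw [gl_mul_mulVec]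
            have := W.add_mem (hyp ((z : Matrix ι ι F) *ᵥ x)).2 (hzp x).2
            rwa [sub_add_sub_cancel] at this
        inv_mem' := by
          rintro M ⟨y, hy, hyp⟩
          refine ⟨y⁻¹, inv_mem hy, fun x => ⟨?_, ?_⟩⟩
          · have := (hyp (((y⁻¹ : GL ι F) : Matrix ι ι F) *ᵥ x)).1
            rw [gl_mulVec_inv_cancel] at this
            rw [this, Matrix.mulVec_mulVec, ← Matrix.SpecialLinearGroup.coe_mul, inv_mul_cancel]
            simp
          · have := W.neg_mem (hyp (((y⁻¹ : GL ι F) : Matrix ι ι F) *ᵥ x)).2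
            rwa [gl_mulVec_inv_cancel, neg_sub] at this }
    have hμ : Cfsg.Agent.Small.PSL2.uS (φ e₃) ∈ G := by
      refine SL2Plane.shifts_full hr hcard (F₀ := F₀) (a := φ e₁) (b := φ e₂) (c := w e₃) hw3 ?_ ?_ ?_ _
      · refine ⟨s, hsK, fun x => ⟨?_, ?_⟩⟩
        · rw [hst]
          ext a
          fin_cases a <;> simp [π, Matrix.mulVec, dotProduct_add, dotProduct_smul, hφw]
          ring
        · rw [hst, add_sub_cancel_left, hW]
          exact Submodule.smul_mem _ _ (Submodule.subset_span (by simp))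
      · intro x hx y hy
        obtain ⟨v, hv⟩ : ∃ v : ι → F, v = Pi.single e₁ x + Pi.single e₂ y := ⟨_, rfl⟩
        obtain ⟨t, htK, ht⟩ := has_rat hK (v := v) (φ := Pi.single e₃ 1)
          (fun t => by rw [hv]; exact add_mem (hs _ _ hx t) (hs _ _ hy t)) (hone e₃)
          (by rw [hsd, hv]; simp [h13.symm, h23.symm])
        refine ⟨t, htK, fun z => ⟨?_, ?_⟩⟩
        · rw [ht, hsd, hv]
          ext a
          fin_cases a <;> simp [π, Matrix.mulVec, dotProduct_add, dotProduct_smul, h13.symm, h23.symm]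
          ring
        · rw [ht, add_sub_cancel_left, hW]
          refine Submodule.smul_mem _ _ (hv ▸ Submodule.add_mem _ ?_ ?_)
          · rw [show Pi.single e₁ x = x • (Pi.single e₁ 1 : ι → F) by simp [← Pi.single_smul']]
            exact Submodule.smul_mem _ _ (Submodule.subset_span (by simp))
          · rw [show Pi.single e₂ y = y • (Pi.single e₂ 1 : ι → F) by simp [← Pi.single_smul']]
            exact Submodule.smul_mem _ _ (Submodule.subset_span (by simp))
      · intro x hx y hy h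
        have := hlin x hx y hy 0 (zero_mem _) (by rw [h]; ring)
        exact ⟨this.1, this.2.1⟩
    obtain ⟨y, hyK, hy⟩ := hμ
    have hy3 : ∀ x, ((y : Matrix ι ι F) *ᵥ x) e₃ = x e₃ := fun x => by
      have := congrFun (hy x).1 1
      simpa [π, Matrix.mulVec] using this
    have hyφ : ∀ x, φ ⬝ᵥ ((y : Matrix ι ι F) *ᵥ x) = φ ⬝ᵥ x + φ e₃ * x e₃ := fun x => by
      have := congrFun (hy x).1 0
      simpa [π, Matrix.mulVec] using this
    have hyE : ∀ x, ∃ a b : F, (y : Matrix ι ι F) *ᵥ x = x + Pi.single e₁ a + Pi.single e₂ b := fun x => by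
      have h := (hy x).2
      rw [hW, Submodule.mem_span_insert] at h
      obtain ⟨c, z, hz, hcz⟩ := h
      obtain ⟨a, b, rfl⟩ := Submodule.mem_span_pair.mp hz
      refine ⟨a, b, ?_⟩
      have h3 := congrFun hcz e₃
      simp [hy3, h13.symm, h23.symm] at h3
      rw [h3.resolve_right hw3, zero_smul, zero_add] at hcz
      rw [← sub_add_cancel ((y : Matrix ι ι F) *ᵥ x) x, hcz, ← Pi.single_smul', ← Pi.single_smul', smul_eq_mul,
        smul_eq_mul, mul_one, mul_one]
      abel
    have hβ3 : ∀ v : ι → F, v e₃ = 0 → (Pi.single e₃ 1 : ι → F) ⬝ᵥ v = 0 := fun v h => by rw [hsd, h]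
    -- the images of the two centres
    by_cases hcen : ∃ i, (i = e₁ ∨ i = e₂) ∧ ∃ t, ((y : Matrix ι ι F) *ᵥ Pi.single i 1) t ∉ F₀
    · obtain ⟨i, hi, t, ht⟩ := hcen
      have hi3 : i ≠ e₃ := by rcases hi with rfl | rfl <;> assumption
      obtain ⟨a, b, hab⟩ := hyE (Pi.single i 1)
      have h := (has_rat hK (hone i) (hone e₃) (by rw [hsd, Pi.single_eq_of_ne hi3.symm])).conj hyK
      have hax : (Pi.single e₃ (1 : F) : ι → F) ᵥ* ((y⁻¹ : GL ι F) : Matrix ι ι F) = Pi.single e₃ 1 :=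
        dotProduct_eq _ _ fun x => by
          rw [← Matrix.dotProduct_mulVec, hsd, hsd, ← hy3 (((y⁻¹ : GL ι F) : Matrix ι ι F) *ᵥ x), gl_mulVec_inv_cancel]
      rw [hax] at h
      exact ⟨_, _, Pi.single e₃ 1, h, by rw [hsd, hy3, Pi.single_eq_of_ne hi3.symm],
        ⟨t, e₃, by rw [Pi.single_eq_same, mul_one]; exact ht⟩, by simp, hone e₃,
        hβ3 _ (by rw [hy3, Pi.single_eq_of_ne hi3.symm])⟩
    push Not at hcen
    have hfix : ∀ i, (i = e₁ ∨ i = e₂) → (y : Matrix ι ι F) *ᵥ Pi.single i 1 = Pi.single i 1 := by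
      intro i hi
      have hi3 : i ≠ e₃ := by rcases hi with rfl | rfl <;> assumption
      obtain ⟨a, b, hab⟩ := hyE (Pi.single i 1)
      have hd := hyφ (Pi.single i 1)
      rw [hab, Pi.single_eq_of_ne hi3.symm, mul_zero, add_zero, dotProduct_add, dotProduct_add, dotProduct_single,
        dotProduct_single, dotProduct_single] at hd
      have ha : a ∈ F₀ := by
        have := sub_mem (hcen i hi e₁) (hone i e₁)
        rw [hab] at this
        simpa [h12] using this
      have hb : b ∈ F₀ := by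
        have := sub_mem (hcen i hi e₂) (hone i e₂)
        rw [hab] at this
        simpa [h12.symm] using this
      obtain ⟨ha0, hb0, -⟩ := hlin a ha b hb 0 (zero_mem _) (by linear_combination hd)
      rw [hab, ha0, hb0, Pi.single_zero, Pi.single_zero, add_zero, add_zero]
    obtain ⟨a, b, hab⟩ := hyE (Pi.single e₃ 1)
    have hd := hyφ (Pi.single e₃ 1)
    rw [hab, Pi.single_eq_same, mul_one, dotProduct_add, dotProduct_add, dotProduct_single, dotProduct_single,
      dotProduct_single] at hd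
    -- an irrational coefficient
    obtain ⟨i, j, hij, hi, hj, hbad'⟩ : ∃ i j, i ≠ j ∧ (i = e₁ ∨ i = e₂) ∧ (j = e₁ ∨ j = e₂) ∧
        ((y : Matrix ι ι F) *ᵥ Pi.single e₃ 1) j ∉ F₀ := by
      by_cases ha : a ∈ F₀
      · refine ⟨e₁, e₂, h12, Or.inl rfl, Or.inr rfl, fun hb => ?_⟩
        rw [hab] at hb
        simp [h23, h12.symm] at hb
        obtain ⟨-, -, h⟩ := hlin a ha b hb (-1) (neg_mem (one_mem _)) (by linear_combination hd)
        exact one_ne_zero (neg_eq_zero.mp h)
      · refine ⟨e₂, e₁, h12.symm, Or.inr rfl, Or.inl rfl, fun h => ha ?_⟩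
        rw [hab] at h
        simpa [h13, h12] using h
    have hj3 : j ≠ e₃ := by rcases hj with rfl | rfl <;> assumption
    have hi3 : i ≠ e₃ := by rcases hi with rfl | rfl <;> assumption
    have h := (has_rat hK (hone i) (hone j) (by rw [hsd, Pi.single_eq_of_ne hij.symm])).conj hyK
    rw [hfix i hi] at h
    refine ⟨_, _, Pi.single e₃ 1, h, ?_, ⟨i, e₃, ?_⟩, by simp, hone e₃, hβ3 _ (Pi.single_eq_of_ne hi3.symm _)⟩
    · rw [← Matrix.dotProduct_mulVec, ← hfix i hi, gl_inv_mulVec_cancel, hsd, Pi.single_eq_of_ne hij.symm]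
    · rw [Pi.single_eq_same, one_mul]
      intro hmem
      apply hbad'
      have he : ((y⁻¹ : GL ι F) : Matrix ι ι F) *ᵥ Pi.single e₃ 1 =
          Pi.single e₃ 1 - Pi.single e₁ a - Pi.single e₂ b := by
        apply gl_mulVec_injective y
        simp only []
        rw [gl_mulVec_inv_cancel, Matrix.mulVec_sub, Matrix.mulVec_sub, hab,
          show Pi.single e₁ a = a • (Pi.single e₁ 1 : ι → F) by simp [← Pi.single_smul'],
          show Pi.single e₂ b = b • (Pi.single e₂ 1 : ι → F) by simp [← Pi.single_smul'],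
          Matrix.mulVec_smul, Matrix.mulVec_smul, hfix _ (Or.inl rfl), hfix _ (Or.inr rfl)]
        abel
      have hv : ((Pi.single j (1 : F) : ι → F) ᵥ* ((y⁻¹ : GL ι F) : Matrix ι ι F)) e₃ =
          -((y : Matrix ι ι F) *ᵥ Pi.single e₃ 1) j := by
        rw [← mul_one (((Pi.single j (1 : F) : ι → F) ᵥ* ((y⁻¹ : GL ι F) : Matrix ι ι F)) e₃), ← dotProduct_single,
          ← Matrix.dotProduct_mulVec, he, hsd, hab]
        simp [hj3]
        ring
      rw [hv] at hmem
      simpa using neg_mem hmem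
  -- rational parameters, then standard ones
  obtain ⟨b, β, l, hb0, hβ0, hbr, hβr, hβb, hl, hT⟩ := stage_two h3 hK hwφ hφw hbad hβ hβr hβw
  obtain ⟨i₀, j₀, l₀, hij₀, hl₀, hT₀⟩ : ∃ (i j : ι) (l : F), i ≠ j ∧ l ∉ F₀ ∧
      Has K (Pi.single i 1) (l • Pi.single j 1) := by
    have hmul : ∀ {x y : F}, x ∈ F₀ → x ≠ 0 → y ∉ F₀ → x * y ∉ F₀ := fun {x y} hx hx0 hy h => hy (by
      have := mul_mem (inv_mem hx) h
      rwa [inv_mul_cancel_left₀ hx0] at this)
    obtain ⟨k, hk⟩ : ∃ k, β k ≠ 0 := Function.ne_iff.mp hβ0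
    obtain ⟨γ, hγ0, hγr, hγb, hγk⟩ := exists_rat_orth h3 hbr k
    let m := k
    have hγm : γ m = 0 := hγk
    have h1 : Has K b ((l * β k) • γ) := by
      have := hT.comm (has_rat hK (v := Pi.single k 1) (hone k) hγr (by rw [dotProduct_single, hγk, zero_mul]))
        (by rw [dotProduct_comm]; exact hγb) (by rw [dotProduct_single, hγk, zero_mul])
      rwa [smul_dotProduct, dotProduct_single, mul_one, smul_eq_mul] at this
    have hl1 : β k * l ∉ F₀ := hmul (hβr k) hk hl
    -- the centre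
    obtain ⟨l', hl', h2⟩ : ∃ l', l' ∉ F₀ ∧ Has K (Pi.single m 1) (l' • γ) := by
      by_cases hsupp : ∀ j, j ≠ m → b j = 0
      · have hb : b = b m • (Pi.single m 1 : ι → F) := funext fun t => by
          by_cases ht : t = m
          · simp [ht]
          · simp [ht, hsupp t ht]
        refine ⟨b m * (l * β k), hmul (hbr m) (fun e => hb0 (by rw [hb, e, zero_smul])) (by rwa [mul_comm l]), ?_⟩
        exact h1.congr fun x => by
          rw [smul_dotProduct, smul_dotProduct, smul_eq_mul, smul_eq_mul]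
          conv_lhs => rw [hb]
          rw [smul_smul]
          congr 1
          ring
      · push Not at hsupp
        obtain ⟨j, hjm, hbj⟩ := hsupp
        refine ⟨b j * (l * β k), hmul (hbr j) hbj (by rwa [mul_comm l]), ?_⟩
        have := (has_rat hK (v := Pi.single m 1) (hone m) (hone j) (by rw [hsd, Pi.single_eq_of_ne hjm])).comm h1
          (by rw [smul_dotProduct, dotProduct_single, hγm, zero_mul, smul_zero])
          (by rw [smul_dotProduct, dotProduct_comm, hγb, smul_zero])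
        rwa [hsd, smul_smul] at this
    -- the axis
    obtain ⟨j, hj⟩ : ∃ j, γ j ≠ 0 := Function.ne_iff.mp hγ0
    obtain ⟨i, hij, him⟩ : ∃ i, i ≠ j ∧ i ≠ m := by
      by_contra h
      push Not at h
      have hsub : (Finset.univ : Finset ι) ⊆ {j, m} := fun i _ => by
        by_cases hi : i = j
        · simp [hi]
        · simp [h i hi]
      have := Finset.card_le_card hsub
      have := Finset.card_le_two (a := j) (b := m)
      rw [Finset.card_univ] at *
      omega
    refine ⟨m, i, γ j * l', him.symm, hmul (hγr j) hj hl', ?_⟩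
    have := h2.comm (has_rat hK (v := Pi.single j 1) (hone j) (hone i) (by rw [hsd, Pi.single_eq_of_ne hij]))
      (by rw [hsd, Pi.single_eq_of_ne him]) (by rw [hsd, Pi.single_eq_of_ne hij])
    rwa [smul_dotProduct, dotProduct_single, mul_one, smul_eq_mul, mul_comm] at this
  -- multiplication along triangles
  let P : ι → ι → F → Prop := fun i j x => Has K (Pi.single i 1) (x • Pi.single j 1)
  have hmulP : ∀ {i j k : ι} {x y : F}, i ≠ k → j ≠ k → P i j x → P j k y → P i k (x * y) := by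
    intro i j k x y hik hjk hx hy
    have := Has.comm hx hy (by rw [smul_dotProduct, hsd, Pi.single_eq_of_ne hik.symm, smul_zero])
      (by rw [smul_dotProduct, hsd, Pi.single_eq_of_ne hjk.symm, smul_zero])
    rwa [smul_dotProduct, hsd, Pi.single_eq_same, smul_eq_mul, mul_one, smul_smul] at this
  have hrat : ∀ {i j : ι} {x : F}, i ≠ j → x ∈ F₀ → P i j x := fun {i j x} hij hx =>
    has_rat hK (hone i) (fun t => by rw [Pi.smul_apply, smul_eq_mul]; exact mul_mem hx (hone j t))
      (by rw [smul_dotProduct, hsd, Pi.single_eq_of_ne hij.symm, smul_zero])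
  obtain ⟨R, hR⟩ : ∃ R : Subfield F, ∀ x, x ∈ R ↔ ∀ i j, i ≠ j → P i j x := by
    have hadd : ∀ {i j : ι} {x y : F}, i ≠ j → P i j x → P i j y → P i j (x + y) := by
      rintro i j x y hij ⟨a, ha, hat⟩ ⟨b, hb, hbt⟩
      refine ⟨a * b, mul_mem ha hb, fun z => ?_⟩
      rw [gl_mul_mulVec, hbt, hat, dotProduct_add, dotProduct_smul, smul_dotProduct x, smul_dotProduct x, hsd _ (Pi.single i 1),
        Pi.single_eq_of_ne hij.symm, smul_zero, smul_zero, add_zero, smul_dotProduct y, smul_dotProduct (x + y)]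
      simp only [smul_eq_mul]
      module
    let A : AddSubgroup F :=
      { carrier := {x | ∀ i j, i ≠ j → P i j x}
        zero_mem' := fun i j hij => hrat hij (zero_mem _)
        add_mem' := fun hx hy i j hij => hadd hij (hx i j hij) (hy i j hij)
        neg_mem' := fun {x} hx i j hij => by
          obtain ⟨a, ha, hat⟩ := hx i j hij
          refine ⟨a⁻¹, inv_mem ha, fun z => ?_⟩
          refine gl_mulVec_injective a ?_
          simp only []
          rw [gl_mulVec_inv_cancel, hat, dotProduct_add, dotProduct_smul, smul_dotProduct (-x), smul_dotProduct x,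
            smul_dotProduct x, hsd _ (Pi.single i 1), Pi.single_eq_of_ne hij.symm, smul_zero, smul_zero, add_zero,
            smul_eq_mul, smul_eq_mul, add_assoc, ← add_smul, neg_mul, neg_add_cancel, zero_smul, add_zero] }
    have hA1 : (1 : F) ∈ A := fun i j hij => hrat hij (one_mem _)
    have hAmul : ∀ x ∈ A, ∀ y ∈ A, x * y ∈ A := fun x hx y hy i j hij => by
      obtain ⟨k, hki, hkj⟩ : ∃ k, k ≠ i ∧ k ≠ j := by
        by_contra h
        push Not at h
        have hsub : (Finset.univ : Finset ι) ⊆ {i, j} := fun t _ => by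
          by_cases ht : t = i
          · simp [ht]
          · simp [h t ht]
        have := Finset.card_le_card hsub
        have := Finset.card_le_two (a := i) (b := j)
        rw [Finset.card_univ] at *
        omega
      exact hmulP hij hkj (hx i k hki.symm) (hy k j hkj)
    let S : Subring F := { A with one_mem' := hA1, mul_mem' := fun {x y} hx hy => hAmul x hx y hy }
    refine ⟨{ S with inv_mem' := fun x hx => ?_ }, fun x => Iff.rfl⟩
    rcases eq_or_ne x 0 with rfl | hx0
    · rw [_root_.inv_zero]; exact zero_mem S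
    haveI : Finite S := inferInstance
    have hinj : Function.Injective fun z : S => (⟨x, hx⟩ : S) * z := fun a b h =>
      Subtype.ext (mul_left_cancel₀ hx0 (congrArg Subtype.val h))
    obtain ⟨z, hz⟩ := (Finite.injective_iff_surjective.mp hinj) 1
    have e : x * (z : F) = 1 := congrArg Subtype.val hz
    rw [inv_eq_of_mul_eq_one_right e]
    exact z.2
  have hall : ∀ x, x ∈ R := by
    refine SL2Plane.eq_top_of_lt hr hcard (fun x hx => (hR x).mpr fun i j hij => hrat hij hx) (z := l₀)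
      ((hR l₀).mpr fun i j hij => ?_) hl₀
    -- spread to every pair
    have right : ∀ {i j k : ι}, i ≠ k → j ≠ k → P i j l₀ → P i k l₀ := fun hik hjk h => by
      simpa using hmulP hik hjk h (hrat hjk (one_mem _))
    have left : ∀ {i j k : ι}, i ≠ k → i ≠ j → j ≠ k → P i k l₀ → P j k l₀ := fun {i j k} hik hij hjk h => by
      simpa using hmulP hjk hik (hrat hij.symm (one_mem _)) h
    by_cases hj0 : j = i₀
    · subst hj0
      obtain ⟨c, hc1, hc2⟩ : ∃ c, c ≠ j ∧ c ≠ i := by
        by_contra h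
        push Not at h
        have hsub : (Finset.univ : Finset ι) ⊆ {j, i} := fun t _ => by
          by_cases ht : t = j
          · simp [ht]
          · simp [h t ht]
        have := Finset.card_le_card hsub
        have := Finset.card_le_two (a := j) (b := i)
        rw [Finset.card_univ] at *
        omega
      have h1 : P j c l₀ := by
        by_cases h : j₀ = c
        · exact h ▸ hT₀
        · exact right hc1.symm h hT₀
      exact right hij hc1 (left hc1.symm hij.symm hc2.symm h1)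
    · have h1 : P i₀ j l₀ := by
        by_cases h : j₀ = j
        · exact h ▸ hT₀
        · exact right (Ne.symm hj0) h hT₀
      by_cases h : i₀ = i
      · exact h ▸ h1
      · exact left (Ne.symm hj0) h hij h1
  intro x hx
  have hle : (⊤ : Subgroup (SpecialLinearGroup ι F)) ≤ K.comap Matrix.SpecialLinearGroup.toGL := by
    rw [← sl_closure_transvections, Subgroup.closure_le]
    rintro _ ⟨i, j, hij, c, rfl⟩
    obtain ⟨g, hg, hgt⟩ := (hR c).mp (hall c) i j hij
    have e : g = transGL hij c := gl_ext_mulVec fun y => by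
      rw [hgt, transGL_mulVec, smul_dotProduct, hsd, ← Pi.single_smul', smul_eq_mul, smul_eq_mul, mul_one]
    rw [e] at hg
    exact hg
  let X : SpecialLinearGroup ι F := ⟨(x : Matrix ι ι F), mem_specialLinear_iff.mp hx⟩
  have h := hle (Subgroup.mem_top X)
  rw [Subgroup.mem_comap, show Matrix.SpecialLinearGroup.toGL X = x from Units.ext rfl] at h
  exact h

/-- Subfield subgroups of prime index are maximal. -/
theorem isMaximal (h3 : 3 ≤ Fintype.card ι) {r : ℕ} (hr : r.Prime) (hcard : Fintype.card F = Nat.card F₀ ^ r)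
    (P : GL ι F) : IsMaximalIn (specialLinear ι F) (subfieldSubgroup F₀ P ⊓ specialLinear ι F) := by
  haveI : Nontrivial ι := Fintype.one_lt_card_iff_nontrivial.mp (by omega)
  refine ⟨lt_of_le_of_ne inf_le_right fun e => not_specialLinear_le_subfieldSubgroup hr hcard P (inf_eq_right.mp e),
    fun K hK hKS => or_iff_not_imp_left.mpr fun hne => le_antisymm hKS fun x hx => ?_⟩
  have hsl := specialLinear_normal (ι := ι) (F := F)
  have htr : ∀ y, y ∈ subfieldSubgroup F₀ (1 : GL ι F) ↔ P * y * P⁻¹ ∈ subfieldSubgroup F₀ P := fun y => by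
    rw [mem_subfieldSubgroup, mem_subfieldSubgroup, inv_one, one_mul, mul_one,
      show P⁻¹ * (P * y * P⁻¹) * P = y by group]
  have h := full h3 hr hcard (K := K.comap (MulAut.conj P).toMonoidHom)
    (fun y hy => hK ⟨(htr y).mp hy.1, hsl.conj_mem _ hy.2 P⟩)
    (fun y hy => by
      have := hsl.conj_mem _ (hKS (show P * y * P⁻¹ ∈ K from hy)) P⁻¹
      rwa [inv_inv, show P⁻¹ * (P * y * P⁻¹) * P = y by group] at this)
    (fun hle => hne (le_antisymm (le_inf (fun z hz => by
      have hz' : P⁻¹ * z * P ∈ K.comap (MulAut.conj P).toMonoidHom := by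
        show P * (P⁻¹ * z * P) * P⁻¹ ∈ K
        rwa [show P * (P⁻¹ * z * P) * P⁻¹ = z by group]
      have := (htr _).mp (hle hz')
      rwa [show P * (P⁻¹ * z * P) * P⁻¹ = z by group] at this) hKS) hK))
  have := h (hsl.conj_mem _ hx P⁻¹)
  rw [inv_inv] at this
  have h' : P * (P⁻¹ * x * P) * P⁻¹ ∈ K := this
  rwa [show P * (P⁻¹ * x * P) * P⁻¹ = x by group] at h'

end Cfsg.Agent.Classical.SubMaxSL
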