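/-
Stabilisers of decompositions into subspaces of dimension at least two: an overgroup inside the
special linear group is everything.
-/
import Cfsg.Agent.Lib.Classical.SubfieldMaximalSL

set_option autoImplicit false
set_option linter.unusedSectionVars false

namespace Cfsg.Agent.Classical.LImp

open Matrix Cfsg.Geo
open Cfsg.Agent.Classical Cfsg.Agent.Classical.SubMaxSL

universe u

variable {ι : Type} [Fintype ι] [DecidableEq ι] {F : Type u} [Field F] [Fintype F]
variable {κ μ : Type} [Fintype κ] (e : ι ≃ κ × μ)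

/-- Block monomial matrices. -/
def BM (A : Matrix ι ι F) : Prop := ∃ σ : Equiv.Perm κ, ∀ p q, (e p).1 ≠ σ (e q).1 → A p q = 0

/-- Supported in one block. -/
def In (i : κ) (v : ι → F) : Prop := ∀ p, (e p).1 ≠ i → v p = 0

/-- The setting. -/
structure Data (K : Subgroup (GL ι F)) : Prop where
  sl : K ≤ specialLinear ι F
  blk : ∀ g : GL ι F, g ∈ specialLinear ι F → BM e (g : Matrix ι ι F) → g ∈ K
  two : ∀ p, ∃ q, q ≠ p ∧ (e q).1 = (e p).1
  alt : ∀ p q, p ≠ q → (e p).1 = (e q).1 →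
    (∃ r, r ≠ p ∧ r ≠ q ∧ (e r).1 = (e p).1) ∨ ((∃ x : F, x ≠ 0 ∧ x ≠ 1) ∧ 3 ≤ Fintype.card κ)

/-- An elementary transvection between two blocks. -/
def Mixed (K : Subgroup (GL ι F)) : Prop :=
  ∃ r q : ι, ∃ c : F, (e r).1 ≠ (e q).1 ∧ c ≠ 0 ∧ Has K (Pi.single r 1) (Pi.single q c)

variable {e}

theorem In.single (p : ι) (c : F) : In e (e p).1 (Pi.single p c) := fun q hq => by
  rw [Pi.single_eq_of_ne]
  rintro rfl
  exact hq rfl

theorem In.add {i : κ} {v w : ι → F} (hv : In e i v) (hw : In e i w) : In e i (v + w) := fun p hp => by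
  rw [Pi.add_apply, hv p hp, hw p hp, add_zero]

theorem In.sub {i : κ} {v w : ι → F} (hv : In e i v) (hw : In e i w) : In e i (v - w) := fun p hp => by
  rw [Pi.sub_apply, hv p hp, hw p hp, sub_zero]

theorem In.smul {i : κ} {v : ι → F} (hv : In e i v) (c : F) : In e i (c • v) := fun p hp => by
  rw [Pi.smul_apply, hv p hp, smul_zero]

/-- The difference of two transvections with the same centre. -/
theorem has_sub {K : Subgroup (GL ι F)} {v φ φ' : ι → F} (h : Has K v φ) (h' : Has K v φ') (hφ : φ ⬝ᵥ v = 0)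
    (hφ' : φ' ⬝ᵥ v = 0) : Has K v (φ' - φ) := by
  obtain ⟨g, hgK, hg⟩ := h
  obtain ⟨g', hgK', hg'⟩ := h'
  refine ⟨g' * g⁻¹, mul_mem hgK' (inv_mem hgK), fun x => ?_⟩
  have hinv : ((g⁻¹ : GL ι F) : Matrix ι ι F) *ᵥ x = x - (φ ⬝ᵥ x) • v := by
    apply gl_mulVec_injective g
    dsimp only
    rw [gl_mulVec_inv_cancel, hg, dotProduct_sub, dotProduct_smul, hφ, smul_zero, sub_zero]
    abel
  rw [gl_mul_mulVec, hinv, hg', sub_dotProduct, dotProduct_sub, dotProduct_smul, hφ', smul_zero, sub_zero]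
  module

variable {K : Subgroup (GL ι F)} (D : Data e K)
include D

/-- Transvections inside one block. -/
theorem base {i : κ} {v φ : ι → F} (hv : In e i v) (hφ : In e i φ) (h : φ ⬝ᵥ v = 0) : Has K v φ := by
  classical
  obtain ⟨g, hg, ht⟩ := exists_tv h
  refine ⟨g, D.blk g hg ⟨1, fun p q hpq => ?_⟩, ht⟩
  have hpq' : p ≠ q := by
    rintro rfl
    exact hpq rfl
  rw [← col_apply (A := (g : Matrix ι ι F)) q p, ← mulVec_single_one, ht, Pi.add_apply, Pi.smul_apply,
    Pi.single_eq_of_ne hpq', zero_add, dotProduct_single, mul_one, smul_eq_mul]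
  by_cases hp : (e p).1 = i
  · rw [hφ q fun hq => hpq (hp.trans hq.symm), zero_mul]
  · rw [hv p hp, mul_zero]

theorem caseA {v φ : ι → F} (h : Has K v φ) {p : ι} (hp : φ p ≠ 0) (hv : ∀ q, (e q).1 = (e p).1 → v q = 0)
    {r : ι} (hr : v r ≠ 0) : Mixed e K := by
  obtain ⟨q, hqp, hq⟩ := D.two p
  obtain ⟨s, hsr, hs⟩ := D.two r
  have hrp : (e r).1 ≠ (e p).1 := fun e' => hr (hv r e')
  have hsq : s ≠ q := fun e' => hrp (by rw [← hs, e', hq])
  have h1 := h.comm (base D (In.single p (1 : F)) (hq ▸ In.single q (1 : F))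
    (by rw [single_dotProduct, Pi.single_eq_of_ne hqp, mul_zero]))
    (by rw [single_dotProduct, hv q hq, mul_zero]) (by rw [single_dotProduct, Pi.single_eq_of_ne hqp, mul_zero])
  have h2 := (base D (hs ▸ In.single s (1 : F)) (In.single r (1 : F))
    (by rw [single_dotProduct, Pi.single_eq_of_ne (Ne.symm hsr), mul_zero])).comm h1
    (by rw [smul_dotProduct, single_dotProduct, Pi.single_eq_of_ne (Ne.symm hsq), mul_zero, smul_zero])
    (by rw [smul_dotProduct, single_dotProduct, hv q hq, mul_zero, smul_zero])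
  refine ⟨s, q, v r * φ p, by rwa [hs, hq], mul_ne_zero hr hp, ?_⟩
  convert h2 using 1
  rw [single_dotProduct, one_mul, dotProduct_single, mul_one, smul_smul, ← Pi.single_smul, smul_eq_mul, mul_one]

theorem caseB {v φ : ι → F} (h : Has K v φ) (hφv : φ ⬝ᵥ v = 0) {p : ι} (hp : v p ≠ 0)
    (hφ : ∀ q, (e q).1 = (e p).1 → φ q = 0) {r : ι} (hr : φ r ≠ 0) : Mixed e K := by
  obtain ⟨q, hqp, hq⟩ := D.two p
  have hrp : (e r).1 ≠ (e p).1 := fun e' => hr (hφ r e')
  have h1 := (base D (hq ▸ In.single q (1 : F)) (In.single p (1 : F))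
    (by rw [single_dotProduct, Pi.single_eq_of_ne (Ne.symm hqp), mul_zero])).comm h
    (by rw [dotProduct_single, hφ q hq, zero_mul]) hφv
  refine caseA D h1 (p := r) ?_ (fun s hs => ?_) (r := q) (by simp)
  · rw [Pi.smul_apply, single_dotProduct, one_mul, smul_eq_mul]
    exact mul_ne_zero hp hr
  · rw [Pi.single_eq_of_ne]
    rintro rfl
    exact hrp (hs.symm.trans hq)

/-- One commutator with a block transvection brings the axis into that block. -/
theorem fin {v φ a ψ : ι → F} (h : Has K v φ) {i : κ} (ha : In e i a) (hψ : In e i ψ) (hψa : ψ ⬝ᵥ a = 0)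
    (hψv : ψ ⬝ᵥ v = 0) (hφa : φ ⬝ᵥ a ≠ 0) {s : ι} (hs : ψ s ≠ 0) {r : ι} (hr : v r ≠ 0)
    (hri : (e r).1 ≠ i) : Mixed e K := by
  refine caseB D (h.comm (base D ha hψ hψa) hψv hψa) (by rw [smul_dotProduct, hψv, smul_zero]) hr
    (fun q hq => by rw [Pi.smul_apply, hψ q (hq ▸ hri), smul_zero]) (r := s) ?_
  rw [Pi.smul_apply, smul_eq_mul]
  exact mul_ne_zero hφa hs

/-- Two dilations in two blocks, inside the group. -/
theorem exists_dil {i l : κ} (hil : i ≠ l) {a α b β : ι → F} (ha : In e i a) (hα : In e i α) (hb : In e l b)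
    (hβ : In e l β) (hαa : α ⬝ᵥ a = 1) (hβb : β ⬝ᵥ b = 1) {x : F} (hx : x ≠ 0) :
    ∃ g ∈ K, ∀ u, (g : Matrix ι ι F) *ᵥ u = u + ((x - 1) * (α ⬝ᵥ u)) • a + ((x⁻¹ - 1) * (β ⬝ᵥ u)) • b := by
  classical
  have hzero : ∀ {i l : κ}, i ≠ l → ∀ {v w : ι → F}, In e i v → In e l w → v ⬝ᵥ w = 0 := by
    intro i l hil v w hv hw
    refine Finset.sum_eq_zero fun p _ => ?_
    by_cases hp : (e p).1 = i
    · rw [hw p (hp ▸ hil), mul_zero]
    · rw [hv p hp, zero_mul]
  let M₁ : Matrix ι ι F := 1 + replicateCol Unit a * replicateRow Unit ((x - 1) • α)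
  let M₂ : Matrix ι ι F := 1 + replicateCol Unit b * replicateRow Unit ((x⁻¹ - 1) • β)
  have hd1 : M₁.det = x := by
    rw [det_one_add_replicateCol_mul_replicateRow, smul_dotProduct, hαa, smul_eq_mul, mul_one, add_sub_cancel]
  have hd2 : M₂.det = x⁻¹ := by
    rw [det_one_add_replicateCol_mul_replicateRow, smul_dotProduct, hβb, smul_eq_mul, mul_one, add_sub_cancel]
  have hd : (M₁ * M₂).det = 1 := by rw [det_mul, hd1, hd2, mul_inv_cancel₀ hx]
  have happ : ∀ (c d : ι → F) (u : ι → F), (1 + replicateCol Unit c * replicateRow Unit d : Matrix ι ι F) *ᵥ u =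
      u + (d ⬝ᵥ u) • c := fun c d u => by
    rw [Matrix.add_mulVec, Matrix.one_mulVec, ← Matrix.mulVec_mulVec]
    congr 1
    funext k
    simp [Matrix.mulVec, dotProduct, Matrix.replicateCol_apply, Matrix.replicateRow_apply, Finset.sum_mul,
      mul_comm, mul_left_comm]
  have hM : ∀ u, (M₁ * M₂) *ᵥ u = u + ((x - 1) * (α ⬝ᵥ u)) • a + ((x⁻¹ - 1) * (β ⬝ᵥ u)) • b := fun u => by
    rw [← mulVec_mulVec, happ, happ, dotProduct_add, dotProduct_smul, smul_dotProduct, smul_dotProduct,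
      smul_dotProduct, hzero hil hα hb]
    simp only [smul_eq_mul, mul_zero, add_zero]
    abel
  refine ⟨GeneralLinearGroup.mkOfDetNeZero (M₁ * M₂) (by rw [hd]; exact one_ne_zero),
    D.blk _ (mem_specialLinear_iff.mpr hd) ⟨1, fun p q hpq => ?_⟩, hM⟩
  have hpq' : p ≠ q := by
    rintro rfl
    exact hpq rfl
  rw [GeneralLinearGroup.val_mkOfDetNeZero, ← col_apply (A := M₁ * M₂) q p, ← mulVec_single_one, hM]
  simp only [Pi.add_apply, Pi.smul_apply, Pi.single_eq_of_ne hpq', dotProduct_single, mul_one, zero_add, smul_eq_mul]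
  have key : ∀ {i : κ} {a α : ι → F}, In e i a → In e i α → α q * a p = 0 := by
    intro i a α ha hα
    by_cases hp : (e p).1 = i
    · rw [hα q fun hq => hpq (hp.trans hq.symm), zero_mul]
    · rw [ha p hp, mul_zero]
  rw [mul_assoc, key ha hα, mul_assoc, key hb hβ, mul_zero, mul_zero, add_zero]

/-- A transvection that is not inside one block gives a mixed elementary one. -/
theorem mixed_of_pair {v φ : ι → F} (h : Has K v φ) (hφv : φ ⬝ᵥ v = 0) (hv0 : v ≠ 0) (hφ0 : φ ≠ 0)
    (hne : ¬ ∃ i, In e i v ∧ In e i φ) : Mixed e K := by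
  classical
  obtain ⟨p₀, hp₀⟩ : ∃ p, v p ≠ 0 := Function.ne_iff.mp hv0
  obtain ⟨f₀, hf₀⟩ : ∃ p, φ p ≠ 0 := Function.ne_iff.mp hφ0
  by_cases hA : ∃ p, φ p ≠ 0 ∧ ∀ q, (e q).1 = (e p).1 → v q = 0
  · obtain ⟨p, hp, hq⟩ := hA
    exact caseA D h hp hq hp₀
  by_cases hB : ∃ p, v p ≠ 0 ∧ ∀ q, (e q).1 = (e p).1 → φ q = 0
  · obtain ⟨p, hp, hq⟩ := hB
    exact caseB D h hφv hp hq hf₀
  push Not at hA hB
  obtain ⟨r, hr, hrp⟩ : ∃ r, v r ≠ 0 ∧ (e r).1 ≠ (e p₀).1 := by
    by_contra hcon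
    push Not at hcon
    refine hne ⟨(e p₀).1, fun q hq => by_contra fun hvq => hq (hcon q hvq), fun q hq => by_contra fun hφq => ?_⟩
    obtain ⟨q', hq', hvq'⟩ := hA q hφq
    exact hq (hq' ▸ hcon q' hvq')
  obtain ⟨q₁, hq₁, hφq₁⟩ := hB p₀ hp₀
  by_cases hex : ∃ q, q ≠ p₀ ∧ (e q).1 = (e p₀).1 ∧ φ q ≠ 0
  · obtain ⟨q, hqp, hq, hφq⟩ := hex
    rcases D.alt p₀ q (Ne.symm hqp) hq.symm with ⟨s, hsp, hsq, hs⟩ | ⟨⟨x, hx0, hx1⟩, hκ⟩
    · -- room inside the block
      refine fin D h (a := Pi.single q 1) (ψ := Pi.single p₀ (v s) - Pi.single s (v p₀)) (hq ▸ In.single q (1 : F))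
        ((In.single p₀ _).sub (hs ▸ In.single s _)) ?_ ?_ ?_ (s := s) ?_ hr hrp
      · simp [sub_dotProduct, single_dotProduct, Pi.single_eq_of_ne hqp, Pi.single_eq_of_ne (Ne.symm hsq)]
      · simp [sub_dotProduct, single_dotProduct, mul_comm]
      · simpa using hφq
      · simp [hsp, hp₀]
    · -- two dilations fixing the centre
      obtain ⟨l, hl⟩ : ∃ l : κ, l ∉ ({(e p₀).1, (e r).1} : Finset κ) := by
        by_contra hcon
        push Not at hcon
        have := Finset.card_le_card (show (Finset.univ : Finset κ) ⊆ {(e p₀).1, (e r).1} from fun a _ => hcon a)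
        have := Finset.card_le_two (a := (e p₀).1) (b := (e r).1)
        rw [Finset.card_univ] at *
        omega
      simp only [Finset.mem_insert, Finset.mem_singleton, not_or] at hl
      obtain ⟨β, s, hs, hβ, hβs, hβv⟩ : ∃ (β : ι → F) (s : ι), (e s).1 = l ∧ In e l β ∧ β s = 1 ∧ β ⬝ᵥ v = 0 := by
        by_cases hl0 : ∃ s₀, (e s₀).1 = l ∧ v s₀ ≠ 0
        · obtain ⟨s₀, hs₀, hvs₀⟩ := hl0
          obtain ⟨s, hss, hs⟩ := D.two s₀
          refine ⟨Pi.single s 1 - Pi.single s₀ (v s / v s₀), s, hs.trans hs₀,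
            ((hs.trans hs₀) ▸ In.single s _).sub (hs₀ ▸ In.single s₀ _), by simp [hss], ?_⟩
          rw [sub_dotProduct, single_dotProduct, single_dotProduct, one_mul, div_mul_cancel₀ _ hvs₀, sub_self]
        · push Not at hl0
          have hs : (e (e.symm (l, (e p₀).2))).1 = l := by rw [Equiv.apply_symm_apply]
          refine ⟨Pi.single (e.symm (l, (e p₀).2)) 1, _, hs, fun t ht => In.single (e := e) _ _ t (by rwa [hs]),
            Pi.single_eq_same _ _, ?_⟩
          rw [single_dotProduct, one_mul]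
          exact hl0 _ hs
      have hα : In e (e p₀).1 (Pi.single q 1 - Pi.single p₀ (v q / v p₀) : ι → F) :=
        (hq ▸ In.single q _).sub (In.single p₀ _)
      obtain ⟨α, hαe⟩ : ∃ α : ι → F, α = Pi.single q 1 - Pi.single p₀ (v q / v p₀) := ⟨_, rfl⟩
      rw [← hαe] at hα
      have hαq : α q = 1 := by simp [hαe, hqp]
      have hαv : α ⬝ᵥ v = 0 := by
        rw [hαe, sub_dotProduct, single_dotProduct, single_dotProduct, one_mul, div_mul_cancel₀ _ hp₀, sub_self]
      obtain ⟨g, hgK, hg⟩ := exists_dil D (Ne.symm hl.1) (a := Pi.single q 1) (b := Pi.single s 1)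
        (hq ▸ In.single q (1 : F)) hα (hs ▸ In.single s (1 : F)) hβ (by rw [dotProduct_single, hαq, mul_one])
        (by rw [dotProduct_single, hβs, mul_one]) hx0
      have hgv : (g : Matrix ι ι F) *ᵥ v = v := by rw [hg, hαv, hβv]; simp
      have hgv' : ((g⁻¹ : GL ι F) : Matrix ι ι F) *ᵥ v = v := by
        conv_lhs => rw [← hgv]
        rw [gl_inv_mulVec_cancel]
      obtain ⟨χ, hχ⟩ : ∃ χ : ι → F, χ = ((x - 1) * φ q) • α + ((x⁻¹ - 1) * φ s) • β := ⟨_, rfl⟩
      have hχv : χ ⬝ᵥ v = 0 := by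
        rw [hχ, add_dotProduct, smul_dotProduct, smul_dotProduct, hαv, hβv, smul_zero, smul_zero, add_zero]
      have h2 : Has K v (φ + χ) := by
        have := h.conj (inv_mem hgK)
        rw [hgv', inv_inv] at this
        refine this.congr fun u => ?_
        rw [← dotProduct_mulVec, hg]
        congr 1
        simp only [hχ, add_dotProduct, dotProduct_add, dotProduct_smul, smul_dotProduct, dotProduct_single, smul_eq_mul]
        ring
      have h3 := has_sub h h2 hφv (by rw [add_dotProduct, hφv, hχv, add_zero])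
      rw [add_sub_cancel_left] at h3
      refine caseB D h3 hχv hr (fun t ht => ?_) (r := q) ?_
      · rw [hχ, Pi.add_apply, Pi.smul_apply, Pi.smul_apply, hα t (ht ▸ hrp), hβ t (ht ▸ Ne.symm hl.2), smul_zero,
          smul_zero, add_zero]
      · rw [hχ, Pi.add_apply, Pi.smul_apply, Pi.smul_apply, hαq, hβ q (hq ▸ Ne.symm hl.1), smul_eq_mul, mul_one,
          smul_zero, add_zero]
        exact mul_ne_zero (sub_ne_zero.mpr hx1) hφq
  · -- the axis meets the block in one place only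
    push Not at hex
    have hφp : φ p₀ ≠ 0 := by
      rcases eq_or_ne q₁ p₀ with rfl | hne'
      exacts [hφq₁, absurd (hex q₁ hne' hq₁) hφq₁]
    obtain ⟨q, hqp, hq⟩ := D.two p₀
    refine fin D h (a := Pi.single p₀ (v p₀) + Pi.single q (v q))
      (ψ := Pi.single p₀ (v q) - Pi.single q (v p₀)) ((In.single p₀ _).add (hq ▸ In.single q _))
      ((In.single p₀ _).sub (hq ▸ In.single q _)) ?_ ?_ ?_ (s := q) ?_ hr hrp
    · simp [sub_dotProduct, dotProduct_add, single_dotProduct, hqp, Ne.symm hqp, mul_comm]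
    · simp [sub_dotProduct, single_dotProduct, mul_comm]
    · rw [dotProduct_add, dotProduct_single, dotProduct_single, hex q hqp hq, zero_mul, add_zero]
      exact mul_ne_zero hφp hp₀
    · simp [hqp, hp₀]

/-- An element permuting no blocks gives a mixed transvection. -/
theorem mixed_of_nonBM [Nonempty μ] {g : GL ι F} (hg : g ∈ K) (hnb : ¬ BM e (g : Matrix ι ι F)) : Mixed e K := by
  classical
  by_contra hno
  obtain ⟨gi, hgi⟩ : ∃ gi : Matrix ι ι F, gi = ((g⁻¹ : GL ι F) : Matrix ι ι F) := ⟨_, rfl⟩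
  have pair : ∀ {i : κ} {v φ : ι → F}, In e i v → In e i φ → φ ⬝ᵥ v = 0 → v ≠ 0 → φ ≠ 0 →
      ∃ j, In e j ((g : Matrix ι ι F) *ᵥ v) := by
    intro i v φ hv hφ h hv0 hφ0
    by_contra hcon
    refine hno (mixed_of_pair D ((base D hv hφ h).conj hg) ?_ (fun h0 => hv0 (gl_mulVec_injective g
      (h0.trans (mulVec_zero _).symm))) (fun h0 => hφ0 ?_) fun hx => hcon ⟨hx.choose, hx.choose_spec.1⟩)
    · rw [← dotProduct_mulVec, gl_inv_mulVec_cancel, h]
    · have := congrArg (fun w => w ᵥ* (g : Matrix ι ι F)) h0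
      simpa [vecMul_vecMul, ← Units.val_mul] using this
  have hcol : ∀ q, ∃ j, ∀ p, (e p).1 ≠ j → (g : Matrix ι ι F) p q = 0 := fun q => by
    obtain ⟨q', hne, hq'⟩ := D.two q
    obtain ⟨j, hj⟩ := pair (In.single q (1 : F)) (hq' ▸ In.single q' (1 : F))
      (by rw [single_dotProduct, Pi.single_eq_of_ne hne, mul_zero]) (by simp) (by simp)
    exact ⟨j, fun p hp => by rw [← col_apply (A := (g : Matrix ι ι F)) q p, ← mulVec_single_one]; exact hj p hp⟩
  choose β hβ using hcol
  have hnz : ∀ q, ∃ p, (g : Matrix ι ι F) p q ≠ 0 := fun q => by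
    by_contra hcon
    push Not at hcon
    have h0 : (Pi.single q 1 : ι → F) = 0 := gl_mulVec_injective g (by
      dsimp only
      rw [mulVec_zero, mulVec_single_one]
      exact funext hcon)
    simpa using congrFun h0 q
  have hsame : ∀ q q', (e q).1 = (e q').1 → β q = β q' := by
    intro q q' hqq
    by_cases hne : q = q'
    · rw [hne]
    obtain ⟨j, hj⟩ := pair ((In.single q (1 : F)).add (hqq ▸ In.single q' (1 : F)))
      ((In.single q (1 : F)).sub (hqq ▸ In.single q' (1 : F)))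
      (by simp [sub_dotProduct, dotProduct_add, single_dotProduct, hne, Ne.symm hne])
      (fun h0 => by simpa [hne] using congrFun h0 q) (fun h0 => by simpa [hne] using congrFun h0 q)
    by_contra hb
    have hval : ∀ p, ((g : Matrix ι ι F) *ᵥ (Pi.single q 1 + Pi.single q' 1)) p =
        (g : Matrix ι ι F) p q + (g : Matrix ι ι F) p q' := fun p => by
      simp [mulVec_add, mulVec_single_one]
    obtain ⟨p, hp⟩ := hnz q
    obtain ⟨p', hp'⟩ := hnz q'
    have hpb : (e p).1 = β q := by_contra fun h => hp (hβ q p h)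
    have hpb' : (e p').1 = β q' := by_contra fun h => hp' (hβ q' p' h)
    have hpj : (e p).1 = j := by_contra fun h => hp (by
      have := hj p h
      rwa [hval, hβ q' p (hpb ▸ hb), add_zero] at this)
    have hpj' : (e p').1 = j := by_contra fun h => hp' (by
      have := hj p' h
      rwa [hval, hβ q p' (hpb' ▸ Ne.symm hb), zero_add] at this)
    exact hb (hpb.symm.trans (hpj.trans (hpj'.symm.trans hpb')))
  obtain ⟨m₀⟩ := ‹Nonempty μ›
  let σ₀ : κ → κ := fun k => β (e.symm (k, m₀))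
  have hσ₀ : ∀ q, β q = σ₀ (e q).1 := fun q => hsame _ _ (by rw [Equiv.apply_symm_apply])
  have hsurj : Function.Surjective σ₀ := fun k => by
    obtain ⟨p, hp⟩ : ∃ p, p = e.symm (k, m₀) := ⟨_, rfl⟩
    obtain ⟨q, hq⟩ : ∃ q, (g : Matrix ι ι F) p q ≠ 0 := by
      by_contra hcon
      push Not at hcon
      have h1 : ((g : Matrix ι ι F) * gi) p p = 1 := by rw [hgi, ← Units.val_mul, mul_inv_cancel, Units.val_one, one_apply_eq]
      rw [mul_apply, Finset.sum_eq_zero fun q _ => by rw [hcon q, zero_mul]] at h1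
      exact zero_ne_one h1
    refine ⟨(e q).1, ?_⟩
    rw [← hσ₀, ← by_contra fun h => hq (hβ q p h), hp, Equiv.apply_symm_apply]
  exact hnb ⟨Equiv.ofBijective σ₀ ⟨Finite.injective_iff_surjective.mpr hsurj, hsurj⟩,
    fun p q hpq => hβ q p (by rwa [hσ₀])⟩

/-- Block permutations. -/
theorem exists_mon (σ : Equiv.Perm κ) : ∃ (π : Equiv.Perm ι), (∀ p, (e (π p)).1 = σ (e p).1) ∧
    ∃ m ∈ K, ∃ a : ι → F, (∀ i, a i ≠ 0) ∧ ∀ v i, ((m : Matrix ι ι F) *ᵥ v) (π i) = a i * v i := by
  classical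
  obtain ⟨π, hπ⟩ : ∃ π : Equiv.Perm ι, π = (e.trans (σ.prodCongr (Equiv.refl μ))).trans e.symm := ⟨_, rfl⟩
  have hπe : ∀ p, (e (π p)).1 = σ (e p).1 := fun p => by simp [hπ]
  refine ⟨π, hπe, ?_⟩
  by_cases hn : Nonempty ι
  swap
  · exact ⟨1, one_mem _, 1, fun _ => one_ne_zero, fun v i => absurd ⟨i⟩ hn⟩
  obtain ⟨p₀⟩ := hn
  obtain ⟨M₀, hM₀⟩ : ∃ M₀ : Matrix ι ι F, M₀ = Matrix.of fun k i => if k = π i then 1 else 0 := ⟨_, rfl⟩
  have hd0 : M₀.det ≠ 0 := fun h => by
    obtain ⟨v, hv0, hv⟩ := Matrix.exists_mulVec_eq_zero_iff.mpr h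
    refine hv0 (funext fun i => ?_)
    have := congrFun hv (π i)
    rw [hM₀, mulVec, dotProduct, Finset.sum_eq_single i (fun j _ hj => by simp [π.injective.eq_iff, Ne.symm hj])
      (fun h => absurd (Finset.mem_univ i) h)] at this
    simpa using this
  obtain ⟨a, ha⟩ : ∃ a : ι → F, a = fun i => if i = p₀ then M₀.det⁻¹ else 1 := ⟨_, rfl⟩
  have ha0 : ∀ i, a i ≠ 0 := fun i => by
    rw [ha]
    dsimp only
    split_ifs
    exacts [inv_ne_zero hd0, one_ne_zero]
  have hdet : (M₀ * diagonal a).det = 1 := by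
    rw [det_mul, det_diagonal, ha, Finset.prod_ite_eq' Finset.univ p₀ fun _ => M₀.det⁻¹,
      if_pos (Finset.mem_univ p₀), mul_inv_cancel₀ hd0]
  refine ⟨GeneralLinearGroup.mkOfDetNeZero (M₀ * diagonal a) (by rw [hdet]; exact one_ne_zero),
    D.blk _ (mem_specialLinear_iff.mpr hdet) ⟨σ, fun p q hpq => ?_⟩, a, ha0, fun v i => ?_⟩
  · rw [GeneralLinearGroup.val_mkOfDetNeZero, mul_diagonal, hM₀, of_apply, if_neg, zero_mul]
    rintro rfl
    exact hpq (hπe q)
  · rw [GeneralLinearGroup.val_mkOfDetNeZero, ← mulVec_mulVec, hM₀, mulVec, dotProduct,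
      Finset.sum_eq_single i (fun j _ hj => by simp [π.injective.eq_iff, Ne.symm hj])
      (fun h => absurd (Finset.mem_univ i) h)]
    simp [mulVec_diagonal]

/-- The group is everything. -/
theorem sl_le [Nonempty μ] [Nontrivial ι] {g : GL ι F} (hg : g ∈ K) (hnb : ¬ BM e (g : Matrix ι ι F)) :
    specialLinear ι F ≤ K := by
  classical
  obtain ⟨r, q, c, hrq, hc, hmem⟩ := mixed_of_nonBM D hg hnb
  -- moving inside the blocks
  have right : ∀ {u v v' : ι} (c d : F), (e u).1 ≠ (e v).1 → (e v').1 = (e v).1 → v' ≠ v →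
      Has K (Pi.single u 1) (Pi.single v c) → Has K (Pi.single u 1) (Pi.single v' (c * d)) := by
    intro u v v' c d huv hv hne h
    have huv' : u ≠ v' := fun e' => huv (by rw [e', hv])
    have := h.comm (base D (In.single v (1 : F)) (hv ▸ In.single v' d)
      (by rw [single_dotProduct, Pi.single_eq_of_ne hne, mul_zero]))
      (by rw [single_dotProduct, Pi.single_eq_of_ne (Ne.symm huv'), mul_zero])
      (by rw [single_dotProduct, Pi.single_eq_of_ne hne, mul_zero])
    rwa [dotProduct_single, Pi.single_eq_same, mul_one, ← Pi.single_smul, smul_eq_mul] at this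
  have right' : ∀ {u v : ι} (c : F), c ≠ 0 → (e u).1 ≠ (e v).1 → Has K (Pi.single u 1) (Pi.single v c) →
      ∀ v' d, (e v').1 = (e v).1 → Has K (Pi.single u 1) (Pi.single v' d) := by
    intro u v c hc huv h v' d hv'
    by_cases hne : v' = v
    · subst hne
      obtain ⟨w, hwv, hw⟩ := D.two v'
      have := right (c * c⁻¹) d (hw ▸ huv) hw.symm (Ne.symm hwv) (right c c⁻¹ huv hw hwv h)
      rwa [mul_inv_cancel₀ hc, one_mul] at this
    · have := right c (c⁻¹ * d) huv hv' hne h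
      rwa [mul_inv_cancel_left₀ hc] at this
  have left : ∀ {u u' v : ι} (d : F), (e u').1 ≠ (e v).1 → (e u).1 = (e u').1 →
      Has K (Pi.single u' 1) (Pi.single v d) → Has K (Pi.single u 1) (Pi.single v d) := by
    intro u u' v d huv hu h
    by_cases hne : u = u'
    · rwa [hne]
    have h1 : v ≠ u := fun e' => huv (by rw [e', hu])
    have h2 : v ≠ u' := fun e' => huv (by rw [e'])
    have := (base D (hu ▸ In.single u (1 : F)) (In.single u' (1 : F))
      (by rw [single_dotProduct, Pi.single_eq_of_ne (Ne.symm hne), mul_zero])).comm h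
      (by rw [single_dotProduct, Pi.single_eq_of_ne h1, mul_zero])
      (by rw [single_dotProduct, Pi.single_eq_of_ne h2, mul_zero])
    rwa [dotProduct_single, Pi.single_eq_same, mul_one, one_smul] at this
  refine (specialLinear_le_iff K).mpr fun u v huv d => ?_
  obtain ⟨x, hx, hxt⟩ : Has K (Pi.single u 1) (Pi.single v d) := by
    by_cases hb : (e u).1 = (e v).1
    · exact base D (In.single u (1 : F)) (hb ▸ In.single v d) (by rw [single_dotProduct, Pi.single_eq_of_ne huv.symm, mul_zero])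
    obtain ⟨σ, hσr, hσq⟩ : ∃ σ : Equiv.Perm κ, σ (e r).1 = (e u).1 ∧ σ (e q).1 = (e v).1 := by
      refine ⟨(Equiv.swap (e r).1 (e u).1).trans (Equiv.swap (Equiv.swap (e r).1 (e u).1 (e q).1) (e v).1), ?_, ?_⟩
      · rw [Equiv.trans_apply, Equiv.swap_apply_left, Equiv.swap_apply_of_ne_of_ne ?_ hb]
        intro e'
        exact hrq ((Equiv.swap (e r).1 (e u).1).injective ((Equiv.swap_apply_left _ _).trans e'))
      · rw [Equiv.trans_apply, Equiv.swap_apply_left]
    obtain ⟨π, hπ, m, hm, a, ha0, hmv⟩ := exists_mon D σ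
    have hπr : (e (π r)).1 = (e u).1 := (hπ r).trans hσr
    have hπq : (e (π q)).1 = (e v).1 := (hπ q).trans hσq
    have hbb : (e (π r)).1 ≠ (e (π q)).1 := by rw [hπr, hπq]; exact hb
    refine left d (by rw [hπr]; exact hb) hπr.symm (right' (a r * (c / a q)) (mul_ne_zero (ha0 r)
      (div_ne_zero hc (ha0 q))) hbb ((hmem.conj hm).congr fun w => ?_) v d hπq.symm)
    have e1 : (m : Matrix ι ι F) *ᵥ Pi.single r 1 = Pi.single (π r) (a r) := by
      funext k
      obtain ⟨k, rfl⟩ := π.surjective k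
      rw [hmv]
      by_cases hk : k = r
      · subst hk; simp
      · simp [hk]
    have e2 := hmv (((m⁻¹ : GL ι F) : Matrix ι ι F) *ᵥ w) q
    rw [gl_mulVec_inv_cancel] at e2
    rw [← dotProduct_mulVec, e1, single_dotProduct, single_dotProduct, e2, ← Pi.single_smul, ← Pi.single_smul]
    congr 1
    simp only [smul_eq_mul, mul_one]
    field_simp [ha0 q]
  convert hx using 1
  refine gl_ext_mulVec fun w => ?_
  rw [hxt, transGL_mulVec, single_dotProduct, ← Pi.single_smul, smul_eq_mul, mul_one]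

end Cfsg.Agent.Classical.LImp
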