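/-
Coordinates adapted to a decomposition into subspaces of equal dimension: the stabiliser is the group of
block monomial matrices.
-/
import Cfsg.Agent.Lib.Classical.LinImprimitive

set_option autoImplicit false
set_option linter.unusedSectionVars false

namespace Cfsg.Agent.Classical.LImp

open Matrix Cfsg.Geo
open Cfsg.Agent.Classical

universe u

variable {F : Type u} [Field F] [Fintype F]

theorem exists_coords {t n m : ℕ} {D : Fin t → Submodule F (Fin n → F)} (hD : IsMDecomposition m D) :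
    ∃ (e : Fin n ≃ Fin t × Fin m) (B : GL (Fin n) F), ∀ g : GL (Fin n) F,
      g ∈ decompositionStabilizer D ↔ BM e ((B⁻¹ * g * B : GL (Fin n) F) : Matrix (Fin n) (Fin n) F) := by
  classical
  have hint := DirectSum.isInternal_submodule_of_iSupIndep_of_iSup_eq_top hD.indep hD.iSup_eq_top
  let v : ∀ i, Module.Basis (Fin m) F (D i) := fun i => Module.finBasisOfFinrankEq F (D i) (hD.finrank_eq i)
  let b₀ := hint.collectedBasis v
  let f : (Σ _ : Fin t, Fin m) ≃ Fin n := b₀.indexEquiv (Pi.basisFun F (Fin n))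
  let b := b₀.reindex f
  let e : Fin n ≃ Fin t × Fin m := f.symm.trans (Equiv.sigmaEquivProd (Fin t) (Fin m))
  have he : ∀ p, (e p).1 = (f.symm p).1 := fun p => rfl
  have hmem : ∀ p, b p ∈ D (e p).1 := fun p => by
    rw [he, Module.Basis.reindex_apply]
    exact hint.collectedBasis_mem v _
  have hrepr : ∀ (i : Fin t) (x : Fin n → F), x ∈ D i → ∀ p, (e p).1 ≠ i → b.equivFun x p = 0 := by
    intro i x hx p hp
    rw [Module.Basis.equivFun_apply, Module.Basis.repr_reindex_apply]
    rw [he] at hp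
    obtain ⟨j, a, hja⟩ : ∃ j a, f.symm p = ⟨j, a⟩ := ⟨_, _, rfl⟩
    rw [hja] at hp ⊢
    exact hint.collectedBasis_repr_of_mem_ne v (Ne.symm hp) hx
  obtain ⟨B, hBv, hBi⟩ : ∃ B : GL (Fin n) F, (∀ y, (B : Matrix (Fin n) (Fin n) F) *ᵥ y = b.equivFun.symm y) ∧
      ∀ x, ((B⁻¹ : GL (Fin n) F) : Matrix (Fin n) (Fin n) F) *ᵥ x = b.equivFun x := by
    refine ⟨⟨LinearMap.toMatrix' b.equivFun.symm.toLinearMap, LinearMap.toMatrix' b.equivFun.toLinearMap,
      ?_, ?_⟩, fun y => LinearMap.toMatrix'_mulVec _ y, fun x => LinearMap.toMatrix'_mulVec _ x⟩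
    · rw [← LinearMap.toMatrix'_comp, LinearEquiv.comp_coe, LinearEquiv.self_trans_symm,
        LinearEquiv.refl_toLinearMap, LinearMap.toMatrix'_id]
    · rw [← LinearMap.toMatrix'_comp, LinearEquiv.comp_coe, LinearEquiv.symm_trans_self,
        LinearEquiv.refl_toLinearMap, LinearMap.toMatrix'_id]
  have hcol : ∀ q, (B : Matrix (Fin n) (Fin n) F) *ᵥ Pi.single q 1 = b q := fun q => by
    rw [hBv, Module.Basis.equivFun_symm_apply]
    simp [Pi.single_apply, ite_smul]
  refine ⟨e, B, fun g => ?_⟩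
  have hent : ∀ p q, ((B⁻¹ * g * B : GL (Fin n) F) : Matrix (Fin n) (Fin n) F) p q =
      b.equivFun ((g : Matrix (Fin n) (Fin n) F) *ᵥ b q) p := fun p q => by
    rw [← col_apply (A := ((B⁻¹ * g * B : GL (Fin n) F) : Matrix (Fin n) (Fin n) F)) q p, ← mulVec_single_one,
      gl_mul_mulVec, gl_mul_mulVec, hcol, hBi]
  constructor
  · rintro ⟨σ, hσ⟩
    refine ⟨σ, fun p q hpq => ?_⟩
    rw [hent]
    refine hrepr _ _ ?_ p hpq
    rw [← hσ]
    exact ⟨b q, hmem q, by rw [Matrix.toLin'_apply]⟩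
  · rintro ⟨σ, hσ⟩
    refine ⟨σ, fun i => ?_⟩
    refine Submodule.eq_of_le_of_finrank_eq (fun y hy => ?_) ?_
    · obtain ⟨x, hx, rfl⟩ := hy
      rw [Matrix.toLin'_apply, ← b.sum_equivFun x, mulVec_sum]
      refine Submodule.sum_mem _ fun q _ => ?_
      rw [mulVec_smul]
      by_cases hq : (e q).1 = i
      · refine Submodule.smul_mem _ _ ?_
        rw [← b.sum_equivFun ((g : Matrix (Fin n) (Fin n) F) *ᵥ b q)]
        refine Submodule.sum_mem _ fun p _ => ?_
        by_cases hp : (e p).1 = σ i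
        · exact Submodule.smul_mem _ _ (hp ▸ hmem p)
        · rw [← hent, hσ p q (by rwa [hq]), zero_smul]
          exact zero_mem _
      · rw [hrepr i x hx q hq, zero_smul]
        exact zero_mem _
    · rw [← (Submodule.equivMapOfInjective _ (fun a c hac => gl_mulVec_injective g (by
        simpa [Matrix.toLin'_apply] using hac)) (D i)).finrank_eq, hD.finrank_eq, hD.finrank_eq]

end Cfsg.Agent.Classical.LImp
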