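/-
Orthogonal decompositions given by bases of their members.
-/
import Cfsg.Agent.Lib.Classical.SesqForm
import Cfsg.Agent.Lib.Classical.FormClassify

set_option autoImplicit false
set_option linter.style.haveILetI false

namespace Cfsg.Agent.Classical

open Matrix Cfsg.Geo

variable {ι : Type} [Fintype ι] [DecidableEq ι] {F : Type*} [Field F]

/-- The spans of the blocks of a family. -/
def blockSpan {t k : ℕ} (b : Fin t × Fin k → ι → F) (i : Fin t) : Submodule F (ι → F) :=
  Submodule.span F (Set.range fun j => b (i, j))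

theorem mem_blockSpan {t k : ℕ} (b : Fin t × Fin k → ι → F) (i : Fin t) (j : Fin k) : b (i, j) ∈ blockSpan b i :=
  Submodule.subset_span ⟨j, rfl⟩

variable {σ : F ≃+* F} {ε : F} {f : (ι → F) → (ι → F) → F}

theorem IsReflexForm.nondeg_decomp_of_family (hf : IsReflexForm σ ε f) {t k : ℕ} (ht : 2 ≤ t) (hk : 0 < k)
    (hcard : t * k = Fintype.card ι) (b : Fin t × Fin k → ι → F) {G : Matrix (Fin k) (Fin k) F} (hG : G.det ≠ 0)
    (hb : ∀ x y, f (b x) (b y) = if x.1 = y.1 then G x.2 y.2 else 0) :
    IsNondegenerateMDecomposition f k (blockSpan b) := by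
  classical
  have hu : IsUnit G.det := isUnit_iff_ne_zero.mpr hG
  -- coefficients against the basis of a block
  have hcoef : ∀ (c : Fin t × Fin k → F) i, (∀ l, f (∑ x, c x • b x) (b (i, l)) = 0) → ∀ j, c (i, j) = 0 := by
    intro c i h j
    have h' : (fun j => c (i, j)) ᵥ* G = 0 := funext fun l => by
      have := h l
      rw [hf.sum_left] at this
      simp only [hf.semi.smul_left, hb, mul_ite, mul_zero, Fintype.sum_prod_type] at this
      rw [Finset.sum_eq_single i (fun i' _ hi => Finset.sum_eq_zero fun j' _ => if_neg hi)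
        (fun h => absurd (Finset.mem_univ _) h)] at this
      simpa [Matrix.vecMul, dotProduct] using this
    have := congrArg (· ᵥ* G⁻¹) h'
    simp only [Matrix.vecMul_vecMul, Matrix.mul_nonsing_inv G hu, Matrix.vecMul_one, Matrix.zero_vecMul] at this
    exact congrFun this j
  have hli : LinearIndependent F b := by
    rw [Fintype.linearIndependent_iff]
    rintro c hc ⟨i, j⟩
    exact hcoef c i (fun l => by rw [hc, hf.zero_left]) j
  have hfin : ∀ i, Module.finrank F (blockSpan b i) = k := fun i => by
    have h : LinearIndependent F fun j : Fin k => b (i, j) := hli.comp _ (Prod.mk_right_injective i)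
    rw [blockSpan, finrank_span_eq_card h, Fintype.card_fin]
  have hsub : ∀ i, blockSpan b i = Submodule.span F (b '' {x | x.1 = i}) := fun i => by
    rw [blockSpan]
    congr 1
    ext v
    constructor
    · rintro ⟨j, rfl⟩; exact ⟨(i, j), rfl, rfl⟩
    · rintro ⟨⟨i', j⟩, rfl, rfl⟩; exact ⟨j, rfl⟩
  have horth : ∀ i i', i ≠ i' → AreOrthogonalFor f (blockSpan b i) (blockSpan b i') := by
    intro i i' hne u hu' v hv
    obtain ⟨c, rfl⟩ := (Submodule.mem_span_range_iff_exists_fun F).mp hu'
    rw [hf.sum_left]
    refine Finset.sum_eq_zero fun j _ => ?_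
    rw [hf.semi.smul_left]
    suffices f (b (i, j)) v = 0 by rw [this, mul_zero]
    obtain ⟨c', rfl⟩ := (Submodule.mem_span_range_iff_exists_fun F).mp hv
    refine hf.eq_zero_swap ?_
    rw [hf.sum_left]
    exact Finset.sum_eq_zero fun l _ => by rw [hf.semi.smul_left, hb, if_neg (Ne.symm hne), mul_zero]
  refine ⟨⟨ht, hk, hfin, fun i => ?_, ?_⟩, fun i w hw hw0 => ?_, horth⟩
  · refine Disjoint.mono (le_of_eq (hsub i)) (iSup₂_le fun j hj => ?_)
      (hli.disjoint_span_image (disjoint_compl_right : Disjoint {x : Fin t × Fin k | x.1 = i} {x | x.1 = i}ᶜ))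
    rw [hsub]
    exact Submodule.span_mono (Set.image_mono fun x (hx : x.1 = j) => fun e => hj (hx.symm.trans e))
  · have htop : Submodule.span F (Set.range b) = ⊤ := Submodule.eq_top_of_finrank_eq (by
      rw [finrank_span_eq_card hli, Fintype.card_prod, Fintype.card_fin, Fintype.card_fin, hcard,
        Module.finrank_fintype_fun_eq_card])
    rw [eq_top_iff, ← htop, Submodule.span_le]
    rintro _ ⟨⟨i, j⟩, rfl⟩
    exact Submodule.mem_iSup_of_mem i (mem_blockSpan b i j)
  · obtain ⟨c, hc⟩ := (Submodule.mem_span_range_iff_exists_fun F).mp hw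
    obtain ⟨l, hl⟩ : ∃ l, f w (b (i, l)) ≠ 0 := by
      by_contra hcon
      push Not at hcon
      apply hw0
      let c' : Fin t × Fin k → F := fun x => if x.1 = i then c x.2 else 0
      have e : ∑ x, c' x • b x = w := by
        rw [← hc, Fintype.sum_prod_type, Finset.sum_eq_single i (fun i' _ hi => Finset.sum_eq_zero fun j _ => by simp [c', hi])
          (fun h => absurd (Finset.mem_univ _) h)]
        simp [c']
      have h0 := hcoef c' i fun l => by rw [e]; exact hcon l
      rw [← hc]
      exact Finset.sum_eq_zero fun j _ => by rw [show c j = c' (i, j) by simp [c'], h0 j, zero_smul]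
    exact ⟨⟨_, mem_blockSpan b i l, fun h => hl (hf.eq_zero_swap h)⟩, _, mem_blockSpan b i l, hl⟩

omit [DecidableEq ι] in
/-- An isometry permuting blocks lies in the stabiliser. -/
theorem mem_stabilizer_of_family [DecidableEq ι] {t k : ℕ} {b : Fin t × Fin k → ι → F}
    (hD : IsMDecomposition k (blockSpan b)) {g : GL ι F}
    (h : ∀ i, ∃ i', ∀ j, (g : Matrix ι ι F) *ᵥ b (i, j) ∈ blockSpan b i') : g ∈ decompositionStabilizer (blockSpan b) := by
  classical
  choose π hπ using h
  have hinj : Function.Injective (Matrix.toLin' (g : Matrix ι ι F)) := fun a b hab => gl_mulVec_injective g hab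
  have hmap : ∀ i, (blockSpan b i).map (Matrix.toLin' (g : Matrix ι ι F)) = blockSpan b (π i) := fun i => by
    refine Submodule.eq_of_le_of_finrank_eq ?_ ?_
    · rw [blockSpan, Submodule.map_span, Submodule.span_le]
      rintro _ ⟨_, ⟨j, rfl⟩, rfl⟩
      exact hπ i j
    · rw [← (Submodule.equivMapOfInjective _ hinj _).finrank_eq, hD.finrank_eq, hD.finrank_eq]
  have hπi : Function.Injective π := fun i i' e => by
    by_contra hne
    have e2 : (blockSpan b i) = blockSpan b i' := Submodule.map_injective_of_injective hinj (by rw [hmap, hmap, e])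
    have h3 := hD.indep.pairwiseDisjoint hne
    rw [Function.onFun, e2, disjoint_self] at h3
    have := hD.finrank_eq i'
    rw [h3, finrank_bot] at this
    exact hD.pos.ne' this.symm
  exact ⟨Equiv.ofBijective π (Finite.injective_iff_bijective.mp hπi), hmap⟩

end Cfsg.Agent.Classical
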