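/-
Elementary facts on rank one pairs.
-/
import Mathlib
import Cfsg.Prelude.Def_RootSubgroups

set_option autoImplicit false

namespace Cfsg.Agent.Classical.RankOne

variable {G : Type*} [Group G]

theorem mem_conjBy {A : Subgroup G} {g x : G} : x ∈ Cfsg.conjBy A g ↔ g⁻¹ * x * g ∈ A := by
  constructor
  · rintro ⟨a, ha, rfl⟩
    simpa [mul_assoc] using ha
  · intro h
    exact ⟨_, h, by simp [mul_assoc]⟩

theorem conjBy_mul (A : Subgroup G) (g h : G) :
    Cfsg.conjBy A (g * h) = Cfsg.conjBy (Cfsg.conjBy A h) g := by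
  ext x
  simp [mem_conjBy, mul_assoc]

theorem conjBy_one (A : Subgroup G) : Cfsg.conjBy A 1 = A := by
  ext x
  simp [mem_conjBy]

theorem conjBy_of_mem {A : Subgroup G} {a : G} (ha : a ∈ A) : Cfsg.conjBy A a = A := by
  ext x
  rw [mem_conjBy, Subgroup.mul_mem_cancel_right _ ha, Subgroup.mul_mem_cancel_left _ (inv_mem ha)]

theorem conjBy_eq_iff {A B : Subgroup G} {g : G} :
    Cfsg.conjBy A g = B ↔ A = Cfsg.conjBy B g⁻¹ := by
  constructor <;> rintro rfl
  · rw [← conjBy_mul, inv_mul_cancel, conjBy_one]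
  · rw [← conjBy_mul, mul_inv_cancel, conjBy_one]

/-- A non-identity element of one unipotent subgroup does not normalise the other. -/
theorem not_normalise {A B : Subgroup G} (h : Cfsg.IsRankOnePair A B) {a : G} (ha : a ∈ A) (ha1 : a ≠ 1) :
    Cfsg.conjBy B a⁻¹ ≠ B := by
  intro he
  obtain ⟨b, hb, -, hab⟩ := h.cond_left a ha ha1
  rw [he, conjBy_eq_iff, inv_inv, conjBy_of_mem hb] at hab
  exact h.ne hab

/-- A non-identity element of one unipotent subgroup does not centralise the other. -/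
theorem not_centralise {A B : Subgroup G} (h : Cfsg.IsRankOnePair A B) {a : G} (ha : a ∈ A) (ha1 : a ≠ 1) :
    ∃ b ∈ B, a * b ≠ b * a := by
  by_contra hno
  simp only [not_exists, not_and, not_not] at hno
  refine not_normalise h ha ha1 ?_
  ext x
  rw [mem_conjBy, inv_inv]
  constructor
  · intro hx
    have := hno _ hx
    have e : a * x * a⁻¹ = x := by
      have h2 : a * (a * x * a⁻¹) = a * x := by rw [this]; group
      exact mul_left_cancel h2
    rwa [e] at hx
  · intro hx
    rwa [hno x hx, mul_inv_cancel_right]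

variable {H : Type*} [Group H] (f : G →* H)

theorem map_conjBy (A : Subgroup G) (g : G) :
    (Cfsg.conjBy A g).map f = Cfsg.conjBy (A.map f) (f g) := by
  rw [Cfsg.conjBy, Cfsg.conjBy, Subgroup.map_map, Subgroup.map_map]
  congr 1
  ext x
  simp

theorem map_bot_iff {A B : Subgroup G} (h : Cfsg.IsRankOnePair A B) (hA : A.map f = ⊥) (hne : A ≠ ⊥) :
    B.map f = ⊥ := by
  obtain ⟨a, ha, ha1⟩ := A.bot_or_exists_ne_one.resolve_left hne
  obtain ⟨b, -, -, hab⟩ := h.cond_left a ha ha1
  have := congrArg (Subgroup.map f) hab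
  rw [map_conjBy, map_conjBy, hA] at this
  rw [eq_comm, conjBy_eq_iff] at this
  simp [this, Cfsg.conjBy]

theorem map_pair {A B : Subgroup G} (h : Cfsg.IsRankOnePair A B) (hne : A.map f ≠ B.map f) :
    Cfsg.IsRankOnePair (A.map f) (B.map f) := by
  have key : ∀ P Q : Subgroup G, P.map f ≠ Q.map f → Cfsg.RankOneCondition P Q →
      Cfsg.RankOneCondition (P.map f) (Q.map f) := by
    rintro P Q hPQ hc _ ⟨a, ha, rfl⟩ ha1
    obtain ⟨b, hb, -, hab⟩ := hc a ha fun h1 => ha1 (by rw [h1, map_one])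
    have e := congrArg (Subgroup.map f) hab
    rw [map_conjBy, map_conjBy, map_inv, map_inv] at e
    refine ⟨f b, ⟨b, hb, rfl⟩, fun hb1 => hPQ ?_, e⟩
    rw [hb1, inv_one, conjBy_one, eq_comm, conjBy_eq_iff, inv_inv, conjBy_of_mem (Subgroup.mem_map_of_mem f ha)] at e
    exact e.symm
  haveI := h.nilpotent_left
  haveI := h.nilpotent_right
  exact ⟨hne, nilpotent_of_surjective _ (f.subgroupMap_surjective A),
    nilpotent_of_surjective _ (f.subgroupMap_surjective B), key A B hne h.cond_left,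
    key B A hne.symm h.cond_right⟩

theorem map_commutative {A : Subgroup G} (hA : IsMulCommutative A) : IsMulCommutative (A.map f) := by
  refine ⟨⟨?_⟩⟩
  rintro ⟨_, a, ha, rfl⟩ ⟨_, b, hb, rfl⟩
  apply Subtype.ext
  change f a * f b = f b * f a
  rw [← map_mul, ← map_mul, show a * b = b * a from congrArg Subtype.val (hA.is_comm.comm ⟨a, ha⟩ ⟨b, hb⟩)]

theorem commutative_bracket {A : Subgroup G} (hA : IsMulCommutative A) : ⁅A, A⁆ = ⊥ := by
  rw [Subgroup.commutator_eq_bot_iff_le_centralizer]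
  intro a ha b hb
  exact congrArg Subtype.val (hA.is_comm.comm ⟨b, hb⟩ ⟨a, ha⟩)

end Cfsg.Agent.Classical.RankOne
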