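/-
The action of a rank one group on its unipotent subgroups, and first facts on sets of abstract root subgroups.
-/
import Mathlib
import Cfsg.Prelude.Def_RootSubgroups
import Cfsg.Agent.Lib.Classical.RankOneBasic

set_option autoImplicit false

namespace Cfsg.Agent.Classical.RankOne

open scoped commutatorElement

variable {G : Type*} [Group G]

theorem conjBy_cancel {A : Subgroup G} {x : G} : Cfsg.conjBy (Cfsg.conjBy A x) x⁻¹ = A := by
  rw [← conjBy_mul, inv_mul_cancel, conjBy_one]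

theorem conjBy_cancel' {A : Subgroup G} {x : G} : Cfsg.conjBy (Cfsg.conjBy A x⁻¹) x = A := by
  rw [← conjBy_mul, mul_inv_cancel, conjBy_one]

theorem conjBy_inj {A B : Subgroup G} {x : G} (h : Cfsg.conjBy A x = Cfsg.conjBy B x) : A = B := by
  simpa [conjBy_cancel] using congrArg (Cfsg.conjBy · x⁻¹) h

theorem mem_normalizer_iff_conjBy {A : Subgroup G} {g : G} :
    g ∈ Subgroup.normalizer (A : Set G) ↔ Cfsg.conjBy A g = A := by
  rw [Subgroup.mem_normalizer_iff]
  constructor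
  · intro h
    ext x
    rw [mem_conjBy, h (g⁻¹ * x * g)]
    simp [mul_assoc]
  · intro h x
    have e := SetLike.ext_iff.1 h (g * x * g⁻¹)
    rw [mem_conjBy] at e
    simpa [mul_assoc] using e

theorem conjBy_sup (A B : Subgroup G) (g : G) :
    Cfsg.conjBy (A ⊔ B) g = Cfsg.conjBy A g ⊔ Cfsg.conjBy B g := Subgroup.map_sup _ _ _

theorem conjBy_le {A B : Subgroup G} {g : G} (h : A ≤ B) : Cfsg.conjBy A g ≤ Cfsg.conjBy B g :=
  Subgroup.map_mono h

theorem left_ne_bot {A B : Subgroup G} (h : Cfsg.IsRankOnePair A B) : ∃ a ∈ A, a ≠ 1 := by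
  by_contra hno
  simp only [not_exists, not_and, not_not] at hno
  apply h.ne
  rw [(Subgroup.eq_bot_iff_forall A).2 hno]
  refine ((Subgroup.eq_bot_iff_forall B).2 fun b hb => ?_).symm
  by_contra hb1
  obtain ⟨a, ha, ha1, -⟩ := h.cond_right b hb hb1
  exact ha1 (hno a ha)

theorem fix_right {A B : Subgroup G} (h : Cfsg.IsRankOnePair A B) {a : G} (ha : a ∈ A)
    (he : Cfsg.conjBy B a = B) : a = 1 := by
  by_contra h1
  exact not_normalise h (inv_mem ha) (inv_ne_one.2 h1) (by rwa [inv_inv])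

theorem fix_left {A B : Subgroup G} (h : Cfsg.IsRankOnePair A B) {b : G} (hb : b ∈ B)
    (he : Cfsg.conjBy A b = A) : b = 1 :=
  fix_right (Cfsg.RankOnePair_symm h) hb he

/-- The conjugates of `A` and of `B` under `A`, together: all the unipotent subgroups. -/
theorem unipotent_cases {A B : Subgroup G} (h : Cfsg.IsRankOnePair A B) {C : Subgroup G}
    (hC : C ∈ Cfsg.unipotentSubgroups A B) : C = A ∨ ∃ a ∈ A, C = Cfsg.conjBy B a := by
  obtain ⟨x, hx, rfl⟩ := hC
  let T : Set (Subgroup G) := {C | C = A ∨ ∃ a ∈ A, C = Cfsg.conjBy B a}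
  have hA : ∀ a ∈ A, ∀ C ∈ T, Cfsg.conjBy C a ∈ T := by
    rintro a ha C (rfl | ⟨a', ha', rfl⟩)
    · exact Or.inl (conjBy_of_mem ha)
    · exact Or.inr ⟨a * a', mul_mem ha ha', (conjBy_mul _ _ _).symm⟩
  have hB : ∀ b ∈ B, ∀ C ∈ T, Cfsg.conjBy C b ∈ T := by
    intro b hb C hC
    have hT : C = B ∨ ∃ b' ∈ B, C = Cfsg.conjBy A b' := by
      rcases hC with rfl | ⟨a, ha, rfl⟩
      · exact Or.inr ⟨1, one_mem _, (conjBy_one _).symm⟩
      · by_cases ha1 : a = 1
        · exact Or.inl (by rw [ha1, conjBy_one])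
        · obtain ⟨b', hb', -, he⟩ := h.cond_left a⁻¹ (inv_mem ha) (inv_ne_one.2 ha1)
          exact Or.inr ⟨b'⁻¹, inv_mem hb', by rw [he, inv_inv]⟩
    rcases hT with rfl | ⟨b', hb', rfl⟩
    · exact Or.inr ⟨1, one_mem _, by rw [conjBy_one, conjBy_of_mem hb]⟩
    · rw [← conjBy_mul]
      by_cases hb1 : b * b' = 1
      · exact Or.inl (by rw [hb1, conjBy_one])
      · obtain ⟨a, ha, -, he⟩ := h.cond_right (b * b')⁻¹ (inv_mem (mul_mem hb hb')) (inv_ne_one.2 hb1)
        refine Or.inr ⟨a⁻¹, inv_mem ha, ?_⟩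
        rw [he, inv_inv]
  let H : Subgroup G :=
    { carrier := {g | ∀ C, C ∈ T ↔ Cfsg.conjBy C g ∈ T}
      one_mem' := fun C => by rw [conjBy_one]
      mul_mem' := fun {g g'} hg hg' C => by rw [hg' C, hg (Cfsg.conjBy C g'), conjBy_mul]
      inv_mem' := fun {g} hg C => by rw [hg (Cfsg.conjBy C g⁻¹), conjBy_cancel'] }
  have hAH : A ≤ H := fun a ha C => ⟨hA a ha C, fun hC => by
    simpa [conjBy_cancel] using hA a⁻¹ (inv_mem ha) _ hC⟩
  have hBH : B ≤ H := fun b hb C => ⟨hB b hb C, fun hC => by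
    simpa [conjBy_cancel] using hB b⁻¹ (inv_mem hb) _ hC⟩
  exact ((sup_le hAH hBH : A ⊔ B ≤ H) hx A).1 (Or.inl rfl)

theorem left_mem {A B : Subgroup G} : A ∈ Cfsg.unipotentSubgroups A B :=
  ⟨1, one_mem _, (conjBy_one A).symm⟩

theorem right_mem {A B : Subgroup G} (h : Cfsg.IsRankOnePair A B) : B ∈ Cfsg.unipotentSubgroups A B := by
  obtain ⟨a, ha, ha1⟩ := left_ne_bot h
  obtain ⟨b, hb, -, he⟩ := h.cond_left a ha ha1
  refine ⟨a * b⁻¹, mul_mem (Subgroup.mem_sup_left ha) (inv_mem (Subgroup.mem_sup_right hb)), ?_⟩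
  rw [conjBy_mul, he, conjBy_cancel']

theorem conj_mem' {A B C : Subgroup G} (hC : C ∈ Cfsg.unipotentSubgroups A B) {x : G} (hx : x ∈ A ⊔ B) :
    Cfsg.conjBy C x ∈ Cfsg.unipotentSubgroups A B := by
  obtain ⟨y, hy, rfl⟩ := hC
  exact ⟨x * y, mul_mem hx hy, (conjBy_mul _ _ _).symm⟩

theorem unipotent_le {A B C : Subgroup G} (hC : C ∈ Cfsg.unipotentSubgroups A B) : C ≤ A ⊔ B := by
  obtain ⟨x, hx, rfl⟩ := hC
  intro y hy
  rw [mem_conjBy] at hy
  simpa [mul_assoc] using mul_mem (mul_mem hx (Subgroup.mem_sup_left (T := B) hy)) (inv_mem hx)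

theorem conjBy_sup_self {A B : Subgroup G} {x : G} (hx : x ∈ A ⊔ B) :
    Cfsg.conjBy A x ⊔ Cfsg.conjBy B x = A ⊔ B := by
  rw [← conjBy_sup, conjBy_of_mem hx]

theorem two_trans {A B C D : Subgroup G} (h : Cfsg.IsRankOnePair A B)
    (hC : C ∈ Cfsg.unipotentSubgroups A B) (hD : D ∈ Cfsg.unipotentSubgroups A B) (hne : C ≠ D) :
    ∃ x ∈ A ⊔ B, Cfsg.conjBy A x = C ∧ Cfsg.conjBy B x = D := by
  obtain ⟨x, hx, rfl⟩ := hC
  rcases unipotent_cases h (conj_mem' hD (inv_mem hx)) with h1 | ⟨a, ha, h1⟩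
  · exact absurd (by rw [← h1, conjBy_cancel']) hne
  · refine ⟨x * a, mul_mem hx (Subgroup.mem_sup_left ha), ?_, ?_⟩
    · rw [conjBy_mul, conjBy_of_mem ha]
    · rw [conjBy_mul, ← h1, conjBy_cancel']

theorem conj_pair {A B : Subgroup G} (h : Cfsg.IsRankOnePair A B) (x : G) :
    Cfsg.IsRankOnePair (Cfsg.conjBy A x) (Cfsg.conjBy B x) :=
  map_pair _ h fun he => h.ne (conjBy_inj he)

theorem pair_of_ne {A B C D : Subgroup G} (h : Cfsg.IsRankOnePair A B)
    (hC : C ∈ Cfsg.unipotentSubgroups A B) (hD : D ∈ Cfsg.unipotentSubgroups A B) (hne : C ≠ D) :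
    Cfsg.IsRankOnePair C D ∧ C ⊔ D = A ⊔ B := by
  obtain ⟨x, hx, rfl, rfl⟩ := two_trans h hC hD hne
  exact ⟨conj_pair h x, conjBy_sup_self hx⟩

/-- Non-identity elements of a unipotent subgroup fix no other one. -/
theorem fix_only {A B C D : Subgroup G} (h : Cfsg.IsRankOnePair A B)
    (hC : C ∈ Cfsg.unipotentSubgroups A B) (hD : D ∈ Cfsg.unipotentSubgroups A B) {c : G} (hc : c ∈ C)
    (hc1 : c ≠ 1) (he : Cfsg.conjBy D c = D) : D = C := by
  by_contra hne
  exact hc1 (fix_right (pair_of_ne h hC hD (Ne.symm hne)).1 hc he)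

theorem conjBy_eq_self_of_comm {A : Subgroup G} {g : G} (h : ∀ a ∈ A, g * a = a * g) :
    Cfsg.conjBy A g = A := by
  ext x
  rw [mem_conjBy]
  constructor
  · intro hx
    have := h _ hx
    have e : g * (g⁻¹ * x * g) * g⁻¹ = g⁻¹ * x * g := by rw [this]; group
    have e2 : g * (g⁻¹ * x * g) * g⁻¹ = x := by group
    rwa [← e, e2] at hx
  · intro hx
    rwa [mul_assoc, ← h x hx, inv_mul_cancel_left]

theorem conjBy_congr {B : Subgroup G} {g g' : G} (h : ∀ b ∈ B, g * b * g⁻¹ = g' * b * g'⁻¹) :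
    Cfsg.conjBy B g = Cfsg.conjBy B g' := by
  refine le_antisymm ?_ ?_
  all_goals
    rintro _ ⟨b, hb, rfl⟩
    refine ⟨b, hb, ?_⟩
    simp [MulAut.conj_apply, h b hb]

theorem commute_of_bracket_bot {A B : Subgroup G} (h : ⁅A, B⁆ = ⊥) {a b : G} (ha : a ∈ A) (hb : b ∈ B) :
    a * b = b * a := by
  have := (Subgroup.eq_bot_iff_forall _).1 h _ (Subgroup.commutator_mem_commutator ha hb)
  exact commutatorElement_eq_one_iff_mul_comm.1 this

/-- In the commutator case, the conjugate of `B` under an element of `A` commutes with `B`. -/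
theorem comm_case_conj {S : Set (Subgroup G)} {A B : Subgroup G} (hB : IsMulCommutative B)
    (h : Cfsg.RootCommutatorCase S A B) {a : G} (ha : a ∈ A) :
    ⁅Cfsg.conjBy B a, B⁆ = ⊥ := by
  rw [Subgroup.commutator_eq_bot_iff_le_centralizer]
  rintro y ⟨b, hb, rfl⟩ b' hb'
  have e := h.2.1 _ (Subgroup.commutator_mem_commutator ha hb) b' (Subgroup.mem_sup_right hb')
  have e2 : b * b' = b' * b := congrArg Subtype.val (hB.is_comm.comm ⟨b, hb⟩ ⟨b', hb'⟩)
  change b' * (a * b * a⁻¹) = a * b * a⁻¹ * b'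
  have e3 : a * b * a⁻¹ = ⁅a, b⁆ * b := by rw [commutatorElement_def]; group
  rw [e3, mul_assoc ⁅a, b⁆ b b', e2, ← mul_assoc, ← mul_assoc, e]

theorem not_commuting {A B : Subgroup G} (h : Cfsg.IsRankOnePair A B) : ⁅A, B⁆ ≠ ⊥ := by
  intro h0
  obtain ⟨a, ha, ha1⟩ := left_ne_bot h
  obtain ⟨b, hb, hn⟩ := not_centralise h ha ha1
  exact hn (commute_of_bracket_bot h0 ha hb)

variable {S : Set (Subgroup G)}

/-- A member of a root subgroup set containing an element which moves `B` as an element of `A` does is a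
unipotent subgroup of the rank one group on `A` and `B`. -/
theorem mem_of_same_action (hS : Cfsg.IsRootSubgroupSet S) {A B E : Subgroup G} (h : Cfsg.IsRankOnePair A B)
    (hBS : B ∈ S) (hES : E ∈ S) {a e : G} (ha : a ∈ A) (ha1 : a ≠ 1) (he : e ∈ E) (he1 : e ≠ 1)
    (hact : Cfsg.conjBy B a⁻¹ = Cfsg.conjBy B e⁻¹) :
    Cfsg.IsRankOnePair E B ∧ E ∈ Cfsg.unipotentSubgroups A B := by
  have hB := hS.commutative B hBS
  have hne : Cfsg.conjBy B a⁻¹ ≠ B := not_normalise h ha ha1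
  have hmem : Cfsg.conjBy B a⁻¹ ∈ Cfsg.unipotentSubgroups A B :=
    conj_mem' (right_mem h) (Subgroup.mem_sup_left (inv_mem ha))
  rcases hS.pair E hES B hBS with h0 | h1 | h2
  · refine absurd ?_ hne
    rw [hact]
    exact conjBy_eq_self_of_comm fun b hb => commute_of_bracket_bot h0 (inv_mem he) hb
  · refine ⟨h1, ?_⟩
    obtain ⟨b1, hb1, -, e1⟩ := h1.cond_left e he he1
    rw [← hact] at e1
    rw [conjBy_eq_iff, inv_inv] at e1
    rw [e1]
    exact conj_mem' hmem (Subgroup.mem_sup_right hb1)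
  · have := comm_case_conj hB h2 (inv_mem he)
    rw [← hact] at this
    exact absurd this (not_commuting (pair_of_ne h hmem (right_mem h) hne).1)

/-- A member of a root subgroup set having a rank one partner meets every other member trivially. -/
theorem eq_of_inter (hS : Cfsg.IsRootSubgroupSet S) {A B E : Subgroup G} (h : Cfsg.IsRankOnePair A B)
    (hBS : B ∈ S) (hES : E ∈ S) {d : G} (hdA : d ∈ A) (hdE : d ∈ E) (hd1 : d ≠ 1) : E = A :=
  fix_only h left_mem (mem_of_same_action hS h hBS hES hdA hd1 hdE hd1 rfl).2 hdA hd1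
    (conjBy_of_mem hdE)

end Cfsg.Agent.Classical.RankOne
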