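/-
Degenerate sets of abstract root subgroups: a member commuting with one but not both of a rank one
pair makes the pair special.
-/
import Mathlib
import Cfsg.Prelude.Def_RootSubgroups
import Cfsg.Agent.Lib.Classical.RankOneAction

set_option autoImplicit false

namespace Cfsg.Agent.Classical.DegenRoot

open Cfsg.Agent.Classical.RankOne

variable {G : Type*} [Group G] {S : Set (Subgroup G)}

/-- The conjugate `g⁻¹ A g`. -/
abbrev cn (A : Subgroup G) (g : G) : Subgroup G := Cfsg.conjBy A g⁻¹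

theorem cn_cn (A : Subgroup G) (g h : G) : cn (cn A g) h = cn A (g * h) := by
  rw [cn, cn, cn, mul_inv_rev, conjBy_mul]

theorem cn_one (A : Subgroup G) : cn A 1 = A := by rw [cn, inv_one, conjBy_one]

theorem cn_of_mem {A : Subgroup G} {g : G} (h : g ∈ A) : cn A g = A := conjBy_of_mem (inv_mem h)

theorem cn_inj {A B : Subgroup G} {g : G} (h : cn A g = cn B g) : A = B := conjBy_inj h

theorem mem_cn {A : Subgroup G} {g x : G} : x ∈ cn A g ↔ g * x * g⁻¹ ∈ A := by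
  rw [cn, mem_conjBy, inv_inv]

theorem ec_mem {A : Subgroup G} {g a : G} (h : a ∈ A) : g⁻¹ * a * g ∈ cn A g := by
  rw [mem_cn]
  simpa [mul_assoc] using h

theorem cn_of_commute {A : Subgroup G} {g : G} (h : ∀ a ∈ A, g * a = a * g) : cn A g = A :=
  conjBy_eq_self_of_comm fun a ha => by
    calc g⁻¹ * a = g⁻¹ * (a * g) * g⁻¹ := by group
      _ = a * g⁻¹ := by rw [← h a ha]; group

theorem cn_mul_eq {A B : Subgroup G} {g h : G} (e : cn A g = B) : cn A (g * h) = cn B h := by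
  rw [← cn_cn, e]

/-- A set of abstract transvection groups. -/
structure Deg (S : Set (Subgroup G)) : Prop where
  root : Cfsg.IsRootSubgroupSet S
  deg : Cfsg.IsDegenerateRootSet S

/-- `B` is a further member commuting with `A`. -/
def Cm (S : Set (Subgroup G)) (A B : Subgroup G) : Prop :=
  A ∈ S ∧ B ∈ S ∧ B ≠ A ∧ ⁅A, B⁆ = ⊥

theorem Cm.symm {A B : Subgroup G} (h : Cm S A B) : Cm S B A :=
  ⟨h.2.1, h.1, h.2.2.1.symm, by rw [Subgroup.commutator_comm]; exact h.2.2.2⟩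

theorem Cm.comm {A B : Subgroup G} (h : Cm S A B) {a b : G} (ha : a ∈ A) (hb : b ∈ B) :
    a * b = b * a := commute_of_bracket_bot h.2.2.2 ha hb

theorem Cm.not_pair {A B : Subgroup G} (h : Cm S A B) : ¬ Cfsg.IsRankOnePair A B :=
  fun hp => not_commuting hp h.2.2.2

theorem Cm.map (hD : Deg S) {A B : Subgroup G} (h : Cm S A B) (g : G) : Cm S (cn A g) (cn B g) :=
  ⟨hD.root.conj_mem A h.1 _, hD.root.conj_mem B h.2.1 _, fun e => h.2.2.1 (cn_inj e), by
    rw [cn, cn, Cfsg.conjBy, Cfsg.conjBy, ← Subgroup.map_commutator, h.2.2.2, Subgroup.map_bot]⟩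

theorem Cm.of_map (hD : Deg S) {A B : Subgroup G} {g : G} (h : Cm S (cn A g) (cn B g)) : Cm S A B := by
  simpa [cn_cn, cn_one] using h.map hD g⁻¹

theorem Deg.dich (hD : Deg S) {A B : Subgroup G} (hA : A ∈ S) (hB : B ∈ S) (hne : B ≠ A) :
    Cm S A B ∨ Cfsg.IsRankOnePair A B := by
  rcases hD.root.pair A hA B hB with h | h | h
  · exact Or.inl ⟨hA, hB, hne, h⟩
  · exact Or.inr h
  · exact absurd h (hD.deg A hA B hB)

theorem pair_cn {A B : Subgroup G} (h : Cfsg.IsRankOnePair A B) (g : G) :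
    Cfsg.IsRankOnePair (cn A g) (cn B g) := conj_pair h g⁻¹

theorem Deg.commute (hD : Deg S) {A : Subgroup G} (hA : A ∈ S) {a a' : G} (ha : a ∈ A) (ha' : a' ∈ A) :
    a * a' = a' * a := congrArg Subtype.val ((hD.root.commutative A hA).is_comm.comm ⟨a, ha⟩ ⟨a', ha'⟩)

/-- `b` is the element of `B` belonging to `a`. -/
structure Lk (A B : Subgroup G) (a b : G) : Prop where
  memA : a ∈ A
  memB : b ∈ B
  ne : a ≠ 1
  ne' : b ≠ 1
  eq : cn A b = cn B a

theorem Lk.symm {A B : Subgroup G} {a b : G} (h : Lk A B a b) : Lk B A b a :=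
  ⟨h.memB, h.memA, h.ne', h.ne, h.eq.symm⟩

theorem ec_ne {g a : G} (h : a ≠ 1) : g⁻¹ * a * g ≠ 1 := fun e =>
  h (by rw [show a = g * (g⁻¹ * a * g) * g⁻¹ by group, e]; group)

theorem Lk.map {A B : Subgroup G} {a b : G} (h : Lk A B a b) (g : G) :
    Lk (cn A g) (cn B g) (g⁻¹ * a * g) (g⁻¹ * b * g) :=
  ⟨ec_mem h.memA, ec_mem h.memB, ec_ne h.ne, ec_ne h.ne', by
    rw [cn_cn, cn_cn, show g * (g⁻¹ * b * g) = b * g by group,
      show g * (g⁻¹ * a * g) = a * g by group, cn_mul_eq h.eq, cn_cn]⟩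

theorem exists_lk {A B : Subgroup G} (h : Cfsg.IsRankOnePair A B) {a : G} (ha : a ∈ A) (ha1 : a ≠ 1) :
    ∃ b, Lk A B a b := by
  obtain ⟨b, hb, hb1, e⟩ := h.cond_left a ha ha1
  exact ⟨b, ha, hb, ha1, hb1, e⟩

theorem exists_lk' {A B : Subgroup G} (h : Cfsg.IsRankOnePair A B) {b : G} (hb : b ∈ B) (hb1 : b ≠ 1) :
    ∃ a, Lk A B a b := by
  obtain ⟨a, ha⟩ := exists_lk (Cfsg.RankOnePair_symm h) hb hb1
  exact ⟨a, ha.symm⟩

theorem inj_left {A B : Subgroup G} (h : Cfsg.IsRankOnePair A B) {b b' : G} (hb : b ∈ B) (hb' : b' ∈ B)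
    (e : cn A b = cn A b') : b = b' := by
  have e1 : cn A (b * b'⁻¹) = A := by rw [← cn_cn, e, cn_cn, mul_inv_cancel, cn_one]
  have := fix_left h (inv_mem (mul_mem hb (inv_mem hb'))) e1
  rwa [inv_eq_one, mul_inv_eq_one] at this

theorem inj_right {A B : Subgroup G} (h : Cfsg.IsRankOnePair A B) {a a' : G} (ha : a ∈ A) (ha' : a' ∈ A)
    (e : cn B a = cn B a') : a = a' := inj_left (Cfsg.RankOnePair_symm h) ha ha' e

theorem Lk.uniq {A B : Subgroup G} (h : Cfsg.IsRankOnePair A B) {a b b' : G} (h1 : Lk A B a b)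
    (h2 : Lk A B a b') : b = b' := inj_left h h1.memB h2.memB (h1.eq.trans h2.eq.symm)

theorem Lk.uniq' {A B : Subgroup G} (h : Cfsg.IsRankOnePair A B) {a a' b : G} (h1 : Lk A B a b)
    (h2 : Lk A B a' b) : a = a' := inj_right h h1.memA h2.memA (h1.eq.symm.trans h2.eq)

/-- With abelian unipotent subgroups, respecting inverses gives speciality. -/
theorem special_of_inv {A B : Subgroup G} (h : Cfsg.IsRankOnePair A B) {a b : G} (h1 : Lk A B a b)
    (h2 : Lk A B a⁻¹ b⁻¹) : b⁻¹ * a * b = a⁻¹ * b⁻¹ * a := by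
  set n := b⁻¹ * a * b⁻¹ with hn
  have hbB : cn B b⁻¹ = B := cn_of_mem (inv_mem h1.memB)
  have hbB' : cn B b = B := cn_of_mem h1.memB
  have haA : cn A a = A := cn_of_mem h1.memA
  have e1 : cn A n = B := by
    rw [hn, show b⁻¹ * a * b⁻¹ = b⁻¹ * (a * b⁻¹) by group, cn_mul_eq h2.eq, cn_cn,
      inv_mul_cancel_left, hbB]
  have e2 : cn A n⁻¹ = B := by
    rw [hn, show (b⁻¹ * a * b⁻¹)⁻¹ = b * (a⁻¹ * b) by group, cn_mul_eq h1.eq, cn_cn,
      mul_inv_cancel_left, hbB']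
  have hx : n⁻¹ * a * n ∈ B := e1 ▸ ec_mem h1.memA
  have e3 : cn A (n⁻¹ * a * n) = cn A b⁻¹ := by
    rw [show n⁻¹ * a * n = n⁻¹ * (a * n) by group, cn_mul_eq e2, cn_mul_eq h1.eq.symm, cn_cn, hn,
      show b * (b⁻¹ * a * b⁻¹) = a * b⁻¹ by group, cn_mul_eq haA]
  have e4 := inj_left h hx (inv_mem h1.memB) e3
  have e5 : a * n = n * b⁻¹ := by rw [← e4]; group
  rw [hn] at e5
  calc b⁻¹ * a * b = a⁻¹ * (a * (b⁻¹ * a * b⁻¹)) * b * b := by group
    _ = a⁻¹ * (b⁻¹ * a * b⁻¹ * b⁻¹) * b * b := by rw [e5]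
    _ = a⁻¹ * b⁻¹ * a := by group

/-- Two commuting members with a common rank one partner. -/
structure Tri (S : Set (Subgroup G)) (A C B : Subgroup G) : Prop where
  cm : Cm S A C
  memB : B ∈ S
  pairA : Cfsg.IsRankOnePair A B
  pairC : Cfsg.IsRankOnePair C B

theorem Tri.symm {A C B : Subgroup G} (T : Tri S A C B) : Tri S C A B :=
  ⟨T.cm.symm, T.memB, T.pairC, T.pairA⟩

theorem Tri.uniq (hD : Deg S) {A C B : Subgroup G} (T : Tri S A C B) {a a' c : G} (ha : a ∈ A)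
    (ha' : a' ∈ A) (hc : c ∈ C) (h : Cm S (cn B c) (cn B a)) (h' : Cm S (cn B c) (cn B a')) : a = a' := by
  by_contra hne
  have hm : ∀ x ∈ A, cn B x ∈ Cfsg.unipotentSubgroups A B := fun x hx =>
    conj_mem' (right_mem T.pairA) (Subgroup.mem_sup_left (inv_mem hx))
  have hsup := (pair_of_ne T.pairA (hm a ha) (hm a' ha')
    fun e => hne (inj_right T.pairA ha ha' e)).2
  have hle : cn B a ⊔ cn B a' ≤ Subgroup.centralizer ((cn B c : Subgroup G) : Set G) :=
    sup_le (fun x hx => Subgroup.mem_centralizer_iff.2 fun y hy => h.comm hy hx)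
      fun x hx => Subgroup.mem_centralizer_iff.2 fun y hy => h'.comm hy hx
  rw [hsup] at hle
  have hcm : Cm S (cn B c) (cn A c) := by
    rw [show cn A c = A from cn_of_commute fun x hx => (T.cm.comm hx hc).symm]
    refine ⟨hD.root.conj_mem B T.memB _, T.cm.1, fun e => T.pairA.ne ?_, le_bot_iff.1
      (Subgroup.commutator_le.2 fun y hy x hx => Subgroup.mem_bot.2
        (commutatorElement_eq_one_iff_mul_comm.2
          (Subgroup.mem_centralizer_iff.1 (hle (Subgroup.mem_sup_left hx)) y hy)))⟩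
    refine cn_inj (g := c) ?_
    rw [cn_of_commute fun x hx => (T.cm.comm hx hc).symm, ← e]
  exact (hcm.of_map hD).symm.not_pair T.pairA

theorem Tri.commuting (hD : Deg S) {A C B : Subgroup G} (T : Tri S A C B) {a b c : G} (h : Lk A B a b)
    (h' : Lk C B c b) : Cm S B (cn B (a⁻¹ * c)) := by
  have := (T.cm.map hD b).map hD a⁻¹
  rw [h.eq, h'.eq, cn_cn, cn_cn, mul_inv_cancel, cn_one,
    ← T.cm.comm (inv_mem h.memA) h'.memA] at this
  exact this

/-- The data attached to a triangle and a pair of belonging elements. -/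
theorem Tri.step (hD : Deg S) {A C B : Subgroup G} (T : Tri S A C B) {a b : G} (h : Lk A B a b) :
    ∃ c v, Lk C B c b ∧ v = (a⁻¹ * c)⁻¹ * b * (a⁻¹ * c) * b⁻¹ ∧ cn A v = C ∧
      cn A (b * (a⁻¹ * c) * b⁻¹) = C ∧ (∀ y ∈ B, v * y = y * v) := by
  obtain ⟨c, hc⟩ := exists_lk' T.pairC h.memB h.ne'
  set u := a⁻¹ * c with hu
  have hAu : cn A u⁻¹ = A := by
    rw [hu, mul_inv_rev, inv_inv, cn_mul_eq (cn_of_commute fun x hx =>
      (T.cm.comm hx (inv_mem hc.memA)).symm), cn_of_mem h.memA]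
  have e : cn A (b * u * b⁻¹) = C := by
    rw [cn_mul_eq (show cn A (b * u) = cn C b by
      rw [cn_mul_eq h.eq, cn_cn, hu, mul_inv_cancel_left, hc.eq]), cn_cn, mul_inv_cancel, cn_one]
  refine ⟨c, _, hc, rfl, ?_, e, fun y hy => ?_⟩
  · rw [show u⁻¹ * b * u * b⁻¹ = u⁻¹ * (b * u * b⁻¹) by group, cn_mul_eq hAu, e]
  · have e1 := (T.commuting hD h hc).comm hy (ec_mem (g := u) h.memB)
    have e2 := hD.commute T.memB hy (inv_mem h.memB)
    calc u⁻¹ * b * u * b⁻¹ * y = u⁻¹ * b * u * (y * b⁻¹) := by rw [e2]; group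
      _ = y * (u⁻¹ * b * u) * b⁻¹ := by rw [e1]; group
      _ = _ := by rw [hu]; group

theorem cn_self_of_centr {B : Subgroup G} {v : G} (h : ∀ y ∈ B, v * y = y * v) : cn B v = B :=
  cn_of_commute h

/-- One conjugating element serves all belonging pairs. -/
theorem Tri.exists_iso (hD : Deg S) {A C B : Subgroup G} (T : Tri S A C B) :
    ∃ v, cn A v = C ∧ cn B v = B ∧ ∀ a b, Lk A B a b → Lk C B (v⁻¹ * a * v) b := by
  obtain ⟨a, ha, ha1⟩ := left_ne_bot T.pairA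
  obtain ⟨b, hab⟩ := exists_lk T.pairA ha ha1
  obtain ⟨c, v, -, -, hv, -, hcen⟩ := T.step hD hab
  refine ⟨v, hv, cn_of_commute hcen, fun a' b' h => ?_⟩
  have := h.map v
  rwa [hv, cn_of_commute hcen, show v⁻¹ * b' * v = b' by rw [mul_assoc, ← hcen b' h.memB,
    inv_mul_cancel_left]] at this

/-- A member commuting with `A` but not with `B` makes inverses belong to each other. -/
theorem Tri.lk_inv (hD : Deg S) {A C B : Subgroup G} (T : Tri S A C B) {a b : G} (h : Lk A B a b) :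
    Lk A B a⁻¹ b⁻¹ := by
  obtain ⟨c, w, hc, -, -, e, -⟩ := T.step hD h
  obtain ⟨v, hvA, hvB, hv⟩ := T.exists_iso hD
  have hcv : v⁻¹ * a * v = c := (hv a b h).uniq' T.pairC hc
  set u := a⁻¹ * c with hu
  have hcA : ∀ x ∈ A, c * x = x * c := fun x hx => (T.cm.comm hx hc.memA).symm
  have hAu : cn A u = A := by
    rw [hu, cn_mul_eq (cn_of_mem (inv_mem h.memA)), cn_of_commute hcA]
  have hCu : cn C u⁻¹ = C := by
    rw [hu, mul_inv_rev, inv_inv, cn_mul_eq (cn_of_mem (inv_mem hc.memA)),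
      cn_of_commute fun x hx => T.cm.comm h.memA hx]
  -- `C` is the conjugate of `A` by `b⁻¹ u⁻¹ b` as well
  have e2 : cn A (b⁻¹ * u⁻¹ * b) = C := by
    have hc2 := ((T.commuting hD h hc).map hD u⁻¹)
    rw [cn_cn, mul_inv_cancel, cn_one] at hc2
    have e3 := hc2.comm (ec_mem (g := u⁻¹) (inv_mem h.memB)) h.memB
    rw [inv_inv] at e3
    have e4 : cn A (b⁻¹ * u⁻¹ * b) = cn A (u * (b⁻¹ * u⁻¹ * b)) := (cn_mul_eq hAu).symm
    rw [e4, show u * (b⁻¹ * u⁻¹ * b) = u * b⁻¹ * u⁻¹ * b by group, e3,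
      show b * (u * b⁻¹ * u⁻¹) = b * u * b⁻¹ * u⁻¹ by group, cn_mul_eq e, hCu]
  obtain ⟨a', ha'⟩ := exists_lk' T.pairA (inv_mem h.memB) (inv_ne_one.2 h.ne')
  have hc' := hv a' _ ha'
  suffices hone : a' * a = 1 by rwa [eq_inv_of_mul_eq_one_left hone] at ha'
  by_contra hne
  obtain ⟨b3, h3⟩ := exists_lk T.pairA (mul_mem ha'.memA h.memA) hne
  have h3' := hv _ _ h3
  refine T.cm.2.2.1 (cn_inj (g := b3) ?_)
  rw [h3'.eq, h3.eq, show v⁻¹ * (a' * a) * v = v⁻¹ * a' * v * c by rw [← hcv]; group,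
    cn_mul_eq hc'.eq.symm, ← e2, cn_cn, cn_cn,
    show b⁻¹ * u⁻¹ * b * (b⁻¹ * c) = b⁻¹ * (u⁻¹ * c) by group, cn_mul_eq ha'.eq, cn_cn, hu]
  congr 1
  congr 1
  rw [mul_inv_rev, inv_inv, mul_assoc, ← hcA a h.memA, inv_mul_cancel_left]

theorem Tri.special (hD : Deg S) {A C B : Subgroup G} (T : Tri S A C B) :
    Cfsg.IsSpecialRankOnePair A B :=
  ⟨T.pairA, fun _ ha ha1 _ hb hb1 he =>
    have h : Lk A B _ _ := ⟨ha, hb, ha1, hb1, he⟩
    special_of_inv T.pairA h (T.lk_inv hD h)⟩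

/-- With at most three elements inverses always belong to each other. -/
theorem lk_inv_of_small {A B : Subgroup G} (hp : Cfsg.IsRankOnePair A B) {a b : G} (h : Lk A B a b)
    (small : ∀ x ∈ A, x ≠ 1 → x = a ∨ x = a⁻¹) : Lk A B a⁻¹ b⁻¹ := by
  have al : ∀ y ∈ B, y ≠ 1 → y = b ∨ Lk A B a⁻¹ y := by
    intro y hy hy1
    obtain ⟨x, hx⟩ := exists_lk' hp hy hy1
    rcases small x hx.memA hx.ne with rfl | rfl
    · exact Or.inl (hx.uniq hp h)
    · exact Or.inr hx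
  rcases al b⁻¹ (inv_mem h.memB) (inv_ne_one.2 h.ne') with e | h'
  · obtain ⟨b', hb'⟩ := exists_lk hp (inv_mem h.memA) (inv_ne_one.2 h.ne)
    by_cases hbb : b' = b
    · rw [e]; exact hbb ▸ hb'
    exfalso
    have hne : b * b' ≠ 1 := fun h0 => hbb (by rw [eq_inv_of_mul_eq_one_right h0, e])
    rcases al (b * b') (mul_mem h.memB hb'.memB) hne with e1 | h1
    · exact hb'.ne' (mul_eq_left.1 e1)
    · exact h.ne' (mul_eq_right.1 (h1.uniq hp hb'))
  · exact h'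

end Cfsg.Agent.Classical.DegenRoot
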