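/-
Degenerate sets of abstract root subgroups: members with the same commuting partners (twins), the
stabilisers of their classes, and the regular abelian action of these stabilisers.
-/
import Mathlib
import Cfsg.Prelude.Def_RootSubgroups
import Cfsg.Agent.Lib.Classical.DegenerateTriangle

set_option autoImplicit false

namespace Cfsg.Agent.Classical.DegenRoot

open Cfsg.Agent.Classical.RankOne

variable {G : Type*} [Group G] {S : Set (Subgroup G)}

/-- Two members commuting with the same further members. -/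
structure Tw (S : Set (Subgroup G)) (A B : Subgroup G) : Prop where
  left : A ∈ S
  right : B ∈ S
  iff : ∀ X, Cm S A X ↔ Cm S B X

theorem Tw.refl {A : Subgroup G} (h : A ∈ S) : Tw S A A := ⟨h, h, fun _ => Iff.rfl⟩

theorem Tw.symm {A B : Subgroup G} (h : Tw S A B) : Tw S B A :=
  ⟨h.right, h.left, fun X => (h.iff X).symm⟩

theorem Tw.trans {A B D : Subgroup G} (h : Tw S A B) (h' : Tw S B D) : Tw S A D :=
  ⟨h.left, h'.right, fun X => (h.iff X).trans (h'.iff X)⟩

theorem Tw.map (hD : Deg S) {A B : Subgroup G} (h : Tw S A B) (g : G) : Tw S (cn A g) (cn B g) := by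
  refine ⟨hD.root.conj_mem A h.left _, hD.root.conj_mem B h.right _, fun X => ?_⟩
  have hX : cn (cn X g⁻¹) g = X := by rw [cn_cn, inv_mul_cancel, cn_one]
  rw [← hX]
  exact ⟨fun e => ((h.iff _).1 (e.of_map hD)).map hD g, fun e => ((h.iff _).2 (e.of_map hD)).map hD g⟩

theorem Tw.of_map (hD : Deg S) {A B : Subgroup G} {g : G} (h : Tw S (cn A g) (cn B g)) : Tw S A B := by
  simpa [cn_cn, cn_one] using h.map hD g⁻¹

theorem Tw.map_mul (hD : Deg S) {A : Subgroup G} {g g' : G} (h : Tw S (cn A g) (cn A g')) (x : G) :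
    Tw S (cn A (g * x)) (cn A (g' * x)) := by
  simpa [cn_cn] using h.map hD x

theorem Tw.map_one (hD : Deg S) {A : Subgroup G} {g : G} (h : Tw S A (cn A g)) (x : G) :
    Tw S (cn A x) (cn A (g * x)) := by
  simpa [cn_cn] using h.map hD x

theorem Cm.centr {A C : Subgroup G} (h : Cm S A C) {x : G} (hx : x ∈ A) : cn C x = C :=
  cn_of_commute fun c hc => h.comm hx hc

theorem Tri.tw {A A' C B : Subgroup G} (hD : Deg S) (T : Tri S A C B) (h : Tw S A A') :
    Tri S A' C B := by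
  have hc := (h.iff C).1 T.cm
  have hne : B ≠ A' := fun e => (e ▸ hc).symm.not_pair T.pairC
  rcases hD.dich h.right T.memB hne with h1 | h1
  · exact absurd T.pairA ((h.iff B).2 h1).not_pair
  · exact ⟨hc, T.memB, h1, T.pairC⟩

theorem Tri.not_tw {A C B : Subgroup G} (T : Tri S A C B) : ¬ Tw S A B :=
  fun h => ((h.iff C).1 T.cm).symm.not_pair T.pairC

/-- The subgroup generated by the twins of `A`. -/
def Kg (S : Set (Subgroup G)) (A : Subgroup G) : Subgroup G := ⨆ B, ⨆ _ : Tw S A B, B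

theorem le_Kg {A B : Subgroup G} (h : Tw S A B) : B ≤ Kg S A := le_iSup₂_of_le B h le_rfl

theorem self_le_Kg {A : Subgroup G} (h : A ∈ S) : A ≤ Kg S A := le_Kg (Tw.refl h)

theorem Tw.Kg_eq {A B : Subgroup G} (h : Tw S A B) : Kg S A = Kg S B :=
  le_antisymm (iSup₂_le fun _ hX => le_Kg (h.symm.trans hX)) (iSup₂_le fun _ hX => le_Kg (h.trans hX))

theorem Kg_centr {A C : Subgroup G} (h : Cm S A C) {k x : G} (hk : k ∈ Kg S A) (hx : x ∈ C) :
    k * x = x * k := by
  have hle : Kg S A ≤ Subgroup.centralizer {x} := iSup₂_le fun B hB b hb =>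
    Subgroup.mem_centralizer_singleton_iff.2 (((hB.iff C).1 h).comm hb hx)
  exact Subgroup.mem_centralizer_singleton_iff.1 (hle hk)

theorem Kg_fix {A C : Subgroup G} (h : Cm S A C) {k : G} (hk : k ∈ Kg S A) : cn C k = C :=
  cn_of_commute fun _ hx => Kg_centr h hk hx

theorem Kg_tw (hD : Deg S) {A : Subgroup G} (hA : A ∈ S) {k : G} (hk : k ∈ Kg S A) :
    Tw S A (cn A k) := by
  refine ⟨hA, hD.root.conj_mem A hA _, fun X => ⟨fun h => ?_, fun h => ?_⟩⟩
  · have := h.map hD k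
    rwa [Kg_fix h hk] at this
  · have h1 := h.map hD k⁻¹
    rw [cn_cn, mul_inv_cancel, cn_one] at h1
    have h2 := Kg_fix h1 hk
    rw [cn_cn, inv_mul_cancel, cn_one] at h2
    rwa [← h2] at h1

theorem Kg_map (hD : Deg S) {A : Subgroup G} {g k : G} (hk : k ∈ Kg S A) :
    g⁻¹ * k * g ∈ Kg S (cn A g) := by
  have hle : Kg S A ≤ cn (Kg S (cn A g)) g⁻¹ := iSup₂_le fun B hB x hx => by
    rw [mem_cn, inv_inv]
    exact le_Kg (hB.map hD g) (ec_mem hx)
  have := hle hk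
  rwa [mem_cn, inv_inv] at this

/-- A common conjugating element identifies the twins. -/
theorem Tri.mu (hD : Deg S) {A C B : Subgroup G} (T : Tri S A C B) {A' : Subgroup G} (h : Tw S A A') :
    ∃ w, cn A w = A' ∧ ∀ a ∈ A, Tw S (cn B a) (cn B (w⁻¹ * a * w)) := by
  obtain ⟨v, hv, -, hiso⟩ := T.exists_iso hD
  obtain ⟨v', hv', -, hiso'⟩ := (T.tw hD h).exists_iso hD
  have hw : cn A (v * v'⁻¹) = A' := by
    rw [cn_mul_eq hv, ← hv', cn_cn, mul_inv_cancel, cn_one]
  refine ⟨_, hw, fun a ha => ?_⟩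
  rw [show (v * v'⁻¹)⁻¹ * a * (v * v'⁻¹) = v' * (v⁻¹ * a * v) * v'⁻¹ by group]
  by_cases ha1 : a = 1
  · subst ha1
    simpa [cn_one] using Tw.refl T.memB
  obtain ⟨b, hb⟩ := exists_lk T.pairA ha ha1
  have hc := hiso a b hb
  have hmem : v' * (v⁻¹ * a * v) * v'⁻¹ ∈ A' := by
    have := ec_mem (g := v * v'⁻¹) ha
    rwa [hw, show (v * v'⁻¹)⁻¹ * a * (v * v'⁻¹) = v' * (v⁻¹ * a * v) * v'⁻¹ by group] at this
  have hne : v' * (v⁻¹ * a * v) * v'⁻¹ ≠ 1 := by
    have := ec_ne (g := v'⁻¹) hc.ne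
    rwa [inv_inv] at this
  obtain ⟨b', hb'⟩ := exists_lk (T.tw hD h).pairA hmem hne
  have hc' := hiso' _ b' hb'
  rw [show v'⁻¹ * (v' * (v⁻¹ * a * v) * v'⁻¹) * v' = v⁻¹ * a * v by group] at hc'
  have he := hc'.uniq T.pairC hc
  subst he
  rw [← hb.eq, ← hb'.eq]
  exact h.map hD _

theorem Tri.mu_uniq (hD : Deg S) {A C B : Subgroup G} (T : Tri S A C B) {x : G} (hx : x ∈ A)
    (h : Tw S B (cn B x)) : x = 1 := by
  by_contra hx1
  obtain ⟨d, hd⟩ := exists_lk T.pairA hx hx1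
  rw [← hd.eq] at h
  refine T.not_tw (Tw.of_map hD (g := d) ?_)
  rw [cn_of_mem hd.memB]
  exact h.symm

theorem Tri.tw_inj (hD : Deg S) {A C B : Subgroup G} (T : Tri S A C B) {a a' : G} (ha : a ∈ A)
    (ha' : a' ∈ A) (h : Tw S (cn B a) (cn B a')) : a = a' := by
  have h1 := h.map_mul hD a⁻¹
  rw [mul_inv_cancel, cn_one] at h1
  exact (mul_inv_eq_one.1 (T.mu_uniq hD (mul_mem ha' (inv_mem ha)) h1)).symm

/-- If the conjugates by an element of a twin agree in class, they belong to the same element. -/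
theorem Tri.lk_of_tw (hD : Deg S) {A C B : Subgroup G} (T : Tri S A C B) {A' : Subgroup G}
    (hA' : Tw S A A') {a d b : G} (h : Lk A B a d) (hb : b ∈ A') (htw : Tw S (cn B a) (cn B b)) :
    Lk A' B b d := by
  have hb1 : b ≠ 1 := fun e => h.ne (T.mu_uniq hD h.memA (by rw [e, cn_one] at htw; exact htw.symm))
  obtain ⟨d', hd'⟩ := exists_lk (T.tw hD hA').pairA hb hb1
  rw [← h.eq, ← hd'.eq] at htw
  have h1 : Tw S A (cn A' (d' * d⁻¹)) := by
    have := htw.map hD d⁻¹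
    rwa [cn_cn, cn_cn, mul_inv_cancel, cn_one] at this
  suffices hdd : d' * d⁻¹ = 1 by rwa [mul_inv_eq_one.1 hdd] at hd'
  by_contra hne
  obtain ⟨x, hx⟩ := exists_lk' (T.tw hD hA').pairA (mul_mem hd'.memB (inv_mem h.memB)) hne
  rw [hx.eq] at h1
  refine (T.tw hD hA').not_tw (Tw.of_map hD (g := x) ?_)
  rw [cn_of_mem hx.memA]
  exact hA'.symm.trans h1

theorem Tri.comm_gen (hD : Deg S) {A C B : Subgroup G} (T : Tri S A C B) {A' : Subgroup G}
    (h : Tw S A A') {x y : G} (hx : x ∈ A) (hy : y ∈ A') :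
    Tw S (cn B (x * y)) (cn B (y * x)) := by
  obtain ⟨w, hw, hmu⟩ := T.mu hD h
  have hy2 : w * y * w⁻¹ ∈ A := by rwa [← mem_cn, hw]
  have e : w⁻¹ * (w * y * w⁻¹) * w = y := by group
  have h2 := hmu _ hy2
  rw [e] at h2
  have h12 := hmu _ (mul_mem hx hy2)
  rw [show w⁻¹ * (x * (w * y * w⁻¹)) * w = w⁻¹ * x * w * y by group] at h12
  refine ((((hmu x hx).map_mul hD y).trans h12.symm).trans ?_)
  rw [hD.commute T.cm.1 hx hy2]
  exact h2.map_mul hD x

theorem Tri.cn_Kg (hD : Deg S) {A C B : Subgroup G} (T : Tri S A C B) {k : G} (hk : k ∈ Kg S A) :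
    Tri S A C (cn B k) := by
  have h := Kg_tw hD T.cm.1 hk
  refine Tri.tw hD (⟨(h.iff C).1 T.cm, hD.root.conj_mem B T.memB _, pair_cn T.pairA k, ?_⟩ :
    Tri S (cn A k) C (cn B k)) h.symm
  have := pair_cn T.pairC k
  rwa [Kg_fix T.cm hk] at this

/-- The group generated by a twin class permutes the classes of partners abelianly. -/
theorem Tri.swap (hD : Deg S) {A C B : Subgroup G} (T : Tri S A C B) {g x y : G} (hg : g ∈ Kg S A)
    (hx : x ∈ Kg S A) (hy : y ∈ Kg S A) : Tw S (cn B (g * x * y)) (cn B (g * y * x)) := by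
  let P : G → G → Prop := fun x y => ∀ g ∈ Kg S A, Tw S (cn B (g * x * y)) (cn B (g * y * x))
  have symm : ∀ x y, P x y → P y x := fun x y h g hg => (h g hg).symm
  have grow : ∀ x ∈ Kg S A, (∀ A', Tw S A A' → ∀ y ∈ A', P x y) → ∀ y ∈ Kg S A, P x y := by
    intro x hx hgen y hy
    let H : Subgroup G :=
      { carrier := {y | y ∈ Kg S A ∧ P x y}
        one_mem' := ⟨one_mem _, fun g hg => by
          rw [mul_one, mul_one]; exact Tw.refl (hD.root.conj_mem B T.memB _)⟩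
        mul_mem' := fun {y y'} hy hy' => ⟨mul_mem hy.1 hy'.1, fun g hg => by
          have e1 := (hy.2 g hg).map_mul hD y'
          have e2 := hy'.2 (g * y) (mul_mem hg hy.1)
          simp only [mul_assoc] at e1 e2 ⊢
          exact e1.trans e2⟩
        inv_mem' := fun {y} hy => ⟨inv_mem hy.1, fun g hg => by
          have e1 := ((hy.2 (g * y⁻¹) (mul_mem hg (inv_mem hy.1))).map_mul hD y⁻¹).symm
          simp only [mul_assoc, inv_mul_cancel_left, mul_inv_cancel, mul_one] at e1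
          simpa only [mul_assoc] using e1⟩ }
    have hle : Kg S A ≤ H := iSup₂_le fun A' hA' y hy => ⟨le_Kg hA' hy, hgen A' hA' y hy⟩
    exact (hle hy).2
  refine grow x hx (fun A' hA' z hz => symm _ _
    (grow z (le_Kg hA' hz) (fun A'' hA'' z' hz' g hg => ?_) x hx)) y hy g hg
  have T' := (T.cn_Kg hD hg).tw hD hA'
  simpa [cn_cn, mul_assoc] using T'.comm_gen hD (hA'.symm.trans hA'') hz hz'

theorem Tri.swap' (hD : Deg S) {A C B : Subgroup G} (T : Tri S A C B) {x y : G}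
    (hx : x ∈ Kg S A) (hy : y ∈ Kg S A) : Tw S (cn B (x * y)) (cn B (y * x)) := by
  simpa using T.swap hD (one_mem _) hx hy

/-- Membership in the stabiliser of the class of `B` among the elements generated by the twins of `A`. -/
def InR (S : Set (Subgroup G)) (A B : Subgroup G) (r : G) : Prop :=
  r ∈ Kg S A ∧ Tw S B (cn B r)

theorem InR.one {A B : Subgroup G} (hB : B ∈ S) : InR S A B 1 :=
  ⟨one_mem _, by rw [cn_one]; exact Tw.refl hB⟩

theorem InR.mul (hD : Deg S) {A B : Subgroup G} {r r' : G} (h : InR S A B r) (h' : InR S A B r') :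
    InR S A B (r * r') :=
  ⟨mul_mem h.1 h'.1, h'.2.trans (h.2.map_one hD r')⟩

theorem InR.inv (hD : Deg S) {A B : Subgroup G} {r : G} (h : InR S A B r) : InR S A B r⁻¹ := by
  refine ⟨inv_mem h.1, ?_⟩
  have := h.2.map_one hD r⁻¹
  rw [mul_inv_cancel, cn_one] at this
  exact this.symm

theorem InR.tw {A A' B B' : Subgroup G} (hA : Tw S A A') (hB : Tw S B B') (hD : Deg S) {r : G}
    (h : InR S A B r) : InR S A' B' r :=
  ⟨hA.Kg_eq ▸ h.1, hB.symm.trans (h.2.trans (hB.map hD r))⟩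

theorem InR.conj (hD : Deg S) {A C B : Subgroup G} (T : Tri S A C B) {r k : G} (h : InR S A B r)
    (hk : k ∈ Kg S A) : InR S A B (k⁻¹ * r * k) := by
  refine ⟨mul_mem (mul_mem (inv_mem hk) h.1) hk, h.2.trans ?_⟩
  have := T.swap' hD (mul_mem (inv_mem hk) h.1) hk
  rw [← mul_assoc k, mul_inv_cancel, one_mul] at this
  exact this.symm

theorem Tri.decomp (hD : Deg S) {A C B : Subgroup G} (T : Tri S A C B) {k : G} (hk : k ∈ Kg S A) :
    ∃ a ∈ A, ∃ r, InR S A B r ∧ k = a * r := by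
  suffices h : ∃ a ∈ A, Tw S (cn B a) (cn B k) by
    obtain ⟨a, ha, htw⟩ := h
    refine ⟨a, ha, a⁻¹ * k, ⟨mul_mem (inv_mem (self_le_Kg T.cm.1 ha)) hk, ?_⟩, by group⟩
    have h1 := htw.map_mul hD a⁻¹
    rw [mul_inv_cancel, cn_one] at h1
    exact h1.trans (T.swap' hD hk (inv_mem (self_le_Kg T.cm.1 ha)))
  let H : Subgroup G :=
    { carrier := {k | k ∈ Kg S A ∧ ∃ a ∈ A, Tw S (cn B a) (cn B k)}
      one_mem' := ⟨one_mem _, 1, one_mem _, Tw.refl (hD.root.conj_mem B T.memB _)⟩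
      mul_mem' := fun {k k'} hk hk' => by
        obtain ⟨hk, a, ha, h⟩ := hk
        obtain ⟨hk', a', ha', h'⟩ := hk'
        have hA := self_le_Kg T.cm.1
        exact ⟨mul_mem hk hk', a * a', mul_mem ha ha',
          (h.map_mul hD a').trans (((T.swap' hD hk (hA ha')).trans (h'.map_mul hD k)).trans
            (T.swap' hD hk' hk))⟩
      inv_mem' := fun {k} hk => by
        obtain ⟨hk, a, ha, h⟩ := hk
        have hA := self_le_Kg T.cm.1
        refine ⟨inv_mem hk, a⁻¹, inv_mem ha, ?_⟩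
        have e := (h.map_mul hD k⁻¹).map_mul hD a⁻¹
        simp only [mul_inv_cancel, one_mul] at e
        refine e.symm.trans ?_
        have e2 := (T.swap hD (hA ha) (inv_mem hk) (inv_mem (hA ha))).trans
          (Tw.refl (hD.root.conj_mem B T.memB _))
        rwa [show a * a⁻¹ * k⁻¹ = k⁻¹ by group] at e2 }
  have hle : Kg S A ≤ H := iSup₂_le fun A' hA' x hx => by
    obtain ⟨w, hw, hmu⟩ := T.mu hD hA'
    have hy : w * x * w⁻¹ ∈ A := by rwa [← mem_cn, hw]
    have := hmu _ hy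
    rw [show w⁻¹ * (w * x * w⁻¹) * w = x by group] at this
    exact ⟨le_Kg hA' hx, _, hy, this⟩
  exact (hle hk).2

theorem Tri.class_eq (hD : Deg S) {A C B : Subgroup G} (T : Tri S A C B) {r a : G} (hr : r ∈ Kg S A)
    (ha : a ∈ A) : Tw S (cn B a) (cn B (r⁻¹ * a * r)) := by
  have := T.swap' hD hr (mul_mem (inv_mem hr) (self_le_Kg T.cm.1 ha))
  rwa [show r * (r⁻¹ * a) = a by group] at this

theorem Tri.trans_R (hD : Deg S) {A C B : Subgroup G} (T : Tri S A C B) {A' : Subgroup G}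
    (h : Tw S A A') : ∃ r, InR S A B r ∧ cn A r = A' := by
  by_cases he : A' = A
  · exact ⟨1, InR.one T.memB, by rw [cn_one, he]⟩
  rcases hD.dich h.left h.right he with h1 | h1
  · exact absurd rfl ((h.iff _).1 h1).2.2.1
  obtain ⟨x, hx, hxe⟩ := right_mem h1
  obtain ⟨a, ha, r, hr, hk⟩ := T.decomp hD
    (inv_mem ((sup_le (self_le_Kg h.left) (le_Kg h) : A ⊔ A' ≤ Kg S A) hx))
  refine ⟨r, hr, ?_⟩
  rw [hxe, show Cfsg.conjBy A x = cn A x⁻¹ by rw [cn, inv_inv], hk, cn_mul_eq (cn_of_mem ha)]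

/-- Two commuting pairs with all four cross pairs of rank one. -/
structure Quad (S : Set (Subgroup G)) (A C B E : Subgroup G) : Prop where
  triB : Tri S A C B
  triE : Tri S A C E
  cm : Cm S B E

theorem Quad.dual {A C B E : Subgroup G} (Q : Quad S A C B E) : Quad S B E A C :=
  ⟨⟨Q.cm, Q.triB.cm.1, Cfsg.RankOnePair_symm Q.triB.pairA, Cfsg.RankOnePair_symm Q.triE.pairA⟩,
    ⟨Q.cm, Q.triB.cm.2.1, Cfsg.RankOnePair_symm Q.triB.pairC, Cfsg.RankOnePair_symm Q.triE.pairC⟩,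
    Q.triB.cm⟩

theorem Quad.swapE {A C B E : Subgroup G} (Q : Quad S A C B E) : Quad S A C E B :=
  ⟨Q.triE, Q.triB, Q.cm.symm⟩

theorem Tri.quad (hD : Deg S) {A C B : Subgroup G} (T : Tri S A C B) {a b c : G} (h : Lk A B a b)
    (h' : Lk C B c b) : Quad S A C B (cn B (a⁻¹ * c)) := by
  have eA : cn A (a⁻¹ * c) = A := by
    rw [cn_mul_eq (cn_of_mem (inv_mem h.memA)), cn_of_commute fun x hx =>
      (T.cm.comm hx h'.memA).symm]
  have eC : cn C (a⁻¹ * c) = C := by
    rw [cn_mul_eq (T.cm.centr (inv_mem h.memA)), cn_of_mem h'.memA]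
  refine ⟨T, ⟨T.cm, hD.root.conj_mem B T.memB _, ?_, ?_⟩, T.commuting hD h h'⟩
  · have := pair_cn T.pairA (a⁻¹ * c); rwa [eA] at this
  · have := pair_cn T.pairC (a⁻¹ * c); rwa [eC] at this

theorem Quad.inR_eq (hD : Deg S) {A C B E : Subgroup G} (Q : Quad S A C B E) {r : G}
    (h : InR S A B r) : InR S A E r := by
  obtain ⟨a, ha, r', hr', he⟩ := Q.triE.decomp hD h.1
  suffices ha1 : a = 1 by rwa [he, ha1, one_mul]
  have hA := self_le_Kg Q.triB.cm.1
  have h1 : Tw S (cn E a) (cn E r) :=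
    (hr'.2.map_one hD a).trans (by rw [he]; exact Q.triE.swap' hD hr'.1 (hA ha))
  -- a member twin to `E^a` commutes with `B`
  have h2 : Cm S B (cn E a) :=
    ((h1.iff B).2 ((h.2.iff _).2 (Q.cm.map hD r)).symm).symm
  by_contra hne
  have hm : cn E a ∈ Cfsg.unipotentSubgroups A E :=
    conj_mem' (right_mem Q.triE.pairA) (Subgroup.mem_sup_left (inv_mem ha))
  have hsup := (pair_of_ne Q.triE.pairA hm (right_mem Q.triE.pairA) fun e => hne
    (inj_right Q.triE.pairA ha (one_mem _) (by rw [e, cn_one]))).2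
  have hle : cn E a ⊔ E ≤ Subgroup.centralizer ((B : Subgroup G) : Set G) :=
    sup_le (fun x hx => Subgroup.mem_centralizer_iff.2 fun y hy => h2.comm hy hx)
      fun x hx => Subgroup.mem_centralizer_iff.2 fun y hy => Q.cm.comm hy hx
  rw [hsup] at hle
  exact not_commuting Q.triB.pairA (Subgroup.commutator_eq_bot_iff_le_centralizer.2
    fun x hx => hle (Subgroup.mem_sup_left hx))

theorem Quad.transitive (hD : Deg S) {A C B E : Subgroup G} (Q : Quad S A C B E) {A' : Subgroup G}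
    (h : Tw S A A') {a : G} (ha : a ∈ A) (ha1 : a ≠ 1) : ∃ s, InR S B A s ∧ cn A s = A' := by
  obtain ⟨w, hw, hmu⟩ := Q.triB.mu hD h
  have hb : w⁻¹ * a * w ∈ A' := hw ▸ ec_mem ha
  obtain ⟨d, hd⟩ := exists_lk Q.triB.pairA ha ha1
  have hd' := Q.triB.lk_of_tw hD h hd hb (hmu a ha)
  have htw : Tw S B (cn B (w⁻¹ * a * w * a⁻¹)) := by
    have := (hmu a ha).map hD a⁻¹
    rwa [cn_cn, cn_cn, mul_inv_cancel, cn_one] at this
  have T' : Tri S B E A :=
    ⟨Q.cm, Q.triB.cm.1, Cfsg.RankOnePair_symm Q.triB.pairA, Cfsg.RankOnePair_symm Q.triE.pairA⟩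
  obtain ⟨e, he⟩ := exists_lk' (T'.tw hD htw).pairA ha ha1
  have hAe : cn A e = cn A' d := by
    rw [← he.eq, cn_cn, inv_mul_cancel_right, ← hd'.eq]
  refine ⟨e * d⁻¹, ⟨mul_mem (le_Kg htw he.memA) (inv_mem (self_le_Kg Q.triB.memB hd.memB)), ?_⟩,
    by rw [cn_mul_eq hAe, cn_cn, mul_inv_cancel, cn_one]⟩
  rwa [cn_mul_eq hAe, cn_cn, mul_inv_cancel, cn_one]

theorem Quad.regular (hD : Deg S) {A C B E : Subgroup G} (Q : Quad S A C B E) {a : G} (ha : a ∈ A)
    (ha1 : a ≠ 1) {s : G} (hs : InR S B A s) (hfix : cn A s = A) {A' : Subgroup G} (h : Tw S A A') :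
    cn A' s = A' := by
  obtain ⟨t, ht, rfl⟩ := Q.swapE.transitive hD h ha ha1
  have hts : t * s = s * t := by
    have hle : Kg S E ≤ Subgroup.centralizer {s} := iSup₂_le fun E' hE' x hx =>
      Subgroup.mem_centralizer_singleton_iff.2
        (Kg_centr ((hE'.iff B).1 Q.cm.symm).symm hs.1 hx).symm
    exact Subgroup.mem_centralizer_singleton_iff.1 (hle ht.1)
  rw [cn_cn, hts, cn_mul_eq hfix]

theorem Tri.free (hD : Deg S) {A C B : Subgroup G} (T : Tri S A C B) {A' : Subgroup G}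
    (h : Tw S A A') {a b : G} (ha : a ∈ A) (ha1 : a ≠ 1) (hb : b ∈ A') (he : cn B b = cn B a) :
    A' = A := by
  obtain ⟨d, hd⟩ := exists_lk T.pairA ha ha1
  have h2 := T.lk_of_tw hD h hd hb (he ▸ Tw.refl (hD.root.conj_mem B T.memB _))
  exact cn_inj (h2.eq.trans (he.trans hd.eq.symm))

/-- An element stabilising both classes and generated by either fixes `A`. -/
theorem Tri.inter_fix (hD : Deg S) {A C B : Subgroup G} (T : Tri S A C B) {x : G}
    (hxA : InR S A B x) (hxB : InR S B A x) {a a' : G} (ha : a ∈ A) (ha1 : a ≠ 1) (ha' : a' ∈ A)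
    (hne : a' ≠ 1) (hne' : a' * a ≠ 1) : cn A x = A := by
  have hA := self_le_Kg T.cm.1
  have star : ∀ a ∈ A, a ≠ 1 → cn B (a * x) = cn B a := by
    intro a ha ha1
    obtain ⟨b, hb⟩ := exists_lk T.pairA (inv_mem ha) (inv_ne_one.2 ha1)
    obtain ⟨c, hc⟩ := exists_lk' T.pairC hb.memB hb.ne'
    have hq := (T.quad hD hb hc).cm
    have e := Kg_fix hq hxB.1
    rw [inv_inv] at e
    have hxc : x * c = c * x := Kg_centr T.cm hxA.1 hc.memA
    have hac : a * c = c * a := T.cm.comm ha hc.memA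
    rw [cn_cn, mul_assoc, ← hxc, ← mul_assoc] at e
    have e2 : cn (cn B (a * x)) c = cn (cn B a) c := by rw [cn_cn, cn_cn, e]
    exact cn_inj e2
  by_contra hB
  set A' := cn A x with hA'
  have htw : Tw S A A' := Kg_tw hD T.cm.1 hxA.1
  have hb : ∀ y ∈ A, x⁻¹ * y * x ∈ A' := fun y hy => ec_mem hy
  have hfix : ∀ y ∈ A, y ≠ 1 → cn B (x * (x⁻¹ * y * x)) = cn B y := fun y hy hy1 => by
    rw [show x * (x⁻¹ * y * x) = y * x by group, star y hy hy1]
  -- compare two factorisations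
  have e1 : cn B (a' * (x⁻¹ * a * x)) = cn B (a' * a) := by
    calc cn B (a' * (x⁻¹ * a * x)) = cn B (x * (x⁻¹ * a' * x) * (x⁻¹ * a * x)) := by
          rw [← cn_cn, ← hfix a' ha' hne, cn_cn]
      _ = cn B (x * (x⁻¹ * (a' * a) * x)) := by
          rw [show x * (x⁻¹ * a' * x) * (x⁻¹ * a * x) = x * (x⁻¹ * (a' * a) * x) by group]
      _ = cn B (a' * a) := hfix _ (mul_mem ha' ha) hne'
  have e2 : cn B (a' * (x⁻¹ * a * x) * a'⁻¹) = cn B a := by
    rw [cn_mul_eq e1, cn_cn, hD.commute T.cm.1 ha' ha, mul_inv_cancel_right]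
  have hmem : a' * (x⁻¹ * a * x) * a'⁻¹ ∈ cn A' a'⁻¹ := by
    simpa using ec_mem (g := a'⁻¹) (hb a ha)
  have htw' : Tw S A (cn A' a'⁻¹) := by
    have := htw.map hD a'⁻¹
    rwa [cn_of_mem (inv_mem ha')] at this
  refine hB ?_
  have := T.free hD htw' ha ha1 hmem e2
  rw [← cn_of_mem (A := A) (g := a'⁻¹) (inv_mem ha')] at this
  exact cn_inj (this.trans (by rw [cn_of_mem (inv_mem ha')]))

end Cfsg.Agent.Classical.DegenRoot
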