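/-
Degenerate sets of abstract root subgroups: a member with a twin has at most three elements.
-/
import Mathlib
import Cfsg.Prelude.Def_RootSubgroups
import Cfsg.Agent.Lib.Classical.DegenerateTwin

set_option autoImplicit false

namespace Cfsg.Agent.Classical.DegenRoot

open Cfsg.Agent.Classical.RankOne

variable {G : Type*} [Group G] {S : Set (Subgroup G)}

/-- More than three elements. -/
def Big (A : Subgroup G) : Prop :=
  ∃ a ∈ A, ∃ a' ∈ A, a ≠ 1 ∧ a' ≠ 1 ∧ a' * a ≠ 1 ∧ a' ≠ a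

theorem Big.map {A : Subgroup G} (h : Big A) (g : G) : Big (cn A g) := by
  obtain ⟨a, ha, a', ha', h1, h2, h3, h4⟩ := h
  exact ⟨_, ec_mem ha, _, ec_mem ha', ec_ne h1, ec_ne h2,
    fun e => ec_ne (g := g) h3 (by rw [← e]; group),
    fun e => h4 (mul_left_cancel (mul_right_cancel e))⟩

theorem InR.map (hD : Deg S) {A B : Subgroup G} {r : G} (h : InR S A B r) (g : G) :
    InR S (cn A g) (cn B g) (g⁻¹ * r * g) :=
  ⟨Kg_map hD h.1, by
    have := h.2.map hD g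
    rwa [cn_cn, show r * g = g * (g⁻¹ * r * g) by group, ← cn_cn B g] at this⟩

theorem Tri.big_tw (hD : Deg S) {A C B : Subgroup G} (T : Tri S A C B) (hb : Big A) {A' : Subgroup G}
    (h : Tw S A A') : Big A' := by
  obtain ⟨w, hw, -⟩ := T.mu hD h
  exact hw ▸ hb.map w

theorem Tri.comm_on (hD : Deg S) {A C B : Subgroup G} (T : Tri S A C B) (hb : Big A) {r s : G}
    (hr : InR S A B r) (hs : InR S B A s) : cn A (r * s) = cn A (s * r) := by
  have hA : Tw S A (cn A r) := Kg_tw hD T.cm.1 hr.1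
  have hB : Tw S B (cn B s) := Kg_tw hD T.memB hs.1
  have h1 : InR S B A (r⁻¹ * s⁻¹ * r) := ((hs.inv hD).map hD r).tw hr.2.symm hA.symm hD
  have h2 : InR S A B (s⁻¹ * r * s) := (hr.map hD s).tw hs.2.symm hB.symm hD
  have hx1 : InR S A B (r⁻¹ * s⁻¹ * r * s) := by
    have := (hr.inv hD).mul hD h2
    rwa [show r⁻¹ * (s⁻¹ * r * s) = r⁻¹ * s⁻¹ * r * s by group] at this
  have hx2 : InR S B A (r⁻¹ * s⁻¹ * r * s) := h1.mul hD hs
  have htw : Tw S A (cn A (s * r)) := by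
    have := hA.trans ((hs.2).map hD r)
    rwa [cn_cn] at this
  obtain ⟨a, ha, a', ha', ha1, hne, hne', -⟩ := T.big_tw hD hb htw
  have := (T.tw hD htw).inter_fix hD (hx1.tw htw (Tw.refl T.memB) hD)
    (hx2.tw (Tw.refl T.memB) htw hD) ha ha1 ha' hne hne'
  rw [cn_cn, show s * r * (r⁻¹ * s⁻¹ * r * s) = r * s by group] at this
  exact this

theorem Quad.ab (hD : Deg S) {A C B E : Subgroup G} (Q : Quad S A C B E) (hb : Big A) {r r' : G}
    (hr : InR S A B r) (hr' : InR S A B r') : cn A (r * r') = cn A (r' * r) := by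
  obtain ⟨a, ha, -, -, ha1, -⟩ := id hb
  obtain ⟨s, hs, es⟩ := Q.transitive hD (Kg_tw hD Q.triB.cm.1 hr.1) ha ha1
  obtain ⟨s', hs', es'⟩ := Q.transitive hD (Kg_tw hD Q.triB.cm.1 hr'.1) ha ha1
  obtain ⟨t, ht, et⟩ := Q.swapE.transitive hD (Kg_tw hD Q.triB.cm.1 hr'.1) ha ha1
  have hts : t * s = s * t := by
    have hle : Kg S E ≤ Subgroup.centralizer {s} := iSup₂_le fun E' hE' x hx =>
      Subgroup.mem_centralizer_singleton_iff.2
        (Kg_centr ((hE'.iff B).1 Q.cm.symm).symm hs.1 hx).symm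
    exact Subgroup.mem_centralizer_singleton_iff.1 (hle ht.1)
  have e1 : cn A (r * r') = cn A (s' * s) := by
    rw [cn_mul_eq es.symm, cn_cn, ← Q.triB.comm_on hD hb hr' hs, cn_mul_eq es'.symm, cn_cn]
  have e2 : cn A (r' * r) = cn A (s' * s) := by
    rw [cn_mul_eq et.symm, cn_cn, ← Q.triE.comm_on hD hb (Q.inR_eq hD hr) ht, cn_mul_eq es.symm,
      cn_cn, ← hts, cn_mul_eq et, cn_cn, ← cn_cn A r', ← es', cn_cn]
  rw [e1, e2]

/-- The stabiliser of the class of `B` in the group generated by the twins of `A`. -/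
def Rg (S : Set (Subgroup G)) (A B : Subgroup G) : Subgroup G := Subgroup.closure {r | InR S A B r}

theorem mem_Rg (hD : Deg S) {A B : Subgroup G} (hB : B ∈ S) {r : G} :
    r ∈ Rg S A B ↔ InR S A B r := by
  refine ⟨fun h => ?_, fun h => Subgroup.subset_closure h⟩
  induction h using Subgroup.closure_induction with
  | mem x hx => exact hx
  | one => exact InR.one hB
  | mul x y _ _ hx hy => exact hx.mul hD hy
  | inv x _ hx => exact hx.inv hD

/-- Its elements fixing `A`. -/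
def Nf (S : Set (Subgroup G)) (A B : Subgroup G) : Subgroup (Rg S A B) :=
  (Subgroup.normalizer (A : Set G)).subgroupOf (Rg S A B)

theorem mem_Nf {A B : Subgroup G} {r : Rg S A B} : r ∈ Nf S A B ↔ cn A (r : G) = A := by
  rw [Nf, Subgroup.mem_subgroupOf, mem_normalizer_iff_conjBy, conjBy_eq_iff]
  exact eq_comm

/-- The action by translations, as a group. -/
abbrev Pt (S : Set (Subgroup G)) (A B : Subgroup G) : Type _ := Rg S A B ⧸ Nf S A B

/-- Conjugation by `g` as a homomorphism between two subgroups. -/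
def conjHom {P R : Subgroup G} (g : G) (h : ∀ r ∈ P, g⁻¹ * r * g ∈ R) : P →* R :=
  MonoidHom.mk' (fun r => ⟨g⁻¹ * r * g, h r r.2⟩) fun r r' => Subtype.ext (by
    simp only [Subgroup.coe_mul]
    group)

@[simp] theorem conjHom_apply {P R : Subgroup G} (g : G) (h : ∀ r ∈ P, g⁻¹ * r * g ∈ R) (r : P) :
    ((conjHom g h r : R) : G) = g⁻¹ * r * g := rfl

theorem Quad.Nf_normal (hD : Deg S) {A C B E : Subgroup G} (Q : Quad S A C B E) (hb : Big A) :
    (Nf S A B).Normal := by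
  refine ⟨fun n hn g => ?_⟩
  have hm : ∀ x : Rg S A B, InR S A B (x : G) := fun x => (mem_Rg hD Q.triB.memB).1 x.2
  rw [mem_Nf] at hn ⊢
  have e := Q.ab hD hb (hm g) (hm (n * g⁻¹))
  simp only [Subgroup.coe_mul, Subgroup.coe_inv] at e ⊢
  rw [mul_assoc, e, inv_mul_cancel_right, hn]

theorem Quad.pt_eq (hD : Deg S) {A C B E : Subgroup G} (Q : Quad S A C B E) (hb : Big A)
    {r r' : Rg S A B} : (QuotientGroup.mk r : Pt S A B) = QuotientGroup.mk r' ↔
      cn A (r : G) = cn A (r' : G) := by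
  rw [QuotientGroup.eq, mem_Nf, Subgroup.coe_mul, Subgroup.coe_inv,
    Q.ab hD hb (((mem_Rg hD Q.triB.memB).1 r.2).inv hD) ((mem_Rg hD Q.triB.memB).1 r'.2)]
  constructor
  · intro e
    have := congrArg (cn · (r : G)) e
    simpa [cn_cn] using this.symm
  · intro e
    rw [cn_mul_eq e.symm, cn_cn, mul_inv_cancel, cn_one]

theorem Quad.pt_comm (hD : Deg S) {A C B E : Subgroup G} (Q : Quad S A C B E) (hb : Big A)
    [(Nf S A B).Normal] (x y : Pt S A B) : x * y = y * x := by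
  induction x using QuotientGroup.induction_on with
  | H r =>
    induction y using QuotientGroup.induction_on with
    | H r' =>
      rw [← QuotientGroup.mk_mul, ← QuotientGroup.mk_mul, Q.pt_eq hD hb]
      exact Q.ab hD hb ((mem_Rg hD Q.triB.memB).1 r.2) ((mem_Rg hD Q.triB.memB).1 r'.2)

theorem Tri.big_dual (hD : Deg S) {A C B : Subgroup G} (T : Tri S A C B) (hb : Big A) : Big B := by
  have key : ∀ {x : G}, x ∈ A → x ≠ 1 → ∃ y, Lk A B x y := fun hx hx1 => exists_lk T.pairA hx hx1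
  obtain ⟨a, ha, a', ha', h1, h2, h3, h4⟩ := hb
  obtain ⟨b, hb⟩ := key ha h1
  obtain ⟨b', hb'⟩ := key ha' h2
  refine ⟨b, hb.memB, b', hb'.memB, hb.ne', hb'.ne', fun e => h3 ?_, fun e => h4 ?_⟩
  · rw [eq_inv_of_mul_eq_one_left e] at hb'
    rw [hb'.uniq' T.pairA (T.lk_inv hD hb), inv_mul_cancel]
  · subst e
    exact hb'.uniq' T.pairA hb

theorem Tri.exists_quad (hD : Deg S) {A C B : Subgroup G} (T : Tri S A C B) :
    ∃ E, Quad S A C B E := by
  obtain ⟨a, ha, ha1⟩ := left_ne_bot T.pairA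
  obtain ⟨b, hb⟩ := exists_lk T.pairA ha ha1
  obtain ⟨c, hc⟩ := exists_lk' T.pairC hb.memB hb.ne'
  exact ⟨_, T.quad hD hb hc⟩

theorem Quad.inR_carry (hD : Deg S) {A C B E : Subgroup G} (Q : Quad S A C B E) {x y r : G}
    (h : Lk A B x y) (hr : InR S A B r) :
    InR S B A ((y * x⁻¹)⁻¹ * r * (y * x⁻¹)) := by
  have h' := Q.triB.lk_inv hD h
  have eA : cn A (y * x⁻¹) = B := by
    rw [cn_mul_eq h.eq, cn_cn, mul_inv_cancel, cn_one]
  have eB : cn B (y * x⁻¹) = cn A y⁻¹ := by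
    rw [cn_mul_eq (cn_of_mem h.memB), h'.eq]
  have h1 := hr.map hD (y * x⁻¹)
  rw [eA, eB] at h1
  have hK := self_le_Kg Q.triB.memB h.memB
  refine ⟨h1.1, ?_⟩
  set s := (y * x⁻¹)⁻¹ * r * (y * x⁻¹)
  have h2 := h1.2
  rw [cn_cn] at h2
  have h3 := h2.trans (Q.dual.triB.swap' hD (inv_mem hK) h1.1)
  rw [← cn_cn A s y⁻¹] at h3
  exact h3.of_map hD

theorem Quad.point (hD : Deg S) {A C B E : Subgroup G} (Q : Quad S A C B E) {x y r : G}
    (h : Lk A B x y) (hr : InR S A B r) :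
    cn B ((y * x⁻¹)⁻¹ * r * (y * x⁻¹)) = cn B (r⁻¹ * x * r * x⁻¹) := by
  have hK := self_le_Kg Q.triB.cm.1 h.memA
  have hb := Q.triB.lk_of_tw hD (Kg_tw hD Q.triB.cm.1 hr.1) h (ec_mem (g := r) h.memA)
    (Q.triB.class_eq hD hr.1 h.memA)
  rw [show (y * x⁻¹)⁻¹ * r * (y * x⁻¹) = x * (y⁻¹ * (r * (y * x⁻¹))) by group, cn_mul_eq h.eq.symm,
    cn_cn, mul_inv_cancel_left, ← cn_cn A r, cn_mul_eq hb.eq, cn_cn]

set_option maxHeartbeats 800000 in
/-- A member of a triangle having a twin has at most three elements. -/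
theorem Tri.not_big (hD : Deg S) {A C B : Subgroup G} (T : Tri S A C B) {A' : Subgroup G}
    (htwin : Tw S A A') (hne : A' ≠ A) : ¬ Big A := by
  intro hbig
  obtain ⟨E, Q⟩ := T.exists_quad hD
  have hbig' : Big B := T.big_dual hD hbig
  have Q' := Q.dual
  haveI := Q.Nf_normal hD hbig
  haveI := Q'.Nf_normal hD hbig'
  letI : CommGroup (Pt S A B) :=
    { (inferInstance : Group (Pt S A B)) with mul_comm := Q.pt_comm hD hbig }
  letI : CommGroup (Pt S B A) :=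
    { (inferInstance : Group (Pt S B A)) with mul_comm := Q'.pt_comm hD hbig' }
  have mA := fun {r : G} => @mem_Rg G _ S hD A B T.memB r
  have mB := fun {r : G} => @mem_Rg G _ S hD B A T.cm.1 r
  -- conjugation by elements of `A` and of `B`
  let K : A → (Rg S A B →* Rg S A B) := fun x => conjHom (x : G) fun _ hr =>
    mA.2 ((mA.1 hr).conj hD T (self_le_Kg T.cm.1 x.2))
  let K' : B → (Rg S B A →* Rg S B A) := fun y => conjHom (y : G) fun _ hr =>
    mB.2 ((mB.1 hr).conj hD Q'.triB (self_le_Kg T.memB y.2))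
  have hK : ∀ x r, ((K x r : Rg S A B) : G) = (x : G)⁻¹ * r * x := fun _ _ => rfl
  have hK' : ∀ y r, ((K' y r : Rg S B A) : G) = (y : G)⁻¹ * r * y := fun _ _ => rfl
  let L : A → (Pt S A B →* Pt S A B) := fun x =>
    QuotientGroup.map _ _ (K x) fun r hr => by
      rw [Subgroup.mem_comap, mem_Nf, hK, mul_assoc, cn_mul_eq (cn_of_mem (inv_mem x.2)),
        cn_mul_eq (mem_Nf.1 hr), cn_of_mem x.2]
  let M : B → (Pt S B A →* Pt S B A) := fun y =>
    QuotientGroup.map _ _ (K' y) fun r hr => by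
      rw [Subgroup.mem_comap, mem_Nf, hK', mul_assoc, cn_mul_eq (cn_of_mem (inv_mem y.2)),
        cn_mul_eq (mem_Nf.1 hr), cn_of_mem y.2]
  have hL : ∀ x r, L x (QuotientGroup.mk r) = QuotientGroup.mk (K x r) := fun _ _ => rfl
  have hM : ∀ y r, M y (QuotientGroup.mk r) = QuotientGroup.mk (K' y r) := fun _ _ => rfl
  have hLL : ∀ x x' v, L x (L x' v) = L (x' * x) v := by
    intro x x' v
    induction v using QuotientGroup.induction_on with
    | H r =>
      rw [hL, hL, hL]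
      congr 1
      refine Subtype.ext ?_
      simp only [hK, Subgroup.coe_mul]
      group
  have hMM : ∀ y y' v, M y (M y' v) = M (y' * y) v := by
    intro y y' v
    induction v using QuotientGroup.induction_on with
    | H r =>
      rw [hM, hM, hM]
      congr 1
      refine Subtype.ext ?_
      simp only [hK', Subgroup.coe_mul]
      group
  have hM1 : ∀ v, M 1 v = v := by
    intro v
    induction v using QuotientGroup.induction_on with
    | H r =>
      rw [hM]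
      congr 1
      exact Subtype.ext (by simp [hK'])
  have hfree : ∀ (x : A) (v : Pt S A B), x ≠ 1 → L x v = v → v = 1 := by
    intro x v hx e
    induction v using QuotientGroup.induction_on with
    | H r =>
      rw [hL, Q.pt_eq hD hbig, hK, mul_assoc, cn_mul_eq (cn_of_mem (inv_mem x.2)), ← cn_cn] at e
      rw [← QuotientGroup.mk_one, Q.pt_eq hD hbig, Subgroup.coe_one, cn_one]
      by_contra hr
      have htw := Kg_tw hD T.cm.1 (mA.1 r.2).1
      rcases hD.dich htw.left htw.right hr with h1 | h1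
      · exact ((htw.iff _).1 h1).2.2.1 rfl
      · exact hx (Subtype.ext (inj_right h1 x.2 (one_mem _) (by rw [Subgroup.coe_one, cn_one]; exact e)))
  -- transport of translations to the class of `B`
  have Tt : Tri S B E A := Q'.triB
  have hφ : ∀ r : Rg S A B, ∃ s : Rg S B A, cn B (s : G) = cn B (r : G) := fun r => by
    obtain ⟨s, hs, e⟩ := Tt.trans_R hD (Kg_tw hD T.cm.1 (mA.1 r.2).1 |> fun _ => (mA.1 r.2).2)
    exact ⟨⟨s, mB.2 hs⟩, e⟩
  choose φ hφ using hφ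
  have hΦmul : ∀ r r', (QuotientGroup.mk (φ (r * r')) : Pt S B A) =
      QuotientGroup.mk (φ r) * QuotientGroup.mk (φ r') := by
    intro r r'
    rw [← QuotientGroup.mk_mul, Q'.pt_eq hD hbig', hφ, Subgroup.coe_mul, Subgroup.coe_mul,
      cn_mul_eq (hφ r).symm, cn_cn, Q'.triB.comm_on hD hbig' (mB.1 (φ r).2) (mA.1 r'.2),
      Q'.ab hD hbig' (mB.1 (φ r).2) (mB.1 (φ r').2), cn_mul_eq (hφ r').symm, cn_cn]
  let Φ : Rg S A B →* Pt S B A := MonoidHom.mk' (fun r => QuotientGroup.mk (φ r)) hΦmul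
  have hf : ∀ (x : A) (y : B), Lk A B x y → ∃ f : Pt S A B →* Pt S B A,
      ∀ r : Rg S A B, f (QuotientGroup.mk r) = (Φ r)⁻¹ * Φ (K x⁻¹ r) ∧
        ∃ s : Rg S B A, (s : G) = ((y : G) * (x : G)⁻¹)⁻¹ * r * ((y : G) * (x : G)⁻¹) ∧
          f (QuotientGroup.mk r) = QuotientGroup.mk s := by
    intro x y hxy
    let c : Rg S A B →* Rg S B A := conjHom ((y : G) * (x : G)⁻¹) fun _ hr =>
      mB.2 (Q.inR_carry hD hxy (mA.1 hr))
    have hc : ∀ r, ((c r : Rg S B A) : G) = ((y : G) * (x : G)⁻¹)⁻¹ * r * ((y : G) * (x : G)⁻¹) :=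
      fun _ => rfl
    have eA : cn A ((y : G) * (x : G)⁻¹) = B := by
      rw [cn_mul_eq hxy.eq, cn_cn, mul_inv_cancel, cn_one]
    refine ⟨QuotientGroup.map _ _ c fun r hr => ?_, fun r => ⟨?_, c r, hc r, rfl⟩⟩
    · have eA' : cn B ((y : G) * (x : G)⁻¹)⁻¹ = A :=
        cn_inj (g := (y : G) * (x : G)⁻¹) (by rw [cn_cn, inv_mul_cancel, cn_one, eA])
      rw [Subgroup.mem_comap, mem_Nf, hc, mul_assoc, cn_mul_eq eA', cn_mul_eq (mem_Nf.1 hr), eA]
    · rw [← map_inv, ← map_mul]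
      show QuotientGroup.mk (c r) = QuotientGroup.mk (φ _)
      rw [Q'.pt_eq hD hbig', hφ, hc, Q.point hD hxy (mA.1 r.2), Subgroup.coe_mul, hK]
      simp [mul_assoc]
  have hg : ∀ (x : A) (y : B), Lk A B x y → ∃ g : Pt S B A →* Pt S A B,
      ∀ r : Rg S B A, ∃ s : Rg S A B, (s : G) = ((x : G) * (y : G)⁻¹)⁻¹ * r * ((x : G) * (y : G)⁻¹) ∧
          g (QuotientGroup.mk r) = QuotientGroup.mk s := by
    intro x y hxy
    let c : Rg S B A →* Rg S A B := conjHom ((x : G) * (y : G)⁻¹) fun _ hr =>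
      mA.2 (Q'.inR_carry hD hxy.symm (mB.1 hr))
    have hc : ∀ r, ((c r : Rg S A B) : G) = ((x : G) * (y : G)⁻¹)⁻¹ * r * ((x : G) * (y : G)⁻¹) :=
      fun _ => rfl
    have eA : cn B ((x : G) * (y : G)⁻¹) = A := by
      rw [cn_mul_eq hxy.eq.symm, cn_cn, mul_inv_cancel, cn_one]
    refine ⟨QuotientGroup.map _ _ c fun r hr => ?_, fun r => ⟨c r, hc r, rfl⟩⟩
    have eA' : cn A ((x : G) * (y : G)⁻¹)⁻¹ = B :=
      cn_inj (g := (x : G) * (y : G)⁻¹) (by rw [cn_cn, inv_mul_cancel, cn_one, eA])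
    rw [Subgroup.mem_comap, mem_Nf, hc, mul_assoc, cn_mul_eq eA', cn_mul_eq (mem_Nf.1 hr), eA]
  obtain ⟨a₀, ha, a₀', ha', h1, h1', h3, h4⟩ := id hbig
  obtain ⟨d₀, hd⟩ := exists_lk T.pairA ha h1
  obtain ⟨d₀', hd'⟩ := exists_lk T.pairA ha' h1'
  let a : A := ⟨a₀, ha⟩
  let a' : A := ⟨a₀', ha'⟩
  let d : B := ⟨d₀, hd.memB⟩
  let d' : B := ⟨d₀', hd'.memB⟩
  obtain ⟨f, hfd⟩ := hf a d hd
  obtain ⟨f', hfd'⟩ := hf a' d' hd'
  obtain ⟨g, hgd⟩ := hg a d hd
  obtain ⟨g', hgd'⟩ := hg a' d' hd'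
  -- `g` inverts `f`
  have hgf : ∀ (x : A) (y : B) (f : Pt S A B →* Pt S B A) (g : Pt S B A →* Pt S A B),
      (∀ r : Rg S A B, ∃ s : Rg S B A, (s : G) = ((y : G) * (x : G)⁻¹)⁻¹ * r * ((y : G) * (x : G)⁻¹) ∧
        f (QuotientGroup.mk r) = QuotientGroup.mk s) →
      (∀ r : Rg S B A, ∃ s : Rg S A B, (s : G) = ((x : G) * (y : G)⁻¹)⁻¹ * r * ((x : G) * (y : G)⁻¹) ∧
        g (QuotientGroup.mk r) = QuotientGroup.mk s) →
      (∀ v, g (f v) = v) ∧ ∀ w, f (g w) = w := by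
    intro x y f g h h'
    constructor <;> intro v <;> induction v using QuotientGroup.induction_on with
    | H r =>
      first
      | (obtain ⟨s, hs, es⟩ := h r
         obtain ⟨t, ht, et⟩ := h' s
         rw [es, et]
         congr 1
         exact Subtype.ext (by rw [ht, hs]; group))
      | (obtain ⟨s, hs, es⟩ := h' r
         obtain ⟨t, ht, et⟩ := h s
         rw [es, et]
         congr 1
         exact Subtype.ext (by rw [ht, hs]; group))
  obtain ⟨gf, fg⟩ := hgf a d f g (fun r => (hfd r).2) hgd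
  obtain ⟨gf', fg'⟩ := hgf a' d' f' g' (fun r => (hfd' r).2) hgd'
  have hcomm : ∀ x x' : A, x * x' = x' * x := fun x x' =>
    Subtype.ext (hD.commute T.cm.1 x.2 x'.2)
  have hLc : ∀ x x' v, L x (L x' v) = L x' (L x v) := fun x x' v => by rw [hLL, hLL, hcomm]
  have hKK : ∀ r, K a⁻¹ (K a'⁻¹ r) = K a'⁻¹ (K a⁻¹ r) := fun r => Subtype.ext (by
    simp only [hK, Subgroup.coe_inv, inv_inv]
    calc a₀ * (a₀' * (r : G) * a₀'⁻¹) * a₀⁻¹ = a₀ * a₀' * r * (a₀ * a₀')⁻¹ := by group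
      _ = a₀' * a₀ * r * (a₀' * a₀)⁻¹ := by rw [hD.commute T.cm.1 ha ha']
      _ = a₀' * (a₀ * r * a₀⁻¹) * a₀'⁻¹ := by group)
  -- the two relations
  have rel : ∀ v, f (v⁻¹ * L a'⁻¹ v) = f' (v⁻¹ * L a⁻¹ v) := by
    intro v
    induction v using QuotientGroup.induction_on with
    | H r =>
      rw [hL, hL, ← QuotientGroup.mk_inv, ← QuotientGroup.mk_mul, ← QuotientGroup.mk_mul,
        (hfd _).1, (hfd' _).1]
      simp only [map_mul, map_inv, hKK, mul_inv_rev, inv_inv]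
      ac_rfl
  have hfi : ∀ (x : A) (y : B) (f fi : Pt S A B →* Pt S B A),
      (∀ r, f (QuotientGroup.mk r) = (Φ r)⁻¹ * Φ (K x⁻¹ r)) →
      (∀ r, fi (QuotientGroup.mk r) = (Φ r)⁻¹ * Φ (K x⁻¹⁻¹ r)) → ∀ v, fi v * f (L x v) = 1 := by
    intro x y f fi hf hfi v
    induction v using QuotientGroup.induction_on with
    | H r =>
      have e : K x⁻¹ (K x r) = r := Subtype.ext (by simp [hK, mul_assoc])
      rw [hL, hf, hfi, e, inv_inv, mul_assoc, mul_inv_cancel_left, inv_mul_cancel]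
  -- the same relations with the classes interchanged
  have hψ : ∀ r : Rg S B A, ∃ s : Rg S A B, cn A (s : G) = cn A (r : G) := fun r => by
    obtain ⟨s, hs, e⟩ := T.trans_R hD (mB.1 r.2).2
    exact ⟨⟨s, mA.2 hs⟩, e⟩
  choose ψ hψ using hψ
  have hΨmul : ∀ r r', (QuotientGroup.mk (ψ (r * r')) : Pt S A B) =
      QuotientGroup.mk (ψ r) * QuotientGroup.mk (ψ r') := by
    intro r r'
    rw [← QuotientGroup.mk_mul, Q.pt_eq hD hbig, hψ, Subgroup.coe_mul, Subgroup.coe_mul,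
      cn_mul_eq (hψ r).symm, cn_cn, Q.triB.comm_on hD hbig (mA.1 (ψ r).2) (mB.1 r'.2),
      Q.ab hD hbig (mA.1 (ψ r).2) (mA.1 (ψ r').2), cn_mul_eq (hψ r').symm, cn_cn]
  let Ψ : Rg S B A →* Pt S A B := MonoidHom.mk' (fun r => QuotientGroup.mk (ψ r)) hΨmul
  have point : ∀ (x : A) (y : B) (g : Pt S B A →* Pt S A B), Lk A B x y →
      (∀ r : Rg S B A, ∃ s : Rg S A B, (s : G) = ((x : G) * (y : G)⁻¹)⁻¹ * r * ((x : G) * (y : G)⁻¹) ∧
        g (QuotientGroup.mk r) = QuotientGroup.mk s) →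
      ∀ r, g (QuotientGroup.mk r) = (Ψ r)⁻¹ * Ψ (K' y⁻¹ r) := by
    intro x y g hxy h r
    obtain ⟨s, hs, es⟩ := h r
    rw [es, ← map_inv, ← map_mul]
    show QuotientGroup.mk s = QuotientGroup.mk (ψ _)
    rw [Q.pt_eq hD hbig, hψ, hs, Q'.point hD hxy.symm (mB.1 r.2), Subgroup.coe_mul, hK']
    simp [mul_assoc]
  have hKK' : ∀ r, K' d⁻¹ (K' d'⁻¹ r) = K' d'⁻¹ (K' d⁻¹ r) := fun r => Subtype.ext (by
    simp only [hK', Subgroup.coe_inv, inv_inv]
    calc d₀ * (d₀' * (r : G) * d₀'⁻¹) * d₀⁻¹ = d₀ * d₀' * r * (d₀ * d₀')⁻¹ := by group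
      _ = d₀' * d₀ * r * (d₀' * d₀)⁻¹ := by rw [hD.commute T.memB hd.memB hd'.memB]
      _ = d₀' * (d₀ * r * d₀⁻¹) * d₀'⁻¹ := by group)
  have rel' : ∀ w, g (w⁻¹ * M d'⁻¹ w) = g' (w⁻¹ * M d⁻¹ w) := by
    intro w
    induction w using QuotientGroup.induction_on with
    | H r =>
      rw [hM, hM, ← QuotientGroup.mk_inv, ← QuotientGroup.mk_mul, ← QuotientGroup.mk_mul,
        point a d g hd hgd, point a' d' g' hd' hgd']
      simp only [map_mul, map_inv, hKK', mul_inv_rev, inv_inv]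
      ac_rfl
  have hgi : ∀ (x : A) (y : B) (g gi : Pt S B A →* Pt S A B),
      (∀ r, g (QuotientGroup.mk r) = (Ψ r)⁻¹ * Ψ (K' y⁻¹ r)) →
      (∀ r, gi (QuotientGroup.mk r) = (Ψ r)⁻¹ * Ψ (K' y⁻¹⁻¹ r)) → ∀ w, gi w * g (M y w) = 1 := by
    intro x y g gi hg hgi w
    induction w using QuotientGroup.induction_on with
    | H r =>
      have e : K' y⁻¹ (K' y r) = r := Subtype.ext (by simp [hK', mul_assoc])
      rw [hM, hg, hgi, e, inv_inv, mul_assoc, mul_inv_cancel_left, inv_mul_cancel]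
  -- how `y⁻¹` acts
  have hMf : ∀ (x : A) (y : B), Lk A B x y → ∀ (f : Pt S A B →* Pt S B A) (g : Pt S B A →* Pt S A B),
      (∀ r, f (QuotientGroup.mk r) = (Φ r)⁻¹ * Φ (K x⁻¹ r)) →
      (∀ r, g (QuotientGroup.mk r) = (Ψ r)⁻¹ * Ψ (K' y⁻¹ r)) →
      (∀ w, f (g w) = w) → ∀ v, M y⁻¹ (f v) = f (L x v) := by
    intro x y hxy f g hf1 hg1 fg v
    have hxy' : Lk A B ((x⁻¹ : A) : G) ((y⁻¹ : B) : G) := T.lk_inv hD hxy
    obtain ⟨fi, hfid⟩ := hf x⁻¹ y⁻¹ hxy'
    obtain ⟨gi, hgid⟩ := hg x⁻¹ y⁻¹ hxy'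
    obtain ⟨gfi, -⟩ := hgf x⁻¹ y⁻¹ fi gi (fun r => (hfid r).2) hgid
    have e1 := hgi x y g gi hg1 (point x⁻¹ y⁻¹ gi hxy' hgid) (fi v)
    rw [gfi, eq_inv_of_mul_eq_one_left (hfi x y f fi hf1 (fun r => (hfid r).1) v), map_inv, map_inv,
      mul_inv_eq_one] at e1
    calc M y⁻¹ (f v) = M y⁻¹ (f (g (M y (f (L x v))))) := by rw [← e1]
      _ = M y⁻¹ (M y (f (L x v))) := by rw [fg]
      _ = f (L x v) := by rw [hMM, mul_inv_cancel, hM1]
  let h : Pt S A B →* Pt S A B := g'.comp f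
  let c : A → Pt S A B → Pt S A B := fun x v => v⁻¹ * L x⁻¹ v
  let m : A → Pt S A B → Pt S A B := fun x v => v⁻¹ * L x v
  have hh : ∀ v, h (c a' v) = c a v := fun v => by
    show g' (f (v⁻¹ * L a'⁻¹ v)) = _
    rw [rel v, gf']
  have key : ∀ v, h (h (m a v)) = m a' (h v) := by
    intro v
    have e1 : (f v)⁻¹ * M d⁻¹ (f v) = f (m a v) := by
      rw [hMf a d hd f g (fun r => (hfd r).1) (point a d g hd hgd) fg, ← map_inv, ← map_mul]
    have e2 : (f v)⁻¹ * M d'⁻¹ (f v) = f' (m a' (h v)) := by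
      have ev : f v = f' (h v) := (fg' (f v)).symm
      rw [ev, hMf a' d' hd' f' g' (fun r => (hfd' r).1) (point a' d' g' hd' hgd') fg', ← map_inv,
        ← map_mul]
    have e := rel' (f v)
    rw [e1, e2] at e
    show g' (f (g' (f (m a v)))) = _
    rw [← e, fg, gf']
  have cc : ∀ x x' v, c x (c x' v) = c x' (c x v) := fun x x' v => by
    simp only [c, map_mul, map_inv, mul_inv_rev, inv_inv, hLc x⁻¹ x'⁻¹]
    ac_rfl
  have mc : ∀ x x' v, m x (c x' v) = c x' (m x v) := fun x x' v => by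
    simp only [c, m, map_mul, map_inv, mul_inv_rev, inv_inv, hLc x x'⁻¹]
    ac_rfl
  have hneq : a ≠ 1 := fun e => h1 (congrArg Subtype.val e)
  have hneq' : a' ≠ 1 := fun e => h1' (congrArg Subtype.val e)
  have cinj : ∀ u v, c a u = c a v → u = v := by
    intro u v e
    refine inv_mul_eq_one.1 (hfree a⁻¹ _ (inv_ne_one.2 hneq) ?_)
    simp only [c] at e
    have e' : L a⁻¹ u = u * (v⁻¹ * L a⁻¹ v) := by rw [← e, mul_inv_cancel_left]
    rw [map_mul, map_inv, e']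
    simp only [mul_inv, inv_inv, mul_assoc]
    rw [mul_left_comm, inv_mul_cancel, mul_one, mul_comm]
  have hfin : ∀ v, c a (m a v) = c a' (m a' v) := by
    intro v
    rw [← mc a' a' v]
    refine cinj _ _ ?_
    have e := key (c a' (c a' v))
    rw [mc, mc, hh, hh, cc a a', hh, ← cc a, ← cc a, mc a' a] at e
    exact e
  have htriv : ∀ v : Pt S A B, v = 1 := by
    intro v
    have e := hfin v
    have e1 : ∀ x : A, L x⁻¹ (L x v) = v := fun x => by
      rw [hLL, mul_inv_cancel]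
      induction v using QuotientGroup.induction_on with
      | H r => rw [hL]; congr 1; exact Subtype.ext (by simp [hK])
    have ex : ∀ x : A, c x (m x v) = v * v * (L x v * L x⁻¹ v)⁻¹ := fun x => by
      simp only [c, m, map_mul, map_inv, e1]
      rw [mul_inv, mul_inv, inv_inv, mul_comm (L x⁻¹ v)⁻¹ v, mul_mul_mul_comm]
    rw [ex, ex] at e
    have e2 : L a v * L a⁻¹ v = L a' v * L a'⁻¹ v := inv_inj.1 (mul_left_cancel e)
    -- the quotient is fixed by a non-trivial element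
    have hy : L (a⁻¹ * a'⁻¹) (L a v / L a' v) = L a v / L a' v := by
      rw [map_div, hLL, hLL, show a * (a⁻¹ * a'⁻¹) = a'⁻¹ by group,
        show a' * (a⁻¹ * a'⁻¹) = a⁻¹ by rw [hcomm a⁻¹]; group]
      rw [div_eq_div_iff_mul_eq_mul, mul_comm (L a'⁻¹ v), e2, mul_comm]
    have hne1 : a⁻¹ * a'⁻¹ ≠ 1 := fun e => h3 (by
      rw [← mul_inv_rev, inv_eq_one] at e; exact congrArg Subtype.val e)
    have e3 := div_eq_one.1 (hfree _ _ hne1 hy)
    refine hfree (a'⁻¹ * a) v (fun e => h4 (congrArg Subtype.val (inv_mul_eq_one.1 e))) ?_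
    rw [← hLL, hLc, e3, e1]
  obtain ⟨r, hr, e⟩ := T.trans_R hD htwin
  have := htriv (QuotientGroup.mk ⟨r, mA.2 hr⟩)
  rw [← QuotientGroup.mk_one, Q.pt_eq hD hbig, Subgroup.coe_one, cn_one] at this
  exact hne (e.symm.trans this)

end Cfsg.Agent.Classical.DegenRoot
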