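import Mathlib

/-!
# Totally isotropic halves of symmetric forms and the discriminant

Over a finite field of odd characteristic a form with orthogonal basis of norms `c` in dimension `2N`
has an `N`-dimensional totally isotropic subspace iff `(-1)^N ∏ c` is a square.
-/

set_option autoImplicit false
set_option linter.unusedSectionVars false

namespace Cfsg.Agent.Classical.DiscType

open Module Matrix

variable {F : Type*} [Field F] {V : Type*} [AddCommGroup V] [Module F V] {B : LinearMap.BilinForm F V}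

theorem det_swap (F : Type*) [Field F] (m : ℕ) :
    (fromBlocks (0 : Matrix (Fin m) (Fin m) F) (1 : Matrix (Fin m) (Fin m) F) (1 : Matrix (Fin m) (Fin m) F)
      (0 : Matrix (Fin m) (Fin m) F)).det = (-1 : F) ^ m := by
  have hE : fromBlocks (0 : Matrix (Fin m) (Fin m) F) (1 : Matrix (Fin m) (Fin m) F) (1 : Matrix (Fin m) (Fin m) F)
      (0 : Matrix (Fin m) (Fin m) F) =
      fromBlocks (1 : Matrix (Fin m) (Fin m) F) (1 : Matrix (Fin m) (Fin m) F) 0 (1 : Matrix (Fin m) (Fin m) F) *
      fromBlocks (1 : Matrix (Fin m) (Fin m) F) 0 (-1 : Matrix (Fin m) (Fin m) F) (1 : Matrix (Fin m) (Fin m) F) *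
      fromBlocks (1 : Matrix (Fin m) (Fin m) F) (1 : Matrix (Fin m) (Fin m) F) 0 (1 : Matrix (Fin m) (Fin m) F) *
      fromBlocks (-1 : Matrix (Fin m) (Fin m) F) 0 0 (1 : Matrix (Fin m) (Fin m) F) := by
    simp [Matrix.fromBlocks_multiply]
  rw [hE, Matrix.det_mul, Matrix.det_mul, Matrix.det_mul, Matrix.det_fromBlocks_zero₂₁,
    Matrix.det_fromBlocks_zero₁₂, Matrix.det_fromBlocks_zero₂₁, Matrix.det_one, Matrix.det_neg]
  simp

theorem isotropic_step (hB : B.IsSymm) {X : Submodule F V} {u : V} (hX : ∀ x ∈ X, ∀ y ∈ X, B x y = 0)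
    (hu : B u u = 0) (hux : ∀ x ∈ X, B u x = 0) :
    ∀ x ∈ X ⊔ Submodule.span F {u}, ∀ y ∈ X ⊔ Submodule.span F {u}, B x y = 0 := by
  intro x hx y hy
  obtain ⟨x1, hx1, x2, hx2, rfl⟩ := Submodule.mem_sup.mp hx
  obtain ⟨a, rfl⟩ := Submodule.mem_span_singleton.mp hx2
  obtain ⟨y1, hy1, y2, hy2, rfl⟩ := Submodule.mem_sup.mp hy
  obtain ⟨b, rfl⟩ := Submodule.mem_span_singleton.mp hy2
  simp [hX _ hx1 _ hy1, hu, hux _ hy1, (hB.eq x1 u).trans (hux _ hx1)]

/-- Sufficiency. -/
theorem exists_half [Fintype F] (h2 : (2 : F) ≠ 0) (hB : B.IsSymm) [FiniteDimensional F V] :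
    ∀ (N : ℕ) (v : Fin (2 * N) → V), (∀ i j, i ≠ j → B (v i) (v j) = 0) → (∀ i, B (v i) (v i) ≠ 0) →
      IsSquare ((-1 : F) ^ N * ∏ i, B (v i) (v i)) →
      ∃ X : Submodule F V, X ≤ Submodule.span F (Set.range v) ∧ finrank F X = N ∧
        ∀ x ∈ X, ∀ y ∈ X, B x y = 0 := by
  intro N
  induction N with
  | zero =>
    intro v _ _ _
    exact ⟨⊥, bot_le, finrank_bot F V, fun x hx y _ => by rw [(Submodule.mem_bot F).mp hx]; simp⟩
  | succ N ih =>
    intro v ho hne hsq
    rcases N with _ | N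
    · obtain ⟨s, hs⟩ := hsq
      rw [pow_one, Fin.prod_univ_two, neg_one_mul] at hs
      have hu : B (s • v 0 + B (v 0) (v 0) • v 1) (s • v 0 + B (v 0) (v 0) • v 1) = 0 := by
        simp [ho 0 1 (by decide), ho 1 0 (by decide)]
        linear_combination (-B (v 0) (v 0)) * hs
      have hu0 : s • v 0 + B (v 0) (v 0) • v 1 ≠ 0 := fun e => by
        have := congrArg (B (v 1)) e
        simp [ho 1 0 (by decide), hne 0, hne 1] at this
      refine ⟨Submodule.span F {s • v 0 + B (v 0) (v 0) • v 1}, ?_, finrank_span_singleton hu0, ?_⟩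
      · rw [Submodule.span_singleton_le_iff_mem]
        exact Submodule.add_mem _ (Submodule.smul_mem _ _ (Submodule.subset_span ⟨0, rfl⟩))
          (Submodule.smul_mem _ _ (Submodule.subset_span ⟨1, rfl⟩))
      · intro x hx y hy
        refine isotropic_step hB (X := ⊥) (by simp) hu (by simp) x ?_ y ?_ <;> simpa
    · obtain ⟨x, y, hxy⟩ := FiniteField.exists_root_sum_quadratic (R := F)
        (f := Polynomial.C (B (v 0) (v 0)) * Polynomial.X ^ 2)
        (g := Polynomial.C (B (v 1) (v 1)) * Polynomial.X ^ 2 + Polynomial.C (B (v 2) (v 2)))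
        (Polynomial.degree_C_mul_X_pow 2 (hne 0))
        (by rw [Polynomial.degree_add_C (by rw [Polynomial.degree_C_mul_X_pow 2 (hne 1)]; norm_num),
          Polynomial.degree_C_mul_X_pow 2 (hne 1)]; rfl)
        (by
          refine FiniteField.odd_card_of_char_ne_two fun hc => h2 ?_
          haveI := ringChar.of_eq hc
          exact CharTwo.two_eq_zero)
      simp at hxy
      obtain ⟨k0, hk0⟩ : ∃ k : Fin (2 * (N + 1 + 1)), k.1 = 0 := ⟨⟨0, by omega⟩, rfl⟩
      obtain ⟨k1, hk1⟩ : ∃ k : Fin (2 * (N + 1 + 1)), k.1 = 1 := ⟨⟨1, by omega⟩, rfl⟩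
      obtain ⟨k2, hk2⟩ : ∃ k : Fin (2 * (N + 1 + 1)), k.1 = 2 := ⟨⟨2, by omega⟩, rfl⟩
      rw [show (0 : Fin (2 * (N + 1 + 1))) = k0 from Fin.ext (by simp [hk0]),
        show (1 : Fin (2 * (N + 1 + 1))) = k1 from Fin.ext (by rw [hk1]; exact Nat.mod_eq_of_lt (show 1 < 2 * (N + 1 + 1) by omega)),
        show (2 : Fin (2 * (N + 1 + 1))) = k2 from Fin.ext (by rw [hk2]; exact Nat.mod_eq_of_lt (show 2 < 2 * (N + 1 + 1) by omega))] at hxy
      have n01 : k0 ≠ k1 := fun e => by rw [e] at hk0; omega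
      have n02 : k0 ≠ k2 := fun e => by rw [e] at hk0; omega
      have n12 : k1 ≠ k2 := fun e => by rw [e] at hk1; omega
      let i2 : Fin (2 * (N + 1)) → Fin (2 * (N + 1 + 1)) := fun i => ⟨i.1 + 2, by omega⟩
      let w : V := (-(B (v k1) (v k1) * y)) • v k0 + (B (v k0) (v k0) * x) • v k1
      let v' : Fin (2 * (N + 1)) → V := fun i => if i = ⟨0, by omega⟩ then w else v (i2 i)
      have hw : ∀ i : Fin (2 * (N + 1 + 1)), 2 ≤ i.1 → B w (v i) = 0 ∧ B (v i) w = 0 := fun i hi => by
        have h0 : i ≠ k0 := fun e => by rw [e, hk0] at hi; omega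
        have h1 : i ≠ k1 := fun e => by rw [e, hk1] at hi; omega
        simp [w, ho _ _ h0, ho _ _ h1, ho _ _ h0.symm, ho _ _ h1.symm]
      have hww : B w w = -(B (v k0) (v k0) * B (v k1) (v k1) * B (v k2) (v k2)) := by
        simp [w, ho k0 k1 n01, ho k1 k0 n01.symm]
        linear_combination (B (v k0) (v k0) * B (v k1) (v k1)) * hxy
      have ho' : ∀ i j, i ≠ j → B (v' i) (v' j) = 0 := by
        intro i j hij
        simp only [v']
        split_ifs with hi hj hj
        · exact absurd (hi.trans hj.symm) hij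
        · exact (hw _ (Nat.le_add_left 2 _)).1
        · exact (hw _ (Nat.le_add_left 2 _)).2
        · exact ho _ _ fun e => hij (Fin.ext (by simpa [i2] using e))
      have hne' : ∀ i, B (v' i) (v' i) ≠ 0 := fun i => by
        simp only [v']
        split_ifs
        · rw [hww]; exact neg_ne_zero.mpr (mul_ne_zero (mul_ne_zero (hne k0) (hne k1)) (hne k2))
        · exact hne _
      have hprod : ∏ i, B (v' i) (v' i) = -∏ i, B (v i) (v i) := by
        have e1 : (Fin.cast (show 2 * (N + 1) = 2 * N + 1 + 1 by ring)).Injective := Fin.cast_injective _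
        rw [← (finCongr (show 2 * N + 1 + 1 = 2 * (N + 1) by ring)).prod_comp,
          ← (finCongr (show 2 * N + 1 + 1 + 1 + 1 = 2 * (N + 1 + 1) by ring)).prod_comp,
          Fin.prod_univ_succ, Fin.prod_univ_succ (n := 2 * N + 1 + 1 + 1), Fin.prod_univ_succ (n := 2 * N + 1 + 1),
          Fin.prod_univ_succ (n := 2 * N + 1)]
        have e0 : v' (finCongr (show 2 * N + 1 + 1 = 2 * (N + 1) by ring) 0) = w := if_pos (Fin.ext rfl)
        have e2 : ∀ i : Fin (2 * N + 1), v' (finCongr (show 2 * N + 1 + 1 = 2 * (N + 1) by ring) i.succ) =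
            v (finCongr (show 2 * N + 1 + 1 + 1 + 1 = 2 * (N + 1 + 1) by ring) i.succ.succ.succ) := fun i => by
          simp only [v']
          rw [if_neg (fun e => Nat.succ_ne_zero i.1 (by simpa using congrArg Fin.val e))]
          exact congrArg v (Fin.ext rfl)
        have c0 : finCongr (show 2 * N + 1 + 1 + 1 + 1 = 2 * (N + 1 + 1) by ring) 0 = k0 := Fin.ext (by simp [hk0])
        have c1 : finCongr (show 2 * N + 1 + 1 + 1 + 1 = 2 * (N + 1 + 1) by ring) (Fin.succ 0) = k1 :=
          Fin.ext (by rw [hk1]; rfl)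
        have c2 : finCongr (show 2 * N + 1 + 1 + 1 + 1 = 2 * (N + 1 + 1) by ring) (Fin.succ 0).succ = k2 :=
          Fin.ext (by rw [hk2]; rfl)
        simp only [e0, e2, hww, c0, c1, c2]
        ring
      obtain ⟨X, hXle, hXd, hX⟩ := ih v' ho' hne' (by
        rw [hprod]; rw [pow_succ] at hsq; simpa [mul_comm, mul_left_comm] using hsq)
      let u : V := x • v k0 + y • v k1 + v k2
      have hu : B u u = 0 := by
        simp [u, ho k0 k1 n01, ho k1 k0 n01.symm, ho k0 k2 n02,
          ho k2 k0 n02.symm, ho k1 k2 n12, ho k2 k1 n12.symm]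
        linear_combination hxy
      have hker : ∀ a : V, (∀ i, B a (v' i) = 0) → ∀ z ∈ X, B a z = 0 := fun a ha z hz =>
        (Submodule.span_le.mpr (by rintro _ ⟨i, rfl⟩; exact LinearMap.mem_ker.mpr (ha i))) (hXle hz)
      have hu' : ∀ i, B u (v' i) = 0 := fun i => by
        simp only [v']
        split_ifs with hi
        · simp [u, w, ho k0 k1 n01, ho k1 k0 n01.symm, ho k2 k0 n02.symm,
            ho k2 k1 n12.symm]
          ring
        · have hi0 : i.1 ≠ 0 := fun e => hi (Fin.ext e)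
          have : ∀ k : Fin (2 * (N + 1 + 1)), k.1 ≤ 2 → B (v k) (v (i2 i)) = 0 := fun k hk =>
            ho _ _ fun e => by simp [i2, Fin.ext_iff] at e; omega
          simp [u, this k0 (by omega), this k1 (by omega), this k2 (by omega)]
      have h2v : ∀ z ∈ X, B (v k2) z = 0 := hker _ fun i => by
        simp only [v']
        split_ifs with hi
        · exact (hw k2 (by omega)).2
        · have hi0 : i.1 ≠ 0 := fun e => hi (Fin.ext e)
          exact ho _ _ fun e => by simp [i2, Fin.ext_iff] at e; omega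
      have huX : u ∉ X := fun h => by
        have := h2v u h
        simp [u, ho k2 k0 n02.symm, ho k2 k1 n12.symm] at this
        exact hne k2 this
      refine ⟨X ⊔ Submodule.span F {u}, sup_le (hXle.trans (Submodule.span_le.mpr ?_)) ?_, ?_,
        isotropic_step hB hX hu (hker u hu')⟩
      · rintro _ ⟨i, rfl⟩
        simp only [v', SetLike.mem_coe]
        split_ifs
        · exact Submodule.add_mem _ (Submodule.smul_mem _ _ (Submodule.subset_span ⟨k0, rfl⟩))
            (Submodule.smul_mem _ _ (Submodule.subset_span ⟨k1, rfl⟩))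
        · exact Submodule.subset_span ⟨_, rfl⟩
      · rw [Submodule.span_singleton_le_iff_mem]
        exact Submodule.add_mem _ (Submodule.add_mem _ (Submodule.smul_mem _ _ (Submodule.subset_span ⟨k0, rfl⟩))
          (Submodule.smul_mem _ _ (Submodule.subset_span ⟨k1, rfl⟩))) (Submodule.subset_span ⟨k2, rfl⟩)
      · have hd : Disjoint X (Submodule.span F {u}) :=
          Submodule.disjoint_def.mpr fun z hz hz' => by
            obtain ⟨a, rfl⟩ := Submodule.mem_span_singleton.mp hz'
            by_contra hne0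
            have ha : a ≠ 0 := fun e => hne0 (by rw [e, zero_smul])
            exact huX (by simpa [smul_smul, inv_mul_cancel₀ ha] using X.smul_mem a⁻¹ hz)
        have := Submodule.finrank_sup_add_finrank_inf_eq X (Submodule.span F {u})
        rw [disjoint_iff.mp hd, finrank_bot, hXd, finrank_span_singleton (show u ≠ 0 from fun e => huX (by rw [e]; exact X.zero_mem))] at this
        omega

/-- Necessity. -/
theorem isSquare_of_half (hB : B.IsSymm) [FiniteDimensional F V] {ι : Type*} [Fintype ι] [DecidableEq ι]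
    {N : ℕ} (hcard : Fintype.card ι = 2 * N) (b : Basis ι F V) (ho : ∀ i j, i ≠ j → B (b i) (b j) = 0)
    (hne : ∀ i, B (b i) (b i) ≠ 0)
    {X : Submodule F V} (hX : finrank F X = N) (h0 : ∀ x ∈ X, ∀ y ∈ X, B x y = 0) :
    IsSquare ((-1 : F) ^ N * ∏ i, B (b i) (b i)) := by
  obtain ⟨C, hC⟩ := Submodule.exists_isCompl X
  have hCd : finrank F C = N := by
    have := Submodule.finrank_add_eq_of_isCompl hC
    rw [hX, finrank_eq_card_basis b, hcard] at this
    omega
  let c := ((finBasisOfFinrankEq F X hX).prod (finBasisOfFinrankEq F C hCd)).map (X.prodEquivOfIsCompl C hC)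
  have e : ι ≃ Fin N ⊕ Fin N := Fintype.equivOfCardEq (by rw [hcard, Fintype.card_sum, Fintype.card_fin, two_mul])
  let b' := b.reindex e
  have hG : (LinearMap.BilinForm.toMatrix c B).det =
      (b'.toMatrix c).det * (∏ i, B (b i) (b i)) * (b'.toMatrix c).det := by
    have hdiag : LinearMap.BilinForm.toMatrix b' B = Matrix.diagonal fun k => B (b (e.symm k)) (b (e.symm k)) := by
      ext i j
      rw [LinearMap.BilinForm.toMatrix_apply, Matrix.diagonal_apply]
      simp only [b', Basis.reindex_apply]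
      split_ifs with h
      · rw [h]
      · exact ho _ _ fun he => h (e.symm.injective he)
    rw [← LinearMap.BilinForm.toMatrix_mul_basis_toMatrix b' c, Matrix.det_mul, Matrix.det_mul,
      Matrix.det_transpose, hdiag, Matrix.det_diagonal, e.symm.prod_comp fun i => B (b i) (b i)]
  have hcX : ∀ i, c (.inl i) ∈ X := fun i => by simp [c]
  obtain ⟨M, hM⟩ : ∃ M, M = LinearMap.BilinForm.toMatrix c B := ⟨_, rfl⟩
  have h11 : M.toBlocks₁₁ = 0 := by
    ext i j
    rw [hM, Matrix.toBlocks₁₁, Matrix.of_apply, LinearMap.BilinForm.toMatrix_apply]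
    exact h0 _ (hcX i) _ (hcX j)
  have h21 : M.toBlocks₂₁ = M.toBlocks₁₂ᵀ := by
    ext i j
    simp only [hM, Matrix.toBlocks₂₁, Matrix.toBlocks₁₂, Matrix.transpose_apply, Matrix.of_apply,
      LinearMap.BilinForm.toMatrix_apply]
    exact hB.eq _ _
  have hM' : M = fromBlocks (0 : Matrix (Fin N) (Fin N) F) (1 : Matrix (Fin N) (Fin N) F)
      (1 : Matrix (Fin N) (Fin N) F) (0 : Matrix (Fin N) (Fin N) F) *
        fromBlocks M.toBlocks₁₂ᵀ M.toBlocks₂₂ 0 M.toBlocks₁₂ := by
    conv_lhs => rw [← Matrix.fromBlocks_toBlocks M, h11, h21]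
    simp [Matrix.fromBlocks_multiply]
  rw [← hM, hM', Matrix.det_mul, det_swap, Matrix.det_fromBlocks_zero₂₁, Matrix.det_transpose] at hG
  have hP : (b'.toMatrix c).det ≠ 0 := fun hd => by
    have := congrArg Matrix.det (b'.toMatrix_mul_toMatrix_flip c)
    rw [Matrix.det_mul, hd, zero_mul, Matrix.det_one] at this
    exact zero_ne_one this
  have hx : M.toBlocks₁₂.det ≠ 0 := fun e => by
    rw [e] at hG
    simp [hP, Finset.prod_ne_zero_iff.mpr fun i _ => hne i] at hG
  have hs : ((-1 : F) ^ N) * ((-1 : F) ^ N) = 1 := by rw [← mul_pow]; simp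
  exact ⟨M.toBlocks₁₂.det / (b'.toMatrix c).det, by
    field_simp
    linear_combination (-((-1 : F) ^ N)) * hG + (M.toBlocks₁₂.det * M.toBlocks₁₂.det) * hs⟩

/-- The criterion. -/
theorem half_iff [Fintype F] (h2 : (2 : F) ≠ 0) (hB : B.IsSymm) [FiniteDimensional F V] {ι : Type*} [Fintype ι]
    [DecidableEq ι] {N : ℕ} (hcard : Fintype.card ι = 2 * N) (b : Basis ι F V)
    (ho : ∀ i j, i ≠ j → B (b i) (b j) = 0) (hne : ∀ i, B (b i) (b i) ≠ 0) :
    (∃ X : Submodule F V, finrank F X = N ∧ ∀ x ∈ X, ∀ y ∈ X, B x y = 0) ↔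
      IsSquare ((-1 : F) ^ N * ∏ i, B (b i) (b i)) := by
  refine ⟨fun ⟨X, h1, h0⟩ => isSquare_of_half hB hcard b ho hne h1 h0, fun h => ?_⟩
  have e : Fin (2 * N) ≃ ι := Fintype.equivOfCardEq (by rw [hcard, Fintype.card_fin])
  obtain ⟨X, -, h1, h0⟩ := exists_half h2 hB N (b ∘ e) (fun i j h => ho _ _ (e.injective.ne h))
    (fun i => hne _) (by
      rw [← e.prod_comp fun i => B (b i) (b i)] at h
      exact h)
  exact ⟨X, h1, h0⟩

/-- An orthogonal basis. -/
theorem exists_basis (h2 : (2 : F) ≠ 0) (hB : B.IsSymm) (hnd : B.Nondegenerate) [FiniteDimensional F V] :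
    ∃ b : Basis (Fin (finrank F V)) F V, (∀ i j, i ≠ j → B (b i) (b j) = 0) ∧ ∀ i, B (b i) (b i) ≠ 0 := by
  haveI : Invertible (2 : F) := invertibleOfNonzero h2
  obtain ⟨b, hb⟩ := LinearMap.BilinForm.exists_orthogonal_basis (B := B) (LinearMap.BilinForm.isSymm_iff.mp hB)
  refine ⟨b, fun i j h => hb h, fun i h => ?_⟩
  refine b.ne_zero i (hnd.1 _ fun z => ?_)
  rw [← b.sum_repr z, map_sum]
  refine Finset.sum_eq_zero fun j _ => ?_
  rcases eq_or_ne i j with rfl | hne
  · simp [h]
  · simp [show B (b i) (b j) = 0 from hb hne]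

end Cfsg.Agent.Classical.DiscType
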