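/-
Totally singular subspaces: extension and the Witt index.
-/
import Mathlib

set_option autoImplicit false

namespace Cfsg.Agent.Classical.Witt

open Module

variable {F V : Type*} [Field F] [AddCommGroup V] [Module F V] [FiniteDimensional F V]
  (Q : QuadraticForm F V)

theorem isRefl : LinearMap.BilinForm.IsRefl (QuadraticMap.polarBilin Q) := fun x y h => by
  change QuadraticMap.polar Q y x = 0
  rw [QuadraticMap.polar_comm]
  exact h

theorem q_add (x y : V) : Q (x + y) = Q x + Q y + QuadraticMap.polar Q x y := by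
  rw [QuadraticMap.polar]; abel

theorem le_orth {W : Submodule F V} (h : ∀ w ∈ W, Q w = 0) :
    W ≤ LinearMap.BilinForm.orthogonal (QuadraticMap.polarBilin Q) W := fun x hx y hy => by
  change QuadraticMap.polar Q y x = 0
  rw [QuadraticMap.polar, h _ (W.add_mem hy hx), h y hy, h x hx, sub_zero, sub_zero]

theorem finrank_le_half (hQ : (QuadraticMap.polarBilin Q).Nondegenerate) {W : Submodule F V}
    (h : ∀ w ∈ W, Q w = 0) : 2 * finrank F W ≤ finrank F V := by
  have h1 := Submodule.finrank_mono (le_orth Q h)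
  have h2 := W.finrank_le
  rw [LinearMap.BilinForm.finrank_orthogonal hQ] at h1
  omega

/-- A totally singular subspace that is smaller than another one extends. -/
theorem exists_extend (hQ : (QuadraticMap.polarBilin Q).Nondegenerate) {U L : Submodule F V}
    (hU : ∀ w ∈ U, Q w = 0) (hL : ∀ w ∈ L, Q w = 0) (hlt : finrank F U < finrank F L) :
    ∃ W : Submodule F V, U ≤ W ∧ finrank F W = finrank F U + 1 ∧ ∀ w ∈ W, Q w = 0 := by
  set B : LinearMap.BilinForm F V := QuadraticMap.polarBilin Q
  have h1 : U ⊓ L ≤ B.orthogonal (L ⊔ B.orthogonal U) := by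
    intro x hx y hy
    obtain ⟨a, ha, b, hb, rfl⟩ := Submodule.mem_sup.mp hy
    change B (a + b) x = 0
    rw [map_add, LinearMap.add_apply, le_orth Q hL hx.2 a ha,
      isRefl Q _ _ (hb x hx.1), add_zero]
  have h2 := Submodule.finrank_mono h1
  rw [LinearMap.BilinForm.finrank_orthogonal hQ] at h2
  have h3 := Submodule.finrank_sup_add_finrank_inf_eq L (B.orthogonal U)
  have h4 := LinearMap.BilinForm.finrank_orthogonal hQ U
  have h5 := (L ⊔ B.orthogonal U).finrank_le
  have h6 := U.finrank_le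
  have h7 : ¬ L ⊓ B.orthogonal U ≤ U := fun h => by
    have h8 := Submodule.finrank_mono (s := L ⊓ B.orthogonal U) (t := U ⊓ L) (le_inf h inf_le_left)
    omega
  obtain ⟨x, ⟨hxL, hxU⟩, hx⟩ := SetLike.not_le_iff_exists.mp h7
  refine ⟨U ⊔ Submodule.span F {x}, le_sup_left, ?_, fun w hw => ?_⟩
  · have h8 := Submodule.finrank_sup_add_finrank_inf_eq U (Submodule.span F {x})
    have h9 : U ⊓ Submodule.span F {x} = ⊥ := by
      refine (Submodule.eq_bot_iff _).mpr fun y hy => ?_
      obtain ⟨c, rfl⟩ := Submodule.mem_span_singleton.mp hy.2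
      by_cases hc : c = 0
      · rw [hc, zero_smul]
      · exact absurd (by simpa [smul_smul, hc] using U.smul_mem c⁻¹ hy.1) hx
    rw [h9, finrank_bot, finrank_span_singleton (show x ≠ 0 from fun h0 => hx (by rw [h0]; exact U.zero_mem))] at h8
    omega
  · obtain ⟨u, hu, y, hy, rfl⟩ := Submodule.mem_sup.mp hw
    obtain ⟨c, rfl⟩ := Submodule.mem_span_singleton.mp hy
    have hp : QuadraticMap.polar Q u x = 0 := hxU u hu
    rw [q_add Q, hU u hu, QuadraticMap.map_smul, hL x hxL, QuadraticMap.polar_smul_right,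
      hp, smul_zero, smul_zero, add_zero, add_zero]

theorem finrank_eq_of_maximal (hQ : (QuadraticMap.polarBilin Q).Nondegenerate) {U L : Submodule F V}
    (hU : ∀ w ∈ U, Q w = 0) (hL : ∀ w ∈ L, Q w = 0)
    (hmax : ∀ W : Submodule F V, U ≤ W → (∀ w ∈ W, Q w = 0) → W = U) : finrank F L ≤ finrank F U := by
  by_contra h
  obtain ⟨W, hUW, hW, hW0⟩ := exists_extend Q hQ hU hL (not_le.mp h)
  rw [hmax W hUW hW0] at hW
  omega

/-- A totally singular subspace of colength one lies in exactly two maximal ones. -/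
theorem card_two (hQ : (QuadraticMap.polarBilin Q).Nondegenerate) {m : ℕ} (hV : finrank F V = 2 * m)
    {U L : Submodule F V} (hU : ∀ w ∈ U, Q w = 0) (hUd : finrank F U + 1 = m)
    (hL : ∀ w ∈ L, Q w = 0) (hLd : finrank F L = m) :
    Nat.card {W : Submodule F V // finrank F W = m ∧ (∀ w ∈ W, Q w = 0) ∧ U ≤ W} = 2 := by
  classical
  set B : LinearMap.BilinForm F V := QuadraticMap.polarBilin Q
  obtain ⟨W0, hUW0, hW0d, hW0⟩ := exists_extend Q hQ hU hL (by omega)
  have hW0o : B.orthogonal W0 = W0 := (Submodule.eq_of_le_of_finrank_eq (le_orth Q hW0)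
    (by rw [LinearMap.BilinForm.finrank_orthogonal hQ]; omega)).symm
  have hUo : finrank F (B.orthogonal U) = m + 1 := by
    rw [LinearMap.BilinForm.finrank_orthogonal hQ]; omega
  obtain ⟨e, heW, heU⟩ : ∃ e ∈ W0, e ∉ U := SetLike.not_le_iff_exists.mp fun h => by
    have := Submodule.finrank_mono h; omega
  obtain ⟨f, hfU, hfW⟩ : ∃ f ∈ B.orthogonal U, f ∉ W0 := SetLike.not_le_iff_exists.mp fun h => by
    have := Submodule.finrank_mono h; omega
  have hW0le : W0 ≤ B.orthogonal U := fun x hx y hy => le_orth Q hW0 hx y (hUW0 hy)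
  have span2 : ∀ (W : Submodule F V), U ≤ W → finrank F W = m → ∀ x ∈ W, x ∉ U →
      W = U ⊔ Submodule.span F {x} := by
    intro W hUW hWd x hx hxU
    refine (Submodule.eq_of_le_of_finrank_le (sup_le hUW ((Submodule.span_singleton_le_iff_mem _ _).mpr hx)) ?_).symm
    have hlt : U < U ⊔ Submodule.span F {x} := lt_of_le_not_ge le_sup_left fun h =>
      hxU (h (Submodule.mem_sup_right (Submodule.mem_span_singleton_self x)))
    have := Submodule.finrank_lt_finrank_of_lt hlt
    omega
  have hef : B e f ≠ 0 := by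
    intro h0
    refine hfW (hW0o ▸ fun y hy => ?_)
    rw [span2 W0 hUW0 (by omega) e heW heU] at hy
    obtain ⟨u, hu, z, hz, rfl⟩ := Submodule.mem_sup.mp hy
    obtain ⟨c, rfl⟩ := Submodule.mem_span_singleton.mp hz
    change B (u + c • e) f = 0
    rw [map_add, LinearMap.add_apply, map_smul, LinearMap.smul_apply, h0, smul_zero, add_zero]
    exact hfU u hu
  set f₁ := (B e f)⁻¹ • f with hf₁
  have hf₁U : f₁ ∈ B.orthogonal U := Submodule.smul_mem _ _ hfU
  have hef₁ : QuadraticMap.polar Q e f₁ = 1 := by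
    change B e ((B e f)⁻¹ • f) = 1
    rw [map_smul, smul_eq_mul, inv_mul_cancel₀ hef]
  set f' := f₁ - Q f₁ • e with hf'
  have hQe : Q e = 0 := hW0 e heW
  have hpee : QuadraticMap.polar Q e e = 0 := by
    rw [QuadraticMap.polar_self, hQe, nsmul_zero]
  have hef' : QuadraticMap.polar Q e f' = 1 := by
    change B e (f₁ - Q f₁ • e) = 1
    rw [map_sub, show B e (Q f₁ • e) = 0 from by rw [map_smul, show B e e = 0 from hpee, smul_zero], sub_zero]
    exact hef₁
  have hQf' : Q f' = 0 := by
    have h : ∀ (x : V) (a : F), Q (x + a • e) = Q x + (a * a) * Q e + a * QuadraticMap.polar Q e x :=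
      fun x a => by
        rw [q_add Q, QuadraticMap.map_smul, QuadraticMap.polar_smul_right, QuadraticMap.polar_comm]
        rfl
    rw [hf', sub_eq_add_neg, ← neg_smul, h, hQe, hef₁]
    ring
  have hf'U : f' ∈ B.orthogonal U := Submodule.sub_mem _ hf₁U (Submodule.smul_mem _ _ (hW0le heW))
  have hf'W : f' ∉ W0 := fun h => by
    have hh := Submodule.smul_mem W0 (B e f) (Submodule.add_mem _ h (Submodule.smul_mem _ (Q f₁) heW))
    rw [hf', sub_add_cancel, hf₁, smul_smul, mul_inv_cancel₀ hef, one_smul] at hh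
    exact hfW hh
  have hf'nU : f' ∉ U := fun h => hf'W (hUW0 h)
  let W1 := U ⊔ Submodule.span F {f'}
  have hW1 : ∀ w ∈ W1, Q w = 0 := by
    intro w hw
    obtain ⟨u, hu, y, hy, rfl⟩ := Submodule.mem_sup.mp hw
    obtain ⟨c, rfl⟩ := Submodule.mem_span_singleton.mp hy
    rw [q_add Q, hU u hu, QuadraticMap.map_smul, hQf', QuadraticMap.polar_smul_right,
      show QuadraticMap.polar Q u f' = 0 from hf'U u hu]
    simp
  have hW1d : finrank F W1 = m := by
    have hlt : U < W1 := lt_of_le_not_ge le_sup_left fun h =>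
      hf'nU (h (Submodule.mem_sup_right (Submodule.mem_span_singleton_self f')))
    have := Submodule.finrank_lt_finrank_of_lt hlt
    have h1 : finrank F W1 ≤ finrank F U + finrank F (Submodule.span F {f'}) :=
      Submodule.finrank_add_le_finrank_add_finrank _ _
    have h2 := finrank_span_singleton (K := F) (v := f') (fun h0 => hf'nU (h0 ▸ U.zero_mem))
    omega
  have hdecomp : ∀ x ∈ B.orthogonal U, ∃ u ∈ U, ∃ a b : F, x = u + a • e + b • f' := by
    intro x hx
    have htop : W0 ⊔ Submodule.span F {f'} = B.orthogonal U := by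
      refine Submodule.eq_of_le_of_finrank_le (sup_le hW0le ((Submodule.span_singleton_le_iff_mem _ _).mpr hf'U)) ?_
      have hlt : W0 < W0 ⊔ Submodule.span F {f'} := lt_of_le_not_ge le_sup_left fun h =>
        hf'W (h (Submodule.mem_sup_right (Submodule.mem_span_singleton_self f')))
      have := Submodule.finrank_lt_finrank_of_lt hlt
      omega
    rw [← htop, span2 W0 hUW0 (by omega) e heW heU] at hx
    obtain ⟨z, hz, y, hy, rfl⟩ := Submodule.mem_sup.mp hx
    obtain ⟨u, hu, w, hw, rfl⟩ := Submodule.mem_sup.mp hz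
    obtain ⟨a, rfl⟩ := Submodule.mem_span_singleton.mp hw
    obtain ⟨b, rfl⟩ := Submodule.mem_span_singleton.mp hy
    exact ⟨u, hu, a, b, rfl⟩
  have hall : ∀ W : Submodule F V, finrank F W = m → (∀ w ∈ W, Q w = 0) → U ≤ W → W = W0 ∨ W = W1 := by
    intro W hWd hWQ hUW
    obtain ⟨x, hxW, hxU⟩ : ∃ x ∈ W, x ∉ U := SetLike.not_le_iff_exists.mp fun h => by
      have := Submodule.finrank_mono h; omega
    obtain ⟨u, hu, a, b, rfl⟩ := hdecomp x (fun y hy => le_orth Q hWQ hxW y (hUW hy))
    have hrest : a • e + b • f' ∈ W := by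
      have := W.sub_mem hxW (hUW hu)
      rwa [add_assoc, add_sub_cancel_left] at this
    have hq := hWQ _ hrest
    rw [q_add Q, QuadraticMap.map_smul, QuadraticMap.map_smul, hQe, hQf',
      QuadraticMap.polar_smul_left, QuadraticMap.polar_smul_right, hef'] at hq
    simp only [smul_eq_mul, mul_zero, add_zero, mul_one, zero_add, mul_eq_zero] at hq
    rcases hq with rfl | rfl
    · right
      rw [zero_smul, zero_add] at hrest
      have hb : b ≠ 0 := fun h => hxU (by simp [h, hu])
      have hfW' : f' ∈ W := by simpa [smul_smul, hb] using W.smul_mem b⁻¹ hrest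
      exact span2 W hUW hWd f' hfW' hf'nU
    · left
      rw [zero_smul, add_zero] at hrest
      have ha : a ≠ 0 := fun h => hxU (by simp [h, hu])
      have heW' : e ∈ W := by simpa [smul_smul, ha] using W.smul_mem a⁻¹ hrest
      rw [span2 W hUW hWd e heW' heU, span2 W0 hUW0 (by omega) e heW heU]
  have hne : W0 ≠ W1 := fun h =>
    hf'W (h ▸ Submodule.mem_sup_right (Submodule.mem_span_singleton_self f'))
  rw [show (2 : ℕ) = ({W0, W1} : Set (Submodule F V)).ncard from (Set.ncard_pair hne).symm]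
  rw [← Nat.card_coe_set_eq]
  refine Nat.card_congr (Equiv.subtypeEquivRight fun W => ⟨fun h => hall W h.1 h.2.1 h.2.2, ?_⟩)
  rintro (rfl | rfl)
  exacts [⟨by omega, hW0, hUW0⟩, ⟨hW1d, hW1, le_sup_left⟩]

end Cfsg.Agent.Classical.Witt
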