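/-
An element fixing a subspace of small codimension lies in few geometric stabilisers.
-/
import Cfsg.Agent.Lib.Classical.FormCoord
import Cfsg.Agent.Lib.Classical.Irreducible

set_option autoImplicit false
set_option linter.style.haveILetI false

namespace Cfsg.Agent.Classical

open Matrix Cfsg.Geo
open scoped Kronecker

variable {ι : Type} [Fintype ι] [DecidableEq ι] {F : Type*} [Field F]

/-- `g` fixes pointwise the kernel of a linear map to `F ^ d`. -/
def FixCodim (d : ℕ) (g : GL ι F) : Prop :=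
  ∃ φ : (ι → F) →ₗ[F] (Fin d → F), ∀ v, φ v = 0 → (g : Matrix ι ι F) *ᵥ v = v

/-- A map to a smaller space kills a nonzero vector. -/
theorem exists_ne_zero_map_zero {V W : Type*} [AddCommGroup V] [Module F V] [AddCommGroup W] [Module F W]
    [Module.Finite F V] [Module.Finite F W] (L : V →ₗ[F] W) (h : Module.finrank F W < Module.finrank F V) :
    ∃ v, v ≠ 0 ∧ L v = 0 := by
  obtain ⟨v, hv, hv0⟩ := Submodule.exists_mem_ne_zero_of_ne_bot (p := LinearMap.ker L) (LinearMap.ker_ne_bot_of_finrank_lt h)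
  exact ⟨v, hv0, hv⟩

/-- A matrix with every vector as eigenvector is scalar. -/
theorem scalar_of_all_eigen {n : Type} [Fintype n] [DecidableEq n] [Nonempty n] {M : Matrix n n F}
    (h : ∀ x : n → F, x ≠ 0 → ∃ c : F, M *ᵥ x = c • x) : ∃ c : F, M = c • (1 : Matrix n n F) := by
  choose c hc using fun i : n => h (Pi.single i 1) (by simp)
  have hoff : ∀ k l, k ≠ l → M k l = 0 := fun k l hkl => by
    have := congrFun (hc l) k
    simpa [Matrix.mulVec_single_one, hkl] using this
  obtain ⟨i⟩ := ‹Nonempty n›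
  refine ⟨M i i, Matrix.ext fun k l => ?_⟩
  rcases eq_or_ne k l with rfl | hkl
  · rw [Matrix.smul_apply, Matrix.one_apply_eq, smul_eq_mul, mul_one]
    rcases eq_or_ne k i with rfl | hki
    · rfl
    obtain ⟨a, ha⟩ := h (Pi.single k 1 + Pi.single i 1) (fun e => by simpa [hki] using congrFun e k)
    have e1 := congrFun ha k
    have e2 := congrFun ha i
    simp [Matrix.mulVec_add, Matrix.mulVec_single_one, hki, hki.symm, hoff k i hki, hoff i k hki.symm] at e1 e2
    rw [e1, e2]
  · rw [hoff k l hkl, Matrix.smul_apply, Matrix.one_apply_ne hkl, smul_zero]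

namespace FixCodim

variable {d : ℕ} {g : GL ι F}

theorem exists_fixed (hg : FixCodim d g) {U : Submodule F (ι → F)} (hU : d < Module.finrank F U) :
    ∃ v ∈ U, v ≠ 0 ∧ (g : Matrix ι ι F) *ᵥ v = v := by
  obtain ⟨φ, hφ⟩ := hg
  obtain ⟨v, hv0, hv⟩ := exists_ne_zero_map_zero (φ ∘ₗ U.subtype) (by rwa [Module.finrank_fin_fun])
  exact ⟨v, v.2, fun e => hv0 (Subtype.ext e), hφ v hv⟩

theorem eq_one_of_scalar (hg : FixCodim d g) (hd : d < Fintype.card ι) {c : F}
    (h : (g : Matrix ι ι F) = c • (1 : Matrix ι ι F)) : g = 1 := by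
  obtain ⟨v, -, hv0, hv⟩ := hg.exists_fixed (U := ⊤) (by rwa [finrank_top, Module.finrank_fintype_fun_eq_card])
  rw [h, Matrix.smul_mulVec, Matrix.one_mulVec] at hv
  exact Units.ext (by rw [h, smul_left_injective F hv0 (hv.trans (one_smul F v).symm), one_smul, Units.val_one])

theorem sq (hg : FixCodim d g) : FixCodim d (g * g) := by
  obtain ⟨φ, hφ⟩ := hg
  exact ⟨φ, fun v hv => by rw [Units.val_mul, ← Matrix.mulVec_mulVec, hφ v hv, hφ v hv]⟩

theorem codim_le (hg : FixCodim d g) {U : Submodule F (ι → F)} (hU : ∀ v, (g : Matrix ι ι F) *ᵥ v = v → v ∈ U) :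
    Fintype.card ι ≤ Module.finrank F U + d := by
  obtain ⟨φ, hφ⟩ := hg
  have h1 := φ.finrank_range_add_finrank_ker
  have h2 := Submodule.finrank_le (LinearMap.range φ)
  have h3 := Submodule.finrank_mono (show LinearMap.ker φ ≤ U from fun v hv => hU v (hφ v hv))
  rw [Module.finrank_fintype_fun_eq_card] at h1
  rw [Module.finrank_fin_fun] at h2
  omega

/-- The members of a decomposition are fixed. -/
theorem fixes_members (hg : FixCodim d g) {t k : ℕ} {D : Fin t → Submodule F (ι → F)} (hD : IsMDecomposition k D)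
    (hdk : d < k) (hmem : g ∈ decompositionStabilizer D) :
    ∀ i, ∀ v ∈ D i, (g : Matrix ι ι F) *ᵥ v ∈ D i := by
  obtain ⟨π, hπ⟩ := hmem
  intro i v hv
  have hfix : π i = i := by
    by_contra hne
    obtain ⟨w, hw, hw0, hwg⟩ := hg.exists_fixed (U := D i) (by rwa [hD.finrank_eq])
    have h2 : w ∈ D (π i) := by rw [← hπ]; exact ⟨w, hw, hwg⟩
    exact hw0 (Submodule.disjoint_def.mp (hD.indep.pairwiseDisjoint (Ne.symm hne)) w hw h2)
  have : (g : Matrix ι ι F) *ᵥ v ∈ D (π i) := by rw [← hπ]; exact ⟨v, hv, rfl⟩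
  rwa [hfix] at this

/-- An element with small codimension of fixed space in the normaliser of a field centralises it. -/
theorem commute_of_mem_subalgebraNormalizer (hg : FixCodim d g) (hd : 2 * d < Fintype.card ι) {r : ℕ}
    {K : Subalgebra F (Matrix ι ι F)} (hK : IsFieldSubalgebra r K) (hmem : g ∈ subalgebraNormalizer K) :
    ∀ k ∈ K, (g : Matrix ι ι F) * k = k * (g : Matrix ι ι F) := by
  classical
  intro k₀ hk₀
  obtain ⟨φ, hφ⟩ := id hg
  set G := (g : Matrix ι ι F)
  have hτ : ∀ k ∈ K, G * k * ((g⁻¹ : GL ι F) : Matrix ι ι F) ∈ K := fun k hk => (hmem k).mp hk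
  have hcomm : ∀ k ∈ K, G * k = k * G := by
    intro k hk
    set k' := G * k * ((g⁻¹ : GL ι F) : Matrix ι ι F) with hk'
    have e : G * k = k' * G := by rw [hk', Matrix.mul_assoc, Units.inv_mul, Matrix.mul_one]
    by_contra hne
    have hne' : k - k' ≠ 0 := sub_ne_zero.mpr fun h => hne (by rw [e, ← h])
    obtain ⟨y, hy, hky⟩ := hK.inv (k - k') (K.sub_mem hk (hτ k hk)) hne'
    let L : (ι → F) →ₗ[F] (Fin d → F) × (Fin d → F) := φ.prod (φ ∘ₗ Matrix.toLin' k)
    obtain ⟨v, hv0, hv⟩ := exists_ne_zero_map_zero L (by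
      rw [Module.finrank_prod, Module.finrank_fin_fun, Module.finrank_fintype_fun_eq_card]; omega)
    obtain ⟨h1, h2⟩ := Prod.mk_eq_zero.mp hv
    have e1 : G *ᵥ (k *ᵥ v) = k *ᵥ v := hφ _ h2
    rw [Matrix.mulVec_mulVec, e, ← Matrix.mulVec_mulVec, hφ v h1] at e1
    apply hv0
    have e2 : (k - k') *ᵥ v = 0 := by rw [Matrix.sub_mulVec, e1, sub_self]
    have e3 := congrArg (y *ᵥ ·) e2
    rw [hK.comm (k - k') (K.sub_mem hk (hτ k hk)) y hy] at hky
    simpa [Matrix.mulVec_mulVec, hky] using e3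
  exact hcomm k₀ hk₀

/-- It normalises no field of degree above `d`. -/
theorem not_mem_subalgebraNormalizer (hg : FixCodim d g) (hg1 : g ≠ 1) (hd : 2 * d < Fintype.card ι) {r : ℕ}
    (hr : d < r) {K : Subalgebra F (Matrix ι ι F)} (hK : IsFieldSubalgebra r K) : g ∉ subalgebraNormalizer K := by
  classical
  intro hmem
  obtain ⟨φ, hφ⟩ := id hg
  set G := (g : Matrix ι ι F)
  have hτ : ∀ k ∈ K, G * k * ((g⁻¹ : GL ι F) : Matrix ι ι F) ∈ K := fun k hk => (hmem k).mp hk
  have hcomm : ∀ k ∈ K, G * k = k * G := by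
    intro k hk
    set k' := G * k * ((g⁻¹ : GL ι F) : Matrix ι ι F) with hk'
    have e : G * k = k' * G := by rw [hk', Matrix.mul_assoc, Units.inv_mul, Matrix.mul_one]
    by_contra hne
    have hne' : k - k' ≠ 0 := sub_ne_zero.mpr fun h => hne (by rw [e, ← h])
    obtain ⟨y, hy, hky⟩ := hK.inv (k - k') (K.sub_mem hk (hτ k hk)) hne'
    let L : (ι → F) →ₗ[F] (Fin d → F) × (Fin d → F) := φ.prod (φ ∘ₗ Matrix.toLin' k)
    obtain ⟨v, hv0, hv⟩ := exists_ne_zero_map_zero L (by
      rw [Module.finrank_prod, Module.finrank_fin_fun, Module.finrank_fintype_fun_eq_card]; omega)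
    obtain ⟨h1, h2⟩ := Prod.mk_eq_zero.mp hv
    have e1 : G *ᵥ (k *ᵥ v) = k *ᵥ v := hφ _ h2
    rw [Matrix.mulVec_mulVec, e, ← Matrix.mulVec_mulVec, hφ v h1] at e1
    apply hv0
    have e2 : (k - k') *ᵥ v = 0 := by rw [Matrix.sub_mulVec, e1, sub_self]
    have e3 := congrArg (y *ᵥ ·) e2
    rw [hK.comm (k - k') (K.sub_mem hk (hτ k hk)) y hy] at hky
    simpa [Matrix.mulVec_mulVec, hky] using e3
  let E : Submodule F (ι → F) := LinearMap.ker (Matrix.toLin' (G - 1))
  have hE : ∀ v, v ∈ E ↔ G *ᵥ v = v := fun v => by simp [E, Matrix.sub_mulVec, sub_eq_zero]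
  obtain ⟨w, hw⟩ : ∃ w, w ∉ E := by
    by_contra hcon
    push Not at hcon
    exact hg1 (gl_ext_mulVec fun v => by rw [Units.val_one, Matrix.one_mulVec]; exact (hE v).mp (hcon v))
  let L : K →ₗ[F] ((ι → F) ⧸ E) := E.mkQ ∘ₗ
    { toFun := fun k : K => (k : Matrix ι ι F) *ᵥ w
      map_add' := fun a b => Matrix.add_mulVec _ _ _
      map_smul' := fun c a => Matrix.smul_mulVec c _ _ }
  have hinj : Function.Injective L := by
    rw [injective_iff_map_eq_zero]
    intro k hk
    by_contra hk0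
    obtain ⟨y, hy, hky⟩ := hK.inv k k.2 fun e => hk0 (Subtype.ext e)
    rw [hK.comm _ k.2 y hy] at hky
    apply hw
    have h : (k : Matrix ι ι F) *ᵥ w ∈ E := (Submodule.Quotient.mk_eq_zero E).mp hk
    rw [hE] at h ⊢
    have h' := congrArg (y *ᵥ ·) h
    simp only [Matrix.mulVec_mulVec] at h'
    rwa [hcomm _ k.2, ← Matrix.mul_assoc, hky, Matrix.one_mul, Matrix.one_mulVec] at h'
  have h1 := LinearMap.finrank_le_finrank_of_injective hinj
  have h2 := hg.codim_le fun v hv => (hE v).mpr hv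
  have h3 := E.finrank_quotient_add_finrank
  rw [Module.finrank_fintype_fun_eq_card] at h3
  rw [hK.finrank_eq] at h1
  omega

variable {κ : Type} [Fintype κ] [DecidableEq κ]

theorem coord (hg : FixCodim d g) (e : ι ≃ κ) (P : GL ι F) :
    ∃ φ : (κ → F) →ₗ[F] (Fin d → F), ∀ x, φ x = 0 → matCoord e P (g : Matrix ι ι F) *ᵥ x = x := by
  obtain ⟨φ, hφ⟩ := hg
  refine ⟨φ ∘ₗ (Matrix.toLin' (P : Matrix ι ι F) ∘ₗ LinearMap.funLeft F F e), fun x hx => ?_⟩
  set v := (P : Matrix ι ι F) *ᵥ (x ∘ e) with hv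
  have hx' : vecCoord e P v = x := by rw [vecCoord, hv, gl_inv_mulVec_cancel]; ext; simp
  rw [← hx', ← vecCoord_mulVec, hφ v hx]

/-- It lies in no tensor product stabiliser with both factors of dimension above `d`. -/
theorem not_mem_tensor (hg : FixCodim d g) (hg1 : g ≠ 1) {n₁ n₂ : ℕ} (h₁ : d < n₁) (h₂ : d < n₂)
    (e : ι ≃ Fin n₁ × Fin n₂) (P : GL ι F) : g ∉ tensorProductSubgroup n₁ n₂ e P := by
  classical
  intro hmem
  obtain ⟨a, b, hab⟩ := (mem_conj_reindex_iff e P).mp hmem
  rw [coe_glReindex_conj] at hab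
  obtain ⟨φ, hφ⟩ := hg.coord e P
  let ten : (Fin n₁ → F) →ₗ[F] (Fin n₂ → F) →ₗ[F] (Fin n₁ × Fin n₂ → F) :=
    LinearMap.mk₂ F (fun x y p => x p.1 * y p.2) (fun x x' y => by ext p; simp [add_mul]) (fun c x y => by ext p; simp [mul_assoc])
      (fun x y y' => by ext p; simp [mul_add]) (fun c x y => by ext p; simp [mul_left_comm])
  have hten : ∀ x y p, ten x y p = x p.1 * y p.2 := fun _ _ _ => rfl
  have hmul : ∀ x y, matCoord e P (g : Matrix ι ι F) *ᵥ ten x y =
      ten ((a : Matrix (Fin n₁) (Fin n₁) F) *ᵥ x) ((b : Matrix (Fin n₂) (Fin n₂) F) *ᵥ y) := fun x y => by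
    ext ⟨i, j⟩
    rw [hab]
    simp only [Matrix.mulVec, dotProduct, hten, Fintype.sum_prod_type, Matrix.kronecker_apply, Finset.sum_mul, Finset.mul_sum]
    rw [Finset.sum_comm]
    exact Finset.sum_congr rfl fun l _ => Finset.sum_congr rfl fun l' _ => by ring
  haveI : Nonempty (Fin n₁) := ⟨⟨0, by omega⟩⟩
  haveI : Nonempty (Fin n₂) := ⟨⟨0, by omega⟩⟩
  have hprop : ∀ {N M : ℕ} (X X' : Fin N → F) (Y Y' : Fin M → F), X ≠ 0 → Y ≠ 0 →
      (∀ i j, X' i * Y' j = X i * Y j) → ∃ c : F, X' = c • X := fun X X' Y Y' hX hY h => by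
    obtain ⟨j, hj⟩ := Function.ne_iff.mp hY
    obtain ⟨i, hi⟩ := Function.ne_iff.mp hX
    have hY' : Y' j ≠ 0 := fun e => mul_ne_zero hi hj (by rw [← h i j, e, mul_zero])
    exact ⟨Y j / Y' j, funext fun i => by
      rw [Pi.smul_apply, smul_eq_mul, eq_comm, div_mul_eq_mul_div, div_eq_iff hY', mul_comm, h i j]⟩
  obtain ⟨ca, hca⟩ := scalar_of_all_eigen (M := (a : Matrix (Fin n₁) (Fin n₁) F)) fun x hx => by
    obtain ⟨y, hy0, hy⟩ := exists_ne_zero_map_zero (φ ∘ₗ ten x) (by rwa [Module.finrank_fin_fun, Module.finrank_fin_fun])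
    have h := hφ _ hy
    rw [hmul] at h
    exact hprop x _ y _ hx hy0 fun i j => congrFun h (i, j)
  obtain ⟨cb, hcb⟩ := scalar_of_all_eigen (M := (b : Matrix (Fin n₂) (Fin n₂) F)) fun y hy => by
    obtain ⟨x, hx0, hx⟩ := exists_ne_zero_map_zero (φ ∘ₗ ten.flip y) (by rwa [Module.finrank_fin_fun, Module.finrank_fin_fun])
    have h := hφ _ hx
    rw [LinearMap.flip_apply, hmul] at h
    exact hprop y _ x _ hy hx0 fun j i => by rw [mul_comm, mul_comm (y j)]; exact congrFun h (i, j)
  apply hg1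
  refine hg.eq_one_of_scalar (c := ca * cb) ?_ (matCoord_injective e P ?_)
  · rw [Fintype.card_congr e, Fintype.card_prod, Fintype.card_fin, Fintype.card_fin]
    exact h₁.trans_le (Nat.le_mul_of_pos_right _ (by omega))
  · rw [hab, hca, hcb, matCoord_smul, matCoord_one, Matrix.smul_kronecker, Matrix.kronecker_smul, Matrix.one_kronecker_one,
      smul_smul]

/-- The pure tensor of a family of vectors. -/
def _root_.Cfsg.Agent.Classical.pureVec {m t : ℕ} (z : Fin t → Fin m → F) : (Fin t → Fin m) → F := fun x => ∏ s, z s (x s)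

theorem _root_.Cfsg.Agent.Classical.pureM_mulVec {m t : ℕ} (A : Fin t → Matrix (Fin m) (Fin m) F) (z : Fin t → Fin m → F) :
    pureM A *ᵥ pureVec z = pureVec fun s => A s *ᵥ z s := by
  ext x
  simp only [Matrix.mulVec, dotProduct, pureVec, pureM, Matrix.of_apply, ← Finset.prod_mul_distrib]
  rw [Finset.prod_univ_sum, Fintype.piFinset_univ]

theorem _root_.Cfsg.Agent.Classical.pureVec_proportional {m t : ℕ} {w z : Fin t → Fin m → F} (hz : ∀ s, z s ≠ 0)
    (h : pureVec w = pureVec z) (s : Fin t) : ∃ c : F, w s = c • z s := by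
  classical
  choose x₀ hx₀ using fun s => Function.ne_iff.mp (hz s)
  have key : ∀ (u : Fin t → Fin m → F) a, pureVec u (Function.update x₀ s a) =
      u s a * ∏ r ∈ Finset.univ.erase s, u r (x₀ r) := fun u a => by
    rw [pureVec, ← Finset.mul_prod_erase _ _ (Finset.mem_univ s), Function.update_self]
    congr 1
    exact Finset.prod_congr rfl fun r hr => by rw [Function.update_of_ne (Finset.ne_of_mem_erase hr)]
  have hzp : ∏ r ∈ Finset.univ.erase s, z r (x₀ r) ≠ 0 := Finset.prod_ne_zero_iff.mpr fun r _ => hx₀ r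
  have hwp : ∏ r ∈ Finset.univ.erase s, w r (x₀ r) ≠ 0 := fun e => by
    have h1 := congrFun h (Function.update x₀ s (x₀ s))
    rw [key, key, e, mul_zero] at h1
    exact mul_ne_zero (hx₀ s) hzp h1.symm
  refine ⟨(∏ r ∈ Finset.univ.erase s, z r (x₀ r)) / ∏ r ∈ Finset.univ.erase s, w r (x₀ r), funext fun a => ?_⟩
  have h1 := congrFun h (Function.update x₀ s a)
  rw [key, key] at h1
  rw [Pi.smul_apply, smul_eq_mul, div_mul_eq_mul_div, eq_div_iff hwp, h1, mul_comm]

/-- It lies in no tensor power stabiliser with factors of dimension above `d`, involutions apart. -/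
theorem not_mem_wreath (hg : FixCodim d g) (hg1 : g ≠ 1) {k t : ℕ} (hk : d < k) (ht : 2 ≤ t)
    (h : d + 1 < k ∨ g * g ≠ 1) (e : ι ≃ (Fin t → Fin k)) (P : GL ι F) : g ∉ tensorWreathSubgroup k t e P := by
  classical
  intro hmem
  have hpi1 : ∀ (g : GL ι F), FixCodim d g → ∀ A : Fin t → GL (Fin k) F,
      matCoord e P (g : Matrix ι ι F) = pureM (fun i => (A i : Matrix (Fin k) (Fin k) F)) → g = 1 := by
    intro g hg A hA
    obtain ⟨φ, hφ⟩ := hg.coord e P
    haveI : Nonempty (Fin k) := ⟨⟨0, by omega⟩⟩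
    choose c hc using fun s => scalar_of_all_eigen (M := (A s : Matrix (Fin k) (Fin k) F)) fun x hx => by
      obtain ⟨s', hs'⟩ : ∃ s' : Fin t, s' ≠ s := by
        haveI : Nontrivial (Fin t) := Fin.nontrivial_iff_two_le.mpr ht
        exact exists_ne s
      let z₀ : Fin t → Fin k → F := Function.update (fun _ => Pi.single ⟨0, by omega⟩ 1) s x
      let L : (Fin k → F) →ₗ[F] ((Fin t → Fin k) → F) :=
        { toFun := fun y => pureVec (Function.update z₀ s' y)
          map_add' := fun y y' => funext fun u => by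
            simp only [pureVec, Pi.add_apply, ← Finset.mul_prod_erase _ _ (Finset.mem_univ s'), Function.update_self, add_mul]
            congr 1 <;>
            exact congrArg (_ * ·) (Finset.prod_congr rfl fun r hr => by simp [Function.update_of_ne (Finset.ne_of_mem_erase hr)])
          map_smul' := fun a y => funext fun u => by
            simp only [pureVec, Pi.smul_apply, smul_eq_mul, RingHom.id_apply, ← Finset.mul_prod_erase _ _ (Finset.mem_univ s'),
              Function.update_self, mul_assoc]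
            congr 2
            exact Finset.prod_congr rfl fun r hr => by simp [Function.update_of_ne (Finset.ne_of_mem_erase hr)] }
      obtain ⟨y, hy0, hy⟩ := exists_ne_zero_map_zero (φ ∘ₗ L) (by rwa [Module.finrank_fin_fun, Module.finrank_fin_fun])
      have h1 := hφ _ hy
      simp only [L, LinearMap.coe_mk, AddHom.coe_mk] at h1
      rw [hA, pureM_mulVec] at h1
      obtain ⟨c, hc⟩ := pureVec_proportional (fun r => by
        rcases eq_or_ne r s' with rfl | hr
        · simpa using hy0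
        · rw [Function.update_of_ne hr]
          rcases eq_or_ne r s with rfl | hr'
          · simpa [z₀] using hx
          · simp [z₀, Function.update_of_ne hr']) h1 s
      exact ⟨c, by simpa [z₀, Function.update_of_ne hs'.symm] using hc⟩
    refine hg.eq_one_of_scalar (c := ∏ s, c s) ?_ (matCoord_injective e P ?_)
    · rw [Fintype.card_congr e, Fintype.card_fun, Fintype.card_fin, Fintype.card_fin]
      exact hk.trans_le (Nat.le_self_pow (by omega) k)
    · simp only [hA, hc, pureM_smul, pureM_one, matCoord_smul, matCoord_one]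
  obtain ⟨π, A, hA⟩ := wreath_normal_form ((mem_conj_reindex_iff e P).mp hmem)
  rw [coe_glReindex_conj] at hA
  by_cases hπ : π = 1
  · exact hg1 (hpi1 g hg A (by rw [hA, hπ, factorPermM_one, Matrix.one_mul]))
  obtain ⟨φ, hφ⟩ := hg.coord e P
  have hact : ∀ z, matCoord e P (g : Matrix ι ι F) *ᵥ pureVec z =
      pureVec fun s => (A (π.symm s) : Matrix (Fin k) (Fin k) F) *ᵥ z (π.symm s) := fun z => by
    rw [hA, ← Matrix.mulVec_mulVec, pureM_mulVec]
    ext x
    simp only [Matrix.mulVec, dotProduct, factorPermM, Matrix.of_apply, ite_mul, one_mul, zero_mul, Finset.sum_ite_eq',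
      Finset.mem_univ, if_true, pureVec, Function.comp_apply]
    rw [← Equiv.prod_comp π.symm]
    simp
  have hne0 : ∀ (B : GL (Fin k) F) x, x ≠ 0 → (B : Matrix (Fin k) (Fin k) F) *ᵥ x ≠ 0 := fun B x hx e =>
    hx (gl_mulVec_injective B (e.trans (Matrix.mulVec_zero _).symm))
  -- a kernel vector in factor `i`
  have hker : ∀ i (z₀ : Fin t → Fin k → F), ∃ U : Submodule F (Fin k → F), k ≤ Module.finrank F U + d ∧
      ∀ y ∈ U, matCoord e P (g : Matrix ι ι F) *ᵥ pureVec (Function.update z₀ i y) = pureVec (Function.update z₀ i y) := by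
    intro i z₀
    let L : (Fin k → F) →ₗ[F] ((Fin t → Fin k) → F) :=
      { toFun := fun y => pureVec (Function.update z₀ i y)
        map_add' := fun y y' => funext fun u => by
          simp only [pureVec, Pi.add_apply, ← Finset.mul_prod_erase _ _ (Finset.mem_univ i), Function.update_self, add_mul]
          congr 1 <;>
          exact congrArg (_ * ·) (Finset.prod_congr rfl fun r hr => by simp [Function.update_of_ne (Finset.ne_of_mem_erase hr)])
        map_smul' := fun a y => funext fun u => by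
          simp only [pureVec, Pi.smul_apply, smul_eq_mul, RingHom.id_apply, ← Finset.mul_prod_erase _ _ (Finset.mem_univ i),
            Function.update_self, mul_assoc]
          congr 2
          exact Finset.prod_congr rfl fun r hr => by simp [Function.update_of_ne (Finset.ne_of_mem_erase hr)] }
    refine ⟨LinearMap.ker (φ ∘ₗ L), ?_, fun y hy => hφ _ hy⟩
    have h1 := (φ ∘ₗ L).finrank_range_add_finrank_ker
    have h2 := Submodule.finrank_le (LinearMap.range (φ ∘ₗ L))
    rw [Module.finrank_fin_fun] at h1 h2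
    omega
  by_cases hbig : d + 1 < k
  · obtain ⟨i, hi⟩ : ∃ i, π i ≠ i := by
      by_contra hcon
      push Not at hcon
      exact hπ (Equiv.ext hcon)
    have hl : π.symm i ≠ i := fun e => hi (by conv_lhs => rw [← e, Equiv.apply_symm_apply])
    set e₀ : Fin k → F := Pi.single ⟨0, by omega⟩ 1 with he₀
    obtain ⟨U, hU, hfix⟩ := hker i fun _ => e₀
    set w := (A (π.symm i) : Matrix (Fin k) (Fin k) F) *ᵥ e₀
    have hle : U ≤ F ∙ w := fun y hy => by
      rcases eq_or_ne y 0 with rfl | hy0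
      · exact Submodule.zero_mem _
      have h1 := (hact _).symm.trans (hfix y hy)
      obtain ⟨c, hc⟩ := pureVec_proportional (fun r => by
        rcases eq_or_ne r i with rfl | hr
        · simpa using hy0
        · simp [Function.update_of_ne hr, he₀]) h1 i
      simp only [Function.update_self, Function.update_of_ne hl] at hc
      have hc0 : c ≠ 0 := fun e' => hne0 (A (π.symm i)) e₀ (by simp [he₀]) (by rw [hc, e', zero_smul])
      exact Submodule.mem_span_singleton.mpr ⟨c⁻¹, by rw [show w = c • y from hc, smul_smul, inv_mul_cancel₀ hc0, one_smul]⟩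
    have := (Submodule.finrank_mono hle).trans_eq (finrank_span_singleton (hne0 _ e₀ (by simp [he₀])))
    omega
  have hsq : g * g ≠ 1 := h.resolve_left hbig
  by_cases hπ2 : ∀ i, π (π i) = i
  · refine hsq (hpi1 _ hg.sq (fun i => A (π i) * A i) ?_)
    rw [Units.val_mul, matCoord_mul, hA]
    have hh := factorPermM_pureM (F := F) π fun i => (A (π i) : Matrix (Fin k) (Fin k) F)
    simp only [Equiv.apply_symm_apply] at hh
    rw [Matrix.mul_assoc, ← Matrix.mul_assoc (pureM _), ← hh, ← Matrix.mul_assoc, ← Matrix.mul_assoc, factorPermM_mul,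
      show π * π = 1 from Equiv.ext hπ2, factorPermM_one, Matrix.one_mul, pureM_mul]
    simp only [Units.val_mul]
  push Not at hπ2
  obtain ⟨i, hi⟩ := hπ2
  have hji : π i ≠ i := fun e => hi (by rw [e, e])
  have hl : π.symm i ≠ i := fun e => hji (by conv_lhs => rw [← e, Equiv.apply_symm_apply])
  have hjl : π i ≠ π.symm i := fun e => hi (by rw [e, Equiv.apply_symm_apply])
  have h2k : 2 ≤ k ∨ k = 1 := by omega
  set e₀ : Fin k → F := Pi.single ⟨0, by omega⟩ 1 with he₀
  set M := ((A i : Matrix (Fin k) (Fin k) F) * (A (π.symm i) : Matrix (Fin k) (Fin k) F)) *ᵥ e₀ with hM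
  have hspan : ∀ x : Fin k → F, x ≠ 0 → ∃ c : F, x = c • M := by
    intro x hx
    obtain ⟨U, hU, hfix⟩ := hker i (Function.update (fun _ => e₀) (π i) x)
    obtain ⟨y, hy, hy0⟩ := Submodule.exists_mem_ne_zero_of_ne_bot (p := U) (fun e' => by
      rw [e', finrank_bot] at hU; omega)
    have hz : ∀ r, Function.update (Function.update (fun _ => e₀) (π i) x) i y r ≠ 0 := fun r => by
      rcases eq_or_ne r i with rfl | hr
      · simpa using hy0
      rw [Function.update_of_ne hr]
      rcases eq_or_ne r (π i) with rfl | hr'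
      · simpa using hx
      · simp [Function.update_of_ne hr', he₀]
    have h1 := (hact _).symm.trans (hfix y hy)
    obtain ⟨c₁, hc₁⟩ := pureVec_proportional hz h1 i
    obtain ⟨c₂, hc₂⟩ := pureVec_proportional hz h1 (π i)
    simp only [Function.update_self, Function.update_of_ne hl, Function.update_of_ne hjl.symm,
      Function.update_of_ne hji, Equiv.symm_apply_apply] at hc₁ hc₂
    have hc10 : c₁ ≠ 0 := fun e' => hne0 (A (π.symm i)) e₀ (by simp [he₀]) (by rw [hc₁, e', zero_smul])
    have hc20 : c₂ ≠ 0 := fun e' => hne0 (A i) y hy0 (by rw [hc₂, e', zero_smul])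
    refine ⟨c₂⁻¹ * c₁⁻¹, ?_⟩
    rw [hM, ← Matrix.mulVec_mulVec, hc₁, Matrix.mulVec_smul, hc₂, smul_smul, smul_smul]
    field_simp
    rw [one_smul]
  rcases h2k with h2k | h2k
  · obtain ⟨c, hc⟩ := hspan (Pi.single ⟨0, by omega⟩ 1) (by simp)
    obtain ⟨c', hc'⟩ := hspan (Pi.single ⟨1, by omega⟩ 1) (by simp)
    have e0 := congrFun hc ⟨0, by omega⟩
    have e1 := congrFun hc' ⟨0, by omega⟩
    have e2 := congrFun hc' ⟨1, by omega⟩
    simp [Fin.ext_iff] at e0 e1 e2
    rcases e1 with e1 | e1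
    · rw [e1] at e2; simp at e2
    · rw [e1] at e0; simp at e0
  · subst h2k
    apply hg1
    haveI : Subsingleton ι := e.injective.subsingleton
    obtain ⟨v, -, hv0, hv⟩ := hg.exists_fixed (U := ⊤) (by
      rw [finrank_top, Module.finrank_fintype_fun_eq_card, Fintype.card_congr e, Fintype.card_fun, Fintype.card_fin,
        Fintype.card_fin, one_pow]; omega)
    refine Units.ext (Matrix.ext fun a b => ?_)
    obtain ⟨a', ha'⟩ := Function.ne_iff.mp hv0
    have h1 := congrFun hv a'
    simp [Matrix.mulVec, dotProduct, Fintype.sum_subsingleton _ a'] at h1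
    rw [Subsingleton.elim a a', Subsingleton.elim b a', Units.val_one, Matrix.one_apply_eq]
    exact mul_right_cancel₀ ha' (h1.trans (one_mul _).symm)

/-- It normalises no absolutely irreducible group whose commutators are scalar. -/
theorem not_mem_normalizer (hg : FixCodim d g) (hg1 : g ≠ 1) (hd : 4 * d < Fintype.card ι) {R : Subgroup (GL ι F)}
    (hR : ActsAbsolutelyIrreducibly (matrixSet R)) (hc : ∀ x ∈ R, ∀ y ∈ R, x * y * x⁻¹ * y⁻¹ ∈ scalars ι F) :
    g ∉ subgroupNormalizer R := by
  classical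
  intro hmem
  obtain ⟨φ, hφ⟩ := id hg
  have hfix' : ∀ v, φ v = 0 → ((g⁻¹ : GL ι F) : Matrix ι ι F) *ᵥ v = v := fun v hv => by
    conv_lhs => rw [← hφ v hv]
    exact gl_inv_mulVec_cancel g v
  apply hg1
  have hcom : ∀ r ∈ R, (g : Matrix ι ι F) * (r : Matrix ι ι F) = (r : Matrix ι ι F) * (g : Matrix ι ι F) := by
    intro r hr
    set z := g * r * g⁻¹ * r⁻¹ with hz
    have hzR : z ∈ R := mul_mem ((Subgroup.mem_normalizer_iff.mp hmem r).mp hr) (inv_mem hr)
    let L : (ι → F) →ₗ[F] (Fin d → F) × (Fin d → F) :=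
      φ.prod (φ ∘ₗ Matrix.toLin' ((r⁻¹ : GL ι F) : Matrix ι ι F))
    let E := LinearMap.ker L
    have hEdim : Fintype.card ι ≤ Module.finrank F E + 2 * d := by
      have h1 := L.finrank_range_add_finrank_ker
      have h2 := Submodule.finrank_le (LinearMap.range L)
      rw [Module.finrank_prod, Module.finrank_fin_fun] at h2
      rw [Module.finrank_fintype_fun_eq_card] at h1
      change _ ≤ Module.finrank F (LinearMap.ker L) + _
      omega
    have hEfix : ∀ v ∈ E, (z : Matrix ι ι F) *ᵥ v = v := fun v hv => by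
      obtain ⟨h1, h2⟩ := Prod.mk_eq_zero.mp (LinearMap.mem_ker.mp hv)
      replace h2 : φ (((r⁻¹ : GL ι F) : Matrix ι ι F) *ᵥ v) = 0 := h2
      rw [hz, gl_mul_mulVec, gl_mul_mulVec, gl_mul_mulVec, hfix' _ h2, gl_mulVec_inv_cancel, hφ v h1]
    have hzs : z ∈ scalars ι F := by
      refine mem_scalars_of_absIrr hR fun y hy => ?_
      by_contra hne
      obtain ⟨c, hcz⟩ := (mem_scalars_iff _).mp (hc z hzR y hy)
      have e := coe_mul_comm_of_scalar hcz
      have hc1 : (c : F) ≠ 1 := fun h1 => hne (Units.ext ((Units.val_mul z y).trans (by rw [e, h1, one_smul]; exact (Units.val_mul y z).symm)))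
      let E' := E.map (Matrix.toLin' (y : Matrix ι ι F))
      have hdisj : E ⊓ E' = ⊥ := by
        rw [eq_bot_iff]
        rintro _ ⟨h1, v, hv, rfl⟩
        rw [Submodule.mem_bot]
        simp only [Matrix.toLin'_apply] at h1 ⊢
        have h2 := hEfix _ h1
        rw [Matrix.mulVec_mulVec, e, Matrix.smul_mulVec, ← Matrix.mulVec_mulVec, hEfix v hv] at h2
        by_contra hne0
        exact hc1 (smul_left_injective F hne0 (h2.trans (one_smul F _).symm))
      have h1 : Module.finrank F E' = Module.finrank F E :=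
        (Submodule.equivMapOfInjective _ (fun a b hab => gl_mulVec_injective y hab) E).finrank_eq.symm
      · have h2 := Submodule.finrank_sup_add_finrank_inf_eq E E'
        rw [hdisj, finrank_bot, add_zero, h1] at h2
        have h3 := Submodule.finrank_le (E ⊔ E')
        rw [Module.finrank_fintype_fun_eq_card] at h3
        omega
    obtain ⟨c, hc'⟩ := (mem_scalars_iff z).mp hzs
    obtain ⟨v, hv, hv0⟩ := Submodule.exists_mem_ne_zero_of_ne_bot (p := E) (fun e => by rw [e, finrank_bot] at hEdim; omega)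
    have := hEfix v hv
    rw [hc', Matrix.smul_mulVec, Matrix.one_mulVec] at this
    have hz1 : z = 1 := Units.ext (by
      rw [hc', smul_left_injective F hv0 (this.trans (one_smul F v).symm), one_smul, Units.val_one])
    rw [← Units.val_mul, ← Units.val_mul, mul_inv_eq_iff_eq_mul.mp (mul_inv_eq_one.mp hz1)]
  obtain ⟨c, hc'⟩ := (mem_scalars_iff g).mp (mem_scalars_of_absIrr hR fun r hr => Units.ext (by
    rw [Units.val_mul, Units.val_mul]; exact hcom r hr))
  exact hg.eq_one_of_scalar (by omega) hc'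

end FixCodim

/-- A decomposition with large members is preserved by no set of such elements with trivial centraliser. -/
theorem not_decomposition_of_centralizer {d : ℕ} {S : Set (GL ι F)} (hS : ∀ g ∈ S, FixCodim d g)
    (hcent : ∀ M : Matrix ι ι F, (∀ g ∈ S, Commute (g : Matrix ι ι F) M) → ∃ c : F, M = c • (1 : Matrix ι ι F))
    {t k : ℕ} {D : Fin t → Submodule F (ι → F)} (hD : IsMDecomposition k D) (hdk : d < k) :
    ¬ S ⊆ (decompositionStabilizer D : Set (GL ι F)) := by
  classical
  intro hle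
  have h2 := hD.two_le
  let i₀ : Fin t := ⟨0, by omega⟩
  let C : Submodule F (ι → F) := ⨆ j ≠ i₀, D j
  have hC : IsCompl (D i₀) C := by
    refine ⟨hD.indep i₀, ?_⟩
    rw [codisjoint_iff, ← top_le_iff, ← hD.iSup_eq_top, iSup_le_iff]
    intro j
    rcases eq_or_ne j i₀ with rfl | hj
    · exact le_sup_left
    · exact (le_iSup₂ (f := fun j (_ : j ≠ i₀) => D j) j hj).trans le_sup_right
  let π : (ι → F) →ₗ[F] (ι → F) := (D i₀).subtype ∘ₗ Submodule.projectionOnto (D i₀) C hC
  obtain ⟨c, hc⟩ := hcent (LinearMap.toMatrix' π) fun g hg => by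
    have hinv := (hS g hg).fixes_members hD hdk (hle hg)
    have hCinv : ∀ v ∈ C, (g : Matrix ι ι F) *ᵥ v ∈ C := by
      intro v hv
      have : C.map (Matrix.toLin' (g : Matrix ι ι F)) ≤ C := by
        simp only [C, Submodule.map_iSup]
        exact iSup₂_le fun j hj => (map_toLin'_le.mpr (hinv j)).trans (le_iSup₂ (f := fun j (_ : j ≠ i₀) => D j) j hj)
      exact map_toLin'_le.mp this v hv
    refine Matrix.toLin'.injective (LinearMap.ext fun v => ?_)
    rw [Matrix.toLin'_mul, Matrix.toLin'_mul, Matrix.toLin'_toMatrix']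
    simp only [LinearMap.comp_apply, Matrix.toLin'_apply]
    obtain ⟨a, ha, b, hb, rfl⟩ := Submodule.mem_sup.mp (hC.sup_eq_top ▸ Submodule.mem_top : v ∈ D i₀ ⊔ C)
    have hπ : ∀ a ∈ D i₀, ∀ b ∈ C, π (a + b) = a := fun a ha b hb => by
      simp [π, Submodule.projectionOnto_apply_left hC ⟨a, ha⟩, Submodule.projectionOnto_apply_of_mem_right hC hb]
    rw [hπ a ha b hb, Matrix.mulVec_add, hπ _ (hinv i₀ a ha) _ (hCinv b hb)]
  have hπc : ∀ v, π v = c • v := fun v => by
    rw [← Matrix.toLin'_toMatrix' π, hc, Matrix.toLin'_apply, Matrix.smul_mulVec, Matrix.one_mulVec]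
  obtain ⟨a, ha, ha0⟩ := Submodule.exists_mem_ne_zero_of_ne_bot (p := D i₀) (fun e => by
    have := hD.finrank_eq i₀
    rw [e, finrank_bot] at this
    exact hD.pos.ne' this.symm)
  have hj : (⟨1, by omega⟩ : Fin t) ≠ i₀ := by simp [i₀, Fin.ext_iff]
  obtain ⟨b, hb, hb0⟩ := Submodule.exists_mem_ne_zero_of_ne_bot (p := D ⟨1, by omega⟩) (fun e => by
    have := hD.finrank_eq ⟨1, by omega⟩
    rw [e, finrank_bot] at this
    exact hD.pos.ne' this.symm)
  have e1 := hπc a
  simp only [π, LinearMap.comp_apply, Submodule.projectionOnto_apply_left hC ⟨a, ha⟩, Submodule.subtype_apply] at e1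
  have hc1 : c = 1 := (smul_left_injective F ha0 ((one_smul F a).trans e1)).symm
  have e2 := hπc b
  have hbC : b ∈ C := le_iSup₂ (f := fun j (_ : j ≠ i₀) => D j) (⟨1, by omega⟩ : Fin t) hj hb
  simp only [π, LinearMap.comp_apply, Submodule.subtype_apply, Submodule.projectionOnto_apply_of_mem_right hC hbC,
    hc1, one_smul, ZeroMemClass.coe_zero] at e2
  exact hb0 e2.symm

end Cfsg.Agent.Classical
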