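/-
The common part of the subgroup theorems for groups of isometries.
-/
import Cfsg.Agent.Lib.Classical.LinAschbacher
import Cfsg.Agent.Lib.Classical.FormTensor
import Cfsg.Agent.Lib.Classical.FormWreath

set_option autoImplicit false
set_option linter.style.haveILetI false
set_option linter.unusedSectionVars false

namespace Cfsg.Agent.Classical

open Matrix Cfsg.Geo
open scoped commutatorElement Kronecker

variable {ι : Type} [Fintype ι] [DecidableEq ι] {F : Type*} [Field F] {σ : F ≃+* F} {ε : F}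
  {f : (ι → F) → (ι → F) → F}

theorem IsReflexForm.commutantCentre_adj (hf : IsReflexForm σ ε f) {H N : Subgroup (GL ι F)}
    (hfix : FixesForm (matrixSet H) f) (hN : N ≤ H) {z : Matrix ι ι F} (hz : z ∈ commutantCentre N) :
    formAdj σ f z ∈ commutantCentre N := by
  rw [mem_commutantCentre] at hz ⊢
  refine ⟨hf.commutant_adj hfix hN hz.1, fun c hc => ?_⟩
  have h := congrArg (formAdj σ f) (hz.2 _ (hf.commutant_adj hfix hN hc))
  rw [hf.adj_mul, hf.adj_mul, hf.adj_adj] at h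
  exact h.symm

/-- The subgroup theorem for irreducible groups of isometries, given what each case leads to. -/
theorem form_aschbacher [Fintype F] (hn : 2 ≤ Fintype.card ι) (hf : IsReflexForm σ ε f) {H : Subgroup (GL ι F)}
    (hfix : FixesForm (matrixSet H) f) (Member : Prop)
    (hred : ¬ ActsIrreducibly (matrixSet H) → Member)
    (halg : ActsIrreducibly (matrixSet H) → ∀ M : Subgroup (GL ι F), M ≤ H → NormalIn H M → ¬ M ≤ scalars ι F →
      (∃ z ∈ commutantCentre M, ∀ c : F, z ≠ c • (1 : Matrix ι ι F)) → Member)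
    (hten : ActsIrreducibly (matrixSet H) → ∀ (d k : ℕ) (e : ι ≃ Fin d × Fin k) (P : GL ι F)
      (G₁ : Matrix (Fin d) (Fin d) F) (G₂ : Matrix (Fin k) (Fin k) F) (l : F), 2 ≤ d → 2 ≤ k →
      TensorGram σ ε f e P G₁ G₂ l →
      (∀ g ∈ H, ∃ (a : GL (Fin d) F) (b : GL (Fin k) F),
        matCoord e P (g : Matrix ι ι F) = (a : Matrix (Fin d) (Fin d) F) ⊗ₖ (b : Matrix (Fin k) (Fin k) F)) → Member)
    (hsym : ∀ M : Subgroup (GL ι F), M ≤ H → NormalIn H M → ActsAbsolutelyIrreducibly (matrixSet M) →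
      (∃ x ∈ M, ∃ y ∈ M, x * y ≠ y * x) → (∀ x ∈ M, ∀ y ∈ M, x * y * x⁻¹ * y⁻¹ ∈ scalars ι F) →
      (∀ A : Subgroup (GL ι F), A ≤ M → NormalIn H A → M ⊓ scalars ι F ≤ A → ¬ A ≤ scalars ι F → A = M) → Member)
    (hsub : ∀ N : Subgroup (GL ι F), N ≤ H → NormalIn H N → ActsAbsolutelyIrreducibly (matrixSet N) →
      ∀ F₀ : Subfield F, F₀ ≠ ⊤ → RealisableOver F₀ (matrixSet N) → Member)
    (hpow : ActsIrreducibly (matrixSet H) → ∀ (k t : ℕ) (e : ι ≃ (Fin t → Fin k)) (B : GL ι F) (P : Subgroup (GL ι F)),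
      2 ≤ k → 2 ≤ t → H ≤ tensorWreathSubgroup k t e B → P ≤ H → ⁅P, P⁆ = P → ¬ P ≤ ⊥ → WreathFactors H P e B → Member) :
    Member ∨ ∃ P, IsResidualCore H P := by
  classical
  haveI : Nonempty ι := Fintype.card_pos_iff.mp (by omega)
  by_cases hirr : ActsIrreducibly (matrixSet H)
  swap
  · exact Or.inl (hred hirr)
  have hnoscal : ¬ H ≤ scalars ι F := fun h => by
    obtain ⟨i⟩ := ‹Nonempty ι›
    have hne : (Pi.single i 1 : ι → F) ≠ 0 := by simp
    rcases hirr (F ∙ (Pi.single i 1 : ι → F)) (by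
      rintro _ ⟨g, hg, rfl⟩
      obtain ⟨a, ha⟩ := (mem_scalars_iff g).mp (h hg)
      rw [map_toLin'_le]
      intro w hw
      change (g : Matrix ι ι F) *ᵥ w ∈ _
      rw [ha, Matrix.smul_mulVec, Matrix.one_mulVec]
      exact Submodule.smul_mem _ _ hw) with hb | ht
    · exact hne (Submodule.span_singleton_eq_bot.mp hb)
    · have := congrArg (fun W : Submodule F (ι → F) => Module.finrank F W) ht
      simp only [finrank_top, Module.finrank_fintype_fun_eq_card, finrank_span_singleton hne] at this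
      omega
  let Good : Subgroup (GL ι F) → Prop := fun M => M ≤ H ∧ NormalIn H M ∧ H ⊓ scalars ι F ≤ M ∧ ¬ M ≤ scalars ι F
  obtain ⟨M, ⟨hMH, hMn, hZM, hMs⟩, hmin⟩ := exists_minimal_of_wellFoundedLT Good
    ⟨H, le_rfl, normalIn_of_le_self le_rfl, inf_le_left, hnoscal⟩
  have hminimal : ∀ A : Subgroup (GL ι F), A ≤ M → NormalIn H A → ¬ A ≤ scalars ι F → A ⊔ (H ⊓ scalars ι F) = M := by
    intro A hA hAn hAs
    refine le_antisymm (sup_le hA hZM) (hmin ⟨(sup_le hA hZM).trans hMH, hAn.sup (scalars_le_inf_normal H),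
      le_sup_right, fun h => hAs (le_sup_left.trans h)⟩ (sup_le hA hZM))
  by_cases hscal : ∀ z ∈ commutantCentre M, ∃ c : F, z = c • (1 : Matrix ι ι F)
  swap
  · push Not at hscal
    exact Or.inl (halg hirr M hMH hMn hMs hscal)
  obtain ⟨d, k, e, P, hd, hk, hchar, hk1⟩ := tensor_split hirr hMn fun z hz hzc =>
    hscal z (mem_commutantCentre.mpr ⟨hz, hzc⟩)
  have hd2 : 2 ≤ d := by
    by_contra hlt
    have hsub' : ∀ u : Fin d, u = ⟨0, hd⟩ := fun u => Fin.ext (by have := u.2; change (u : ℕ) = 0; omega)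
    apply hMs
    intro q hq
    obtain ⟨c, hc⟩ := scalar_of_commute_all (M := (q : Matrix ι ι F)) fun Y => by
      refine mem_commutant_iff.mp ((hchar Y).mpr
        ⟨Matrix.of fun i j => matCoord e P Y (⟨0, hd⟩, i) (⟨0, hd⟩, j), ?_⟩) q hq
      ext ⟨a, i⟩ ⟨b, j⟩
      rw [hsub' a, hsub' b]
      simp
    exact mem_scalars_of_eq hc
  by_cases hk2 : 2 ≤ k
  · obtain ⟨G₁, G₂, l, hT⟩ := hf.tensor_gram hd hk e P hfix hMH hchar
    exact Or.inl (hten hirr d k e P G₁ G₂ l hd2 hk2 hT fun g hg => exists_kronecker_coord hd hk e P hMn hchar hg)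
  have hMa := hk1 (by omega)
  have hab : ∃ x ∈ M, ∃ y ∈ M, x * y ≠ y * x := by
    by_contra hcon
    push Not at hcon
    exact hMs fun x hx => mem_scalars_of_absIrr hMa fun y hy => hcon x hx y hy
  by_cases hcs : ⁅M, M⁆ ≤ scalars ι F
  · refine Or.inl (hsym M hMH hMn hMa hab (fun x hx y hy => ?_) fun A hA hAn hAs hAns => ?_)
    · simpa [commutatorElement_def] using hcs (Subgroup.commutator_mem_commutator hx hy)
    · rw [← hminimal A hA hAn hAns, sup_of_le_left]
      exact le_trans (le_inf hZM inf_le_right) hAs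
  -- the perfect case
  set P₁ := ⁅M, M⁆ with hP₁
  have hPM : P₁ ≤ M := commutator_self_le M
  have hPn : NormalIn H P₁ := hMn.commutator hMn
  have hMeq := hminimal P₁ hPM hPn hcs
  have hPperf : ⁅P₁, P₁⁆ = P₁ := le_antisymm (commutator_self_le P₁) (by
    conv_lhs => rw [hP₁, ← hMeq]
    exact commutator_sup_scalars inf_le_right)
  have hMdec : ∀ x ∈ M, ∃ y ∈ P₁, ∃ c : Fˣ, (x : Matrix ι ι F) = (c : F) • (y : Matrix ι ι F) := by
    intro x hx
    rw [← hMeq] at hx
    haveI : (H ⊓ scalars ι F).Normal := ⟨fun z hz g => by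
      rw [← scalars_commute hz.2 g, mul_inv_cancel_right]; exact hz⟩
    obtain ⟨y, hy, z, hz, rfl⟩ := Subgroup.mem_sup_of_normal_right.mp hx
    obtain ⟨c, hc⟩ := (mem_scalars_iff z).mp hz.2
    exact ⟨y, hy, c, by rw [Units.val_mul, hc, Matrix.mul_smul, Matrix.mul_one]⟩
  have hPa : ActsAbsolutelyIrreducibly (matrixSet P₁) := by
    refine ⟨fun W hW => hMa.1 W ?_, fun X hX => hMa.2 X ?_⟩
    · rintro _ ⟨x, hx, rfl⟩
      obtain ⟨y, hy, c, hc⟩ := hMdec x hx
      rw [map_toLin'_le]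
      intro w hw
      change (x : Matrix ι ι F) *ᵥ w ∈ _
      rw [hc, Matrix.smul_mulVec]
      exact Submodule.smul_mem _ _ (map_toLin'_le.mp (hW _ (coe_mem_matrixSet hy)) w hw)
    · rintro _ ⟨x, hx, rfl⟩
      obtain ⟨y, hy, c, hc⟩ := hMdec x hx
      change X * (x : Matrix ι ι F) = (x : Matrix ι ι F) * X
      rw [hc, Matrix.mul_smul, Matrix.smul_mul, hX _ (coe_mem_matrixSet hy)]
  have hminP : ∀ A : Subgroup (GL ι F), A ≤ P₁ → NormalIn H A → ¬ A ≤ scalars ι F → A = P₁ := by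
    intro A hA hAn hAs
    refine le_antisymm hA ?_
    conv_lhs => rw [hP₁, ← hminimal A (hA.trans hPM) hAn hAs]
    exact (commutator_sup_scalars inf_le_right).trans (commutator_self_le A)
  by_cases hreal : ∃ F₀ : Subfield F, F₀ ≠ ⊤ ∧ RealisableOver F₀ (matrixSet P₁)
  · obtain ⟨F₀, h0, hr⟩ := hreal
    exact Or.inl (hsub P₁ (hPM.trans hMH) hPn hPa F₀ h0 hr)
  rcases simple_or_wreath (hPM.trans hMH) hPn hPa hPperf hcs hminP with hsimple | ⟨m, t, e', B, hm, ht, hle, hW⟩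
  swap
  · exact Or.inl (hpow hirr m t e' B P₁ hm ht hle (hPM.trans hMH) hPperf
      (fun h => hcs (h.trans bot_le)) hW)
  refine Or.inr ⟨P₁, hPM.trans hMH, hPn, hPperf, hsimple, ?_, ?_, hPa, fun F₀ h0 hr => hreal ⟨F₀, h0, hr⟩⟩
  · intro hcomm
    apply hcs
    rw [← hPperf, Subgroup.commutator_le]
    intro a ha b hb
    have e := hcomm.is_comm.comm (QuotientGroup.mk' ((scalars ι F).subgroupOf P₁) ⟨a, ha⟩) (QuotientGroup.mk' _ ⟨b, hb⟩)
    rw [← commutatorElement_eq_one_iff_mul_comm, ← map_commutatorElement, QuotientGroup.mk'_apply, QuotientGroup.eq_one_iff] at e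
    exact e
  · intro g hg hsc
    refine mem_scalars_of_absIrr hPa fun x hx => ?_
    refine (commute_commutator_of_mod_scalars (A := P₁) (y := g) (fun a ha => ?_) x (hPperf.symm ▸ hx)).symm
    have := inv_mem (hsc a ha)
    simpa [mul_assoc] using this

end Cfsg.Agent.Classical
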