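/-
Tensor decompositions of alternating forms: quadratic forms in characteristic two, and two-dimensional symmetric factors.
-/
import Cfsg.Agent.Lib.Classical.FormTensor
import Cfsg.Agent.Lib.Classical.LinAschbacher

set_option autoImplicit false
set_option linter.style.haveILetI false

namespace Cfsg.Agent.Classical

open Matrix Cfsg.Geo
open scoped Kronecker

variable {ι : Type} [Fintype ι] [DecidableEq ι] {F : Type*} [Field F]
variable {f : (ι → F) → (ι → F) → F}

/-- In characteristic two the diagonal of a symmetric matrix is the square of a linear form. -/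
theorem exists_sqrt_diag [Fintype F] (h2 : (2 : F) = 0) {κ : Type} [Fintype κ] [DecidableEq κ] {A : Matrix κ κ F}
    (hsymm : ∀ k l, A l k = A k l) : ∃ φ : (κ → F) →ₗ[F] F, ∀ u, φ u * φ u = u ⬝ᵥ (A *ᵥ u) := by
  classical
  obtain ⟨p, hchar⟩ := CharP.exists F
  obtain ⟨⟨e, he⟩, hp, -⟩ := FiniteField.card F p
  haveI : CharP F 2 := by
    have : p = 2 := (Nat.prime_dvd_prime_iff_eq hp Nat.prime_two).mp
      ((CharP.cast_eq_zero_iff F p 2).mp (by exact_mod_cast h2))
    exact this ▸ hchar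
  haveI : ExpChar F 2 := ExpChar.prime Nat.prime_two
  choose s hs using fun k => (surjective_frobenius F 2 : Function.Surjective (frobenius F 2)) (A k k)
  refine ⟨∑ k, s k • LinearMap.proj k, fun u => ?_⟩
  have hsq : (∑ k, s k • LinearMap.proj k : (κ → F) →ₗ[F] F) u * (∑ k, s k • LinearMap.proj k : (κ → F) →ₗ[F] F) u =
      ∑ k, (s k * u k) ^ 2 := by
    rw [← sq]
    simp only [LinearMap.sum_apply, LinearMap.smul_apply, LinearMap.proj_apply, smul_eq_mul]
    exact map_sum (frobenius F 2) _ _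
  rw [hsq]
  simp only [dotProduct, Matrix.mulVec, Finset.mul_sum]
  rw [← Fintype.sum_prod_type', ← Finset.sum_filter_add_sum_filter_not Finset.univ (fun x : κ × κ => x.1 = x.2)]
  have hoff : ∑ x ∈ Finset.univ.filter (fun x : κ × κ => ¬ x.1 = x.2), u x.1 * (A x.1 x.2 * u x.2) = 0 := by
    refine Finset.sum_involution (fun x _ => x.swap) (fun x _ => ?_) (fun x hx _ e => ?_) (fun x hx => ?_) (fun x _ => Prod.swap_swap x)
    · simp only [Prod.fst_swap, Prod.snd_swap, hsymm x.1 x.2]
      linear_combination (u x.1 * u x.2 * A x.1 x.2) * h2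
    · exact (Finset.mem_filter.mp hx).2 (by simpa using (congrArg Prod.snd e))
    · simpa [eq_comm] using (Finset.mem_filter.mp hx).2
  rw [hoff, add_zero]
  refine Finset.sum_nbij' (fun k => (k, k)) Prod.fst (by simp) (by simp) (by simp) (fun x hx => ?_) (fun k _ => ?_)
  · simp at hx; exact Prod.ext rfl hx
  · have e : (s k) ^ 2 = A k k := hs k
    rw [← e]; ring

/-- In characteristic two a factor of a tensor decomposition preserved by an irreducible group is alternating. -/
theorem TensorGram.diag_left [Fintype F] (h2 : (2 : F) = 0) {d k : ℕ} (hd : 2 ≤ d) (hk : 0 < k)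
    {e : ι ≃ Fin d × Fin k} {P : GL ι F} {G₁ : Matrix (Fin d) (Fin d) F} {G₂ : Matrix (Fin k) (Fin k) F} {ε l : F}
    (hT : TensorGram (RingEquiv.refl F) ε f e P G₁ G₂ l) (hf : IsReflexForm (RingEquiv.refl F) ε f)
    {H : Subgroup (GL ι F)} (hirr : ActsIrreducibly (matrixSet H)) (hfix : FixesForm (matrixSet H) f)
    (hkr : ∀ g ∈ H, ∃ (a : GL (Fin d) F) (b : GL (Fin k) F),
      matCoord e P (g : Matrix ι ι F) = (a : Matrix (Fin d) (Fin d) F) ⊗ₖ (b : Matrix (Fin k) (Fin k) F)) :
    (∀ i j, G₁ j i = G₁ i j) ∧ ∀ i, G₁ i i = 0 := by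
  classical
  haveI : Nonempty (Fin d) := ⟨⟨0, by omega⟩⟩
  haveI : Nonempty (Fin k) := ⟨⟨0, hk⟩⟩
  have hl : l = 1 := by
    rcases mul_self_eq_one_iff.mp (hT.norm : l * l = 1) with h | h
    · exact h
    · rw [h]; linear_combination -h2
  have hsymm : ∀ i j, G₁ j i = G₁ i j := fun i j => by
    have := hT.swap_left i j
    rwa [hl, one_mul] at this
  refine ⟨hsymm, fun i₀ => ?_⟩
  by_contra hi
  obtain ⟨φ, hφ⟩ := exists_sqrt_diag h2 hsymm
  have hφi : φ (Pi.single i₀ 1) ≠ 0 := fun h => hi (by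
    have := hφ (Pi.single i₀ 1)
    rw [h, mul_zero] at this
    simpa using this.symm)
  let W : Submodule F (ι → F) :=
    { carrier := {v | ∀ j, φ (fun i => vecCoord e P v (i, j)) = 0}
      add_mem' := fun {u v} hu hv j => by
        have : (fun i => vecCoord e P (u + v) (i, j)) = (fun i => vecCoord e P u (i, j)) + fun i => vecCoord e P v (i, j) := by
          funext i; simp [vecCoord, Matrix.mulVec_add]
        rw [this, map_add, hu j, hv j, add_zero]
      zero_mem' := fun j => by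
        have : (fun i => vecCoord e P (0 : ι → F) (i, j)) = 0 := by funext i; simp [vecCoord]
        rw [this, map_zero]
      smul_mem' := fun c v hv j => by
        have : (fun i => vecCoord e P (c • v) (i, j)) = c • fun i => vecCoord e P v (i, j) := by
          funext i; simp [vecCoord, Matrix.mulVec_smul]
        rw [this, map_smul, hv j, smul_zero] }
  rcases hirr W (by
    rintro _ ⟨g, hg, rfl⟩
    refine map_toLin'_le.mpr fun v hv j => ?_
    obtain ⟨a, b, hab⟩ := hkr g hg
    obtain ⟨c, -, hca, -⟩ := hT.similitude hf (hfix _ (coe_mem_matrixSet hg)) hab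
    have hker : ∀ u, φ u = 0 → φ ((a : Matrix (Fin d) (Fin d) F) *ᵥ u) = 0 := fun u hu => by
      have h := hφ ((a : Matrix (Fin d) (Fin d) F) *ᵥ u)
      have e : ∀ w, ((a : Matrix (Fin d) (Fin d) F) *ᵥ u) ⬝ᵥ w = u ⬝ᵥ ((a : Matrix (Fin d) (Fin d) F)ᵀ *ᵥ w) := fun w => by
        rw [Matrix.dotProduct_mulVec, Matrix.vecMul_transpose]
      rw [e, Matrix.mulVec_mulVec, Matrix.mulVec_mulVec, show (a : Matrix (Fin d) (Fin d) F)ᵀ * G₁ * (a : Matrix (Fin d) (Fin d) F) = c • G₁ from hca,
        Matrix.smul_mulVec, dotProduct_smul, ← hφ, hu, mul_zero, smul_zero] at h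
      exact mul_self_eq_zero.mp h
    have e1 : (fun i => vecCoord e P ((g : Matrix ι ι F) *ᵥ v) (i, j)) =
        (a : Matrix (Fin d) (Fin d) F) *ᵥ fun i' => ∑ j', (b : Matrix (Fin k) (Fin k) F) j j' * vecCoord e P v (i', j') := by
      funext i
      rw [vecCoord_mulVec, hab]
      simp only [Matrix.mulVec, dotProduct, Fintype.sum_prod_type, Matrix.kronecker_apply, Finset.mul_sum, mul_assoc]
    rw [e1]
    refine hker _ ?_
    rw [show (fun i' => ∑ j', (b : Matrix (Fin k) (Fin k) F) j j' * vecCoord e P v (i', j')) =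
      ∑ j', (b : Matrix (Fin k) (Fin k) F) j j' • fun i' => vecCoord e P v (i', j') by funext i'; simp, map_sum]
    exact Finset.sum_eq_zero fun j' _ => by rw [map_smul, hv j', smul_zero]) with h | h
  · obtain ⟨u, hu, hu0⟩ := Submodule.exists_mem_ne_zero_of_ne_bot (p := LinearMap.ker φ) (fun hb => by
      have h1 := φ.finrank_range_add_finrank_ker
      have h2 := Submodule.finrank_le (LinearMap.range φ)
      rw [hb, finrank_bot, Module.finrank_fintype_fun_eq_card, Fintype.card_fin] at h1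
      rw [Module.finrank_self] at h2
      omega)
    let j₀ : Fin k := ⟨0, hk⟩
    obtain ⟨v, hv⟩ := vecCoord_surjective e P fun x => if x.2 = j₀ then u x.1 else 0
    have hvW : v ∈ W := fun j => by
      rw [hv]
      by_cases hj : j = j₀
      · simp only [hj, if_true]; exact hu
      · simp only [hj, if_false]; exact map_zero φ
    rw [h, Submodule.mem_bot] at hvW
    obtain ⟨i, hi'⟩ := Function.ne_iff.mp hu0
    have := congrFun hv (i, j₀)
    rw [hvW] at this
    simp [vecCoord] at this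
    exact hi' this.symm
  · obtain ⟨v, hv⟩ := vecCoord_surjective e P fun x => if x.1 = i₀ then (1 : F) else 0
    have hvW : v ∈ W := h ▸ Submodule.mem_top
    have := hvW ⟨0, hk⟩
    rw [hv] at this
    exact hφi ((congrArg φ (funext fun i => by simp [Pi.single_apply])).trans this)

/-- A quadratic form with polar form the alternating form, vanishing on a spanning set permuted by the group. -/
theorem quad_of_pure {κ : Type} [Fintype κ] [DecidableEq κ] (hfs : IsSymplecticForm f) (e : ι ≃ κ) (P : GL ι F)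
    (B : Matrix κ κ F) (hB : ∀ x y, gramCoord (RingEquiv.refl F) f e P x y = B x y + B y x)
    (S : Set (κ → F)) (hS : ∀ x, Pi.single x (1 : F) ∈ S) (hvan : ∀ s ∈ S, s ⬝ᵥ (B *ᵥ s) = 0)
    {H : Subgroup (GL ι F)} (hfix : FixesForm (matrixSet H) f)
    (hst : ∀ g ∈ H, ∀ s ∈ S, matCoord e P (g : Matrix ι ι F) *ᵥ s ∈ S) :
    ∃ Q : (ι → F) → F, IsNondegenerateQuadraticForm Q ∧ (∀ u v, QuadraticMap.polar Q u v = f u v) ∧
      FixesQuadForm (matrixSet H) Q ∧ ∀ s ∈ S, Q ((P : Matrix ι ι F) *ᵥ (s ∘ e)) = 0 := by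
  classical
  have hb := hfs.bilinear
  have hfsemi := semiForm_of_bilinear hb
  let Q : (ι → F) → F := fun v => vecCoord e P v ⬝ᵥ (B *ᵥ vecCoord e P v)
  have hadd : ∀ u v, vecCoord e P (u + v) = vecCoord e P u + vecCoord e P v := fun u v => by
    funext x; simp [vecCoord, Matrix.mulVec_add]
  have hsmul : ∀ (c : F) v, vecCoord e P (c • v) = c • vecCoord e P v := fun c v => by
    funext x; simp [vecCoord, Matrix.mulVec_smul]
  have hpol : QuadraticMap.polar Q = f := by
    funext u v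
    rw [hfsemi.apply_coord e P]
    have hG : gramCoord (RingEquiv.refl F) f e P = B + Bᵀ := Matrix.ext fun x y => hB x y
    have e1 : vecCoord e P v ⬝ᵥ (B *ᵥ vecCoord e P u) = vecCoord e P u ⬝ᵥ (Bᵀ *ᵥ vecCoord e P v) := by
      rw [Matrix.mulVec_transpose, dotProduct_comm (vecCoord e P u), ← Matrix.dotProduct_mulVec]
    rw [hG, show ((RingEquiv.refl F : F ≃+* F) : F → F) ∘ vecCoord e P v = vecCoord e P v from rfl, Matrix.add_mulVec,
      dotProduct_add, ← e1]
    simp only [QuadraticMap.polar, Q, hadd, Matrix.mulVec_add, add_dotProduct, dotProduct_add]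
    ring
  refine ⟨Q, ⟨fun c v => ?_, hpol ▸ hb, hpol ▸ hfs.nondegenerate⟩, fun u v => by rw [hpol], ?_, fun s hs => ?_⟩
  · simp only [Q, hsmul, Matrix.mulVec_smul, smul_dotProduct, dotProduct_smul, smul_eq_mul]; ring
  swap
  · have e1 : vecCoord e P ((P : Matrix ι ι F) *ᵥ (s ∘ e)) = s := by
      rw [vecCoord, gl_inv_mulVec_cancel]; funext y; simp
    simp only [Q, e1]
    exact hvan s hs
  rintro _ ⟨g, hg, rfl⟩ v
  let D : (ι → F) → F := fun v => Q ((g : Matrix ι ι F) *ᵥ v) - Q v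
  have hQadd : ∀ u w, Q (u + w) = Q u + Q w + f u w := fun u w => by
    rw [← hpol]; simp only [QuadraticMap.polar]; ring
  have hDadd : ∀ u w, D (u + w) = D u + D w := fun u w => by
    simp only [D, Matrix.mulVec_add, hQadd, hfix _ (coe_mem_matrixSet hg)]; ring
  have hDsmul : ∀ (c : F) u, D (c • u) = c ^ 2 * D u := fun c u => by
    simp only [D, Q, Matrix.mulVec_smul, hsmul, smul_dotProduct, dotProduct_smul, smul_eq_mul]; ring
  suffices h : D v = 0 from sub_eq_zero.mp h
  let T : Submodule F (ι → F) :=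
    { carrier := {v | D v = 0}
      add_mem' := fun {a b} ha hb => by
        change D (a + b) = 0
        rw [hDadd, show D a = 0 from ha, show D b = 0 from hb, add_zero]
      zero_mem' := by
        change D 0 = 0
        simp [D, Q, vecCoord]
      smul_mem' := fun c a ha => by
        change D (c • a) = 0
        rw [hDsmul, show D a = 0 from ha, mul_zero] }
  have hT : ∀ x, (P : Matrix ι ι F) *ᵥ (Pi.single x (1 : F) ∘ e) ∈ T := fun x => by
    change D _ = 0
    have hx : vecCoord e P ((P : Matrix ι ι F) *ᵥ (Pi.single x (1 : F) ∘ e)) = Pi.single x 1 := by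
      rw [vecCoord, gl_inv_mulVec_cancel]; funext y; simp
    simp only [D, Q, vecCoord_mulVec e P (g : Matrix ι ι F), hx]
    rw [hvan _ (hst g hg _ (hS x)), hvan _ (hS x), sub_zero]
  have hv : v = ∑ x, vecCoord e P v x • ((P : Matrix ι ι F) *ᵥ (Pi.single x (1 : F) ∘ e)) := by
    refine vecCoord_injective e P ?_
    have hsum : ∀ s : Finset κ, vecCoord e P (∑ x ∈ s, vecCoord e P v x • ((P : Matrix ι ι F) *ᵥ (Pi.single x (1 : F) ∘ e))) =
        ∑ x ∈ s, vecCoord e P v x • Pi.single x (1 : F) := fun s => by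
      induction s using Finset.induction with
      | empty => funext y; simp [vecCoord]
      | insert a s ha ih =>
        rw [Finset.sum_insert ha, Finset.sum_insert ha, hadd, ih, hsmul]
        congr 2
        rw [vecCoord, gl_inv_mulVec_cancel]; funext y; simp
    rw [hsum]
    exact pi_eq_sum_univ' (vecCoord e P v)
  rw [hv]
  exact T.sum_mem fun x _ => T.smul_mem _ (hT x)

/-- The upper part of a symmetric matrix with respect to a ranking. -/
def upperPart {κ : Type} (r : κ → ℕ) (G : Matrix κ κ F) : Matrix κ κ F :=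
  Matrix.of fun x y => if r x < r y then G x y else 0

theorem upperPart_add {κ : Type} (r : κ → ℕ) {G : Matrix κ κ F} (hsymm : ∀ x y, G y x = G x y)
    (hr : ∀ x y, r x = r y → G x y = 0) (x y : κ) : G x y = upperPart r G x y + upperPart r G y x := by
  simp only [upperPart, Matrix.of_apply]
  rcases lt_trichotomy (r x) (r y) with h | h | h
  · rw [if_pos h, if_neg (by omega), add_zero]
  · rw [if_neg (by omega), if_neg (by omega), add_zero, hr x y h]
  · rw [if_neg (by omega), if_pos h, zero_add, hsymm]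

theorem alternating_dot (h2 : (2 : F) = 0) {κ : Type} [Fintype κ] {G : Matrix κ κ F} (hsymm : ∀ x y, G y x = G x y)
    (hdiag : ∀ x, G x x = 0) (u : κ → F) : u ⬝ᵥ (G *ᵥ u) = 0 := by
  classical
  simp only [dotProduct, Matrix.mulVec, Finset.mul_sum]
  rw [← Fintype.sum_prod_type']
  refine Finset.sum_ninvolution Prod.swap (fun x => ?_) (fun x hx e' => hx ?_) (fun x => Finset.mem_univ _) Prod.swap_swap
  · simp only [Prod.fst_swap, Prod.snd_swap, hsymm x.1 x.2]
    linear_combination (u x.1 * (G x.1 x.2 * u x.2)) * h2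
  · have : x.2 = x.1 := congrArg Prod.fst e'
    rw [this, hdiag, zero_mul, mul_zero]

/-- A group preserving a tensor product of two alternating forms fixes a form vanishing on pure tensors. -/
theorem TensorGram.quad_pure (h2 : (2 : F) = 0) {d k : ℕ} {e : ι ≃ Fin d × Fin k} {P : GL ι F}
    {G₁ : Matrix (Fin d) (Fin d) F} {G₂ : Matrix (Fin k) (Fin k) F} {ε l : F} (hfs : IsSymplecticForm f)
    (hT : TensorGram (RingEquiv.refl F) ε f e P G₁ G₂ l)
    (hs₁ : ∀ i j, G₁ j i = G₁ i j) (hd₁ : ∀ i, G₁ i i = 0) (hs₂ : ∀ i j, G₂ j i = G₂ i j) (hd₂ : ∀ i, G₂ i i = 0)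
    {H : Subgroup (GL ι F)} (hfix : FixesForm (matrixSet H) f)
    (hkr : ∀ g ∈ H, ∃ (a : GL (Fin d) F) (b : GL (Fin k) F),
      matCoord e P (g : Matrix ι ι F) = (a : Matrix (Fin d) (Fin d) F) ⊗ₖ (b : Matrix (Fin k) (Fin k) F)) :
    ∃ Q : (ι → F) → F, IsNondegenerateQuadraticForm Q ∧ (∀ u v, QuadraticMap.polar Q u v = f u v) ∧
      FixesQuadForm (matrixSet H) Q ∧
      ∀ s ∈ {s : Fin d × Fin k → F | ∃ (u : Fin d → F) (w : Fin k → F), ∀ x : Fin d × Fin k, s x = u x.1 * w x.2},
        Q ((P : Matrix ι ι F) *ᵥ (s ∘ e)) = 0 := by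
  classical
  let r : Fin d × Fin k → ℕ := fun x => (x.1 : ℕ)
  refine quad_of_pure hfs e P (upperPart r (G₁ ⊗ₖ G₂))
    (fun x y => by
      rw [hT.gram]
      exact upperPart_add r (fun a b => by simp [hs₁ a.1 b.1, hs₂ a.2 b.2])
        (fun a b h => by rw [Matrix.kronecker_apply, show a.1 = b.1 from Fin.ext h, hd₁, zero_mul]) x y)
    {s : Fin d × Fin k → F | ∃ (u : Fin d → F) (w : Fin k → F), ∀ x : Fin d × Fin k, s x = u x.1 * w x.2} (fun x => ?_) ?_ hfix ?_
  · refine ⟨Pi.single x.1 1, Pi.single x.2 1, fun y => ?_⟩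
    obtain ⟨a, b⟩ := x
    obtain ⟨a', b'⟩ := y
    simp only [Pi.single_apply, Prod.mk.injEq]
    split_ifs <;> simp_all
  · rintro s ⟨u, w, hs⟩
    have key : s ⬝ᵥ (upperPart r (G₁ ⊗ₖ G₂) *ᵥ s) =
        (∑ a : Fin d, ∑ a' : Fin d, u a * (if (a : ℕ) < (a' : ℕ) then G₁ a a' else 0) * u a') * (w ⬝ᵥ (G₂ *ᵥ w)) := by
      simp only [dotProduct, Matrix.mulVec, Fintype.sum_prod_type, hs, upperPart, Matrix.of_apply, r,
        Matrix.kroneckerMap_apply, Finset.mul_sum, Finset.sum_mul]
      conv_rhs => rw [Finset.sum_comm]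
      conv_rhs => arg 2; ext a; rw [Finset.sum_comm]
      conv_rhs => rw [Finset.sum_comm]
      refine Finset.sum_congr rfl fun a _ => Finset.sum_congr rfl fun b _ => ?_
      conv_rhs => rw [Finset.sum_comm]
      refine Finset.sum_congr rfl fun a' _ => Finset.sum_congr rfl fun b' _ => ?_
      rw [hs₂ b b']
      split_ifs <;> ring
    rw [key, alternating_dot h2 hs₂ hd₂, mul_zero]
  · intro g hg s
    rintro ⟨u, w, hs⟩
    obtain ⟨a, b, hab⟩ := hkr g hg
    refine ⟨(a : Matrix (Fin d) (Fin d) F) *ᵥ u, (b : Matrix (Fin k) (Fin k) F) *ᵥ w, fun x => ?_⟩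
    rw [hab]
    simp only [Matrix.mulVec, dotProduct, Fintype.sum_prod_type, Matrix.kroneckerMap_apply, hs]
    rw [Finset.sum_mul_sum]
    exact Finset.sum_congr rfl fun _ _ => Finset.sum_congr rfl fun _ _ => by ring

/-- A group preserving a tensor product of two alternating forms in characteristic two fixes a quadratic form. -/
theorem TensorGram.quad (h2 : (2 : F) = 0) {d k : ℕ} {e : ι ≃ Fin d × Fin k} {P : GL ι F}
    {G₁ : Matrix (Fin d) (Fin d) F} {G₂ : Matrix (Fin k) (Fin k) F} {ε l : F} (hfs : IsSymplecticForm f)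
    (hT : TensorGram (RingEquiv.refl F) ε f e P G₁ G₂ l)
    (hs₁ : ∀ i j, G₁ j i = G₁ i j) (hd₁ : ∀ i, G₁ i i = 0) (hs₂ : ∀ i j, G₂ j i = G₂ i j) (hd₂ : ∀ i, G₂ i i = 0)
    {H : Subgroup (GL ι F)} (hfix : FixesForm (matrixSet H) f)
    (hkr : ∀ g ∈ H, ∃ (a : GL (Fin d) F) (b : GL (Fin k) F),
      matCoord e P (g : Matrix ι ι F) = (a : Matrix (Fin d) (Fin d) F) ⊗ₖ (b : Matrix (Fin k) (Fin k) F)) :
    ∃ Q : (ι → F) → F, IsNondegenerateQuadraticForm Q ∧ (∀ u v, QuadraticMap.polar Q u v = f u v) ∧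
      FixesQuadForm (matrixSet H) Q :=
  let ⟨Q, h₁, h₂, h₃, _⟩ := TensorGram.quad_pure h2 hfs hT hs₁ hd₁ hs₂ hd₂ hfix hkr
  ⟨Q, h₁, h₂, h₃⟩

/-- A group preserving a power of an alternating form fixes a form vanishing on pure tensors. -/
theorem quad_of_power_pure (h2 : (2 : F) = 0) (hfs : IsSymplecticForm f) {m t : ℕ} (ht : 2 ≤ t)
    (e : ι ≃ (Fin t → Fin m)) (P : GL ι F) {c : F} {G₀ : Matrix (Fin m) (Fin m) F}
    (hG : gramCoord (RingEquiv.refl F) f e P = c • pureM fun _ => G₀)
    (hs : ∀ i j, G₀ j i = G₀ i j) (hd : ∀ i, G₀ i i = 0) {H : Subgroup (GL ι F)}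
    (hfix : FixesForm (matrixSet H) f) (hH : H ≤ tensorWreathSubgroup m t e P) :
    ∃ Q : (ι → F) → F, IsNondegenerateQuadraticForm Q ∧ (∀ u v, QuadraticMap.polar Q u v = f u v) ∧
      FixesQuadForm (matrixSet H) Q ∧
      ∀ s ∈ {s : (Fin t → Fin m) → F | ∃ u : Fin t → Fin m → F, ∀ x, s x = ∏ i, u i (x i)},
        Q ((P : Matrix ι ι F) *ᵥ (s ∘ e)) = 0 := by
  classical
  set i₀ : Fin t := ⟨0, by omega⟩
  let r : (Fin t → Fin m) → ℕ := fun x => (x i₀ : ℕ)
  set M := (c • pureM fun _ : Fin t => G₀) with hM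
  have hMs : ∀ x y, M y x = M x y := fun x y => by simp [hM, pureM, hs]
  refine quad_of_pure hfs e P (upperPart r M)
    (fun x y => by
      rw [hG]
      exact upperPart_add r hMs (fun a b h => by
        simp only [hM, Matrix.smul_apply, pureM, Matrix.of_apply, smul_eq_mul]
        rw [Finset.prod_eq_zero (Finset.mem_univ i₀) (by rw [show a i₀ = b i₀ from Fin.ext h, hd]), mul_zero]) x y)
    {s | ∃ u : Fin t → Fin m → F, ∀ x, s x = ∏ i, u i (x i)} (fun x => ?_) ?_ hfix ?_
  · refine ⟨fun i => Pi.single (x i) 1, fun y => ?_⟩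
    by_cases h : y = x
    · subst h; simp
    · obtain ⟨i, hi⟩ := Function.ne_iff.mp h
      rw [Pi.single_eq_of_ne h, Finset.prod_eq_zero (Finset.mem_univ i) (Pi.single_eq_of_ne hi 1)]
  · rintro s ⟨u, hu⟩
    let g : Fin t → Matrix (Fin m) (Fin m) F := fun i => Matrix.of fun a b =>
      u i a * u i b * (if i = i₀ then (if (a : ℕ) < b then G₀ a b else 0) else G₀ a b)
    have key : ∀ x y, s x * (upperPart r M x y * s y) = c * ∏ i, g i (x i) (y i) := fun x y => by
      simp only [upperPart, Matrix.of_apply, hM, Matrix.smul_apply, pureM, smul_eq_mul, hu, g, r]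
      rw [Finset.prod_mul_distrib, Finset.prod_mul_distrib]
      have e2 : (∏ i, if i = i₀ then (if (x i : ℕ) < y i then G₀ (x i) (y i) else 0) else G₀ (x i) (y i)) =
          if (x i₀ : ℕ) < y i₀ then ∏ i, G₀ (x i) (y i) else 0 := by
        split_ifs with h
        · exact Finset.prod_congr rfl fun i _ => by
            split_ifs with hi hi2
            · rfl
            · subst hi; exact absurd h hi2
            · rfl
        · exact Finset.prod_eq_zero (Finset.mem_univ i₀) (by rw [if_pos rfl, if_neg h])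
      rw [e2]
      split_ifs <;> ring
    simp only [dotProduct, Matrix.mulVec, Finset.mul_sum, key]
    rw [← Fintype.sum_prod_type']
    obtain ⟨j, hj⟩ : ∃ j : Fin t, j ≠ i₀ := by
      haveI : Nontrivial (Fin t) := Fin.nontrivial_iff_two_le.mpr ht
      exact exists_ne _
    rw [← Finset.mul_sum]
    refine mul_eq_zero_of_right c ?_
    let eq : ((Fin t → Fin m) × (Fin t → Fin m)) ≃ (Fin t → Fin m × Fin m) :=
      { toFun := fun p i => (p.1 i, p.2 i)
        invFun := fun q => (fun i => (q i).1, fun i => (q i).2)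
        left_inv := fun p => rfl
        right_inv := fun q => rfl }
    rw [← Equiv.sum_comp eq.symm]
    simp only [eq, Equiv.coe_fn_symm_mk]
    rw [← Fintype.prod_sum (fun i (p : Fin m × Fin m) => g i p.1 p.2)]
    refine Finset.prod_eq_zero (Finset.mem_univ j) ?_
    rw [Fintype.sum_prod_type]
    have := alternating_dot h2 hs hd (u j)
    simp only [dotProduct, Matrix.mulVec, Finset.mul_sum] at this
    simp only [g, Matrix.of_apply, if_neg hj]
    rw [← this]
    exact Finset.sum_congr rfl fun a _ => Finset.sum_congr rfl fun b _ => by ring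
  · intro g hg s
    rintro ⟨u, hu⟩
    obtain ⟨π, A, hA⟩ := wreath_normal_form ((mem_conj_reindex_iff e P).mp (hH hg))
    rw [coe_glReindex_conj] at hA
    refine ⟨fun i => (A (π.symm i) : Matrix (Fin m) (Fin m) F) *ᵥ u (π.symm i), fun x => ?_⟩
    rw [hA, ← Matrix.mulVec_mulVec]
    have h1 : ∀ y, ((pureM fun i => (A i : Matrix (Fin m) (Fin m) F)) *ᵥ s) y =
        ∏ i, ((A i : Matrix (Fin m) (Fin m) F) *ᵥ u i) (y i) := fun y => by
      simp only [Matrix.mulVec, dotProduct, pureM, Matrix.of_apply, hu, ← Finset.prod_mul_distrib]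
      exact (Fintype.prod_sum fun i b => (A i : Matrix (Fin m) (Fin m) F) (y i) b * u i b).symm
    have h2' : ∀ w : (Fin t → Fin m) → F, (factorPermM m F π *ᵥ w) x = w (x ∘ π) := fun w => by
      simp [Matrix.mulVec, dotProduct, factorPermM]
    rw [h2', h1, ← Equiv.prod_comp π.symm]
    simp

/-- A group preserving a power of an alternating form in characteristic two fixes a quadratic form. -/
theorem quad_of_power (h2 : (2 : F) = 0) (hfs : IsSymplecticForm f) {m t : ℕ} (ht : 2 ≤ t)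
    (e : ι ≃ (Fin t → Fin m)) (P : GL ι F) {c : F} {G₀ : Matrix (Fin m) (Fin m) F}
    (hG : gramCoord (RingEquiv.refl F) f e P = c • pureM fun _ => G₀)
    (hs : ∀ i j, G₀ j i = G₀ i j) (hd : ∀ i, G₀ i i = 0) {H : Subgroup (GL ι F)}
    (hfix : FixesForm (matrixSet H) f) (hH : H ≤ tensorWreathSubgroup m t e P) :
    ∃ Q : (ι → F) → F, IsNondegenerateQuadraticForm Q ∧ (∀ u v, QuadraticMap.polar Q u v = f u v) ∧
      FixesQuadForm (matrixSet H) Q :=
  let ⟨Q, h₁, h₂, h₃, _⟩ := quad_of_power_pure h2 hfs ht e P hG hs hd hfix hH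
  ⟨Q, h₁, h₂, h₃⟩

/-- A two-dimensional symmetric factor gives a commutative adjoint-closed algebra. -/
theorem TensorGram.plane_algebra (h2 : (2 : F) ≠ 0) {d : ℕ} (hd : 0 < d) {e : ι ≃ Fin d × Fin 2} {P : GL ι F}
    {G₁ : Matrix (Fin d) (Fin d) F} {G₂ : Matrix (Fin 2) (Fin 2) F} {ε l : F}
    (hT : TensorGram (RingEquiv.refl F) ε f e P G₁ G₂ l) (hf : IsReflexForm (RingEquiv.refl F) ε f)
    (hsymm : ∀ i j, G₂ j i = G₂ i j)
    {H : Subgroup (GL ι F)} (hfix : FixesForm (matrixSet H) f)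
    (hkr : ∀ g ∈ H, ∃ (a : GL (Fin d) F) (b : GL (Fin 2) F),
      matCoord e P (g : Matrix ι ι F) = (a : Matrix (Fin d) (Fin d) F) ⊗ₖ (b : Matrix (Fin 2) (Fin 2) F)) :
    ∃ Z : Subalgebra F (Matrix ι ι F), (∀ x ∈ Z, ∀ y ∈ Z, x * y = y * x) ∧ H ≤ subalgebraNormalizer Z ∧
      (∀ z ∈ Z, formAdj (RingEquiv.refl F) f z ∈ Z) ∧ ∃ z ∈ Z, ∀ c : F, z ≠ c • (1 : Matrix ι ι F) := by
  classical
  haveI : Nonempty (Fin d) := ⟨⟨0, hd⟩⟩
  haveI : Nonempty ι := ⟨e.symm (Classical.arbitrary _)⟩
  set J := planeJ F with hJ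
  have hGu : IsUnit G₂.det := isUnit_iff_ne_zero.mpr hT.det_right
  set y := G₂⁻¹ * J with hy
  have hGy : G₂ * y = J := Matrix.mul_nonsing_inv_cancel_left _ _ hGu
  have hGt : G₂ᵀ = G₂ := Matrix.ext fun i j => hsymm i j
  have hJt : Jᵀ = -J := Matrix.ext fun i j => by rw [Matrix.transpose_apply, Matrix.neg_apply, hJ, planeJ_apply_swap]
  set Y := matLift e P ((1 : Matrix (Fin d) (Fin d) F) ⊗ₖ y) with hY
  have hYadj : formAdj (RingEquiv.refl F) f Y = -Y := by
    have h := hf.gramCoord_adj e P Y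
    rw [hY, matCoord_matLift, kronecker_transpose, Matrix.transpose_one, hT.gram, ← Matrix.mul_kronecker_mul,
      Matrix.one_mul] at h
    have hy2 : yᵀ * G₂ = G₂ * (-y) := by
      rw [Matrix.mul_neg, hGy, hy, Matrix.transpose_mul, Matrix.transpose_nonsing_inv, hGt, hJt, Matrix.neg_mul,
        Matrix.neg_mul, Matrix.mul_assoc, Matrix.nonsing_inv_mul _ hGu, Matrix.mul_one]
    rw [hy2, ← Matrix.mul_one G₁, Matrix.mul_kronecker_mul, Matrix.mul_one] at h
    refine matCoord_injective e P ?_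
    have hu : IsUnit (G₁ ⊗ₖ G₂) := by rw [← hT.gram]; exact hf.gramCoord_isUnit e P
    have h' := hu.mul_left_cancel h
    rw [show matCoord e P (-Y) = -matCoord e P Y by rw [← neg_one_smul F Y, matCoord_smul, neg_one_smul], hY,
      matCoord_matLift, ← neg_one_smul F, ← Matrix.kronecker_smul, neg_one_smul, h']
    ext i j
    rfl
  have hmove : ∀ g ∈ H, ∃ c : F, (g : Matrix ι ι F) * Y * ((g⁻¹ : GL ι F) : Matrix ι ι F) = c • Y := by
    intro g hg
    obtain ⟨a, b, hab⟩ := hkr g hg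
    obtain ⟨c, hc0, -, hcb⟩ := hT.similitude hf (hfix _ (coe_mem_matrixSet hg)) hab
    change (b : Matrix (Fin 2) (Fin 2) F)ᵀ * G₂ * (b : Matrix (Fin 2) (Fin 2) F) = c⁻¹ • G₂ at hcb
    set μ := (b : Matrix (Fin 2) (Fin 2) F).det * c with hμ
    have hμ0 : μ ≠ 0 := mul_ne_zero ((Matrix.isUnit_iff_isUnit_det _).mp b.isUnit).ne_zero hc0
    have hyb : y * (b : Matrix (Fin 2) (Fin 2) F) = μ • ((b : Matrix (Fin 2) (Fin 2) F) * y) := by
      have hu : IsUnit ((b : Matrix (Fin 2) (Fin 2) F)ᵀ * G₂) := (Matrix.isUnit_iff_isUnit_det _).mpr (by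
        rw [Matrix.det_mul, Matrix.det_transpose]
        exact ((Matrix.isUnit_iff_isUnit_det _).mp b.isUnit).mul hGu)
      refine hu.mul_left_cancel ?_
      rw [Matrix.mul_smul, ← Matrix.mul_assoc _ (b : Matrix (Fin 2) (Fin 2) F), hcb, Matrix.smul_mul, hGy,
        Matrix.mul_assoc, ← Matrix.mul_assoc G₂, hGy, ← Matrix.mul_assoc, hJ, planeJ_congr, smul_smul, hμ,
        mul_assoc, mul_inv_cancel₀ hc0, mul_one]
    refine ⟨μ⁻¹, matCoord_injective e P ?_⟩
    have h1 : matCoord e P ((g : Matrix ι ι F) * Y) = μ⁻¹ • matCoord e P (Y * (g : Matrix ι ι F)) := by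
      rw [matCoord_mul, matCoord_mul, hY, matCoord_matLift, hab, ← Matrix.mul_kronecker_mul, ← Matrix.mul_kronecker_mul,
        Matrix.one_mul, Matrix.mul_one, hyb, ← Matrix.kronecker_smul, smul_smul, inv_mul_cancel₀ hμ0, one_smul]
    rw [matCoord_mul, h1, Matrix.smul_mul, ← matCoord_mul, Matrix.mul_assoc, Units.mul_inv, Matrix.mul_one, matCoord_smul]
  set Z := Algebra.adjoin F ({Y} : Set (Matrix ι ι F)) with hZ
  have hYZ : Y ∈ Z := Algebra.subset_adjoin rfl
  have hconj : ∀ g ∈ H, ∀ z ∈ Z, (g : Matrix ι ι F) * z * ((g⁻¹ : GL ι F) : Matrix ι ι F) ∈ Z := by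
    intro g hg z hz
    induction hz using Algebra.adjoin_induction with
    | mem x hx =>
      obtain ⟨c, hc⟩ := hmove g hg
      rw [Set.mem_singleton_iff.mp hx, hc]
      exact Z.smul_mem hYZ c
    | algebraMap r =>
      rw [Algebra.algebraMap_eq_smul_one, Matrix.mul_smul, Matrix.smul_mul, Matrix.mul_one, Units.mul_inv]
      exact Z.smul_mem Z.one_mem r
    | add a b _ _ ha hb => rw [Matrix.mul_add, Matrix.add_mul]; exact add_mem ha hb
    | mul a b _ _ ha hb =>
      have := mul_mem ha hb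
      rwa [show (g : Matrix ι ι F) * a * ((g⁻¹ : GL ι F) : Matrix ι ι F) * ((g : Matrix ι ι F) * b * ((g⁻¹ : GL ι F) : Matrix ι ι F)) =
        (g : Matrix ι ι F) * a * (((g⁻¹ : GL ι F) : Matrix ι ι F) * (g : Matrix ι ι F)) * b * ((g⁻¹ : GL ι F) : Matrix ι ι F) by
          simp only [Matrix.mul_assoc], Units.inv_mul, Matrix.mul_one, Matrix.mul_assoc _ a b] at this
  have hcomm : ∀ x ∈ Z, ∀ y' ∈ Z, x * y' = y' * x := by
    have h1 : Z ≤ Subalgebra.centralizer F ({Y} : Set (Matrix ι ι F)) := Algebra.adjoin_le fun x hx => by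
      rw [Set.mem_singleton_iff.mp hx, SetLike.mem_coe, Subalgebra.mem_centralizer_iff]
      rintro _ rfl; rfl
    intro x hx y' hy'
    have h2 : Z ≤ Subalgebra.centralizer F ({x} : Set (Matrix ι ι F)) := Algebra.adjoin_le fun w hw => by
      rw [Set.mem_singleton_iff.mp hw, SetLike.mem_coe, Subalgebra.mem_centralizer_iff]
      rintro _ rfl
      exact (Subalgebra.mem_centralizer_iff F |>.mp (h1 hx) Y rfl).symm
    exact Subalgebra.mem_centralizer_iff F |>.mp (h2 hy') x rfl
  refine ⟨Z, hcomm, fun g hg z => ⟨hconj g hg z, fun h => ?_⟩, fun z hz => ?_, Y, hYZ, fun c hc => ?_⟩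
  · have := hconj g⁻¹ (inv_mem hg) _ h
    simpa [← Matrix.mul_assoc, Matrix.mul_assoc _ _ (g : Matrix ι ι F)] using this
  · induction hz using Algebra.adjoin_induction with
    | mem x hx => rw [Set.mem_singleton_iff.mp hx, hYadj]; exact Z.neg_mem hYZ
    | algebraMap r =>
      rw [Algebra.algebraMap_eq_smul_one, hf.adj_scalar]
      exact Z.smul_mem Z.one_mem _
    | add a b _ _ ha hb => rw [hf.adj_add]; exact add_mem ha hb
    | mul a b _ _ ha hb => rw [hf.adj_mul]; exact mul_mem hb ha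
  · have h := congrArg (matCoord e P) hc
    rw [hY, matCoord_matLift, matCoord_smul, matCoord_one] at h
    let i : Fin d := ⟨0, hd⟩
    have h01 : y 0 1 = 0 := by simpa using congrFun (congrFun h (i, 0)) (i, 1)
    have h10 : y 1 0 = 0 := by simpa using congrFun (congrFun h (i, 1)) (i, 0)
    have h00 : y 0 0 = c := by simpa using congrFun (congrFun h (i, 0)) (i, 0)
    have h11 : y 1 1 = c := by simpa using congrFun (congrFun h (i, 1)) (i, 1)
    have hyc : y = c • (1 : Matrix (Fin 2) (Fin 2) F) := by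
      ext a b; fin_cases a <;> fin_cases b <;> simp [h00, h01, h10, h11]
    rw [hyc, Matrix.mul_smul, Matrix.mul_one, hJ] at hGy
    have e1 : c * G₂ 0 1 = 1 := by simpa [planeJ] using congrFun (congrFun hGy 0) 1
    have e2 : c * G₂ 1 0 = -1 := by simpa [planeJ] using congrFun (congrFun hGy 1) 0
    rw [hsymm 0 1] at e2
    exact h2 (by linear_combination e2 - e1)

end Cfsg.Agent.Classical
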