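/-
Two forms fixed by one absolutely irreducible group.
-/
import Cfsg.Agent.Lib.Classical.GaloisDescent
import Cfsg.Agent.Lib.Classical.FormTensorQuad

set_option autoImplicit false
set_option linter.style.haveILetI false
set_option linter.unusedSectionVars false

namespace Cfsg.Agent.Classical

open Matrix Cfsg.Geo

variable {ι : Type} [Fintype ι] [DecidableEq ι] {F : Type*} [Field F]

/-- A bilinear and a hermitian form fixed by an absolutely irreducible group make it realisable over a subfield. -/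
theorem realisable_of_two_forms [Fintype F] [Nonempty ι] {P : Subgroup (GL ι F)}
    (hP : ActsAbsolutelyIrreducibly (matrixSet P)) {b : (ι → F) → (ι → F) → F} (hb : IsBilinearForm b)
    (hbn : IsNondegenerateForm b) (hbfix : FixesForm (matrixSet P) b) {σ : F ≃+* F} {f : (ι → F) → (ι → F) → F}
    (hf : IsUnitaryForm σ f) (hfix : FixesForm (matrixSet P) f) :
    ∃ F₀ : Subfield F, F₀ ≠ ⊤ ∧ RealisableOver F₀ (matrixSet P) := by
  classical
  set S := gramMatrix b
  set A := gramMatrix f
  let Su : GL ι F := Matrix.GeneralLinearGroup.mkOfDetNeZero S (det_gram_ne_zero _ (semiForm_of_bilinear hb) hbn)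
  let Au : GL ι F := Matrix.GeneralLinearGroup.mkOfDetNeZero A (det_gram_ne_zero σ (semiForm_of_unitary hf) hf.nondegenerate)
  refine realisable_of_intertwiner hf.involutive hf.ne_refl hP (C := Su⁻¹ * Au) (fun x hx => ?_)
  set X := (x : Matrix ι ι F)
  set C := ((Su⁻¹ * Au : GL ι F) : Matrix ι ι F) with hCdef
  have hSC : S * C = A := by
    rw [hCdef, show S = (Su : Matrix ι ι F) from rfl, ← Units.val_mul, mul_inv_cancel_left]
    rfl
  have h1 : Xᵀ * A * X.map σ = A := by
    have e : gramMatrix (fun u v => f (X *ᵥ u) (X *ᵥ v)) = A :=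
      congrArg gramMatrix (funext fun u => funext fun v => hfix _ (coe_mem_matrixSet hx) u v)
    rwa [gram_comp σ (semiForm_of_unitary hf)] at e
  have h2 : Xᵀ * S * X = S := by
    have e : gramMatrix (fun u v => b (X *ᵥ u) (X *ᵥ v)) = S :=
      congrArg gramMatrix (funext fun u => funext fun v => hbfix _ (coe_mem_matrixSet hx) u v)
    rw [gram_comp (RingEquiv.refl F) (semiForm_of_bilinear hb)] at e
    exact e
  have hXu : IsUnit Xᵀ := (Matrix.isUnit_iff_isUnit_det _).mpr (by
    rw [Matrix.det_transpose]; exact (Matrix.isUnit_iff_isUnit_det _).mp x.isUnit)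
  refine (Su.isUnit : IsUnit S).mul_left_cancel (hXu.mul_left_cancel ?_)
  calc Xᵀ * (S * (C * X.map σ)) = Xᵀ * (S * C) * X.map σ := by simp only [Matrix.mul_assoc]
    _ = S * C := by rw [hSC, h1]
    _ = Xᵀ * S * X * C := by rw [h2]
    _ = Xᵀ * (S * (X * C)) := by simp only [Matrix.mul_assoc]

/-- Two bilinear forms fixed by an absolutely irreducible group are proportional. -/
theorem bilinear_proportional [Nonempty ι] {P : Subgroup (GL ι F)}
    (hP : ActsAbsolutelyIrreducibly (matrixSet P)) {b b' : (ι → F) → (ι → F) → F} (hb : IsBilinearForm b)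
    (hbn : IsNondegenerateForm b) (hbfix : FixesForm (matrixSet P) b) (hb' : IsBilinearForm b')
    (hbn' : IsNondegenerateForm b') (hbfix' : FixesForm (matrixSet P) b') :
    ∃ c : F, c ≠ 0 ∧ ∀ u v, b' u v = c * b u v := by
  have hs := semiForm_of_bilinear hb
  have hs' := semiForm_of_bilinear hb'
  set S := gramMatrix b
  set S' := gramMatrix b'
  have hSu : IsUnit S := (Matrix.isUnit_iff_isUnit_det S).mpr (isUnit_iff_ne_zero.mpr (det_gram_ne_zero _ hs hbn))
  have hfix : ∀ {d : (ι → F) → (ι → F) → F}, IsBilinearForm d → FixesForm (matrixSet P) d → ∀ x ∈ P,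
      (x : Matrix ι ι F)ᵀ * gramMatrix d * (x : Matrix ι ι F) = gramMatrix d := fun {d} hd hdf x hx => by
    have e : gramMatrix (fun u v => d ((x : Matrix ι ι F) *ᵥ u) ((x : Matrix ι ι F) *ᵥ v)) = gramMatrix d :=
      congrArg gramMatrix (funext fun u => funext fun v => hdf _ (coe_mem_matrixSet hx) u v)
    rw [gram_comp (RingEquiv.refl F) (semiForm_of_bilinear hd)] at e
    exact e
  set u := hSu.unit
  set C := ((u⁻¹ : (Matrix ι ι F)ˣ) : Matrix ι ι F) * S' with hC
  have hSC : S * C = S' := by rw [hC, ← Matrix.mul_assoc, IsUnit.mul_val_inv, Matrix.one_mul]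
  obtain ⟨c, hc⟩ := hP.2 C (by
    rintro _ ⟨x, hx, rfl⟩
    have hxu : IsUnit (x : Matrix ι ι F)ᵀ := (Matrix.isUnit_iff_isUnit_det _).mpr (by
      rw [Matrix.det_transpose]; exact (Matrix.isUnit_iff_isUnit_det _).mp x.isUnit)
    refine hSu.mul_left_cancel (hxu.mul_left_cancel ?_)
    calc (x : Matrix ι ι F)ᵀ * (S * (C * (x : Matrix ι ι F))) = (x : Matrix ι ι F)ᵀ * (S * C) * (x : Matrix ι ι F) := by
          simp only [Matrix.mul_assoc]
      _ = S * C := by rw [hSC]; exact hfix hb' hbfix' x hx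
      _ = (x : Matrix ι ι F)ᵀ * S * (x : Matrix ι ι F) * C := by rw [hfix hb hbfix x hx]
      _ = _ := by simp only [Matrix.mul_assoc])
  have hS' : S' = c • S := by rw [← hSC, hc, Matrix.mul_smul, Matrix.mul_one]
  refine ⟨c, fun e => ?_, fun w v => ?_⟩
  · exact det_gram_ne_zero _ hs' hbn' (by
      change S'.det = 0
      rw [hS', e, zero_smul, Matrix.det_zero])
  · rw [semiForm_apply (RingEquiv.refl F) hs', semiForm_apply (RingEquiv.refl F) hs]
    change _ ⬝ᵥ (S' *ᵥ _) = _
    rw [hS', Matrix.smul_mulVec, dotProduct_smul, smul_eq_mul]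

/-- In characteristic two the normaliser among the isometries preserves the quadratic form of an irreducible group. -/
theorem quad_fixed_of_normalises [Fintype F] (h2 : (2 : F) = 0) (hn : 2 ≤ Fintype.card ι) {f : (ι → F) → (ι → F) → F}
    {Q : (ι → F) → F} (hQs : ∀ (a : F) v, Q (a • v) = a ^ 2 * Q v) (hpol : ∀ u v, QuadraticMap.polar Q u v = f u v)
    {H P : Subgroup (GL ι F)} (hPn : NormalIn H P) (hP : ActsIrreducibly (matrixSet P))
    (hfixH : FixesForm (matrixSet H) f) (hfixP : FixesQuadForm (matrixSet P) Q) :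
    FixesQuadForm (matrixSet H) Q := by
  classical
  obtain ⟨p, hchar⟩ := CharP.exists F
  obtain ⟨⟨a, ha⟩, hp, -⟩ := FiniteField.card F p
  haveI : CharP F 2 := by
    have : p = 2 := (Nat.prime_dvd_prime_iff_eq hp Nat.prime_two).mp
      ((CharP.cast_eq_zero_iff F p 2).mp (by exact_mod_cast h2))
    exact this ▸ hchar
  haveI : ExpChar F 2 := ExpChar.prime Nat.prime_two
  rintro _ ⟨g, hg, rfl⟩
  set D : (ι → F) → F := fun v => Q ((g : Matrix ι ι F) *ᵥ v) - Q v with hD
  have hQadd : ∀ u w, Q (u + w) = Q u + Q w + f u w := fun u w => by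
    rw [← hpol]; simp only [QuadraticMap.polar]; ring
  have hadd : ∀ u w, D (u + w) = D u + D w := fun u w => by
    simp only [hD, Matrix.mulVec_add, hQadd, hfixH _ (coe_mem_matrixSet hg)]; ring
  have hsmul : ∀ (c : F) u, D (c • u) = c ^ 2 * D u := fun c u => by
    simp only [hD, Matrix.mulVec_smul, hQs]; ring
  choose r hr using fun i => (surjective_frobenius F 2 : Function.Surjective (frobenius F 2)) (D (Pi.single i 1))
  let φ : (ι → F) →ₗ[F] F := ∑ i, r i • LinearMap.proj i
  have hφ : ∀ v, D v = φ v ^ 2 := fun v => by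
    have e1 : φ v = ∑ i, r i * v i := by
      simp [φ, LinearMap.sum_apply]
    let Dh : (ι → F) →+ F := AddMonoidHom.mk' D hadd
    rw [e1, show (∑ i, r i * v i) ^ 2 = ∑ i, (r i * v i) ^ 2 from map_sum (frobenius F 2) _ _]
    conv_lhs => rw [pi_eq_sum_univ' v, show D (∑ i, v i • Pi.single i 1) = Dh (∑ i, v i • Pi.single i 1) from rfl, map_sum]
    refine Finset.sum_congr rfl fun i _ => ?_
    change D (v i • Pi.single i 1) = _
    rw [hsmul, ← hr i]
    simp only [frobenius_def]; ring
  rcases hP (LinearMap.ker φ) (by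
    rintro _ ⟨x, hx, rfl⟩
    refine map_toLin'_le.mpr fun v hv => ?_
    rw [LinearMap.mem_ker] at hv ⊢
    have h0 : D v = 0 := by rw [hφ, hv, zero_pow two_ne_zero]
    have h1 : D ((x : Matrix ι ι F) *ᵥ v) = D v := by
      have e : (g : Matrix ι ι F) *ᵥ ((x : Matrix ι ι F) *ᵥ v) =
          ((g * x * g⁻¹ : GL ι F) : Matrix ι ι F) *ᵥ ((g : Matrix ι ι F) *ᵥ v) := by
        rw [← gl_mul_mulVec, ← gl_mul_mulVec, inv_mul_cancel_right]
      simp only [hD]
      rw [e, hfixP _ (coe_mem_matrixSet (hPn g hg x hx)), hfixP _ (coe_mem_matrixSet hx)]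
    rw [h0, hφ] at h1
    exact (pow_eq_zero_iff two_ne_zero).mp h1) with h | h
  · exfalso
    have h1 := φ.finrank_range_add_finrank_ker
    have h3 := Submodule.finrank_le (LinearMap.range φ)
    rw [h, finrank_bot, Module.finrank_fintype_fun_eq_card] at h1
    rw [Module.finrank_self] at h3
    omega
  · intro v
    have hv : φ v = 0 := LinearMap.mem_ker.mp (h ▸ Submodule.mem_top)
    have := hφ v
    rw [hv, zero_pow two_ne_zero] at this
    exact sub_eq_zero.mp this

end Cfsg.Agent.Classical
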