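/-
The special unitary group (dimension at least five) lies in no decomposition stabiliser, subfield group or
normaliser of a small group of symplectic type.
-/
import Cfsg.Agent.Lib.Classical.UnitaryGroup
import Cfsg.Agent.Lib.Classical.SymplecticPrime

set_option autoImplicit false
set_option linter.style.haveILetI false

namespace Cfsg.Agent.Classical

open Matrix Cfsg.Geo
open scoped commutatorElement

variable {n : ℕ} {F : Type*} [Field F] [Fintype F] {q : ℕ} {σ : F ≃+* F} (hσ : IsUSigma q σ)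

include hσ

theorem IsUSigma.not_su_le_decomposition (h5 : 5 ≤ n) {D : Fin (Fintype.card (Fin n)) → Submodule F (Fin n → F)}
    (hD : IsMDecomposition 1 D) : ¬ suGL n F q ≤ decompositionStabilizer D := by
  classical
  intro hle
  obtain ⟨B, -, -, hB⟩ := exists_monomial_coords hD
  obtain ⟨c, hc0, hc⟩ := hσ.exists_skew
  set C := fun u => (B : Matrix (Fin n) (Fin n) F) *ᵥ u with hC
  have hCinj : Function.Injective C := gl_mulVec_injective B
  have hC0 : ∀ v, v ≠ 0 → ∃ i, C v i ≠ 0 := fun v hv =>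
    Function.ne_iff.mp fun e => hv (hCinj (e.trans (Matrix.mulVec_zero _).symm))
  -- isotropic vectors have support of size at most two
  have hsupp : ∀ v, hermForm n F q v v = 0 → ∀ i j k, i ≠ j → i ≠ k → j ≠ k → C v i = 0 ∨ C v j = 0 ∨ C v k = 0 := by
    intro v hv i j k hij hik hjk
    by_contra hcon
    push Not at hcon
    obtain ⟨g, hg, hgm⟩ := hσ.exists_transvection hv hc
    obtain ⟨π, a, ha, hπ⟩ := hB g (hle hg)
    have hv0 : v ≠ 0 := fun e => hcon.1 (by simp [hC, e])
    obtain ⟨u, hu⟩ := (hσ.isUnitaryForm.nondegenerate v hv0).1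
    -- some coordinate vector is not orthogonal to v
    obtain ⟨l, hl⟩ : ∃ l, hermForm n F q (((B⁻¹ : GL (Fin n) F) : Matrix (Fin n) (Fin n) F) *ᵥ Pi.single l 1) v ≠ 0 := by
      by_contra hall
      push Not at hall
      apply hu
      have hfv := hσ.isUnitaryForm (n := n)
      let L : (Fin n → F) →ₗ[F] F :=
        { toFun := fun x => hermForm n F q x v
          map_add' := fun x y => hfv.add_left x y v
          map_smul' := fun s x => hfv.smul_left s x v }
      have e : u = ((B⁻¹ : GL (Fin n) F) : Matrix (Fin n) (Fin n) F) *ᵥ C u := (gl_inv_mulVec_cancel B u).symm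
      change L u = 0
      rw [e, pi_eq_sum_univ' (C u), Matrix.mulVec_sum, map_sum]
      exact Finset.sum_eq_zero fun m _ => by
        rw [Matrix.mulVec_smul, map_smul, show L _ = 0 from hall m, smul_zero]
    set x := ((B⁻¹ : GL (Fin n) F) : Matrix (Fin n) (Fin n) F) *ᵥ Pi.single l 1 with hx
    have hCx : C x = Pi.single l 1 := gl_mulVec_inv_cancel B _
    have hCgx : ∀ m, C ((g : Matrix (Fin n) (Fin n) F) *ᵥ x) m = (Pi.single l 1 : Fin n → F) m + (c * hermForm n F q x v) * C v m := by
      intro m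
      simp only [hC, hgm, Matrix.mulVec_add, Matrix.mulVec_smul, Pi.add_apply, Pi.smul_apply, smul_eq_mul]
      rw [show (B : Matrix (Fin n) (Fin n) F) *ᵥ x = Pi.single l 1 from hCx]
    have hzero : ∀ m, m ≠ π l → C ((g : Matrix (Fin n) (Fin n) F) *ᵥ x) m = 0 := fun m hm => by
      have := hπ x (π.symm m)
      rw [Equiv.apply_symm_apply, show ((B : Matrix (Fin n) (Fin n) F) *ᵥ x) (π.symm m) = 0 by
        rw [show (B : Matrix (Fin n) (Fin n) F) *ᵥ x = Pi.single l 1 from hCx,
          Pi.single_eq_of_ne (fun e => hm (by rw [← e, Equiv.apply_symm_apply]))], mul_zero] at this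
      exact this
    have hbad : ∀ m, C v m ≠ 0 → m = l ∨ m = π l := fun m hm => by
      by_contra hne
      push Not at hne
      have := hCgx m
      rw [hzero m hne.2, Pi.single_eq_of_ne hne.1, zero_add] at this
      exact mul_ne_zero (mul_ne_zero hc0 hl) hm this.symm
    rcases hbad i hcon.1 with h1 | h1 <;> rcases hbad j hcon.2.1 with h2 | h2 <;>
      rcases hbad k hcon.2.2 with h3 | h3 <;>
      first | exact hij (h1.trans h2.symm) | exact hik (h1.trans h3.symm) | exact hjk (h2.trans h3.symm)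
  -- two dimensional totally singular planes spanned by disjoint pairs
  obtain ⟨a₁, a₂, a₃, ha10, h12, h13, h23, n1, n2, n3⟩ := hσ.three_values
  let e1 : Fin n := ⟨0, by omega⟩
  let e2 : Fin n := ⟨1, by omega⟩
  let e3 : Fin n := ⟨2, by omega⟩
  let e4 : Fin n := ⟨3, by omega⟩
  let iso : Fin n → Fin n → F → (Fin n → F) := fun i j a => Pi.single i 1 + Pi.single j a
  have hiso0 : ∀ i j a, i ≠ j → iso i j a ≠ 0 := fun i j a hij e => by
    simpa [iso, hij] using congrFun e i
  have horth : ∀ a b, hermForm n F q (iso e1 e2 a) (iso e3 e4 b) = 0 ∧ hermForm n F q (iso e3 e4 b) (iso e1 e2 a) = 0 := by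
    intro a b
    constructor <;>
      simp [iso, hσ.isUnitaryForm.add_left, hσ.hermForm_single, Pi.single_apply, e1, e2, e3, e4, Fin.ext_iff]
  have hplane : ∀ a b, a * σ a = -1 → b * σ b = -1 → ∀ s : F,
      hermForm n F q (iso e1 e2 a + s • iso e3 e4 b) (iso e1 e2 a + s • iso e3 e4 b) = 0 := by
    intro a b ha hb s
    have hf := semiForm_of_unitary (hσ.isUnitaryForm (n := n))
    simp only [hf.add_left, hf.add_right, hf.smul_left, hf.smul_right, (horth a b).1, (horth a b).2,
      show hermForm n F q (iso e1 e2 a) (iso e1 e2 a) = 0 from hσ.isotropic_pair (by simp [e1, e2]) ha,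
      show hermForm n F q (iso e3 e4 b) (iso e3 e4 b) = 0 from hσ.isotropic_pair (by simp [e3, e4]) hb]
    ring
  -- u is a coordinate axis
  have haxis : ∀ a, a * σ a = -1 → ∃ p, ∀ m, m ≠ p → C (iso e1 e2 a) m = 0 := by
    intro a ha
    obtain ⟨p, hp⟩ := hC0 _ (hiso0 e1 e2 a (by simp [e1, e2]))
    refine ⟨p, fun m hm => ?_⟩
    by_contra hmne
    have hw : ∀ b, b * σ b = -1 → ∀ k, k ≠ p → k ≠ m → C (iso e3 e4 b) k = 0 := by
      intro b hb k hkp hkm
      by_contra hk
      set u := C (iso e1 e2 a)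
      set w := C (iso e3 e4 b)
      have hu : u k = 0 := by
        rcases hsupp _ (hσ.isotropic_pair (i := e1) (j := e2) (by simp [e1, e2]) ha) p m k hm.symm hkp.symm hkm.symm with h | h | h
        · exact absurd h hp
        · exact absurd h hmne
        · exact h
      obtain ⟨s, hs0, hsp, hsm⟩ : ∃ s : F, s ≠ 0 ∧ u p + s * w p ≠ 0 ∧ u m + s * w m ≠ 0 := by
        by_contra hnone
        push Not at hnone
        have hsub : (Finset.univ : Finset F) ⊆ {0, -u p / w p, -u m / w m} := by
          intro s _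
          simp only [Finset.mem_insert, Finset.mem_singleton]
          by_cases hs : s = 0
          · exact Or.inl hs
          by_cases h1 : u p + s * w p = 0
          · have hwp : w p ≠ 0 := fun e => hp (by simpa [e] using h1)
            right; left; field_simp; linear_combination h1
          · have h2 := hnone s hs h1
            have hwm : w m ≠ 0 := fun e => hmne (by simpa [e] using h2)
            right; right; field_simp; linear_combination h2
        have := (Finset.card_le_card hsub).trans Finset.card_le_three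
        rw [Finset.card_univ, hσ.card] at this
        have := hσ.two_le
        nlinarith
      have hval : ∀ t, C (iso e1 e2 a + s • iso e3 e4 b) t = u t + s * w t := fun t => by
        simp [hC, u, w, Matrix.mulVec_add, Matrix.mulVec_smul]
      rcases hsupp _ (hplane a b ha hb s) p m k hm.symm hkp.symm hkm.symm with h | h | h <;> rw [hval] at h
      · exact hsp h
      · exact hsm h
      · rw [hu, zero_add] at h; exact mul_ne_zero hs0 hk h
    -- three vectors supported in two coordinates are dependent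
    let U : Submodule F (Fin n → F) := Submodule.span F {Pi.single p (1 : F), Pi.single m (1 : F)}
    have hmemU : ∀ z : Fin n → F, (∀ k, k ≠ p → k ≠ m → z k = 0) → z ∈ U := fun z hz => by
      refine Submodule.mem_span_pair.mpr ⟨z p, z m, ?_⟩
      ext k
      rcases eq_or_ne k p with rfl | hkp
      · simp [hm.symm]
      rcases eq_or_ne k m with rfl | hkm
      · simp [hm]
      simp [hkp, hkm, hz k hkp hkm]
    have hmu : C (iso e1 e2 a) ∈ U := hmemU _ fun k hkp hkm => by
      rcases hsupp _ (hσ.isotropic_pair (i := e1) (j := e2) (by simp [e1, e2]) ha) p m k hm.symm hkp.symm hkm.symm with h | h | h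
      · exact absurd h hp
      · exact absurd h hmne
      · exact h
    have hli : LinearIndependent F ![C (iso e1 e2 a), C (iso e3 e4 a₁), C (iso e3 e4 a₂)] := by
      rw [Fintype.linearIndependent_iff]
      intro g hg
      have h0 : g 0 • iso e1 e2 a + g 1 • iso e3 e4 a₁ + g 2 • iso e3 e4 a₂ = 0 := hCinj (by
        simpa [hC, Fin.sum_univ_three, Matrix.mulVec_add, Matrix.mulVec_smul] using hg)
      have c1 := congrFun h0 e1
      have c3 := congrFun h0 e3
      have c4 := congrFun h0 e4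
      simp [iso, e1, e2, e3, e4, Pi.single_apply, Fin.ext_iff] at c1 c3 c4
      have g2 : g 2 = 0 := (mul_eq_zero.mp (show g 2 * (a₂ - a₁) = 0 by linear_combination c4 - a₁ * c3)).resolve_right
        (sub_ne_zero.mpr h12.symm)
      intro i
      fin_cases i
      · exact c1
      · simpa [g2] using c3
      · exact g2
    have h3 := (LinearIndependent.of_comp U.subtype (v := ![⟨_, hmu⟩, ⟨_, hmemU _ (hw a₁ n1)⟩, ⟨_, hmemU _ (hw a₂ n2)⟩])
      (by convert hli using 1; ext i; fin_cases i <;> rfl)).fintype_card_le_finrank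
    have h2 : Module.finrank F U ≤ 2 := by
      have h := finrank_span_le_card (R := F) ({Pi.single p (1 : F), Pi.single m (1 : F)} : Set (Fin n → F))
      refine h.trans ?_
      rw [Set.toFinset_insert, Set.toFinset_singleton]
      exact Finset.card_le_two
    rw [Fintype.card_fin] at h3
    omega
  -- three coordinate axes in one plane
  obtain ⟨p, hp⟩ := haxis a₁ n1
  obtain ⟨r, hr⟩ := haxis a₂ n2
  obtain ⟨t, ht⟩ := haxis a₃ n3
  have hne : ∀ a b, a ≠ b → ∀ p', (∀ m, m ≠ p' → C (iso e1 e2 a) m = 0) → (∀ m, m ≠ p' → C (iso e1 e2 b) m = 0) → False := by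
    intro a b hab p' hA hB'
    have hb0 : C (iso e1 e2 b) p' ≠ 0 := fun e => by
      obtain ⟨m, hm⟩ := hC0 _ (hiso0 e1 e2 b (by simp [e1, e2]))
      rcases eq_or_ne m p' with rfl | h
      · exact hm e
      · exact hm (hB' m h)
    set s := C (iso e1 e2 a) p' / C (iso e1 e2 b) p'
    have e : iso e1 e2 a = s • iso e1 e2 b := hCinj (funext fun m => by
      rcases eq_or_ne m p' with rfl | h
      · simp only [hC, Matrix.mulVec_smul, Pi.smul_apply, smul_eq_mul]
        exact (div_mul_cancel₀ _ hb0).symm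
      · simp only [hC, Matrix.mulVec_smul, Pi.smul_apply, smul_eq_mul]
        rw [show ((B : Matrix (Fin n) (Fin n) F) *ᵥ iso e1 e2 a) m = 0 from hA m h,
          show ((B : Matrix (Fin n) (Fin n) F) *ᵥ iso e1 e2 b) m = 0 from hB' m h, mul_zero])
    have c1 := congrFun e e1
    have c2 := congrFun e e2
    simp [iso, e1, e2, Pi.single_apply, Fin.ext_iff] at c1 c2
    exact hab (by rw [c2, ← c1, one_mul])
  have hpr : p ≠ r := fun e => hne a₁ a₂ h12 p hp (e ▸ hr)
  have hpt : p ≠ t := fun e => hne a₁ a₃ h13 p hp (e ▸ ht)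
  have hrt : r ≠ t := fun e => hne a₂ a₃ h23 r hr (e ▸ ht)
  have hdep : (a₂ - a₃) • iso e1 e2 a₁ + (a₃ - a₁) • iso e1 e2 a₂ + (a₁ - a₂) • iso e1 e2 a₃ = 0 := by
    ext k
    simp only [iso, Pi.add_apply, Pi.smul_apply, Pi.single_apply, smul_eq_mul, Pi.zero_apply]
    split_ifs <;> ring
  have := congrArg (fun z => C z p) hdep
  simp only [hC, Matrix.mulVec_add, Matrix.mulVec_smul, Matrix.mulVec_zero, Pi.add_apply, Pi.smul_apply,
    smul_eq_mul, Pi.zero_apply] at this
  rw [show ((B : Matrix (Fin n) (Fin n) F) *ᵥ iso e1 e2 a₂) p = 0 from hr p hpr,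
    show ((B : Matrix (Fin n) (Fin n) F) *ᵥ iso e1 e2 a₃) p = 0 from ht p hpt, mul_zero, mul_zero, add_zero,
    add_zero] at this
  obtain ⟨m, hm⟩ := hC0 _ (hiso0 e1 e2 a₁ (by simp [e1, e2]))
  rcases eq_or_ne m p with rfl | h
  · exact mul_ne_zero (sub_ne_zero.mpr h23) hm this
  · exact hm (hp m h)

theorem IsUSigma.not_su_le_subfield (h5 : 5 ≤ n) {F₀ : Subfield F} {r : ℕ} (hr : r.Prime)
    (hc : Fintype.card F = Nat.card F₀ ^ r) (P : GL (Fin n) F) : ¬ suGL n F q ≤ subfieldSubgroup F₀ P := by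
  classical
  intro hle
  obtain ⟨ζ, hζ, hζ1, hζ2, hζord⟩ := hσ.exists_norm_one
  have hζ0 : ζ ≠ 0 := left_ne_zero_of_mul_eq_one hζ
  obtain ⟨p, hchar⟩ := CharP.exists F
  obtain ⟨⟨e, he⟩, hpp, hce⟩ := FiniteField.card F p
  change Fintype.card F = p ^ e at hce
  obtain ⟨b, hb, -, hb1, hbF⟩ := subfield_card_eq hpp hce F₀
  haveI : ExpChar F p := ExpChar.prime hpp
  set τ := iterateFrobenius F p b with hτ
  have hτfix : ∀ y, τ y = y ↔ y ∈ F₀ := fun y => by rw [hbF, hτ, iterateFrobenius_def]
  have hτζ : τ ζ ≠ ζ := fun h => by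
    rw [hτ, iterateFrobenius_def, ← hb1] at h
    have hq0 : 1 < Nat.card F₀ := hb1 ▸ Nat.one_lt_pow hb.ne' hpp.one_lt
    have := hζord (Nat.card F₀ - 1) (mul_right_cancel₀ hζ0 (by rw [one_mul, ← pow_succ, Nat.sub_add_cancel hq0.le, h]))
    have h1 := Nat.le_of_dvd (by omega) this
    have h2 : Nat.card F₀ ^ 2 ≤ q ^ 2 := by rw [← hσ.card, hc]; exact Nat.pow_le_pow_right hq0.le hr.two_le
    have := (Nat.pow_le_pow_iff_left two_ne_zero).mp h2
    omega
  have hτinj : Function.Injective τ := RingHom.injective τ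
  set T := τ.mapMatrix (P : Matrix (Fin n) (Fin n) F) * ((P⁻¹ : GL (Fin n) F) : Matrix (Fin n) (Fin n) F) with hT
  have hTu : IsUnit T := by
    rw [hT]
    exact (P.isUnit.map (RingHom.mapMatrix τ)).mul (P⁻¹).isUnit
  have key : ∀ g ∈ suGL n F q, ∀ d : Fin n → F, (g : Matrix (Fin n) (Fin n) F) = Matrix.diagonal d →
      ∃ μ : F, ∀ i j, T i j ≠ 0 → τ (d i) = μ * d j := by
    intro g hg d hd
    have hm := hle hg
    rw [mem_subfieldSubgroup, Subgroup.mem_sup_of_normal_right] at hm
    obtain ⟨m, hm, z, hz, hmz⟩ := hm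
    obtain ⟨a, ha⟩ := (mem_scalars_iff z).mp hz
    have hfix : τ.mapMatrix (m : Matrix (Fin n) (Fin n) F) = (m : Matrix (Fin n) (Fin n) F) := by
      ext i j; exact (hτfix _).mpr (range_map_subfield_entries hm i j)
    have hgP : (g : Matrix (Fin n) (Fin n) F) * (P : Matrix (Fin n) (Fin n) F) =
        (a : F) • ((P : Matrix (Fin n) (Fin n) F) * (m : Matrix (Fin n) (Fin n) F)) := by
      have h := congrArg (fun X : GL (Fin n) F => ((P * X : GL (Fin n) F) : Matrix (Fin n) (Fin n) F)) hmz.symm
      simp only [mul_assoc, mul_inv_cancel_left] at h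
      rw [Units.val_mul, Units.val_mul, Units.val_mul, ha, Matrix.mul_smul, Matrix.mul_one, Matrix.mul_smul] at h
      exact h
    refine ⟨τ a / a, fun i j hij => ?_⟩
    have e1 : τ.mapMatrix (g : Matrix (Fin n) (Fin n) F) * τ.mapMatrix (P : Matrix (Fin n) (Fin n) F) =
        τ a • (τ.mapMatrix (P : Matrix (Fin n) (Fin n) F) * (m : Matrix (Fin n) (Fin n) F)) := by
      rw [← map_mul, hgP]
      conv_rhs => rw [← hfix, ← map_mul]
      ext k l; simp [← Matrix.map_mul, Matrix.map_apply]
    have e2 : τ.mapMatrix (g : Matrix (Fin n) (Fin n) F) * T = (τ a / a) • (T * (g : Matrix (Fin n) (Fin n) F)) := by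
      have e3 : (m : Matrix (Fin n) (Fin n) F) * ((P⁻¹ : GL (Fin n) F) : Matrix (Fin n) (Fin n) F) =
          (a : F)⁻¹ • (((P⁻¹ : GL (Fin n) F) : Matrix (Fin n) (Fin n) F) * (g : Matrix (Fin n) (Fin n) F)) := by
        have h : m * P⁻¹ * z = P⁻¹ * g := by
          rw [mul_assoc m, ← scalars_commute hz, ← mul_assoc, hmz]
          group
        have h' := congrArg (fun X : GL (Fin n) F => (X : Matrix (Fin n) (Fin n) F)) h
        simp only [Units.val_mul, ha, Matrix.mul_smul, Matrix.mul_one] at h'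
        rw [← h', smul_smul, inv_mul_cancel₀ a.ne_zero, one_smul]
      rw [hT, ← Matrix.mul_assoc, e1, Matrix.smul_mul, Matrix.mul_assoc, e3, Matrix.mul_smul, smul_smul,
        ← div_eq_mul_inv, Matrix.mul_assoc]
    have := congrFun (congrFun e2 i) j
    rw [Matrix.smul_apply, smul_eq_mul, hd, Matrix.mul_diagonal] at this
    rw [show τ.mapMatrix (Matrix.diagonal d) = Matrix.diagonal (fun k => τ (d k)) from Matrix.diagonal_map (map_zero τ),
      Matrix.diagonal_mul] at this
    exact mul_right_cancel₀ hij (by linear_combination this)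
  have hcol : ∀ S : Finset (Fin n), ∀ R : Finset (Fin n), R.card < S.card → ∃ j ∈ S, ∃ i, i ∉ R ∧ T i j ≠ 0 := by
    intro S R hRS
    by_contra hcon
    push Not at hcon
    have hli : LinearIndependent F (fun j : S => fun i : R => T i j) := by
      have h := (Matrix.linearIndependent_cols_iff_isUnit.mpr hTu).comp ((↑) : S → Fin n) Subtype.val_injective
      rw [Fintype.linearIndependent_iff] at h ⊢
      intro g hg
      refine h g (funext fun i => ?_)
      simp only [Finset.sum_apply, Pi.smul_apply, Function.comp_apply, Matrix.col_apply, Pi.zero_apply]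
      by_cases hi : i ∈ R
      · simpa using congrFun hg ⟨i, hi⟩
      · exact Finset.sum_eq_zero fun j _ => by rw [hcon j j.2 i hi, smul_zero]
    have := hli.fintype_card_le_finrank
    rw [Module.finrank_fintype_fun_eq_card, Fintype.card_coe, Fintype.card_coe] at this
    omega
  let i₁ : Fin n := ⟨0, by omega⟩
  let i₂ : Fin n := ⟨1, by omega⟩
  let i₃ : Fin n := ⟨2, by omega⟩
  have hmu : ∀ (a b : Fin n) (hab : a ≠ b), ∀ i j, T i j ≠ 0 → τ (pairDiag a b ζ i) = pairDiag a b ζ j := by
    intro a b hab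
    obtain ⟨g, hg, hgm⟩ := hσ.exists_pair hab hζ
    obtain ⟨μ, hμ⟩ := key g hg _ hgm
    have hμ1 : μ = 1 := by
      obtain ⟨j, hj, i, hi, hT'⟩ := hcol ({a, b} : Finset (Fin n))ᶜ {a, b} (by
        rw [Finset.card_compl, Fintype.card_fin, Finset.card_pair hab]; omega)
      have := hμ i j hT'
      simp only [Finset.mem_compl, Finset.mem_insert, Finset.mem_singleton, not_or] at hj hi
      simpa [pairDiag, hj.1, hj.2, hi.1, hi.2] using this.symm
    intro i j h
    rw [hμ i j h, hμ1, one_mul]
  have h12 : i₁ ≠ i₂ := by simp [i₁, i₂]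
  have h13 : i₁ ≠ i₃ := by simp [i₁, i₃]
  have h23 : i₂ ≠ i₃ := by simp [i₂, i₃]
  obtain ⟨j, hj, i, -, hij⟩ := hcol {i₂} ∅ (by simp)
  rw [Finset.mem_singleton] at hj
  rw [hj] at hij
  have d1 := hmu i₁ i₂ h12 i i₂ hij
  have d2 := hmu i₁ i₃ h13 i i₂ hij
  simp only [pairDiag, h12.symm, h23, if_true, if_false] at d1 d2
  rcases eq_or_ne i i₁ with rfl | hi1
  · simp only [if_true] at d2
    exact hζ1 (hτinj (d2.trans (map_one τ).symm))
  rcases eq_or_ne i i₂ with rfl | hi2
  · simp only [if_neg hi1, if_true, map_inv₀] at d1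
    exact hτζ (inv_injective d1)
  · simp only [if_neg hi1, if_neg hi2, map_one] at d1
    exact hζ1 (inv_eq_one.mp d1.symm)

theorem IsUSigma.not_su_le_normalizer (h5 : 5 ≤ n) (hp : n.Prime) {R : Subgroup (GL (Fin n) F)}
    (hR : ActsAbsolutelyIrreducibly (matrixSet R)) (hRG : R ≤ GU n F q)
    (hdet : ∀ x ∈ R, (x : Matrix (Fin n) (Fin n) F).det = 1) (hne : ∃ x ∈ R, x ∉ scalars (Fin n) F)
    (hcomm : ∀ x ∈ R, ∀ y ∈ R, x * y * x⁻¹ * y⁻¹ ∈ scalars (Fin n) F) :
    ¬ suGL n F q ≤ subgroupNormalizer R := by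
  classical
  intro hle
  haveI : Fact n.Prime := ⟨hp⟩
  haveI : Nonempty (Fin n) := ⟨⟨0, by omega⟩⟩
  -- elements fixing a plane are trivial
  have hfix : ∀ z ∈ R, ∀ v w : Fin n → F, LinearIndependent F ![v, w] →
      (z : Matrix (Fin n) (Fin n) F) *ᵥ v = v → (z : Matrix (Fin n) (Fin n) F) *ᵥ w = w → z = 1 := by
    intro z hz v w hvw hzv hzw
    by_cases hs : z ∈ scalars (Fin n) F
    · obtain ⟨a, ha⟩ := (mem_scalars_iff z).mp hs
      have hv0 : v ≠ 0 := hvw.ne_zero 0
      rw [ha, Matrix.smul_mulVec, Matrix.one_mulVec] at hzv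
      have : (a : F) = 1 := smul_left_injective F hv0 (hzv.trans (one_smul F v).symm)
      exact Units.ext (by rw [ha, this, one_smul, Units.val_one])
    exfalso
    obtain ⟨y, hy, hzy⟩ : ∃ y ∈ R, z * y ≠ y * z := by
      by_contra h
      push Not at h
      exact hs (mem_scalars_of_absIrr hR h)
    obtain ⟨c, hc⟩ := (mem_scalars_iff _).mp (hcomm z hz y hy)
    have e := coe_mul_comm_of_scalar hc
    have hcn : (c : F) ^ n = 1 := by
      have := congrArg Matrix.det e
      simpa [Matrix.det_smul, hdet z hz, hdet y hy] using this.symm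
    have hc1 : (c : F) ≠ 1 := fun h1 => hzy (Units.ext (by simpa [h1] using e))
    have hprim : IsPrimitiveRoot (c : F) n := IsPrimitiveRoot.iff_orderOf.mpr (orderOf_eq_prime hcn hc1)
    set Z := (z : Matrix (Fin n) (Fin n) F)
    set Y := (y : Matrix (Fin n) (Fin n) F)
    have hk : ∀ k : ℕ, Z * Y ^ k = (c : F) ^ k • (Y ^ k * Z) := fun k => twisted_pow e k
    let E : Fin n → Submodule F (Fin n → F) := fun k => Module.End.eigenspace (Matrix.toLin' Z) ((c : F) ^ (k : ℕ))
    have hind : iSupIndep E := (Module.End.eigenspaces_iSupIndep (Matrix.toLin' Z)).comp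
      fun k l h => Fin.ext (hprim.pow_inj k.2 l.2 h)
    have hdim : ∀ k, 2 ≤ Module.finrank F (E k) := fun k => by
      have hmem : ∀ u, Z *ᵥ u = u → Y ^ (k : ℕ) *ᵥ u ∈ E k := fun u hu => by
        rw [Module.End.mem_eigenspace_iff, Matrix.toLin'_apply, Matrix.mulVec_mulVec, hk, Matrix.smul_mulVec,
          ← Matrix.mulVec_mulVec, hu]
      have hli : LinearIndependent F ![(⟨_, hmem v hzv⟩ : E k), ⟨_, hmem w hzw⟩] := by
        refine LinearIndependent.of_comp (E k).subtype ?_
        have h := hvw.map' (Matrix.toLin' ((y ^ (k : ℕ) : GL (Fin n) F) : Matrix (Fin n) (Fin n) F))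
          (LinearMap.ker_eq_bot.mpr fun a b hab => gl_mulVec_injective (y ^ (k : ℕ)) hab)
        have heq : ((E k).subtype ∘ ![(⟨_, hmem v hzv⟩ : E k), ⟨_, hmem w hzw⟩]) =
            Matrix.toLin' ((y ^ (k : ℕ) : GL (Fin n) F) : Matrix (Fin n) (Fin n) F) ∘ ![v, w] := by
          funext i
          fin_cases i <;> simp [Units.val_pow_eq_pow_val, Matrix.toLin'_apply, Y, -Matrix.toLin'_pow, -map_pow]
        rw [heq]
        exact h
      simpa using hli.fintype_card_le_finrank
    have h1 := (finrank_iSup_of_indep E hind) ▸ Submodule.finrank_le (⨆ k, E k)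
    rw [Module.finrank_fintype_fun_eq_card, Fintype.card_fin] at h1
    have h2 : ∑ _k : Fin n, 2 ≤ ∑ k, Module.finrank F (E k) := Finset.sum_le_sum fun k _ => hdim k
    simp at h2
    omega
  obtain ⟨x, hx, hxs⟩ := hne
  apply hxs
  obtain ⟨cc, hcc⟩ := hσ.transvection_centralizer h5 (M := (x : Matrix (Fin n) (Fin n) F)) (by
    intro v hv c hc g hg hgm
    have hz : g * x * g⁻¹ * x⁻¹ ∈ R := mul_mem ((Subgroup.mem_normalizer_iff.mp (hle hg) x).mp hx) (inv_mem hx)
    let f₁ : (Fin n → F) →ₗ[F] F :=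
      { toFun := fun u => hermForm n F q u v
        map_add' := fun a b => hσ.isUnitaryForm.add_left a b v
        map_smul' := fun s a => hσ.isUnitaryForm.smul_left s a v }
    let f₂ : (Fin n → F) →ₗ[F] F := f₁ ∘ₗ Matrix.toLin' (((x⁻¹ : GL (Fin n) F)) : Matrix (Fin n) (Fin n) F)
    have hker : 2 ≤ Module.finrank F (LinearMap.ker (f₁.prod f₂)) := by
      have h := (f₁.prod f₂).finrank_range_add_finrank_ker
      have h' := Submodule.finrank_le (LinearMap.range (f₁.prod f₂))
      rw [Module.finrank_prod, Module.finrank_self] at h'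
      rw [Module.finrank_fintype_fun_eq_card, Fintype.card_fin] at h
      omega
    obtain ⟨b, hb⟩ := exists_linearIndependent_of_le_finrank hker
    have hfixk : ∀ u ∈ LinearMap.ker (f₁.prod f₂),
        ((g * x * g⁻¹ * x⁻¹ : GL (Fin n) F) : Matrix (Fin n) (Fin n) F) *ᵥ u = u := by
      intro u hu
      simp only [LinearMap.mem_ker, LinearMap.prod_apply, Prod.mk_eq_zero, Function.prod] at hu
      obtain ⟨hu1, hu2⟩ := hu
      replace hu1 : hermForm n F q u v = 0 := hu1
      replace hu2 : hermForm n F q (((x⁻¹ : GL (Fin n) F) : Matrix (Fin n) (Fin n) F) *ᵥ u) v = 0 := hu2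
      have hginv : ∀ w, hermForm n F q w v = 0 → ((g⁻¹ : GL (Fin n) F) : Matrix (Fin n) (Fin n) F) *ᵥ w = w := fun w hw => by
        conv_lhs => rw [show w = (g : Matrix (Fin n) (Fin n) F) *ᵥ w by rw [hgm, hw, mul_zero, zero_smul, add_zero]]
        rw [gl_inv_mulVec_cancel]
      rw [gl_mul_mulVec, gl_mul_mulVec, gl_mul_mulVec, hginv _ hu2, gl_mulVec_inv_cancel, hgm, hu1, mul_zero, zero_smul, add_zero]
    have hli : LinearIndependent F ![((b 0 : LinearMap.ker (f₁.prod f₂)) : Fin n → F), (b 1 : Fin n → F)] := by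
      have h := hb.map' (LinearMap.ker (f₁.prod f₂)).subtype (Submodule.ker_subtype _)
      have heq : ![((b 0 : LinearMap.ker (f₁.prod f₂)) : Fin n → F), (b 1 : Fin n → F)] =
          (LinearMap.ker (f₁.prod f₂)).subtype ∘ b := by
        funext i
        fin_cases i <;> rfl
      rw [heq]
      exact h
    have hone := hfix _ hz _ _ hli (hfixk _ (b 0).2) (hfixk _ (b 1).2)
    rw [mul_inv_eq_one, mul_inv_eq_iff_eq_mul] at hone
    change (g : Matrix (Fin n) (Fin n) F) * (x : Matrix (Fin n) (Fin n) F) = _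
    rw [← Units.val_mul, hone, Units.val_mul])
  exact mem_scalars_of_eq hcc

end Cfsg.Agent.Classical
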