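/-
Maximal subgroups of the special unitary group in prime dimension at least five.
-/
import Cfsg.Agent.Lib.Classical.UnitaryMembers
import Cfsg.Agent.Lib.Classical.LinPrimeCases

set_option autoImplicit false
set_option linter.style.haveILetI false

namespace Cfsg.Agent.Classical

open Matrix Cfsg.Geo
open scoped commutatorElement

variable {n : ℕ} {F : Type*} [Field F] [Fintype F] {q : ℕ} {σ : F ≃+* F} (hσ : IsUSigma q σ)

include hσ

/-- Reducible subgroups of the unitary group stabilise a totally singular or a small nondegenerate subspace. -/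
theorem IsUSigma.reducible_cases (hodd : Odd n) {H : Subgroup (GL (Fin n) F)} (hG : H ≤ GU n F q)
    (hred : ¬ ActsIrreducibly (matrixSet H)) :
    ∃ W : Submodule F (Fin n → F), W ≠ ⊥ ∧ W ≠ ⊤ ∧ H ≤ subspaceStabilizer W ∧
      (IsTotallySingularFor (hermForm n F q) W ∨
        (IsNondegenerateOn (hermForm n F q) W ∧ 2 * Module.finrank F W < n)) := by
  obtain ⟨W, h0, h1, hW⟩ := (not_actsIrreducibly_iff H).mp hred
  have hf := hσ.isUnitaryForm (n := n)
  set P := unitaryPerp hσ W with hP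
  have hPH : H ≤ subspaceStabilizer P := fun g hg => mem_subspaceStabilizer_iff.mpr fun v hv w hw => by
    have hw' : ((g⁻¹ : GL (Fin n) F) : Matrix (Fin n) (Fin n) F) *ᵥ w ∈ W :=
      mem_subspaceStabilizer_iff.mp (hW (inv_mem hg)) w hw
    have := mem_GU_iff.mp (hG hg) (((g⁻¹ : GL (Fin n) F) : Matrix (Fin n) (Fin n) F) *ᵥ w) v
    rw [gl_mulVec_inv_cancel] at this
    exact this.trans (hv _ hw')
  by_cases hI : W ⊓ P = ⊥
  · have hdim := hσ.finrank_perp W
    have hnd : IsNondegenerateOn (hermForm n F q) W := fun w hw hw0 => by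
      obtain ⟨x, hx, hxw⟩ : ∃ x ∈ W, hermForm n F q x w ≠ 0 := by
        by_contra h
        push Not at h
        exact hw0 ((Submodule.mem_bot F).mp (hI ▸ Submodule.mem_inf.mpr ⟨hw, h⟩))
      refine ⟨⟨x, hx, hxw⟩, x, hx, fun e => hxw ?_⟩
      rw [hf.herm, e, map_zero]
    have hW0 : 0 < Module.finrank F W := Nat.pos_of_ne_zero fun e => h0 (Submodule.finrank_eq_zero.mp e)
    have hWn : Module.finrank F W < n := by
      have := Submodule.finrank_lt h1
      rwa [Module.finrank_fintype_fun_eq_card, Fintype.card_fin] at this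
    by_cases hlt : 2 * Module.finrank F W < n
    · exact ⟨W, h0, h1, hW, Or.inr ⟨hnd, hlt⟩⟩
    have hP0 : P ≠ ⊥ := fun e => by rw [← hP, e, finrank_bot] at hdim; omega
    have hP1 : P ≠ ⊤ := fun e => by
      rw [← hP, e, finrank_top, Module.finrank_fintype_fun_eq_card, Fintype.card_fin] at hdim; omega
    refine ⟨P, hP0, hP1, hPH, Or.inr ⟨fun v hv hv0 => ?_, ?_⟩⟩
    · have hPP : unitaryPerp hσ P = W := by
        refine (Submodule.eq_of_le_of_finrank_eq (fun w hw v hv => ?_) ?_).symm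
        · rw [hf.herm, hv w hw, map_zero]
        · have := hσ.finrank_perp P
          rw [← hP] at hdim
          omega
      obtain ⟨x, hx, hxv⟩ : ∃ x ∈ P, hermForm n F q x v ≠ 0 := by
        by_contra h
        push Not at h
        have : v ∈ W := hPP ▸ (h : v ∈ unitaryPerp hσ P)
        exact hv0 ((Submodule.mem_bot F).mp (hI ▸ Submodule.mem_inf.mpr ⟨this, hv⟩))
      refine ⟨⟨x, hx, hxv⟩, x, hx, fun e => hxv ?_⟩
      rw [hf.herm, e, map_zero]
    · rw [← hP] at hdim
      obtain ⟨k, hk⟩ := hodd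
      omega
  · refine ⟨W ⊓ P, hI, fun e => h1 (top_unique (e ▸ inf_le_left)), fun g hg => ?_, Or.inl fun u hu v hv => ?_⟩
    · exact mem_subspaceStabilizer_iff.mpr fun v hv =>
        ⟨mem_subspaceStabilizer_iff.mp (hW hg) v hv.1, mem_subspaceStabilizer_iff.mp (hPH hg) v hv.2⟩
    · exact hv.2 u hu.1

/-- Lines with distinct characters of a normal abelian group are orthogonal and nondegenerate. -/
theorem IsUSigma.orthogonal_lines (hodd : Odd n) {H A : Subgroup (GL (Fin n) F)} (hH : ActsIrreducibly (matrixSet H))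
    (hHG : H ≤ GU n F q) (hA : A ≤ GU n F q) {D : Fin (Fintype.card (Fin n)) → Submodule F (Fin n → F)}
    (hD : IsMDecomposition 1 D) (hHD : H ≤ decompositionStabilizer D)
    {χ : Fin (Fintype.card (Fin n)) → GL (Fin n) F → F}
    (hχ : ∀ i, ∀ x ∈ A, ∀ w ∈ D i, (x : Matrix (Fin n) (Fin n) F) *ᵥ w = χ i x • w)
    (hsep : ∀ i j, (∀ x ∈ A, χ i x = χ j x) → i = j) :
    IsNondegenerateMDecomposition (hermForm n F q) 1 D := by
  classical
  have hf := hσ.isUnitaryForm (n := n)
  have hsf := semiForm_of_unitary hf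
  let R : Fin (Fintype.card (Fin n)) → Fin (Fintype.card (Fin n)) → Prop := fun i j =>
    ∃ v ∈ D i, ∃ w ∈ D j, hermForm n F q v w ≠ 0
  have hprod : ∀ i j, R i j → ∀ x ∈ A, χ i x * σ (χ j x) = 1 := by
    rintro i j ⟨v, hv, w, hw, hvw⟩ x hx
    have h := mem_GU_iff.mp (hA hx) v w
    rw [hχ i x hx v hv, hχ j x hx w hw, hsf.smul_left, hsf.smul_right, ← mul_assoc] at h
    exact mul_eq_right₀ hvw |>.mp h
  have huniq : ∀ i j k, R i j → R i k → j = k := fun i j k hj hk => hsep j k fun x hx => by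
    have e1 := hprod i j hj x hx
    have e2 := hprod i k hk x hx
    exact σ.injective (mul_left_cancel₀ (left_ne_zero_of_mul_eq_one e1) (e1.trans e2.symm))
  have hsymm : ∀ i j, R i j → R j i := by
    rintro i j ⟨v, hv, w, hw, h⟩
    exact ⟨w, hw, v, hv, fun e => h (by rw [hf.herm, e, map_zero])⟩
  have hex : ∀ i, ∃ j, R i j := by
    intro i
    by_contra hcon
    push Not at hcon
    obtain ⟨v, hv, hv0⟩ := Submodule.exists_mem_ne_zero_of_ne_bot
      (show D i ≠ ⊥ from fun e => by have := hD.finrank_eq i; rw [e, finrank_bot] at this; exact zero_ne_one this)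
    obtain ⟨x, hx⟩ := (hf.nondegenerate v hv0).2
    apply hx
    suffices h : ∀ y ∈ iSup D, hermForm n F q v y = 0 from h x (hD.iSup_eq_top ▸ Submodule.mem_top)
    intro y hy
    induction hy using Submodule.iSup_induction' with
    | mem j w hw =>
      by_contra h
      exact hcon j ⟨v, hv, w, hw, h⟩
    | zero => simp [hσ.hermForm_eq]
    | add a b _ _ ha hb => rw [hsf.add_right, ha, hb, add_zero]
  choose τ hτ using hex
  have hττ : ∀ i, τ (τ i) = i := fun i => huniq _ _ _ (hτ (τ i)) (hsymm _ _ (hτ i))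
  obtain ⟨i₀, hi₀⟩ : ∃ i, τ i = i := by
    by_contra hcon
    push Not at hcon
    let π : Equiv.Perm (Fin (Fintype.card (Fin n))) := ⟨τ, τ, hττ, hττ⟩
    have h2 : π ^ 2 = 1 := by ext i; simp [sq, π, hττ]
    have hs : π.support = Finset.univ := Finset.eq_univ_of_forall fun i => Equiv.Perm.mem_support.mpr (hcon i)
    have := Equiv.Perm.two_dvd_card_support h2
    rw [hs, Finset.card_univ, Fintype.card_fin, Fintype.card_fin] at this
    exact (Nat.not_even_iff_odd.mpr hodd) (even_iff_two_dvd.mpr this)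
  have hRd : R i₀ i₀ := by simpa [hi₀] using hτ i₀
  -- transitivity
  let U : Submodule F (Fin n → F) := ⨆ i : {i // R i i}, D i.1
  have hUH : U = ⊤ := by
    refine (hH U ?_).resolve_left ?_
    · rintro _ ⟨g, hg, rfl⟩
      obtain ⟨π, hπ⟩ := hHD hg
      simp only [U, Submodule.map_iSup]
      refine iSup_le fun ⟨i, hi⟩ => ?_
      rw [hπ i]
      refine le_iSup_of_le ⟨π i, ?_⟩ le_rfl
      obtain ⟨v, hv, w, hw, h⟩ := hi
      refine ⟨(g : Matrix (Fin n) (Fin n) F) *ᵥ v, hπ i ▸ ⟨v, hv, rfl⟩, (g : Matrix (Fin n) (Fin n) F) *ᵥ w,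
        hπ i ▸ ⟨w, hw, rfl⟩, ?_⟩
      rwa [mem_GU_iff.mp (hHG hg)]
    · intro e
      have : D i₀ ≤ U := le_iSup (fun i : {i // R i i} => D i.1) ⟨i₀, hRd⟩
      rw [e, le_bot_iff] at this
      have h := hD.finrank_eq i₀
      rw [this, finrank_bot] at h
      exact zero_ne_one h
  have hall : ∀ i, R i i := by
    intro i
    by_contra hi
    have hle : U ≤ ⨆ (j) (_ : j ≠ i), D j := iSup_le fun ⟨j, hj⟩ =>
      le_iSup₂ (f := fun (j : Fin (Fintype.card (Fin n))) (_ : j ≠ i) => D j) j (fun e => hi (e ▸ hj))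
    have h : Disjoint (D i) (⨆ (j) (_ : j ≠ i), D j) := hD.indep i
    rw [hUH, top_le_iff] at hle
    rw [hle, disjoint_top] at h
    have h' := hD.finrank_eq i
    rw [h, finrank_bot] at h'
    exact zero_ne_one h'
  refine ⟨hD, fun i w hw hw0 => ?_, fun i j hij u hu v hv => ?_⟩
  · obtain ⟨a, ha, b, hb, hab⟩ := hall i
    obtain ⟨z, hz0, hz⟩ := finrank_eq_one_iff'.mp (hD.finrank_eq i)
    obtain ⟨s, hs⟩ := hz ⟨w, hw⟩
    have hs0 : s ≠ 0 := fun e => hw0 (by simpa [e] using congrArg Subtype.val hs.symm)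
    have hzz : hermForm n F q (z : Fin n → F) z ≠ 0 := by
      obtain ⟨s1, h1⟩ := hz ⟨a, ha⟩
      obtain ⟨s2, h2⟩ := hz ⟨b, hb⟩
      intro e
      apply hab
      rw [show a = s1 • (z : Fin n → F) from congrArg Subtype.val h1.symm,
        show b = s2 • (z : Fin n → F) from congrArg Subtype.val h2.symm, hsf.smul_left, hsf.smul_right, e,
        mul_zero, mul_zero]
    have hwz : w = s • (z : Fin n → F) := congrArg Subtype.val hs.symm
    refine ⟨⟨z, z.2, ?_⟩, z, z.2, ?_⟩
    · rw [hwz, hsf.smul_right]; exact mul_ne_zero (by simpa using hs0) hzz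
    · rw [hwz, hsf.smul_left]; exact mul_ne_zero hs0 hzz
  · by_contra h
    exact hij (huniq i i j (hall i) ⟨u, hu, v, hv, h⟩)

/-- The commutant of unitary matrices is closed under adjoints. -/
theorem IsUSigma.commutant_adjoint {N : Subgroup (GL (Fin n) F)} (hN : N ≤ GU n F q) :
    IsAdjointClosedFor (hermForm n F q) (commutant N) := by
  intro k hk
  have hx : ∀ x ∈ N, ((x : Matrix (Fin n) (Fin n) F).map σ)ᵀ * (x : Matrix (Fin n) (Fin n) F) = 1 := fun x hx => by
    ext i j
    have h := mem_GU_iff.mp (hN hx) (Pi.single j 1) (Pi.single i 1)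
    rw [hσ.hermForm_single, hσ.hermForm_eq, Matrix.mulVec_single_one, Matrix.mulVec_single_one] at h
    rw [Matrix.mul_apply]
    simp only [Matrix.col_apply] at h
    simp only [Matrix.transpose_apply, Matrix.map_apply, mul_comm (σ _)]
    rw [h]
    by_cases e : i = j
    · subst e; simp
    · simp [e, Ne.symm e]
  refine ⟨(k.map σ)ᵀ, mem_commutant_iff.mpr fun x hx' => ?_, fun u v => ?_⟩
  · have hk' := (mem_commutant_iff.mp hk) x hx'
    have h1 : (k.map σ)ᵀ * ((x : Matrix (Fin n) (Fin n) F).map σ)ᵀ = ((x : Matrix (Fin n) (Fin n) F).map σ)ᵀ * (k.map σ)ᵀ := by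
      rw [← Matrix.transpose_mul, ← Matrix.transpose_mul, ← Matrix.map_mul, ← Matrix.map_mul, hk']
    have h2 : ((x : Matrix (Fin n) (Fin n) F).map σ)ᵀ = ((x⁻¹ : GL (Fin n) F) : Matrix (Fin n) (Fin n) F) := by
      rw [← Matrix.mul_one (((x : Matrix (Fin n) (Fin n) F).map σ)ᵀ), ← x.mul_inv, ← Matrix.mul_assoc, hx x hx', Matrix.one_mul]
    rw [h2] at h1
    exact (Commute.units_inv_left_iff.mp h1.symm).eq
  · rw [hσ.hermForm_eq, hσ.hermForm_eq]
    simp only [Matrix.mulVec, dotProduct, Matrix.transpose_apply, Matrix.map_apply, map_sum, map_mul, hσ.involutive,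
      Finset.sum_mul, Finset.mul_sum]
    rw [Finset.sum_comm]
    exact Finset.sum_congr rfl fun i _ => Finset.sum_congr rfl fun j _ => by ring

theorem IsUSigma.scalar_skew {μ : F} {F₁ : Subfield F} (hμF : μ ∈ F₁) (hμ : μ * σ μ = 1)
    (hz : μ = -1 → (2 : F) ≠ 0 → ∃ z ∈ F₁, σ z ≠ z) : ∃ b ∈ F₁, b ≠ 0 ∧ σ b = μ * b := by
  have hmem : ∀ z ∈ F₁, σ z ∈ F₁ := fun z hz => by rw [hσ.apply_eq]; exact pow_mem hz q
  have key : ∀ z, σ (z + σ (μ * z)) = μ * (z + σ (μ * z)) := fun z => by
    rw [map_add, hσ.involutive, map_mul, mul_add]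
    linear_combination (-σ z) * hμ
  by_cases h : (1 : F) + σ μ = 0
  · by_cases h2 : (2 : F) = 0
    · refine ⟨1, one_mem _, one_ne_zero, ?_⟩
      have : μ = -1 := by
        have := congrArg σ h
        rw [map_add, map_one, hσ.involutive, map_zero] at this
        linear_combination this
      rw [map_one, mul_one, this]
      linear_combination h2
    · have hm : μ = -1 := by
        have := congrArg σ h
        rw [map_add, map_one, hσ.involutive, map_zero] at this
        linear_combination this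
      obtain ⟨z, hzF, hzσ⟩ := hz hm h2
      refine ⟨z + σ (μ * z), add_mem hzF (hmem _ (mul_mem hμF hzF)), ?_, key z⟩
      rw [hm, neg_one_mul, map_neg, ← sub_eq_add_neg]
      exact sub_ne_zero.mpr (Ne.symm hzσ)
  · refine ⟨1 + σ (μ * 1), add_mem (one_mem _) (hmem _ (mul_mem hμF (one_mem _))), ?_, key 1⟩
    rwa [mul_one]

/-- A normal absolutely irreducible group of isometries realised over a proper subfield. -/
theorem IsUSigma.subfield_case (hn2 : 2 ≤ n) (hodd : Odd n) {H N : Subgroup (GL (Fin n) F)} (hNG : N ≤ GU n F q)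
    (hnorm : NormalIn H N) (hN : ActsAbsolutelyIrreducibly (matrixSet N)) {F₀ : Subfield F} (h0 : F₀ ≠ ⊤)
    (hreal : RealisableOver F₀ (matrixSet N)) :
    (∃ (F₁ : Subfield F) (r : ℕ) (P : GL (Fin n) F), r.Prime ∧ Odd r ∧ Fintype.card F = Nat.card F₁ ^ r ∧
      IsFormRationalStructure (hermForm n F q) F₁ 1 P ∧ H ≤ subfieldSubgroup F₁ P) ∨
    (Odd q ∧ ∃ (F₁ : Subfield F) (P : GL (Fin n) F), Fintype.card F = Nat.card F₁ ^ 2 ∧
      IsFormRationalStructure (hermForm n F q) F₁ 1 P ∧ H ≤ subfieldSubgroup F₁ P) := by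
  classical
  haveI : Nonempty (Fin n) := ⟨⟨0, by omega⟩⟩
  obtain ⟨F₁, r, hr, hcard, hle, -⟩ := exists_prime_index_subfield F₀ h0
  obtain ⟨B, hB⟩ := hreal
  have hBN : ∀ x ∈ N, ∀ i j, ((B * x * B⁻¹ : GL (Fin n) F) : Matrix (Fin n) (Fin n) F) i j ∈ F₁ := fun x hx i j =>
    hle (by simpa using hB _ (coe_mem_matrixSet hx) i j)
  set Bi := ((B⁻¹ : GL (Fin n) F) : Matrix (Fin n) (Fin n) F) with hBi
  obtain ⟨A, hA⟩ : ∃ A : Matrix (Fin n) (Fin n) F, A = Biᵀ * Bi.map σ := ⟨_, rfl⟩
  obtain ⟨p, hchar⟩ := CharP.exists F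
  obtain ⟨⟨e, he⟩, hp, hce⟩ := FiniteField.card F p
  change Fintype.card F = p ^ e at hce
  obtain ⟨b, hb, -, hb1, hiff⟩ := subfield_card_eq hp hce F₁
  haveI : ExpChar F p := ExpChar.prime hp
  set τ := iterateFrobenius F p b with hτ
  have hτfix : ∀ y, τ y = y ↔ y ∈ F₁ := fun y => by rw [hiff, hτ, iterateFrobenius_def]
  have hτσ : ∀ y, τ (σ y) = σ (τ y) := fun y => by rw [hσ.apply_eq, hσ.apply_eq, map_pow]
  have hσF : ∀ y ∈ F₁, σ y ∈ F₁ := fun y hy => by rw [hσ.apply_eq]; exact pow_mem hy q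
  have hone : ∀ x ∈ N, (x : Matrix (Fin n) (Fin n) F)ᵀ * (x : Matrix (Fin n) (Fin n) F).map σ = 1 := by
    intro x hx
    ext i j
    have h := mem_GU_iff.mp (hNG hx) (Pi.single i 1) (Pi.single j 1)
    rw [hσ.hermForm_single, hσ.hermForm_eq, Matrix.mulVec_single_one, Matrix.mulVec_single_one] at h
    rw [Matrix.mul_apply]
    simp only [Matrix.col_apply] at h
    simp only [Matrix.transpose_apply, Matrix.map_apply]
    rw [h]
    by_cases e : i = j
    · subst e; simp
    · simp [e, Ne.symm e]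
  have hBiB : Bi * (B : Matrix (Fin n) (Fin n) F) = 1 := B.inv_mul
  have hBBi : (B : Matrix (Fin n) (Fin n) F) * Bi = 1 := B.mul_inv
  -- the gram matrix in the new basis is invariant
  have hinv : ∀ x ∈ N, ((B * x * B⁻¹ : GL (Fin n) F) : Matrix (Fin n) (Fin n) F)ᵀ * A *
      ((B * x * B⁻¹ : GL (Fin n) F) : Matrix (Fin n) (Fin n) F).map σ = A := by
    intro x hx
    set X := (x : Matrix (Fin n) (Fin n) F)
    set Y := ((B * x * B⁻¹ : GL (Fin n) F) : Matrix (Fin n) (Fin n) F)
    have hY : Bi * Y = X * Bi := by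
      simp only [Y, X, Units.val_mul, ← hBi]
      rw [← Matrix.mul_assoc, ← Matrix.mul_assoc, hBiB, Matrix.one_mul]
    calc Yᵀ * A * Y.map σ = (Bi * Y)ᵀ * (Bi * Y).map σ := by
          rw [Matrix.transpose_mul, Matrix.map_mul, hA]; simp only [Matrix.mul_assoc]
      _ = Biᵀ * (Xᵀ * X.map σ) * Bi.map σ := by
          rw [hY, Matrix.transpose_mul, Matrix.map_mul]; simp only [Matrix.mul_assoc]
      _ = A := by rw [hone x hx, Matrix.mul_one, ← hA]
  set M := (B : Matrix (Fin n) (Fin n) F)ᵀ * τ.mapMatrix A * (B : Matrix (Fin n) (Fin n) F).map σ with hM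
  have hMinv : ∀ x ∈ N, M * (x : Matrix (Fin n) (Fin n) F).map σ = (x : Matrix (Fin n) (Fin n) F).map σ * M := by
    intro x hx
    set X := (x : Matrix (Fin n) (Fin n) F)
    set Y := ((B * x * B⁻¹ : GL (Fin n) F) : Matrix (Fin n) (Fin n) F)
    have hY : Y * (B : Matrix (Fin n) (Fin n) F) = (B : Matrix (Fin n) (Fin n) F) * X := by
      simp only [Y, X, Units.val_mul, ← hBi]
      rw [Matrix.mul_assoc, hBiB, Matrix.mul_one]
    have hτY : τ.mapMatrix Y = Y := by ext i j; exact (hτfix _).mpr (hBN x hx i j)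
    have hτY' : τ.mapMatrix (Y.map σ) = Y.map σ := by
      ext i j
      change τ (σ (Y i j)) = σ (Y i j)
      rw [hτσ, (hτfix _).mpr (hBN x hx i j)]
    have h1 : Yᵀ * τ.mapMatrix A * Y.map σ = τ.mapMatrix A := by
      conv_rhs => rw [← hinv x hx]
      rw [map_mul, map_mul, hτY', show τ.mapMatrix Yᵀ = Yᵀ from by
        ext i j; exact (hτfix _).mpr (hBN x hx j i)]
    have h2 : Xᵀ * M * X.map σ = M := by
      calc Xᵀ * M * X.map σ = ((B : Matrix (Fin n) (Fin n) F) * X)ᵀ * τ.mapMatrix A * ((B : Matrix (Fin n) (Fin n) F) * X).map σ := by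
            rw [hM, Matrix.transpose_mul, Matrix.map_mul]; simp only [Matrix.mul_assoc]
        _ = (B : Matrix (Fin n) (Fin n) F)ᵀ * (Yᵀ * τ.mapMatrix A * Y.map σ) * (B : Matrix (Fin n) (Fin n) F).map σ := by
            rw [← hY, Matrix.transpose_mul, Matrix.map_mul]; simp only [Matrix.mul_assoc]
        _ = M := by rw [h1, hM]
    have h3 : X.map σ * Xᵀ = 1 := _root_.mul_eq_one_comm.mp (hone x hx)
    calc M * X.map σ = (X.map σ * Xᵀ) * (M * X.map σ) := by rw [h3, Matrix.one_mul]
      _ = X.map σ * (Xᵀ * M * X.map σ) := by simp only [Matrix.mul_assoc]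
      _ = X.map σ * M := by rw [h2]
  obtain ⟨c, hc⟩ := hN.2 (M.map σ) (by
    rintro _ ⟨x, hx, rfl⟩
    have e := congrArg (fun m : Matrix (Fin n) (Fin n) F => m.map σ) (hMinv x hx)
    simp only [Matrix.map_mul] at e
    have hid : ((x : Matrix (Fin n) (Fin n) F).map σ).map σ = (x : Matrix (Fin n) (Fin n) F) := by
      ext i j; simp [hσ.involutive]
    rw [hid] at e
    exact e)
  have hτA : τ.mapMatrix A = σ c • A := by
    have hM' : M = σ c • (1 : Matrix (Fin n) (Fin n) F) := by
      ext i j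
      have e := congrArg (fun m : Matrix (Fin n) (Fin n) F => σ (m i j)) hc
      simpa [Matrix.map_apply, hσ.involutive, Matrix.one_apply, apply_ite σ] using e
    calc τ.mapMatrix A = ((B : Matrix (Fin n) (Fin n) F) * Bi)ᵀ * τ.mapMatrix A * ((B : Matrix (Fin n) (Fin n) F) * Bi).map σ := by
          rw [hBBi, Matrix.transpose_one, Matrix.one_mul, Matrix.map_one σ (map_zero σ) (map_one σ), Matrix.mul_one]
      _ = Biᵀ * M * Bi.map σ := by rw [hM, Matrix.transpose_mul, Matrix.map_mul]; simp only [Matrix.mul_assoc]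
      _ = σ c • A := by rw [hM', Matrix.mul_smul, Matrix.smul_mul, Matrix.mul_one, hA]
  have hAdet : A.det ≠ 0 := by
    rw [hA, Matrix.det_mul, Matrix.det_transpose]
    have hd : Bi.det ≠ 0 := ((Matrix.isUnit_iff_isUnit_det _).mp (B⁻¹).isUnit).ne_zero
    refine mul_ne_zero hd ?_
    have h := RingHom.map_det (σ : F →+* F) Bi
    rw [RingHom.mapMatrix_apply] at h
    exact fun e => hd (σ.injective (by rw [map_zero]; exact h.trans e))
  have hherm : Aᵀ = A.map σ := by
    rw [hA, Matrix.transpose_mul, Matrix.transpose_transpose, Matrix.map_mul]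
    congr 1
    ext i j; simp [hσ.involutive]
  obtain ⟨i, j, hij⟩ : ∃ i j, A i j ≠ 0 := by
    by_contra h
    push Not at h
    exact hAdet (by rw [show A = 0 from Matrix.ext fun i j => h i j, Matrix.det_zero])
  set a := A i j with ha
  set A₀ := a⁻¹ • A with hA₀
  have hA₀F : ∀ k l, A₀ k l ∈ F₁ := by
    intro k l
    rw [← hτfix]
    have h1 : τ (A k l) = σ c * A k l := congrFun (congrFun hτA k) l
    have h2 : τ a = σ c * a := congrFun (congrFun hτA i) j
    have hc0 : σ c ≠ 0 := fun e => hij ((map_eq_zero τ).mp (by rw [h2, e, zero_mul]))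
    simp only [hA₀, Matrix.smul_apply, smul_eq_mul, map_mul, map_inv₀, h1, h2]
    field_simp
  have hsym : ∀ k l, a * A₀ l k = σ a * σ (A₀ k l) := fun k l => by
    have h := congrFun (congrFun hherm k) l
    rw [Matrix.transpose_apply, Matrix.map_apply] at h
    simp only [hA₀, Matrix.smul_apply, smul_eq_mul, ← map_mul]
    rw [mul_inv_cancel_left₀ hij, mul_inv_cancel_left₀ hij, h]
  have hA₀ij : A₀ i j = 1 := by rw [hA₀, Matrix.smul_apply, smul_eq_mul, ha]; exact inv_mul_cancel₀ hij
  set μ := σ a / a with hμ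
  have hμF : μ ∈ F₁ := by
    have h := hsym i j
    rw [hA₀ij, map_one, mul_one] at h
    have : μ = A₀ j i := by rw [hμ, ← h, mul_div_cancel_left₀ _ hij]
    rw [this]; exact hA₀F j i
  have hμ1 : μ * σ μ = 1 := by
    rw [hμ, map_div₀, hσ.involutive]
    have := (map_ne_zero σ).mpr hij
    rw [div_mul_div_comm, mul_comm a, div_self (mul_ne_zero this hij)]
  have hdet0 : A₀.det ≠ 0 := by
    rw [hA₀, Matrix.det_smul]; exact mul_ne_zero (pow_ne_zero _ (inv_ne_zero hij)) hAdet
  -- building the structure from a suitable element of F₁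
  have finish : ∀ b' ∈ F₁, b' ≠ 0 → σ b' = μ * b' →
      ∃ P : GL (Fin n) F, IsFormRationalStructure (hermForm n F q) F₁ 1 P ∧ H ≤ subfieldSubgroup F₁ P := by
    intro b' hb'F hb'0 hb'
    have hfix : σ (a / b') = a / b' := by
      rw [map_div₀, hb', hμ]; field_simp; exact div_self ((map_ne_zero σ).mpr hij)
    obtain ⟨l, hl0, hl⟩ := hσ.norm_surjective (t := (a / b')⁻¹) (inv_ne_zero (div_ne_zero hij hb'0))
      (by rw [map_inv₀, hfix])
    let S : GL (Fin n) F := Units.map (Matrix.scalar (Fin n) : F →+* Matrix (Fin n) (Fin n) F).toMonoidHom (Units.mk0 l hl0)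
    have hS : ∀ u : Fin n → F, ((B⁻¹ * S : GL (Fin n) F) : Matrix (Fin n) (Fin n) F) *ᵥ u = l • (Bi *ᵥ u) := fun u => by
      rw [gl_mul_mulVec]
      have : (S : Matrix (Fin n) (Fin n) F) *ᵥ u = l • u := by ext k; simp [S, Matrix.mulVec_diagonal]
      rw [this, Matrix.mulVec_smul, hBi]
    refine ⟨B⁻¹ * S, fun u v hu hv => ?_, fun g hg => ?_⟩
    · have hsf := semiForm_of_unitary (hσ.isUnitaryForm (n := n))
      have hval : hermForm n F q (Bi *ᵥ u) (Bi *ᵥ v) = ∑ k, ∑ m, u k * A k m * σ (v m) := by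
        have h1 : hermForm n F q (Bi *ᵥ u) (Bi *ᵥ v) = u ⬝ᵥ (A *ᵥ (σ ∘ v)) := by
          rw [hσ.hermForm_eq, hA, ← Matrix.mulVec_mulVec, Matrix.dotProduct_mulVec, Matrix.vecMul_transpose]
          exact Finset.sum_congr rfl fun t _ => congrArg _ (RingHom.map_mulVec (σ : F →+* F) Bi v t)
        rw [h1]
        simp only [dotProduct, Matrix.mulVec, Finset.mul_sum, Function.comp_apply, mul_assoc]
      rw [one_mul, hS, hS, hsf.smul_left, hsf.smul_right, ← mul_assoc, hl, hval, Finset.mul_sum]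
      refine sum_mem fun k _ => ?_
      rw [Finset.mul_sum]
      refine sum_mem fun m _ => ?_
      have : (a / b')⁻¹ * (u k * A k m * σ (v m)) = b' * (u k * A₀ k m * σ (v m)) := by
        simp only [hA₀, Matrix.smul_apply, smul_eq_mul]; field_simp
      rw [this]
      exact mul_mem hb'F (mul_mem (mul_mem (hu k) (hA₀F k m)) (hσF _ (hv m)))
    · rw [mem_subfieldSubgroup, show (B⁻¹ * S)⁻¹ * g * (B⁻¹ * S) = S⁻¹ * (B * g * B⁻¹) * S by group]
      have hSs : S ∈ scalars (Fin n) F := ⟨_, rfl⟩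
      exact mul_mem (mul_mem (Subgroup.mem_sup_right (inv_mem hSs))
        (mem_range_sup_scalars_of_normalizes hN hBN (hnorm g hg))) (Subgroup.mem_sup_right hSs)
  rcases hr.eq_two_or_odd' with rfl | hrodd
  · right
    have hq0 : Nat.card F₁ = q := (Nat.pow_left_injective two_ne_zero (hσ.card.symm.trans hcard)).symm
    have hσfix : ∀ y ∈ F₁, σ y = y := fun y hy => by
      rw [hσ.apply_eq, ← hq0]
      have := (hiff y).mp hy
      rwa [← hb1] at this
    have hA₀σ : ∀ k l, A₀ l k = μ * A₀ k l := fun k l => by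
      have h := hsym k l
      rw [hσfix _ (hA₀F k l)] at h
      rw [hμ]; field_simp; linear_combination h
    have hμs : μ = 1 ∨ μ = -1 := by
      have h := hμ1
      rw [hσfix μ hμF] at h
      exact mul_self_eq_one_iff.mp h
    have h2 : (2 : F) ≠ 0 := by
      intro h2
      have hμ1' : μ = 1 := hμs.elim id fun e => by rw [e]; linear_combination -h2
      haveI : CharP F 2 := by
        have : p = 2 := (Nat.prime_dvd_prime_iff_eq hp Nat.prime_two).mp
          ((CharP.cast_eq_zero_iff F p 2).mp (by exact_mod_cast h2))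
        exact this ▸ hchar
      haveI : ExpChar F 2 := ExpChar.prime Nat.prime_two
      have hsymm : ∀ k l, A₀ l k = A₀ k l := fun k l => by rw [hA₀σ k l, hμ1', one_mul]
      choose s hs using fun k => (surjective_frobenius F 2 : Function.Surjective (frobenius F 2)) (A₀ k k)
      let φ : (Fin n → F) →ₗ[F] F := ∑ k, s k • LinearMap.proj k
      have hφ : ∀ u, φ u * φ u = u ⬝ᵥ (A₀ *ᵥ u) := by
        intro u
        have hsq : φ u * φ u = ∑ k, (s k * u k) ^ 2 := by
          rw [← sq]
          simp only [φ, LinearMap.sum_apply, LinearMap.smul_apply, LinearMap.proj_apply, smul_eq_mul]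
          exact map_sum (frobenius F 2) _ _
        rw [hsq]
        simp only [dotProduct, Matrix.mulVec, Finset.mul_sum]
        rw [← Fintype.sum_prod_type', ← Finset.sum_filter_add_sum_filter_not Finset.univ (fun x : Fin n × Fin n => x.1 = x.2)]
        have hoff : ∑ x ∈ Finset.univ.filter (fun x : Fin n × Fin n => ¬ x.1 = x.2), u x.1 * (A₀ x.1 x.2 * u x.2) = 0 := by
          refine Finset.sum_involution (fun x _ => x.swap) (fun x _ => ?_) (fun x hx _ e => ?_) (fun x hx => ?_) (fun x _ => Prod.swap_swap x)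
          · simp only [Prod.fst_swap, Prod.snd_swap, hsymm x.1 x.2]
            linear_combination (u x.1 * u x.2 * A₀ x.1 x.2) * h2
          · exact (Finset.mem_filter.mp hx).2 (by simpa using (congrArg Prod.snd e))
          · simpa [eq_comm] using (Finset.mem_filter.mp hx).2
        rw [hoff, add_zero]
        refine Finset.sum_nbij' (fun k => (k, k)) Prod.fst (by simp) (by simp) (by simp) (fun x hx => ?_) (fun k _ => ?_)
        · simp at hx; exact Prod.ext rfl hx
        · have e : (s k) ^ 2 = A₀ k k := hs k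
          rw [← e]; ring
      by_cases hφ0 : φ = 0
      · refine hdet0 (det_eq_zero_of_alternating_of_odd (by simpa using hodd) A₀ (fun k l => ?_) fun k => ?_)
        · rw [hsymm, eq_neg_iff_add_eq_zero, ← two_mul, h2, zero_mul]
        · have h := hφ (Pi.single k 1)
          rw [hφ0] at h
          simpa using h.symm
      let W := (LinearMap.ker φ).comap (Matrix.toLin' (B : Matrix (Fin n) (Fin n) F))
      have hWinv : ∀ g ∈ N, ∀ w ∈ W, (g : Matrix (Fin n) (Fin n) F) *ᵥ w ∈ W := by
        intro g hg w hw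
        simp only [W, Submodule.mem_comap, Matrix.toLin'_apply, LinearMap.mem_ker] at hw ⊢
        set Y := ((B * g * B⁻¹ : GL (Fin n) F) : Matrix (Fin n) (Fin n) F)
        have hY : (B : Matrix (Fin n) (Fin n) F) *ᵥ ((g : Matrix (Fin n) (Fin n) F) *ᵥ w) = Y *ᵥ ((B : Matrix (Fin n) (Fin n) F) *ᵥ w) := by
          rw [← gl_mul_mulVec, ← gl_mul_mulVec, inv_mul_cancel_right]
        have hYA : Yᵀ * A₀ * Y = A₀ := by
          have hYσ : Y.map σ = Y := by ext k l; exact hσfix _ (hBN g hg k l)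
          rw [hA₀, Matrix.mul_smul, Matrix.smul_mul]
          congr 1
          have := hinv g hg
          rwa [hYσ] at this
        rw [hY]
        generalize (B : Matrix (Fin n) (Fin n) F) *ᵥ w = v at hw ⊢
        have e' : (Y *ᵥ v) ⬝ᵥ (A₀ *ᵥ (Y *ᵥ v)) = v ⬝ᵥ (A₀ *ᵥ v) := by
          conv_rhs => rw [← hYA]
          rw [Matrix.mul_assoc, ← Matrix.mulVec_mulVec v Yᵀ, Matrix.dotProduct_mulVec v Yᵀ, Matrix.vecMul_transpose,
            Matrix.mulVec_mulVec]
        have e'' := hφ (Y *ᵥ v)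
        rw [e', ← hφ v, hw, mul_zero] at e''
        exact mul_self_eq_zero.mp e''
      rcases hN.1 W (fun s' ⟨g, hg, e⟩ => e ▸ map_toLin'_le.mpr (hWinv g hg)) with h | h
      · have hk : 0 < Module.finrank F (LinearMap.ker φ) := by
          have h := φ.finrank_range_add_finrank_ker
          have h' := Submodule.finrank_le (LinearMap.range φ)
          rw [Module.finrank_self] at h'
          rw [Module.finrank_fintype_fun_eq_card, Fintype.card_fin] at h
          omega
        obtain ⟨v, hv, hv0⟩ := Submodule.exists_mem_ne_zero_of_ne_bot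
          (fun e => by rw [e, finrank_bot] at hk; exact lt_irrefl 0 hk : LinearMap.ker φ ≠ ⊥)
        have hmem : Bi *ᵥ v ∈ W := by simpa [W, Matrix.mulVec_mulVec, hBBi] using hv
        rw [h, Submodule.mem_bot] at hmem
        exact hv0 (gl_mulVec_injective B⁻¹ (hmem.trans (Matrix.mulVec_zero _).symm))
      · apply hφ0
        refine LinearMap.ext fun v => ?_
        have : Bi *ᵥ v ∈ W := h ▸ Submodule.mem_top
        simpa [W, Matrix.mulVec_mulVec, hBBi] using this
    have hqodd : Odd q := by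
      have hF : Odd (Fintype.card F) := Nat.odd_iff.mpr (FiniteField.odd_card_of_char_ne_two (F := F) fun h => h2 (by
        haveI := ringChar.charP F
        exact_mod_cast (CharP.cast_eq_zero_iff F (ringChar F) 2).mpr (by rw [h])))
      rw [hσ.card] at hF
      exact (Nat.odd_pow_iff two_ne_zero).mp hF
    have hμ1' : μ = 1 := by
      refine hμs.resolve_right fun hm => hdet0 ?_
      refine det_eq_zero_of_alternating_of_odd (by simpa using hodd) A₀ (fun k l => ?_) fun k => ?_
      · rw [hA₀σ k l, hm, neg_one_mul]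
      · have := hA₀σ k k
        rw [hm] at this
        exact (mul_eq_zero.mp (show (2 : F) * A₀ k k = 0 by linear_combination this)).resolve_left h2
    obtain ⟨P, hP1, hP2⟩ := finish 1 (one_mem _) one_ne_zero (by rw [map_one, hμ1', one_mul])
    exact ⟨hqodd, F₁, P, hcard, hP1, hP2⟩
  · left
    obtain ⟨b', hb'F, hb'0, hb'⟩ := hσ.scalar_skew hμF hμ1 (fun _ _ => by
      by_contra hall
      push Not at hall
      -- a fixed field of index two would contain F₁
      let F₂ : Subfield F := (σ : F →+* F).eqLocusField (RingHom.id F)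
      have h12 : F₁ ≤ F₂ := fun y hy => hall y hy
      letI : Algebra F₁ F₂ := (Subfield.inclusion h12).toAlgebra
      have hF₂ : Nat.card F₂ = q := by
        obtain ⟨p', e', σ', hp', hchar', hq', he', -⟩ := exists_usigma hσ.card
        haveI := hchar'
        subst hq'
        have hce' : Fintype.card F = p' ^ (e' * 2) := by rw [hσ.card, pow_mul]
        rw [← card_pow_fixed hp' hce' ⟨2, rfl⟩ he']
        exact Nat.card_congr (Equiv.subtypeEquivRight fun z => by
          change σ z = z ↔ _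
          rw [hσ.apply_eq])
      have hdeg := Module.natCard_eq_pow_finrank (K := F₁) (V := F₂)
      rw [hF₂] at hdeg
      set m := Module.finrank F₁ F₂
      have h' : Nat.card F₁ ^ r = Nat.card F₁ ^ (m * 2) := by rw [← hcard, hσ.card, hdeg, ← pow_mul]
      have := Nat.pow_right_injective (show 2 ≤ Nat.card F₁ by rw [Nat.card_eq_fintype_card]; exact Fintype.one_lt_card) h'
      exact (Nat.not_odd_iff_even.mpr ⟨m, by omega⟩) hrodd)
    obtain ⟨P, hP1, hP2⟩ := finish b' hb'F hb'0 hb'
    exact ⟨F₁, r, P, hr, hrodd, hcard, hP1, hP2⟩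

/-- A quadratic form fixed by a group of unitary matrices gives a realisation over the fixed field. -/
theorem IsUSigma.no_quadratic (hodd : Odd n) {P : Subgroup (GL (Fin n) F)} (hPG : P ≤ GU n F q)
    (hP : ActsAbsolutelyIrreducibly (matrixSet P))
    (hreal : ∀ F₀ : Subfield F, F₀ ≠ ⊤ → ¬ RealisableOver F₀ (matrixSet P)) :
    ¬ ∃ Q : (Fin n → F) → F, IsNondegenerateQuadraticForm Q ∧ FixesQuadForm (matrixSet P) Q := by
  classical
  rintro ⟨Q, hQ, hfix⟩
  set S := gramMatrix (QuadraticMap.polar Q) with hS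
  have hb := semiForm_of_bilinear hQ.polar_bilinear
  have hSu : IsUnit S := (Matrix.isUnit_iff_isUnit_det S).mpr
    (isUnit_iff_ne_zero.mpr (det_gram_ne_zero (RingEquiv.refl F) hb hQ.nondegenerate))
  obtain ⟨u, hu⟩ := hSu
  set C := ((u⁻¹ : (Matrix (Fin n) (Fin n) F)ˣ) : Matrix (Fin n) (Fin n) F) with hC
  have hSC : S * C = 1 := by rw [← hu, hC, u.mul_inv]
  have hCS : C * S = 1 := by rw [← hu, hC, u.inv_mul]
  have hCx : ∀ x ∈ P, C * (x : Matrix (Fin n) (Fin n) F).map σ = (x : Matrix (Fin n) (Fin n) F) * C := by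
    intro x hx
    set X := (x : Matrix (Fin n) (Fin n) F)
    have h1 : Xᵀ * S * X = S := by
      have e : gramMatrix (fun a b => QuadraticMap.polar Q (X *ᵥ a) (X *ᵥ b)) = S :=
        congrArg gramMatrix (funext fun a => funext fun b => quad_fixes_polar hfix _ (coe_mem_matrixSet hx) a b)
      rw [gram_comp (RingEquiv.refl F) hb] at e
      exact e
    have h2 : Xᵀ * X.map σ = 1 := by
      ext i j
      have h := mem_GU_iff.mp (hPG hx) (Pi.single i 1) (Pi.single j 1)
      rw [hσ.hermForm_single, hσ.hermForm_eq, Matrix.mulVec_single_one, Matrix.mulVec_single_one] at h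
      rw [Matrix.mul_apply]
      simp only [Matrix.col_apply] at h
      simp only [Matrix.transpose_apply, Matrix.map_apply]
      rw [h]
      by_cases e : i = j
      · subst e; simp
      · simp [e, Ne.symm e]
    have h3 : X.map σ * Xᵀ = 1 := _root_.mul_eq_one_comm.mp h2
    calc C * X.map σ = C * X.map σ * (S * C) := by rw [hSC, Matrix.mul_one]
      _ = C * (X.map σ * Xᵀ) * S * X * C := by
          conv_lhs => rw [← h1]
          simp only [Matrix.mul_assoc]
      _ = X * C := by rw [h3, Matrix.mul_one, hCS, Matrix.one_mul]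
  have hσσ : ∀ M : Matrix (Fin n) (Fin n) F, (M.map σ).map σ = M := fun M => by ext i j; simp [hσ.involutive]
  obtain ⟨l, hl⟩ := hP.2 (C * C.map σ) (by
    rintro _ ⟨x, hx, rfl⟩
    have h := congrArg (fun m : Matrix (Fin n) (Fin n) F => m.map σ) (hCx x hx)
    simp only [Matrix.map_mul, hσσ] at h
    change C * C.map σ * (x : Matrix (Fin n) (Fin n) F) = _
    rw [Matrix.mul_assoc, h, ← Matrix.mul_assoc, hCx x hx, Matrix.mul_assoc])
  rcases isEmpty_or_nonempty (Fin n) with hne | ⟨⟨i₀⟩⟩
  · obtain ⟨k, hk⟩ := hodd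
    exact hne.false ⟨0, by omega⟩
  have hl0 : l ≠ 0 := by
    intro e
    rw [e, zero_smul] at hl
    have h := congrArg Matrix.det hl
    haveI : Nonempty (Fin n) := ⟨i₀⟩
    rw [Matrix.det_mul, Matrix.det_zero] at h
    rcases mul_eq_zero.mp h with h | h
    · exact (Matrix.isUnit_iff_isUnit_det C).mp (u⁻¹).isUnit |>.ne_zero h
    · have h' := RingHom.map_det (σ : F →+* F) C
      rw [RingHom.mapMatrix_apply] at h'
      exact (Matrix.isUnit_iff_isUnit_det C).mp (u⁻¹).isUnit |>.ne_zero (σ.injective (by rw [map_zero]; exact h'.trans h))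
  have hlfix : σ l = l := by
    have e1 := congrArg (fun m : Matrix (Fin n) (Fin n) F => m.map σ) hl
    simp only [Matrix.map_mul, hσσ] at e1
    have e2 : C * C.map σ * C = C * (C.map σ * C) := Matrix.mul_assoc _ _ _
    rw [hl, e1, Matrix.smul_mul, Matrix.one_mul] at e2
    have e3 := congrArg (· * S) e2
    simp only [Matrix.smul_mul, hCS, Matrix.mul_assoc] at e3
    have e4 := congrFun (congrFun e3 i₀) i₀
    rw [show (((l • (1 : Matrix (Fin n) (Fin n) F)).map σ) * S) = σ l • S by
      ext a b; simp [Matrix.mul_apply, Matrix.map_apply, Matrix.one_apply, apply_ite σ]] at e4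
    rw [Matrix.mul_smul, hCS] at e4
    simpa using e4.symm
  obtain ⟨s, hs0, hs⟩ := hσ.norm_surjective (t := l⁻¹) (inv_ne_zero hl0) (by rw [map_inv₀, hlfix])
  obtain ⟨B, hB⟩ := hσ.hilbert90 (C := s • C) (by
    rw [show (s • C).map σ = σ s • C.map σ by ext a b; simp, Matrix.smul_mul, Matrix.mul_smul, smul_smul, hl, smul_smul,
      hs, inv_mul_cancel₀ hl0, one_smul])
  apply hreal ((σ : F →+* F).eqLocusField (RingHom.id F))
  · intro h
    refine hσ.ne_refl (RingEquiv.ext fun z => ?_)
    have : z ∈ (σ : F →+* F).eqLocusField (RingHom.id F) := h ▸ Subfield.mem_top z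
    exact this
  refine ⟨B⁻¹, ?_⟩
  rintro _ ⟨x, hx, rfl⟩ i j
  rw [inv_inv]
  set X := (x : Matrix (Fin n) (Fin n) F)
  set Bm := (B : Matrix (Fin n) (Fin n) F) with hBm
  set Bi := ((B⁻¹ : GL (Fin n) F) : Matrix (Fin n) (Fin n) F)
  have hBiB : Bi * Bm = 1 := B.inv_mul
  have hfixm : (Bi * X * Bm).map σ = Bi * X * Bm := by
    have h1 : Bi.map σ * Bm.map σ = 1 := by
      rw [← Matrix.map_mul, hBiB, Matrix.map_one σ (map_zero σ) (map_one σ)]
    have h2 : Bi.map σ = Bi * (s • C) := by
      calc Bi.map σ = Bi * Bm * Bi.map σ := by rw [hBiB, Matrix.one_mul]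
        _ = Bi * (s • C) * (Bm.map σ * Bi.map σ) := by
            rw [show Bi * Bm = Bi * ((s • C) * Bm.map σ) by rw [hBm, hB]]
            simp only [Matrix.mul_assoc]
        _ = Bi * (s • C) := by rw [_root_.mul_eq_one_comm.mp h1, Matrix.mul_one]
    have h3 : (s • C) * X.map σ = X * (s • C) := by rw [Matrix.smul_mul, hCx x hx, Matrix.mul_smul]
    rw [Matrix.map_mul, Matrix.map_mul, h2, Matrix.mul_assoc Bi, h3, ← Matrix.mul_assoc Bi, Matrix.mul_assoc (Bi * X),
      hB]
  exact congrFun (congrFun hfixm i) j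

end Cfsg.Agent.Classical
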