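/-
A normal absolutely irreducible group of isometries realised over a proper subfield.
-/
import Cfsg.Agent.Lib.Classical.SesqForm
import Cfsg.Agent.Lib.Classical.Subfield
import Cfsg.Agent.Lib.Classical.UnitaryPrime
import Cfsg.Agent.Lib.Classical.SymplecticType
import Cfsg.Agent.Lib.Classical.LinOutcome

set_option autoImplicit false
set_option linter.style.haveILetI false

namespace Cfsg.Agent.Classical

open Matrix Cfsg.Geo

variable {ι : Type} [Fintype ι] [DecidableEq ι] {F : Type*} [Field F]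
variable {σ : F ≃+* F} {ε : F} {f : (ι → F) → (ι → F) → F}

/-- A rational structure with the Gram matrix a multiple of a rational one. -/
structure SubfieldGram (σ : F ≃+* F) (ε : F) (f : (ι → F) → (ι → F) → F) (H N : Subgroup (GL ι F))
    (F₁ : Subfield F) (B : GL ι F) (a : F) (A₀ : Matrix ι ι F) : Prop where
  ne_zero : a ≠ 0
  entries : ∀ k l, A₀ k l ∈ F₁
  det_ne_zero : A₀.det ≠ 0
  map_mem : ∀ y ∈ F₁, σ y ∈ F₁
  gram : ∀ u v, f (((B⁻¹ : GL ι F) : Matrix ι ι F) *ᵥ u) (((B⁻¹ : GL ι F) : Matrix ι ι F) *ᵥ v) =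
    a * (u ⬝ᵥ (A₀ *ᵥ (σ ∘ v)))
  symm : ∀ k l, a * A₀ l k = ε * σ a * σ (A₀ k l)
  one_entry : ∃ i j, A₀ i j = 1
  rational : ∀ x ∈ N, ∀ k l, ((B * x * B⁻¹ : GL ι F) : Matrix ι ι F) k l ∈ F₁
  invariant : ∀ x ∈ N, ((B * x * B⁻¹ : GL ι F) : Matrix ι ι F)ᵀ * A₀ *
    ((B * x * B⁻¹ : GL ι F) : Matrix ι ι F).map σ = A₀
  le : H ≤ subfieldSubgroup F₁ B⁻¹

/-- Changing the basis of a subfield group by a scalar. -/
theorem subfieldSubgroup_le_mul_scalar (F₁ : Subfield F) (P : GL ι F) {s : GL ι F} (hs : s ∈ scalars ι F) :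
    subfieldSubgroup F₁ P ≤ subfieldSubgroup F₁ (P * s) := by
  intro g hg
  rw [mem_subfieldSubgroup] at hg ⊢
  rw [show (P * s)⁻¹ * g * (P * s) = s⁻¹ * (P⁻¹ * g * P) * s by group]
  exact mul_mem (mul_mem (Subgroup.mem_sup_right (inv_mem hs)) hg) (Subgroup.mem_sup_right hs)

theorem IsReflexForm.subfield_gram [Fintype F] [Nonempty ι] (hf : IsReflexForm σ ε f) {H N : Subgroup (GL ι F)}
    (hn : NormalIn H N) (hN : ActsAbsolutelyIrreducibly (matrixSet N)) (hfix : FixesForm (matrixSet N) f)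
    {F₀ : Subfield F} (h0 : F₀ ≠ ⊤) (hreal : RealisableOver F₀ (matrixSet N)) :
    ∃ (F₁ : Subfield F) (r : ℕ) (B : GL ι F) (a : F) (A₀ : Matrix ι ι F), r.Prime ∧
      Fintype.card F = Nat.card F₁ ^ r ∧ SubfieldGram σ ε f H N F₁ B a A₀ := by
  classical
  obtain ⟨F₁, r, hr, hcard, hle, -⟩ := exists_prime_index_subfield F₀ h0
  obtain ⟨B, hB⟩ := hreal
  have hBN : ∀ x ∈ N, ∀ i j, ((B * x * B⁻¹ : GL ι F) : Matrix ι ι F) i j ∈ F₁ := fun x hx i j =>
    hle (by simpa using hB _ (coe_mem_matrixSet hx) i j)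
  set Bi := ((B⁻¹ : GL ι F) : Matrix ι ι F) with hBi
  set G := gramMatrix f with hG
  obtain ⟨A, hA⟩ : ∃ A : Matrix ι ι F, A = Biᵀ * G * Bi.map σ := ⟨_, rfl⟩
  obtain ⟨p, hchar⟩ := CharP.exists F
  obtain ⟨⟨e, he⟩, hp, hce⟩ := FiniteField.card F p
  change Fintype.card F = p ^ e at hce
  obtain ⟨b, hb, -, -, hiff⟩ := subfield_card_eq hp hce F₁
  haveI : ExpChar F p := ExpChar.prime hp
  set τ := iterateFrobenius F p b with hτ
  have hτfix : ∀ y, τ y = y ↔ y ∈ F₁ := fun y => by rw [hiff, hτ, iterateFrobenius_def]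
  have hσF : ∀ y ∈ F₁, σ y ∈ F₁ := fun y hy => by
    rw [hiff] at hy ⊢
    rw [← map_pow, hy]
  have hσσ : ∀ M : Matrix ι ι F, (M.map σ).map σ = M := hf.map_map
  have hBiu : IsUnit (Bi.map σ) := (B⁻¹).isUnit.map (RingHom.mapMatrix (σ : F →+* F))
  have hTu : IsUnit Biᵀ := (Matrix.isUnit_iff_isUnit_det _).mpr (by
    rw [Matrix.det_transpose]; exact (Matrix.isUnit_iff_isUnit_det _).mp (B⁻¹).isUnit)
  have hAu : IsUnit A := hA ▸ (hTu.mul hf.gram_isUnit).mul hBiu
  have hinv : ∀ x ∈ N, ((B * x * B⁻¹ : GL ι F) : Matrix ι ι F)ᵀ * A *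
      ((B * x * B⁻¹ : GL ι F) : Matrix ι ι F).map σ = A := by
    intro x hx
    set X := (x : Matrix ι ι F)
    set Y := ((B * x * B⁻¹ : GL ι F) : Matrix ι ι F)
    have hY : Bi * Y = X * Bi := by
      simp only [Y, X, Units.val_mul, ← hBi]
      rw [← Matrix.mul_assoc, ← Matrix.mul_assoc, hBi, Units.inv_mul, Matrix.one_mul]
    have h1 : Xᵀ * G * X.map σ = G := by
      rw [hG, ← gram_comp σ hf.semi]
      exact congrArg gramMatrix (funext fun u => funext fun v => hfix _ (coe_mem_matrixSet hx) u v)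
    calc Yᵀ * A * Y.map σ = (Bi * Y)ᵀ * G * (Bi * Y).map σ := by
          rw [Matrix.transpose_mul, Matrix.map_mul, hA]; simp only [Matrix.mul_assoc]
      _ = Biᵀ * (Xᵀ * G * X.map σ) * Bi.map σ := by
          rw [hY, Matrix.transpose_mul, Matrix.map_mul]; simp only [Matrix.mul_assoc]
      _ = A := by rw [h1, ← hA]
  obtain ⟨u, hu⟩ := hAu
  set D := ((u⁻¹ : (Matrix ι ι F)ˣ) : Matrix ι ι F) * τ.mapMatrix A with hD
  have hAD : A * D = τ.mapMatrix A := by rw [hD, ← Matrix.mul_assoc, ← hu, Units.mul_inv, Matrix.one_mul]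
  have hcomm : ∀ x ∈ N, D * ((B * x * B⁻¹ : GL ι F) : Matrix ι ι F).map σ =
      ((B * x * B⁻¹ : GL ι F) : Matrix ι ι F).map σ * D := by
    intro x hx
    set Y := ((B * x * B⁻¹ : GL ι F) : Matrix ι ι F) with hY
    have h2 : Yᵀ * τ.mapMatrix A * Y.map σ = τ.mapMatrix A := by
      have := congrArg τ.mapMatrix (hinv x hx)
      rwa [map_mul, map_mul, show τ.mapMatrix Yᵀ = Yᵀ from by ext i j; exact (hτfix _).mpr (hBN x hx j i),
        show τ.mapMatrix (Y.map σ) = Y.map σ from by ext i j; exact (hτfix _).mpr (hσF _ (hBN x hx i j))] at this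
    have hYu : IsUnit Yᵀ := (Matrix.isUnit_iff_isUnit_det _).mpr (by
      rw [Matrix.det_transpose]; exact (Matrix.isUnit_iff_isUnit_det _).mp (B * x * B⁻¹).isUnit)
    refine (hu ▸ u.isUnit : IsUnit A).mul_left_cancel (hYu.mul_left_cancel ?_)
    calc Yᵀ * (A * (D * Y.map σ)) = Yᵀ * (A * D) * Y.map σ := by simp only [Matrix.mul_assoc]
      _ = A * D := by rw [hAD, h2]
      _ = Yᵀ * A * Y.map σ * D := by rw [hinv x hx]
      _ = Yᵀ * (A * (Y.map σ * D)) := by simp only [Matrix.mul_assoc]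
  obtain ⟨l, hl⟩ := hN.2 (Bi * D.map σ * (B : Matrix ι ι F)) (by
    rintro _ ⟨x, hx, rfl⟩
    have h := congrArg (fun M : Matrix ι ι F => M.map σ) (hcomm x hx)
    simp only [Matrix.map_mul, hσσ] at h
    have h' := congrArg (fun M => Bi * M * (B : Matrix ι ι F)) h
    simp only [Units.val_mul, ← hBi, Matrix.mul_assoc] at h'
    simp only [hBi, Units.inv_mul, Matrix.mul_one] at h'
    rw [← Matrix.mul_assoc ((B⁻¹ : GL ι F) : Matrix ι ι F) (B : Matrix ι ι F), Units.inv_mul, Matrix.one_mul] at h'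
    simp only [hBi, Matrix.mul_assoc]
    exact h')
  have hτA : τ.mapMatrix A = σ l • A := by
    have h1 : D.map σ = l • (1 : Matrix ι ι F) := by
      calc D.map σ = (B : Matrix ι ι F) * (Bi * D.map σ * (B : Matrix ι ι F)) * Bi := by
            simp only [Matrix.mul_assoc, hBi, Units.mul_inv, Matrix.mul_one]
            rw [← Matrix.mul_assoc (B : Matrix ι ι F), Units.mul_inv, Matrix.one_mul]
        _ = l • 1 := by rw [hl, Matrix.mul_smul, Matrix.mul_one, Matrix.smul_mul, hBi, Units.mul_inv]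
    have h2 : D = σ l • (1 : Matrix ι ι F) := by
      rw [← hσσ D, h1]
      ext i j
      simp [Matrix.one_apply, apply_ite σ]
    rw [← hAD, h2, Matrix.mul_smul, Matrix.mul_one]
  have hA0 : A.det ≠ 0 := ((Matrix.isUnit_iff_isUnit_det A).mp (hu ▸ u.isUnit)).ne_zero
  obtain ⟨i, j, hij⟩ : ∃ i j, A i j ≠ 0 := by
    by_contra hcon
    push Not at hcon
    exact hA0 (by rw [show A = 0 from Matrix.ext hcon]; exact Matrix.det_zero)
  have hl0 : σ l ≠ 0 := fun h => by
    have h1 := congrFun (congrFun hτA i) j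
    rw [RingHom.mapMatrix_apply, Matrix.map_apply, Matrix.smul_apply, h, zero_smul, map_eq_zero] at h1
    exact hij h1
  obtain ⟨A₀, hA₀⟩ : ∃ A₀ : Matrix ι ι F, A₀ = (A i j)⁻¹ • A := ⟨_, rfl⟩
  have hAA₀ : A = A i j • A₀ := by rw [hA₀, smul_smul, mul_inv_cancel₀ hij, one_smul]
  have hA₀F : ∀ k m, A₀ k m ∈ F₁ := fun k m => by
    have e : ∀ k m, τ (A k m) = σ l * A k m := fun k m => congrFun (congrFun hτA k) m
    rw [← hτfix, hA₀, Matrix.smul_apply, smul_eq_mul, map_mul, map_inv₀, e, e]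
    field_simp
  have hsymm : ∀ k m, A m k = ε * σ (A k m) := by
    have hGs : G.map σ = G.map σ := rfl
    intro k m
    have e : ∀ k m, A k m = f (Bi *ᵥ Pi.single k 1) (Bi *ᵥ Pi.single m 1) := fun k m => by
      rw [hA, hG, ← gram_comp σ hf.semi]; rfl
    rw [e, e, ← hf.swap]
  refine ⟨F₁, r, B, A i j, A₀, hr, hcard, hij, hA₀F, ?_, hσF, fun u v => ?_, fun k m => ?_,
    ⟨i, j, by rw [hA₀, Matrix.smul_apply, smul_eq_mul, inv_mul_cancel₀ hij]⟩, hBN, fun x hx => ?_, fun g hg => ?_⟩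
  · rw [hA₀, Matrix.det_smul]; exact mul_ne_zero (pow_ne_zero _ (inv_ne_zero hij)) hA0
  · change (fun a b => f (Bi *ᵥ a) (Bi *ᵥ b)) u v = _
    refine (semiForm_apply σ (hf.semi.comp_mulVec Bi) u v).trans ?_
    rw [gram_comp σ hf.semi, ← hG, ← hA]
    conv_lhs => rw [hAA₀]
    rw [Matrix.smul_mulVec, dotProduct_smul, smul_eq_mul]
  · have h := hsymm k m
    rw [hAA₀] at h
    simp only [Matrix.smul_apply, smul_eq_mul, map_mul] at h
    rw [h, mul_assoc]
  · rw [hA₀, Matrix.mul_smul, Matrix.smul_mul, hinv x hx]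
  · rw [mem_subfieldSubgroup, inv_inv]
    exact mem_range_sup_scalars_of_normalizes hN hBN (hn g hg)

namespace SubfieldGram

variable {H N : Subgroup (GL ι F)} {F₁ : Subfield F} {B : GL ι F} {a : F} {A₀ : Matrix ι ι F}

theorem rational_of_mem (hS : SubfieldGram σ ε f H N F₁ B a A₀) {ζ : F} (hζ : ζ * a ∈ F₁) :
    IsFormRationalStructure f F₁ ζ B⁻¹ := fun u v hu hv => by
  rw [hS.gram, ← mul_assoc]
  exact mul_mem hζ (sum_mem fun k _ => mul_mem (hu k) (sum_mem fun m _ =>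
    mul_mem (hS.entries k m) (hS.map_mem _ (hv m))))

theorem rational_scaled (hf : IsReflexForm σ ε f) (hS : SubfieldGram σ ε f H N F₁ B a A₀) {ζ : F} {l : Fˣ}
    (hl : ζ * ((l : F) * σ l) * a ∈ F₁) :
    IsFormRationalStructure f F₁ ζ (B⁻¹ * scalarGL ι F l) := fun u v hu hv => by
  have hs : ∀ w : ι → F, ((B⁻¹ * scalarGL ι F l : GL ι F) : Matrix ι ι F) *ᵥ w =
      (l : F) • (((B⁻¹ : GL ι F) : Matrix ι ι F) *ᵥ w) := fun w => by
    rw [gl_mul_mulVec, scalarGL_coe, Matrix.smul_mulVec, Matrix.one_mulVec, Matrix.mulVec_smul]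
  rw [hs, hs, hf.semi.smul_left, hf.semi.smul_right, hS.gram]
  have e : ζ * ((l : F) * (σ l * (a * (u ⬝ᵥ (A₀ *ᵥ (σ ∘ v)))))) = ζ * ((l : F) * σ l) * a * (u ⬝ᵥ (A₀ *ᵥ (σ ∘ v))) := by ring
  rw [e]
  exact mul_mem hl (sum_mem fun k _ => mul_mem (hu k) (sum_mem fun m _ =>
    mul_mem (hS.entries k m) (hS.map_mem _ (hv m))))

end SubfieldGram

section Unitary

variable {n q : ℕ} [Fintype F] (hσ : IsUSigma q σ)

include hσ

/-- The subfield classes for a unitary form. -/
theorem IsUSigma.subfield_classes (hn2 : 2 ≤ n) {H N : Subgroup (GL (Fin n) F)} (hNG : N ≤ GU n F q)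
    (hnorm : NormalIn H N) (hN : ActsAbsolutelyIrreducibly (matrixSet N)) {F₀ : Subfield F} (h0 : F₀ ≠ ⊤)
    (hreal : RealisableOver F₀ (matrixSet N)) :
    (∃ (F₁ : Subfield F) (r : ℕ) (P : GL (Fin n) F), r.Prime ∧ Odd r ∧ Fintype.card F = Nat.card F₁ ^ r ∧
      IsFormRationalStructure (hermForm n F q) F₁ 1 P ∧ H ≤ subfieldSubgroup F₁ P) ∨
    (Odd q ∧ ∃ (F₁ : Subfield F) (P : GL (Fin n) F), Fintype.card F = Nat.card F₁ ^ 2 ∧
      IsFormRationalStructure (hermForm n F q) F₁ 1 P ∧ H ≤ subfieldSubgroup F₁ P) ∨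
    (∃ (F₁ : Subfield F) (P : GL (Fin n) F) (ζ : F), Even n ∧ Fintype.card F = Nat.card F₁ ^ 2 ∧ ζ ≠ 0 ∧
      ζ + ζ ^ q = 0 ∧ IsFormRationalStructure (hermForm n F q) F₁ ζ P ∧
      (∀ u : Fin n → F, (∀ i, u i ∈ F₁) →
        hermForm n F q ((P : Matrix (Fin n) (Fin n) F) *ᵥ u) ((P : Matrix (Fin n) (Fin n) F) *ᵥ u) = 0) ∧
      H ≤ subfieldSubgroup F₁ P) := by
  classical
  haveI : Nonempty (Fin n) := ⟨⟨0, by omega⟩⟩
  have hf := reflexForm_of_unitary (hσ.isUnitaryForm (n := n))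
  obtain ⟨F₁, r, B, a, A₀, hr, hcard, hS⟩ := hf.subfield_gram hnorm hN (GU_fixes hNG) h0 hreal
  obtain ⟨i, j, hij⟩ := hS.one_entry
  have ha := hS.ne_zero
  have hsa : σ a ≠ 0 := (map_ne_zero σ).mpr ha
  set μ := σ a / a with hμ
  have hμF : μ ∈ F₁ := by
    have h := hS.symm i j
    rw [hij, map_one, mul_one, one_mul] at h
    have : μ = A₀ j i := by rw [hμ, ← h, mul_div_cancel_left₀ _ ha]
    rw [this]; exact hS.entries j i
  have hμ1 : μ * σ μ = 1 := by
    rw [hμ, map_div₀, hσ.involutive, div_mul_div_comm, mul_comm a, div_self (mul_ne_zero hsa ha)]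
  have finish : ∀ b ∈ F₁, b ≠ 0 → σ b = μ * b →
      ∃ P : GL (Fin n) F, IsFormRationalStructure (hermForm n F q) F₁ 1 P ∧ H ≤ subfieldSubgroup F₁ P := by
    intro b hbF hb0 hb
    have hfix : σ (a / b) = a / b := by
      rw [map_div₀, hb, hμ]; field_simp
    obtain ⟨l, hl0, hl⟩ := hσ.norm_surjective (t := (a / b)⁻¹) (inv_ne_zero (div_ne_zero ha hb0))
      (by rw [map_inv₀, hfix])
    refine ⟨_, hS.rational_scaled hf (ζ := 1) (l := Units.mk0 l hl0) ?_,
      hS.le.trans (subfieldSubgroup_le_mul_scalar F₁ _ (scalarGL_mem _))⟩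
    rw [one_mul, Units.val_mk0, hl, inv_div, div_mul_cancel₀ _ ha]
    exact hbF
  obtain ⟨p, hchar⟩ := CharP.exists F
  obtain ⟨⟨e, he⟩, hp, hce⟩ := FiniteField.card F p
  change Fintype.card F = p ^ e at hce
  obtain ⟨b₁, -, -, hb1, hiff⟩ := subfield_card_eq hp hce F₁
  rcases hr.eq_two_or_odd' with rfl | hrodd
  swap
  · left
    obtain ⟨b', hb'F, hb'0, hb'⟩ := hσ.scalar_skew hμF hμ1 (fun _ _ => by
      by_contra hall
      push Not at hall
      -- a fixed field of index two would contain F₁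
      let F₂ : Subfield F := (σ : F →+* F).eqLocusField (RingHom.id F)
      have h12 : F₁ ≤ F₂ := fun y hy => hall y hy
      letI : Algebra F₁ F₂ := (Subfield.inclusion h12).toAlgebra
      have hF₂ : Nat.card F₂ = q := by
        obtain ⟨p', e', σ', hp', hchar', hq', he', -⟩ := exists_usigma hσ.card
        haveI := hchar'
        subst hq'
        have hce' : Fintype.card F = p' ^ (e' * 2) := by rw [hσ.card, pow_mul]
        rw [← card_pow_fixed hp' hce' ⟨2, rfl⟩ he']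
        exact Nat.card_congr (Equiv.subtypeEquivRight fun z => by
          change σ z = z ↔ _
          rw [hσ.apply_eq])
      have hdeg := Module.natCard_eq_pow_finrank (K := F₁) (V := F₂)
      rw [hF₂] at hdeg
      set m := Module.finrank F₁ F₂
      have h' : Nat.card F₁ ^ r = Nat.card F₁ ^ (m * 2) := by rw [← hcard, hσ.card, hdeg, ← pow_mul]
      have := Nat.pow_right_injective (show 2 ≤ Nat.card F₁ by rw [Nat.card_eq_fintype_card]; exact Fintype.one_lt_card) h'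
      exact (Nat.not_odd_iff_even.mpr ⟨m, by omega⟩) hrodd)
    obtain ⟨P, hP1, hP2⟩ := finish b' hb'F hb'0 hb'
    exact ⟨F₁, r, P, hr, hrodd, hcard, hP1, hP2⟩
  right
  have hq0 : Nat.card F₁ = q := (Nat.pow_left_injective two_ne_zero (hσ.card.symm.trans hcard)).symm
  have hσfix : ∀ y ∈ F₁, σ y = y := fun y hy => by
    rw [hσ.apply_eq, ← hq0]
    have := (hiff y).mp hy
    rwa [← hb1] at this
  have hA₀σ : ∀ k l, A₀ l k = μ * A₀ k l := fun k l => by
    have h := hS.symm k l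
    rw [hσfix _ (hS.entries k l), one_mul] at h
    rw [hμ, div_mul_eq_mul_div, eq_div_iff ha, mul_comm (A₀ l k)]
    exact h
  have hμs : μ = 1 ∨ μ = -1 := by
    have h := hμ1
    rw [hσfix μ hμF] at h
    exact mul_self_eq_one_iff.mp h
  -- the alternating finish
  have alt : (∀ k l, A₀ k l = -A₀ l k) → (∀ k, A₀ k k = 0) → σ a = -a →
      (∃ (P : GL (Fin n) F) (ζ : F), Even n ∧ ζ ≠ 0 ∧ ζ + ζ ^ q = 0 ∧
        IsFormRationalStructure (hermForm n F q) F₁ ζ P ∧
        (∀ u : Fin n → F, (∀ i, u i ∈ F₁) →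
          hermForm n F q ((P : Matrix (Fin n) (Fin n) F) *ᵥ u) ((P : Matrix (Fin n) (Fin n) F) *ᵥ u) = 0) ∧
        H ≤ subfieldSubgroup F₁ P) := by
    intro hskew hdiag hσa
    refine ⟨B⁻¹, a⁻¹, ?_, inv_ne_zero ha, ?_, hS.rational_of_mem (by rw [inv_mul_cancel₀ ha]; exact one_mem _),
      fun u hu => ?_, hS.le⟩
    · by_contra hno
      exact hS.det_ne_zero (det_eq_zero_of_alternating_of_odd (by simpa using Nat.not_even_iff_odd.mp hno) A₀ (fun k l => hskew l k) hdiag)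
    · rw [← hσ.apply_eq, map_inv₀, hσa, inv_neg, add_neg_cancel]
    · rw [hS.gram]
      refine mul_eq_zero_of_right a ?_
      have hσu : (σ : F → F) ∘ u = u := funext fun i => hσfix _ (hu i)
      rw [hσu]
      simp only [dotProduct, Matrix.mulVec, Finset.mul_sum]
      rw [← Fintype.sum_prod_type']
      refine Finset.sum_ninvolution Prod.swap (fun x => ?_) (fun x hx e' => hx ?_) (fun x => Finset.mem_univ _)
        Prod.swap_swap
      · simp only [Prod.fst_swap, Prod.snd_swap, hskew x.1 x.2]; ring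
      · have : x.2 = x.1 := congrArg Prod.fst e'
        rw [this, hdiag, zero_mul, mul_zero]
  by_cases h2 : (2 : F) = 0
  · have hμ1' : μ = 1 := hμs.elim id fun e => by rw [e]; linear_combination -h2
    haveI : CharP F 2 := by
      have : p = 2 := (Nat.prime_dvd_prime_iff_eq hp Nat.prime_two).mp
        ((CharP.cast_eq_zero_iff F p 2).mp (by exact_mod_cast h2))
      exact this ▸ hchar
    haveI : ExpChar F 2 := ExpChar.prime Nat.prime_two
    have hsymm : ∀ k l, A₀ l k = A₀ k l := fun k l => by rw [hA₀σ k l, hμ1', one_mul]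
    have hσa : σ a = -a := by
      have : σ a = a := by
        rw [hμ, div_eq_one_iff_eq ha] at hμ1'
        exact hμ1'
      rw [this]; linear_combination a * h2
    right
    suffices hd : ∀ k, A₀ k k = 0 by
      obtain ⟨P, ζ, h1, h3, h4, h5, h6, h7⟩ := alt (fun k l => by rw [hsymm l k]; linear_combination (A₀ l k) * h2) hd hσa
      exact ⟨F₁, P, ζ, h1, hcard, h3, h4, h5, h6, h7⟩
    by_contra hdiag
    push Not at hdiag
    obtain ⟨k₀, hk₀⟩ := hdiag
    choose s hs using fun k => (surjective_frobenius F 2 : Function.Surjective (frobenius F 2)) (A₀ k k)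
    let φ : (Fin n → F) →ₗ[F] F := ∑ k, s k • LinearMap.proj k
    have hφ : ∀ u, φ u * φ u = u ⬝ᵥ (A₀ *ᵥ u) := by
      intro u
      have hsq : φ u * φ u = ∑ k, (s k * u k) ^ 2 := by
        rw [← sq]
        simp only [φ, LinearMap.sum_apply, LinearMap.smul_apply, LinearMap.proj_apply, smul_eq_mul]
        exact map_sum (frobenius F 2) _ _
      rw [hsq]
      simp only [dotProduct, Matrix.mulVec, Finset.mul_sum]
      rw [← Fintype.sum_prod_type', ← Finset.sum_filter_add_sum_filter_not Finset.univ (fun x : Fin n × Fin n => x.1 = x.2)]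
      have hoff : ∑ x ∈ Finset.univ.filter (fun x : Fin n × Fin n => ¬ x.1 = x.2), u x.1 * (A₀ x.1 x.2 * u x.2) = 0 := by
        refine Finset.sum_involution (fun x _ => x.swap) (fun x _ => ?_) (fun x hx _ e => ?_) (fun x hx => ?_) (fun x _ => Prod.swap_swap x)
        · simp only [Prod.fst_swap, Prod.snd_swap, hsymm x.1 x.2]
          linear_combination (u x.1 * u x.2 * A₀ x.1 x.2) * h2
        · exact (Finset.mem_filter.mp hx).2 (by simpa using (congrArg Prod.snd e))
        · simpa [eq_comm] using (Finset.mem_filter.mp hx).2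
      rw [hoff, add_zero]
      refine Finset.sum_nbij' (fun k => (k, k)) Prod.fst (by simp) (by simp) (by simp) (fun x hx => ?_) (fun k _ => ?_)
      · simp at hx; exact Prod.ext rfl hx
      · have e : (s k) ^ 2 = A₀ k k := hs k
        rw [← e]; ring
    set Bi := ((B⁻¹ : GL (Fin n) F) : Matrix (Fin n) (Fin n) F) with hBi
    let W := (LinearMap.ker φ).comap (Matrix.toLin' (B : Matrix (Fin n) (Fin n) F))
    have hWinv : ∀ g ∈ N, ∀ w ∈ W, (g : Matrix (Fin n) (Fin n) F) *ᵥ w ∈ W := by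
      intro g hg w hw
      simp only [W, Submodule.mem_comap, Matrix.toLin'_apply, LinearMap.mem_ker] at hw ⊢
      set Y := ((B * g * B⁻¹ : GL (Fin n) F) : Matrix (Fin n) (Fin n) F) with hYdef
      have hY : (B : Matrix (Fin n) (Fin n) F) *ᵥ ((g : Matrix (Fin n) (Fin n) F) *ᵥ w) = Y *ᵥ ((B : Matrix (Fin n) (Fin n) F) *ᵥ w) := by
        rw [← gl_mul_mulVec, ← gl_mul_mulVec, inv_mul_cancel_right]
      have hYA : Yᵀ * A₀ * Y = A₀ := by
        have hYσ : Y.map σ = Y := by ext k l; exact hσfix _ (hS.rational g hg k l)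
        have := hS.invariant g hg
        rwa [hYσ] at this
      rw [hY]
      generalize (B : Matrix (Fin n) (Fin n) F) *ᵥ w = v at hw ⊢
      have e' : (Y *ᵥ v) ⬝ᵥ (A₀ *ᵥ (Y *ᵥ v)) = v ⬝ᵥ (A₀ *ᵥ v) := by
        conv_rhs => rw [← hYA]
        rw [Matrix.mul_assoc, ← Matrix.mulVec_mulVec v Yᵀ, Matrix.dotProduct_mulVec v Yᵀ, Matrix.vecMul_transpose,
          Matrix.mulVec_mulVec]
      have e'' := hφ (Y *ᵥ v)
      rw [e', ← hφ v, hw, mul_zero] at e''
      exact mul_self_eq_zero.mp e''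
    rcases hN.1 W (fun s' ⟨g, hg, e⟩ => e ▸ map_toLin'_le.mpr (hWinv g hg)) with h | h
    · have hk : 0 < Module.finrank F (LinearMap.ker φ) := by
        have h := φ.finrank_range_add_finrank_ker
        have h' := Submodule.finrank_le (LinearMap.range φ)
        rw [Module.finrank_self] at h'
        rw [Module.finrank_fintype_fun_eq_card, Fintype.card_fin] at h
        omega
      obtain ⟨v, hv, hv0⟩ := Submodule.exists_mem_ne_zero_of_ne_bot
        (fun e => by rw [e, finrank_bot] at hk; exact lt_irrefl 0 hk : LinearMap.ker φ ≠ ⊥)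
      have hmem : Bi *ᵥ v ∈ W := by simpa [W, hBi, Matrix.mulVec_mulVec] using hv
      rw [h, Submodule.mem_bot] at hmem
      exact hv0 (gl_mulVec_injective B⁻¹ (hmem.trans (Matrix.mulVec_zero _).symm))
    · have hmem : Bi *ᵥ Pi.single k₀ 1 ∈ W := h ▸ Submodule.mem_top
      have h0' : φ (Pi.single k₀ 1) = 0 := by simpa [W, hBi, Matrix.mulVec_mulVec, -Matrix.mulVec_single, -Matrix.mulVec_single_one] using hmem
      have h1 := hφ (Pi.single k₀ 1)
      rw [h0', mul_zero] at h1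
      exact hk₀ (by simpa using h1.symm)
  · rcases hμs with hμ1' | hμ1'
    · left
      have hF : Odd (Fintype.card F) := odd_card_of_two_ne_zero h2
      rw [hσ.card] at hF
      obtain ⟨P, hP1, hP2⟩ := finish 1 (one_mem _) one_ne_zero (by rw [map_one, hμ1', one_mul])
      exact ⟨(Nat.odd_pow_iff two_ne_zero).mp hF, F₁, P, hcard, hP1, hP2⟩
    · right
      obtain ⟨P, ζ, h1, h3, h4, h5, h6, h7⟩ := alt (fun k l => by rw [hA₀σ l k, hμ1', neg_one_mul])
        (fun k => by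
          have := hA₀σ k k
          rw [hμ1'] at this
          exact (mul_eq_zero.mp (show (2 : F) * A₀ k k = 0 by linear_combination this)).resolve_left h2)
        (by rw [hμ, div_eq_iff ha, neg_one_mul] at hμ1'; exact hμ1')
      exact ⟨F₁, P, ζ, h1, hcard, h3, h4, h5, h6, h7⟩

end Unitary

end Cfsg.Agent.Classical
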