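/-
Groups in the stabiliser of a tensor power of a form: basic facts and the subfield structure of a power of a plane.
-/
import Cfsg.Agent.Lib.Classical.FormBasis
import Cfsg.Agent.Lib.Classical.FormTensorQuad
import Cfsg.Agent.Lib.Classical.FormSubfield

set_option autoImplicit false
set_option linter.style.haveILetI false
set_option linter.unusedSectionVars false

namespace Cfsg.Agent.Classical

open Matrix Cfsg.Geo

variable {ι : Type} [Fintype ι] [DecidableEq ι] {F : Type*} [Field F]
variable {σ : F ≃+* F} {ε : F} {f : (ι → F) → (ι → F) → F}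

theorem bilinear_of_semi (h : IsSemiForm (RingEquiv.refl F) f) : IsBilinearForm f :=
  ⟨h.add_left, h.smul_left, h.add_right, fun c v x => h.smul_right c v x⟩

theorem symplectic_of_reflex (h2 : (2 : F) ≠ 0) (hf : IsReflexForm (RingEquiv.refl F) (-1) f) : IsSymplecticForm f := by
  have hskew : ∀ v w, f v w = -f w v := fun v w => by
    have := hf.swap w v
    simpa using this
  refine ⟨bilinear_of_semi hf.semi, hskew, fun v => ?_, hf.nondeg⟩
  exact (mul_eq_zero.mp (show (2 : F) * f v v = 0 by linear_combination hskew v v)).resolve_left h2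

theorem symmetric_of_reflex (hf : IsReflexForm (RingEquiv.refl F) 1 f) : IsSymmetricForm f :=
  ⟨bilinear_of_semi hf.semi, fun u v => by simpa using hf.swap v u, hf.nondeg⟩

theorem gram_symplectic {κ : Type} [Fintype κ] [DecidableEq κ] (h2 : (2 : F) ≠ 0) {G : Matrix κ κ F} (hdet : G.det ≠ 0)
    (hs : ∀ i j, G j i = -G i j) : IsSymplecticForm (gramForm (RingEquiv.refl F) G) :=
  symplectic_of_reflex h2 (gramForm_reflex (fun _ => rfl) hdet fun i j => by simp [hs i j])

theorem gram_symmetric {κ : Type} [Fintype κ] [DecidableEq κ] {G : Matrix κ κ F} (hdet : G.det ≠ 0)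
    (hs : ∀ i j, G j i = G i j) : IsSymmetricForm (gramForm (RingEquiv.refl F) G) :=
  symmetric_of_reflex (gramForm_reflex (fun _ => rfl) hdet fun i j => by simp [hs i j])

section Unitary

variable [Fintype F] {q : ℕ} (hσ : IsUSigma q σ)

include hσ

theorem IsUSigma.coe_eq : (σ : F → F) = fun x => x ^ q := funext hσ.apply_eq

theorem IsUSigma.unitaryPow_of_reflex (hf : IsReflexForm σ 1 f) : IsUnitaryFormPow q f :=
  ⟨hf.semi.add_left, hf.semi.smul_left, fun v w => by rw [← hσ.apply_eq, ← one_mul (σ _), ← hf.swap], hf.nondeg⟩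

theorem IsUSigma.gram_unitaryPow {κ : Type} [Fintype κ] [DecidableEq κ] {G : Matrix κ κ F} (hdet : G.det ≠ 0)
    (hs : ∀ i j, G j i = σ (G i j)) : IsUnitaryFormPow q (gramForm σ G) :=
  hσ.unitaryPow_of_reflex (gramForm_reflex hσ.involutive hdet fun i j => by rw [one_mul]; exact hs i j)

theorem IsUSigma.odd_iff : Odd q ↔ (2 : F) ≠ 0 := by
  refine ⟨fun h => two_ne_zero_of_odd_card (by rw [hσ.card]; exact h.pow), fun h => ?_⟩
  have := odd_card_of_two_ne_zero h
  rw [hσ.card] at this
  exact (Nat.odd_pow_iff two_ne_zero).mp this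

/-- The fixed field. -/
def fixedField (σ : F ≃+* F) : Subfield F := (σ : F →+* F).eqLocusField (RingHom.id F)

omit hσ [Fintype F] in
theorem mem_fixedField {x : F} : x ∈ fixedField σ ↔ σ x = x := Iff.rfl

theorem IsUSigma.card_fixed : Nat.card (fixedField σ) = q := by
  obtain ⟨p', e', σ', hp', hchar', hq', he', -⟩ := exists_usigma hσ.card
  haveI := hchar'
  subst hq'
  have hce' : Fintype.card F = p' ^ (e' * 2) := by rw [hσ.card, pow_mul]
  rw [← card_pow_fixed hp' hce' ⟨2, rfl⟩ he']
  exact Nat.card_congr (Equiv.subtypeEquivRight fun z => by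
    rw [mem_fixedField, hσ.apply_eq])

theorem IsUSigma.card_fixed_sq : Fintype.card F = Nat.card (fixedField σ) ^ 2 := by rw [hσ.card_fixed, hσ.card]

theorem IsUSigma.exists_skew_factor {l : F} (hl : l * σ l = 1) : ∃ b : F, b ≠ 0 ∧ σ b = l * b := by
  obtain ⟨b, -, hb0, hb⟩ := hσ.scalar_skew (F₁ := (⊤ : Subfield F)) (Subfield.mem_top _) hl fun _ _ => by
    by_contra h
    push Not at h
    exact hσ.ne_refl (RingEquiv.ext fun z => h z (Subfield.mem_top _))
  exact ⟨b, hb0, hb⟩

end Unitary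

/-- An element of a subfield group given by a scaled rational matrix. -/
theorem mem_subfieldSubgroup_of_scaled {F₁ : Subfield F} {P g : GL ι F} {ν : F} (hν : ν ≠ 0)
    (h : ∀ i j, ν * ((P⁻¹ * g * P : GL ι F) : Matrix ι ι F) i j ∈ F₁) : g ∈ subfieldSubgroup F₁ P := by
  rw [mem_subfieldSubgroup]
  have e : P⁻¹ * g * P = scalarGL ι F (Units.mk0 ν hν)⁻¹ * (scalarGL ι F (Units.mk0 ν hν) * (P⁻¹ * g * P)) := by
    rw [← mul_assoc, ← map_mul, inv_mul_cancel, map_one, one_mul]
  rw [e]
  refine mul_mem (Subgroup.mem_sup_right (scalarGL_mem _)) (Subgroup.mem_sup_left (mem_range_map_subfield fun i j => ?_))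
  rw [Units.val_mul, scalarGL_coe, Matrix.smul_mul, Matrix.one_mul, Matrix.smul_apply]
  exact h i j

variable {m t : ℕ} {e : ι ≃ (Fin t → Fin m)} {P : GL ι F} {c : F} {G₀ : Matrix (Fin m) (Fin m) F}
  {H : Subgroup (GL ι F)}

/-- An isometry in the stabiliser of a tensor power of a form. -/
theorem power_element (hf : IsReflexForm σ ε f) (hG : gramCoord σ f e P = c • pureM fun _ => G₀) (hc : c ≠ 0)
    (hdet : G₀.det ≠ 0) (hfix : FixesForm (matrixSet H) f) (hle : H ≤ tensorWreathSubgroup m t e P) {g : GL ι F}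
    (hg : g ∈ H) :
    ∃ (π : Equiv.Perm (Fin t)) (A : Fin t → GL (Fin m) F),
      matCoord e P (g : Matrix ι ι F) = factorPermM m F π * pureM (fun i => (A i : Matrix (Fin m) (Fin m) F)) ∧
      ∀ i, ∃ l : F, l ≠ 0 ∧ (A i : Matrix (Fin m) (Fin m) F)ᵀ * G₀ * (A i : Matrix (Fin m) (Fin m) F).map σ = l • G₀ := by
  obtain ⟨π, A, hA⟩ := wreath_normal_form ((mem_conj_reindex_iff e P).mp (hle hg))
  rw [coe_glReindex_conj] at hA
  refine ⟨π, A, hA, fun i => wreath_factor_similitude (π := π) hc
    ((Matrix.isUnit_iff_isUnit_det _).mpr (isUnit_iff_ne_zero.mpr hdet)) ?_ i⟩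
  have h := hf.gramCoord_isometry e P (hfix _ (coe_mem_matrixSet hg))
  rwa [hA, hG] at h

/-- In characteristic two the factor of a power preserved by an irreducible group is alternating. -/
theorem power_diag [Fintype F] (h2 : (2 : F) = 0) (hf : IsReflexForm (RingEquiv.refl F) ε f) (hm : 2 ≤ m) (ht : 0 < t)
    (hG : gramCoord (RingEquiv.refl F) f e P = c • pureM fun _ => G₀) (hc : c ≠ 0) (hdet : G₀.det ≠ 0)
    (hs : ∀ i j, G₀ j i = G₀ i j) (hirr : ActsIrreducibly (matrixSet H)) (hfix : FixesForm (matrixSet H) f)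
    (hle : H ≤ tensorWreathSubgroup m t e P) : ∀ i, G₀ i i = 0 := by
  classical
  intro i₀
  by_contra hi
  obtain ⟨φ, hφ⟩ := exists_sqrt_diag h2 hs
  let s : Fin m → F := fun a => φ (Pi.single a 1)
  have hφs : ∀ u : Fin m → F, φ u = ∑ a, u a * s a := fun u => by
    conv_lhs => rw [pi_eq_sum_univ' u]
    simp [s]
  have hs0 : s i₀ ≠ 0 := fun h => hi (by
    have := hφ (Pi.single i₀ 1)
    rw [show φ (Pi.single i₀ 1) = 0 from h, mul_zero] at this
    simpa using this.symm)
  let S : (Fin t → Fin m) → F := fun x => ∏ i, s (x i)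
  let Φ : (ι → F) →ₗ[F] F :=
    { toFun := fun v => S ⬝ᵥ vecCoord e P v
      map_add' := fun u v => by
        rw [← dotProduct_add]
        congr 1
        funext x
        simp [vecCoord, Matrix.mulVec_add]
      map_smul' := fun a v => by
        rw [RingHom.id_apply, ← dotProduct_smul]
        congr 1
        funext x
        simp [vecCoord, Matrix.mulVec_smul] }
  have hΦne : LinearMap.ker Φ ≠ ⊤ := fun h => by
    obtain ⟨v, hv⟩ := vecCoord_surjective e P (Pi.single (fun _ => i₀) (1 : F))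
    have : Φ v = 0 := LinearMap.mem_ker.mp (h ▸ Submodule.mem_top)
    simp only [Φ, LinearMap.coe_mk, AddHom.coe_mk, hv, dotProduct_single, mul_one, S] at this
    exact hs0 (by simpa [ht.ne'] using this)
  rcases hirr (LinearMap.ker Φ) (by
    rintro _ ⟨g, hg, rfl⟩
    refine map_toLin'_le.mpr fun v hv => ?_
    obtain ⟨π, A, hA, hl⟩ := power_element hf hG hc hdet hfix hle hg
    choose l hl0 hl using hl
    have hr : ∀ i, ∃ r, ∀ u, φ ((A i : Matrix (Fin m) (Fin m) F) *ᵥ u) = r * φ u := fun i => by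
      obtain ⟨r, hr⟩ : ∃ r : F, r * r = l i := by
        obtain ⟨p, hchar⟩ := CharP.exists F
        obtain ⟨⟨a, ha⟩, hp, -⟩ := FiniteField.card F p
        haveI : CharP F 2 := by
          have : p = 2 := (Nat.prime_dvd_prime_iff_eq hp Nat.prime_two).mp
            ((CharP.cast_eq_zero_iff F p 2).mp (by exact_mod_cast h2))
          exact this ▸ hchar
        haveI : ExpChar F 2 := ExpChar.prime Nat.prime_two
        obtain ⟨r, hr⟩ := (surjective_frobenius F 2 : Function.Surjective (frobenius F 2)) (l i)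
        exact ⟨r, by rw [← sq]; exact hr⟩
      refine ⟨r, fun u => ?_⟩
      have h := hφ ((A i : Matrix (Fin m) (Fin m) F) *ᵥ u)
      have e' : ∀ w, ((A i : Matrix (Fin m) (Fin m) F) *ᵥ u) ⬝ᵥ w = u ⬝ᵥ ((A i : Matrix (Fin m) (Fin m) F)ᵀ *ᵥ w) := fun w => by
        rw [Matrix.dotProduct_mulVec, Matrix.vecMul_transpose]
      rw [e', Matrix.mulVec_mulVec, Matrix.mulVec_mulVec,
        show (A i : Matrix (Fin m) (Fin m) F)ᵀ * G₀ * (A i : Matrix (Fin m) (Fin m) F) = l i • G₀ from hl i,
        Matrix.smul_mulVec, dotProduct_smul, ← hφ, smul_eq_mul, ← hr] at h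
      rcases mul_self_eq_mul_self_iff.mp (h.trans (show r * r * (φ u * φ u) = r * φ u * (r * φ u) by ring)) with e1 | e1
      · exact e1
      · rw [e1]; linear_combination -(r * φ u) * h2
    choose r hr using hr
    have hcol : ∀ i a, ∑ b, s b * (A i : Matrix (Fin m) (Fin m) F) b a = r i * s a := fun i a => by
      have := hr i (Pi.single a 1)
      rw [hφs, Matrix.mulVec_single_one] at this
      simpa [mul_comm, s] using this
    change Φ _ = 0
    have key : S ᵥ* matCoord e P (g : Matrix ι ι F) = (∏ i, r i) • S := by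
      funext y
      rw [hA, ← Matrix.vecMul_vecMul]
      have e1 : S ᵥ* factorPermM m F π = S := by
        funext x
        simp only [Matrix.vecMul, dotProduct, factorPermM, Matrix.of_apply, mul_ite, mul_one, mul_zero]
        rw [Finset.sum_eq_single (x ∘ π.symm)]
        · rw [if_pos (by ext; simp)]
          exact Equiv.prod_comp π.symm fun i => s (x i)
        · exact fun z _ hz => if_neg fun e' => hz (by rw [e']; ext; simp)
        · simp
      rw [e1]
      simp only [Matrix.vecMul, dotProduct, pureM, Matrix.of_apply, S, Pi.smul_apply, smul_eq_mul, ← Finset.prod_mul_distrib]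
      exact (Fintype.prod_sum fun i b => s b * (A i : Matrix (Fin m) (Fin m) F) b (y i)).symm.trans
        (Finset.prod_congr rfl fun i _ => hcol i (y i))
    simp only [Φ, LinearMap.coe_mk, AddHom.coe_mk, vecCoord_mulVec, Matrix.dotProduct_mulVec, key, smul_dotProduct]
    rw [show S ⬝ᵥ vecCoord e P v = 0 from hv, smul_zero]) with h | h
  · have h1 := Φ.finrank_range_add_finrank_ker
    have h3 := Submodule.finrank_le (LinearMap.range Φ)
    rw [h, finrank_bot, Module.finrank_fintype_fun_eq_card] at h1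
    rw [Module.finrank_self] at h3
    have : m ≤ m ^ t := Nat.le_self_pow (by omega) m
    have hcard : Fintype.card ι = m ^ t := by rw [Fintype.card_congr e, Fintype.card_fun, Fintype.card_fin, Fintype.card_fin]
    omega
  · exact hΦne h

/-- A tensor power of a hermitian plane carries a rational structure over the fixed field. -/
theorem IsUSigma.power_plane [Fintype F] {q : ℕ} (hσ : IsUSigma q σ) (hf : IsReflexForm σ 1 f) (ht : 1 ≤ t)
    {e : ι ≃ (Fin t → Fin 2)} {G₀ : Matrix (Fin 2) (Fin 2) F}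
    (hG : gramCoord σ f e P = c • pureM fun _ => G₀) (hc : c ≠ 0) (hcs : σ c = c) (hdet : G₀.det ≠ 0)
    (hh : ∀ i j, G₀ j i = σ (G₀ i j)) (hfix : FixesForm (matrixSet H) f) (hle : H ≤ tensorWreathSubgroup 2 t e P) :
    ∃ P' : GL ι F, H ≤ subfieldSubgroup (fixedField σ) P' ∧
      ((Odd q ∧ IsFormRationalStructure f (fixedField σ) 1 P') ∨
        ∃ ζ : F, ζ ≠ 0 ∧ ζ + ζ ^ q = 0 ∧ IsFormRationalStructure f (fixedField σ) ζ P' ∧
          ∀ u : ι → F, (∀ i, u i ∈ fixedField σ) →
            f ((P' : Matrix ι ι F) *ᵥ u) ((P' : Matrix ι ι F) *ᵥ u) = 0) := by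
  classical
  obtain ⟨δ, hδ0, hδ⟩ := hσ.exists_skew
  have hδ' : σ δ = -δ := by linear_combination hδ
  have hJσ : ∀ a b, σ (planeJ F a b) = planeJ F a b := fun a b => by fin_cases a <;> fin_cases b <;> simp [planeJ]
  have hJdet : (planeJ F).det = 1 := by simp [planeJ, Matrix.det_fin_two]
  set G' := δ • planeJ F with hG'
  have hG'h : ∀ i j, G' j i = σ (G' i j) := fun i j => by
    rw [hG', Matrix.smul_apply, Matrix.smul_apply, smul_eq_mul, smul_eq_mul, map_mul, hJσ, hδ', planeJ_apply_swap]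
    ring
  obtain ⟨A, hA⟩ := hσ.hermitian_congr (G := G') (by rw [hG', Matrix.det_smul, hJdet]; simp [hδ0]) hG'h
  obtain ⟨B, hB⟩ := hσ.hermitian_congr hdet hh
  obtain ⟨P', hG2, hwle⟩ := exists_power_rebase e P hG (B * A⁻¹)
  have hT : ((B * A⁻¹ : GL (Fin 2) F) : Matrix (Fin 2) (Fin 2) F)ᵀ * G₀ *
      ((B * A⁻¹ : GL (Fin 2) F) : Matrix (Fin 2) (Fin 2) F).map σ = G' := by
    rw [Units.val_mul, Matrix.transpose_mul, Matrix.map_mul]
    calc _ = ((A⁻¹ : GL (Fin 2) F) : Matrix (Fin 2) (Fin 2) F)ᵀ * ((B : Matrix (Fin 2) (Fin 2) F)ᵀ * G₀ *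
        (B : Matrix (Fin 2) (Fin 2) F).map σ) * ((A⁻¹ : GL (Fin 2) F) : Matrix (Fin 2) (Fin 2) F).map σ := by
          simp only [Matrix.mul_assoc]
      _ = (((A⁻¹ : GL (Fin 2) F) : Matrix (Fin 2) (Fin 2) F)ᵀ * (A : Matrix (Fin 2) (Fin 2) F)ᵀ) * G' *
        ((A : Matrix (Fin 2) (Fin 2) F).map σ * ((A⁻¹ : GL (Fin 2) F) : Matrix (Fin 2) (Fin 2) F).map σ) := by
          rw [hB, ← hA]; simp only [Matrix.mul_assoc]
      _ = G' := by
          rw [← Matrix.transpose_mul, ← Matrix.map_mul, Units.mul_inv, Matrix.transpose_one,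
            Matrix.map_one σ (map_zero σ) (map_one σ), Matrix.one_mul, Matrix.mul_one]
  rw [hT, hG', pureM_smul, Finset.prod_const, Finset.card_univ, Fintype.card_fin, smul_smul] at hG2
  set C := c * δ ^ t with hC
  have hC0 : C ≠ 0 := mul_ne_zero hc (pow_ne_zero _ hδ0)
  have hσC : σ C = (-1 : F) ^ t * C := by rw [hC, map_mul, map_pow, hcs, hδ', neg_pow]; ring
  refine ⟨P', fun g hg => ?_, ?_⟩
  · obtain ⟨π, M, hM, hl⟩ := power_element hf hG2 hC0 (by rw [hJdet]; exact one_ne_zero) hfix (hle.trans hwle) hg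
    have hfac : ∀ i, ∃ ν : F, ν ≠ 0 ∧ ∀ a b, σ (ν * (M i : Matrix (Fin 2) (Fin 2) F) a b) = ν * (M i : Matrix (Fin 2) (Fin 2) F) a b := by
      intro i
      obtain ⟨l, hl0, hli⟩ := hl i
      set X := (M i : Matrix (Fin 2) (Fin 2) F) with hX
      have hXu : IsUnit (Xᵀ * planeJ F) := (Matrix.isUnit_iff_isUnit_det _).mpr (by
        rw [Matrix.det_mul, Matrix.det_transpose, hJdet, mul_one]
        exact (Matrix.isUnit_iff_isUnit_det _).mp (M i).isUnit)
      have hd : X.det ≠ 0 := ((Matrix.isUnit_iff_isUnit_det _).mp (M i).isUnit).ne_zero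
      have hμ : X.map σ = (l / X.det) • X := hXu.mul_left_cancel (by
        rw [hli, Matrix.mul_smul, planeJ_congr, smul_smul, div_mul_cancel₀ _ hd])
      obtain ⟨a₀, b₀, hab⟩ : ∃ a b, X a b ≠ 0 := by
        by_contra hcon; push Not at hcon; exact (M i).ne_zero (Matrix.ext hcon)
      refine ⟨(X a₀ b₀)⁻¹, inv_ne_zero hab, fun a b => ?_⟩
      have hμ' : ∀ a b, σ (X a b) = l / X.det * X a b := fun a b => congrFun (congrFun hμ a) b
      rw [map_mul, map_inv₀, hμ' a b, hμ' a₀ b₀]
      have : l / X.det ≠ 0 := div_ne_zero hl0 hd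
      field_simp
    choose ν hν0 hν using hfac
    refine mem_subfieldSubgroup_of_scaled (Finset.prod_ne_zero_iff.mpr fun i _ => hν0 i : (∏ i, ν i) ≠ 0) fun i j => ?_
    have e1 : ((P'⁻¹ * g * P' : GL ι F) : Matrix ι ι F) i j = matCoord e P' (g : Matrix ι ι F) (e i) (e j) := by
      simp [matCoord]
    rw [mem_fixedField, e1, hM]
    have e2 : (∏ i, ν i) * (factorPermM 2 F π * pureM (fun i => (M i : Matrix (Fin 2) (Fin 2) F))) (e i) (e j) =
        ∏ k, ν k * (M k : Matrix (Fin 2) (Fin 2) F) ((e i ∘ π) k) (e j k) := by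
      rw [factorPermM_mul_apply, Finset.prod_mul_distrib]
      rfl
    rw [e2, map_prod]
    exact Finset.prod_congr rfl fun k _ => hν k _ _
  have hval : ∀ u v : ι → F, (∀ i, v i ∈ fixedField σ) → f ((P' : Matrix ι ι F) *ᵥ u) ((P' : Matrix ι ι F) *ᵥ v) =
      C * ((u ∘ e.symm) ⬝ᵥ ((pureM fun _ : Fin t => planeJ F) *ᵥ (v ∘ e.symm))) := fun u v hv => by
    have h := hf.semi.coord_apply e P' (u ∘ e.symm) (v ∘ e.symm)
    simp only [Function.comp_assoc, Equiv.symm_comp_self, Function.comp_id] at h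
    rw [h, hG2, Matrix.smul_mulVec, dotProduct_smul, smul_eq_mul]
    congr 3
    funext x
    exact hv _
  have hrat : ∀ ζ, σ (ζ * C) = ζ * C → IsFormRationalStructure f (fixedField σ) ζ P' := fun ζ hζ u v hu hv => by
    rw [hval u v hv, ← mul_assoc, mem_fixedField, map_mul, hζ]
    congr 1
    simp only [dotProduct, Matrix.mulVec, map_sum, map_mul, pureM, Matrix.of_apply, map_prod, hJσ, Function.comp_apply,
      mem_fixedField.mp (hu _), mem_fixedField.mp (hv _)]
  by_cases hcase : Even t ∧ (2 : F) ≠ 0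
  · refine Or.inl ⟨hσ.odd_iff.mpr hcase.2, hrat 1 ?_⟩
    rw [one_mul, hσC, hcase.1.neg_one_pow, one_mul]
  · have hpm : (-1 : F) ^ t = -1 := by
      rcases Nat.even_or_odd t with he | ho
      · have h2 : (2 : F) = 0 := by
          by_contra h2
          exact hcase ⟨he, h2⟩
        rw [he.neg_one_pow]
        linear_combination h2
      · exact ho.neg_one_pow
    refine Or.inr ⟨δ, hδ0, by rw [← hσ.apply_eq]; exact hδ, hrat δ ?_, fun u hu => ?_⟩
    · rw [map_mul, hσC, hδ', hpm]; ring
    · rw [hval u u hu]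
      refine mul_eq_zero_of_right C ?_
      have hsk : ∀ x y, (pureM fun _ : Fin t => planeJ F) y x = -(pureM fun _ : Fin t => planeJ F) x y := fun x y => by
        simp only [pureM, Matrix.of_apply, fun k => planeJ_apply_swap (F := F) (x k) (y k)]
        rw [Finset.prod_neg, Finset.card_univ, Fintype.card_fin, hpm]; ring
      have hd : ∀ x, (pureM fun _ : Fin t => planeJ F) x x = 0 := fun x => by
        simp only [pureM, Matrix.of_apply]
        refine Finset.prod_eq_zero (Finset.mem_univ (⟨0, by omega⟩ : Fin t)) ?_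
        generalize x ⟨0, by omega⟩ = a
        fin_cases a <;> simp [planeJ]
      set w := u ∘ e.symm
      set S := w ⬝ᵥ ((pureM fun _ : Fin t => planeJ F) *ᵥ w) with hS
      by_cases h2 : (2 : F) = 0
      · exact alternating_dot h2 (fun x y => by rw [hsk x y]; linear_combination -((pureM fun _ : Fin t => planeJ F) x y) * h2) hd w
      · have : S = -S := by
          conv_lhs => rw [hS, Matrix.dotProduct_mulVec, ← Matrix.mulVec_transpose, dotProduct_comm,
            show (pureM fun _ : Fin t => planeJ F)ᵀ = -(pureM fun _ : Fin t => planeJ F) from Matrix.ext fun x y => hsk x y,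
            Matrix.neg_mulVec, dotProduct_neg]
        exact (mul_eq_zero.mp (show (2 : F) * S = 0 by linear_combination this)).resolve_left h2

end Cfsg.Agent.Classical
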