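/-
An absolutely irreducible group equivalent to a Galois conjugate, and one whose nonscalar traces vanish.
-/
import Cfsg.Agent.Lib.Small.PSLn.FieldAut
import Cfsg.Agent.Lib.Classical.FormPower

set_option autoImplicit false
set_option linter.style.haveILetI false
set_option linter.unusedSectionVars false

namespace Cfsg.Agent.Classical

open Matrix Cfsg.Geo Cfsg.Agent.Small.PSLn

variable {ι : Type} [Fintype ι] [DecidableEq ι] {F : Type*} [Field F]

/-- A group equivalent to its conjugate under a field automorphism is realised over the fixed field. -/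
theorem realisable_of_cyclic_intertwiner [Fintype F] [Nonempty ι] {τ : F ≃+* F} {P : Subgroup (GL ι F)}
    (hP : ActsAbsolutelyIrreducibly (matrixSet P)) {C : Matrix ι ι F} (hCu : IsUnit C)
    (hC : ∀ x ∈ P, C * (x : Matrix ι ι F).map τ = (x : Matrix ι ι F) * C) :
    RealisableOver (fixedField τ) (matrixSet P) := by
  classical
  have : Finite (F ≃+* F) := Finite.of_injective (fun e : F ≃+* F => (e : F → F))
    (fun a b h => RingEquiv.ext fun x => congrFun h x)
  set en := Fintype.equivFin ι
  set n := Fintype.card ι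
  haveI : Nonempty (Fin n) := ⟨en (Classical.arbitrary ι)⟩
  set C' := C.submatrix en.symm en.symm with hC'
  let X' : GL ι F → Matrix (Fin n) (Fin n) F := fun x => (x : Matrix ι ι F).submatrix en.symm en.symm
  have hC'x : ∀ x ∈ P, C' * (X' x).map τ = X' x * C' := fun x hx => by
    simp only [hC', X', ← Matrix.submatrix_map, Matrix.submatrix_mul_equiv, hC x hx]
  set r := orderOf τ with hr
  have htw : ∀ (k : ℕ), ∀ x ∈ P, tw τ C' k * (X' x).map (τ ^ k : F ≃+* F) = X' x * tw τ C' k := by
    intro k x hx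
    induction k with
    | zero => simp only [tw, Matrix.one_mul, Matrix.mul_one, pow_zero]; ext i j; rfl
    | succ k ih =>
      rw [tw, show (X' x).map (τ ^ (k + 1) : F ≃+* F) = ((X' x).map (τ ^ k : F ≃+* F)).map τ by
        rw [map_map', ← pow_succ'], Matrix.mul_assoc, ← map_mul' τ, ih, map_mul' τ, ← Matrix.mul_assoc, hC'x x hx,
        Matrix.mul_assoc]
  obtain ⟨l, hl⟩ : ∃ l : F, tw τ C' r = l • (1 : Matrix (Fin n) (Fin n) F) := by
    obtain ⟨l, hl⟩ := hP.2 ((tw τ C' r).submatrix en en) (by
      rintro _ ⟨x, hx, rfl⟩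
      have h := htw r x hx
      rw [hr, pow_orderOf_eq_one] at h
      have h' := congrArg (fun M : Matrix (Fin n) (Fin n) F => M.submatrix en en) h
      simp only [show (X' x).map (1 : F ≃+* F) = X' x from rfl] at h'
      rw [← Matrix.submatrix_mul_equiv _ _ _ en _, ← Matrix.submatrix_mul_equiv _ _ _ en _] at h'
      simp only [X', Matrix.submatrix_submatrix, Equiv.symm_comp_self, Matrix.submatrix_id_id] at h'
      exact h')
    refine ⟨l, ?_⟩
    have h' := congrArg (fun M : Matrix ι ι F => M.submatrix en.symm en.symm) hl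
    simpa [Matrix.submatrix_submatrix, Matrix.submatrix_smul] using h'
  have hC'u : IsUnit C' := (Matrix.isUnit_submatrix_equiv _ _).mpr hCu
  have hτl : τ l = l := by
    have e1 : tw τ C' (r + 1) = C' * (tw τ C' r).map τ := rfl
    have e2 := tw_succ' τ C' r
    rw [e1, hl, hr, pow_orderOf_eq_one, show C'.map (1 : F ≃+* F) = C' from rfl, Matrix.smul_mul, Matrix.one_mul,
      show (l • (1 : Matrix (Fin n) (Fin n) F)).map τ = τ l • (1 : Matrix (Fin n) (Fin n) F) by
        ext i j; simp [Matrix.one_apply, apply_ite τ], Matrix.mul_smul, Matrix.mul_one] at e2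
    exact smul_left_injective F hC'u.ne_zero e2
  have hl0 : l ≠ 0 := fun h0 => by
    have hu : ∀ k, IsUnit (tw τ C' k) := fun k => by
      induction k with
      | zero => exact isUnit_one
      | succ k ih => exact hC'u.mul (ih.map (RingHom.mapMatrix (τ : F →+* F)))
    have := hu r
    rw [hl, h0, zero_smul] at this
    exact not_isUnit_zero this
  obtain ⟨s, hs0, hs⟩ := exists_norm_cyclic τ (inv_ne_zero hl0) (by rw [map_inv₀, hτl])
  obtain ⟨B, hB⟩ := exists_descent_cyclic τ (s • C') (by rw [tw_smul, hs, hl, smul_smul, inv_mul_cancel₀ hl0, one_smul])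
  refine ⟨glReindex en.symm B⁻¹, ?_⟩
  rintro _ ⟨x, hx, rfl⟩ i j
  set Y := ((B⁻¹ : GL (Fin n) F) : Matrix (Fin n) (Fin n) F) * X' x * (B : Matrix (Fin n) (Fin n) F) with hY
  have hYτ : Y.map τ = Y := by
    have hBi : ((B⁻¹ : GL (Fin n) F) : Matrix (Fin n) (Fin n) F).map τ =
        ((B⁻¹ : GL (Fin n) F) : Matrix (Fin n) (Fin n) F) * (s • C') := by
      have h1 : (B : Matrix (Fin n) (Fin n) F).map τ * ((B⁻¹ : GL (Fin n) F) : Matrix (Fin n) (Fin n) F).map τ = 1 := by
        rw [← map_mul' τ, Units.mul_inv, map_one' τ]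
      calc ((B⁻¹ : GL (Fin n) F) : Matrix (Fin n) (Fin n) F).map τ
          = ((B⁻¹ : GL (Fin n) F) : Matrix (Fin n) (Fin n) F) * ((B : Matrix (Fin n) (Fin n) F) *
            ((B⁻¹ : GL (Fin n) F) : Matrix (Fin n) (Fin n) F).map τ) := by
            rw [← Matrix.mul_assoc, Units.inv_mul, Matrix.one_mul]
        _ = _ := by
            conv_lhs => rw [← hB, Matrix.mul_assoc, h1, Matrix.mul_one]
    rw [hY, map_mul' τ, map_mul' τ, hBi, Matrix.mul_assoc ((B⁻¹ : GL (Fin n) F) : Matrix (Fin n) (Fin n) F) (s • C'),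
      show s • C' * (X' x).map τ = X' x * (s • C') by rw [Matrix.smul_mul, hC'x x hx, Matrix.mul_smul]]
    simp only [Matrix.mul_assoc, hB]
  have e : ((glReindex en.symm B⁻¹ : GL ι F) : Matrix ι ι F) * (x : Matrix ι ι F) *
      (((glReindex en.symm B⁻¹)⁻¹ : GL ι F) : Matrix ι ι F) = Y.submatrix en en := by
    rw [← map_inv, inv_inv, coe_glReindex_symm, coe_glReindex_symm, hY, ← Matrix.submatrix_mul_equiv _ _ _ en _,
      ← Matrix.submatrix_mul_equiv _ _ _ en _]
    simp only [X', Matrix.submatrix_submatrix, Equiv.symm_comp_self, Matrix.submatrix_id_id]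
  rw [e, Matrix.submatrix_apply, mem_fixedField]
  exact congrFun (congrFun hYτ _) _

/-- A finite absolutely irreducible group, all nonscalar traces zero and all scalars signs, is equivalent to its
conjugate under any field automorphism. -/
theorem exists_intertwiner_of_traces [Nonempty ι] (τ : F ≃+* F) {R : Subgroup (GL ι F)} [Fintype R]
    (hR : ActsAbsolutelyIrreducibly (matrixSet R)) (hcard : (Fintype.card R : F) ≠ 0)
    (htr : ∀ g : R, (g : GL ι F) ∉ scalars ι F → ((g : GL ι F) : Matrix ι ι F).trace = 0)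
    (hsc : ∀ g : R, (g : GL ι F) ∈ scalars ι F →
      ((g : GL ι F) : Matrix ι ι F) = 1 ∨ ((g : GL ι F) : Matrix ι ι F) = -1)
    (hscard : ((Nat.card {g : R // (g : GL ι F) ∈ scalars ι F} : ℕ) : F) ≠ 0) :
    ∃ C : Matrix ι ι F, IsUnit C ∧ ∀ x ∈ R, C * (x : Matrix ι ι F).map τ = (x : Matrix ι ι F) * C := by
  classical
  set M : R → Matrix ι ι F := fun g => ((g : GL ι F) : Matrix ι ι F)
  have hn : (Fintype.card ι : F) ≠ 0 := by
    intro h0
    obtain ⟨i⟩ := ‹Nonempty ι›
    let T : Matrix ι ι F := ∑ g : R, M g * Matrix.single i i 1 * M g⁻¹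
    obtain ⟨c, hc⟩ := hR.2 T (by
      rintro _ ⟨x, hx, rfl⟩
      simp only [T, Finset.sum_mul, Finset.mul_sum]
      rw [← Equiv.sum_comp (Equiv.mulLeft (⟨x, hx⟩ : R))]
      refine Finset.sum_congr rfl fun g _ => ?_
      simp only [Equiv.coe_mulLeft, M, _root_.mul_inv_rev, Subgroup.coe_mul, Subgroup.coe_inv, Units.val_mul, Matrix.mul_assoc,
        Units.inv_mul, Matrix.mul_one])
    have e := congrArg Matrix.trace hc
    rw [Matrix.trace_smul, Matrix.trace_one, h0, smul_zero, Matrix.trace_sum] at e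
    have hterm : ∀ g : R, (M g * Matrix.single i i 1 * M g⁻¹).trace = 1 := fun g => by
      rw [Matrix.trace_mul_comm, ← Matrix.mul_assoc]
      simp only [M, Subgroup.coe_inv, Units.inv_mul, Matrix.one_mul]
      simp
    simp only [hterm, Finset.sum_const, Finset.card_univ, nsmul_eq_mul, mul_one] at e
    exact hcard e
  obtain ⟨A, hA⟩ : ∃ A : Matrix ι ι F, ∑ g : R, M g * A * (M g⁻¹).map τ ≠ 0 := by
    by_contra hcon
    push Not at hcon
    have h : ∀ k l, ∑ g : R, M g k k * τ (M g⁻¹ l l) = 0 := fun k l => by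
      have e := congrFun (congrFun (hcon (Matrix.single k l 1)) k) l
      simpa [Matrix.sum_apply, Matrix.mul_apply, Matrix.single_apply, ite_and, ite_mul, mul_ite] using e
    have hsum : ∑ g : R, (M g).trace * τ (M g⁻¹).trace = 0 := by
      simp only [Matrix.trace, Matrix.diag_apply, map_sum, Finset.sum_mul, Finset.mul_sum]
      rw [Finset.sum_comm]
      refine Finset.sum_eq_zero fun k _ => ?_
      rw [Finset.sum_comm]
      exact Finset.sum_eq_zero fun l _ => h l k
    rw [← Finset.sum_filter_add_sum_filter_not Finset.univ (fun g : R => (g : GL ι F) ∈ scalars ι F),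
      Finset.sum_eq_zero (s := Finset.univ.filter fun g : R => ¬ (g : GL ι F) ∈ scalars ι F) fun g hg => by
        rw [show (M g).trace = 0 from htr g (Finset.mem_filter.mp hg).2, zero_mul], add_zero,
      Finset.sum_congr rfl (g := fun _ => (Fintype.card ι : F) ^ 2) fun g hg => by
        have hgi : M g⁻¹ = M g := by
          have h1 : M g * M g = 1 := by
            rcases hsc g (Finset.mem_filter.mp hg).2 with h | h <;> simp [M, h]
          have h2 : M g⁻¹ * M g = 1 := by simp [M]
          calc M g⁻¹ = M g⁻¹ * (M g * M g) := by rw [h1, Matrix.mul_one]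
            _ = M g := by rw [← Matrix.mul_assoc, h2, Matrix.one_mul]
        rw [hgi]
        rcases hsc g (Finset.mem_filter.mp hg).2 with h | h <;>
          simp [M, h, Matrix.trace_neg, Matrix.trace_one, sq],
      Finset.sum_const, nsmul_eq_mul] at hsum
    refine mul_ne_zero ?_ (pow_ne_zero 2 hn) hsum
    rwa [Nat.card_eq_fintype_card, Fintype.card_subtype] at hscard
  set C := ∑ g : R, M g * A * (M g⁻¹).map τ with hC
  have hint : ∀ x ∈ R, C * (x : Matrix ι ι F).map τ = (x : Matrix ι ι F) * C := by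
    intro x hx
    rw [hC, Finset.mul_sum, Finset.sum_mul]
    conv_lhs => rw [← Equiv.sum_comp (Equiv.mulLeft (⟨x, hx⟩ : R))]
    refine Finset.sum_congr rfl fun g _ => ?_
    simp only [Equiv.coe_mulLeft, M, _root_.mul_inv_rev, Subgroup.coe_mul, Subgroup.coe_inv, Units.val_mul,
      Matrix.map_mul, Matrix.mul_assoc]
    rw [← Matrix.map_mul, Units.inv_mul, Matrix.map_one τ (map_zero τ) (map_one τ), Matrix.mul_one]
  refine ⟨C, ?_, hint⟩
  rcases hR.1 (LinearMap.range (Matrix.toLin' C)) (by
    rintro _ ⟨x, hx, rfl⟩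
    rw [map_toLin'_le]
    rintro _ ⟨v, rfl⟩
    refine ⟨(x : Matrix ι ι F).map τ *ᵥ v, ?_⟩
    simp only [Matrix.toLin'_apply, Matrix.mulVec_mulVec, hint x hx]) with h | h
  · exact absurd (Matrix.toLin'.injective (LinearMap.ext fun v => by
      have : Matrix.toLin' C v ∈ LinearMap.range (Matrix.toLin' C) := ⟨v, rfl⟩
      rw [h, Submodule.mem_bot] at this
      rw [this, map_zero, LinearMap.zero_apply])) hA
  · exact Matrix.mulVec_surjective_iff_isUnit.mp (fun v => by
      obtain ⟨u, hu⟩ : v ∈ LinearMap.range (Matrix.toLin' C) := h ▸ Submodule.mem_top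
      exact ⟨u, hu⟩)

end Cfsg.Agent.Classical
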