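/-
Field subalgebras closed under adjoints, and quadratic forms polarising to an alternating form in characteristic two.
-/
import Cfsg.Agent.Lib.Classical.SesqForm
import Cfsg.Agent.Lib.Classical.FieldSubalgebra
import Cfsg.Agent.Lib.Classical.GaloisDescent

set_option autoImplicit false
set_option linter.style.haveILetI false

namespace Cfsg.Agent.Classical

open Matrix Cfsg.Geo

variable {ι : Type} [Fintype ι] [DecidableEq ι] {F : Type*} [Field F]

/-- What commutes with a field subalgebra of full degree belongs to it. -/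
theorem mem_field_of_commutes [Nonempty ι] {K : Subalgebra F (Matrix ι ι F)}
    (hK : IsFieldSubalgebra (Fintype.card ι) K) {M : Matrix ι ι F} (hM : ∀ k ∈ K, M * k = k * M) : M ∈ K := by
  obtain ⟨i⟩ := ‹Nonempty ι›
  set v : ι → F := Pi.single i 1
  let L : K →ₗ[F] (ι → F) :=
    { toFun := fun k => (k : Matrix ι ι F) *ᵥ v
      map_add' := fun a b => Matrix.add_mulVec _ _ _
      map_smul' := fun c a => Matrix.smul_mulVec c _ _ }
  have hinj : Function.Injective L := fun a b hab => by
    by_contra hne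
    have hd : ((a : Matrix ι ι F) - (b : Matrix ι ι F)) ≠ 0 := sub_ne_zero.mpr fun e => hne (Subtype.ext e)
    obtain ⟨y, hy, hdy⟩ := hK.inv _ (K.sub_mem a.2 b.2) hd
    have h0 : ((a : Matrix ι ι F) - (b : Matrix ι ι F)) *ᵥ v = 0 := by rw [Matrix.sub_mulVec, sub_eq_zero]; exact hab
    rw [hK.comm _ (K.sub_mem a.2 b.2) y hy] at hdy
    have h1 := congrArg (y *ᵥ ·) h0
    simp only [Matrix.mulVec_mulVec, hdy, Matrix.one_mulVec, Matrix.mulVec_zero] at h1
    simpa [v] using congrFun h1 i
  have hsurj : Function.Surjective L := (LinearMap.injective_iff_surjective_of_finrank_eq_finrank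
    (by rw [hK.finrank_eq, Module.finrank_fintype_fun_eq_card])).mp hinj
  obtain ⟨k, hk⟩ := hsurj (M *ᵥ v)
  have e : M = k := Matrix.toLin'.injective (LinearMap.ext fun w => by
    obtain ⟨l, rfl⟩ := hsurj w
    change M *ᵥ ((l : Matrix ι ι F) *ᵥ v) = (k : Matrix ι ι F) *ᵥ ((l : Matrix ι ι F) *ᵥ v)
    rw [Matrix.mulVec_mulVec, hM l l.2, ← Matrix.mulVec_mulVec, ← hk]
    change (l : Matrix ι ι F) *ᵥ ((k : Matrix ι ι F) *ᵥ v) = _
    rw [Matrix.mulVec_mulVec, hK.comm l l.2 k k.2, ← Matrix.mulVec_mulVec])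
  exact e ▸ k.2

variable {σ : F ≃+* F} {ε : F} {f : (ι → F) → (ι → F) → F}

namespace IsReflexForm

variable (hf : IsReflexForm σ ε f)

include hf

/-- A field closed under adjoints for a bilinear form is self-adjoint or quadratic. -/
theorem field_degree_two [Nonempty ι] (hσ : ∀ c, σ c = c) {r : ℕ} (hr : r.Prime) {K : Subalgebra F (Matrix ι ι F)}
    (hK : IsFieldSubalgebra r K) (hadj : IsAdjointClosedFor f K) (hns : ¬ IsSelfAdjointFor f K) : r = 2 := by
  classical
  rw [hf.isAdjointClosedFor_iff] at hadj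
  rw [hf.isSelfAdjointFor_iff] at hns
  push Not at hns
  obtain ⟨z, hz, hzne⟩ := hns
  have hneg : ∀ a, formAdj σ f (-a) = -formAdj σ f a := fun a => by
    rw [← neg_one_smul F a, hf.adj_smul, hσ, neg_one_smul]
  have hsub : ∀ a b, formAdj σ f (a - b) = formAdj σ f a - formAdj σ f b := fun a b => by
    rw [sub_eq_add_neg, hf.adj_add, hneg, ← sub_eq_add_neg]
  let Kp : Submodule F (Matrix ι ι F) :=
    { carrier := {k | k ∈ K ∧ formAdj σ f k = k}
      add_mem' := fun {a b} ha hb => ⟨add_mem ha.1 hb.1, by rw [hf.adj_add, ha.2, hb.2]⟩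
      zero_mem' := ⟨zero_mem K, hf.adj_zero⟩
      smul_mem' := fun c a ha => ⟨K.smul_mem ha.1 c, by rw [hf.adj_smul, hσ, ha.2]⟩ }
  set w := z - formAdj σ f z with hw
  have hwK : w ∈ K := K.sub_mem hz (hadj z hz)
  obtain ⟨y, hy, hwy⟩ := hK.inv w hwK (sub_ne_zero.mpr (Ne.symm hzne))
  have hwτ : formAdj σ f w = -w := by rw [hw, hsub, hf.adj_adj, neg_sub]
  let L : Kp × Kp →ₗ[F] K :=
    { toFun := fun ab => ⟨(ab.1 : Matrix ι ι F) + (ab.2 : Matrix ι ι F) * z, add_mem ab.1.2.1 (mul_mem ab.2.2.1 hz)⟩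
      map_add' := fun a b => Subtype.ext (by simp [Matrix.add_mul]; abel)
      map_smul' := fun c a => Subtype.ext (by simp [Matrix.smul_mul, smul_add]) }
  have hτmul : ∀ b ∈ Kp, formAdj σ f (b * z) = b * formAdj σ f z := fun b hb => by
    rw [hf.adj_mul, hb.2, hK.comm _ (hadj z hz) b hb.1]
  have hinj : Function.Injective L := by
    rw [injective_iff_map_eq_zero]
    rintro ⟨⟨a, ha⟩, ⟨b, hb⟩⟩ h
    have h1 : a + b * z = 0 := congrArg Subtype.val h
    have h2 := congrArg (formAdj σ f) h1
    rw [hf.adj_add, ha.2, hτmul b hb, hf.adj_zero] at h2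
    have hbw : b * w = 0 := by
      rw [hw, Matrix.mul_sub, ← add_sub_add_left_eq_sub (b * z) _ a, h1, h2, sub_zero]
    have hb0 : b = 0 := by
      calc b = b * (w * y) := by rw [hwy, Matrix.mul_one]
        _ = 0 := by rw [← Matrix.mul_assoc, hbw, Matrix.zero_mul]
    subst hb0
    rw [Matrix.zero_mul, add_zero] at h1
    subst h1
    rfl
  have hsurj : Function.Surjective L := by
    rintro ⟨k, hk⟩
    set b := (k - formAdj σ f k) * y with hb
    have hdK : k - formAdj σ f k ∈ K := K.sub_mem hk (hadj k hk)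
    have hyτ : formAdj σ f y = -y := by
      have h3 := congrArg (formAdj σ f) hwy
      rw [hf.adj_mul, hf.adj_one, hwτ, Matrix.mul_neg] at h3
      calc formAdj σ f y = formAdj σ f y * (w * y) := by rw [hwy, Matrix.mul_one]
        _ = -(-(formAdj σ f y * w) * y) := by rw [Matrix.neg_mul, neg_neg, Matrix.mul_assoc]
        _ = -y := by rw [h3, Matrix.one_mul]
    have hbp : b ∈ Kp := by
      refine ⟨mul_mem hdK hy, ?_⟩
      rw [hb, hf.adj_mul, hyτ, hsub, hf.adj_adj, ← neg_sub k, Matrix.neg_mul, Matrix.mul_neg, neg_neg,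
        hK.comm y hy _ hdK]
    have hbw : b * w = k - formAdj σ f k := by
      rw [hb, Matrix.mul_assoc, hK.comm y hy w hwK, hwy, Matrix.mul_one]
    have hap : k - b * z ∈ Kp := by
      refine ⟨K.sub_mem hk (mul_mem hbp.1 hz), ?_⟩
      rw [hsub, hτmul b hbp]
      rw [hw, Matrix.mul_sub] at hbw
      rw [sub_eq_sub_iff_sub_eq_sub] at hbw
      rw [sub_eq_sub_iff_sub_eq_sub, ← neg_sub k, ← neg_sub (b * z)]
      congr 1
      rw [eq_comm, sub_eq_sub_iff_sub_eq_sub]
      exact hbw
    exact ⟨(⟨_, hap⟩, ⟨b, hbp⟩), Subtype.ext (sub_add_cancel k (b * z))⟩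
  have h := LinearEquiv.finrank_eq (LinearEquiv.ofBijective L ⟨hinj, hsurj⟩)
  rw [Module.finrank_prod, hK.finrank_eq] at h
  exact ((Nat.prime_dvd_prime_iff_eq Nat.prime_two hr).mp ⟨Module.finrank F Kp, by omega⟩).symm

/-- A field closed under adjoints for a hermitian form has odd degree. -/
theorem field_degree_ne_two [Fintype F] [Nonempty ι] (hσ : σ ≠ RingEquiv.refl F)
    {K : Subalgebra F (Matrix ι ι F)} (hadj : IsAdjointClosedFor f K) : ¬ IsFieldSubalgebra 2 K := by
  classical
  intro hK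
  rw [hf.isAdjointClosedFor_iff] at hadj
  haveI : Finite K := Finite.of_injective _ Subtype.val_injective
  haveI : Fintype K := Fintype.ofFinite _
  haveI : Nontrivial K := ⟨⟨0, 1, fun e => zero_ne_one (congrArg Subtype.val e)⟩⟩
  letI : CommRing K := { K.toRing with mul_comm := fun a b => Subtype.ext (hK.comm a a.2 b b.2) }
  have hfield : IsField K := by
    refine ⟨exists_pair_ne K, mul_comm, fun {a} ha => ?_⟩
    obtain ⟨y, hy, hay⟩ := hK.inv a a.2 (fun e => ha (Subtype.ext e))
    exact ⟨⟨y, hy⟩, Subtype.ext hay⟩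
  letI : Field K := hfield.toField
  let τ : K ≃+* K :=
    { toFun := fun k => ⟨_, hadj k k.2⟩
      invFun := fun k => ⟨_, hadj k k.2⟩
      left_inv := fun k => Subtype.ext (hf.adj_adj _)
      right_inv := fun k => Subtype.ext (hf.adj_adj _)
      map_mul' := fun a b => Subtype.ext (by
        change formAdj σ f ((a : Matrix ι ι F) * b) = formAdj σ f a * formAdj σ f b
        rw [hK.comm a a.2 b b.2, hf.adj_mul])
      map_add' := fun a b => Subtype.ext (hf.adj_add _ _) }
  obtain ⟨z, hz⟩ : ∃ z, σ z ≠ z := by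
    by_contra h
    push Not at h
    exact hσ (RingEquiv.ext h)
  let zK : K := algebraMap F K z
  have hτz : τ zK = algebraMap F K (σ z) := Subtype.ext (by
    change formAdj σ f (algebraMap F (Matrix ι ι F) z) = algebraMap F (Matrix ι ι F) (σ z)
    rw [Algebra.algebraMap_eq_smul_one, Algebra.algebraMap_eq_smul_one, hf.adj_scalar])
  have hne : τ ≠ RingEquiv.refl K := fun h => hz ((algebraMap F K).injective (by rw [← hτz, h]; rfl))
  obtain ⟨q₁, hq₁⟩ := exists_isUSigma_of_involutive (fun k => Subtype.ext (hf.adj_adj _)) hne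
  have hq : q₁ = Fintype.card F := by
    refine Nat.pow_left_injective two_ne_zero ?_
    change q₁ ^ 2 = Fintype.card F ^ 2
    rw [← hq₁.card, Module.card_eq_pow_finrank (K := F) (V := K), hK.finrank_eq]
  apply hz
  apply (algebraMap F K).injective
  rw [← hτz, hq₁.apply_eq, hq, ← map_pow, FiniteField.pow_card]

end IsReflexForm

/-- A self-adjoint field for an alternating form gives an alternating form over the field. -/
theorem field_alternating [Finite F] [Nonempty ι] (hfs : IsSymplecticForm f) {r : ℕ}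
    {K : Subalgebra F (Matrix ι ι F)} (hK : IsFieldSubalgebra r K) (hself : IsSelfAdjointFor f K) :
    ∀ k ∈ K, ∀ v, f (k *ᵥ v) v = 0 := by
  intro k hk v
  by_cases h2 : (2 : F) = 0
  · haveI : Finite K := Finite.of_injective _ Subtype.val_injective
    have hneg : ∀ M : Matrix ι ι F, M + M = 0 := fun M => by
      ext i j
      simp only [Matrix.add_apply, Matrix.zero_apply, ← two_mul, h2, zero_mul]
    have hinj : Function.Injective fun l : K => l * l := fun a b hab => by
      have e : (a : Matrix ι ι F) * a = b * b := congrArg Subtype.val hab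
      have hs : ((a : Matrix ι ι F) + b) * ((a : Matrix ι ι F) + b) = 0 := by
        rw [Matrix.add_mul, Matrix.mul_add, Matrix.mul_add, hK.comm b b.2 a a.2, e,
          show (b : Matrix ι ι F) * b + a * b + (a * b + b * b) =
            ((b : Matrix ι ι F) * b + b * b) + ((a : Matrix ι ι F) * b + a * b) by abel, hneg, hneg, add_zero]
      have h0 : (a : Matrix ι ι F) + b = 0 :=
        (fieldSubalgebra_mul_eq_zero hK (K.add_mem a.2 b.2) hs).elim id id
      exact Subtype.ext (add_right_cancel (h0.trans (hneg _).symm))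
    obtain ⟨l, hl⟩ := (Finite.injective_iff_surjective.mp hinj) ⟨k, hk⟩
    rw [show k = (l : Matrix ι ι F) * l from (congrArg Subtype.val hl).symm, ← Matrix.mulVec_mulVec, hself l l.2]
    exact hfs.alternating _
  · have h := hself k hk v v
    rw [hfs.skew v (k *ᵥ v)] at h
    exact (mul_eq_zero.mp (show (2 : F) * f (k *ᵥ v) v = 0 by linear_combination h)).resolve_left h2

/-- An element with `ω + adj ω = 1` moved by scalars only gives an invariant quadratic form in characteristic two. -/
theorem quad_of_omega (hfs : IsSymplecticForm f) (h2 : (2 : F) = 0) {H : Subgroup (GL ι F)}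
    (hfix : FixesForm (matrixSet H) f) {ω : Matrix ι ι F}
    (hω : ω + formAdj (RingEquiv.refl F) f ω = 1)
    (hmove : ∀ g ∈ H, ∃ c : F, ((g⁻¹ : GL ι F) : Matrix ι ι F) * ω * (g : Matrix ι ι F) = ω + c • 1) :
    ∃ Q : (ι → F) → F, IsNondegenerateQuadraticForm Q ∧ (∀ u v, QuadraticMap.polar Q u v = f u v) ∧
      FixesQuadForm (matrixSet H) Q := by
  have hf := reflexForm_of_symplectic hfs
  have hb := hfs.bilinear
  let Q : (ι → F) → F := fun v => f (ω *ᵥ v) v
  have hpol : QuadraticMap.polar Q = f := by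
    funext u v
    have e1 : f (ω *ᵥ v) u = f (formAdj (RingEquiv.refl F) f ω *ᵥ u) v := by
      rw [hf.adj_spec, hfs.skew]
      linear_combination (-f (formAdj (RingEquiv.refl F) f ω *ᵥ u) v) * h2
    calc QuadraticMap.polar Q u v = f (ω *ᵥ u) v + f (ω *ᵥ v) u := by
          simp only [QuadraticMap.polar, Q, Matrix.mulVec_add, hb.add_left, hb.add_right]; ring
      _ = f u v := by rw [e1, ← hb.add_left, ← Matrix.add_mulVec, hω, Matrix.one_mulVec]
  refine ⟨Q, ⟨fun c v => ?_, hpol ▸ hb, hpol ▸ hfs.nondegenerate⟩, fun u v => by rw [hpol], ?_⟩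
  · simp only [Q, Matrix.mulVec_smul, hb.smul_left, hb.smul_right]; ring
  rintro _ ⟨g, hg, rfl⟩ v
  obtain ⟨c, hc⟩ := hmove g hg
  simp only [Q]
  have e : ω *ᵥ ((g : Matrix ι ι F) *ᵥ v) =
      (g : Matrix ι ι F) *ᵥ ((ω + c • (1 : Matrix ι ι F)) *ᵥ v) := by
    rw [← hc]
    simp only [Matrix.mulVec_mulVec, ← Matrix.mul_assoc, Units.mul_inv, Matrix.one_mul]
  rw [e, hfix _ (coe_mem_matrixSet hg), Matrix.add_mulVec, Matrix.smul_mulVec, Matrix.one_mulVec, hb.add_left, hb.smul_left,
    hfs.alternating, mul_zero, add_zero]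

end Cfsg.Agent.Classical
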