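/-
Maximal subgroups of the special linear group in any dimension at least three.
-/
import Cfsg.Agent.Lib.Classical.LinAschbacher
import Cfsg.Agent.Lib.Classical.LinPrimeCases

set_option autoImplicit false
set_option linter.style.haveILetI false

namespace Cfsg.Agent.Classical

open Matrix Cfsg.Geo
open scoped commutatorElement Kronecker

variable {ι : Type} [Fintype ι] [DecidableEq ι] {F : Type*} [Field F]

theorem IsMDecomposition.card_eq {t m : ℕ} {D : Fin t → Submodule F (ι → F)} (hD : IsMDecomposition m D) :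
    t * m = Fintype.card ι := by
  have h := finrank_iSup_of_indep D hD.indep
  rw [hD.iSup_eq_top, finrank_top, Module.finrank_fintype_fun_eq_card] at h
  simp [h, hD.finrank_eq]

theorem not_specialLinear_le_decomposition {t m : ℕ} {D : Fin t → Submodule F (ι → F)} (hD : IsMDecomposition m D) :
    ¬ specialLinear ι F ≤ decompositionStabilizer D := by
  classical
  have hcard := IsMDecomposition.card_eq hD
  have hm0 : 0 < m := hD.pos
  have ht : 2 ≤ t := hD.two_le
  rcases eq_or_lt_of_le (show 1 ≤ m from hm0) with rfl | hm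
  · obtain rfl : t = Fintype.card ι := by omega
    exact not_specialLinear_le_decompositionStabilizer hD
  intro h
  haveI : Nontrivial ι := Fintype.one_lt_card_iff_nontrivial.mp (by nlinarith)
  let i₀ : Fin t := ⟨0, by omega⟩
  have h0 : D i₀ ≠ ⊥ := fun e => by
    have := hD.finrank_eq i₀
    rw [e, finrank_bot] at this
    omega
  have h1 : D i₀ ≠ ⊤ := fun e => by
    have := hD.finrank_eq i₀
    rw [e, finrank_top, Module.finrank_fintype_fun_eq_card] at this
    nlinarith
  obtain ⟨a, b, hab, c, hτ⟩ : ∃ (a b : ι) (hab : a ≠ b) (c : F), transGL hab c ∉ subspaceStabilizer (D i₀) := by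
    by_contra hcon
    push Not at hcon
    exact not_specialLinear_le_subspaceStabilizer h0 h1 ((specialLinear_le_iff _).mpr hcon)
  obtain ⟨σ, hσ⟩ := h (transGL_mem hab c)
  let f : D i₀ →ₗ[F] F := (LinearMap.proj b).comp (D i₀).subtype
  obtain ⟨w, hw, hw0⟩ := Submodule.exists_mem_ne_zero_of_ne_bot (show LinearMap.ker f ≠ ⊥ from fun e => by
    have := LinearMap.finrank_range_add_finrank_ker f
    rw [e, finrank_bot, add_zero, hD.finrank_eq] at this
    have h2 := Submodule.finrank_le (LinearMap.range f)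
    rw [Module.finrank_self] at h2
    omega)
  have hfix : (transGL hab c : Matrix ι ι F) *ᵥ (w : ι → F) = w := by
    rw [transGL_mulVec, show (w : ι → F) b = 0 from hw, mul_zero, Pi.single_zero, add_zero]
  have hmem : (w : ι → F) ∈ D (σ i₀) := by
    rw [← hσ i₀]
    exact ⟨w, w.2, by rw [Matrix.toLin'_apply, hfix]⟩
  have hσ0 : σ i₀ = i₀ := by
    by_contra hne
    have hd : Disjoint (D (σ i₀)) (D i₀) := hD.indep.pairwiseDisjoint hne
    exact hw0 (Subtype.ext (Submodule.disjoint_def.mp hd _ hmem w.2))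
  refine hτ (mem_subspaceStabilizer_iff.mpr fun v hv => ?_)
  conv => arg 1; rw [← hσ0]
  rw [← hσ i₀]
  exact ⟨v, hv, by rw [Matrix.toLin'_apply]⟩

theorem glReindex_det {κ : Type} [Fintype κ] [DecidableEq κ] (e : κ ≃ ι) (g : GL κ F) :
    (glReindex e g : Matrix ι ι F).det = (g : Matrix κ κ F).det :=
  Matrix.det_submatrix_equiv_self e.symm _

theorem conj_reindex_mem_specialLinear {κ : Type} [Fintype κ] [DecidableEq κ] (e : κ ≃ ι) (P : GL ι F) {g : GL κ F}
    (hg : g ∈ specialLinear κ F) : P * glReindex e g * P⁻¹ ∈ specialLinear ι F :=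
  specialLinear_normal.conj_mem _ (mem_specialLinear_iff.mpr (by rw [glReindex_det]; exact det_gl_of_mem_specialLinear hg)) P

theorem mem_of_conj_reindex {κ : Type} [Fintype κ] [DecidableEq κ] {S : Subgroup (GL κ F)} (e : ι ≃ κ) (P : GL ι F)
    {g : GL κ F}
    (h : P * glReindex e.symm g * P⁻¹ ∈ (S.map (glReindex e.symm).toMonoidHom).map (MulAut.conj P).toMonoidHom) :
    g ∈ S := by
  rw [mem_conj_reindex_iff] at h
  convert h using 1
  have : P⁻¹ * (P * glReindex e.symm g * P⁻¹) * P = glReindex e.symm g := by group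
  rw [this]
  refine Units.ext ?_
  ext a b
  simp [glReindex]

theorem not_specialLinear_le_tensor {n₁ n₂ : ℕ} (h₁ : 2 ≤ n₁) (h₂ : 2 ≤ n₂) (e : ι ≃ Fin n₁ × Fin n₂) (P : GL ι F) :
    ¬ specialLinear ι F ≤ tensorProductSubgroup n₁ n₂ e P := by
  intro h
  let a₀ : Fin n₁ := ⟨0, by omega⟩
  let a₁ : Fin n₁ := ⟨1, by omega⟩
  let b₀ : Fin n₂ := ⟨0, by omega⟩
  let b₁ : Fin n₂ := ⟨1, by omega⟩
  have hne : ((a₀, b₀) : Fin n₁ × Fin n₂) ≠ (a₁, b₁) := by simp [a₀, a₁]
  obtain ⟨a, b, hab⟩ := mem_of_conj_reindex e P (h (conj_reindex_mem_specialLinear e.symm P (transGL_mem hne (1 : F))))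
  have h00 := congrFun (congrFun hab (a₀, b₀)) (a₀, b₀)
  have h01 := congrFun (congrFun hab (a₀, b₀)) (a₀, b₁)
  have h11 := congrFun (congrFun hab (a₀, b₀)) (a₁, b₁)
  simp [transGL_coe, Matrix.transvection, Matrix.one_apply, a₀, a₁, b₀, b₁] at h00 h01 h11
  rcases h01 with h | h
  · rw [h, zero_mul] at h00; exact one_ne_zero h00
  · rw [h, mul_zero] at h11; exact one_ne_zero h11

theorem wreath_form {m t : ℕ} {g : GL (Fin t → Fin m) F} (hg : g ∈ tensorWreathStandard m t F) :
    ∃ (A : Fin t → GL (Fin m) F) (σ : Equiv.Perm (Fin t)),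
      (g : Matrix (Fin t → Fin m) (Fin t → Fin m) F) =
        pureM (fun i => (A i : Matrix (Fin m) (Fin m) F)) * factorPermM m F σ := by
  induction hg using Subgroup.closure_induction with
  | one => exact ⟨fun _ => 1, 1, by simp [factorPermM_one, pureM_one]⟩
  | mem g hg =>
    rcases hg with ⟨A, hA⟩ | ⟨σ, hσ⟩
    · exact ⟨A, 1, by rw [factorPermM_one, Matrix.mul_one]; exact Matrix.ext hA⟩
    · refine ⟨fun _ => 1, σ, ?_⟩
      simp only [Units.val_one]
      rw [pureM_one, Matrix.one_mul]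
      exact Matrix.ext hσ
  | mul a b _ _ ha hb =>
    obtain ⟨A, σ, hA⟩ := ha
    obtain ⟨B, τ, hB⟩ := hb
    refine ⟨fun i => A i * B (σ.symm i), σ * τ, ?_⟩
    rw [Units.val_mul, hA, hB, Matrix.mul_assoc, ← Matrix.mul_assoc (factorPermM m F σ), factorPermM_pureM,
      Matrix.mul_assoc, ← Matrix.mul_assoc, factorPermM_mul, pureM_mul]
    simp only [Units.val_mul]
  | inv a _ ha =>
    obtain ⟨A, σ, hA⟩ := ha
    refine ⟨fun i => (A (σ i))⁻¹, σ⁻¹, ?_⟩
    refine Units.inv_eq_of_mul_eq_one_right ?_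
    have h1 : pureM (fun i => (((A (σ i))⁻¹ : GL (Fin m) F) : Matrix (Fin m) (Fin m) F)) * factorPermM m F σ⁻¹ =
        factorPermM m F σ⁻¹ * pureM (fun i => (((A i)⁻¹ : GL (Fin m) F) : Matrix (Fin m) (Fin m) F)) := by
      rw [factorPermM_pureM]
      simp [Equiv.Perm.inv_def]
    rw [hA, h1, Matrix.mul_assoc, ← Matrix.mul_assoc (factorPermM m F σ), factorPermM_mul, mul_inv_cancel,
      factorPermM_one, Matrix.one_mul, pureM_mul]
    simp only [Units.mul_inv]
    exact pureM_one

theorem not_specialLinear_le_wreath {m t : ℕ} (hm : 2 ≤ m) (ht : 2 ≤ t) (e : ι ≃ (Fin t → Fin m)) (P : GL ι F) :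
    ¬ specialLinear ι F ≤ tensorWreathSubgroup m t e P := by
  intro h
  let i₀ : Fin t := ⟨0, by omega⟩
  let i₁ : Fin t := ⟨1, by omega⟩
  let z₀ : Fin m := ⟨0, by omega⟩
  let z₁ : Fin m := ⟨1, by omega⟩
  let x₀ : Fin t → Fin m := fun _ => z₀
  let x₁ : Fin t → Fin m := fun _ => z₁
  have hne : x₀ ≠ x₁ := fun e => by simpa [x₀, x₁, z₀, z₁] using congrFun e i₀
  obtain ⟨A, σ, hA⟩ := wreath_form
    (mem_of_conj_reindex e P (h (conj_reindex_mem_specialLinear e.symm P (transGL_mem hne (1 : F)))))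
  have hval : ∀ y, (transGL hne (1 : F) : Matrix (Fin t → Fin m) (Fin t → Fin m) F) x₀ y =
      ∏ i, (A i : Matrix (Fin m) (Fin m) F) z₀ (y (σ.symm i)) := fun y => by
    rw [hA, mul_factorPermM_apply]
    rfl
  have h00 : ∀ i, (A i : Matrix (Fin m) (Fin m) F) z₀ z₀ ≠ 0 := fun i h0 => by
    have := hval x₀
    rw [Finset.prod_eq_zero (Finset.mem_univ i) h0] at this
    simp [transGL_coe, Matrix.transvection, hne.symm] at this
  have h11 : ∀ i, (A i : Matrix (Fin m) (Fin m) F) z₀ z₁ ≠ 0 := fun i h0 => by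
    have := hval x₁
    rw [Finset.prod_eq_zero (Finset.mem_univ i) h0] at this
    simp [transGL_coe, Matrix.transvection, hne] at this
  have hy := hval (Function.update x₀ i₀ z₁)
  have hy0 : x₀ ≠ Function.update x₀ i₀ z₁ := fun e => by simpa [x₀, z₀, z₁] using congrFun e i₀
  have hy1 : x₁ ≠ Function.update x₀ i₀ z₁ := fun e => by
    simpa [x₀, x₁, z₀, z₁, Function.update_of_ne (show i₁ ≠ i₀ by simp [i₀, i₁])] using congrFun e i₁
  simp only [transGL_coe, Matrix.transvection, Matrix.add_apply, Matrix.one_apply_ne hy0,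
    Matrix.single_apply_of_ne _ _ _ _ _ (fun h => hy1 h.2), add_zero] at hy
  refine Finset.prod_ne_zero_iff.mpr (fun i _ => ?_) hy.symm
  rcases eq_or_ne (σ.symm i) i₀ with h | h
  · rw [h, Function.update_self]; exact h11 i
  · rw [Function.update_of_ne h]; exact h00 i

theorem bound_aux {q n : ℕ} (hq : 4 ≤ q) (hn : 3 ≤ n) : q * n ^ 2 + q ^ 2 < q ^ n := by
  induction n, hn using Nat.le_induction with
  | base => nlinarith [Nat.mul_le_mul (Nat.mul_le_mul hq hq) (le_refl q)]
  | succ n hn ih =>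
    rw [pow_succ q n]
    have h1 : (q * n ^ 2 + q ^ 2) * 4 ≤ q ^ n * q := Nat.mul_le_mul ih.le hq
    have h2 : (n + 1) ^ 2 < 4 * n ^ 2 := by nlinarith
    nlinarith [Nat.mul_lt_mul_of_pos_left h2 (show 0 < q by omega)]

theorem symplecticData_center [Fintype F] {r : ℕ} {R : Subgroup (GL ι F)} (hR : IsLinearSymplecticTypeData r R)
    (h3 : 3 ≤ Fintype.card ι) :
    ∃ p e, p.Prime ∧ Fintype.card F = p ^ e ∧ Nat.card (Subgroup.center R) ∣ Fintype.card F - 1 ∧
      3 ≤ Nat.card (Subgroup.center R) ∧ Odd e ∧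
      (∀ d, 0 < d → d < e → ¬ Nat.card (Subgroup.center R) ∣ p ^ d - 1) ∧
      ((Odd r ∧ Nat.card (Subgroup.center R) = r) ∨ (r = 2 ∧ e = 1 ∧ Nat.card (Subgroup.center R) = 4)) := by
  obtain ⟨p, e, -, ⟨hp, -, hce, hdvd, hmin⟩, hc⟩ := hR.field
  refine ⟨p, e, hp, hce, hce ▸ hdvd, ?_, ?_, hmin, ?_⟩ <;> rcases hc with ⟨ho, he, h, -⟩ | ⟨h2, he1, h, -⟩ | ⟨-, -, h, -⟩
  · rw [h]
    have := hR.symplecticType.prime.two_le
    rcases eq_or_ne r 2 with h' | h'
    · rw [h'] at ho; exact absurd ho (by decide)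
    · omega
  · omega
  · omega
  · exact he
  · rw [he1]; exact odd_one
  · omega
  · exact Or.inl ⟨ho, h⟩
  · exact Or.inr ⟨h2, he1, h⟩
  · omega

theorem not_specialLinear_le_symplecticType [Fintype F] (h3 : 3 ≤ Fintype.card ι) {r k : ℕ} {R : Subgroup (GL ι F)}
    (hR : IsLinearSymplecticTypeData r R) (hk : Fintype.card ι = r ^ k)
    (hcard : Nat.card R = Nat.card (Subgroup.center R) * r ^ (2 * k)) :
    ¬ specialLinear ι F ≤ subgroupNormalizer R := by
  obtain ⟨p, e, -, -, hdvd, hz3, -, -, -⟩ := symplecticData_center hR h3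
  have hq1 : 1 < Fintype.card F := Fintype.one_lt_card
  have hzq := Nat.le_of_dvd (by omega) hdvd
  refine not_specialLinear_le_normalizer h3 ?_ ?_
  · by_contra hcon
    push Not at hcon
    have htop : Subgroup.center R = ⊤ := by
      rw [eq_top_iff]
      intro x _
      exact Subgroup.mem_center_iff.mpr fun y => Subtype.ext (scalars_commute (hcon _ x.2) y).symm
    rw [htop, Subgroup.card_top] at hcard
    have hpos : 0 < Nat.card R := Nat.card_pos
    have : r ^ (2 * k) = 1 := (Nat.mul_eq_left hpos.ne').mp hcard.symm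
    rw [mul_comm, pow_mul, ← hk] at this
    nlinarith
  · rw [hcard, mul_comm 2 k, pow_mul, ← hk]
    have := bound_aux (show 4 ≤ Fintype.card F by omega) h3
    nlinarith [Nat.mul_le_mul (show Nat.card (Subgroup.center R) ≤ Fintype.card F by omega) (le_refl (Fintype.card ι ^ 2))]

/-- The maximal subgroups of the special linear group, by class. -/
inductive SLMax [Fintype F] (H : Subgroup (GL ι F)) : Prop
  | subspace (W : Submodule F (ι → F)) (h0 : W ≠ ⊥) (h1 : W ≠ ⊤)
      (h : H = subspaceStabilizer W ⊓ specialLinear ι F)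
  | decomposition (t m : ℕ) (D : Fin t → Submodule F (ι → F)) (hD : IsMDecomposition m D)
      (hn : t * m = Fintype.card ι) (h : H = decompositionStabilizer D ⊓ specialLinear ι F)
  | field (r : ℕ) (K : Subalgebra F (Matrix ι ι F)) (hr : r.Prime) (hdvd : r ∣ Fintype.card ι)
      (hK : IsFieldSubalgebra r K) (h : H = subalgebraNormalizer K ⊓ specialLinear ι F)
  | tensor (n₁ n₂ : ℕ) (e : ι ≃ Fin n₁ × Fin n₂) (P : GL ι F) (h2 : 2 ≤ n₁) (hlt : n₁ < n₂)
      (hn : n₁ * n₂ = Fintype.card ι) (h : H = tensorProductSubgroup n₁ n₂ e P ⊓ specialLinear ι F)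
  | subfield (F₀ : Subfield F) (r : ℕ) (P : GL ι F) (hr : r.Prime) (hc : Fintype.card F = Nat.card F₀ ^ r)
      (h : H = subfieldSubgroup F₀ P ⊓ specialLinear ι F)
  | symplecticType (r k : ℕ) (R : Subgroup (GL ι F)) (hr : r.Prime) (hR : IsLinearSymplecticTypeData r R)
      (hk : Fintype.card ι = r ^ k) (h : H = subgroupNormalizer R ⊓ specialLinear ι F)
  | wreath (m t : ℕ) (e : ι ≃ (Fin t → Fin m)) (P : GL ι F) (hm : 3 ≤ m) (ht : 2 ≤ t)
      (hn : m ^ t = Fintype.card ι) (h : H = tensorWreathSubgroup m t e P ⊓ specialLinear ι F)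
  | symplectic (f : (ι → F) → (ι → F) → F) (hf : IsSymplecticForm f) (heven : Even (Fintype.card ι))
      (h : H = similarityGroup f ⊓ specialLinear ι F)
  | unitary (σ : F ≃+* F) (f : (ι → F) → (ι → F) → F) (hf : IsUnitaryForm σ f)
      (h : H = similarityGroup f ⊓ specialLinear ι F)
  | quadratic (hq : Odd (Fintype.card F)) (Q : (ι → F) → F) (hQ : IsNondegenerateQuadraticForm Q)
      (h : H = quadSimilarityGroup Q ⊓ specialLinear ι F)
  | residual (h : InLinearResidualClass H)

theorem sl_maximal_cases [Fintype F] (h3 : 3 ≤ Fintype.card ι) {H : Subgroup (GL ι F)}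
    (hH : IsMaximalIn (specialLinear ι F) H) : SLMax H := by
  haveI : Nonempty ι := Fintype.card_pos_iff.mp (by omega)
  haveI : Nontrivial ι := Fintype.one_lt_card_iff_nontrivial.mp (by omega)
  cases lin_aschbacher h3 H with
  | subspace W h0 h1 h =>
    exact .subspace W h0 h1 (eq_inf_of_maximal hH h (not_specialLinear_le_subspaceStabilizer h0 h1))
  | decomposition t m D hD h =>
    exact .decomposition t m D hD (IsMDecomposition.card_eq hD) (eq_inf_of_maximal hH h (not_specialLinear_le_decomposition hD))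
  | field r K hr hK h =>
    exact .field r K hr (fieldSubalgebra_finrank_dvd hK) hK
      (eq_inf_of_maximal hH h (not_specialLinear_le_subalgebraNormalizer h3 hr.one_lt hK))
  | tensor n₁ n₂ e P h2 hlt h =>
    exact .tensor n₁ n₂ e P h2 hlt (by simp [Fintype.card_congr e])
      (eq_inf_of_maximal hH h (not_specialLinear_le_tensor h2 (by omega) e P))
  | subfield F₀ r P hr hc h =>
    exact .subfield F₀ r P hr hc (eq_inf_of_maximal hH h (not_specialLinear_le_subfieldSubgroup hr hc P))
  | symplecticType r k R hR hk hcard h =>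
    exact .symplecticType r k R hR.symplecticType.prime hR hk
      (eq_inf_of_maximal hH h (not_specialLinear_le_symplecticType h3 hR hk hcard))
  | wreath m t e P hm ht h =>
    exact .wreath m t e P hm ht (by simp [Fintype.card_congr e])
      (eq_inf_of_maximal hH h (not_specialLinear_le_wreath (by omega) ht e P))
  | symplectic f hf h =>
    refine .symplectic f hf (Nat.not_odd_iff_even.mp fun hodd =>
      not_nondegenerate_alternating_of_odd hodd hf.bilinear hf.skew hf.alternating hf.nondegenerate) ?_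
    exact eq_inf_of_maximal hH h (not_specialLinear_le_similarityGroup h3 (RingEquiv.refl F)
      (semiForm_of_bilinear hf.bilinear) hf.nondegenerate)
  | unitary σ f hf h =>
    exact .unitary σ f hf (eq_inf_of_maximal hH h
      (not_specialLinear_le_similarityGroup h3 σ (semiForm_of_unitary hf) hf.nondegenerate))
  | quadratic hq Q hQ h =>
    exact .quadratic hq Q hQ (eq_inf_of_maximal hH h (not_specialLinear_le_quadSimilarityGroup h3 hQ))
  | residual h => exact .residual h

end Cfsg.Agent.Classical
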