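/-
Members of the geometric classes of a symplectic group containing a given irreducible subgroup.
-/
import Cfsg.Agent.Lib.Classical.FormPower
import Cfsg.Agent.Lib.Classical.FormSmallSolvable
import Cfsg.Agent.Lib.Classical.FormField
import Cfsg.Agent.Lib.Classical.FormReducible
import Cfsg.Agent.Lib.Classical.LinAschbacher
import Cfsg.Agent.Lib.Classical.LinMaximalGeneral

set_option autoImplicit false
set_option linter.style.haveILetI false
set_option linter.unusedSectionVars false

namespace Cfsg.Agent.Classical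

open Matrix Cfsg.Geo
open scoped Kronecker

variable {m : ℕ} {F : Type*} [Field F]

theorem sympForm_isSymplectic : IsSymplecticForm (sympForm m F) := by
  have hJ : ∀ i j, Matrix.J (Fin m) F j i = -Matrix.J (Fin m) F i j := fun i j => by
    have := congrFun (congrFun (Matrix.J_transpose (Fin m) F) i) j
    simpa using this
  have hb : IsBilinearForm (sympForm m F) :=
    ⟨fun x y v => add_dotProduct _ _ _, fun c x v => smul_dotProduct _ _ _,
      fun v x y => by simp only [sympForm, Matrix.mulVec_add, dotProduct_add],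
      fun c v x => by simp only [sympForm, Matrix.mulVec_smul, dotProduct_smul, smul_eq_mul]⟩
  have hform : ∀ u v, sympForm m F u v =
      ∑ i, (u (.inr i) * v (.inl i) - u (.inl i) * v (.inr i)) := fun u v => by
    simp [sympForm, dotProduct, Matrix.mulVec, Matrix.J, Fintype.sum_sum_type, Matrix.one_apply, Finset.sum_sub_distrib,
      sub_eq_add_neg, Finset.sum_add_distrib, add_comm]
  refine ⟨hb, fun v w => ?_, fun v => ?_, fun v hv => ?_⟩
  · rw [hform, hform, ← Finset.sum_neg_distrib]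
    exact Finset.sum_congr rfl fun i _ => by ring
  · rw [hform]
    exact Finset.sum_eq_zero fun i _ => by ring
  · obtain ⟨k, hk⟩ := Function.ne_iff.mp hv
    rcases k with k | k <;> simp only [Pi.zero_apply] at hk
    · exact ⟨⟨Pi.single (.inr k) 1, by simpa [hform, Pi.single_apply] using hk⟩,
        ⟨Pi.single (.inr k) 1, by simpa [hform, Pi.single_apply] using hk⟩⟩
    · exact ⟨⟨Pi.single (.inl k) 1, by simpa [hform, Pi.single_apply] using hk⟩,
        ⟨Pi.single (.inl k) 1, by simpa [hform, Pi.single_apply] using hk⟩⟩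

theorem spGL_fixes {H : Subgroup (GL (Fin m ⊕ Fin m) F)} (hH : H ≤ spGL m F) :
    FixesForm (matrixSet H) (sympForm m F) := by
  rintro _ ⟨g, hg, rfl⟩ u v
  exact hH hg u v

/-- `H` lies in a member of a geometric class of the symplectic group. -/
def SpMember [Fintype F] (H : Subgroup (GL (Fin m ⊕ Fin m) F)) : Prop :=
  ∃ M, InSymplecticClass m F M ∧ H ≤ M

variable [Fintype F] {H : Subgroup (GL (Fin m ⊕ Fin m) F)}

theorem not_odd_of_two_eq_zero (h2 : (2 : F) = 0) : ¬ Odd (Fintype.card F) := fun h => two_ne_zero_of_odd_card h h2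

theorem spMember_of_quad (hH : H ≤ spGL m F) (h2 : (2 : F) = 0)
    (h : ∃ Q : (Fin m ⊕ Fin m → F) → F, IsNondegenerateQuadraticForm Q ∧
      (∀ u v, QuadraticMap.polar Q u v = sympForm m F u v) ∧ FixesQuadForm (matrixSet H) Q) : SpMember H := by
  obtain ⟨Q, hQ, hpol, hfix⟩ := h
  refine ⟨_, Or.inl (Or.inr (Or.inr (Or.inr (Or.inr (Or.inr (Or.inr ⟨Q, not_odd_of_two_eq_zero h2, hQ, hpol, rfl⟩)))))),
    le_inf (fun g hg => ⟨1, fun v => ?_⟩) hH⟩
  rw [Units.val_one, one_mul]
  exact hfix _ (coe_mem_matrixSet hg) v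

/-- A reducible group lies in the stabiliser of a subspace or of a pair. -/
theorem spMember_of_reducible (hm : 0 < m) (hH : H ≤ spGL m F) (hred : ¬ ActsIrreducibly (matrixSet H)) : SpMember H := by
  have hf := reflexForm_of_symplectic (sympForm_isSymplectic (m := m) (F := F))
  rcases hf.reducible_cases (spGL_fixes hH) hred with ⟨W, h0, hts, h⟩ | ⟨W, h0, hnd, hlt, h⟩ | ⟨k, D, -, hD, h⟩
  · exact ⟨_, Or.inl (Or.inl ⟨W, h0, hts, rfl⟩), le_inf h hH⟩
  · refine ⟨_, Or.inl (Or.inr (Or.inl ⟨W, h0, hnd, ?_, rfl⟩)), le_inf h hH⟩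
    simp [Fintype.card_sum] at hlt
    omega
  · exact ⟨_, Or.inl (Or.inr (Or.inr (Or.inl ⟨_, _, D, hD, rfl⟩))), le_inf h hH⟩

/-- An irreducible group normalising a non-scalar commutative adjoint-closed algebra lies in a member. -/
theorem spMember_of_algebra (hm : 0 < m) (hH : H ≤ spGL m F) (hirr : ActsIrreducibly (matrixSet H))
    {Z : Subalgebra F (Matrix (Fin m ⊕ Fin m) (Fin m ⊕ Fin m) F)} (hZ : ∀ x ∈ Z, ∀ y ∈ Z, x * y = y * x)
    (hn : H ≤ subalgebraNormalizer Z) (hZadj : ∀ z ∈ Z, formAdj (RingEquiv.refl F) (sympForm m F) z ∈ Z)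
    (hns : ∃ z ∈ Z, ∀ c : F, z ≠ c • (1 : Matrix (Fin m ⊕ Fin m) (Fin m ⊕ Fin m) F)) : SpMember H := by
  classical
  haveI : Nonempty (Fin m ⊕ Fin m) := ⟨.inl ⟨0, hm⟩⟩
  have hfs := sympForm_isSymplectic (m := m) (F := F)
  have hf := reflexForm_of_symplectic hfs
  have hfix := spGL_fixes hH
  rcases hf.comm_algebra_cases hirr hfix hZ hn hZadj with hs | ⟨t, k, D, hD, h⟩ |
    ⟨k, D, hD, hts, h, e, he, headj, hge⟩ | ⟨r, K, hr, hK, hKadj, h, -⟩
  · obtain ⟨z, hz, hz'⟩ := hns
    obtain ⟨c, hc⟩ := hs z hz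
    exact absurd hc (hz' c)
  · exact ⟨_, Or.inl (Or.inr (Or.inr (Or.inl ⟨t, k, D, hD, rfl⟩))), le_inf h hH⟩
  · by_cases h2 : (2 : F) = 0
    · refine spMember_of_quad hH h2 (quad_of_omega hfs h2 hfix (ω := e) ?_ ?_)
      · rw [headj]; abel
      · intro g hg
        have h' := hge g⁻¹ (inv_mem hg)
        rw [inv_inv] at h'
        rcases h' with h' | h'
        · exact ⟨0, by rw [h', zero_smul, add_zero]⟩
        · refine ⟨1, h'.trans ?_⟩
          rw [one_smul]
          ext i j
          rw [Matrix.sub_apply, Matrix.add_apply]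
          linear_combination -(e i j) * h2
    · have hk : k = m := by
        have := IsMDecomposition.card_eq hD
        simp [Fintype.card_sum] at this
        omega
      subst hk
      exact ⟨_, Or.inl (Or.inr (Or.inr (Or.inr (Or.inl ⟨D, odd_card_of_two_ne_zero h2, hD, hts, rfl⟩)))), le_inf h hH⟩
  · by_cases hself : IsSelfAdjointFor (sympForm m F) K
    · exact ⟨_, Or.inr (Or.inl ⟨r, K, hr, hK, hself, field_alternating hfs hK hself, rfl⟩), le_inf h hH⟩
    · obtain rfl : r = 2 := hf.field_degree_two (fun _ => rfl) hr hK hKadj hself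
      by_cases h2 : (2 : F) = 0
      · rw [hf.isAdjointClosedFor_iff] at hKadj
        rw [hf.isSelfAdjointFor_iff] at hself
        push Not at hself
        obtain ⟨k₀, hk₀, hne⟩ := hself
        set τ := formAdj (RingEquiv.refl F) (sympForm m F) with hτ
        have hfixed : ∀ s ∈ K, τ s = s → ∃ c : F, s = c • (1 : Matrix (Fin m ⊕ Fin m) (Fin m ⊕ Fin m) F) := by
          intro s hs hτs
          by_contra hcon
          push Not at hcon
          have hli : LinearIndependent F ![s, (1 : Matrix (Fin m ⊕ Fin m) (Fin m ⊕ Fin m) F)] := by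
            rw [linearIndependent_fin2]
            exact ⟨by simp, fun a e' => hcon a (by simpa using e'.symm)⟩
          have hS := finrank_span_eq_card hli
          have hle : Submodule.span F (Set.range ![s, (1 : Matrix (Fin m ⊕ Fin m) (Fin m ⊕ Fin m) F)]) ≤ K.toSubmodule := by
            rw [Submodule.span_le]
            rintro _ ⟨i, rfl⟩
            fin_cases i
            · exact hs
            · exact K.one_mem
          have heq := Submodule.eq_of_le_of_finrank_eq hle (hS.trans (by rw [Fintype.card_fin]; exact hK.finrank_eq.symm))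
          have hk' : k₀ ∈ Submodule.span F (Set.range ![s, (1 : Matrix (Fin m ⊕ Fin m) (Fin m ⊕ Fin m) F)]) := heq ▸ hk₀
          obtain ⟨a, ha⟩ := (Submodule.mem_span_range_iff_exists_fun F).mp hk'
          apply hne
          simp only [Fin.sum_univ_two, Matrix.cons_val_zero, Matrix.cons_val_one] at ha
          rw [← ha, hτ, hf.adj_add, hf.adj_smul, hf.adj_smul, hf.adj_one, ← hτ, hτs]
          rfl
        obtain ⟨c₀, hc₀⟩ := hfixed (k₀ + τ k₀) (add_mem hk₀ (hKadj _ hk₀)) (by rw [hτ, hf.adj_add, hf.adj_adj, add_comm])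
        have hneg : ∀ M : Matrix (Fin m ⊕ Fin m) (Fin m ⊕ Fin m) F, -M = M := fun M => by
          ext i j; rw [Matrix.neg_apply]; linear_combination -(M i j) * h2
        have hc0 : c₀ ≠ 0 := fun h0 => hne (by
          rw [h0, zero_smul] at hc₀
          exact (eq_neg_of_add_eq_zero_right hc₀).trans (hneg _))
        have hωτ : c₀⁻¹ • k₀ + τ (c₀⁻¹ • k₀) = 1 := by
          rw [hτ, hf.adj_smul, ← hτ, RingEquiv.refl_apply, ← smul_add, hc₀, smul_smul, inv_mul_cancel₀ hc0, one_smul]
        refine spMember_of_quad hH h2 (quad_of_omega hfs h2 hfix (ω := c₀⁻¹ • k₀) hωτ fun g hg => ?_)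
        set ω := c₀⁻¹ • k₀
        set ω' := ((g⁻¹ : GL (Fin m ⊕ Fin m) F) : Matrix (Fin m ⊕ Fin m) (Fin m ⊕ Fin m) F) * ω *
          (g : Matrix (Fin m ⊕ Fin m) (Fin m ⊕ Fin m) F) with hω'
        have hωK : ω ∈ K := K.smul_mem hk₀ _
        have hω'K : ω' ∈ K := by
          have := (h (inv_mem hg) ω).mp hωK
          rwa [inv_inv] at this
        have hω'τ : τ ω' = 1 + ω' := by
          have e' := hf.adj_conj (g := g⁻¹) (hfix _ (coe_mem_matrixSet (inv_mem hg))) ω
          rw [inv_inv] at e'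
          rw [hτ, hω', e', ← hτ, show τ ω = 1 - ω from eq_sub_of_add_eq' hωτ, sub_eq_add_neg, hneg, Matrix.mul_add,
            Matrix.add_mul, Matrix.mul_one, Units.inv_mul]
        obtain ⟨c, hc⟩ := hfixed (ω' + ω) (add_mem hω'K hωK) (by
          rw [hτ, hf.adj_add, ← hτ, hω'τ, show τ ω = 1 - ω from eq_sub_of_add_eq' hωτ]
          ext i j
          simp only [Matrix.add_apply, Matrix.sub_apply]
          linear_combination ((1 : Matrix (Fin m ⊕ Fin m) (Fin m ⊕ Fin m) F) i j - ω i j) * h2)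
        refine ⟨c, ?_⟩
        ext i j
        have e' := congrFun (congrFun hc i) j
        simp only [Matrix.add_apply] at e' ⊢
        rw [← e']
        linear_combination -(ω i j) * h2
      · exact ⟨_, Or.inr (Or.inr (Or.inl ⟨K, odd_card_of_two_ne_zero h2, hK, hKadj, hself, rfl⟩)), le_inf h hH⟩

/-- An irreducible group preserving a tensor decomposition lies in a member. -/
theorem spMember_of_tensor (hm : 0 < m) (hH : H ≤ spGL m F) (hirr : ActsIrreducibly (matrixSet H)) {d k : ℕ}
    (hd : 2 ≤ d) (hk : 2 ≤ k) (e : (Fin m ⊕ Fin m) ≃ Fin d × Fin k) (P : GL (Fin m ⊕ Fin m) F)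
    {G₁ : Matrix (Fin d) (Fin d) F} {G₂ : Matrix (Fin k) (Fin k) F} {l : F}
    (hT : TensorGram (RingEquiv.refl F) (-1) (sympForm m F) e P G₁ G₂ l)
    (hkr : ∀ g ∈ H, ∃ (a : GL (Fin d) F) (b : GL (Fin k) F),
      matCoord e P (g : Matrix (Fin m ⊕ Fin m) (Fin m ⊕ Fin m) F) = (a : Matrix (Fin d) (Fin d) F) ⊗ₖ (b : Matrix (Fin k) (Fin k) F)) :
    SpMember H := by
  classical
  have hfs := sympForm_isSymplectic (m := m) (F := F)
  have hf := reflexForm_of_symplectic hfs
  have hfix := spGL_fixes hH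
  have hswap : ∀ g ∈ H, ∃ (a : GL (Fin k) F) (b : GL (Fin d) F),
      matCoord (e.trans (Equiv.prodComm _ _)) P (g : Matrix (Fin m ⊕ Fin m) (Fin m ⊕ Fin m) F) =
        (a : Matrix (Fin k) (Fin k) F) ⊗ₖ (b : Matrix (Fin d) (Fin d) F) := fun g hg => by
    obtain ⟨a, b, hab⟩ := hkr g hg
    refine ⟨b, a, ?_⟩
    rw [matCoord_trans, hab]
    ext x y
    simp [mul_comm]
  have hT' := hT.prodComm (by simp) (fun _ => rfl)
  by_cases h2 : (2 : F) = 0
  · obtain ⟨hs₁, hd₁⟩ := hT.diag_left h2 hd (by omega) hf hirr hfix hkr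
    obtain ⟨hs₂, hd₂⟩ := hT'.diag_left h2 hk (by omega) hf hirr hfix hswap
    exact spMember_of_quad hH h2 (hT.quad h2 hfs hs₁ hd₁ hs₂ hd₂ hfix hkr)
  have main : ∀ {d k : ℕ}, 2 ≤ d → 2 ≤ k → ∀ (e : (Fin m ⊕ Fin m) ≃ Fin d × Fin k) (P : GL (Fin m ⊕ Fin m) F)
      {G₁ : Matrix (Fin d) (Fin d) F} {G₂ : Matrix (Fin k) (Fin k) F} {l : F},
      TensorGram (RingEquiv.refl F) (-1) (sympForm m F) e P G₁ G₂ l → l = -1 →
      (∀ g ∈ H, ∃ (a : GL (Fin d) F) (b : GL (Fin k) F),
        matCoord e P (g : Matrix (Fin m ⊕ Fin m) (Fin m ⊕ Fin m) F) = (a : Matrix (Fin d) (Fin d) F) ⊗ₖ (b : Matrix (Fin k) (Fin k) F)) →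
      SpMember H := by
    intro d k hd hk e P G₁ G₂ l hT hl hkr
    subst hl
    have hs₁ : ∀ i j, G₁ j i = -G₁ i j := fun i j => by simpa using hT.swap_left i j
    have hs₂ : ∀ i j, G₂ j i = G₂ i j := fun i j => by simpa using hT.swap_right i j
    rcases eq_or_lt_of_le hk with rfl | hk3
    · obtain ⟨Z, hZ, hn, hZadj, hns⟩ := hT.plane_algebra h2 (by omega) hf hs₂ hfix hkr
      exact spMember_of_algebra hm hH hirr hZ hn hZadj hns
    · exact ⟨_, Or.inr (Or.inr (Or.inr (Or.inl ⟨d, k, e, P, _, _, odd_card_of_two_ne_zero h2, hk3,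
        gram_symplectic h2 hT.det_left hs₁, gram_symmetric hT.det_right hs₂,
        tensor_structure P hf.semi e one_ne_zero (by rw [one_smul]; exact hT.gram), rfl⟩))),
        le_inf (le_tensor_of_kronecker e P hkr) hH⟩
  rcases mul_self_eq_one_iff.mp (hT.norm : l * l = 1) with hl | hl
  · exact main hk hd _ P hT' (by rw [hl]; simp) hswap
  · exact main hd hk e P hT hl hkr

/-- A perfect-cored group permuting the factors of a tensor power lies in a member. -/
theorem spMember_of_power (hH : H ≤ spGL m F) (hirr : ActsIrreducibly (matrixSet H)) {k t : ℕ}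
    (hk : 2 ≤ k) (ht : 2 ≤ t) (e : (Fin m ⊕ Fin m) ≃ (Fin t → Fin k)) (B : GL (Fin m ⊕ Fin m) F)
    (hle : H ≤ tensorWreathSubgroup k t e B) {P : Subgroup (GL (Fin m ⊕ Fin m) F)} (hPH : P ≤ H)
    (hperf : ⁅P, P⁆ = P) (hPne : ¬ P ≤ ⊥) (hW : WreathFactors H P e B) : SpMember H := by
  classical
  have hfs := sympForm_isSymplectic (m := m) (F := F)
  have hf := reflexForm_of_symplectic hfs
  have hfix := spGL_fixes hH
  obtain ⟨c, G₀, l, hG⟩ := hf.power_gram hk ht e B hPH hfix hW
  by_cases h2 : (2 : F) = 0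
  · have hl : l = 1 := by
      rcases mul_self_eq_one_iff.mp (hG.norm : l * l = 1) with h | h
      · exact h
      · rw [h]; linear_combination -h2
    have hs : ∀ i j, G₀ j i = G₀ i j := fun i j => by simpa [hl] using hG.swap i j
    exact spMember_of_quad hH h2 (quad_of_power h2 hfs ht e B hG.gram hs
      (power_diag h2 hf hk (by omega) hG.gram hG.ne_zero hG.det_ne_zero hs hirr hfix hle) hfix hle)
  have hlt : l ^ t = -1 := mul_left_cancel₀ hG.ne_zero (by
    rw [hG.scalar]; simp)
  have hl : l = -1 := by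
    rcases mul_self_eq_one_iff.mp (hG.norm : l * l = 1) with h | h
    · rw [h, one_pow] at hlt
      exact absurd (show (2 : F) = 0 by linear_combination hlt) h2
    · exact h
  have htodd : Odd t := by
    by_contra he
    rw [hl, (Nat.not_odd_iff_even.mp he).neg_one_pow] at hlt
    exact h2 (by linear_combination hlt)
  have hex : ¬ (Fintype.card F = 3 ∧ k = 2) := by
    rintro ⟨h3, rfl⟩
    haveI := isSolvable_GL_two_three (F := F) h3
    haveI : Group.IsSolvable (⊤ : Subgroup (GL (Fin 2) F)) := inferInstance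
    exact hPne (perfect_pure_le_bot (by omega) (by omega) e B hperf hW.2 ⊤ fun p _ A _ i => Subgroup.mem_top _)
  have h3 : 3 ≤ t := by
    obtain ⟨r, rfl⟩ := htodd
    omega
  exact ⟨_, Or.inr (Or.inr (Or.inr (Or.inr ⟨k, t, e, B, _, odd_card_of_two_ne_zero h2, htodd, h3, hex,
    gram_symplectic h2 hG.det_ne_zero (fun i j => by simpa [hl] using hG.swap i j),
    tensor_power_structure B hf.semi e hG.ne_zero hG.gram, rfl⟩))), le_inf hle hH⟩

end Cfsg.Agent.Classical
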