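/-
The symplectic-type case for symplectic groups.
-/
import Cfsg.Agent.Lib.Classical.FormSpMember
import Cfsg.Agent.Lib.Classical.FormFrobenius
import Cfsg.Agent.Lib.Classical.SymplecticType

set_option autoImplicit false
set_option linter.style.haveILetI false
set_option linter.unusedSectionVars false

namespace Cfsg.Agent.Classical

open Matrix Cfsg.Geo

variable {ι : Type} [Fintype ι] [DecidableEq ι] {F : Type*} [Field F]

/-- An elementary abelian subgroup of a group of alternating isometries of order `2 ^ (1 + 2k)` is small. -/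
theorem minus_type_of_symplectic [Finite F] [Nonempty ι] (h2 : (2 : F) ≠ 0) {f : (ι → F) → (ι → F) → F}
    (hfs : IsSymplecticForm f) {M : Subgroup (GL ι F)} (hM : ActsAbsolutelyIrreducibly (matrixSet M))
    (hfix : FixesForm (matrixSet M) f)
    (hpm : ∀ x y : M, (((x * y : M) : GL ι F) : Matrix ι ι F) = (((y * x : M) : GL ι F) : Matrix ι ι F) ∨
      (((x * y : M) : GL ι F) : Matrix ι ι F) = -(((y * x : M) : GL ι F) : Matrix ι ι F))
    {k : ℕ} (hcard : Nat.card M = 2 ^ (1 + 2 * k)) (hcentre : Nat.card (Subgroup.center M) = 2) :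
    IsOfMinusType k M := by
  classical
  intro A hA hA2
  by_contra hlt
  push Not at hlt
  haveI := hA
  haveI : Fintype M := Fintype.ofFinite M
  set Mm : M → Matrix ι ι F := fun g => ((g : GL ι F) : Matrix ι ι F) with hMm
  have hmul : ∀ g h, Mm (g * h) = Mm g * Mm h := fun g h => rfl
  have hcA : ∀ a ∈ A, ∀ b ∈ A, a * b = b * a := fun a ha b hb => congrArg Subtype.val (mul_comm' (⟨a, ha⟩ : A) ⟨b, hb⟩)
  -- a common eigenvector
  have heig : ∀ S : Finset M, (∀ a ∈ S, a ∈ A) → ∃ U : Submodule F (ι → F), U ≠ ⊥ ∧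
      (∀ a ∈ A, ∀ u ∈ U, Mm a *ᵥ u ∈ U) ∧ ∀ a ∈ S, ∃ c : F, (c = 1 ∨ c = -1) ∧ ∀ u ∈ U, Mm a *ᵥ u = c • u := by
    intro S
    induction S using Finset.induction with
    | empty => exact fun _ => ⟨⊤, top_ne_bot, fun _ _ _ _ => Submodule.mem_top, by simp⟩
    | insert a S _ ih =>
      intro hS
      obtain ⟨U, hU0, hUA, hUS⟩ := ih fun b hb => hS b (Finset.mem_insert_of_mem hb)
      have haA := hS a (Finset.mem_insert_self a S)
      have haa : Mm a * Mm a = 1 := by rw [← hmul, hA2 a haA]; rfl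
      obtain ⟨u₀, hu₀, hu₀0⟩ := Submodule.exists_mem_ne_zero_of_ne_bot hU0
      obtain ⟨c, hc, w, hw, hw0, hwe⟩ : ∃ c : F, (c = 1 ∨ c = -1) ∧ ∃ w ∈ U, w ≠ 0 ∧ Mm a *ᵥ w = c • w := by
        by_cases hs : u₀ + Mm a *ᵥ u₀ = 0
        · exact ⟨-1, Or.inr rfl, u₀, hu₀, hu₀0, by rw [neg_smul, one_smul]; exact eq_neg_of_add_eq_zero_right hs⟩
        · refine ⟨1, Or.inl rfl, _, U.add_mem hu₀ (hUA a haA _ hu₀), hs, ?_⟩
          rw [one_smul, Matrix.mulVec_add, Matrix.mulVec_mulVec, haa, Matrix.one_mulVec, add_comm]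
      let E : Submodule F (ι → F) := U ⊓ LinearMap.ker (Matrix.toLin' (Mm a - c • (1 : Matrix ι ι F)))
      have hE : ∀ u, u ∈ E ↔ u ∈ U ∧ Mm a *ᵥ u = c • u := fun u => by
        simp [E, Matrix.sub_mulVec, Matrix.smul_mulVec, sub_eq_zero]
      refine ⟨E, fun e => hw0 ((Submodule.mem_bot F).mp (e ▸ (hE w).mpr ⟨hw, hwe⟩)), fun b hb u hu => ?_, fun b hb => ?_⟩
      · obtain ⟨hu, hue⟩ := (hE u).mp hu
        refine (hE _).mpr ⟨hUA b hb u hu, ?_⟩
        rw [Matrix.mulVec_mulVec, ← hmul, hcA a haA b hb, hmul, ← Matrix.mulVec_mulVec, hue, Matrix.mulVec_smul]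
      · rcases Finset.mem_insert.mp hb with rfl | hb
        · exact ⟨c, hc, fun u hu => ((hE u).mp hu).2⟩
        · obtain ⟨c', hc', hcu⟩ := hUS b hb
          exact ⟨c', hc', fun u hu => hcu u ((hE u).mp hu).1⟩
  obtain ⟨U, hU0, -, hU⟩ := heig (Finset.univ.filter (· ∈ A)) fun a ha => (Finset.mem_filter.mp ha).2
  obtain ⟨v, hvU, hv0⟩ := Submodule.exists_mem_ne_zero_of_ne_bot hU0
  have hχ : ∀ a : A, ∃ c : F, (c = 1 ∨ c = -1) ∧ Mm a *ᵥ v = c • v := fun a => by
    obtain ⟨c, hc, h⟩ := hU a (Finset.mem_filter.mpr ⟨Finset.mem_univ _, a.2⟩)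
    exact ⟨c, hc, h v hvU⟩
  choose χ hχ1 hχv using hχ
  -- the twists
  have htw : ∀ g h : M, ∃ c : Fˣ, IsTwist (g : GL ι F) (h : GL ι F) (c : F) := fun g h => by
    rcases hpm g h with e | e
    · exact ⟨1, ⟨by rw [Units.val_one, one_smul]; exact e⟩⟩
    · exact ⟨-1, ⟨by rw [Units.val_neg, Units.val_one, neg_smul, one_smul]; exact e⟩⟩
  choose κ hκ using htw
  have hone : ∀ g h : M, κ g h = 1 ↔ g * h = h * g := fun g h => by
    constructor
    · intro e
      have := (hκ g h).eq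
      rw [e, Units.val_one, one_smul] at this
      exact Subtype.ext (Units.ext this)
    · intro e
      refine Units.ext ((hκ g h).unique ⟨?_⟩)
      rw [Units.val_one, one_smul, ← Units.val_mul, ← Units.val_mul]
      exact congrArg (fun z : M => ((z : GL ι F) : Matrix ι ι F)) e
  let β : M →* (A →* Fˣ) := MonoidHom.mk'
    (fun g => MonoidHom.mk' (fun a => κ g a) fun a b =>
      Units.ext ((hκ g (a * b : M)).unique (by simpa using (hκ g a).mul_right (hκ g b))))
    fun g g' => MonoidHom.ext fun a =>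
      Units.ext ((hκ (g * g') a).unique (by simpa using (hκ g a).mul_left (hκ g' a)))
  haveI : Finite β.range := Finite.of_surjective β.rangeRestrict β.rangeRestrict_surjective
  let ev : A →* (β.range →* Fˣ) := MonoidHom.mk' (fun a => MonoidHom.mk' (fun b => (b : A →* Fˣ) a) fun b b' => rfl)
    fun a a' => MonoidHom.ext fun b => map_mul (b : A →* Fˣ) a a'
  haveI : Finite ev.range := Finite.of_surjective ev.rangeRestrict ev.rangeRestrict_surjective
  have hevker : ev.ker ≤ (Subgroup.center M).subgroupOf A := fun a ha => by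
    rw [Subgroup.mem_subgroupOf, Subgroup.mem_center_iff]
    intro g
    exact (hone g a).mp (DFunLike.congr_fun ha ⟨β g, g, rfl⟩)
  have hle1 : Nat.card ev.range ≤ Nat.card β.range :=
    card_le_of_injective_hom (F := F) (fun e => (Units.coeHom F).comp (e : β.range →* Fˣ)) fun e e' h =>
      Subtype.ext (MonoidHom.ext fun b => Units.ext (DFunLike.congr_fun h b))
  have hkerA : A ≤ β.ker := fun a ha => MonoidHom.ext fun b => (hone a b).mpr (hcA a ha b b.2)
  have hC : A = β.ker := by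
    refine SetLike.coe_injective (Set.eq_of_subset_of_ncard_le hkerA ?_ (Set.toFinite _))
    rw [← Nat.card_coe_set_eq, ← Nat.card_coe_set_eq]
    change Nat.card β.ker ≤ Nat.card A
    have h1 : Nat.card ev.range * Nat.card ev.ker = Nat.card A := by
      rw [← Subgroup.index_ker, Subgroup.index_mul_card]
    have h2' : Nat.card ev.ker ≤ 2 := by
      rw [← hcentre]
      exact Nat.card_le_card_of_injective (fun a : ev.ker => (⟨((a : A) : M), hevker a.2⟩ : Subgroup.center M))
        fun a b h => Subtype.ext (Subtype.ext (congrArg Subtype.val h :))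
    have h3 : Nat.card β.range * Nat.card β.ker = 2 ^ (1 + 2 * k) := by
      rw [← hcard, ← Subgroup.index_ker, Subgroup.index_mul_card]
    by_contra hne
    push Not at hne
    have h4 : 2 ^ (1 + 2 * k) < Nat.card β.range * Nat.card β.ker + 1 := by omega
    have h5 : Nat.card A ≤ 2 * Nat.card β.range := by
      rw [← h1]
      calc Nat.card ev.range * Nat.card ev.ker ≤ Nat.card β.range * 2 := Nat.mul_le_mul hle1 h2'
        _ = _ := mul_comm _ _
    have h6 : 2 ^ k ≤ Nat.card β.range := by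
      have := hlt.trans h5
      rw [pow_succ'] at this
      omega
    have h7 : 2 ^ k * (Nat.card A + 1) ≤ 2 ^ (1 + 2 * k) := by
      rw [← h3]; exact Nat.mul_le_mul h6 hne
    have h8 : 2 ^ k * (2 ^ (k + 1) + 1) ≤ 2 ^ (1 + 2 * k) := le_trans (Nat.mul_le_mul_left _ (by omega)) h7
    rw [Nat.mul_add, ← pow_add, show k + (k + 1) = 1 + 2 * k by ring] at h8
    have := Nat.one_le_pow k 2 two_pos
    omega
  -- the translates of `v` are orthogonal to it
  have horth : ∀ g : M, f v (Mm g *ᵥ v) = 0 := by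
    intro g
    by_cases hg : g ∈ β.ker
    · have hgA : g ∈ A := hC ▸ hg
      rw [hχv ⟨g, hgA⟩, hfs.bilinear.smul_right, hfs.alternating, mul_zero]
    · obtain ⟨a, ha⟩ : ∃ a : A, κ g a ≠ 1 := by
        by_contra hcon
        push Not at hcon
        exact hg (MonoidHom.ext fun a => hcon a)
      have he : Mm a * Mm g = -(Mm g * Mm a) := by
        rcases hpm (a : M) g with e | e
        · exact absurd ((hone g a).mpr (Subtype.ext (Units.ext e.symm))) ha
        · exact e
      have h := hfix _ (coe_mem_matrixSet (a : M).2) v (Mm g *ᵥ v)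
      change f (Mm a *ᵥ v) (Mm a *ᵥ (Mm g *ᵥ v)) = f v (Mm g *ᵥ v) at h
      rw [Matrix.mulVec_mulVec, he, hχv a, Matrix.neg_mulVec, ← Matrix.mulVec_mulVec, hχv a, Matrix.mulVec_smul,
        ← neg_smul, hfs.bilinear.smul_left, hfs.bilinear.smul_right] at h
      rcases hχ1 a with e | e <;> rw [e] at h <;>
        exact (mul_eq_zero.mp (show (2 : F) * f v (Mm g *ᵥ v) = 0 by linear_combination -h)).resolve_left h2
  have hspan : Submodule.span F (Set.range fun g : M => Mm g *ᵥ v) = ⊤ := by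
    refine (hM.1 _ ?_).resolve_left fun e => hv0 ?_
    · rintro _ ⟨x, hx, rfl⟩
      rw [Submodule.map_span, Submodule.span_le]
      rintro _ ⟨_, ⟨g, rfl⟩, rfl⟩
      refine Submodule.subset_span ⟨⟨x, hx⟩ * g, ?_⟩
      simp [Mm, Matrix.mulVec_mulVec]
    · refine (Submodule.mem_bot F).mp (e ▸ Submodule.subset_span ⟨1, ?_⟩)
      simp [Mm]
  obtain ⟨w, hw⟩ := (hfs.nondegenerate v hv0).2
  apply hw
  let φ : (ι → F) →ₗ[F] F :=
    { toFun := fun x => f v x
      map_add' := fun a b => hfs.bilinear.add_right v a b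
      map_smul' := fun c a => hfs.bilinear.smul_right c v a }
  have : Submodule.span F (Set.range fun g : M => Mm g *ᵥ v) ≤ LinearMap.ker φ := by
    rw [Submodule.span_le]
    rintro _ ⟨g, rfl⟩
    exact horth g
  exact LinearMap.mem_ker.mp (this (hspan ▸ Submodule.mem_top) : w ∈ LinearMap.ker φ)

variable {m : ℕ} [Fintype F] {H : Subgroup (GL (Fin m ⊕ Fin m) F)}

/-- A normal subgroup of symplectic type gives a member. -/
theorem spMember_of_symplectic (hm : 0 < m) (hH : H ≤ spGL m F) {M : Subgroup (GL (Fin m ⊕ Fin m) F)}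
    (hMH : M ≤ H) (hMn : NormalIn H M)
    (hM : ActsAbsolutelyIrreducibly (matrixSet M)) (hne : ∃ x ∈ M, ∃ y ∈ M, x * y ≠ y * x)
    (hcomm : ∀ x ∈ M, ∀ y ∈ M, x * y * x⁻¹ * y⁻¹ ∈ scalars (Fin m ⊕ Fin m) F)
    (hmin : ∀ A : Subgroup (GL (Fin m ⊕ Fin m) F), A ≤ M → NormalIn H A → M ⊓ scalars (Fin m ⊕ Fin m) F ≤ A →
      ¬ A ≤ scalars (Fin m ⊕ Fin m) F → A = M) :
    SpMember H := by
  classical
  haveI : Nonempty (Fin m ⊕ Fin m) := ⟨.inl ⟨0, hm⟩⟩
  have hfs := sympForm_isSymplectic (m := m) (F := F)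
  have hf := reflexForm_of_symplectic hfs
  have hfixH := spGL_fixes hH
  have hfix : FixesForm (matrixSet M) (sympForm m F) := spGL_fixes (hMH.trans hH)
  -- scalar isometries are signs
  have hsign : ∀ z ∈ M, z ∈ scalars (Fin m ⊕ Fin m) F →
      (z : Matrix (Fin m ⊕ Fin m) (Fin m ⊕ Fin m) F) = 1 ∨ (z : Matrix (Fin m ⊕ Fin m) (Fin m ⊕ Fin m) F) = -1 := by
    intro z hz hzs
    obtain ⟨c, hc⟩ := (mem_scalars_iff z).mp hzs
    obtain ⟨i⟩ := ‹Nonempty (Fin m ⊕ Fin m)›
    obtain ⟨x, hx⟩ := (hfs.nondegenerate (Pi.single i 1) (by simp)).1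
    have e := hfix _ (coe_mem_matrixSet hz) x (Pi.single i 1)
    rw [hc, Matrix.smul_mulVec, Matrix.one_mulVec, Matrix.smul_mulVec, Matrix.one_mulVec, hfs.bilinear.smul_left,
      hfs.bilinear.smul_right, ← mul_assoc] at e
    rcases mul_self_eq_one_iff.mp ((mul_eq_right₀ hx).mp e) with h | h <;> rw [hc, h]
    · exact Or.inl (one_smul _ _)
    · exact Or.inr (by rw [neg_smul, one_smul])
  have hpm : ∀ x y : M, (((x * y : M) : GL (Fin m ⊕ Fin m) F) : Matrix (Fin m ⊕ Fin m) (Fin m ⊕ Fin m) F) = (((y * x : M) : GL (Fin m ⊕ Fin m) F) : Matrix (Fin m ⊕ Fin m) (Fin m ⊕ Fin m) F) ∨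
      (((x * y : M) : GL (Fin m ⊕ Fin m) F) : Matrix (Fin m ⊕ Fin m) (Fin m ⊕ Fin m) F) = -(((y * x : M) : GL (Fin m ⊕ Fin m) F) : Matrix (Fin m ⊕ Fin m) (Fin m ⊕ Fin m) F) := by
    intro x y
    have e : ((x * y : M) : GL (Fin m ⊕ Fin m) F) = ((x * y * x⁻¹ * y⁻¹ : M) : GL (Fin m ⊕ Fin m) F) * ((y * x : M) : GL (Fin m ⊕ Fin m) F) := by
      rw [← Subgroup.coe_mul]; congr 1; group
    rcases hsign _ (x * y * x⁻¹ * y⁻¹ : M).2 (hcomm x x.2 y y.2) with h | h
    · left; rw [e, Units.val_mul, h, Matrix.one_mul]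
    · right; rw [e, Units.val_mul, h, Matrix.neg_mul, Matrix.one_mul]
  obtain ⟨x₀, hx₀, y₀, hy₀, hxy⟩ := hne
  have hneg : ((⟨x₀, hx₀⟩ * ⟨y₀, hy₀⟩ * (⟨x₀, hx₀⟩ : M)⁻¹ * (⟨y₀, hy₀⟩ : M)⁻¹ : M) : GL (Fin m ⊕ Fin m) F).val = -1 := by
    refine (hsign _ (Subtype.prop _) (hcomm x₀ hx₀ y₀ hy₀)).resolve_left fun h => hxy ?_
    have h' : x₀ * y₀ * x₀⁻¹ * y₀⁻¹ = 1 := Units.ext h
    exact commutatorElement_eq_one_iff_mul_comm.mp h'
  have h2 : (2 : F) ≠ 0 := fun h2 => hxy (by
    refine commutatorElement_eq_one_iff_mul_comm.mp (Units.ext ?_)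
    refine (show _ = (-1 : Matrix (Fin m ⊕ Fin m) (Fin m ⊕ Fin m) F) from hneg).trans ?_
    ext i j
    rw [Matrix.neg_apply]
    linear_combination -((1 : Matrix (Fin m ⊕ Fin m) (Fin m ⊕ Fin m) F) i j) * h2)
  have hone_ne : (1 : Matrix (Fin m ⊕ Fin m) (Fin m ⊕ Fin m) F) ≠ -1 := fun h => h2 (by
    have := congrFun (congrFun h (.inl ⟨0, hm⟩)) (.inl ⟨0, hm⟩)
    simp at this
    linear_combination this)
  have hsq : ∀ x : M, ((x * x : M) : GL (Fin m ⊕ Fin m) F) ∈ scalars (Fin m ⊕ Fin m) F := fun x =>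
    mem_scalars_of_absIrr hM fun y hy => by
      have key : ∀ (a : M), (((a * a : M) : GL (Fin m ⊕ Fin m) F) : Matrix (Fin m ⊕ Fin m) (Fin m ⊕ Fin m) F) * (y : Matrix (Fin m ⊕ Fin m) (Fin m ⊕ Fin m) F) =
          (y : Matrix (Fin m ⊕ Fin m) (Fin m ⊕ Fin m) F) * (((a * a : M) : GL (Fin m ⊕ Fin m) F) : Matrix (Fin m ⊕ Fin m) (Fin m ⊕ Fin m) F) := fun a => by
        rcases hpm a ⟨y, hy⟩ with e | e <;>
        · simp only [Subgroup.coe_mul, Units.val_mul] at e ⊢
          rw [Matrix.mul_assoc, e]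
          simp only [Matrix.mul_neg, ← Matrix.mul_assoc]
          rw [e]
          try simp [Matrix.mul_assoc]
      exact Units.ext (key x)
  have h4 : ∀ x : M, x ^ 4 = 1 := fun x => Subtype.ext (Units.ext (by
    have h := hsign _ (x * x : M).2 (hsq x)
    rw [show x ^ 4 = (x * x) * (x * x) by simp [pow_succ, mul_assoc], Subgroup.coe_mul, Units.val_mul]
    rcases h with h | h <;> rw [h] <;> simp))
  have hcentre : Nat.card (Subgroup.center M) = 2 := by
    set n₀ : M := ⟨x₀, hx₀⟩ * ⟨y₀, hy₀⟩ * (⟨x₀, hx₀⟩ : M)⁻¹ * (⟨y₀, hy₀⟩ : M)⁻¹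
    have hmem : ∀ z : M, z ∈ Subgroup.center M ↔ z = 1 ∨ z = n₀ := by
      intro z
      refine ⟨fun hz => ?_, fun hz => ?_⟩
      · have hzs : (z : GL (Fin m ⊕ Fin m) F) ∈ scalars (Fin m ⊕ Fin m) F := mem_scalars_of_absIrr hM fun w hw =>
          (congrArg Subtype.val (Subgroup.mem_center_iff.mp hz ⟨w, hw⟩)).symm
        rcases hsign z z.2 hzs with h | h
        · exact Or.inl (Subtype.ext (Units.ext h))
        · exact Or.inr (Subtype.ext (Units.ext (h.trans hneg.symm)))
      · rcases hz with rfl | rfl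
        · exact one_mem _
        · exact Subgroup.mem_center_iff.mpr fun w =>
            Subtype.ext (scalars_commute (hcomm x₀ hx₀ y₀ hy₀) (w : GL (Fin m ⊕ Fin m) F)).symm
    have hne1 : n₀ ≠ 1 := fun h => hone_ne (by
      rw [← hneg, h]; rfl)
    rw [← Nat.card_congr (Equiv.subtypeEquivRight fun z => (hmem z).symm : {z : M // z = 1 ∨ z = n₀} ≃ Subgroup.center M)]
    rw [show 2 = ({1, n₀} : Finset M).card by rw [Finset.card_pair (Ne.symm hne1)],
      ← Nat.card_eq_finsetCard]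
    exact Nat.card_congr (Equiv.subtypeEquivRight fun z => by simp)
  have hp2 : IsPGroup 2 M := fun x => ⟨2, by simpa using h4 x⟩
  obtain ⟨A₀, k, -, -, hk1, hcard, -⟩ := exists_maximal_abelian_of Nat.prime_two hp2 hcomm ⟨x₀, hx₀, y₀, hy₀, hxy⟩
  rw [hcentre, ← pow_succ'] at hcard
  have hcard' : Nat.card M = 2 ^ (1 + 2 * k) := by rw [hcard, add_comm]
  obtain ⟨p, hchar⟩ := CharP.exists F
  obtain ⟨⟨e, he⟩, hp, hce⟩ := FiniteField.card F p
  change Fintype.card F = p ^ e at hce
  have hodd := odd_card_of_two_ne_zero h2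
  by_cases he1 : e = 1
  · rw [he1, pow_one] at hce
    have hst : IsSymplecticTypeGroup 2 M := by
      refine ⟨Nat.prime_two, hp2, fun A hA hAc => ?_, ?_⟩
      · let A' := A.map M.subtype
        have hA'n : NormalIn H A' := by
          rintro h hh _ ⟨a, ha, rfl⟩
          let φ : M ≃* M :=
            { toFun := fun g => ⟨h * g * h⁻¹, hMn h hh g g.2⟩
              invFun := fun g => ⟨h⁻¹ * g * h, by simpa using hMn h⁻¹ (inv_mem hh) g g.2⟩
              left_inv := fun g => Subtype.ext (by simp [mul_assoc])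
              right_inv := fun g => Subtype.ext (by simp [mul_assoc])
              map_mul' := fun g g' => Subtype.ext (by simp [mul_assoc]) }
          refine ⟨φ a, ?_, rfl⟩
          rw [← Subgroup.characteristic_iff_map_eq.mp hA φ]
          exact ⟨a, ha, rfl⟩
        by_cases hle : A' ≤ scalars (Fin m ⊕ Fin m) F
        · haveI : IsCyclic ((scalarGL (Fin m ⊕ Fin m) F).range) :=
            isCyclic_of_surjective (scalarGL (Fin m ⊕ Fin m) F).rangeRestrict (scalarGL (Fin m ⊕ Fin m) F).rangeRestrict_surjective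
          have hle' : A' ≤ (scalarGL (Fin m ⊕ Fin m) F).range := hle
          exact isCyclic_of_injective
            ((Subgroup.inclusion hle').comp
              (A.equivMapOfInjective M.subtype M.subtype_injective).toMonoidHom)
            ((Subgroup.inclusion_injective hle').comp (A.equivMapOfInjective M.subtype M.subtype_injective).injective)
        · exfalso
          have hscN : NormalIn H (M ⊓ scalars (Fin m ⊕ Fin m) F) := hMn.inf normalIn_of_normal
          have hA'M : A' ≤ M := Subgroup.map_subtype_le A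
          have e' := hmin _ (sup_le hA'M inf_le_left) (hA'n.sup hscN) le_sup_right fun h => hle (le_sup_left.trans h)
          have hAc' : ∀ a ∈ A', ∀ b ∈ A', a * b = b * a := by
            rintro _ ⟨a, ha, rfl⟩ _ ⟨b, hb, rfl⟩
            exact congrArg (fun z : A => ((z : M) : GL (Fin m ⊕ Fin m) F)) (hAc.is_comm.comm ⟨a, ha⟩ ⟨b, hb⟩)
          have hc : A' ⊔ M ⊓ scalars (Fin m ⊕ Fin m) F ≤ Subgroup.centralizer (A' : Set (GL (Fin m ⊕ Fin m) F)) :=
            sup_le (fun a ha => Subgroup.mem_centralizer_iff.mpr fun b hb => hAc' b hb a ha)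
              fun z hz => Subgroup.mem_centralizer_iff.mpr fun b _ => (scalars_commute hz.2 b).symm
          rw [e'] at hc
          have hc2 : A' ≤ Subgroup.centralizer (M : Set (GL (Fin m ⊕ Fin m) F)) := fun a ha =>
            Subgroup.mem_centralizer_iff.mpr fun x hx => (Subgroup.mem_centralizer_iff.mp (hc hx) a ha).symm
          exact hle fun a ha => mem_scalars_of_absIrr hM fun x hx =>
            (Subgroup.mem_centralizer_iff.mp (hc2 ha) x hx).symm
      · change Monoid.exponent M = 4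
        have hdvd : Monoid.exponent M ∣ 4 := Monoid.exponent_dvd_of_forall_pow_eq_one h4
        have hle := Nat.le_of_dvd (by norm_num) hdvd
        by_contra hne
        have h2d : Monoid.exponent M ∣ 2 := by
          interval_cases hE : Monoid.exponent M <;> simp_all
        apply hxy
        have hs : ∀ x : M, x * x = 1 := fun x => by
          rw [← sq]; exact Monoid.exponent_dvd_iff_forall_pow_eq_one.mp h2d x
        have : (⟨x₀, hx₀⟩ * ⟨y₀, hy₀⟩ : M) = ⟨y₀, hy₀⟩ * ⟨x₀, hx₀⟩ := by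
          rw [eq_inv_of_mul_eq_one_left (hs (⟨x₀, hx₀⟩ * ⟨y₀, hy₀⟩)), _root_.mul_inv_rev,
            inv_eq_of_mul_eq_one_left (hs _), inv_eq_of_mul_eq_one_left (hs _)]
        exact congrArg Subtype.val this
    have hsim : M ≤ similarityGroup (sympForm m F) := fun g hg =>
      ⟨1, fun u v => by rw [Units.val_one, one_mul]; exact hfix _ (coe_mem_matrixSet hg) u v⟩
    exact ⟨_, Or.inl (Or.inr (Or.inr (Or.inr (Or.inr (Or.inr (Or.inl
      ⟨M, p, k, hst, hM, hsim, hp, hce ▸ hodd, hce, hcard', hcentre,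
        minus_type_of_symplectic h2 hfs hM hfix hpm hcard' hcentre, rfl⟩)))))), le_inf hMn.le_normalizer hH⟩
  -- over a larger field the group is realised over the prime field
  haveI := hchar
  haveI : ExpChar F p := ExpChar.prime hp
  let τ : F ≃+* F := iterateFrobeniusEquiv F p 1
  haveI : Fintype M := Fintype.ofFinite M
  have hcM : (Fintype.card M : F) ≠ 0 := by
    rw [← Nat.card_eq_fintype_card, hcard']
    push_cast
    exact pow_ne_zero _ h2
  obtain ⟨C, hCu, hC⟩ := exists_intertwiner_of_traces τ hM hcM (fun g hg => by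
      obtain ⟨h, hh, hgh⟩ : ∃ h ∈ M, (g : GL (Fin m ⊕ Fin m) F) * h ≠ h * g := by
        by_contra hcon
        push Not at hcon
        exact hg (mem_scalars_of_absIrr hM hcon)
      rcases hpm g ⟨h, hh⟩ with e' | e'
      · exact absurd (Units.ext e') hgh
      · simp only [Subgroup.coe_mul, Units.val_mul] at e'
        have e := congrArg (fun Z => (((h⁻¹ : GL (Fin m ⊕ Fin m) F) : Matrix (Fin m ⊕ Fin m) (Fin m ⊕ Fin m) F) * Z).trace) e'
        simp only [Matrix.mul_neg, Matrix.trace_neg, ← Matrix.mul_assoc, Units.inv_mul, Matrix.one_mul] at e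
        rw [Matrix.trace_mul_comm, ← Matrix.mul_assoc, Units.mul_inv, Matrix.one_mul] at e
        exact (mul_eq_zero.mp (show (2 : F) * _ = 0 by linear_combination e)).resolve_left h2)
    (fun g hg => hsign g g.2 hg) (by
      have e' : Nat.card {g : M // (g : GL (Fin m ⊕ Fin m) F) ∈ scalars (Fin m ⊕ Fin m) F} = 2 := by
        rw [← hcentre]
        refine Nat.card_congr (Equiv.subtypeEquivRight fun g => ⟨fun hg => ?_, fun hg => ?_⟩)
        · exact Subgroup.mem_center_iff.mpr fun w => Subtype.ext (scalars_commute hg w).symm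
        · exact mem_scalars_of_absIrr hM fun w hw =>
            (congrArg Subtype.val (Subgroup.mem_center_iff.mp hg ⟨w, hw⟩)).symm
      rw [e']; exact_mod_cast h2)
  have hreal := realisable_of_cyclic_intertwiner hM hCu hC
  have hne : fixedField τ ≠ ⊤ := fun htop => by
    have hc := card_pow_fixed (F := F) hp hce (one_dvd e) one_pos
    have hall : ∀ x : F, x ^ p ^ 1 = x := fun x => by
      have : x ∈ fixedField τ := htop ▸ Subfield.mem_top x
      rwa [mem_fixedField, iterateFrobeniusEquiv_def] at this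
    rw [Nat.card_congr (Equiv.subtypeUnivEquiv hall), Nat.card_eq_fintype_card, hce] at hc
    exact he1 (Nat.pow_right_injective hp.two_le hc)
  obtain ⟨F₁, r, B, a, A₁, hr, hcF, hS⟩ := hf.subfield_gram hMn hM hfix hne hreal
  exact ⟨_, Or.inl (Or.inr (Or.inr (Or.inr (Or.inr (Or.inl
    ⟨F₁, r, B⁻¹, a⁻¹, hr, hcF, inv_ne_zero hS.ne_zero,
      hS.rational_of_mem (by rw [inv_mul_cancel₀ hS.ne_zero]; exact one_mem _), rfl⟩))))), le_inf hS.le hH⟩

end Cfsg.Agent.Classical
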