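/-
Subgroup structure of the symplectic groups.
-/
import Cfsg.Agent.Lib.Classical.FormAschbacher
import Cfsg.Agent.Lib.Classical.FormSpSymplectic
import Cfsg.Agent.Lib.Classical.FormOtherForms

set_option autoImplicit false
set_option linter.style.haveILetI false
set_option linter.unusedSectionVars false

namespace Cfsg.Agent.Classical

open Matrix Cfsg.Geo

variable {m : ℕ} {F : Type*} [Field F] [Fintype F]

/-- Every subgroup of the symplectic group lies in a member or is residual. -/
theorem sp_structure (hm : 1 ≤ m) {H : Subgroup (GL (Fin m ⊕ Fin m) F)} (hH : H ≤ spGL m F) :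
    SpMember H ∨ InSymplecticResidualClass H := by
  classical
  haveI : Nonempty (Fin m ⊕ Fin m) := ⟨.inl ⟨0, hm⟩⟩
  have hn : 2 ≤ Fintype.card (Fin m ⊕ Fin m) := by simp [Fintype.card_sum]; omega
  have hfs := sympForm_isSymplectic (m := m) (F := F)
  have hf := reflexForm_of_symplectic hfs
  have hfix := spGL_fixes hH
  rcases form_aschbacher hn hf hfix (SpMember H)
      (spMember_of_reducible hm hH)
      (fun hirr M hMH hMn _ hns => spMember_of_algebra hm hH hirr
        (fun x hx y hy => (mem_commutantCentre.mp hx).2 y (mem_commutantCentre.mp hy).1)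
        (normalizer_le_centreNormalizer hMn) (fun z hz => hf.commutantCentre_adj hfix hMH hz) hns)
      (fun hirr d k e P G₁ G₂ l hd hk hT hkr => spMember_of_tensor hm hH hirr hd hk e P hT hkr)
      (fun M hMH hMn hMa hne hc hmin => spMember_of_symplectic hm hH hMH hMn hMa hne hc hmin)
      (fun N hNH hNn hNa F₀ h0 hreal => by
        obtain ⟨F₁, r, B, a, A₁, hr, hcF, hS⟩ := hf.subfield_gram hNn hNa (spGL_fixes (hNH.trans hH)) h0 hreal
        exact ⟨_, Or.inl (Or.inr (Or.inr (Or.inr (Or.inr (Or.inl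
          ⟨F₁, r, B⁻¹, a⁻¹, hr, hcF, inv_ne_zero hS.ne_zero,
            hS.rational_of_mem (by rw [inv_mul_cancel₀ hS.ne_zero]; exact one_mem _), rfl⟩))))), le_inf hS.le hH⟩)
      (fun hirr k t e B P hk ht hle hPH hperf hne hW => spMember_of_power hH hirr hk ht e B hle hPH hperf hne hW) with
    h | ⟨P, hP⟩
  · exact Or.inl h
  have hPfix := spGL_fixes (hP.le.trans hH)
  by_cases hquad : ∃ Q : (Fin m ⊕ Fin m → F) → F, IsNondegenerateQuadraticForm Q ∧ FixesQuadForm (matrixSet P) Q
  · obtain ⟨Q, hQ, hQfix⟩ := hquad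
    obtain ⟨c, hc, hprop⟩ := bilinear_proportional hP.absIrred hfs.bilinear hfs.nondegenerate hPfix hQ.polar_bilinear
      hQ.nondegenerate (quad_fixes_polar hQfix)
    by_cases h2 : (2 : F) = 0
    · left
      have hpol : ∀ u v, QuadraticMap.polar (fun w => c⁻¹ * Q w) u v = sympForm m F u v := fun u v => by
        have := hprop u v
        simp only [QuadraticMap.polar] at this ⊢
        rw [← mul_sub, ← mul_sub, this, ← mul_assoc, inv_mul_cancel₀ hc, one_mul]
      have hQ' : IsNondegenerateQuadraticForm (fun w => c⁻¹ * Q w) := by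
        have e : QuadraticMap.polar (fun w => c⁻¹ * Q w) = sympForm m F := funext fun u => funext (hpol u)
        exact ⟨fun a v => by change c⁻¹ * Q (a • v) = _; rw [hQ.smul]; ring, e ▸ hfs.bilinear, e ▸ hfs.nondegenerate⟩
      exact spMember_of_quad hH h2 ⟨_, hQ', hpol, quad_fixed_of_normalises h2 hn hQ'.smul hpol hP.normal hP.absIrred.1
        hfix fun s hs v => by change c⁻¹ * Q _ = _; rw [hQfix s hs]⟩
    · exfalso
      obtain ⟨i⟩ := ‹Nonempty (Fin m ⊕ Fin m)›
      obtain ⟨⟨x, hx⟩, -⟩ := hfs.nondegenerate (Pi.single i 1) (by simp)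
      have h1 := hprop x (Pi.single i 1)
      rw [QuadraticMap.polar_comm, hprop, hfs.skew] at h1
      exact hx ((mul_eq_zero.mp (show (2 * c) * sympForm m F x (Pi.single i 1) = 0 by linear_combination -h1)).resolve_left
        (mul_ne_zero h2 hc))
  refine Or.inr ⟨P, hP, hquad, fun ⟨σ, f, hu, hfu⟩ => ?_⟩
  obtain ⟨F₀, h0, hr⟩ := realisable_of_two_forms hP.absIrred hfs.bilinear hfs.nondegenerate hPfix hu hfu
  exact hP.no_subfield F₀ h0 hr

end Cfsg.Agent.Classical
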