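/-
The odd dimensional orthogonal groups: Eichler transformations, and geometric members Ω is not contained in.
-/
import Cfsg.Agent.Lib.Classical.Forms
import Cfsg.Agent.Lib.Classical.Subfield
import Cfsg.Agent.Lib.Classical.LinMaximal

set_option autoImplicit false
set_option linter.style.haveILetI false

namespace Cfsg.Agent.Classical

open Matrix Cfsg.Geo
open scoped commutatorElement

variable {ι : Type} [Fintype ι] [DecidableEq ι] {F : Type*} [Field F] {Q : (ι → F) → F}

theorem mem_isometryGroup_iff {g : GL ι F} :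
    g ∈ isometryGroup F Q ↔ ∀ u, Q ((g : Matrix ι ι F) *ᵥ u) = Q u :=
  ⟨fun h u => h u u, fun h u _ => h u⟩

theorem omegaGL_eq : omegaGL Q = ⁅isometryGroup F Q, isometryGroup F Q⁆ := by
  rw [omegaGL, Omega, commutator_def, Subgroup.map_commutator, ← MonoidHom.range_eq_map, Subgroup.range_subtype]

theorem omegaGL_le_isometry : omegaGL Q ≤ isometryGroup F Q := Subgroup.map_subtype_le _

theorem omegaGL_le_specialLinear : omegaGL Q ≤ specialLinear ι F := by
  rw [omegaGL_eq, Subgroup.commutator_le]
  intro a _ b _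
  show Matrix.GeneralLinearGroup.det ⁅a, b⁆ = 1
  rw [map_commutatorElement, commutatorElement_eq_one_iff_mul_comm]
  exact mul_comm _ _

/-- The Eichler transformation attached to a singular vector `u` and a vector `w`. -/
def eichler (Q : (ι → F) → F) (u w : ι → F) (x : ι → F) : ι → F :=
  x + QuadraticMap.polar Q x u • w - (QuadraticMap.polar Q x w + Q w * QuadraticMap.polar Q x u) • u

theorem quad_add (x y : ι → F) : Q (x + y) = Q x + Q y + QuadraticMap.polar Q x y := by
  simp [QuadraticMap.polar]

variable (hQ : IsNondegenerateQuadraticForm Q)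

include hQ

theorem quad_zero : Q 0 = 0 := by simpa using hQ.smul 0 0

theorem eichler_isometry {u w : ι → F} (hu : Q u = 0) (huw : QuadraticMap.polar Q u w = 0) (x : ι → F) :
    Q (eichler Q u w x) = Q x := by
  have hb := hQ.polar_bilinear
  have hwu : QuadraticMap.polar Q w u = 0 := by rw [QuadraticMap.polar_comm]; exact huw
  set a := QuadraticMap.polar Q x u
  set b := QuadraticMap.polar Q x w
  have e : eichler Q u w x = x + (a • w + (-(b + Q w * a)) • u) := by
    simp only [eichler, a, b, neg_smul]; abel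
  rw [e, quad_add (Q := Q) x, quad_add (Q := Q) (a • w), hQ.smul, hQ.smul, hu, hb.add_right, hb.smul_right, hb.smul_right,
    hb.smul_left, hb.smul_right, hwu]
  ring

theorem eichler_linear {u w : ι → F} : ∃ L : (ι → F) →ₗ[F] (ι → F), ∀ x, L x = eichler Q u w x := by
  have hb := hQ.polar_bilinear
  refine ⟨{ toFun := eichler Q u w, map_add' := fun x y => ?_, map_smul' := fun c x => ?_ }, fun x => rfl⟩
  · simp only [eichler, hb.add_left]
    module
  · simp only [eichler, hb.smul_left, RingHom.id_apply]
    module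

theorem eichler_comp {u w w' : ι → F} (hu : Q u = 0) (huw : QuadraticMap.polar Q u w = 0)
    (huw' : QuadraticMap.polar Q u w' = 0) (x : ι → F) :
    eichler Q u w (eichler Q u w' x) = eichler Q u (w + w') x := by
  have hb := hQ.polar_bilinear
  have huu : QuadraticMap.polar Q u u = 0 := by rw [polar_self_eq hQ, hu, mul_zero]
  have hw'u : QuadraticMap.polar Q w' u = 0 := by rw [QuadraticMap.polar_comm]; exact huw'
  set a := QuadraticMap.polar Q x u
  set b := QuadraticMap.polar Q x w'
  have e : eichler Q u w' x = x + (a • w' + (-(b + Q w' * a)) • u) := by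
    simp only [eichler, a, b, neg_smul]; abel
  have h1 : QuadraticMap.polar Q (eichler Q u w' x) u = a := by
    rw [e, hb.add_left, hb.add_left, hb.smul_left, hb.smul_left, hw'u, huu]; ring
  have h2 : QuadraticMap.polar Q (eichler Q u w' x) w = QuadraticMap.polar Q x w + a * QuadraticMap.polar Q w w' := by
    rw [e, hb.add_left, hb.add_left, hb.smul_left, hb.smul_left, huw, QuadraticMap.polar_comm _ w' w]; ring
  conv_lhs => rw [eichler]
  rw [h1, h2]
  simp only [eichler, hb.add_right, quad_add (Q := Q) w w', a]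
  module

theorem exists_eichler {u w : ι → F} (hu : Q u = 0) (huw : QuadraticMap.polar Q u w = 0) :
    ∃ g ∈ isometryGroup F Q, ∀ x, (g : Matrix ι ι F) *ᵥ x = eichler Q u w x := by
  obtain ⟨L, hL⟩ := eichler_linear hQ (u := u) (w := w)
  have hM : ∀ x, LinearMap.toMatrix' L *ᵥ x = eichler Q u w x := fun x => by
    rw [← Matrix.toLin'_apply, Matrix.toLin'_toMatrix', hL]
  have hunit : IsUnit (LinearMap.toMatrix' L) := by
    rw [← Matrix.mulVec_injective_iff_isUnit]
    intro x y h
    obtain ⟨L', hL'⟩ := eichler_linear hQ (u := u) (w := -w)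
    have hn : QuadraticMap.polar Q u (-w) = 0 := by
      rw [← neg_one_smul F w, hQ.polar_bilinear.smul_right, huw, mul_zero]
    have hid : ∀ z, eichler Q u (-w) (eichler Q u w z) = z := fun z => by
      rw [eichler_comp hQ hu hn huw, neg_add_cancel]
      have h0 : QuadraticMap.polar Q z 0 = 0 := by
        rw [← zero_smul F (0 : ι → F), hQ.polar_bilinear.smul_right, zero_mul]
      simp [eichler, h0, quad_zero hQ]
    simp only [hM] at h
    rw [← hid x, h, hid]
  refine ⟨hunit.unit, mem_isometryGroup_iff.mpr fun x => ?_, fun x => ?_⟩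
  · rw [IsUnit.unit_spec, hM, eichler_isometry hQ hu huw]
  · rw [IsUnit.unit_spec, hM]

/-- An Eichler transformation lies in Ω when some isometry scales it nontrivially. -/
theorem eichler_mem_omega {u w : ι → F} (hu : Q u = 0) (huw : QuadraticMap.polar Q u w = 0) {d : GL ι F}
    (hd : d ∈ isometryGroup F Q) {a b : F} (hdu : (d : Matrix ι ι F) *ᵥ u = a • u)
    (hdw : (d : Matrix ι ι F) *ᵥ w = b • w) (hab : a * b ≠ 1) :
    ∃ g ∈ omegaGL Q, ∀ x, (g : Matrix ι ι F) *ᵥ x = eichler Q u w x := by
  have hb := hQ.polar_bilinear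
  set c := (a * b - 1)⁻¹
  have hcw : QuadraticMap.polar Q u (c • w) = 0 := by rw [hb.smul_right, huw, mul_zero]
  obtain ⟨g, hg, hgm⟩ := exists_eichler hQ hu hcw
  refine ⟨⁅d, g⁆, omegaGL_eq (Q := Q) ▸ Subgroup.commutator_mem_commutator hd hg, fun x => ?_⟩
  have hpol : ∀ y z, QuadraticMap.polar Q ((d : Matrix ι ι F) *ᵥ y) ((d : Matrix ι ι F) *ᵥ z) = QuadraticMap.polar Q y z :=
    fun y z => by simp only [QuadraticMap.polar, ← Matrix.mulVec_add, mem_isometryGroup_iff.mp hd]
  have hconj : ∀ y, (d : Matrix ι ι F) *ᵥ eichler Q u (c • w) (((d⁻¹ : GL ι F) : Matrix ι ι F) *ᵥ y) =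
      eichler Q u ((a * b) • c • w) y := by
    intro y
    set z := ((d⁻¹ : GL ι F) : Matrix ι ι F) *ᵥ y with hz
    have hy : y = (d : Matrix ι ι F) *ᵥ z := (gl_mulVec_inv_cancel d y).symm
    have hzu : QuadraticMap.polar Q z u = a * QuadraticMap.polar Q y u := by
      rw [← hpol z u, hdu, ← hy, hb.smul_right]
    have hzw : QuadraticMap.polar Q z w = b * QuadraticMap.polar Q y w := by
      rw [← hpol z w, hdw, ← hy, hb.smul_right]
    have hQw : Q w = b ^ 2 * Q w := by
      rw [← hQ.smul, ← hdw, mem_isometryGroup_iff.mp hd]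
    simp only [eichler, Matrix.mulVec_sub, Matrix.mulVec_add, Matrix.mulVec_smul, ← hy, hdu, hdw, hzu, hzw,
      hb.smul_right, hQ.smul, smul_smul]
    have e : (c * (b * QuadraticMap.polar Q y w) + c ^ 2 * Q w * (a * QuadraticMap.polar Q y u)) * a =
        a * b * c * QuadraticMap.polar Q y w + (a * b * c) ^ 2 * Q w * QuadraticMap.polar Q y u := by
      linear_combination (c ^ 2 * a ^ 2 * QuadraticMap.polar Q y u) * hQw
    rw [e]
    congr 2
    congr 1
    ring
  have hginv : ∀ y, ((g⁻¹ : GL ι F) : Matrix ι ι F) *ᵥ y = eichler Q u (-(c • w)) y := by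
    intro y
    refine gl_mulVec_injective g ?_
    have hn : QuadraticMap.polar Q u (-(c • w)) = 0 := by
      rw [← neg_one_smul F (c • w), hb.smul_right, hcw, mul_zero]
    dsimp only
    rw [gl_mulVec_inv_cancel, hgm, eichler_comp hQ hu hcw hn, add_neg_cancel]
    have h0 : QuadraticMap.polar Q y 0 = 0 := by
      rw [← zero_smul F (0 : ι → F), hb.smul_right, zero_mul]
    simp [eichler, h0, quad_zero hQ]
  rw [commutatorElement_def, gl_mul_mulVec, gl_mul_mulVec, gl_mul_mulVec, hginv, hgm, hconj,
    eichler_comp hQ hu (by rw [hb.smul_right, hcw, mul_zero]) (by rw [← neg_one_smul F (c • w), hb.smul_right, hcw, mul_zero])]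
  have hab' : a * b - 1 ≠ 0 := sub_ne_zero.mpr hab
  rw [show (a * b) • c • w + -(c • w) = w by
    rw [smul_smul, ← sub_eq_add_neg, ← sub_smul, show a * b * c - c = (a * b - 1) * c by ring, mul_inv_cancel₀ hab', one_smul]]

end Cfsg.Agent.Classical
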