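/-
Groups containing a one parameter unipotent family lie in no monomial or subfield group; reducible subgroups of
orthogonal groups.
-/
import Cfsg.Agent.Lib.Classical.OrthogonalGroup

set_option autoImplicit false
set_option linter.style.haveILetI false

namespace Cfsg.Agent.Classical

open Matrix Cfsg.Geo

variable {ι : Type} [Fintype ι] [DecidableEq ι] {F : Type*} [Field F]

/-- In odd characteristic a monomial group has no nontrivial element with `(g-1)² = 0`. -/
theorem eq_one_of_monomial_unipotent (h2 : (2 : F) ≠ 0) {D : Fin (Fintype.card ι) → Submodule F (ι → F)}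
    (hD : IsMDecomposition 1 D) {g : GL ι F} (hg : g ∈ decompositionStabilizer D)
    (hsq : ((g : Matrix ι ι F) - 1) * ((g : Matrix ι ι F) - 1) = 0) : g = 1 := by
  classical
  obtain ⟨B, ε, -, hB⟩ := exists_monomial_coords hD
  obtain ⟨π, a, ha, hπ⟩ := hB g hg
  set e : ι → (ι → F) := fun l => ((B⁻¹ : GL ι F) : Matrix ι ι F) *ᵥ Pi.single l 1
  have hge : ∀ l, (g : Matrix ι ι F) *ᵥ e l = a l • e (π l) := by
    intro l
    refine gl_mulVec_injective B (funext fun s => ?_)
    obtain ⟨r, rfl⟩ := π.surjective s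
    dsimp only
    rw [Matrix.mulVec_smul]
    simp only [e, gl_mulVec_inv_cancel, Pi.smul_apply, smul_eq_mul]
    rw [hπ, gl_mulVec_inv_cancel, Pi.single_apply, Pi.single_apply]
    by_cases h : r = l
    · subst h; simp
    · simp [h, π.injective.eq_iff]
  have hfix : ∀ l, (g : Matrix ι ι F) *ᵥ e l = e l := by
    intro l
    have h0 := congrArg (fun M => (B : Matrix ι ι F) *ᵥ (M *ᵥ e l)) hsq
    simp only [← Matrix.mulVec_mulVec, Matrix.sub_mulVec, Matrix.one_mulVec, Matrix.zero_mulVec, Matrix.mulVec_zero,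
      Matrix.mulVec_sub, Matrix.mulVec_smul, hge] at h0
    simp only [e, gl_mulVec_inv_cancel] at h0
    have h1 := congrFun h0 (π l)
    simp only [Pi.sub_apply, Pi.smul_apply, Pi.single_apply, smul_eq_mul, Pi.zero_apply, π.injective.eq_iff] at h1
    by_cases hl : π l = l
    · have h1' : (a l - 1) * (a l - 1) = 0 := by
        simp only [hl, if_true, mul_one] at h1
        linear_combination h1
      rw [hge, hl, sub_eq_zero.mp (mul_self_eq_zero.mp h1'), one_smul]
    · exfalso
      simp only [Ne.symm hl, hl, if_false, if_true, mul_zero, mul_one, sub_zero, zero_sub] at h1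
      exact mul_ne_zero h2 (ha l) (by linear_combination -h1)
  refine gl_ext_mulVec fun v => ?_
  rw [Units.val_one, Matrix.one_mulVec, ← gl_inv_mulVec_cancel B v, pi_eq_sum_univ' ((B : Matrix ι ι F) *ᵥ v),
    Matrix.mulVec_sum, Matrix.mulVec_sum]
  refine Finset.sum_congr rfl fun l _ => ?_
  rw [Matrix.mulVec_smul, Matrix.mulVec_smul]
  exact congrArg _ (hfix l)

/-- `G` contains `1 + t N` for all `t`, where `N² = 0` and `N` is defined over every subfield. -/
def HasUnipotentFamily (G : Subgroup (GL ι F)) : Prop :=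
  ∃ N : Matrix ι ι F, N ≠ 0 ∧ N * N = 0 ∧ (∀ (F₁ : Subfield F) a b, N a b ∈ F₁) ∧
    ∀ t : F, ∃ g ∈ G, (g : Matrix ι ι F) = 1 + t • N

theorem HasUnipotentFamily.not_le_decomposition {G : Subgroup (GL ι F)} (hG : HasUnipotentFamily G)
    (h2 : (2 : F) ≠ 0) {D : Fin (Fintype.card ι) → Submodule F (ι → F)} (hD : IsMDecomposition 1 D) :
    ¬ G ≤ decompositionStabilizer D := by
  intro hle
  obtain ⟨N, hN0, hNN, -, ht⟩ := hG
  obtain ⟨g, hg, hgm⟩ := ht 1
  rw [one_smul] at hgm
  have h1 := eq_one_of_monomial_unipotent h2 hD (hle hg) (by rw [hgm, add_sub_cancel_left, hNN])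
  rw [h1, Units.val_one, left_eq_add] at hgm
  exact hN0 hgm

theorem HasUnipotentFamily.not_le_subfield [Fintype F] [Nonempty ι] {G : Subgroup (GL ι F)}
    (hG : HasUnipotentFamily G) {F₀ : Subfield F} {r : ℕ} (hr : r.Prime) (hc : Fintype.card F = Nat.card F₀ ^ r)
    (P : GL ι F) : ¬ G ≤ subfieldSubgroup F₀ P := by
  classical
  intro hle
  obtain ⟨N, hN0, hNN, hNF, ht⟩ := hG
  obtain ⟨p, hchar⟩ := CharP.exists F
  obtain ⟨⟨e, he⟩, hpp, hce⟩ := FiniteField.card F p
  change Fintype.card F = p ^ e at hce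
  obtain ⟨b, hb, -, hb1, hbF⟩ := subfield_card_eq hpp hce F₀
  haveI : ExpChar F p := ExpChar.prime hpp
  set τ := iterateFrobenius F p b with hτ
  have hτfix : ∀ y, τ y = y ↔ y ∈ F₀ := fun y => by rw [hbF, hτ, iterateFrobenius_def]
  set T := τ.mapMatrix (P : Matrix ι ι F) * ((P⁻¹ : GL ι F) : Matrix ι ι F) with hT
  have hTu : IsUnit T := by
    rw [hT]
    exact (P.isUnit.map (RingHom.mapMatrix τ)).mul (P⁻¹).isUnit
  have hτN : τ.mapMatrix N = N := by ext i j; exact (hτfix _).mpr (hNF F₀ i j)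
  have hτ1 : ∀ t : F, τ.mapMatrix (1 + t • N) = 1 + τ t • N := fun t => by
    rw [map_add, map_one]
    congr 1
    conv_rhs => rw [← hτN]
    ext i j
    simp [Matrix.map_apply]
  have key : ∀ t : F, (1 + τ t • N) * T = T * (1 + t • N) := by
    intro t
    obtain ⟨g, hg, hgm⟩ := ht t
    have hm := hle hg
    rw [mem_subfieldSubgroup, Subgroup.mem_sup_of_normal_right] at hm
    obtain ⟨mm, hm, z, hz, hmz⟩ := hm
    obtain ⟨a, ha⟩ := (mem_scalars_iff z).mp hz
    have hfix : τ.mapMatrix (mm : Matrix ι ι F) = (mm : Matrix ι ι F) := by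
      ext i j; exact (hτfix _).mpr (range_map_subfield_entries hm i j)
    set M := (P : Matrix ι ι F) * (mm : Matrix ι ι F) * ((P⁻¹ : GL ι F) : Matrix ι ι F)
    have hgM : (g : Matrix ι ι F) = (a : F) • M := by
      have h : g = P * mm * P⁻¹ * z := by
        rw [show P * mm * P⁻¹ * z = P * (mm * z) * P⁻¹ by rw [mul_assoc, ← scalars_commute hz P⁻¹]; group, hmz]
        group
      rw [h, Units.val_mul, ha, Matrix.mul_smul, Matrix.mul_one, Units.val_mul, Units.val_mul]
    have hτg : τ.mapMatrix (g : Matrix ι ι F) * T = (τ a / a) • (T * (g : Matrix ι ι F)) := by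
      rw [hgM, Matrix.mul_smul, smul_smul, div_mul_cancel₀ _ a.ne_zero]
      have : τ.mapMatrix ((a : F) • M) = τ a • τ.mapMatrix M := by ext i j; simp [Matrix.map_apply]
      rw [this, Matrix.smul_mul]
      congr 1
      simp only [M, map_mul, hfix, hT, Matrix.mul_assoc]
      rw [← Matrix.mul_assoc (τ.mapMatrix ((P⁻¹ : GL ι F) : Matrix ι ι F)), ← map_mul, Units.inv_mul, map_one,
        Matrix.one_mul, ← Matrix.mul_assoc ((P⁻¹ : GL ι F) : Matrix ι ι F) (P : Matrix ι ι F), Units.inv_mul,
        Matrix.one_mul]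
    rw [hgm, hτ1] at hτg
    set μ := τ a / a
    -- μ = 1
    have hμ : μ = 1 := by
      obtain ⟨T', hT'⟩ := hTu
      set Ti := ((T'⁻¹ : (Matrix ι ι F)ˣ) : Matrix ι ι F)
      have h1 : Ti * ((1 + τ t • N) * T) = μ • (1 + t • N) := by
        rw [hτg, Matrix.mul_smul, ← Matrix.mul_assoc, ← hT', Units.inv_mul, Matrix.one_mul]
      have hTiT : Ti * T = 1 := by rw [← hT', Units.inv_mul]
      set R := Ti * N * T
      have h2' : μ • (1 + t • N) = 1 + τ t • R := by
        rw [← h1, Matrix.add_mul, Matrix.one_mul, Matrix.mul_add, hTiT, Matrix.smul_mul, Matrix.mul_smul]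
        simp only [R, Matrix.mul_assoc]
      have hRR : R * R = 0 := by
        have : T * Ti = 1 := by rw [← hT', Units.mul_inv]
        calc R * R = Ti * N * (T * Ti) * (N * T) := by simp only [R, Matrix.mul_assoc]
          _ = 0 := by rw [this, Matrix.mul_one, Matrix.mul_assoc, ← Matrix.mul_assoc N, hNN, Matrix.zero_mul, Matrix.mul_zero]
      have hsq : (μ • (1 + t • N) - 1) * (μ • (1 + t • N) - 1) = 0 := by
        rw [h2', add_sub_cancel_left, Matrix.smul_mul, Matrix.mul_smul, hRR, smul_zero, smul_zero]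
      have h0 := congrArg (· * N) hsq
      simp only [smul_add, sub_mul, add_mul, mul_sub, mul_add, Matrix.smul_mul, Matrix.mul_smul, Matrix.one_mul,
        Matrix.mul_one, hNN, smul_zero, add_zero, sub_zero, zero_sub, Matrix.zero_mul, smul_smul] at h0
      have h0' : ((μ - 1) * (μ - 1)) • N = 0 := by
        rw [← h0]; module
      exact sub_eq_zero.mp (mul_self_eq_zero.mp ((smul_eq_zero.mp h0').resolve_right hN0))
    rwa [hμ, one_smul] at hτg
  have hNT : N * T = T * N := by
    have := key 1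
    rw [map_one, one_smul, Matrix.add_mul, Matrix.mul_add, Matrix.one_mul, Matrix.mul_one] at this
    exact add_left_cancel this
  have hTN : T * N ≠ 0 := fun e => hN0 (hTu.mul_left_cancel (e.trans (Matrix.mul_zero T).symm))
  have hall : ∀ t : F, τ t = t := fun t => by
    have := key t
    rw [Matrix.add_mul, Matrix.mul_add, Matrix.one_mul, Matrix.mul_one, Matrix.smul_mul, Matrix.mul_smul, hNT] at this
    exact smul_left_injective F hTN (add_left_cancel this)
  have e : Nat.card F₀ = Fintype.card F := by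
    rw [← Nat.card_eq_fintype_card]; exact Nat.card_congr (Equiv.subtypeUnivEquiv fun x => (hτfix x).mp (hall x))
  rw [e] at hc
  exact hr.ne_one ((Nat.pow_eq_self_iff Fintype.one_lt_card).mp hc.symm)

variable {Q : (ι → F) → F} (hQ : IsNondegenerateQuadraticForm Q)

include hQ

/-- The orthogonal of a subspace for the polar form. -/
def polarPerp (W : Submodule F (ι → F)) : Submodule F (ι → F) where
  carrier := {v | ∀ w ∈ W, QuadraticMap.polar Q w v = 0}
  add_mem' {a b} ha hb w hw := by rw [hQ.polar_bilinear.add_right, ha w hw, hb w hw, add_zero]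
  zero_mem' w _ := by rw [← zero_smul F (0 : ι → F), hQ.polar_bilinear.smul_right, zero_mul]
  smul_mem' c a ha w hw := by rw [hQ.polar_bilinear.smul_right, ha w hw, mul_zero]

theorem mem_polarPerp {W : Submodule F (ι → F)} {v : ι → F} :
    v ∈ polarPerp hQ W ↔ ∀ w ∈ W, QuadraticMap.polar Q w v = 0 := Iff.rfl

theorem polar_eq_dot (u v : ι → F) :
    QuadraticMap.polar Q u v = u ⬝ᵥ (gramMatrix (QuadraticMap.polar Q) *ᵥ v) :=
  semiForm_apply (RingEquiv.refl F) (semiForm_of_bilinear hQ.polar_bilinear) u v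

theorem det_polar_gram_ne_zero : (gramMatrix (QuadraticMap.polar Q)).det ≠ 0 :=
  det_gram_ne_zero (RingEquiv.refl F) (semiForm_of_bilinear hQ.polar_bilinear) hQ.nondegenerate

theorem finrank_polarPerp (W : Submodule F (ι → F)) :
    Module.finrank F W + Module.finrank F (polarPerp hQ W) = Fintype.card ι := by
  classical
  let S := gramMatrix (QuadraticMap.polar Q)
  let sg : GL ι F := Matrix.GeneralLinearGroup.mkOfDetNeZero S (det_polar_gram_ne_zero hQ)
  let e := dotProductEquiv F ι
  let A : Submodule F (ι → F) := W.dualAnnihilator.comap (e : (ι → F) →ₗ[F] Module.Dual F (ι → F))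
  have hA : ∀ z, z ∈ A ↔ ∀ w ∈ W, z ⬝ᵥ w = 0 := fun z => by
    simp [A, e, Submodule.mem_dualAnnihilator, dotProductEquiv]
  have hmap : (polarPerp hQ W).map (Matrix.toLin' (sg : Matrix ι ι F)) = A := by
    ext z
    rw [hA, Submodule.mem_map]
    constructor
    · rintro ⟨v, hv, rfl⟩ w hw
      rw [Matrix.toLin'_apply, dotProduct_comm]
      exact (polar_eq_dot hQ w v).symm.trans (hv w hw)
    · intro hz
      refine ⟨((sg⁻¹ : GL ι F) : Matrix ι ι F) *ᵥ z, fun w hw => ?_, gl_mulVec_inv_cancel sg z⟩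
      rw [polar_eq_dot hQ, show gramMatrix (QuadraticMap.polar Q) = (sg : Matrix ι ι F) from rfl, gl_mulVec_inv_cancel, dotProduct_comm]
      exact hz w hw
  rw [← finrank_map_gl sg (polarPerp hQ W), hmap,
    show Module.finrank F A = Module.finrank F W.dualAnnihilator from (e.ofSubmodule' W.dualAnnihilator).finrank_eq,
    Subspace.finrank_add_finrank_dualAnnihilator_eq, Module.finrank_fintype_fun_eq_card]

theorem polarPerp_polarPerp (W : Submodule F (ι → F)) : polarPerp hQ (polarPerp hQ W) = W := by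
  refine (Submodule.eq_of_le_of_finrank_eq (fun w hw v hv => ?_) ?_).symm
  · rw [QuadraticMap.polar_comm]; exact hv w hw
  · have h1 := finrank_polarPerp hQ W
    have h2 := finrank_polarPerp hQ (polarPerp hQ W)
    omega

theorem nondegenerateOn_of_inf_perp {W : Submodule F (ι → F)} (h : W ⊓ polarPerp hQ W = ⊥) :
    IsNondegenerateOn (QuadraticMap.polar Q) W := fun w hw hw0 => by
  obtain ⟨x, hx, hxw⟩ : ∃ x ∈ W, QuadraticMap.polar Q x w ≠ 0 := by
    by_contra hcon
    push Not at hcon
    exact hw0 ((Submodule.mem_bot F).mp (h ▸ Submodule.mem_inf.mpr ⟨hw, hcon⟩))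
  exact ⟨⟨x, hx, hxw⟩, x, hx, by rwa [QuadraticMap.polar_comm]⟩

theorem perp_le_stabilizer {H : Subgroup (GL ι F)} (hH : H ≤ isometryGroup F Q) {W : Submodule F (ι → F)}
    (hW : H ≤ subspaceStabilizer W) : H ≤ subspaceStabilizer (polarPerp hQ W) :=
  fun g hg => mem_subspaceStabilizer_iff.mpr fun v hv w hw => by
    have hw' : ((g⁻¹ : GL ι F) : Matrix ι ι F) *ᵥ w ∈ W := mem_subspaceStabilizer_iff.mp (hW (inv_mem hg)) w hw
    have e := hv _ hw'
    rw [← gl_mulVec_inv_cancel g w]
    simp only [QuadraticMap.polar, ← Matrix.mulVec_add, mem_isometryGroup_iff.mp (hH hg)] at e ⊢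
    exact e

/-- An irreducibility failure gives a totally singular or an even dimensional nondegenerate subspace, avoiding
plus type planes over the field with three elements. -/
theorem orth_reducible_cases [Fintype F] (h2 : (2 : F) ≠ 0) (hodd : Odd (Fintype.card ι)) (h3 : 3 < Fintype.card ι)
    {H : Subgroup (GL ι F)} (hH : H ≤ isometryGroup F Q) (hred : ¬ ActsIrreducibly (matrixSet H)) :
    ∃ W : Submodule F (ι → F), W ≠ ⊥ ∧ W ≠ ⊤ ∧ H ≤ subspaceStabilizer W ∧
      (IsTotallySingularQuad Q W ∨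
        (Even (Module.finrank F W) ∧ IsNondegenerateOn (QuadraticMap.polar Q) W ∧
          ¬ (Fintype.card F = 3 ∧ Module.finrank F W = 2 ∧ IsPlusTypeOn Q W))) := by
  classical
  have hb := hQ.polar_bilinear
  obtain ⟨W, h0, h1, hW⟩ := (not_actsIrreducibly_iff H).mp hred
  have hPH := perp_le_stabilizer hQ hH hW
  by_cases hI : W ⊓ polarPerp hQ W = ⊥
  swap
  · refine ⟨W ⊓ polarPerp hQ W, hI, fun e => h1 (top_unique (e ▸ inf_le_left)),
      fun g hg => mem_subspaceStabilizer_iff.mpr fun v hv =>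
        ⟨mem_subspaceStabilizer_iff.mp (hW hg) v hv.1, mem_subspaceStabilizer_iff.mp (hPH hg) v hv.2⟩,
      Or.inl fun u hu => ?_⟩
    have := hu.2 u hu.1
    rw [polar_self_eq hQ] at this
    exact (mul_eq_zero.mp this).resolve_left h2
  -- an even dimensional nondegenerate invariant subspace
  obtain ⟨V, hV0, hVev, hVI, hVH⟩ : ∃ V : Submodule F (ι → F), V ≠ ⊥ ∧ Even (Module.finrank F V) ∧
      V ⊓ polarPerp hQ V = ⊥ ∧ H ≤ subspaceStabilizer V := by
    have hdim := finrank_polarPerp hQ W
    rcases Nat.even_or_odd (Module.finrank F W) with he | ho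
    · exact ⟨W, h0, he, hI, hW⟩
    · refine ⟨polarPerp hQ W, fun e => ?_, ?_, by rwa [polarPerp_polarPerp, inf_comm], hPH⟩
      · rw [e, finrank_bot, add_zero] at hdim
        exact h1 (Submodule.eq_top_of_finrank_eq (hdim.trans (Module.finrank_fintype_fun_eq_card F).symm))
      · rw [← hdim] at hodd
        exact (Nat.odd_add.mp hodd).mp ho
  have htop : ∀ U : Submodule F (ι → F), Even (Module.finrank F U) → U ≠ ⊤ := fun U hU e => by
    rw [e, finrank_top, Module.finrank_fintype_fun_eq_card] at hU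
    exact Nat.not_even_iff_odd.mpr hodd hU
  by_cases hexc : Fintype.card F = 3 ∧ Module.finrank F V = 2 ∧ IsPlusTypeOn Q V
  swap
  · exact ⟨V, hV0, htop V hVev, hVH, Or.inr ⟨hVev, nondegenerateOn_of_inf_perp hQ hVI, hexc⟩⟩
  obtain ⟨hq, hd2, U, hUV, hUs, hU⟩ := hexc
  rw [hd2] at hU
  obtain ⟨u, hu, hu0⟩ := Submodule.exists_mem_ne_zero_of_ne_bot
    (show U ≠ ⊥ from fun e => by rw [e, finrank_bot] at hU; omega)
  obtain ⟨v, hv, huv⟩ := ((nondegenerateOn_of_inf_perp hQ hVI) u (hUV hu) hu0).2
  set a := QuadraticMap.polar Q u v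
  set v' := a⁻¹ • v + (-(Q (a⁻¹ • v))) • u with hv'
  have hv'V : v' ∈ V := V.add_mem (V.smul_mem _ hv) (V.smul_mem _ (hUV hu))
  have hQu : Q u = 0 := hUs u hu
  have huu : QuadraticMap.polar Q u u = 0 := by rw [polar_self_eq hQ, hQu, mul_zero]
  have huv' : QuadraticMap.polar Q u v' = 1 := by
    rw [hv', hb.add_right, hb.smul_right, hb.smul_right, huu, inv_mul_cancel₀ huv, mul_zero, add_zero]
  have hQv' : Q v' = 0 := by
    rw [hv', quad_add (Q := Q) (a⁻¹ • v), hb.smul_right, hb.smul_left, QuadraticMap.polar_comm _ v u, hQ.smul,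
      hQ.smul, hQu, inv_mul_cancel₀ huv]
    ring
  have hQc : ∀ c d : F, Q (c • u + d • v') = c * d := fun c d => by
    rw [quad_add (Q := Q), hQ.smul, hQ.smul, hQu, hQv', hb.smul_left, hb.smul_right, huv']; ring
  have hspan : ∀ w ∈ V, ∃ c d : F, w = c • u + d • v' := by
    have hli : LinearIndependent F ![u, v'] := by
      rw [LinearIndependent.pair_iff]
      intro c d h
      have h1 := congrArg (QuadraticMap.polar Q u) h
      have h2' := congrArg (fun z => QuadraticMap.polar Q z v') h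
      have hz : ∀ z, QuadraticMap.polar Q z 0 = 0 := fun z => by rw [← zero_smul F (0 : ι → F), hb.smul_right, zero_mul]
      simp only [hb.add_right, hb.smul_right, huu, huv', hz] at h1
      simp only [hb.add_left, hb.smul_left, huv', polar_self_eq hQ, hQv', mul_zero, add_zero,
        QuadraticMap.polar_comm _ (0 : ι → F), hz] at h2'
      exact ⟨by simpa using h2', by simpa using h1⟩
    have heq : Submodule.span F (Set.range ![u, v']) = V := by
      refine Submodule.eq_of_le_of_finrank_eq (Submodule.span_le.mpr ?_) ?_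
      · rintro _ ⟨i, rfl⟩
        fin_cases i
        exacts [hUV hu, hv'V]
      · rw [finrank_span_eq_card hli, hd2, Fintype.card_fin]
    intro w hw
    rw [← heq, show Set.range ![u, v'] = {u, v'} by simp [Matrix.range_cons, Set.pair_comm]] at hw
    obtain ⟨c, d, h⟩ := Submodule.mem_span_pair.mp hw
    exact ⟨c, d, h.symm⟩
  -- the nonsingular lines are fixed
  set z := u + v'
  have hz1 : Q z = 1 := by simpa using hQc 1 1
  have hzV : z ∈ V := V.add_mem (hUV hu) hv'V
  have hLI : (F ∙ z) ⊓ polarPerp hQ (F ∙ z) = ⊥ := by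
    rw [eq_bot_iff]
    rintro w ⟨hw1, hw2⟩
    obtain ⟨c, rfl⟩ := Submodule.mem_span_singleton.mp hw1
    have := hw2 z (Submodule.mem_span_singleton_self z)
    rw [hb.smul_right, polar_self_eq hQ, hz1, mul_one] at this
    rw [(mul_eq_zero.mp this).resolve_right h2, zero_smul]
    exact Submodule.zero_mem _
  have hz0 : z ≠ 0 := fun e => one_ne_zero (α := F) (hz1.symm.trans (e ▸ quad_zero hQ))
  have hLH : H ≤ subspaceStabilizer (F ∙ z) := fun g hg => mem_subspaceStabilizer_iff.mpr fun w hw => by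
    obtain ⟨k, rfl⟩ := Submodule.mem_span_singleton.mp hw
    obtain ⟨c, d, hcd⟩ := hspan _ (mem_subspaceStabilizer_iff.mp (hVH hg) z hzV)
    have hcd1 : c * d = 1 := by rw [← hQc, ← hcd, mem_isometryGroup_iff.mp (hH hg), hz1]
    have hd : d * d = 1 := by
      rw [← sq, show (2 : ℕ) = Fintype.card F - 1 by omega]
      exact FiniteField.pow_card_sub_one_eq_one d (right_ne_zero_of_mul_eq_one hcd1)
    have hc : c = d := mul_right_cancel₀ (right_ne_zero_of_mul_eq_one hcd1) (hcd1.trans hd.symm)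
    rw [Matrix.mulVec_smul, hcd, hc, ← smul_add, smul_smul]
    exact Submodule.smul_mem _ _ (Submodule.mem_span_singleton_self z)
  have hdim := finrank_polarPerp hQ (F ∙ z)
  rw [finrank_span_singleton hz0] at hdim
  have hev : Even (Module.finrank F (polarPerp hQ (F ∙ z))) := by
    rw [← hdim] at hodd
    exact (Nat.odd_add.mp hodd).mp odd_one
  refine ⟨polarPerp hQ (F ∙ z), fun e => ?_, htop _ hev, perp_le_stabilizer hQ hH hLH,
    Or.inr ⟨hev, nondegenerateOn_of_inf_perp hQ (by rwa [polarPerp_polarPerp, inf_comm]), fun h => ?_⟩⟩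
  · rw [e, finrank_bot] at hdim; omega
  · obtain ⟨-, h, -⟩ := h
    omega

end Cfsg.Agent.Classical
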