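/-
Groups of symplectic type have central commutators; absolutely irreducible groups with scalar commutators have as many
cosets of their scalars as the square of the dimension.
-/
import Cfsg.Agent.Lib.Classical.SymplecticType
import Mathlib.GroupTheory.Nilpotent

set_option autoImplicit false
set_option linter.style.haveILetI false

namespace Cfsg.Agent.Classical

open Matrix Cfsg.Geo
open scoped commutatorElement

/-- In exponent four a commutator normalised into its inverse has square one. -/
theorem commutator_sq_eq_one {G : Type*} [Group G] (h4 : ∀ x : G, x ^ 4 = 1) {a g h : G} (he : g * h * g⁻¹ = a * h)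
    (hg : g * a * g⁻¹ = a ∨ g * a * g⁻¹ = a⁻¹) (hh : h * a * h⁻¹ = a ∨ h * a * h⁻¹ = a⁻¹) : a * a = 1 := by
  have key : ∀ a g h : G, g * h * g⁻¹ = a * h → g * a * g⁻¹ = a⁻¹ → Commute h a → a * a = 1 := by
    intro a g h he hg hha
    have e0 : g * (a * h) * g⁻¹ = h := by
      rw [show g * (a * h) * g⁻¹ = (g * a * g⁻¹) * (g * h * g⁻¹) by group, hg, he, inv_mul_cancel_left]
    have e0' : g * a⁻¹ * g⁻¹ = a := by
      rw [show g * a⁻¹ * g⁻¹ = (g * a * g⁻¹)⁻¹ by group, hg, inv_inv]
    have hgh : Commute (g * g) h := by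
      change g * g * h = h * (g * g)
      calc g * g * h = g * (g * h * g⁻¹) * g⁻¹ * (g * g) := by group
        _ = _ := by rw [he, e0]
    have hga : Commute (g * g) a := by
      change g * g * a = a * (g * g)
      calc g * g * a = g * (g * a * g⁻¹) * g⁻¹ * (g * g) := by group
        _ = _ := by rw [hg, e0']
    have e : (g * h) * (g * h) = a * ((g * g) * (h * h)) := by
      calc (g * h) * (g * h) = (g * h * g⁻¹) * ((g * g) * h) := by group
        _ = a * h * (h * (g * g)) := by rw [he, hgh.eq]
        _ = _ := by rw [(hgh.mul_right hgh).eq]; group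
    have h5 := h4 (g * h)
    rw [show (4 : ℕ) = 2 * 2 from rfl, pow_mul, sq (g * h), e,
      Commute.mul_pow (hga.symm.mul_right ((hha.symm).mul_right hha.symm)),
      Commute.mul_pow (hgh.mul_right hgh), ← sq g, ← sq h, ← pow_mul, ← pow_mul, h4, h4, mul_one, mul_one] at h5
    rw [← sq, h5]
  rcases hg with hg | hg <;> rcases hh with hh | hh
  · -- both commute
    have hga : Commute g a := mul_inv_eq_iff_eq_mul.mp hg
    have hha : Commute h a := mul_inv_eq_iff_eq_mul.mp hh
    have e1 : g * h = a * h * g := mul_inv_eq_iff_eq_mul.mp he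
    have e2 : g * g * h = a * a * h * (g * g) := by
      calc g * g * h = g * (g * h) := mul_assoc _ _ _
        _ = (g * a) * (h * g) := by rw [e1]; group
        _ = a * (g * h) * g := by rw [hga.eq]; group
        _ = _ := by rw [e1]; group
    have e3 : (g * h) * (g * h) = a * a * a * (h * h) * (g * g) := by
      calc (g * h) * (g * h) = a * h * (g * g * h) := by
            rw [show a * h * (g * g * h) = (a * h * g) * (g * h) by group, ← e1]
        _ = a * (h * (a * a)) * h * (g * g) := by rw [e2]; group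
        _ = _ := by rw [(hha.mul_right hha).eq]; group
    have c1 : Commute (g * g) (a * a) := (hga.mul_right hga).mul_left (hga.mul_right hga)
    have c2 : Commute h (a * a) := hha.mul_right hha
    have e4 : g * g * (h * h) = a ^ 4 * (h * h) * (g * g) := by
      calc g * g * (h * h) = (g * g * h) * h := (mul_assoc _ _ _).symm
        _ = (a * a * h * (g * g)) * h := by rw [e2]
        _ = a * a * h * (g * g * h) := by group
        _ = a * a * h * (a * a * h * (g * g)) := by rw [e2]
        _ = a * a * (h * (a * a)) * h * (g * g) := by group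
        _ = _ := by rw [c2.eq]; simp only [pow_succ, pow_zero, one_mul, mul_assoc]
    rw [h4, one_mul] at e4
    have c3 : Commute a (h * h) := hha.symm.mul_right hha.symm
    have c4 : Commute a (g * g) := hga.symm.mul_right hga.symm
    have h5 := h4 (g * h)
    rw [show (4 : ℕ) = 2 * 2 from rfl, pow_mul, sq (g * h), e3,
      Commute.mul_pow ((((c4.mul_left c4).mul_left c4)).mul_left (e4 : Commute (g * g) (h * h)).symm),
      Commute.mul_pow ((c3.mul_left c3).mul_left c3), ← sq g, ← sq h, ← pow_mul, ← pow_mul, h4, h4, mul_one, mul_one] at h5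
    have e5 : (a * a * a) ^ 2 = a ^ 4 * (a * a) := by simp [pow_succ, mul_assoc]
    rw [e5, h4, one_mul] at h5
    exact h5
  · -- swap
    have hga : Commute g a := mul_inv_eq_iff_eq_mul.mp hg
    have := key a⁻¹ h g (by
      rw [mul_inv_eq_iff_eq_mul, mul_assoc, mul_inv_eq_iff_eq_mul.mp he]; group) (by
      rw [inv_inv, show h * a⁻¹ * h⁻¹ = (h * a * h⁻¹)⁻¹ by group, hh, inv_inv]) hga.inv_right
    rw [← _root_.mul_inv_rev, inv_eq_one] at this
    exact this
  · exact key a g h he hg (mul_inv_eq_iff_eq_mul.mp hh)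
  · have := key a⁻¹ g (g * h) (by
      calc g * (g * h) * g⁻¹ = g * (g * h * g⁻¹) := by group
        _ = (g * a * g⁻¹) * (g * h) := by rw [he]; group
        _ = _ := by rw [hg]) (by rw [inv_inv, show g * a⁻¹ * g⁻¹ = (g * a * g⁻¹)⁻¹ by group, hg, inv_inv]) (by
      change g * h * a⁻¹ = a⁻¹ * (g * h)
      calc g * h * a⁻¹ = g * (h * a * h⁻¹)⁻¹ * h := by group
        _ = (g * a * g⁻¹) * (g * h) := by rw [hh]; group
        _ = _ := by rw [hg])
    rw [← _root_.mul_inv_rev, inv_eq_one] at this
    exact this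

/-- A finite group of symplectic type has central commutators. -/
theorem commutator_central {G : Type*} [Group G] [Finite G] {r : ℕ} (hr : r.Prime) (hp : IsPGroup r G)
    (hchar : ∀ A : Subgroup G, A.Characteristic → IsMulCommutative A → IsCyclic A)
    (hexp : ∀ x : G, x ^ (r * Nat.gcd 2 r) = 1) (x y : G) : x * y * x⁻¹ * y⁻¹ ∈ Subgroup.center G := by
  haveI : Fact r.Prime := ⟨hr⟩
  haveI := hp.isNilpotent
  set U := Subgroup.upperCentralSeries G
  have hU : ∀ n u, u ∈ U (n + 1) ↔ ∀ v, ⁅u, v⁆ ∈ U n := fun n u => Subgroup.mem_upperCentralSeries_succ_iff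
  have hU1 : U 1 = Subgroup.center G := Subgroup.upperCentralSeries_one G
  suffices htop : U 2 = ⊤ by
    have h := (hU 1 x).mp (htop ▸ Subgroup.mem_top x) y
    rwa [hU1, commutatorElement_def] at h
  by_contra hne
  obtain ⟨u, hu3, hu2⟩ : ∃ u ∈ U 3, u ∉ U 2 := by
    by_contra hcon
    push Not at hcon
    apply hne
    obtain ⟨n, hn⟩ := Group.IsNilpotent.nilpotent (G := G)
    have hle : ∀ n, U n ≤ U 2 := by
      intro n
      induction n with
      | zero => exact bot_le
      | succ n ih => exact fun w hw => hcon w ((hU 2 w).mpr fun v => ih ((hU n w).mp hw v))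
    exact top_unique (hn ▸ hle n)
  obtain ⟨v, hv⟩ : ∃ v, ⁅u, v⁆ ∉ U 1 := by
    by_contra hcon
    push Not at hcon
    exact hu2 ((hU 1 u).mpr hcon)
  set a := ⁅u, v⁆ with ha
  have ha2 : a ∈ U 2 := (hU 2 u).mp hu3 v
  -- elements of the second centre centralise commutators
  have hcen : ∀ b ∈ U 2, ∀ w ∈ commutator G, b * w = w * b := by
    intro b hb
    have hb' : ∀ w, ⁅b, w⁆ ∈ Subgroup.center G := fun w => hU1 ▸ (hU 1 b).mp hb w
    let φ : G →* Subgroup.center G := MonoidHom.mk' (fun w => ⟨⁅b, w⁆, hb' w⟩) fun w w' => Subtype.ext (by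
      change ⁅b, w * w'⁆ = ⁅b, w⁆ * ⁅b, w'⁆
      calc ⁅b, w * w'⁆ = ⁅b, w⁆ * (w * ⁅b, w'⁆ * w⁻¹) := by simp only [commutatorElement_def]; group
        _ = _ := by rw [Subgroup.mem_center_iff.mp (hb' w') w, mul_inv_cancel_right])
    intro w hw
    have hker : commutator G ≤ φ.ker := by
      rw [commutator_def, Subgroup.commutator_le]
      intro p _ q _
      rw [MonoidHom.mem_ker, map_commutatorElement, commutatorElement_eq_one_iff_mul_comm]
      exact Subtype.ext (Subgroup.mem_center_iff.mp (φ q).2 _)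
    have := congrArg Subtype.val (MonoidHom.mem_ker.mp (hker hw))
    exact commutatorElement_eq_one_iff_mul_comm.mp this
  let A : Subgroup G := commutator G ⊓ U 2
  haveI : A.Characteristic := inferInstance
  haveI hAc : IsCyclic A := hchar A inferInstance ⟨⟨fun p q => Subtype.ext (hcen _ p.2.2 _ q.2.1)⟩⟩
  obtain ⟨⟨w, hwA⟩, hw⟩ := IsCyclic.exists_generator (α := A)
  have hgen : ∀ b ∈ A, ∃ i : ℤ, b = w ^ i := fun b hb => by
    obtain ⟨i, hi⟩ := hw ⟨b, hb⟩
    exact ⟨i, by simpa using (congrArg Subtype.val hi).symm⟩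
  have haA : a ∈ A := ⟨Subgroup.commutator_mem_commutator (Subgroup.mem_top u) (Subgroup.mem_top v), ha2⟩
  have haZ : a ∉ Subgroup.center G := hU1 ▸ hv
  have hwZ : w ∉ Subgroup.center G := fun h => haZ (by
    obtain ⟨i, hi⟩ := hgen a haA; rw [hi]; exact zpow_mem h i)
  obtain ⟨t, ht⟩ : ∃ t : G, ⁅a, t⁆ ≠ (1 : G) := by
    by_contra hcon
    push Not at hcon
    exact haZ (Subgroup.mem_center_iff.mpr fun t => (commutatorElement_eq_one_iff_mul_comm.mp (hcon t)).symm)
  have hzZ : ∀ s : G, ⁅a, s⁆ ∈ Subgroup.center G := fun s => hU1 ▸ (hU 1 a).mp ha2 s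
  have hzA : ∀ s : G, ⁅a, s⁆ ∈ A := fun s =>
    ⟨Subgroup.commutator_mem_commutator (Subgroup.mem_top _) (Subgroup.mem_top _), (hU 1 _).mpr fun v' => by
      rw [(commutatorElement_eq_one_iff_mul_comm).mpr (Subgroup.mem_center_iff.mp (hzZ s) v').symm]; exact one_mem _⟩
  obtain ⟨i, hi⟩ := hgen _ (hzA t)
  rcases hr.eq_two_or_odd' with rfl | hodd
  swap
  · have hwr : w ^ r = 1 := by
      have := hexp w
      rwa [(Nat.coprime_two_left.mpr hodd : Nat.gcd 2 r = 1), mul_one] at this
    have hnd : ¬ (r : ℤ) ∣ i := fun ⟨j, hj⟩ => ht (by rw [hi, hj, _root_.zpow_mul, _root_.zpow_natCast, hwr, _root_.one_zpow])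
    obtain ⟨p, q, hpq⟩ := (Nat.prime_iff_prime_int.mp hr).coprime_iff_not_dvd.mpr hnd
    apply hwZ
    rw [← _root_.zpow_one w, ← hpq, _root_.zpow_add, mul_comm p, _root_.zpow_mul, _root_.zpow_natCast, hwr, _root_.one_zpow, one_mul, mul_comm q, _root_.zpow_mul, ← hi]
    exact zpow_mem (hzZ t) q
  have h4 : ∀ b : G, b ^ 4 = 1 := fun b => by simpa using hexp b
  have hw4 : w ^ (4 : ℤ) = 1 := by exact_mod_cast h4 w
  have hpar : ∀ b ∈ A, b ∈ Subgroup.center G → b = 1 ∨ b = w ^ (2 : ℤ) := fun b hb hbZ => by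
    obtain ⟨j, rfl⟩ := hgen b hb
    have e : w ^ j = w ^ (j % 4) := by
      conv_lhs => rw [← Int.emod_add_mul_ediv j 4, _root_.zpow_add, _root_.zpow_mul, hw4, _root_.one_zpow, mul_one]
    rw [e] at hbZ ⊢
    have h0 := Int.emod_nonneg j (by norm_num : (4 : ℤ) ≠ 0)
    have h3 := Int.emod_lt_of_pos j (by norm_num : (0 : ℤ) < 4)
    interval_cases hj : j % 4
    · exact Or.inl (_root_.zpow_zero w)
    · exact absurd (by simpa using hbZ) hwZ
    · exact Or.inr rfl
    · exact absurd (by
        have := inv_mem hbZ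
        rwa [← _root_.zpow_neg, show w ^ (-(3 : ℤ)) = w by
          rw [show (-(3 : ℤ)) = 1 + (-1) * 4 by norm_num, _root_.zpow_add, mul_comm (-1 : ℤ), _root_.zpow_mul, hw4, _root_.one_zpow, mul_one, _root_.zpow_one]] at this) hwZ
  have haa : a * a = w ^ (2 : ℤ) := by
    obtain ⟨j, hj⟩ := hgen a haA
    have hodd : j % 2 = 1 := by
      by_contra hne2
      apply haZ
      rcases hpar _ (hzA t) (hzZ t) with e | e
      · exact absurd e ht
      · rw [hj, ← Int.mul_ediv_cancel' (show (2 : ℤ) ∣ j by omega), _root_.zpow_mul, ← e]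
        exact zpow_mem (hzZ t) _
    rw [hj, ← _root_.zpow_add, show j + j = 2 + 4 * (j / 2) by omega, _root_.zpow_add, _root_.zpow_mul, hw4, _root_.one_zpow, mul_one]
  have hconj : ∀ s : G, s * a * s⁻¹ = a ∨ s * a * s⁻¹ = a⁻¹ := fun s => by
    have e : s * a * s⁻¹ = ⁅a, s⁆⁻¹ * a := by
      rw [commutatorElement_inv, commutatorElement_def]; group
    rw [e]
    rcases hpar _ (hzA s) (hzZ s) with h | h
    · exact Or.inl (by rw [h, inv_one, one_mul])
    · exact Or.inr (by rw [h, ← haa]; group)
  have h1 := commutator_sq_eq_one h4 (a := a) (g := u) (h := v) (by rw [ha, commutatorElement_def]; group) (hconj u) (hconj v)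
  rw [haa] at h1
  rcases hpar _ (hzA t) (hzZ t) with e | e
  · exact ht e
  · exact ht (e.trans h1)

variable {ι : Type} [Fintype ι] [DecidableEq ι] {F : Type*} [Field F]

theorem symplecticTypeGroup_comm [Finite F] {r : ℕ} {R : Subgroup (GL ι F)} (hR : IsSymplecticTypeGroup r R)
    (hirr : ActsAbsolutelyIrreducibly (matrixSet R)) : ∀ x ∈ R, ∀ y ∈ R, x * y * x⁻¹ * y⁻¹ ∈ scalars ι F := fun x hx y hy => by
  have h := commutator_central hR.prime hR.pGroup hR.cyclic_of_characteristic
    (fun z => Monoid.exponent_dvd_iff_forall_pow_eq_one.mp (dvd_of_eq hR.exponent_eq) z) ⟨x, hx⟩ ⟨y, hy⟩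
  exact mem_scalars_of_absIrr hirr fun z hz => (congrArg Subtype.val (Subgroup.mem_center_iff.mp h ⟨z, hz⟩)).symm

/-- The square of the dimension is the index of the centre. -/
theorem card_sq_of_scalar_commutators [Fintype F] [Nonempty ι] {R : Subgroup (GL ι F)}
    (hirr : ActsAbsolutelyIrreducibly (matrixSet R)) (hc : ∀ x ∈ R, ∀ y ∈ R, x * y * x⁻¹ * y⁻¹ ∈ scalars ι F) :
    Fintype.card ι ^ 2 * Nat.card (Subgroup.center R) = Nat.card R := by
  classical
  let Z := Subgroup.center R
  let Q := R ⧸ Z
  let M : R → Matrix ι ι F := fun g => ((g : GL ι F) : Matrix ι ι F)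
  have hM : ∀ g h, M (g * h) = M g * M h := fun g h => rfl
  choose κ hκ using fun g h : R => exists_twist (hc g g.2 h h.2)
  have hZ : ∀ g : R, (g : GL ι F) ∈ scalars ι F ↔ g ∈ Z := fun g =>
    ⟨fun h => Subgroup.mem_center_iff.mpr fun w => Subtype.ext (scalars_commute h w).symm,
      fun h => mem_scalars_of_absIrr hirr fun w hw => (congrArg Subtype.val (Subgroup.mem_center_iff.mp h ⟨w, hw⟩)).symm⟩
  have hone : ∀ g h : R, κ g h = 1 ↔ g * h = h * g := fun g h => by
    constructor
    · intro e
      have := (hκ g h).eq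
      rw [e, Units.val_one, one_smul] at this
      exact Subtype.ext (Units.ext this)
    · intro e
      refine Units.ext ((hκ g h).unique ⟨?_⟩)
      rw [Units.val_one, one_smul, ← Units.val_mul, ← Units.val_mul]
      exact congrArg (fun z : R => ((z : GL ι F) : Matrix ι ι F)) e
  let β : R →* (R →* Fˣ) := MonoidHom.mk'
    (fun g => MonoidHom.mk' (fun h => κ g h) fun h h' =>
      Units.ext ((hκ g (h * h' : R)).unique (by simpa using (hκ g h).mul_right (hκ g h'))))
    fun g g' => MonoidHom.ext fun h =>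
      Units.ext ((hκ (g * g') h).unique (by simpa using (hκ g h).mul_left (hκ g' h)))
  have hker : β.ker = Z := by
    ext g
    rw [MonoidHom.mem_ker, Subgroup.mem_center_iff]
    exact ⟨fun h w => ((hone g w).mp (DFunLike.congr_fun h w)).symm, fun h => MonoidHom.ext fun w => (hone g w).mpr (h w).symm⟩
  -- characters of Q
  let βQ : Q →* (R →* Fˣ) := QuotientGroup.lift Z β (le_of_eq hker.symm)
  have hinj : Function.Injective βQ := (MonoidHom.ker_eq_bot_iff _).mp (by
    rw [QuotientGroup.ker_lift, hker]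
    exact QuotientGroup.map_mk'_self Z)
  have hsep : ∀ g h : R, (g : Q) ≠ (h : Q) → ∃ w, κ g w ≠ κ h w := fun g h hgh => by
    by_contra hcon
    push Not at hcon
    exact hgh (hinj (MonoidHom.ext hcon))
  let s : Q → R := Quotient.out
  have hs : ∀ x : Q, (s x : Q) = x := QuotientGroup.out_eq'
  -- conjugation eigenvalues
  have hconj : ∀ g h : R, M h⁻¹ * M g * M h = (κ g h : F) • M g := fun g h => by
    rw [Matrix.mul_assoc, (hκ g h).eq, Matrix.mul_smul, ← Matrix.mul_assoc]
    congr 1
    rw [← hM, inv_mul_cancel]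
    exact Matrix.one_mul _
  let Ad : R → (Matrix ι ι F →ₗ[F] Matrix ι ι F) := fun h => LinearMap.mulLeftRight F (M h⁻¹, M h)
  have hAd : ∀ h X, Ad h X = M h⁻¹ * X * M h := fun _ _ => rfl
  have hli : LinearIndependent F fun x : Q => M (s x) := by
    rw [Fintype.linearIndependent_iff]
    have key : ∀ (S : Finset Q) (c : Q → F), ∑ x ∈ S, c x • M (s x) = 0 → ∀ x ∈ S, c x = 0 := by
      intro S
      induction S using Finset.induction with
      | empty => intro c _ x hx; exact absurd hx (Finset.notMem_empty _)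
      | insert y S hy ih =>
        intro c hsum
        rw [Finset.sum_insert hy] at hsum
        have hS : ∀ x ∈ S, c x = 0 := fun x hx => by
          obtain ⟨w, hw⟩ := hsep (s x) (s y) (by rw [hs, hs]; exact fun e => hy (e ▸ hx))
          have h1 := congrArg (Ad w) hsum
          rw [map_add, map_sum, map_smul, map_zero] at h1
          simp only [map_smul] at h1
          simp only [hAd, hconj] at h1
          have h2 : ∑ z ∈ S, (c z * ((κ (s z) w : F) - (κ (s y) w : F))) • M (s z) = 0 := by
            have h3 : c y • M (s y) = -∑ z ∈ S, c z • M (s z) := eq_neg_of_add_eq_zero_left hsum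
            rw [smul_comm, h3, smul_neg, Finset.smul_sum, neg_add_eq_sub, ← Finset.sum_sub_distrib] at h1
            rw [← h1]
            exact Finset.sum_congr rfl fun z _ => by rw [mul_sub, sub_smul, mul_smul, smul_comm (κ (s y) w : F), mul_smul]
          exact (mul_eq_zero.mp (ih _ h2 x hx)).resolve_right (sub_ne_zero.mpr fun e => hw (Units.ext e))
        intro x hx
        rcases Finset.mem_insert.mp hx with rfl | hx
        · rw [Finset.sum_eq_zero (fun z hz => by rw [hS z hz, zero_smul]), add_zero] at hsum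
          exact (smul_eq_zero.mp hsum).resolve_right (Units.ne_zero _)
        · exact hS x hx
    exact fun c hc x => key Finset.univ c hc x (Finset.mem_univ x)
  -- the twists exhaust the characters
  let ev : Q → (Q →* F) := fun y => (Units.coeHom F).comp
    { toFun := fun x => βQ x (s y)
      map_one' := by rw [map_one]; rfl
      map_mul' := fun x x' => by rw [map_mul]; rfl }
  have hsymm : ∀ g h : R, κ h g = (κ g h)⁻¹ := fun g h => by
    refine eq_inv_of_mul_eq_one_left (Units.ext ?_)
    rw [Units.val_mul, Units.val_one]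
    have e : M h * M g = (κ h g * κ g h : F) • (M h * M g) := by
      conv_lhs => rw [show M h * M g = (κ h g : F) • (M g * M h) from (hκ h g).eq,
        show M g * M h = (κ g h : F) • (M h * M g) from (hκ g h).eq, smul_smul]
    exact (smul_left_injective F (Units.ne_zero ((h * g : R) : GL ι F)) ((one_smul F _).trans e)).symm
  have hevinj : Function.Injective ev := fun y y' h => by
    apply hinj
    rw [← hs y, ← hs y']
    refine MonoidHom.ext fun w => inv_injective (Units.ext ?_)
    change (((κ (s y) w)⁻¹ : Fˣ) : F) = (((κ (s y') w)⁻¹ : Fˣ) : F)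
    rw [← hsymm, ← hsymm]
    exact DFunLike.congr_fun h (w : Q)
  have hevsurj : Function.Surjective ev := by
    haveI : Finite (Q →* F) := Finite.of_injective (fun f => (f : Q → F)) DFunLike.coe_injective
    haveI : Fintype (Q →* F) := Fintype.ofFinite _
    refine ((Fintype.bijective_iff_injective_and_card ev).mpr ⟨hevinj, le_antisymm (Fintype.card_le_of_injective ev hevinj) ?_⟩).2
    rw [← Nat.card_eq_fintype_card, ← Nat.card_eq_fintype_card]
    exact card_le_of_injective_hom (fun χ : Q →* F => χ) fun _ _ h => h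
  -- the order of Q is invertible
  have hcard : (Fintype.card Q : F) ≠ 0 := by
    obtain ⟨p, hchar⟩ := CharP.exists F
    haveI := hchar
    obtain ⟨⟨e, he⟩, hpp, -⟩ := FiniteField.card F p
    haveI : Fact p.Prime := ⟨hpp⟩
    rw [Ne, CharP.cast_eq_zero_iff F p]
    intro hdvd
    obtain ⟨x, hx⟩ := exists_prime_orderOf_dvd_card p hdvd
    have hxp : βQ x ^ p = 1 := (map_pow βQ x p).symm.trans (by rw [← hx, pow_orderOf_eq_one, map_one])
    have : βQ x = 1 := MonoidHom.ext fun w => Units.ext (frobenius_inj F p (by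
      have h := congrArg (fun f : R →* Fˣ => ((f w : Fˣ) : F)) hxp
      simpa [frobenius_def, Units.val_pow_eq_pow_val] using h))
    rw [hinj (this.trans (map_one βQ).symm), orderOf_one] at hx
    exact hpp.ne_one hx.symm
  have hevk : ∀ y x : Q, ev y x = (κ (s x) (s y) : F) := fun y x => by
    conv_lhs => rw [← hs x]
    rfl
  -- orthogonality
  have horth : ∀ x : Q, x ≠ 1 → ∑ y : Q, ev y x = 0 := fun x hx => by
    obtain ⟨w, hw⟩ : ∃ w, ev w x ≠ 1 := by
      by_contra hcon
      push Not at hcon
      apply hx (hinj ?_)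
      rw [map_one]
      refine MonoidHom.ext fun r => Units.ext ?_
      have h1 : βQ x r = βQ x (s (r : Q)) := by
        obtain ⟨z, hz, hze⟩ : ∃ z ∈ Z, r = s (r : Q) * z :=
          ⟨(s (r : Q))⁻¹ * r, (QuotientGroup.eq.mp (hs (r : Q))), (mul_inv_cancel_left _ _).symm⟩
        conv_lhs => rw [hze, map_mul]
        rw [← hs x]
        change κ (s x) (s (r : Q)) * κ (s x) z = κ (s x) (s (r : Q))
        rw [(hone _ _).mpr (Subgroup.mem_center_iff.mp hz (s x)), mul_one]
      rw [h1]
      exact hcon _
    obtain ⟨e, he⟩ : ∃ e : Q → Q, ∀ y, ev (e y) = ev w * ev y := ⟨fun y => (hevsurj (ev w * ev y)).choose, fun y =>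
      (hevsurj (ev w * ev y)).choose_spec⟩
    have hw0 : ∀ z, ev w z ≠ 0 := fun z => Units.ne_zero _
    have hbij : Function.Bijective e := Finite.injective_iff_bijective.mp fun y y' hyy => hevinj (MonoidHom.ext fun z =>
      mul_left_cancel₀ (hw0 z) (DFunLike.congr_fun ((he y).symm.trans ((congrArg ev hyy).trans (he y'))) z))
    have h1 : ev w x * ∑ y : Q, ev y x = ∑ y : Q, ev y x := by
      rw [Finset.mul_sum]
      conv_rhs => rw [← Equiv.sum_comp (Equiv.ofBijective e hbij)]
      exact Finset.sum_congr rfl fun y _ => by rw [Equiv.ofBijective_apply, he]; rfl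
    exact (mul_eq_zero.mp (show (ev w x - 1) * ∑ y : Q, ev y x = 0 by rw [sub_mul, one_mul, h1, sub_self])).resolve_left
      (sub_ne_zero.mpr hw)
  -- spanning
  have hspan : Submodule.span F (Set.range fun x : Q => M (s x)) = ⊤ := by
    rw [eq_top_iff]
    intro X _
    set W := Submodule.span F (Set.range fun x : Q => M (s x))
    let P : Q → Matrix ι ι F := fun x => ∑ y : Q, (ev y x)⁻¹ • Ad (s y) X
    have hP : ∀ x, P x ∈ W := fun x => by
      have hinv : ∀ w : R, Ad w (P x) = (κ (s x) w : F) • P x := fun w => by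
        have hsame : ∀ u u' : R, (u : Q) = (u' : Q) → Ad u X = Ad u' X := fun u u' e => by
          obtain ⟨z, hz, rfl⟩ : ∃ z ∈ Z, u' = u * z := ⟨u⁻¹ * u', QuotientGroup.eq.mp e, (mul_inv_cancel_left _ _).symm⟩
          obtain ⟨c, hc⟩ := (mem_scalars_iff _).mp ((hZ z).mpr hz)
          obtain ⟨c', hc'⟩ := (mem_scalars_iff _).mp ((hZ z⁻¹).mpr (inv_mem hz))
          rw [hAd, hAd, _root_.mul_inv_rev, hM, hM]
          have hcc : (c' : F) * c = 1 := by
            have e1 : M z⁻¹ * M z = 1 := by rw [← hM, inv_mul_cancel]; rfl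
            simp only [M, hc, hc', Matrix.smul_mul, Matrix.mul_smul, Matrix.one_mul, smul_smul] at e1
            obtain ⟨i⟩ := ‹Nonempty ι›
            simpa [mul_comm] using congrFun (congrFun e1 i) i
          simp only [M] at hc hc' ⊢
          simp only [hc, hc', Matrix.smul_mul, Matrix.mul_smul, Matrix.one_mul, Matrix.mul_one, smul_smul]
          rw [mul_comm, hcc, one_smul]
        simp only [P, map_sum, map_smul, Finset.smul_sum]
        refine Finset.sum_nbij' (fun y => y * (w : Q)) (fun y => y * (w : Q)⁻¹) (by simp) (by simp) (by simp) (by simp) fun y _ => ?_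
        rw [smul_smul]
        have hm : Ad w (Ad (s y) X) = Ad (s (y * (w : Q))) X := by
          rw [hsame (s (y * (w : Q))) (s y * w) (by rw [hs, QuotientGroup.mk_mul, hs])]
          simp only [hAd, _root_.mul_inv_rev, hM, Matrix.mul_assoc]
        rw [hm]
        congr 1
        have hev : ev (y * (w : Q)) x = ev y x * (κ (s x) w : F) := by
          obtain ⟨z, hz, hze⟩ : ∃ z ∈ Z, s y * w = s (y * (w : Q)) * z := ⟨(s (y * (w : Q)))⁻¹ * (s y * w),
            QuotientGroup.eq.mp (by rw [hs, QuotientGroup.mk_mul, hs]), (mul_inv_cancel_left _ _).symm⟩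
          rw [hevk, hevk]
          have h1 : β (s x) (s y * w) = β (s x) (s (y * (w : Q)) * z) := by rw [hze]
          rw [map_mul, map_mul] at h1
          change κ (s x) (s y) * κ (s x) w = κ (s x) (s (y * (w : Q))) * κ (s x) z at h1
          rw [(hone _ _).mpr (Subgroup.mem_center_iff.mp hz (s x)), mul_one] at h1
          rw [← h1, Units.val_mul]
        rw [hev, mul_inv, mul_left_comm, mul_inv_cancel₀ (Units.ne_zero _), mul_one]
      obtain ⟨c, hc⟩ := hirr.2 (M (s x)⁻¹ * P x) (by
        rintro _ ⟨w, hw, rfl⟩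
        have e1 := hinv ⟨w, hw⟩
        rw [hAd] at e1
        set W' : R := ⟨w, hw⟩
        have e2 : P x * M W' = (κ (s x) W' : F) • (M W' * P x) := by
          have := congrArg (M W' * ·) e1
          simp only [Matrix.mul_smul, ← Matrix.mul_assoc] at this
          rwa [← hM, mul_inv_cancel, show M 1 = 1 from rfl, Matrix.one_mul] at this
        have e3 : M (s x)⁻¹ * M W' = (κ (s x) W' : F)⁻¹ • (M W' * M (s x)⁻¹) := by
          have h := hconj (s x) W'
          have h' : M (s x) * M W' = (κ (s x) W' : F) • (M W' * M (s x)) := (hκ (s x) W').eq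
          have h'' := congrArg (fun Z => M (s x)⁻¹ * Z * M (s x)⁻¹) h'
          simp only [Matrix.mul_smul, Matrix.smul_mul, ← Matrix.mul_assoc] at h''
          rw [← hM, inv_mul_cancel, show M 1 = 1 from rfl, Matrix.one_mul, Matrix.mul_assoc _ (M (s x)) (M (s x)⁻¹), ← hM (s x),
            mul_inv_cancel, show M 1 = 1 from rfl, Matrix.mul_one] at h''
          rw [h'', smul_smul, inv_mul_cancel₀ (Units.ne_zero _), one_smul]
        change M (s x)⁻¹ * P x * M W' = M W' * (M (s x)⁻¹ * P x)
        rw [Matrix.mul_assoc, e2, Matrix.mul_smul, ← Matrix.mul_assoc, e3, Matrix.smul_mul, smul_smul,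
          mul_inv_cancel₀ (Units.ne_zero _), one_smul, Matrix.mul_assoc])
      have : P x = c • M (s x) := by
        have := congrArg (M (s x) * ·) hc
        simp only [← Matrix.mul_assoc, Matrix.mul_smul, Matrix.mul_one] at this
        rwa [← hM, mul_inv_cancel, show M 1 = 1 from rfl, Matrix.one_mul] at this
      rw [this]
      exact W.smul_mem _ (Submodule.subset_span ⟨x, rfl⟩)
    have hsum : ∑ x : Q, P x = (Fintype.card Q : F) • Ad (s 1) X := by
      simp only [P]
      rw [Finset.sum_comm]
      have hpoint : ∀ y : Q, ∑ x : Q, (ev y x)⁻¹ = if y = 1 then (Fintype.card Q : F) else 0 := fun y => by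
        have hh : ∀ x, (ev y x)⁻¹ = ev x y := fun x => by
          conv_lhs => rw [← hs x]
          conv_rhs => rw [← hs y]
          change ((κ (s x) (s y) : Fˣ) : F)⁻¹ = (κ (s y) (s x) : F)
          rw [hsymm (s x) (s y), Units.val_inv_eq_inv_val]
        simp only [hh]
        split_ifs with h
        · subst h
          simp
        · exact horth y h
      simp only [← Finset.sum_smul, hpoint, ite_smul, zero_smul]
      rw [Finset.sum_eq_single (1 : Q) (fun y _ hy => if_neg hy) (fun h => absurd (Finset.mem_univ _) h), if_pos rfl]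
    have h1 : Ad (s 1) X = X := by
      have hz : s (1 : Q) ∈ Z := (QuotientGroup.eq_one_iff _).mp (hs 1)
      obtain ⟨c, hc⟩ := (mem_scalars_iff _).mp ((hZ _).mpr hz)
      rw [hAd]
      have e : X * M (s 1) = M (s 1) * X := by simp [M, hc]
      rw [Matrix.mul_assoc, e, ← Matrix.mul_assoc, ← hM, inv_mul_cancel]
      exact Matrix.one_mul X
    rw [h1] at hsum
    have : X = (Fintype.card Q : F)⁻¹ • ∑ x : Q, P x := by rw [hsum, smul_smul, inv_mul_cancel₀ hcard, one_smul]
    rw [this]
    exact W.smul_mem _ (W.sum_mem fun x _ => hP x)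
  have hfin := Module.finrank_eq_card_basis (Module.Basis.mk hli (le_of_eq hspan.symm))
  rw [Module.finrank_matrix, Module.finrank_self, mul_one] at hfin
  rw [sq, hfin, ← Nat.card_eq_fintype_card]
  exact (Subgroup.card_eq_card_quotient_mul_card_subgroup Z).symm

end Cfsg.Agent.Classical
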