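/-
Maximal subgroups of the symplectic groups in dimension at least six.
-/
import Cfsg.Agent.Lib.Classical.FormSpStructure
import Cfsg.Agent.Lib.Classical.FixCodim
import Cfsg.Agent.Lib.Classical.SymplecticClassTwo
import Cfsg.Agent.Lib.Classical.OrthogonalMembers
import Cfsg.Agent.Lib.Lead.SympBasic

set_option autoImplicit false
set_option linter.style.haveILetI false
set_option linter.unusedSectionVars false

namespace Cfsg.Agent.Classical

open Matrix Cfsg.Geo

section general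

variable {ι : Type} [Fintype ι] [DecidableEq ι] {F : Type*} [Field F] [Fintype F]

/-- A nondegenerate subspace invariant under a self-adjoint alternating field has dimension a multiple of twice the degree. -/
theorem two_mul_dvd_finrank_of_alternating {f : (ι → F) → (ι → F) → F} (hfs : IsSymplecticForm f) {r : ℕ}
    {K : Subalgebra F (Matrix ι ι F)} (hK : IsFieldSubalgebra r K) (hsa : IsSelfAdjointFor f K)
    (halt : ∀ k ∈ K, ∀ v, f (k *ᵥ v) v = 0) :
    ∀ W : Submodule F (ι → F), IsNondegenerateOn f W → (∀ k ∈ K, ∀ w ∈ W, k *ᵥ w ∈ W) →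
      2 * r ∣ Module.finrank F W := by
  classical
  have hf := reflexForm_of_symplectic hfs
  intro W
  induction hd : Module.finrank F W using Nat.strong_induction_on generalizing W with
  | _ d ih =>
  intro hW hinv
  subst hd
  rcases eq_or_ne W ⊥ with rfl | hbot
  · simp
  obtain ⟨w, hw, hw0⟩ := Submodule.exists_mem_ne_zero_of_ne_bot hbot
  obtain ⟨x, hx, hwx⟩ := (hW w hw hw0).2
  let L : (K × K) →ₗ[F] (ι → F) :=
    { toFun := fun a => (a.1 : Matrix ι ι F) *ᵥ w + (a.2 : Matrix ι ι F) *ᵥ x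
      map_add' := fun a b => by simp [Matrix.add_mulVec]; abel
      map_smul' := fun c a => by simp [Matrix.smul_mulVec, smul_add] }
  have hvanish : ∀ k ∈ K, ∀ l ∈ K, ∀ v, f (k *ᵥ v) (l *ᵥ v) = 0 := fun k hk l hl v => by
    rw [← hsa l hl, Matrix.mulVec_mulVec]
    exact halt _ (K.mul_mem hl hk) v
  have hsep : ∀ a : K × K, (∀ l ∈ K, f (L a) (l *ᵥ w) = 0 ∧ f (L a) (l *ᵥ x) = 0) → a = 0 := by
    rintro ⟨a, b⟩ h
    have hb : b = 0 := by
      by_contra hne
      obtain ⟨l, hl, hbl⟩ := hK.inv _ b.2 (fun e => hne (Subtype.ext e))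
      have e := (h l hl).1
      change f ((a : Matrix ι ι F) *ᵥ w + (b : Matrix ι ι F) *ᵥ x) _ = 0 at e
      rw [hf.semi.add_left, hvanish _ a.2 _ hl, zero_add, ← hsa l hl, Matrix.mulVec_mulVec, hK.comm l hl _ b.2, hbl,
        Matrix.one_mulVec] at e
      exact hwx (hf.eq_zero_swap e)
    have ha : a = 0 := by
      by_contra hne
      obtain ⟨l, hl, hal⟩ := hK.inv _ a.2 (fun e => hne (Subtype.ext e))
      have e := (h l hl).2
      change f ((a : Matrix ι ι F) *ᵥ w + (b : Matrix ι ι F) *ᵥ x) _ = 0 at e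
      rw [hb, ZeroMemClass.coe_zero, Matrix.zero_mulVec, add_zero, ← hsa l hl, Matrix.mulVec_mulVec, hK.comm l hl _ a.2,
        hal, Matrix.one_mulVec] at e
      exact hwx e
    rw [ha, hb]
    rfl
  have hLinj : Function.Injective L := (injective_iff_map_eq_zero L).mpr fun a ha =>
    hsep a fun l _ => ⟨by rw [ha, hf.zero_left], by rw [ha, hf.zero_left]⟩
  set U : Submodule F (ι → F) := LinearMap.range L with hU
  have hUw : ∀ l ∈ K, l *ᵥ w ∈ U := fun l hl => ⟨(⟨l, hl⟩, 0), by simp [L]⟩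
  have hUx : ∀ l ∈ K, l *ᵥ x ∈ U := fun l hl => ⟨(0, ⟨l, hl⟩), by simp [L]⟩
  have hUW : U ≤ W := by
    rintro _ ⟨a, rfl⟩
    exact W.add_mem (hinv _ a.1.2 _ hw) (hinv _ a.2.2 _ hx)
  have hUfin : Module.finrank F U = 2 * r := by
    rw [hU, LinearMap.finrank_range_of_inj hLinj, Module.finrank_prod]
    have := hK.finrank_eq
    rw [this]; ring
  have hUperp : U ⊓ hf.perp U = ⊥ := by
    rw [eq_bot_iff]
    rintro _ ⟨⟨a, rfl⟩, h⟩
    rw [hsep a fun l hl => ⟨hf.mem_perp.mp h _ (hUw l hl), hf.mem_perp.mp h _ (hUx l hl)⟩, map_zero]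
    exact Submodule.zero_mem _
  set W' := W ⊓ hf.perp U with hW'
  have hUW' : U ⊓ W' = ⊥ := le_bot_iff.mp ((le_inf inf_le_left (inf_le_right.trans inf_le_right)).trans hUperp.le)
  have hfin : Module.finrank F W' + 2 * r = Module.finrank F W := by
    have h1 : Module.finrank F U + Module.finrank F W' ≤ Module.finrank F W := by
      rw [← Submodule.finrank_sup_add_finrank_inf_eq U W', hUW', finrank_bot, add_zero]
      exact Submodule.finrank_mono (sup_le hUW inf_le_left)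
    have h2 := Submodule.finrank_sup_add_finrank_inf_eq W (hf.perp U)
    have h3 : Module.finrank F ↥(W ⊔ hf.perp U) ≤ Fintype.card ι :=
      (Submodule.finrank_le _).trans_eq (Module.finrank_fintype_fun_eq_card F)
    have h4 := hf.finrank_perp U
    rw [← hW'] at h2
    omega
  have hdecomp : ∀ y ∈ W, ∃ u ∈ U, ∃ y' ∈ W', y = u + y' := by
    intro y hy
    have hsup : U ⊔ W' = W := Submodule.eq_of_le_of_finrank_eq (sup_le hUW inf_le_left) (by
      have := Submodule.finrank_sup_add_finrank_inf_eq U W'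
      rw [hUW', finrank_bot] at this
      omega)
    rw [← hsup] at hy
    obtain ⟨u, hu, y', hy', e⟩ := Submodule.mem_sup.mp hy
    exact ⟨u, hu, y', hy', e.symm⟩
  have hW'nd : IsNondegenerateOn f W' := by
    intro y hy hy0
    have key : ∃ z ∈ W', f y z ≠ 0 := by
      by_contra hcon
      push Not at hcon
      obtain ⟨z, hz, hyz⟩ := (hW y hy.1 hy0).2
      obtain ⟨u, hu, z', hz', rfl⟩ := hdecomp z hz
      rw [hf.semi.add_right, hf.mem_perp.mp hy.2 u hu, hcon z' hz', add_zero] at hyz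
      exact hyz rfl
    obtain ⟨z, hz, hyz⟩ := key
    exact ⟨⟨z, hz, fun e => hyz (hf.eq_zero_swap e)⟩, z, hz, hyz⟩
  have hr : 0 < r := by
    haveI : Nontrivial K := ⟨⟨0, 1, fun h => hw0 (by
      have := congrArg (fun z : K => (z : Matrix ι ι F) *ᵥ w) h
      simpa using this.symm)⟩⟩
    exact hK.finrank_eq ▸ Module.finrank_pos
  obtain ⟨c, hc⟩ := ih (Module.finrank F W') (by omega) W' rfl hW'nd (fun k hk y hy =>
    ⟨hinv k hk y hy.1, hf.mem_perp.mpr fun u hu => by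
      obtain ⟨a, rfl⟩ := hu
      rw [hsa k hk]
      refine hf.mem_perp.mp hy.2 _ ?_
      change k *ᵥ ((a.1 : Matrix ι ι F) *ᵥ w + (a.2 : Matrix ι ι F) *ᵥ x) ∈ U
      rw [Matrix.mulVec_add, Matrix.mulVec_mulVec, Matrix.mulVec_mulVec]
      exact U.add_mem (hUw _ (K.mul_mem hk a.1.2)) (hUx _ (K.mul_mem hk a.2.2))⟩)
  exact ⟨c + 1, by rw [← hfin, hc]; ring⟩

/-- A nondegenerate subspace of a symplectic space has even dimension. -/
theorem even_finrank_of_alternating [Nonempty ι] {f : (ι → F) → (ι → F) → F} (hfs : IsSymplecticForm f)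
    {W : Submodule F (ι → F)} (hW : IsNondegenerateOn f W) : Even (Module.finrank F W) := by
  have hbot : ∀ k ∈ (⊥ : Subalgebra F (Matrix ι ι F)), ∃ c : F, k = c • (1 : Matrix ι ι F) := fun k hk => by
    obtain ⟨c, rfl⟩ := Algebra.mem_bot.mp hk
    exact ⟨c, Algebra.algebraMap_eq_smul_one c⟩
  have hmem : ∀ c : F, c • (1 : Matrix ι ι F) ∈ (⊥ : Subalgebra F (Matrix ι ι F)) := fun c =>
    Algebra.mem_bot.mpr ⟨c, Algebra.algebraMap_eq_smul_one c⟩
  have := two_mul_dvd_finrank_of_alternating hfs (r := 1) (K := ⊥) ⟨fun x hx y hy => by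
      obtain ⟨a, rfl⟩ := hbot x hx
      obtain ⟨b, rfl⟩ := hbot y hy
      simp [mul_comm a b, smul_smul], fun x hx h0 => by
      obtain ⟨a, rfl⟩ := hbot x hx
      have ha : a ≠ 0 := fun e => h0 (by rw [e, zero_smul])
      exact ⟨a⁻¹ • 1, hmem _, by rw [Matrix.smul_mul, Matrix.one_mul, smul_smul, mul_inv_cancel₀ ha, one_smul]⟩,
      Subalgebra.finrank_bot⟩
    (fun k hk u v => by
      obtain ⟨a, rfl⟩ := hbot k hk
      simp [Matrix.smul_mulVec, hfs.bilinear.smul_left, hfs.bilinear.smul_right])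
    (fun k hk v => by
      obtain ⟨a, rfl⟩ := hbot k hk
      simp [Matrix.smul_mulVec, hfs.bilinear.smul_left, hfs.alternating])
    W hW fun k hk w hw => by
      obtain ⟨a, rfl⟩ := hbot k hk
      rw [Matrix.smul_mulVec, Matrix.one_mulVec]
      exact W.smul_mem a hw
  rw [mul_one] at this
  exact even_iff_two_dvd.mpr this

/-- A symplectic form lives in even dimension. -/
theorem even_card_of_symplectic {f : (ι → F) → (ι → F) → F} (hfs : IsSymplecticForm f) : Even (Fintype.card ι) := by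
  rcases isEmpty_or_nonempty ι with h | h
  · simp
  have := even_finrank_of_alternating hfs (W := ⊤) fun w _ h0 =>
    ⟨(hfs.nondegenerate w h0).1.imp fun x hx => ⟨trivial, hx⟩, (hfs.nondegenerate w h0).2.imp fun x hx => ⟨trivial, hx⟩⟩
  rwa [finrank_top, Module.finrank_fintype_fun_eq_card] at this

theorem eq_inf_of_maximalIn {G H X : Subgroup (GL ι F)} (hH : IsMaximalIn G H) (hle : H ≤ X) (hX : ¬ G ≤ X) :
    H = X ⊓ G :=
  ((hH.2 (X ⊓ G) (le_inf hle hH.1.le) inf_le_right).resolve_right fun h => hX (h ▸ inf_le_left)).symm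

end general

variable {m : ℕ} {F : Type*} [Field F] [Fintype F]

theorem mem_spGL_of {g : GL (Fin m ⊕ Fin m) F}
    (h : ∀ u v, sympForm m F ((g : Matrix (Fin m ⊕ Fin m) (Fin m ⊕ Fin m) F) *ᵥ u)
      ((g : Matrix (Fin m ⊕ Fin m) (Fin m ⊕ Fin m) F) *ᵥ v) = sympForm m F u v) : g ∈ spGL m F := h

theorem exists_sp_transvection (v : Fin m ⊕ Fin m → F) (c : F) :
    ∃ g ∈ spGL m F, ∀ x, (g : Matrix (Fin m ⊕ Fin m) (Fin m ⊕ Fin m) F) *ᵥ x = x + (c * sympForm m F x v) • v := by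
  have hfs := sympForm_isSymplectic (m := m) (F := F)
  let T : F → Matrix (Fin m ⊕ Fin m) (Fin m ⊕ Fin m) F := fun c => sympTransvection m v c
  have hT : ∀ c x, T c *ᵥ x = x + (c * sympForm m F x v) • v := fun c x => Cfsg.Agent.Lead.Symp.trans_mulVec v x c
  have hmul : ∀ a b, T a * T b = T (a + b) := fun a b => Cfsg.Agent.Lead.Symp.trans_add v a b
  have h0 : T 0 = 1 := by simp [T, sympTransvection]
  refine ⟨⟨T c, T (-c), by rw [hmul, add_neg_cancel, h0], by rw [hmul, neg_add_cancel, h0]⟩, mem_spGL_of fun x y => ?_,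
    hT c⟩
  simp only [hT, hfs.bilinear.add_left, hfs.bilinear.add_right, hfs.bilinear.smul_left, hfs.bilinear.smul_right,
    hfs.alternating]
  rw [hfs.skew v y]
  ring

theorem sp_transvection_fixCodim {v : Fin m ⊕ Fin m → F} {c : F} {g : GL (Fin m ⊕ Fin m) F}
    (hg : ∀ x, (g : Matrix (Fin m ⊕ Fin m) (Fin m ⊕ Fin m) F) *ᵥ x = x + (c * sympForm m F x v) • v) : FixCodim 1 g :=
  ⟨{ toFun := fun u _ => sympForm m F u v
     map_add' := fun a b => funext fun _ => (sympForm_isSymplectic (m := m) (F := F)).bilinear.add_left a b v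
     map_smul' := fun s a => funext fun _ => (sympForm_isSymplectic (m := m) (F := F)).bilinear.smul_left s a v },
    fun u hu => by rw [hg, show sympForm m F u v = 0 from congrFun hu 0, mul_zero, zero_smul, add_zero]⟩

theorem sp_transvection_centralizer (hm : 0 < m) {M : Matrix (Fin m ⊕ Fin m) (Fin m ⊕ Fin m) F}
    (hM : ∀ g ∈ spGL m F, FixCodim 1 g → Commute (g : Matrix (Fin m ⊕ Fin m) (Fin m ⊕ Fin m) F) M) :
    ∃ c : F, M = c • (1 : Matrix (Fin m ⊕ Fin m) (Fin m ⊕ Fin m) F) := by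
  haveI : Nonempty (Fin m ⊕ Fin m) := ⟨.inl ⟨0, hm⟩⟩
  have hfs := sympForm_isSymplectic (m := m) (F := F)
  refine scalar_of_all_eigen fun v hv => ?_
  obtain ⟨⟨x, hx⟩, -⟩ := hfs.nondegenerate v hv
  obtain ⟨g, hg, hgm⟩ := exists_sp_transvection v 1
  have e := congrArg (· *ᵥ x) (hM g hg (sp_transvection_fixCodim hgm)).eq
  simp only [← Matrix.mulVec_mulVec, hgm, one_mul, Matrix.mulVec_add, Matrix.mulVec_smul] at e
  have e' := (add_left_cancel e).symm
  exact ⟨(sympForm m F x v)⁻¹ * sympForm m F (M *ᵥ x) v, by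
    rw [mul_smul, ← e', smul_smul, inv_mul_cancel₀ hx, one_smul]⟩

theorem not_sp_le_subspace {W : Submodule F (Fin m ⊕ Fin m → F)} (h0 : W ≠ ⊥) (h1 : W ≠ ⊤) :
    ¬ spGL m F ≤ subspaceStabilizer W := by
  intro hle
  have hfs := sympForm_isSymplectic (m := m) (F := F)
  obtain ⟨x, hx, hx0⟩ := Submodule.exists_mem_ne_zero_of_ne_bot h0
  obtain ⟨v₁, hv₁⟩ : ∃ v, v ∉ W := by
    by_contra hcon
    push Not at hcon
    exact h1 (eq_top_iff.mpr fun v _ => hcon v)
  obtain ⟨-, v₂, hv₂⟩ := hfs.nondegenerate x hx0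
  obtain ⟨v, hvW, hxv⟩ : ∃ v, v ∉ W ∧ sympForm m F x v ≠ 0 := by
    by_cases h : sympForm m F x v₁ = 0
    · by_cases h' : v₂ ∈ W
      · exact ⟨v₁ + v₂, fun h'' => hv₁ (by simpa using W.sub_mem h'' h'),
          by rwa [hfs.bilinear.add_right, h, zero_add]⟩
      · exact ⟨v₂, h', hv₂⟩
    · exact ⟨v₁, hv₁, h⟩
  obtain ⟨g, hg, hgm⟩ := exists_sp_transvection v 1
  have hmem := mem_subspaceStabilizer_iff.mp (hle hg) x hx
  rw [hgm, one_mul, Submodule.add_mem_iff_right _ hx] at hmem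
  exact hvW (by simpa [hxv] using W.smul_mem (sympForm m F x v)⁻¹ hmem)

theorem not_sp_le_decomp (hm : 0 < m) {t k : ℕ} {D : Fin t → Submodule F (Fin m ⊕ Fin m → F)}
    (hD : IsMDecomposition k D) (hk : 1 < k) : ¬ spGL m F ≤ decompositionStabilizer D := fun hle =>
  not_decomposition_of_centralizer (d := 1) (S := {g | g ∈ spGL m F ∧ FixCodim 1 g}) (fun g hg => hg.2)
    (fun M hM => sp_transvection_centralizer hm fun g hg hd => hM g ⟨hg, hd⟩) hD hk fun g hg => hle hg.1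

theorem sp_hasUnipotentFamily (hm : 0 < m) : HasUnipotentFamily (spGL m F) := by
  classical
  let i : Fin m := ⟨0, hm⟩
  refine ⟨Matrix.single (Sum.inl i) (Sum.inr i) 1, fun h => by simpa using congrFun (congrFun h (.inl i)) (.inr i),
    Matrix.single_mul_single_of_ne _ _ _ _ (by simp) _, fun F₁ a b => by
      rw [Matrix.single_apply]; split_ifs <;> [exact one_mem _; exact zero_mem _], fun t => ?_⟩
  obtain ⟨g, hg, hgm⟩ := exists_sp_transvection (Pi.single (Sum.inl i) (1 : F)) t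
  refine ⟨g, hg, Matrix.ext_of_mulVec_single fun j => ?_⟩
  rw [hgm, Cfsg.Agent.Lead.Symp.form_eq, Matrix.add_mulVec, Matrix.one_mulVec]
  congr 1
  ext a
  rcases j with j | j <;> rcases a with a | a <;>
    simp [Matrix.smul_mulVec, Matrix.single_apply, Pi.single_apply, Matrix.mulVec_single_one, Finset.sum_sub_distrib,
      eq_comm, ite_and]

theorem not_sp_le_quad (hm : 2 ≤ m) {Q : (Fin m ⊕ Fin m → F) → F} (h2 : (2 : F) = 0)
    (hQ : IsNondegenerateQuadraticForm Q) (hpol : ∀ u v, QuadraticMap.polar Q u v = sympForm m F u v) :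
    ¬ spGL m F ≤ quadSimilarityGroup Q := by
  classical
  intro hle
  have hfs := sympForm_isSymplectic (m := m) (F := F)
  let E : Fin m ⊕ Fin m → Fin m ⊕ Fin m → F := fun s => Pi.single s 1
  have hE : ∀ s t, sympForm m F (E s) (E t) = Matrix.J (Fin m) F s t := fun s t => by
    simp [sympForm, E, Matrix.mulVec_single_one, single_one_dotProduct]
  have hadd : ∀ u v, Q (u + v) = Q u + Q v + sympForm m F u v := fun u v => by
    rw [← hpol, QuadraticMap.polar]; ring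
  let a : Fin m := ⟨0, by omega⟩
  let b : Fin m := ⟨1, by omega⟩
  have hab : a ≠ b := by simp [a, b]
  have hba : b ≠ a := hab.symm
  obtain ⟨v, u, w, hv0, hvQ, huv, hwv, huw⟩ : ∃ v u w, v ≠ 0 ∧ Q v + 1 ≠ 0 ∧ sympForm m F u v = 0 ∧
      sympForm m F w v = 0 ∧ sympForm m F u w ≠ 0 := by
    by_cases h1 : Q (E (.inl a)) + 1 = 0
    · by_cases h2' : Q (E (.inl b)) + 1 = 0
      · refine ⟨E (.inl a) + E (.inl b), E (.inl a), E (.inr a) + (-1 : F) • E (.inr b), fun e => ?_, fun e => ?_, ?_, ?_, ?_⟩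
        · have := congrFun e (.inl a)
          simp [E, hab] at this
        · rw [hadd, hE] at e
          simp [Matrix.J, Matrix.one_apply] at e
          exact one_ne_zero (α := F) (by linear_combination h1 + h2' - e)
        all_goals
          simp only [hfs.bilinear.add_left, hfs.bilinear.add_right, hfs.bilinear.smul_left, hfs.bilinear.smul_right, hE]
          simp [Matrix.J, Matrix.one_apply, hab, hba]
      · exact ⟨E (.inl b), E (.inl a), E (.inr a), by simp [E], h2', by simp [hE, Matrix.J],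
          by simp [hE, Matrix.J, hab], by simp [hE, Matrix.J]⟩
    · exact ⟨E (.inl a), E (.inl b), E (.inr b), by simp [E], h1, by simp [hE, Matrix.J],
        by simp [hE, Matrix.J, hba], by simp [hE, Matrix.J]⟩
  obtain ⟨g, hg, hgm⟩ := exists_sp_transvection v 1
  obtain ⟨μ, hμ⟩ := hle hg
  obtain ⟨z, hz, hzQ⟩ : ∃ z, sympForm m F z v = 0 ∧ Q z ≠ 0 := by
    by_contra hcon
    push Not at hcon
    have h4 := hcon (u + w) (by rw [hfs.bilinear.add_left, huv, hwv, add_zero])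
    rw [hadd, hcon u huv, hcon w hwv, zero_add, zero_add] at h4
    exact huw h4
  have hμ1 : (μ : F) = 1 := by
    have e := hμ z
    rw [hgm, hz, mul_zero, zero_smul, add_zero] at e
    exact ((mul_eq_right₀ hzQ).mp e.symm)
  obtain ⟨⟨x, hx⟩, -⟩ := hfs.nondegenerate v hv0
  have e := hμ x
  rw [hgm, hμ1, one_mul, one_mul, hadd, hQ.smul, hfs.bilinear.smul_right] at e
  exact mul_ne_zero (mul_ne_zero hx hx) hvQ (by linear_combination e)

/-- The maximal subgroups of the symplectic group. -/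
theorem sp_cases (hm : 3 ≤ m) {H : Subgroup (GL (Fin m ⊕ Fin m) F)} (hH : IsMaximalIn (spGL m F) H) :
    (∃ W : Submodule F (Fin m ⊕ Fin m → F), W ≠ ⊥ ∧ IsTotallySingularFor (sympForm m F) W ∧
      H = subspaceStabilizer W ⊓ spGL m F) ∨
    (∃ W : Submodule F (Fin m ⊕ Fin m → F), W ≠ ⊥ ∧ IsNondegenerateOn (sympForm m F) W ∧ Module.finrank F W < m ∧
      H = subspaceStabilizer W ⊓ spGL m F) ∨
    (∃ (t k : ℕ) (D : Fin t → Submodule F (Fin m ⊕ Fin m → F)), 2 ≤ t ∧ 2 ≤ k ∧ Even k ∧ t * k = 2 * m ∧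
      IsNondegenerateMDecomposition (sympForm m F) k D ∧ H = decompositionStabilizer D ⊓ spGL m F) ∨
    (Odd (Fintype.card F) ∧ ∃ D : Fin 2 → Submodule F (Fin m ⊕ Fin m → F), IsMDecomposition m D ∧
      (∀ i, IsTotallySingularFor (sympForm m F) (D i)) ∧ H = decompositionStabilizer D ⊓ spGL m F) ∨
    (∃ (F₀ : Subfield F) (r : ℕ) (P : GL (Fin m ⊕ Fin m) F) (ζ : F), r.Prime ∧ Fintype.card F = Nat.card F₀ ^ r ∧
      ζ ≠ 0 ∧ IsFormRationalStructure (sympForm m F) F₀ ζ P ∧ H = subfieldSubgroup F₀ P ⊓ spGL m F) ∨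
    (∃ (R : Subgroup (GL (Fin m ⊕ Fin m) F)) (p k : ℕ), IsSymplecticTypeGroup 2 R ∧
      ActsAbsolutelyIrreducibly (matrixSet R) ∧ R ≤ similarityGroup (sympForm m F) ∧ p.Prime ∧ Odd p ∧
      Fintype.card F = p ∧ Nat.card R = 2 ^ (1 + 2 * k) ∧ Nat.card (Subgroup.center R) = 2 ∧ IsOfMinusType k R ∧
      2 * m = 2 ^ k ∧ H = subgroupNormalizer R ⊓ spGL m F) ∨
    (¬ Odd (Fintype.card F) ∧ ∃ Q : (Fin m ⊕ Fin m → F) → F, IsNondegenerateQuadraticForm Q ∧
      (∀ u v, QuadraticMap.polar Q u v = sympForm m F u v) ∧ H = quadSimilarityGroup Q ⊓ spGL m F) ∨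
    (∃ (r : ℕ) (K : Subalgebra F (Matrix (Fin m ⊕ Fin m) (Fin m ⊕ Fin m) F)), r.Prime ∧ r ∣ m ∧ IsFieldSubalgebra r K ∧
      IsSelfAdjointFor (sympForm m F) K ∧ (∀ k ∈ K, ∀ v, sympForm m F (k *ᵥ v) v = 0) ∧
      H = subalgebraNormalizer K ⊓ spGL m F) ∨
    (Odd (Fintype.card F) ∧ ∃ K : Subalgebra F (Matrix (Fin m ⊕ Fin m) (Fin m ⊕ Fin m) F), IsFieldSubalgebra 2 K ∧
      IsAdjointClosedFor (sympForm m F) K ∧ ¬ IsSelfAdjointFor (sympForm m F) K ∧
      H = subalgebraNormalizer K ⊓ spGL m F) ∨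
    (Odd (Fintype.card F) ∧ ∃ (n₁ n₂ : ℕ) (e : (Fin m ⊕ Fin m) ≃ Fin n₁ × Fin n₂) (P : GL (Fin m ⊕ Fin m) F)
      (f₁ : (Fin n₁ → F) → (Fin n₁ → F) → F) (f₂ : (Fin n₂ → F) → (Fin n₂ → F) → F),
      2 ≤ n₁ ∧ Even n₁ ∧ 3 ≤ n₂ ∧ n₁ * n₂ = 2 * m ∧ IsSymplecticForm f₁ ∧ IsSymmetricForm f₂ ∧
      IsTensorFormStructure id (sympForm m F) f₁ f₂ e P ∧ H = tensorProductSubgroup n₁ n₂ e P ⊓ spGL m F) ∨
    (∃ (k t : ℕ) (e : (Fin m ⊕ Fin m) ≃ (Fin t → Fin k)) (P : GL (Fin m ⊕ Fin m) F) (f₁ : (Fin k → F) → (Fin k → F) → F),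
      2 ≤ k ∧ Even k ∧ Odd (Fintype.card F) ∧ Odd t ∧ 3 ≤ t ∧ k ^ t = 2 * m ∧ ¬ (Fintype.card F = 3 ∧ k = 2) ∧
      IsSymplecticForm f₁ ∧ IsTensorPowerFormStructure id (sympForm m F) f₁ e P ∧
      H = tensorWreathSubgroup k t e P ⊓ spGL m F) ∨
    InSymplecticResidualClass H := by
  classical
  haveI : Nonempty (Fin m ⊕ Fin m) := ⟨.inl ⟨0, by omega⟩⟩
  have hcard : Fintype.card (Fin m ⊕ Fin m) = 2 * m := by simp [two_mul]
  have hfs := sympForm_isSymplectic (m := m) (F := F)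
  rcases sp_structure (by omega) hH.1.le with ⟨M, hM, hHM⟩ | hres
  swap
  · iterate 11 right
    exact hres
  obtain ⟨v₀, hv₀⟩ : ∃ v : Fin m ⊕ Fin m → F, v ≠ 0 := ⟨Pi.single (.inl ⟨0, by omega⟩) 1, by simp⟩
  obtain ⟨g, hg, hgm⟩ := exists_sp_transvection v₀ 1
  have hgd := sp_transvection_fixCodim hgm
  have hne : ∀ {c : F}, c ≠ 0 → ∀ {x : GL (Fin m ⊕ Fin m) F},
      (∀ u, (x : Matrix (Fin m ⊕ Fin m) (Fin m ⊕ Fin m) F) *ᵥ u = u + (c * sympForm m F u v₀) • v₀) → x ≠ 1 := by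
    intro c hc x hx e
    obtain ⟨⟨u, hu⟩, -⟩ := hfs.nondegenerate v₀ hv₀
    have h := hx u
    rw [e, Units.val_one, Matrix.one_mulVec, eq_comm, add_eq_left] at h
    exact mul_ne_zero hc hu ((smul_eq_zero.mp h).resolve_right hv₀)
  have hg1 := hne one_ne_zero hgm
  have key : ∀ {X : Subgroup (GL (Fin m ⊕ Fin m) F)}, M = X ⊓ spGL m F → ¬ spGL m F ≤ X → H = X ⊓ spGL m F :=
    fun hMX hX => eq_inf_of_maximalIn hH ((hHM.trans hMX.le).trans inf_le_left) hX
  rcases hM with hM | hM | hM | hM | hM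
  · rcases hM with ⟨W, h0, hts, rfl⟩ | ⟨W, h0, hnd, hlt, rfl⟩ | ⟨t, k, D, hD, rfl⟩ | ⟨D, hq, hD, hts, rfl⟩ |
      ⟨F₀, r, P, ζ, hr, hc, hζ, hrat, rfl⟩ | ⟨R, p, k, hR, hRa, hsim, hp, hpo, hcp, hRc, hZ, hmt, rfl⟩ |
      ⟨Q, hq, hQ, hpol, rfl⟩
    · refine Or.inl ⟨W, h0, hts, key rfl (not_sp_le_subspace h0 fun e => ?_)⟩
      subst e
      obtain ⟨⟨x, hx⟩, -⟩ := hfs.nondegenerate _ hv₀
      exact hx (hts x trivial _ trivial)
    · refine Or.inr (Or.inl ⟨W, h0, hnd, hlt, key rfl (not_sp_le_subspace h0 fun e => ?_)⟩)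
      subst e
      rw [finrank_top, Module.finrank_fintype_fun_eq_card, hcard] at hlt
      omega
    · have hk : Even k := hD.decomp.finrank_eq ⟨0, by have := hD.decomp.two_le; omega⟩ ▸
        even_finrank_of_alternating hfs (hD.nondegenerate _)
      have hk2 : 2 ≤ k := by obtain ⟨j, rfl⟩ := hk; have := hD.decomp.pos; omega
      exact Or.inr (Or.inr (Or.inl ⟨t, k, D, hD.decomp.two_le, hk2, hk,
        (IsMDecomposition.card_eq hD.decomp).trans hcard, hD, key rfl (not_sp_le_decomp (by omega) hD.decomp hk2)⟩))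
    · exact Or.inr (Or.inr (Or.inr (Or.inl ⟨hq, D, hD, hts, key rfl (not_sp_le_decomp (by omega) hD (by omega))⟩)))
    · exact Or.inr (Or.inr (Or.inr (Or.inr (Or.inl ⟨F₀, r, P, ζ, hr, hc, hζ, hrat,
        key rfl ((sp_hasUnipotentFamily (by omega)).not_le_subfield hr hc P)⟩))))
    · have hcomm := symplecticTypeGroup_comm hR hRa
      have hn := card_sq_of_scalar_commutators hRa hcomm
      rw [hcard, hZ, hRc, show 2 ^ (1 + 2 * k) = (2 ^ k) ^ 2 * 2 by ring] at hn
      exact Or.inr (Or.inr (Or.inr (Or.inr (Or.inr (Or.inl ⟨R, p, k, hR, hRa, hsim, hp, hpo, hcp, hRc, hZ, hmt,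
        Nat.pow_left_injective two_ne_zero (Nat.eq_of_mul_eq_mul_right two_pos hn),
        key rfl fun h => hgd.not_mem_normalizer hg1 (by omega) hRa hcomm (h hg)⟩)))))
    · have h2 : (2 : F) = 0 := by
        by_contra h2
        exact hq (odd_card_of_two_ne_zero h2)
      exact Or.inr (Or.inr (Or.inr (Or.inr (Or.inr (Or.inr (Or.inl ⟨hq, Q, hQ, hpol,
        key rfl (not_sp_le_quad (by omega) h2 hQ hpol)⟩))))))
  · obtain ⟨r, K, hr, hK, hsa, halt, rfl⟩ := hM
    have hdvd : r ∣ m := by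
      have := two_mul_dvd_finrank_of_alternating hfs hK hsa halt ⊤ (fun w _ h0 =>
        ⟨(hfs.nondegenerate w h0).1.imp fun x hx => ⟨trivial, hx⟩, (hfs.nondegenerate w h0).2.imp fun x hx => ⟨trivial, hx⟩⟩)
        fun _ _ _ _ => trivial
      rw [finrank_top, Module.finrank_fintype_fun_eq_card, hcard] at this
      exact Nat.dvd_of_mul_dvd_mul_left two_pos this
    exact Or.inr (Or.inr (Or.inr (Or.inr (Or.inr (Or.inr (Or.inr (Or.inl ⟨r, K, hr, hdvd, hK, hsa, halt,
      key rfl fun h => hgd.not_mem_subalgebraNormalizer hg1 (by omega) hr.one_lt hK (h hg)⟩)))))))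
  · obtain ⟨K, hq, hK, hadj, hns, rfl⟩ := hM
    exact Or.inr (Or.inr (Or.inr (Or.inr (Or.inr (Or.inr (Or.inr (Or.inr (Or.inl ⟨hq, K, hK, hadj, hns,
      key rfl fun h => hgd.not_mem_subalgebraNormalizer hg1 (by omega) one_lt_two hK (h hg)⟩))))))))
  · obtain ⟨n₁, n₂, e, P, f₁, f₂, hq, h2, hf₁, hf₂, hT, rfl⟩ := hM
    have hn : n₁ * n₂ = 2 * m := by
      have := Fintype.card_congr e
      simp only [Fintype.card_prod, Fintype.card_fin, hcard] at this
      exact this.symm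
    have hev : Even n₁ := by simpa using even_card_of_symplectic hf₁
    have h1 : 2 ≤ n₁ := by
      obtain ⟨j, rfl⟩ := hev
      rcases Nat.eq_zero_or_pos j with rfl | hj
      · simp at hn; omega
      · omega
    exact Or.inr (Or.inr (Or.inr (Or.inr (Or.inr (Or.inr (Or.inr (Or.inr (Or.inr (Or.inl ⟨hq, n₁, n₂, e, P, f₁, f₂, h1,
      hev, h2, hn, hf₁, hf₂, hT, key rfl fun h => hgd.not_mem_tensor hg1 (by omega) (by omega) e P (h hg)⟩)))))))))
  · obtain ⟨k, t, e, P, f₁, hq, hto, ht, hex, hf₁, hT, rfl⟩ := hM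
    have hn : k ^ t = 2 * m := by
      have := Fintype.card_congr e
      simp only [Fintype.card_fun, Fintype.card_fin, hcard] at this
      exact this.symm
    have hev : Even k := by simpa using even_card_of_symplectic hf₁
    have h1 : 2 ≤ k := by
      obtain ⟨j, rfl⟩ := hev
      rcases Nat.eq_zero_or_pos j with rfl | hj
      · rw [zero_add, zero_pow (by omega)] at hn; omega
      · omega
    have hgg : g * g ≠ 1 := by
      refine hne (c := 2) (two_ne_zero_of_odd_card hq) fun u => ?_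
      rw [Units.val_mul, ← Matrix.mulVec_mulVec, hgm, hgm, one_mul, one_mul, hfs.bilinear.add_left,
        hfs.bilinear.smul_left, hfs.alternating, mul_zero, add_zero, add_assoc, ← add_smul, two_mul]
    exact Or.inr (Or.inr (Or.inr (Or.inr (Or.inr (Or.inr (Or.inr (Or.inr (Or.inr (Or.inr (Or.inl ⟨k, t, e, P, f₁, h1, hev,
      hq, hto, ht, hn, hex, hf₁, hT, key rfl fun h =>
        hgd.not_mem_wreath hg1 (by omega) (by omega) (Or.inr hgg) e P (h hg)⟩))))))))))

end Cfsg.Agent.Classical
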