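/-
Orthogonal groups: non-maximal stabilisers.
-/
import Mathlib
import Cfsg.Prelude.Def_GeometricClasses
import Cfsg.Agent.Lib.Classical.OrthMatrix
import Cfsg.Agent.Lib.Classical.OrthRoot
import Cfsg.Agent.Lib.Classical.LinBasic

set_option autoImplicit false
set_option linter.unusedSectionVars false

namespace Cfsg.Agent.Classical.ONotMax

open Module QuadraticMap Matrix OCount ORefl OOmega Cfsg.Agent.Classical
open scoped commutatorElement

variable {ι : Type} [Fintype ι] [DecidableEq ι] {F : Type*} [Field F]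

theorem exists_qform {Q : (ι → F) → F} (hQ : Cfsg.Geo.IsNondegenerateQuadraticForm Q) :
    ∃ Qf : QuadraticForm F (ι → F), ⇑Qf = Q ∧ PND Qf := by
  refine ⟨QuadraticMap.ofPolar Q (fun a x => by rw [hQ.smul, _root_.sq, smul_eq_mul])
    hQ.polar_bilinear.add_left hQ.polar_bilinear.smul_left, rfl, fun v hv => ?_⟩
  by_contra hne
  obtain ⟨x, hx⟩ := (hQ.nondegenerate v hne).2
  exact hx (hv x)

variable {Q : QuadraticForm F (ι → F)}

/-- A Siegel transformation as a member of `Ω`. -/
theorem exists_siegel (hQ : PND Q) (hn : Fintype.card ι ≠ 4) {e v : ι → F} (he : Q e = 0)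
    (hv : polar Q e v = 0) :
    ∃ g : GL ι F, g ∈ Cfsg.Geo.omegaGL ⇑Q ∧ ∀ x,
      (g : Matrix ι ι F) *ᵥ x = x + polar Q e x • v - (polar Q v x + Q v * polar Q e x) • e := by
  refine ⟨(toMat Q ⟨siegel he hv, siegel_mem he hv⟩).1, ?_, fun x => ?_⟩
  · refine Subgroup.mem_map.2 ⟨toMat Q ⟨siegel he hv, siegel_mem he hv⟩, ?_, rfl⟩
    have hle : (commutator ↥(Iso Q)).map (toMat Q).toMonoidHom ≤ commutator ↥(Cfsg.isometryGroup F ⇑Q) := by
      rw [commutator_def, commutator_def, Subgroup.map_commutator]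
      exact Subgroup.commutator_mono le_top le_top
    exact hle ⟨_, siegel_mem_commutator hQ (Or.inr (by rwa [Module.finrank_pi])) he hv, rfl⟩
  · rw [toMat_apply]; exact siegel_apply he hv x

theorem omega_isometry {g : GL ι F} (hg : g ∈ Cfsg.Geo.omegaGL ⇑Q) (x : ι → F) :
    Q ((g : Matrix ι ι F) *ᵥ x) = Q x := by
  have h : g ∈ Cfsg.isometryGroup F ⇑Q := Subgroup.map_subtype_le _ hg
  exact h x x

/-- A plane of plus type over a field with at most three elements has its stabiliser inside the
stabiliser of a line. -/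
theorem plane_not_max [Fintype F] (hQ : PND Q) (hn : 5 ≤ Fintype.card ι) (hq : Fintype.card F ≤ 3)
    {W : Submodule F (ι → F)} (hdim : finrank F W = 2)
    (hW : Cfsg.Geo.IsNondegenerateOn (QuadraticMap.polar ⇑Q) W) (hWp : Cfsg.Geo.IsPlusTypeOn ⇑Q W) :
    ∃ K : Subgroup (GL ι F), Cfsg.Geo.subspaceStabilizer W ⊓ Cfsg.Geo.omegaGL ⇑Q < K ∧
      K < Cfsg.Geo.omegaGL ⇑Q := by
  -- a hyperbolic pair spanning `W`
  obtain ⟨U, hUW, hU0, hUdim⟩ := hWp
  obtain ⟨e, heU, he0⟩ := (Submodule.ne_bot_iff U).1 (fun h => by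
    rw [h, finrank_bot, hdim] at hUdim
    exact absurd hUdim (by norm_num))
  have heW := hUW heU
  have he : Q e = 0 := hU0 e heU
  obtain ⟨x, hxW, hx⟩ := (hW e heW he0).2
  obtain ⟨y, hy⟩ : ∃ y, y = (polar Q e x)⁻¹ • x := ⟨_, rfl⟩
  have hyW : y ∈ W := hy ▸ W.smul_mem _ hxW
  have hey : polar Q e y = 1 := by rw [hy, polar_smul_right, smul_eq_mul, inv_mul_cancel₀ hx]
  obtain ⟨f, hf⟩ : ∃ f, f = y - Q y • e := ⟨_, rfl⟩
  have hfW : f ∈ W := hf ▸ W.sub_mem hyW (W.smul_mem _ heW)
  have hpair : IsHPair Q (e, f) := by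
    refine ⟨he, ?_, ?_⟩
    · rw [hf, map_sub_two, QuadraticMap.map_smul, he, polar_smul_right, polar_comm Q y e, hey]; simp
    · rw [hf, polar_sub_right, hey, polar_smul_right, polar_self_zero he, smul_zero, sub_zero]
  have hfe : polar Q f e = 1 := by rw [polar_comm]; exact hpair.2.2
  have hind : LinearIndependent F ![e, f] := by
    refine LinearIndependent.pair_iff.2 fun s t h => ?_
    have h1 := congrArg (polar Q e) h
    have h2 := congrArg (polar Q f) h
    simp only [polar_add_right, polar_smul_right, polar_self_zero he, polar_self_zero hpair.2.1,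
      hpair.2.2, hfe, polar_zero_right, smul_eq_mul] at h1 h2
    exact ⟨by simpa using h2, by simpa using h1⟩
  have hspan : Submodule.span F (Set.range ![e, f]) = W := by
    refine Submodule.eq_of_le_of_finrank_eq (Submodule.span_le.2 ?_) ?_
    · rintro _ ⟨i, rfl⟩; fin_cases i <;> assumption
    · rw [finrank_span_eq_card hind, hdim, Fintype.card_fin]
  have hW' : ∀ w ∈ W, ∃ a b : F, w = a • e + b • f := fun w hw => by
    rw [← hspan, show Set.range ![e, f] = {e, f} by simp [Set.pair_comm],
      Submodule.mem_span_pair] at hw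
    obtain ⟨a, b, rfl⟩ := hw
    exact ⟨a, b, rfl⟩
  obtain ⟨u, hu⟩ : ∃ u, u = e + f := ⟨_, rfl⟩
  have hQu : Q u = 1 := by rw [hu, map_two, he, hpair.2.1, hpair.2.2]; ring
  have huW : u ∈ W := hu ▸ W.add_mem heW hfW
  have hsq : ∀ a : F, a ≠ 0 → a * a = 1 := fun a ha => by
    have h1 := FiniteField.pow_card_sub_one_eq_one a ha
    have := Fintype.one_lt_card (α := F)
    rcases (show Fintype.card F = 2 ∨ Fintype.card F = 3 by omega) with h | h <;> rw [h] at h1
    · norm_num at h1; rw [h1, one_mul]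
    · norm_num at h1; rcases h1 with h1 | h1 <;> rw [h1] <;> ring
  have hcomp : ∀ z ∈ comp Q (e, f), ∀ w ∈ W, polar Q w z = 0 := fun z hz w hw => by
    obtain ⟨a, b, rfl⟩ := hW' w hw
    rw [polar_add_left, polar_smul_left, polar_smul_left, (mem_comp.mp hz).1, (mem_comp.mp hz).2]
    simp
  have hdisj : ∀ z ∈ comp Q (e, f), z ∈ W → z = 0 := fun z hz hzW => by
    by_contra h0
    obtain ⟨w, hw, hw'⟩ := (hW z hzW h0).1
    exact hw' (hcomp z hz w hw)
  -- a vector of value one orthogonal to `W`
  have hR := finrank_comp (p := (e, f)) hpair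
  rw [Module.finrank_pi] at hR
  obtain ⟨z, hz, hQz⟩ : ∃ z ∈ comp Q (e, f), Q z = 1 := by
    have hRQ := res_pnd (p := (e, f)) hQ hpair
    by_cases h2 : (2 : F) = 0
    · have hex : ∃ z : comp Q (e, f), res Q (e, f) z ≠ 0 := by
        by_contra hc
        simp only [not_exists, not_not] at hc
        haveI : Nontrivial (comp Q (e, f)) := Module.nontrivial_of_finrank_pos (R := F) (by omega)
        obtain ⟨z, hz⟩ := exists_ne (0 : comp Q (e, f))
        exact hz (hRQ z fun w => by rw [polar, hc, hc, hc]; ring)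
      obtain ⟨z, hz⟩ := hex
      refine ⟨z, z.2, ?_⟩
      have h3 : Fintype.card F = 2 := by
        have := Fintype.one_lt_card (α := F)
        rcases (show Fintype.card F = 2 ∨ Fintype.card F = 3 by omega) with h | h
        · exact h
        · have h3 := FiniteField.cast_card_eq_zero F
          rw [h] at h3
          push_cast at h3
          exact absurd (by linear_combination h3 - h2 : (1 : F) = 0) one_ne_zero
      have h4 := FiniteField.pow_card_sub_one_eq_one (res Q (e, f) z) hz
      rw [h3, pow_one] at h4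
      exact h4
    · obtain ⟨z, hz⟩ := exists_value h2 hRQ (by omega) 1
      exact ⟨z, z.2, hz⟩
  obtain ⟨v, hv, hzv, hvz⟩ : ∃ v ∈ comp Q (e, f), polar Q z v = 0 ∧ v ∉ Submodule.span F {z} := by
    by_contra hc
    have hle : LinearMap.ker (Q.polarBilin z) ⊓ comp Q (e, f) ≤ Submodule.span F {z} := fun v hv => by
      by_contra h
      exact hc ⟨v, hv.2, by simpa using hv.1, h⟩
    have h1 := Submodule.finrank_mono hle
    have h2 := Submodule.finrank_sup_add_finrank_inf_eq (LinearMap.ker (Q.polarBilin z)) (comp Q (e, f))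
    have h3 := Submodule.finrank_le (LinearMap.ker (Q.polarBilin z) ⊔ comp Q (e, f))
    have h4 := LinearMap.finrank_range_add_finrank_ker (Q.polarBilin z)
    have h5 := Submodule.finrank_le (LinearMap.range (Q.polarBilin z))
    have hz0 : z ≠ 0 := fun h => one_ne_zero (α := F) (by rw [← hQz, h, QuadraticMap.map_zero])
    rw [finrank_span_singleton hz0] at h1
    rw [finrank_self] at h5
    rw [Module.finrank_pi] at h3 h4
    omega
  refine ⟨Cfsg.Geo.subspaceStabilizer (Submodule.span F {u}) ⊓ Cfsg.Geo.omegaGL ⇑Q,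
    lt_of_le_of_ne ?_ ?_, lt_of_le_of_ne inf_le_right ?_⟩
  · rintro g ⟨hgW, hg⟩
    refine ⟨mem_subspaceStabilizer_iff.2 fun w hw => ?_, hg⟩
    obtain ⟨c, rfl⟩ := Submodule.mem_span_singleton.1 hw
    obtain ⟨a, b, hab⟩ := hW' _ (mem_subspaceStabilizer_iff.1 hgW u huW)
    have h1 := omega_isometry hg u
    rw [hab, hQu, map_two, QuadraticMap.map_smul, QuadraticMap.map_smul, polar_smul_left, polar_smul_right,
      he, hpair.2.1, hpair.2.2] at h1
    simp only [smul_eq_mul, mul_zero, zero_add, mul_one] at h1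
    have ha : a ≠ 0 := fun h => one_ne_zero (α := F) (by rw [← h1, h, zero_mul])
    have hba : b = a := mul_left_cancel₀ ha (h1.trans (hsq a ha).symm)
    rw [Matrix.mulVec_smul, hab, hba, ← smul_add, ← hu]
    exact Submodule.smul_mem _ _ (Submodule.smul_mem _ _ (Submodule.mem_span_singleton_self u))
  · intro heq
    obtain ⟨s, hs⟩ : ∃ s, s = e - f + z := ⟨_, rfl⟩
    have hzW := fun w hw => hcomp z hz w hw
    have hvW := fun w hw => hcomp v hv w hw
    have hQs : Q s = 0 := by
      rw [hs, map_two, map_sub_two, he, hpair.2.1, hpair.2.2, hQz, polar_sub_left, hzW e heW, hzW f hfW]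
      ring
    have hsv : polar Q s v = 0 := by
      rw [hs, polar_add_left, polar_sub_left, hvW e heW, hvW f hfW, hzv]; ring
    obtain ⟨g, hg, hgx⟩ := exists_siegel hQ (by omega) hQs hsv
    have hsu : polar Q s u = 0 := by
      rw [hs, hu]
      simp only [polar_add_left, polar_sub_left, polar_add_right, polar_self_zero he,
        polar_self_zero hpair.2.1, hpair.2.2, hfe, polar_comm Q z e, polar_comm Q z f, hzW e heW, hzW f hfW]
      ring
    have hvu : polar Q v u = 0 := by rw [polar_comm]; exact hvW u huW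
    have hgu : (g : Matrix ι ι F) *ᵥ u = u := by rw [hgx, hsu, hvu]; simp
    have hgK : g ∈ Cfsg.Geo.subspaceStabilizer (Submodule.span F {u}) ⊓ Cfsg.Geo.omegaGL ⇑Q :=
      ⟨mem_subspaceStabilizer_iff.2 fun w hw => by
        obtain ⟨c, rfl⟩ := Submodule.mem_span_singleton.1 hw
        rw [Matrix.mulVec_smul, hgu]
        exact hw, hg⟩
    rw [← heq] at hgK
    have h1 := mem_subspaceStabilizer_iff.1 hgK.1 e heW
    have hse : polar Q s e = -1 := by
      rw [hs, polar_add_left, polar_sub_left, polar_self_zero he, hfe, polar_comm Q z e, hzW e heW]; ring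
    have hve : polar Q v e = 0 := by rw [polar_comm]; exact hvW e heW
    rw [hgx, hse, hve] at h1
    have h2 : -v + Q v • z = 0 := by
      refine hdisj _ ((comp Q (e, f)).add_mem ((comp Q (e, f)).neg_mem hv) ((comp Q (e, f)).smul_mem _ hz)) ?_
      have h3 : -v + Q v • z =
          (e + (-1 : F) • v - (0 + Q v * (-1)) • s) - e - Q v • (e - f) := by
        rw [hs]; module
      rw [h3]
      exact W.sub_mem (W.sub_mem h1 heW) (W.smul_mem _ (W.sub_mem heW hfW))
    exact hvz (Submodule.mem_span_singleton.2 ⟨Q v, by rwa [neg_add_eq_zero, eq_comm] at h2⟩)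
  · intro heq
    have hev : polar Q e v = 0 := hcomp v hv e heW
    obtain ⟨g, hg, hgx⟩ := exists_siegel hQ (by omega) he hev
    rw [← heq] at hg
    have h1 := mem_subspaceStabilizer_iff.1 hg.1 u (Submodule.mem_span_singleton_self u)
    obtain ⟨c, hc⟩ := Submodule.mem_span_singleton.1 h1
    have heu : polar Q e u = 1 := by rw [hu, polar_add_right, polar_self_zero he, hpair.2.2, zero_add]
    have hvu : polar Q v u = 0 := by rw [polar_comm]; exact hcomp v hv u huW
    rw [hgx, heu, hvu, one_smul] at hc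
    have h2 : v = 0 := hdisj v hv (by
      have : v = c • u - u + (0 + Q v * 1) • e := by rw [hc]; module
      rw [this]
      exact W.add_mem (W.sub_mem (W.smul_mem _ huW) huW) (W.smul_mem _ heW))
    exact hvz (h2 ▸ Submodule.zero_mem _)

/-- A product of two reflections of equal value, as a member of `Ω`. -/
theorem exists_refl_pair [Fintype F] (hQ : PND Q) {u w : ι → F} (hu : Q u ≠ 0) (huw : Q w = Q u) :
    ∃ g : GL ι F, g ∈ Cfsg.Geo.omegaGL ⇑Q ∧ ∀ x, (g : Matrix ι ι F) *ᵥ x = refl Q u (refl Q w x) := by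
  have hu0 : u ≠ 0 := fun h => hu (by rw [h, QuadraticMap.map_zero])
  have hw0 : w ≠ 0 := fun h => hu (by rw [← huw, h, QuadraticMap.map_zero])
  obtain ⟨h, hh⟩ := OOmega.exists_conj hQ hu0 hw0 huw
  have hmem : rf Q u * rf Q w ∈ commutator ↥(Iso Q) := by
    rw [← hh, ← conj_rf, commutator_def, show rf Q u * (h * rf Q u * h⁻¹) = ⁅rf Q u, h⁆ by
      rw [commutatorElement_def, rf_inv]; group]
    exact Subgroup.commutator_mem_commutator (Subgroup.mem_top _) (Subgroup.mem_top _)
  refine ⟨(toMat Q (rf Q u * rf Q w)).1, ?_, fun x => ?_⟩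
  · refine Subgroup.mem_map.2 ⟨toMat Q (rf Q u * rf Q w), ?_, rfl⟩
    have hle : (commutator ↥(Iso Q)).map (toMat Q).toMonoidHom ≤ commutator ↥(Cfsg.isometryGroup F ⇑Q) := by
      rw [commutator_def, commutator_def, Subgroup.map_commutator]
      exact Subgroup.commutator_mono le_top le_top
    exact hle ⟨_, hmem, rfl⟩
  · rw [toMat_apply]; rfl

theorem two_ne_zero' [Fintype F] (hq : Fintype.card F = 3) : (2 : F) ≠ 0 := fun h => by
  have h3 := FiniteField.cast_card_eq_zero F
  rw [hq] at h3
  push_cast at h3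
  exact one_ne_zero (α := F) (by linear_combination h3 - h)

theorem eq_one_or_neg [Fintype F] (hq : Fintype.card F = 3) {a : F} (ha : a ≠ 0) : a = 1 ∨ a = -1 := by
  have h1 := FiniteField.pow_card_sub_one_eq_one a ha
  rw [hq] at h1
  exact mul_self_eq_one_iff.1 (by rw [← h1]; ring)

/-- Over three elements, blocks each having at most three orthogonal vectors of a common value as a
basis have their stabiliser inside the stabiliser of the set of these vectors. -/
theorem frame_not_max [Fintype F] (hQ : PND Q) (hq : Fintype.card F = 3) {t k : ℕ}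
    {D : Fin t → Submodule F (ι → F)} (hD : Cfsg.Geo.IsMDecomposition k D)
    (horth : ∀ i j, i ≠ j → Cfsg.Geo.AreOrthogonalFor (QuadraticMap.polar ⇑Q) (D i) (D j))
    (hk : 2 ≤ k) (hk3 : k ≤ 3) {c : F} (hc : c ≠ 0) (x : Fin t → Fin k → ι → F) (hx : ∀ i j, x i j ∈ D i)
    (hval : ∀ i j, Q (x i j) = c) (hperp : ∀ i j l, j ≠ l → polar Q (x i j) (x i l) = 0) :
    ∃ K : Subgroup (GL ι F), Cfsg.Geo.decompositionStabilizer D ⊓ Cfsg.Geo.omegaGL ⇑Q < K ∧
      K < Cfsg.Geo.omegaGL ⇑Q := by
  classical
  have h2 := two_ne_zero' hq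
  have h2c : (2 : F) * c ≠ 0 := mul_ne_zero h2 hc
  have hpol : ∀ i j i' j', polar Q (x i j) (x i' j') = if i = i' ∧ j = j' then 2 * c else 0 := by
    intro i j i' j'
    by_cases hi : i = i'
    · subst hi
      by_cases hj : j = j'
      · subst hj; rw [if_pos ⟨rfl, rfl⟩, polar_self_two, hval]
      · rw [if_neg (fun h => hj h.2), hperp i j j' hj]
    · rw [if_neg (fun h => hi h.1)]; exact horth i i' hi _ (hx i j) _ (hx i' j')
  have hne : ∀ i j, x i j ≠ 0 := fun i j h => hc (by rw [← hval i j, h, QuadraticMap.map_zero])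
  -- the vectors of value `c` in a block
  have hchar : ∀ i, ∀ w ∈ D i, Q w = c → ∃ j, w = x i j ∨ w = -x i j := by
    intro i w hw hQw
    have hind : LinearIndependent F (x i) := by
      refine Fintype.linearIndependent_iff.2 fun a ha l => ?_
      have h1 := congrArg (Q.polarBilin (x i l)) ha
      simp [map_sum, hpol] at h1
      exact h1.resolve_right (by simp [h2, hc])
    have hspan : Submodule.span F (Set.range (x i)) = D i :=
      Submodule.eq_of_le_of_finrank_eq (Submodule.span_le.2 (by rintro _ ⟨j, rfl⟩; exact hx i j))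
        (by rw [finrank_span_eq_card hind, hD.finrank_eq, Fintype.card_fin])
    rw [← hspan, Submodule.mem_span_range_iff_exists_fun] at hw
    obtain ⟨a, rfl⟩ := hw
    have hsum : ∑ j, a j * a j = 1 := by
      have h1 : polar Q (∑ j, a j • x i j) (∑ j, a j • x i j) = 2 * c := by rw [polar_self_two, hQw]
      rw [← QuadraticMap.polarBilin_apply_apply] at h1
      simp [map_sum, hpol, Finset.mul_sum] at h1
      refine mul_left_cancel₀ h2c ?_
      rw [mul_one, Finset.mul_sum]
      exact (Finset.sum_congr rfl fun j _ => by ring).trans h1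
    have hcast : ∑ j, a j * a j = ((Finset.univ.filter fun j => a j ≠ 0).card : F) := by
      rw [Finset.card_filter, Nat.cast_sum]
      refine Finset.sum_congr rfl fun j _ => ?_
      by_cases h : a j = 0
      · simp [h]
      · rw [if_pos h]; rcases eq_one_or_neg hq h with h1 | h1 <;> simp [h1]
    have h3 : (3 : F) = 0 := by
      have := FiniteField.cast_card_eq_zero F
      rw [hq] at this
      exact_mod_cast this
    have hone : (Finset.univ.filter fun j => a j ≠ 0).card = 1 := by
      have hle := Finset.card_le_univ (Finset.univ.filter fun j => a j ≠ 0)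
      rw [Fintype.card_fin] at hle
      replace hle := hle.trans hk3
      rw [hsum] at hcast
      interval_cases hn : (Finset.univ.filter fun j => a j ≠ 0).card <;> norm_num at hcast
      all_goals first
        | rfl
        | (exfalso; exact one_ne_zero (α := F) (by
            first | linear_combination hcast + h3 | linear_combination -hcast | linear_combination hcast))
    obtain ⟨j, hj⟩ := Finset.card_eq_one.1 hone
    have hzero : ∀ l, l ≠ j → a l = 0 := fun l hl => by
      by_contra h
      have : l ∈ Finset.univ.filter fun j => a j ≠ 0 := by simp [h]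
      rw [hj, Finset.mem_singleton] at this
      exact hl this
    have hj0 : a j ≠ 0 := by
      have : j ∈ Finset.univ.filter fun j => a j ≠ 0 := by rw [hj]; exact Finset.mem_singleton_self j
      simpa using this
    refine ⟨j, ?_⟩
    rw [Finset.sum_eq_single j (fun l _ hl => by rw [hzero l hl, zero_smul]) (by simp)]
    rcases eq_one_or_neg hq hj0 with h | h <;> simp [h]
  set S : Set (ι → F) := {v | ∃ i j, v = x i j ∨ v = -x i j} with hS
  have hmaps : ∀ g : GL ι F, (∀ i j, (g : Matrix ι ι F) *ᵥ x i j ∈ S) →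
      g ∈ Cfsg.stabilizing (Cfsg.glToMat ι F) S := by
    intro g hg
    have hfwd : ∀ v ∈ S, (g : Matrix ι ι F) *ᵥ v ∈ S := by
      rintro v ⟨i, j, rfl | rfl⟩
      · exact hg i j
      · obtain ⟨i', j', h | h⟩ := hg i j <;> refine ⟨i', j', ?_⟩
        · exact Or.inr (by rw [Matrix.mulVec_neg, h])
        · exact Or.inl (by rw [Matrix.mulVec_neg, h, neg_neg])
    have heq : (fun v => (g : Matrix ι ι F) *ᵥ v) '' S = S :=
      Set.eq_of_subset_of_ncard_le (by rintro _ ⟨v, hv, rfl⟩; exact hfwd v hv)
        (Set.ncard_image_of_injective S (gl_mulVec_injective g)).ge (Set.toFinite _)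
    intro v
    refine ⟨hfwd v, fun hv => ?_⟩
    change (g : Matrix ι ι F) *ᵥ v ∈ S at hv
    rw [← heq] at hv
    obtain ⟨w, hw, hwv⟩ := hv
    rwa [← gl_mulVec_injective g hwv]
  have hxS : ∀ i j, x i j ∈ S := fun i j => ⟨i, j, Or.inl rfl⟩
  obtain ⟨i₀, i₁, hi⟩ : ∃ i₀ i₁ : Fin t, i₀ ≠ i₁ :=
    ⟨⟨0, by have := hD.two_le; omega⟩, ⟨1, by have := hD.two_le; omega⟩, by simp [Fin.ext_iff]⟩
  obtain ⟨j₀, j₁, hj⟩ : ∃ j₀ j₁ : Fin k, j₀ ≠ j₁ :=
    ⟨⟨0, by omega⟩, ⟨1, by omega⟩, by simp [Fin.ext_iff]⟩
  refine ⟨Cfsg.stabilizing (Cfsg.glToMat ι F) S ⊓ Cfsg.Geo.omegaGL ⇑Q, lt_of_le_of_ne ?_ ?_,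
    lt_of_le_of_ne inf_le_right ?_⟩
  · rintro g ⟨⟨σ, hσ⟩, hg⟩
    refine ⟨hmaps g fun i j => ?_, hg⟩
    have hmem : (g : Matrix ι ι F) *ᵥ x i j ∈ D (σ i) := by
      rw [← hσ i]
      exact ⟨x i j, hx i j, Matrix.toLin'_apply _ _⟩
    obtain ⟨j', h⟩ := hchar _ _ hmem (by rw [omega_isometry hg, hval])
    exact ⟨σ i, j', h⟩
  · intro heq
    obtain ⟨a, ha⟩ : ∃ a, a = x i₀ j₀ := ⟨_, rfl⟩
    obtain ⟨b, hb⟩ : ∃ b, b = x i₁ j₀ := ⟨_, rfl⟩
    obtain ⟨d, hd⟩ : ∃ d, d = x i₀ j₁ := ⟨_, rfl⟩
    have hQd : ∀ i j i' j', (i, j) ≠ (i', j') → Q (x i j - x i' j') = 2 * c := fun i j i' j' h => by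
      rw [map_sub_two, hval, hval, hpol, if_neg (fun e => h (by rw [e.1, e.2]))]; ring
    have hswap : ∀ i j i' j', (i, j) ≠ (i', j') → ∀ i'' j'', refl Q (x i j - x i' j') (x i'' j'') ∈ S := by
      intro i j i' j' h i'' j''
      by_cases e1 : (i'', j'') = (i, j)
      · obtain ⟨rfl, rfl⟩ := Prod.mk_inj.1 e1
        rw [refl_sub_apply (by rw [hval, hval]) (by rw [hQd _ _ _ _ h]; exact h2c)]
        exact hxS i' j'
      by_cases e2 : (i'', j'') = (i', j')
      · obtain ⟨rfl, rfl⟩ := Prod.mk_inj.1 e2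
        rw [← refl_smul (neg_ne_zero.2 one_ne_zero) (x i j - x i'' j''), neg_one_smul, neg_sub,
          refl_sub_apply (by rw [hval, hval]) (by rw [hQd _ _ _ _ (Ne.symm h)]; exact h2c)]
        exact hxS i j
      rw [refl_fix]
      · exact hxS i'' j''
      · rw [polar_sub_left, hpol, hpol, if_neg (fun e => e1 (by rw [e.1, e.2])),
          if_neg (fun e => e2 (by rw [e.1, e.2])), sub_zero]
    have hne1 : (i₀, j₀) ≠ (i₁, j₀) := fun e => hi (Prod.mk_inj.1 e).1
    have hne2 : (i₁, j₀) ≠ (i₀, j₁) := fun e => hi (Prod.mk_inj.1 e).1.symm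
    obtain ⟨g, hg, hgx⟩ := exists_refl_pair (Q := Q) hQ (u := a - b) (w := b - d)
      (by rw [ha, hb, hQd _ _ _ _ hne1]; exact h2c)
      (by rw [ha, hb, hd, hQd _ _ _ _ hne1, hQd _ _ _ _ hne2])
    have hgS : g ∈ Cfsg.stabilizing (Cfsg.glToMat ι F) S ⊓ Cfsg.Geo.omegaGL ⇑Q := by
      refine ⟨hmaps g fun i j => ?_, hg⟩
      rw [hgx, ha, hb, hd]
      obtain ⟨i', j', h | h⟩ := hswap _ _ _ _ hne2 i j <;> rw [h]
      · exact hswap _ _ _ _ hne1 i' j'
      · rw [map_neg]
        obtain ⟨i'', j'', h' | h'⟩ := hswap _ _ _ _ hne1 i' j' <;> refine ⟨i'', j'', ?_⟩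
        · exact Or.inr (by rw [h'])
        · exact Or.inl (by rw [h', neg_neg])
    rw [← heq] at hgS
    obtain ⟨σ, hσ⟩ := hgS.1
    have hga : (g : Matrix ι ι F) *ᵥ a = b := by
      rw [hgx, refl_fix (v := b - d) (x := a), refl_sub_apply (by rw [ha, hb, hval, hval])
        (by rw [ha, hb, hQd _ _ _ _ hne1]; exact h2c)]
      rw [ha, hb, hd, polar_sub_left, hpol, hpol, if_neg (fun e => hi e.1.symm),
        if_neg (fun e => hj e.2.symm), sub_zero]
    have hgd : (g : Matrix ι ι F) *ᵥ d = a := by
      rw [hgx, ← refl_smul (neg_ne_zero.2 one_ne_zero) (b - d), neg_one_smul, neg_sub,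
        refl_sub_apply (x := b) (y := d) (by rw [hb, hd, hval, hval])
          (by rw [hb, hd, hQd _ _ _ _ (Ne.symm hne2)]; exact h2c),
        ← refl_smul (neg_ne_zero.2 one_ne_zero) (a - b), neg_one_smul, neg_sub,
        refl_sub_apply (x := a) (y := b) (by rw [ha, hb, hval, hval])
          (by rw [ha, hb, hQd _ _ _ _ (Ne.symm hne1)]; exact h2c)]
    have hb' : b ∈ D (σ i₀) := by rw [← hσ]; exact ⟨a, ha ▸ hx _ _, by rw [Matrix.toLin'_apply, hga]⟩
    have ha' : a ∈ D (σ i₀) := by rw [← hσ]; exact ⟨d, hd ▸ hx _ _, by rw [Matrix.toLin'_apply, hgd]⟩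
    have huniq : ∀ i j l, x i j ∈ D l → l = i := fun i j l hl => by
      by_contra h
      have := horth i l (Ne.symm h) _ (hx i j) _ hl
      rw [polar_self_two, hval] at this
      exact h2c this
    exact hi ((huniq _ _ _ (ha ▸ ha')).symm.trans (huniq _ _ _ (hb ▸ hb')))
  · intro heq
    obtain ⟨a, ha⟩ : ∃ a, a = x i₀ j₀ := ⟨_, rfl⟩
    obtain ⟨u, hu⟩ : ∃ u, u = x i₀ j₀ + x i₀ j₁ + x i₁ j₀ + x i₁ j₁ := ⟨_, rfl⟩
    have hQu : Q u = c := by
      rw [hu]
      simp only [map_two, polar_add_left, hval, hpol, hi, hi.symm, hj, hj.symm, false_and, and_false,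
        if_false, add_zero]
      have h3 : (3 : F) = 0 := by
        have := FiniteField.cast_card_eq_zero F
        rw [hq] at this
        exact_mod_cast this
      linear_combination c * h3
    obtain ⟨g, hg, hgx⟩ := exists_refl_pair (Q := Q) hQ (u := u) (w := a) (by rw [hQu]; exact hc)
      (by rw [ha, hval, hQu])
    rw [← heq] at hg
    obtain ⟨i, j, hw⟩ := (hg.1 a).1 (ha ▸ hxS i₀ j₀)
    have hpu : polar Q u a = 2 * c := by
      rw [hu, ha]
      simp only [polar_add_left, hpol, hi, hi.symm, hj, hj.symm, and_self, false_and, and_false, if_true,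
        if_false, add_zero]
    have hga : (g : Matrix ι ι F) *ᵥ a = -a + (2 : F) • u := by
      rw [hgx, refl_self (by rw [ha, hval]; exact hc), refl_apply, polar_neg_right, hpu, hQu,
        show c⁻¹ * -(2 * c) = -2 by field_simp]
      rw [neg_smul, sub_neg_eq_add]
    change (g : Matrix ι ι F) *ᵥ a = x i j ∨ (g : Matrix ι ι F) *ᵥ a = -x i j at hw
    rw [hga] at hw
    have htest : ∀ i' j', (i' ≠ i₀ ∨ j' ≠ j₀) → (i' = i₀ ∨ i' = i₁) → (j' = j₀ ∨ j' = j₁) →
        i = i' ∧ j = j' := by
      intro i' j' hne' hi' hj'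
      have hl : polar Q (-a + (2 : F) • u) (x i' j') = 2 * (2 * c) := by
        rw [polar_add_left, polar_neg_left, polar_smul_left, hu, ha]
        simp only [polar_add_left, hpol, smul_eq_mul]
        rcases hi' with rfl | rfl <;> rcases hj' with rfl | rfl <;>
          simp [hi, hi.symm, hj, hj.symm] at hne' ⊢
      by_contra h
      rcases hw with hw | hw <;> rw [hw] at hl
      · rw [hpol, if_neg h] at hl; exact mul_ne_zero h2 h2c hl.symm
      · rw [polar_neg_left, hpol, if_neg h, neg_zero] at hl; exact mul_ne_zero h2 h2c hl.symm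
    have h1 := htest i₁ j₀ (Or.inl hi.symm) (Or.inr rfl) (Or.inl rfl)
    have h3 := htest i₁ j₁ (Or.inl hi.symm) (Or.inr rfl) (Or.inr rfl)
    exact hj (h1.2.symm.trans h3.2)

/-- A frame in the first block gives frames in all blocks. -/
theorem frame_transport {t k : ℕ} {D : Fin t → Submodule F (ι → F)}
    (hiso : ∀ i j, Cfsg.Geo.AreIsometricFor ⇑Q (D i) (D j)) (i₀ : Fin t) {c : F} (y : Fin k → ι → F)
    (hy : ∀ j, y j ∈ D i₀) (hval : ∀ j, Q (y j) = c) (hperp : ∀ j l, j ≠ l → polar Q (y j) (y l) = 0) :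
    ∃ x : Fin t → Fin k → ι → F, (∀ i j, x i j ∈ D i) ∧ (∀ i j, Q (x i j) = c) ∧
      ∀ i j l, j ≠ l → polar Q (x i j) (x i l) = 0 := by
  choose e he using fun i => hiso i₀ i
  refine ⟨fun i j => (e i ⟨y j, hy j⟩ : ι → F), fun i j => (e i _).2, fun i j => (he i _).trans (hval j),
    fun i j l h => ?_⟩
  have := hperp j l h
  rw [polar] at this ⊢
  rw [← Submodule.coe_add, ← map_add, he, he, he]
  exact this

/-- An anisotropic plane over three elements has two orthogonal vectors of value one. -/
theorem plane_frame [Fintype F] (hq : Fintype.card F = 3) {W : Submodule F (ι → F)} (hdim : finrank F W = 2)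
    (hW : Cfsg.Geo.IsNondegenerateOn (QuadraticMap.polar ⇑Q) W)
    (hminus : ¬ Cfsg.Geo.IsPlusTypeOn ⇑Q W) :
    ∃ y : Fin 2 → ι → F, (∀ j, y j ∈ W) ∧ (∀ j, Q (y j) = 1) ∧ ∀ j l, j ≠ l → polar Q (y j) (y l) = 0 := by
  have hR : PND (Q.comp W.subtype) := fun v hv => by
    by_contra h0
    obtain ⟨z, hz, hne⟩ := (hW v v.2 fun h => h0 (Subtype.ext h)).2
    exact hne (hv ⟨z, hz⟩)
  have hnz : ∀ v ∈ W, Q v = 0 → v = 0 := fun v hv h => by
    by_contra h0
    exact hminus ⟨Submodule.span F {v}, (Submodule.span_singleton_le_iff_mem v W).2 hv,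
      fun w hw => by
        obtain ⟨s, rfl⟩ := Submodule.mem_span_singleton.1 hw
        rw [QuadraticMap.map_smul, h, smul_zero],
      by rw [finrank_span_singleton h0, hdim]⟩
  obtain ⟨a, ha⟩ := exists_value (two_ne_zero' hq) hR (by omega) 1
  change Q (a : ι → F) = 1 at ha
  obtain ⟨b, hb, hb0⟩ := (Submodule.ne_bot_iff
    (LinearMap.ker (((Q.comp W.subtype).polarBilin) a))).1 (fun h => by
      have h4 := LinearMap.finrank_range_add_finrank_ker (((Q.comp W.subtype).polarBilin) a)
      have h5 := Submodule.finrank_le (LinearMap.range (((Q.comp W.subtype).polarBilin) a))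
      rw [h, finrank_bot, hdim] at h4
      rw [finrank_self] at h5
      omega)
  have hab : polar Q (a : ι → F) b = 0 := by
    rw [LinearMap.mem_ker] at hb
    exact hb
  have hb0' : (b : ι → F) ≠ 0 := fun h => hb0 (Subtype.ext h)
  have hQb : Q (b : ι → F) = 1 := (eq_one_or_neg hq fun h => hb0' (hnz _ b.2 h)).resolve_right fun h => by
    have h1 := hnz _ (W.add_mem a.2 b.2) (by rw [map_two, ha, h, hab]; ring)
    have h2 := congrArg (polar Q (a : ι → F)) h1
    rw [polar_add_right, polar_self_two, ha, hab, polar_zero_right] at h2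
    exact two_ne_zero' hq (by linear_combination h2)
  refine ⟨![(a : ι → F), b], fun j => ?_, fun j => ?_, fun j l h => ?_⟩
  · fin_cases j
    exacts [a.2, b.2]
  · fin_cases j
    exacts [ha, hQb]
  · fin_cases j <;> fin_cases l
    exacts [absurd rfl h, hab, (polar_comm Q _ _).trans hab, absurd rfl h]

/-- A three dimensional space over three elements has three orthogonal vectors of equal value. -/
theorem space_frame [Fintype F] (hq : Fintype.card F = 3) {W : Submodule F (ι → F)} (hdim : finrank F W = 3)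
    (hW : Cfsg.Geo.IsNondegenerateOn (QuadraticMap.polar ⇑Q) W) :
    ∃ (c : F) (y : Fin 3 → ι → F), c ≠ 0 ∧ (∀ j, y j ∈ W) ∧ (∀ j, Q (y j) = c) ∧
      ∀ j l, j ≠ l → polar Q (y j) (y l) = 0 := by
  have h2 := two_ne_zero' hq
  have hR : PND (Q.comp W.subtype) := fun v hv => by
    by_contra h0
    obtain ⟨z, hz, hne⟩ := (hW v v.2 fun h => h0 (Subtype.ext h)).2
    exact hne (hv ⟨z, hz⟩)
  obtain ⟨R, hRdef⟩ : ∃ R, R = Q.comp W.subtype := ⟨_, rfl⟩
  rw [← hRdef] at hR
  obtain ⟨a, ha⟩ := exists_value h2 hR (by omega) 1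
  have hself : ∀ v, polar R v v = 2 * R v := fun v => polar_self_two v
  -- the complement of `a`
  obtain ⟨P, hP⟩ : ∃ P, P = LinearMap.ker (R.polarBilin a) := ⟨_, rfl⟩
  have hPdim : 2 ≤ finrank F P := by
    have h4 := LinearMap.finrank_range_add_finrank_ker (R.polarBilin a)
    have h5 := Submodule.finrank_le (LinearMap.range (R.polarBilin a))
    rw [finrank_self] at h5
    rw [hP]
    omega
  have hmemP : ∀ {v}, v ∈ P ↔ polar R a v = 0 := fun {v} => by rw [hP, LinearMap.mem_ker]; rfl
  obtain ⟨RP, hRP⟩ : ∃ RP : QuadraticForm F P, RP = QuadraticMap.comp R (Submodule.subtype P) := ⟨_, rfl⟩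
  have hPnd : PND (V := ↥P) RP := by
    intro v hv
    have h0 : (v : W) = 0 := hR _ fun w => by
      have hw : w - (polar R a w * (2 * R a)⁻¹) • a ∈ P := by
        rw [hmemP, polar_sub_right, polar_smul_right, hself, ha, smul_eq_mul, mul_assoc,
          inv_mul_cancel₀ (by simpa using h2), mul_one, sub_self]
      have h1 : polar R (v : W) (w - (polar R a w * (2 * R a)⁻¹) • a) = 0 := by
        have := hv ⟨_, hw⟩
        rw [hRP] at this
        exact this
      rwa [polar_sub_right, polar_smul_right, polar_comm R (v : W) a, hmemP.1 v.2, smul_zero, sub_zero] at h1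
    exact Subtype.ext h0
  obtain ⟨b, hb⟩ := exists_value h2 hPnd hPdim 1
  rw [hRP] at hb
  change R (b : W) = 1 at hb
  have hab : polar R a b = 0 := hmemP.1 b.2
  obtain ⟨d, hd, hd0⟩ := (Submodule.ne_bot_iff
    (LinearMap.ker (R.polarBilin a) ⊓ LinearMap.ker (R.polarBilin (b : W)))).1 (fun h => by
      have h1 := Submodule.finrank_sup_add_finrank_inf_eq (LinearMap.ker (R.polarBilin a))
        (LinearMap.ker (R.polarBilin (b : W)))
      have h3 := Submodule.finrank_le (LinearMap.ker (R.polarBilin a) ⊔ LinearMap.ker (R.polarBilin (b : W)))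
      have h4 := LinearMap.finrank_range_add_finrank_ker (R.polarBilin a)
      have h5 := LinearMap.finrank_range_add_finrank_ker (R.polarBilin (b : W))
      have h6 := Submodule.finrank_le (LinearMap.range (R.polarBilin a))
      have h7 := Submodule.finrank_le (LinearMap.range (R.polarBilin (b : W)))
      rw [h, finrank_bot] at h1
      rw [finrank_self] at h6 h7
      omega)
  have had : polar R a d = 0 := hd.1
  have hbd : polar R (b : W) d = 0 := hd.2
  have hQd : R d ≠ 0 := fun h => hd0 (hR d fun w => by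
    have hsplit : polar R d (w - (polar R a w * (2 : F)⁻¹) • a - (polar R (b : W) w * (2 : F)⁻¹) • (b : W)) =
        polar R d w := by
      rw [polar_sub_right, polar_sub_right, polar_smul_right, polar_smul_right, polar_comm R d a, had,
        polar_comm R d (b : W), hbd]; simp
    rw [← hsplit]
    have hmem : ∀ z, polar R a z = 0 → polar R (b : W) z = 0 → polar R d z = 0 := by
      intro z hza hzb
      have hind : LinearIndependent F ![a, (b : W)] := by
        refine LinearIndependent.pair_iff.2 fun s t hst => ?_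
        have e1 := congrArg (polar R a) hst
        have e2 := congrArg (polar R (b : W)) hst
        simp only [polar_add_right, polar_smul_right, hself, ha, hb, hab, polar_comm R (b : W) a,
          polar_zero_right, smul_eq_mul, mul_one, mul_zero, add_zero, zero_add] at e1 e2
        exact ⟨(mul_eq_zero.1 e1).resolve_right h2, (mul_eq_zero.1 e2).resolve_right h2⟩
      have hnd : d ∉ Submodule.span F (Set.range ![a, (b : W)]) := by
        intro hmem
        rw [Submodule.mem_span_range_iff_exists_fun] at hmem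
        obtain ⟨s, hs⟩ := hmem
        rw [Fin.sum_univ_two] at hs
        simp only [Matrix.cons_val_zero, Matrix.cons_val_one] at hs
        have e1 := congrArg (polar R a) hs
        have e2 := congrArg (polar R (b : W)) hs
        simp only [polar_add_right, polar_smul_right, hself, ha, hb, hab, polar_comm R (b : W) a,
          had, hbd, smul_eq_mul, mul_one, mul_zero, add_zero, zero_add] at e1 e2
        exact hd0 (by rw [← hs, (mul_eq_zero.1 e1).resolve_right h2, (mul_eq_zero.1 e2).resolve_right h2]; simp)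
      have hind3 := linearIndependent_fin_cons.2 ⟨hind, hnd⟩
      have htop := hind3.span_eq_top_of_card_eq_finrank (by rw [Fintype.card_fin, hdim])
      have hz : z ∈ Submodule.span F (Set.range (Fin.cons d ![a, (b : W)])) := htop ▸ Submodule.mem_top
      rw [Submodule.mem_span_range_iff_exists_fun] at hz
      obtain ⟨s, rfl⟩ := hz
      rw [Fin.sum_univ_three] at hza hzb ⊢
      simp only [Fin.cons_zero, Fin.cons_one, Matrix.cons_val_zero, polar_add_right, polar_smul_right,
        smul_eq_mul, hself, ha, hb, hab, polar_comm R (b : W) a, polar_comm R d a, polar_comm R d (b : W),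
        had, hbd, h, mul_zero, add_zero, zero_add, mul_one] at hza hzb ⊢
      simp_all
    refine hmem _ ?_ ?_
    · rw [polar_sub_right, polar_sub_right, polar_smul_right, polar_smul_right, hself, ha, hab]
      simp [smul_eq_mul, mul_assoc, inv_mul_cancel₀ h2]
    · rw [polar_sub_right, polar_sub_right, polar_smul_right, polar_smul_right, hself, hb,
        polar_comm R (b : W) a, hab]
      simp [smul_eq_mul, mul_assoc, inv_mul_cancel₀ h2])
  have hcoe : ∀ u v : W, polar R u v = polar Q (u : ι → F) v := fun u v => by rw [hRdef]; rfl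
  have hval : ∀ u : W, Q (u : ι → F) = R u := fun u => by rw [hRdef]; rfl
  rcases eq_one_or_neg hq hQd with h | h
  · refine ⟨1, ![(a : ι → F), ((b : W) : ι → F), d], one_ne_zero, fun j => ?_, fun j => ?_, fun j l hjl => ?_⟩
    · fin_cases j
      exacts [a.2, (b : W).2, d.2]
    · fin_cases j
      exacts [(hval _).trans ha, (hval _).trans hb, (hval _).trans h]
    · fin_cases j <;> fin_cases l <;> first
        | exact absurd rfl hjl
        | exact (hcoe _ _).symm.trans hab
        | exact (hcoe _ _).symm.trans had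
        | exact (hcoe _ _).symm.trans hbd
        | exact (hcoe _ _).symm.trans ((polar_comm R _ _).trans hab)
        | exact (hcoe _ _).symm.trans ((polar_comm R _ _).trans had)
        | exact (hcoe _ _).symm.trans ((polar_comm R _ _).trans hbd)
  · have h3 : (3 : F) = 0 := by
      have := FiniteField.cast_card_eq_zero F
      rw [hq] at this
      exact_mod_cast this
    refine ⟨-1, ![((a + b : W) : ι → F), ((a - b : W) : ι → F), d], neg_ne_zero.2 one_ne_zero, fun j => ?_,
      fun j => ?_, fun j l hjl => ?_⟩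
    · fin_cases j
      exacts [(a + b : W).2, (a - b : W).2, d.2]
    · fin_cases j
      · exact (hval _).trans (by rw [map_two, ha, hb, hab]; linear_combination h3)
      · exact (hval _).trans (by rw [map_sub_two, ha, hb, hab]; linear_combination h3)
      · exact (hval _).trans h
    · have e1 : polar R (a + b : W) (a - b) = 0 := by
        rw [polar_add_left, polar_sub_right, polar_sub_right, hself, hself, ha, hb, polar_comm R (b : W) a, hab]
        ring
      have e2 : polar R (a + b : W) d = 0 := by rw [polar_add_left, had, hbd, add_zero]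
      have e3 : polar R (a - b : W) d = 0 := by rw [polar_sub_left, had, hbd, sub_zero]
      fin_cases j <;> fin_cases l <;> first
        | exact absurd rfl hjl
        | exact (hcoe _ _).symm.trans e1
        | exact (hcoe _ _).symm.trans e2
        | exact (hcoe _ _).symm.trans e3
        | exact (hcoe _ _).symm.trans ((polar_comm R _ _).trans e1)
        | exact (hcoe _ _).symm.trans ((polar_comm R _ _).trans e2)
        | exact (hcoe _ _).symm.trans ((polar_comm R _ _).trans e3)

end Cfsg.Agent.Classical.ONotMax
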