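import Cfsg.Agent.Lib.Small.Forms.Reflection

/-!
# Witt's lemma for Hermitian forms

A pseudo-reflection moves `x` to `y` unless their difference is singular and orthogonal to both;
then an intermediate vector is found with the help of an element of non-zero trace.
-/

set_option autoImplicit false
set_option linter.unusedSectionVars false

namespace Cfsg.Agent.Classical.HermWitt

open Module

variable {F : Type*} [Field F] {V : Type*} [AddCommGroup V] [Module F V] (H : Small.Forms.Herm F V)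

/-- A prescribed trace, by a non-zero element. -/
theorem exists_trace (hσ : H.σ ≠ RingHom.id F) {b : F} (hb : H.σ b = b) :
    ∃ s : F, s ≠ 0 ∧ s + H.σ s + b = 0 := by
  obtain ⟨c, hc⟩ : ∃ c : F, c + H.σ c ≠ 0 := by
    by_contra h
    push Not at h
    refine hσ (RingHom.ext fun c => ?_)
    have h1 := h 1
    rw [map_one] at h1
    change H.σ c = c
    linear_combination h c - c * h1
  by_cases hb0 : b = 0
  · obtain ⟨d, hd⟩ : ∃ d : F, d - H.σ d ≠ 0 := by
      by_contra h
      push Not at h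
      exact hσ (RingHom.ext fun d => (sub_eq_zero.mp (h d)).symm)
    exact ⟨d - H.σ d, hd, by rw [map_sub, H.invol, hb0]; ring⟩
  · have hc0 : c ≠ 0 := fun e => hc (by rw [e, map_zero, add_zero])
    refine ⟨-b * c / (c + H.σ c), div_ne_zero (mul_ne_zero (neg_ne_zero.mpr hb0) hc0) hc, ?_⟩
    rw [map_div₀, map_mul, map_neg, map_add, H.invol, hb, add_comm (H.σ c) c]
    field_simp
    ring

theorem avoid_two {p q : V → F} (hp : ∀ a b, p (a + b) = p a + p b) (hq : ∀ a b, q (a + b) = q a + q b)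
    {P : Submodule F V} {a b : V} (ha : a ∈ P) (hb : b ∈ P) (hpa : p a ≠ 0) (hqb : q b ≠ 0) :
    ∃ v ∈ P, p v ≠ 0 ∧ q v ≠ 0 := by
  by_cases h1 : q a = 0
  · by_cases h2 : p b = 0
    · exact ⟨a + b, P.add_mem ha hb, by rw [hp, h2, add_zero]; exact hpa, by rw [hq, h1, zero_add]; exact hqb⟩
    · exact ⟨b, hb, h2, hqb⟩
  · exact ⟨a, ha, hpa, h1⟩

theorem exists_orth [FiniteDimensional F V] {W : Submodule F V} {x : V} (hx : x ∉ W) :
    ∃ v, (∀ h ∈ W, H.B h v = 0) ∧ H.B x v ≠ 0 := by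
  by_contra hc
  push Not at hc
  let L : V → Module.Dual F V := fun u =>
    { toFun := H.B u, map_add' := H.add_right u, map_smul' := fun c v => H.smul_right c u v }
  have hLadd : ∀ u u', L (u + u') = L u + L u' := fun u u' => LinearMap.ext (H.add_left u u')
  have hLsmul : ∀ (c : F) u, L (c • u) = H.σ c • L u := fun c u => LinearMap.ext (H.smul_left c u)
  obtain ⟨S, hS⟩ : ∃ S : Submodule F (Module.Dual F V), (S : Set (Module.Dual F V)) = L '' W :=
    ⟨{ carrier := L '' W
       add_mem' := by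
         rintro _ _ ⟨u, hu, rfl⟩ ⟨u', hu', rfl⟩
         exact ⟨u + u', W.add_mem hu hu', hLadd u u'⟩
       zero_mem' := ⟨0, W.zero_mem, LinearMap.ext fun v => H.zero_left v⟩
       smul_mem' := by
         rintro c _ ⟨u, hu, rfl⟩
         exact ⟨H.σ c • u, W.smul_mem _ hu, by rw [hLsmul, H.invol]⟩ }, rfl⟩
  have h1 : L x ∈ S.dualCoannihilator.dualAnnihilator := by
    rw [Submodule.mem_dualAnnihilator]
    intro v hv
    rw [Submodule.mem_dualCoannihilator] at hv
    exact hc v fun h hh => hv (L h) (show L h ∈ (S : Set (Module.Dual F V)) from hS ▸ ⟨h, hh, rfl⟩)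
  rw [Subspace.dualCoannihilator_dualAnnihilator_eq, ← SetLike.mem_coe, hS] at h1
  obtain ⟨h, hh, he⟩ := h1
  refine hx ?_
  by_contra _hcon
  have hd : h = x := by
    by_contra hne
    obtain ⟨v, hv⟩ := H.nondeg (h - x) (sub_ne_zero.mpr hne)
    exact hv (by rw [H.sub_left, sub_eq_zero]; exact LinearMap.congr_fun he v)
  exact hx (hd ▸ hh)

theorem exists_move [FiniteDimensional F V] (hσ : H.σ ≠ RingHom.id F) {W : Submodule F V} {x y : V}
    (hx : x ∉ W) (hy : y ∉ W) (hxy : H.B y y = H.B x x) (hW : ∀ h ∈ W, H.B y h = H.B x h) :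
    ∃ g ∈ H.Iso, (∀ h ∈ W, g h = h) ∧ g x = y := by
  by_cases hne : H.B (y - x) x ≠ 0
  · obtain ⟨g, hg, hgx, hfix⟩ := H.exists_move hxy hne
    exact ⟨g, hg, fun h hh => hfix h (by rw [H.sub_left, hW h hh, sub_self]), hgx⟩
  push Not at hne
  obtain ⟨a, ha, hxa⟩ := exists_orth H hx
  obtain ⟨b, hb, hyb⟩ := exists_orth H hy
  let P : Submodule F V :=
    { carrier := {v | ∀ h ∈ W, H.B h v = 0}
      add_mem' := fun {u v} hu hv h hh => by rw [H.add_right, hu h hh, hv h hh, add_zero]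
      zero_mem' := fun h _ => H.zero_right h
      smul_mem' := fun c v hv h hh => by rw [H.smul_right, hv h hh, mul_zero] }
  obtain ⟨v₀, hv₀, hxv, hyv⟩ := avoid_two (p := H.B x) (q := H.B y) (H.add_right x) (H.add_right y)
    (P := P) (a := a) (b := b) ha hb hxa hyb
  obtain ⟨s, hs0, hs⟩ := exists_trace H hσ (b := H.B v₀ v₀) (H.symm v₀ v₀)
  obtain ⟨t, ht⟩ : ∃ t, t = H.σ (H.B x v₀ / s) := ⟨_, rfl⟩
  have ht0 : t ≠ 0 := ht ▸ (map_ne_zero H.σ).mpr (div_ne_zero hxv hs0)
  have hvx : H.B v₀ x = H.σ (H.B x v₀) := (H.symm x v₀).symm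
  obtain ⟨z, hz⟩ : ∃ z, z = x + t • v₀ := ⟨_, rfl⟩
  have hzz : H.B z z = H.B x x := by
    rw [hz, H.add_left, H.add_right, H.add_right, H.smul_left, H.smul_left, H.smul_right, H.smul_right, hvx]
    have e1 : s * H.σ t = H.B x v₀ := by rw [ht, H.invol, mul_div_cancel₀ _ hs0]
    have e2 : H.σ s * t = H.σ (H.B x v₀) := by rw [← e1, map_mul, H.invol]
    linear_combination (H.σ t * t) * hs - t * e1 - H.σ t * e2
  have hzW : ∀ h ∈ W, H.B z h = H.B x h := fun h hh => by
    rw [hz, H.add_left, H.smul_left, show H.B v₀ h = 0 by rw [← H.symm, hv₀ h hh, map_zero], mul_zero, add_zero]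
  have h1 : H.B (z - x) x ≠ 0 := by
    rw [hz, add_sub_cancel_left, H.smul_left, hvx]
    exact mul_ne_zero ((map_ne_zero H.σ).mpr ht0) ((map_ne_zero H.σ).mpr hxv)
  have h2 : H.B (y - z) z ≠ 0 := by
    rw [H.sub_left, hzz, hz, H.add_right, H.smul_right]
    rw [H.sub_left, sub_eq_zero] at hne
    rw [hne, add_sub_cancel_left]
    exact mul_ne_zero ht0 hyv
  obtain ⟨g, hg, hgx, hfix⟩ := H.exists_move hzz h1
  obtain ⟨g', hg', hgz, hfix'⟩ := H.exists_move (p := z) (p' := y) (hxy.trans hzz.symm) h2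
  refine ⟨g' * g, mul_mem hg' hg, fun h hh => ?_, ?_⟩
  · rw [LinearEquiv.mul_apply, hfix h (by rw [H.sub_left, hzW h hh, sub_self]),
      hfix' h (by rw [H.sub_left, hzW h hh, hW h hh, sub_self])]
  · rw [LinearEquiv.mul_apply, hgx, hgz]

/-- Witt's lemma. -/
theorem witt [FiniteDimensional F V] (hσ : H.σ ≠ RingHom.id F) (X : Submodule F V) (f : X →ₗ[F] V)
    (hinj : Function.Injective f) (hf : ∀ x x' : X, H.B (f x) (f x') = H.B x x') :
    ∃ g ∈ H.Iso, ∀ x : X, g x = f x := by
  suffices Hd : ∀ d, ∀ X : Submodule F V, finrank F X = d → ∀ f : X →ₗ[F] V, Function.Injective f →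
      (∀ x x' : X, H.B (f x) (f x') = H.B x x') → ∃ g ∈ H.Iso, ∀ x : X, g x = f x from Hd _ X rfl f hinj hf
  intro d
  induction d with
  | zero =>
    intro X hX f _ _
    refine ⟨1, one_mem _, fun x => ?_⟩
    have : (x : V) = 0 := (Submodule.mem_bot F).mp (Submodule.finrank_eq_zero.mp hX ▸ x.2)
    rw [show x = 0 from Subtype.ext this, map_zero]; rfl
  | succ d ih =>
    intro X hX f hinj hf
    obtain ⟨W, hW⟩ : ∃ W : Submodule F X, finrank F W = d := by
      obtain ⟨s, hs⟩ := exists_linearIndependent_of_le_finrank (R := F) (M := X) (n := d) (by omega)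
      exact ⟨Submodule.span F (Set.range s), by rw [finrank_span_eq_card hs, Fintype.card_fin]⟩
    obtain ⟨x, hx⟩ : ∃ x : X, x ∉ W := by
      by_contra hc
      push Not at hc
      rw [Submodule.eq_top_iff'.mpr hc, finrank_top] at hW
      omega
    obtain ⟨g₀, hg₀, hg₀'⟩ := ih (W.map X.subtype)
      (by rw [← hW]; exact (Submodule.equivMapOfInjective X.subtype X.injective_subtype W).finrank_eq.symm)
      (f ∘ₗ Submodule.inclusion (Submodule.map_subtype_le X W))
      (hinj.comp (Submodule.inclusion_injective _)) (fun z z' => hf _ _)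
    have hfix : ∀ h ∈ W, g₀ (h : V) = f h := fun h hh => hg₀' ⟨h, h, hh, rfl⟩
    have hxH : (x : V) ∉ W.map X.subtype := by
      rintro ⟨z, hz, e⟩
      exact hx (Subtype.ext e ▸ hz)
    have hyH : g₀.symm (f x) ∉ W.map X.subtype := by
      rintro ⟨z, hz, e⟩
      have : f x = f z := by
        rw [← hfix z hz, show ((z : X) : V) = g₀.symm (f x) from e, g₀.apply_symm_apply]
      exact hx (hinj this ▸ hz)
    obtain ⟨g₁, hg₁, hg₁H, hg₁x⟩ := exists_move H hσ hxH hyH
      (by rw [show H.B (g₀.symm (f x)) (g₀.symm (f x)) = H.B (f x) (f x) from inv_mem hg₀ _ _, hf]) (by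
      rintro _ ⟨z, hz, rfl⟩
      change H.B (g₀.symm (f x)) (z : V) = H.B (x : V) z
      rw [← hg₀, g₀.apply_symm_apply, hfix z hz, hf])
    refine ⟨g₀ * g₁, mul_mem hg₀ hg₁, fun z => ?_⟩
    have htop : W ⊔ Submodule.span F {x} = ⊤ := by
      apply Submodule.eq_top_of_finrank_eq
      have h1 := Submodule.finrank_lt_finrank_of_lt (lt_of_le_of_ne (le_sup_left (a := W) (b := Submodule.span F {x}))
        fun e => hx (e.symm ▸ Submodule.mem_sup_right (Submodule.mem_span_singleton_self x)))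
      have h2 := Submodule.finrank_le (W ⊔ Submodule.span F {x})
      omega
    obtain ⟨h, hh, u, hu, rfl⟩ := Submodule.mem_sup.mp (htop.symm ▸ Submodule.mem_top : z ∈ W ⊔ Submodule.span F {x})
    obtain ⟨t, rfl⟩ := Submodule.mem_span_singleton.mp hu
    rw [map_add, map_smul, Submodule.coe_add, Submodule.coe_smul, map_add, map_smul, LinearEquiv.mul_apply,
      LinearEquiv.mul_apply, hg₁H (h : V) ⟨h, hh, rfl⟩, hg₁x, g₀.apply_symm_apply, hfix h hh]

end Cfsg.Agent.Classical.HermWitt
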