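import Cfsg.Agent.Lib.Classical.UnitaryCount
import Cfsg.Agent.Lib.Lead.FormsCount

/-!
# The number of totally isotropic planes of a unitary space
-/

set_option autoImplicit false
set_option linter.unusedSectionVars false
set_option linter.style.haveILetI false

namespace Cfsg.Agent.Classical.UPlanes

open Module UCount

variable {F : Type*} [Field F] [Fintype F] {σ : F ≃+* F} {q : ℕ} (hσ : IsUSigma q σ)
include hσ

/-- A non-degenerate Hermitian space has the standard form. -/
theorem exists_std {V : Type*} [AddCommGroup V] [Module F V] [FiniteDimensional F V] {h : V → V → F}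
    (H : IsHermND σ h) {k : ℕ} (hV : finrank F V = k) :
    ∃ e : V ≃ₗ[F] (Fin k → F), ∀ x y, Cfsg.hermForm k F q (e x) (e y) = h x y := by
  haveI : Finite V := Module.finite_of_finite F
  obtain ⟨⟨f, hf⟩⟩ : Nonempty (UFam h k) := by
    by_contra hne
    rw [not_nonempty_iff] at hne
    have h0 := card_fam hσ k H hV
    rw [Nat.card_of_isEmpty, eq_comm, Finset.prod_eq_zero_iff] at h0
    obtain ⟨i, -, hi⟩ := h0
    have h1 := (unitNum_int hσ.two_le (i + 1)).2
    rw [hi, Nat.cast_zero, mul_zero] at h1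
    have h2 : (1 : ℤ) < (q : ℤ) ^ (i + 1) := one_lt_pow₀ (by exact_mod_cast hσ.two_le) (Nat.succ_ne_zero i)
    rw [two_mul (i + 1), pow_add] at h1
    rcases neg_one_pow_eq_or ℤ (i + 1) with e | e <;> rw [e] at h1 <;> nlinarith
  have hli : LinearIndependent F f := Fintype.linearIndependent_iff.mpr fun c hc i => by
    have h0 := congrArg (fun v => h v (f i)) hc
    simp only [H.zero_left, H.sum_left, H.smul_left, hf, mul_ite, mul_one, mul_zero,
      Finset.sum_ite_eq', Finset.mem_univ, if_true] at h0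
    exact h0
  let b := basisOfLinearIndependentOfCardEqFinrank' (b := f) hli (by rw [Fintype.card_fin, hV])
  have hbi : ∀ i, b i = f i := fun i => by simp [b]
  refine ⟨b.equivFun, fun x y => ?_⟩
  conv_rhs => rw [← b.sum_equivFun x, H.sum_left]
  rw [hσ.hermForm_eq]
  refine Finset.sum_congr rfl fun i _ => ?_
  rw [H.smul_left]
  congr 1
  conv_rhs => rw [← b.sum_equivFun y, ← H.symm, H.sum_left, map_sum]
  simp only [H.smul_left, hbi, hf, mul_ite, mul_one, mul_zero, apply_ite σ, map_zero,
    Finset.sum_ite_eq', Finset.mem_univ, if_true]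

theorem hermND (n : ℕ) : IsHermND σ (Cfsg.hermForm n F q) :=
  have hf := hσ.isUnitaryForm (n := n)
  ⟨hf.add_left, hf.smul_left, fun x y => (hf.herm y x).symm, fun v hv => by
    by_contra hne
    obtain ⟨⟨w, hw⟩, -⟩ := hf.nondegenerate v hne
    exact hw (by rw [hf.herm w v, hv w, map_zero])⟩

/-- The isotropic vectors orthogonal to an isotropic one. -/
theorem card_perp_iso {n : ℕ} {u : Fin n → F} (hu : u ≠ 0) (hu0 : Cfsg.hermForm n F q u u = 0) :
    Nat.card {v : Fin n → F // Cfsg.hermForm n F q v u = 0 ∧ Cfsg.hermForm n F q v v = 0} =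
      q ^ 2 * Nat.card {v : Fin (n - 2) → F // Cfsg.hermForm (n - 2) F q v v = 0} := by
  classical
  have H := hermND hσ n
  obtain ⟨y, hy⟩ : ∃ y, Cfsg.hermForm n F q u y ≠ 0 := by
    by_contra hc
    push Not at hc
    exact hu (H.nondeg u hc)
  obtain ⟨x1, hx1⟩ : ∃ x1, Cfsg.hermForm n F q u x1 = 1 :=
    ⟨σ (Cfsg.hermForm n F q u y)⁻¹ • y, by rw [H.smul_right, hσ.involutive, inv_mul_cancel₀ hy]⟩
  have hx1' : Cfsg.hermForm n F q x1 u = 1 := by rw [← H.symm, hx1, map_one]
  let T : (Fin n → F) →ₗ[F] F × F := (H.func u).prod (H.func x1)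
  obtain ⟨R, hR⟩ : ∃ R, R = LinearMap.ker T := ⟨_, rfl⟩
  have hmem : ∀ r, r ∈ R ↔ Cfsg.hermForm n F q r u = 0 ∧ Cfsg.hermForm n F q r x1 = 0 := fun r => by
    rw [hR, LinearMap.mem_ker]
    exact Prod.ext_iff
  have hT : LinearMap.range T = ⊤ := LinearMap.range_eq_top.mpr fun p =>
    ⟨p.1 • x1 + (p.2 - p.1 * Cfsg.hermForm n F q x1 x1) • u, by
      refine Prod.ext ?_ ?_
      · show Cfsg.hermForm n F q _ u = _
        rw [H.add_left, H.smul_left, H.smul_left, hu0, hx1']; ring
      · show Cfsg.hermForm n F q _ x1 = _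
        rw [H.add_left, H.smul_left, H.smul_left, hx1]; ring⟩
  have hdim : finrank F R = n - 2 := by
    have := T.finrank_range_add_finrank_ker
    rw [hT, finrank_top, finrank_prod, finrank_self, ← hR, finrank_fintype_fun_eq_card, Fintype.card_fin] at this
    omega
  have hnd : ∀ r ∈ R, (∀ r' ∈ R, Cfsg.hermForm n F q r r' = 0) → r = 0 := by
    intro r hr hr'
    obtain ⟨h1, h2⟩ := (hmem r).mp hr
    refine H.nondeg r fun z => ?_
    have hz : z - Cfsg.hermForm n F q z u • x1 -
        (Cfsg.hermForm n F q z x1 - Cfsg.hermForm n F q z u * Cfsg.hermForm n F q x1 x1) • u ∈ R := by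
      rw [hmem]
      refine ⟨?_, ?_⟩
      · rw [H.sub_left, H.sub_left, H.smul_left, H.smul_left, hx1', hu0]; ring
      · rw [H.sub_left, H.sub_left, H.smul_left, H.smul_left, hx1]; ring
    have h3 := hr' _ hz
    rw [H.sub_right, H.sub_right, H.smul_right, H.smul_right, h1, h2, mul_zero, mul_zero, sub_zero, sub_zero] at h3
    exact h3
  obtain ⟨e, he⟩ := exists_std hσ (H.res hnd) hdim
  have key : ∀ (c : F) (r : R), Cfsg.hermForm n F q (c • u + (r : Fin n → F)) u = 0 ∧
      Cfsg.hermForm n F q (c • u + (r : Fin n → F)) (c • u + (r : Fin n → F)) = Cfsg.hermForm n F q (r : Fin n → F) r ∧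
      Cfsg.hermForm n F q (c • u + (r : Fin n → F)) x1 = c := by
    intro c r
    obtain ⟨h1, h2⟩ := (hmem _).mp r.2
    have h1' : Cfsg.hermForm n F q u (r : Fin n → F) = 0 := by rw [← H.symm, h1, map_zero]
    refine ⟨?_, ?_, ?_⟩
    · rw [H.add_left, H.smul_left, hu0, h1]; ring
    · rw [H.add_left, H.add_right, H.add_right, H.smul_left, H.smul_left, H.smul_right, H.smul_right, hu0, h1, h1']
      ring
    · rw [H.add_left, H.smul_left, hx1, h2]; ring
  let E : F × {v : Fin (n - 2) → F // Cfsg.hermForm (n - 2) F q v v = 0} ≃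
      {v : Fin n → F // Cfsg.hermForm n F q v u = 0 ∧ Cfsg.hermForm n F q v v = 0} :=
    { toFun := fun p => ⟨p.1 • u + (e.symm p.2.1 : R), (key _ _).1, by
        rw [(key _ _).2.1, ← he, e.apply_symm_apply]; exact p.2.2⟩
      invFun := fun v => (Cfsg.hermForm n F q v.1 x1,
        ⟨e ⟨v.1 - Cfsg.hermForm n F q v.1 x1 • u, by
          rw [hmem]
          exact ⟨by rw [H.sub_left, H.smul_left, hu0, v.2.1]; ring, by rw [H.sub_left, H.smul_left, hx1]; ring⟩⟩, by
          have h1' : Cfsg.hermForm n F q u v.1 = 0 := by rw [← H.symm, v.2.1, map_zero]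
          rw [he]
          show Cfsg.hermForm n F q (v.1 - _ • u) (v.1 - _ • u) = 0
          rw [H.sub_left, H.sub_right, H.sub_right, H.smul_left, H.smul_left, H.smul_right, H.smul_right, v.2.2,
            v.2.1, hu0, h1']
          ring⟩)
      left_inv := fun p => by
        refine Prod.ext (key _ _).2.2 (Subtype.ext ?_)
        show e ⟨_, _⟩ = p.2.1
        rw [← e.eq_symm_apply]
        refine Subtype.ext ?_
        show _ - _ • u = _
        rw [(key _ _).2.2, add_sub_cancel_left]
      right_inv := fun v => Subtype.ext (by simp) }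
  rw [← Nat.card_congr E, Nat.card_prod, Nat.card_eq_fintype_card (α := F), hσ.card]

/-- Ordered bases of totally isotropic planes. -/
theorem card_planes_mul (n : ℕ) :
    Nat.card {W : Submodule F (Fin n → F) // finrank F W = 2 ∧ ∀ u ∈ W, ∀ v ∈ W, Cfsg.hermForm n F q u v = 0} *
        (((q ^ 2) ^ 2 - 1) * ((q ^ 2) ^ 2 - q ^ 2)) =
      (Nat.card {v : Fin n → F // Cfsg.hermForm n F q v v = 0} - 1) *
        (q ^ 2 * (Nat.card {v : Fin (n - 2) → F // Cfsg.hermForm (n - 2) F q v v = 0} - 1)) := by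
  classical
  have H := hermND hσ n
  let P := {s : Fin 2 → (Fin n → F) // LinearIndependent F s ∧ ∀ i j, Cfsg.hermForm n F q (s i) (s j) = 0}
  let Pl := {W : Submodule F (Fin n → F) // finrank F W = 2 ∧ ∀ u ∈ W, ∀ v ∈ W, Cfsg.hermForm n F q u v = 0}
  have e1 : P ≃ Σ W : Pl, {s : Fin 2 → (Fin n → F) // LinearIndependent F s ∧ ∀ i, s i ∈ W.1} :=
    { toFun := fun s => ⟨⟨Submodule.span F (Set.range s.1), (finrank_span_eq_card s.2.1).trans (Fintype.card_fin 2), by
          intro x hx y hy
          obtain ⟨a, rfl⟩ := (Submodule.mem_span_range_iff_exists_fun F).mp hx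
          obtain ⟨b, rfl⟩ := (Submodule.mem_span_range_iff_exists_fun F).mp hy
          simp [Fin.sum_univ_two, H.add_left, H.add_right, H.smul_left, H.smul_right, s.2.2]⟩,
        ⟨s.1, s.2.1, fun i => Submodule.subset_span ⟨i, rfl⟩⟩⟩
      invFun := fun p => ⟨p.2.1, p.2.2.1, fun i j => p.1.2.2 _ (p.2.2.2 i) _ (p.2.2.2 j)⟩
      left_inv := fun s => rfl
      right_inv := fun p => Sigma.subtype_ext (Subtype.ext (Submodule.eq_of_le_of_finrank_eq
          (Submodule.span_le.mpr (by rintro _ ⟨i, rfl⟩; exact p.2.2.2 i))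
          ((finrank_span_eq_card p.2.2.1).trans ((Fintype.card_fin 2).trans p.1.2.1.symm)))) rfl }
  have e2 : P ≃ Σ u : {v : Fin n → F // Cfsg.hermForm n F q v v = 0 ∧ v ≠ 0},
      {v : Fin n → F // (Cfsg.hermForm n F q v u.1 = 0 ∧ Cfsg.hermForm n F q v v = 0) ∧
        v ∉ Submodule.span F {u.1}} :=
    { toFun := fun s => ⟨⟨s.1 0, s.2.2 0 0, s.2.1.ne_zero 0⟩, ⟨s.1 1, ⟨s.2.2 1 0, s.2.2 1 1⟩, fun hm => by
          obtain ⟨a, ha⟩ := Submodule.mem_span_singleton.mp hm
          have := Fintype.linearIndependent_iff.mp s.2.1 ![a, -1] (by simp [Fin.sum_univ_two, ha]) 1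
          simp at this⟩⟩
      invFun := fun p => ⟨![p.1.1, p.2.1], linearIndependent_fin2.mpr ⟨fun h0 => p.2.2.2 (by
          have h0' : p.2.1 = 0 := h0
          rw [h0']; exact Submodule.zero_mem _), fun a ha => by
          have ha' : a • p.2.1 = p.1.1 := ha
          rcases eq_or_ne a 0 with rfl | hne
          · exact p.1.2.2 (by rw [← ha', zero_smul])
          · exact p.2.2.2 (Submodule.mem_span_singleton.mpr ⟨a⁻¹, by
              exact (congrArg (a⁻¹ • ·) ha'.symm).trans (inv_smul_smul₀ hne _)⟩)⟩,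
        fun i j => by
          fin_cases i <;> fin_cases j
          · exact p.1.2.1
          · show Cfsg.hermForm n F q p.1.1 p.2.1 = 0
            rw [← H.symm, p.2.2.1.1, map_zero]
          · exact p.2.2.1.1
          · exact p.2.2.1.2⟩
      left_inv := fun s => Subtype.ext (funext fun i => by fin_cases i <;> rfl)
      right_inv := fun p => rfl }
  have hcount := (Nat.card_congr e1).symm.trans (Nat.card_congr e2)
  rw [Nat.card_sigma, Finset.sum_congr rfl (g := fun _ => ((q ^ 2) ^ 2 - 1) * ((q ^ 2) ^ 2 - q ^ 2)) fun W _ => by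
      rw [Nat.card_congr
        ({ toFun := fun s => ⟨fun i => ⟨s.1 i, s.2.2 i⟩, LinearIndependent.of_comp (Submodule.subtype _) s.2.1⟩
           invFun := fun s => ⟨fun i => s.1 i, s.2.map' _ (Submodule.ker_subtype _), fun i => (s.1 i).2⟩
           left_inv := fun s => rfl
           right_inv := fun s => rfl } :
          {s : Fin 2 → (Fin n → F) // LinearIndependent F s ∧ ∀ i, s i ∈ W.1} ≃
            {s : Fin 2 → W.1 // LinearIndependent F s}),
        card_linearIndependent (by rw [W.2.1]), W.2.1, Fin.prod_univ_two, hσ.card]; simp,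
    Finset.sum_const, Finset.card_univ, smul_eq_mul, ← Nat.card_eq_fintype_card, Nat.card_sigma,
    Finset.sum_congr rfl (g := fun _ =>
      q ^ 2 * (Nat.card {v : Fin (n - 2) → F // Cfsg.hermForm (n - 2) F q v v = 0} - 1)) fun u _ => ?_,
    Finset.sum_const, Finset.card_univ, smul_eq_mul, ← Nat.card_eq_fintype_card] at hcount
  · refine hcount.trans ?_
    congr 1
    rw [Nat.card_eq_fintype_card, Nat.card_eq_fintype_card, Fintype.card_subtype, Fintype.card_subtype]
    rw [← Finset.card_erase_of_mem (a := (0 : Fin n → F)) (by simp [H.zero_left])]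
    exact congrArg Finset.card (by ext v; simp [and_comm])
  · obtain ⟨u, hu0, hu⟩ := u
    have hs : Nat.card ↥(Submodule.span F ({u} : Set (Fin n → F))) = q ^ 2 := by
      rw [natCard_eq_pow_finrank (K := F), finrank_span_singleton hu, pow_one, Nat.card_eq_fintype_card, hσ.card]
    have hin : ∀ v ∈ Submodule.span F ({u} : Set (Fin n → F)),
        Cfsg.hermForm n F q v u = 0 ∧ Cfsg.hermForm n F q v v = 0 := fun v hv => by
      obtain ⟨a, rfl⟩ := Submodule.mem_span_singleton.mp hv
      simp [H.smul_left, H.smul_right, hu0]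
    rw [Nat.mul_sub, mul_one, ← card_perp_iso hσ hu hu0]
    conv_rhs => arg 2; rw [← hs]
    rw [Nat.card_eq_fintype_card, Nat.card_eq_fintype_card, Nat.card_eq_fintype_card, Fintype.card_subtype,
      Fintype.card_subtype, Fintype.card_subtype, ← Finset.card_sdiff_of_subset]
    · exact congrArg Finset.card (by ext v; simp)
    · intro v hv
      simp only [Finset.mem_filter, Finset.mem_univ, true_and] at hv ⊢
      exact hin v hv

end Cfsg.Agent.Classical.UPlanes
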