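import Cfsg.Agent.Lib.Classical.TSFrames
import Cfsg.Agent.Lib.Classical.UnitaryPlanes
import Cfsg.Agent.Lib.Classical.HermWitt

/-!
# Frames of unitary spaces
-/

set_option autoImplicit false
set_option linter.unusedSectionVars false
set_option linter.style.haveILetI false

namespace Cfsg.Agent.Classical.UFrames

open Module StabSplit TSFrames UCount

universe u v

/-- The signed powers `q^(i+1) - (-1)^(i+1)`. -/
def fac (q i : ℕ) : ℕ := if Even i then q ^ (i + 1) + 1 else q ^ (i + 1) - 1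

/-- The order of the unitary group. -/
def guOrd (q n : ℕ) : ℕ := q ^ (n * (n - 1) / 2) * ∏ i ∈ Finset.range n, fac q i

/-- The number of non-zero isotropic vectors. -/
def iso (q n : ℕ) : ℕ := if Even n then (q ^ n - 1) * (q ^ (n - 1) + 1) else (q ^ n + 1) * (q ^ (n - 1) - 1)

/-- The number of frames. -/
def fu (q : ℕ) : ℕ → ℕ → ℕ
  | 0, _ => 1
  | k + 1, n => iso q n * ((q ^ 2) ^ k * fu q k (n - 2))

theorem fu_pos {q : ℕ} (hq : 2 ≤ q) : ∀ k n : ℕ, 2 * k ≤ n → 0 < fu q k n
  | 0, _, _ => Nat.one_pos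
  | k + 1, n, h => by
    refine Nat.mul_pos ?_ (Nat.mul_pos (pow_pos (pow_pos (by omega) _) _) (fu_pos hq k (n - 2) (by omega)))
    rw [iso]
    have h1 : 1 < q ^ n := Nat.one_lt_pow (by omega) (by omega)
    have h2 : 1 < q ^ (n - 1) := Nat.one_lt_pow (by omega) (by omega)
    split_ifs <;> exact Nat.mul_pos (by omega) (by omega)

theorem guOrd_step (q n : ℕ) : guOrd q (n + 2) = guOrd q n * (q ^ (2 * n + 1) * iso q (n + 2)) := by
  rw [guOrd, guOrd, Finset.prod_range_succ, Finset.prod_range_succ, Nat.add_succ_sub_one]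
  have e : (n + 2) * (n + 1) / 2 = n * (n - 1) / 2 + (2 * n + 1) := by
    rcases n with _ | m
    · rfl
    · rw [Nat.add_sub_cancel, show (m + 1 + 2) * (m + 1 + 1) = (m + 1) * m + (2 * (m + 1) + 1) * 2 by ring,
        Nat.add_mul_div_right _ _ (by norm_num)]
  rw [show n + 1 = n.succ from rfl] at e
  have hi : iso q (n + 2) = fac q n * fac q (n + 1) := by
    rw [iso, fac, fac, show n + 2 - 1 = n + 1 by omega]
    by_cases hn : Even n
    · rw [if_pos (hn.add even_two), if_pos hn, if_neg (by simpa [Nat.even_add_one] using hn), mul_comm]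
    · rw [if_neg (fun h => hn (by simpa [Nat.even_add] using h)), if_neg hn,
        if_pos (Nat.even_add_one.mpr hn), mul_comm]
  rw [e, pow_add, hi]
  ring

theorem fu_identity {q : ℕ} : ∀ k n : ℕ, 2 * k ≤ n →
    fu q k n * (q ^ (k * (2 * n - 3 * k)) * guOrd q (n - 2 * k)) = guOrd q n
  | 0, n, _ => by simp [fu]
  | k + 1, n, h => by
    obtain ⟨m, rfl⟩ : ∃ m, n = m + 2 := ⟨n - 2, by omega⟩
    have ih := fu_identity (q := q) k m (by omega)
    rw [fu, Nat.add_sub_cancel, show m + 2 - 2 * (k + 1) = m - 2 * k by omega, guOrd_step, ← ih]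
    have e : (k + 1) * (2 * (m + 2) - 3 * (k + 1)) + 2 * k = k * (2 * m - 3 * k) + (2 * m + 1) := by
      obtain ⟨j, rfl⟩ : ∃ j, m = 2 * k + j := ⟨m - 2 * k, by omega⟩
      rw [show 2 * (2 * k + j + 2) - 3 * (k + 1) = k + 2 * j + 1 by omega,
        show 2 * (2 * k + j) - 3 * k = k + 2 * j by omega]
      ring
    calc iso q (m + 2) * ((q ^ 2) ^ k * fu q k m) *
          (q ^ ((k + 1) * (2 * (m + 2) - 3 * (k + 1))) * guOrd q (m - 2 * k))
        = fu q k m * guOrd q (m - 2 * k) * iso q (m + 2) *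
            (q ^ ((k + 1) * (2 * (m + 2) - 3 * (k + 1))) * q ^ (2 * k)) := by rw [← pow_mul]; ring
      _ = _ := by rw [← pow_add, e, pow_add]; ring

variable {F : Type u} [Field F] [Fintype F] {σ : F ≃+* F} {q : ℕ} (hσ : IsUSigma q σ)
include hσ

omit hσ in
theorem sesq {V : Type v} [AddCommGroup V] [Module F V] {h : V → V → F} (H : IsHermND σ h) :
    Sesq (σ : F →+* F) h :=
  ⟨H.add_left, H.add_right, H.smul_left, H.smul_right, fun x y e => by rw [← H.symm, e, map_zero], H.nondeg⟩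

theorem card_fr : ∀ (k n : ℕ) {V : Type v} [AddCommGroup V] [Module F V] [FiniteDimensional F V]
    {h : V → V → F}, IsHermND σ h → finrank F V = n → Nat.card (Fr F h k) = fu q k n := by
  intro k
  induction k with
  | zero =>
    intro n V _ _ _ h H hV
    haveI : Unique (Fr F h 0) :=
      { default := ⟨fun i => Fin.elim0 i, linearIndependent_empty_type, fun i => Fin.elim0 i⟩
        uniq := fun f => Subtype.ext (funext fun i => Fin.elim0 i) }
    simp [fu]
  | succ k ih =>
    intro n V _ _ _ h H hV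
    haveI := Module.finite_of_finite F (M := V)
    rw [(sesq H).card_fr_succ k (fu q k (n - 2)) fun R hR hS => ?_]
    · obtain ⟨e, he⟩ := UPlanes.exists_std hσ H hV
      have hc : Nat.card {u : V // h u u = 0} = Nat.card {x : Fin n → F // Cfsg.hermForm n F q x x = 0} :=
        Nat.card_congr (e.toEquiv.subtypeEquiv fun u => by rw [← he]; rfl)
      rw [hc, Lead.FormsCount.card_herm_zero hσ.card, Nat.add_sub_cancel, Nat.card_eq_fintype_card, hσ.card, fu, iso]
    · exact ih (n - 2) (H.res (W := R) fun x hx hx' => congrArg Subtype.val (hS.nondeg ⟨x, hx⟩ fun y => hx' y y.2))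
        (by omega)

omit hσ in
/-- The form with the other slot linear. -/
def flip {V : Type v} [AddCommGroup V] [Module F V] {h : V → V → F} (H : IsHermND σ h)
    (hinv : ∀ a, σ (σ a) = a) : Small.Forms.Herm F V where
  σ := (σ : F →+* F)
  B u v := h v u
  add_right u v w := H.add_left v w u
  smul_right c u v := H.smul_left c v u
  symm u v := H.symm v u
  invol := hinv
  nondeg u hu := by
    by_contra hc
    push Not at hc
    exact hu (H.nondeg u fun w => by rw [← H.symm w u, hc w, map_zero])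

theorem sigma_ne : (σ : F →+* F) ≠ RingHom.id F :=
  fun e => hσ.ne_refl (RingEquiv.ext fun x => RingHom.congr_fun e x)

/-- Frames are conjugate. -/
theorem exists_move {V : Type v} [AddCommGroup V] [Module F V] [FiniteDimensional F V] {h : V → V → F}
    (H : IsHermND σ h) {k : ℕ} (s t : Fr F h k) : ∃ g : ↥(isoF h), ∀ i, g.1 (s.1 i) = t.1 i := by
  let φ := (Basis.span s.2.1).equiv (Basis.span t.2.1) (Equiv.refl (Fin k))
  obtain ⟨g, hg, hgφ⟩ := HermWitt.witt (flip H hσ.involutive) (sigma_ne hσ) _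
    ((Submodule.subtype _) ∘ₗ φ.toLinearMap) ((Submodule.injective_subtype _).comp φ.injective)
    fun x x' => ((sesq H).span_zero t.2.2 (φ x').2 (φ x).2).trans ((sesq H).span_zero s.2.2 x'.2 x.2).symm
  refine ⟨⟨g, fun x y => hg y x⟩, fun i => ?_⟩
  have e1 : (φ (Basis.span s.2.1 i) : V) = t.1 i := by
    simp only [φ]
    rw [Basis.equiv_apply, Equiv.refl_apply, Basis.span_apply]
  have e2 := (hgφ (Basis.span s.2.1 i)).trans e1
  rwa [Basis.span_apply] at e2

/-- An element of the stabiliser with prescribed determinant. -/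
theorem exists_det {V : Type v} [AddCommGroup V] [Module F V] [FiniteDimensional F V] {h : V → V → F}
    (H : IsHermND σ h) {W : Submodule F V} (h0 : ∀ u ∈ W, ∀ v ∈ W, h u v = 0) (hW : W ≠ ⊥) {a : F} (ha : a ≠ 0) :
    ∃ g : ↥(isoF h), g ∈ stab h W ∧ LinearMap.det (g.1 : V →ₗ[F] V) = a * (σ a)⁻¹ := by
  haveI := Module.finite_of_finite F (M := V)
  obtain ⟨u, huW, hu⟩ := Submodule.exists_mem_ne_zero_of_ne_bot hW
  obtain ⟨y, hy⟩ : ∃ y, h u y ≠ 0 := by
    by_contra hc
    push Not at hc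
    exact hu (H.nondeg u hc)
  obtain ⟨x1, hx1⟩ : ∃ x1, h u x1 = 1 :=
    ⟨σ (h u y)⁻¹ • y, by rw [H.smul_right, hσ.involutive, inv_mul_cancel₀ hy]⟩
  have hu0 := h0 u huW u huW
  have hx1' : h x1 u = 1 := by rw [← H.symm, hx1, map_one]
  obtain ⟨t, -, ht⟩ := HermWitt.exists_trace (flip H hσ.involutive) (sigma_ne hσ) (b := h x1 x1) (H.fixed x1)
  obtain ⟨f, hf⟩ : ∃ f, f = x1 + t • u := ⟨_, rfl⟩
  have huf : h u f = 1 := by rw [hf, H.add_right, H.smul_right, hx1, hu0]; ring
  have hfu : h f u = 1 := by rw [← H.symm, huf, map_one]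
  have hff : h f f = 0 := by
    have ht' : t + σ t + h x1 x1 = 0 := ht
    rw [hf, H.add_left, H.add_right, H.add_right, H.smul_left, H.smul_left, H.smul_right, H.smul_right, hu0, hx1, hx1']
    linear_combination ht'
  have hσa : σ a ≠ 0 := fun e => ha (σ.injective (by rw [e, map_zero]))
  let D1 : V →ₗ[F] V := LinearMap.transvection ((a - 1) • H.func f) u
  let D2 : V →ₗ[F] V := LinearMap.transvection (((σ a)⁻¹ - 1) • H.func u) f
  have hd1 : ∀ x, D1 x = x + ((a - 1) * h x f) • u := fun x => LinearMap.transvection.apply _ _ _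
  have hd2 : ∀ x, D2 x = x + (((σ a)⁻¹ - 1) * h x u) • f := fun x => LinearMap.transvection.apply _ _ _
  have hDx : ∀ x, (D1 ∘ₗ D2) x = x + (((σ a)⁻¹ - 1) * h x u) • f + ((a - 1) * h x f) • u := fun x => by
    rw [LinearMap.comp_apply, hd1, hd2, H.add_left, H.smul_left, hff, mul_zero, add_zero]
  have hdet : LinearMap.det (D1 ∘ₗ D2) = a * (σ a)⁻¹ := by
    have e1 : (a - 1) * h u f = a - 1 := by rw [huf, mul_one]
    have e2 : ((σ a)⁻¹ - 1) * h f u = (σ a)⁻¹ - 1 := by rw [hfu, mul_one]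
    rw [LinearMap.det_comp, LinearMap.transvection.det, LinearMap.transvection.det]
    simp only [LinearMap.smul_apply, smul_eq_mul]
    change (1 + (a - 1) * h u f) * (1 + ((σ a)⁻¹ - 1) * h f u) = _
    rw [e1, e2]; ring
  let g : V ≃ₗ[F] V := LinearMap.equivOfDetNeZero (D1 ∘ₗ D2) (by rw [hdet]; exact mul_ne_zero ha (inv_ne_zero hσa))
  have hgx : ∀ x, g x = (D1 ∘ₗ D2) x := fun x => rfl
  have hgm : g ∈ isoF h := fun x y => by
    rw [hgx, hgx, hDx, hDx]
    simp only [H.add_left, H.add_right, H.smul_left, H.smul_right, hu0, hff, huf, hfu, map_mul, map_sub, map_one,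
      map_inv₀, hσ.involutive, H.symm]
    field_simp
    ring
  have hmaps : ∀ v ∈ W, g v ∈ W := fun v hv => by
    rw [hgx, hDx, h0 v hv u huW, mul_zero, zero_smul, add_zero]
    exact W.add_mem hv (W.smul_mem _ huW)
  have hmap : W.map g.toLinearMap = W :=
    Submodule.eq_of_le_of_finrank_eq (by rintro _ ⟨v, hv, rfl⟩; exact hmaps v hv) (LinearEquiv.finrank_map_eq g W)
  refine ⟨⟨g, hgm⟩, fun v => ⟨fun hv => hmaps v hv, fun hv => ?_⟩, hdet⟩
  change g v ∈ W at hv
  rw [← hmap] at hv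
  obtain ⟨w, hw, e'⟩ := hv
  exact g.injective e' ▸ hw

end Cfsg.Agent.Classical.UFrames
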