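import Cfsg.Agent.Lib.Classical.OrthCount
import Cfsg.Agent.Lib.Classical.WittIndex

/-!
# Reflections, Siegel transformations, Witt's lemma

Over any field: an isometry `g` with some `Q (g x - x) ≠ 0` is shortened by a reflection, and
otherwise by a Siegel transformation; a Siegel transformation is a product of reflections unless
the field has two elements and the dimension is four.  The same moves prove Witt's lemma.
-/

set_option autoImplicit false
set_option linter.unusedSectionVars false

namespace Cfsg.Agent.Classical.ORefl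

open Module QuadraticMap OCount

variable {F : Type*} [Field F] {V : Type*} [AddCommGroup V] [Module F V] {Q : QuadraticForm F V}

/-- The isometry group of a quadratic form. -/
def Iso (Q : QuadraticForm F V) : Subgroup (V ≃ₗ[F] V) where
  carrier := {g | ∀ x, Q (g x) = Q x}
  one_mem' _ := rfl
  mul_mem' {g h} hg hh x := (hg _).trans (hh x)
  inv_mem' {g} hg x := by
    conv_rhs => rw [← g.apply_symm_apply x, hg]
    rfl

theorem polar_iso {g : V ≃ₗ[F] V} (hg : g ∈ Iso Q) (x y : V) : polar Q (g x) (g y) = polar Q x y := by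
  simp only [polar, ← map_add, hg _]

theorem map_sub_two (x y : V) : Q (x - y) = Q x + Q y - polar Q x y := by
  rw [sub_eq_add_neg, map_two, QuadraticMap.map_neg, polar_neg_right]; ring

theorem nondeg (hQ : PND Q) : (QuadraticMap.polarBilin Q).Nondegenerate :=
  ⟨fun v h => hQ v h, fun v h => hQ v fun w => by rw [polar_comm]; exact h w⟩

theorem polar_self_two (x : V) : polar Q x x = 2 * Q x := by
  rw [QuadraticMap.polar_self, nsmul_eq_mul, Nat.cast_ofNat]

/-- Every linear functional is a polar. -/
theorem exists_polar [FiniteDimensional F V] (hQ : PND Q) (φ : Module.Dual F V) :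
    ∃ v, ∀ x, polar Q v x = φ x :=
  ⟨(LinearMap.BilinForm.toDual (QuadraticMap.polarBilin Q) (nondeg hQ)).symm φ, fun x =>
    (QuadraticMap.polarBilin_apply_apply ..).symm.trans
      (LinearMap.BilinForm.apply_toDual_symm_apply ..)⟩

/-- A vector orthogonal to a subspace with given value at a vector outside it. -/
theorem exists_polar_sep [FiniteDimensional F V] (hQ : PND Q) {H : Submodule F V} {x : V} (hx : x ∉ H)
    (c : F) : ∃ v, (∀ h ∈ H, polar Q v h = 0) ∧ polar Q v x = c := by
  obtain ⟨φ, hφ, hH⟩ := Submodule.exists_dual_map_eq_bot_of_notMem hx inferInstance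
  obtain ⟨v, hv⟩ := exists_polar hQ ((c / φ x) • φ)
  refine ⟨v, fun h hh => ?_, ?_⟩
  · have : φ h ∈ H.map φ := Submodule.mem_map_of_mem hh
    rw [hH, Submodule.mem_bot] at this
    rw [hv, LinearMap.smul_apply, this, smul_zero]
  · rw [hv, LinearMap.smul_apply, smul_eq_mul, div_mul_cancel₀ _ hφ]

/-! ### Reflections -/

variable (Q) in
/-- `x ↦ x - (f(v,x)/Q v) v`, with the identity for singular `v`. -/
noncomputable def refl (v : V) : V ≃ₗ[F] V :=
  LinearEquiv.ofInvolutive
    { toFun := fun x => x - ((Q v)⁻¹ * polar Q v x) • v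
      map_add' := fun x y => by rw [polar_add_right]; module
      map_smul' := fun c x => by rw [polar_smul_right, RingHom.id_apply, smul_eq_mul]; module }
    fun x => by
      change (x - ((Q v)⁻¹ * polar Q v x) • v) -
        ((Q v)⁻¹ * polar Q v (x - ((Q v)⁻¹ * polar Q v x) • v)) • v = x
      rw [polar_sub_right, polar_smul_right, polar_self_two, smul_eq_mul]
      by_cases h : Q v = 0
      · simp [h]
      · have e : (Q v)⁻¹ * (polar Q v x - (Q v)⁻¹ * polar Q v x * (2 * Q v)) =
            -((Q v)⁻¹ * polar Q v x) := by field_simp; ring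
        rw [e]; module

theorem refl_apply (v x : V) : refl Q v x = x - ((Q v)⁻¹ * polar Q v x) • v := rfl

theorem refl_mul_self (v : V) : refl Q v * refl Q v = 1 := by
  ext x
  exact (refl Q v).symm_apply_apply x

theorem refl_inv (v : V) : (refl Q v)⁻¹ = refl Q v := inv_eq_of_mul_eq_one_left (refl_mul_self v)

theorem refl_mem (v : V) : refl Q v ∈ Iso Q := by
  intro x
  rw [refl_apply, map_sub_two, QuadraticMap.map_smul, polar_smul_right, polar_comm Q x v]
  by_cases h : Q v = 0
  · simp [h]
  · simp only [smul_eq_mul]; field_simp; ring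

theorem refl_fix {v x : V} (h : polar Q v x = 0) : refl Q v x = x := by
  rw [refl_apply, h, mul_zero, zero_smul, sub_zero]

theorem refl_self {v : V} (hv : Q v ≠ 0) : refl Q v v = -v := by
  rw [refl_apply, polar_self_two, show (Q v)⁻¹ * (2 * Q v) = 2 by field_simp, two_smul]; abel

theorem refl_smul {t : F} (ht : t ≠ 0) (v : V) : refl Q (t • v) = refl Q v := by
  ext x
  rw [refl_apply, refl_apply, polar_smul_left, QuadraticMap.map_smul, smul_smul]
  congr 2
  simp only [smul_eq_mul]
  by_cases h : Q v = 0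
  · simp [h]
  · field_simp

theorem conj_refl {g : V ≃ₗ[F] V} (hg : g ∈ Iso Q) (v : V) :
    g * refl Q v * g⁻¹ = refl Q (g v) := by
  refine mul_inv_eq_of_eq_mul (LinearEquiv.ext fun x => ?_)
  change g (refl Q v x) = refl Q (g v) (g x)
  rw [refl_apply, refl_apply, map_sub, map_smul, hg, polar_iso hg]

/-- The reflection in the difference moves one vector to another of the same value. -/
theorem refl_sub_apply {x y : V} (hxy : Q y = Q x) (h : Q (y - x) ≠ 0) : refl Q (y - x) y = x := by
  have e : polar Q (y - x) y = Q (y - x) := by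
    rw [polar_sub_left, map_sub_two, polar_self_two, polar_comm Q x y, hxy]; ring
  rw [refl_apply, e, inv_mul_cancel₀ h, one_smul, sub_sub_cancel]

/-! ### Siegel transformations -/

variable (Q) in
/-- The linear map of a Siegel transformation. -/
def siegelMap (e v : V) : V →ₗ[F] V where
  toFun x := x + polar Q e x • v - (polar Q v x + Q v * polar Q e x) • e
  map_add' x y := by simp only [polar_add_right]; module
  map_smul' c x := by simp only [polar_smul_right, RingHom.id_apply, smul_eq_mul]; module

theorem siegelMap_apply (e v x : V) :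
    siegelMap Q e v x = x + polar Q e x • v - (polar Q v x + Q v * polar Q e x) • e := rfl

theorem siegelMap_zero (e x : V) : siegelMap Q e 0 x = x := by
  rw [siegelMap_apply, QuadraticMap.map_zero, polar_zero_left]; simp

theorem siegelMap_add {e : V} (he : Q e = 0) {v w : V} (hv : polar Q e v = 0) (hw : polar Q e w = 0)
    (x : V) : siegelMap Q e v (siegelMap Q e w x) = siegelMap Q e (v + w) x := by
  have hee : polar Q e e = 0 := polar_self_zero he
  have hve : polar Q v e = 0 := by rw [polar_comm, hv]
  simp only [siegelMap_apply, map_two, polar_add_left, polar_add_right, polar_sub_right,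
    polar_smul_right, hee, hv, hw, hve, smul_eq_mul, mul_zero, add_zero, sub_zero]
  module

/-- A Siegel transformation. -/
def siegel {e v : V} (he : Q e = 0) (hv : polar Q e v = 0) : V ≃ₗ[F] V :=
  LinearEquiv.ofLinear (siegelMap Q e v) (siegelMap Q e (-v))
    (LinearMap.ext fun x => by
      rw [LinearMap.comp_apply, siegelMap_add he hv (by rw [polar_neg_right, hv, neg_zero]), add_neg_cancel,
        siegelMap_zero, LinearMap.id_apply])
    (LinearMap.ext fun x => by
      rw [LinearMap.comp_apply, siegelMap_add he (by rw [polar_neg_right, hv, neg_zero]) hv, neg_add_cancel,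
        siegelMap_zero, LinearMap.id_apply])

theorem siegel_apply {e v : V} (he : Q e = 0) (hv : polar Q e v = 0) (x : V) :
    siegel he hv x = x + polar Q e x • v - (polar Q v x + Q v * polar Q e x) • e := rfl

theorem siegel_mem {e v : V} (he : Q e = 0) (hv : polar Q e v = 0) : siegel he hv ∈ Iso Q := by
  intro x
  have hev : polar Q v e = 0 := by rw [polar_comm, hv]
  simp only [siegel_apply, map_sub_two, map_two, QuadraticMap.map_smul, polar_smul_right,
    polar_add_left, polar_smul_left, he, hev, polar_comm Q x e, polar_comm Q x v]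
  simp only [smul_eq_mul]
  ring

theorem siegel_mul {e v w : V} (he : Q e = 0) (hv : polar Q e v = 0) (hw : polar Q e w = 0) :
    siegel he hv * siegel he hw = siegel he (v := v + w) (by rw [polar_add_right, hv, hw, add_zero]) :=
  LinearEquiv.ext fun x => siegelMap_add he hv hw x

theorem conj_siegel {g : V ≃ₗ[F] V} (hg : g ∈ Iso Q) {e v : V} (he : Q e = 0) (hv : polar Q e v = 0) :
    g * siegel he hv * g⁻¹ = siegel (e := g e) (v := g v) ((hg e).trans he) ((polar_iso hg e v).trans hv) := by
  refine mul_inv_eq_of_eq_mul (LinearEquiv.ext fun x => ?_)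
  change g (siegel he hv x) = siegelMap Q (g e) (g v) (g x)
  rw [siegel_apply, siegelMap_apply, map_sub, map_add, map_smul, map_smul, polar_iso hg, polar_iso hg, hg]

/-- With `Q v ≠ 0`, a Siegel transformation is a product of two reflections of equal value. -/
theorem siegel_eq_refl {e v : V} (he : Q e = 0) (hv : polar Q e v = 0) (hQv : Q v ≠ 0) :
    siegel he hv = refl Q (v - Q v • e) * refl Q v ∧ Q (v - Q v • e) = Q v := by
  have hev : polar Q v e = 0 := by rw [polar_comm, hv]
  have hQ' : Q (v - Q v • e) = Q v := by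
    rw [map_sub_two, QuadraticMap.map_smul, polar_smul_right, he, hev]; simp
  refine ⟨LinearEquiv.ext fun x => ?_, hQ'⟩
  rw [LinearEquiv.mul_apply, siegel_apply, refl_apply, refl_apply, hQ']
  simp only [polar_sub_left, polar_sub_right, polar_smul_left, polar_smul_right, polar_self_two, hv,
    smul_eq_mul, mul_zero, sub_zero]
  match_scalars <;> field_simp <;> ring

theorem mem_of_refl_siegel [FiniteDimensional F V] (hQ : PND Q) (S : Subgroup (V ≃ₗ[F] V))
    (hr : ∀ v, Q v ≠ 0 → refl Q v ∈ S)
    (hs : ∀ (e v : V) (he : Q e = 0) (hv : polar Q e v = 0), Q v = 0 → siegel he hv ∈ S) :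
    ∀ g ∈ Iso Q, g ∈ S := by
  suffices H : ∀ d, ∀ g ∈ Iso Q,
      finrank F V - finrank F (LinearMap.ker ((g : V →ₗ[F] V) - 1)) = d → g ∈ S from
    fun g hg => H _ g hg rfl
  intro d
  induction d using Nat.strong_induction_on with
  | _ d ih =>
  intro g hg hd
  have hker : ∀ (f : V ≃ₗ[F] V) z, z ∈ LinearMap.ker ((f : V →ₗ[F] V) - 1) ↔ f z = z := fun f z => by
    simp [sub_eq_zero]
  -- one move reduces the rank of `g - 1`
  have step : ∀ (r : V ≃ₗ[F] V), r ∈ S → r ∈ Iso Q → (∀ z, g z = z → r z = z) → ∀ x, g x ≠ x →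
      r (g x) = x → g ∈ S := by
    intro r hrS hrI hfix x hx hrx
    have hlt : LinearMap.ker ((g : V →ₗ[F] V) - 1) < LinearMap.ker (((r * g : V ≃ₗ[F] V) : V →ₗ[F] V) - 1) := by
      refine lt_of_le_of_ne (fun z hz => ?_) fun heq => hx ?_
      · rw [hker] at hz ⊢
        rw [LinearEquiv.mul_apply, hz, hfix z hz]
      · rw [← hker, heq, hker, LinearEquiv.mul_apply, hrx]
    have h1 := Submodule.finrank_lt_finrank_of_lt hlt
    have h2 := Submodule.finrank_le (LinearMap.ker (((r * g : V ≃ₗ[F] V) : V →ₗ[F] V) - 1))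
    have := ih _ (by omega) (r * g) (mul_mem hrI hg) rfl
    exact (Subgroup.mul_mem_cancel_left S hrS).mp this
  by_cases h1 : ∃ x, Q (g x - x) ≠ 0
  · obtain ⟨x, hx⟩ := h1
    refine step _ (hr _ hx) (refl_mem _) (fun z hz => refl_fix ?_) x
      (fun e => hx (by rw [e, sub_self, QuadraticMap.map_zero])) (refl_sub_apply (hg x) hx)
    rw [polar_sub_left, ← polar_iso hg x z, hz, sub_self]
  push Not at h1
  by_cases h2 : ∀ x, g x = x
  · rw [show g = 1 from LinearEquiv.ext h2]; exact S.one_mem
  push Not at h2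
  obtain ⟨x, hx⟩ := h2
  obtain ⟨w, hw⟩ : ∃ w, w = g x - x := ⟨_, rfl⟩
  have hQw : Q w = 0 := hw ▸ h1 x
  have hxw : polar Q x w = 0 := by
    have e : g x = x + w := by rw [hw]; abel
    have := hg x
    rw [e, map_two, hQw] at this
    linear_combination this
  obtain ⟨y, hy⟩ : ∃ y, polar Q (g y - y) x ≠ 0 := by
    by_contra hc
    push Not at hc
    refine hx (sub_eq_zero.mp (hQ _ fun z => ?_))
    obtain ⟨y, rfl⟩ := g.surjective z
    have := hc y
    rw [polar_sub_left, sub_eq_zero, polar_comm Q (g y) x] at this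
    rw [polar_sub_left, polar_iso hg x y, this, polar_comm Q y x, sub_self]
  obtain ⟨c, hc⟩ : ∃ c, c = (polar Q (g y - y) x)⁻¹ := ⟨_, rfl⟩
  obtain ⟨e, he⟩ : ∃ e, e = c • (g y - y) := ⟨_, rfl⟩
  have hQe : Q e = 0 := by rw [he, QuadraticMap.map_smul, h1, smul_zero]
  have hex : polar Q e x = 1 := by rw [he, polar_smul_left, smul_eq_mul, hc, inv_mul_cancel₀ hy]
  have hew : polar Q e w = 0 := by
    have := h1 (c • y + x)
    rw [map_add, map_smul, show c • g y + g x - (c • y + x) = e + w by rw [he, hw]; module, map_two,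
      hQe, hQw, zero_add, zero_add] at this
    exact this
  have hnw : polar Q e (-w) = 0 := by rw [polar_neg_right, hew, neg_zero]
  refine step (siegel hQe hnw) (hs e (-w) hQe hnw (by rw [QuadraticMap.map_neg, hQw])) (siegel_mem _ _)
    (fun z hz => ?_) x hx ?_
  · have hfix : ∀ u, polar Q (g u - u) z = 0 := fun u => by
      conv_lhs => rw [polar_sub_left]
      rw [← polar_iso hg u z, hz, sub_self]
    rw [siegel_apply, show polar Q e z = 0 by rw [he, polar_smul_left, hfix, smul_zero],
      show polar Q (-w) z = 0 by rw [polar_neg_left, hw, hfix, neg_zero]]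
    simp
  · rw [show g x = x + w by rw [hw]; abel, siegel_apply, polar_add_right, hex, hew, QuadraticMap.map_neg,
      hQw, polar_neg_left, polar_add_right, polar_comm Q w x, hxw, polar_self_zero hQw]
    module

variable (Q) in
/-- The group generated by the reflections. -/
noncomputable def reflGroup : Subgroup (V ≃ₗ[F] V) :=
  Subgroup.closure {g | ∃ v, Q v ≠ 0 ∧ g = refl Q v}

theorem refl_mem_reflGroup {v : V} (hv : Q v ≠ 0) : refl Q v ∈ reflGroup Q :=
  Subgroup.subset_closure ⟨v, hv, rfl⟩

theorem siegel_split {e v : V} (he : Q e = 0) (hv : polar Q e v = 0) {z : V} (hez : polar Q e z = 0) :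
    siegel he hv = siegel he (v := v - z) (by rw [polar_sub_right, hv, hez, sub_zero]) * siegel he hez := by
  rw [siegel_mul]
  exact LinearEquiv.ext fun x => by rw [siegel_apply, siegel_apply, sub_add_cancel]

/-- A Siegel transformation with singular `v` is trivial or splits into two non-singular ones. -/
theorem siegel_cases [FiniteDimensional F V] (hQ : PND Q) (h : Nat.card F ≠ 2 ∨ finrank F V ≠ 4)
    {e v : V} (he : Q e = 0) (hv : polar Q e v = 0) (hQv : Q v = 0) :
    siegel he hv = 1 ∨ ∃ z, polar Q e z = 0 ∧ Q z ≠ 0 ∧ Q (v - z) ≠ 0 := by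
  by_cases hz : ∃ z, polar Q e z = 0 ∧ Q z ≠ 0 ∧ Q (v - z) ≠ 0
  · exact Or.inr hz
  left
  push Not at hz
  by_cases hd : ∃ c : F, v = c • e
  · obtain ⟨c, rfl⟩ := hd
    exact LinearEquiv.ext fun x => by
      rw [siegel_apply, hQv, polar_smul_left, LinearEquiv.coe_one, id, smul_eq_mul]; module
  by_cases he0 : e = 0
  · subst he0
    exact LinearEquiv.ext fun x => by simp [siegel_apply]
  exfalso
  push Not at hd
  obtain ⟨z₀, hz₀, hz₀'⟩ : ∃ z, polar Q e z = 0 ∧ polar Q v z = 1 := by
    obtain ⟨z, hz0, hz1⟩ := exists_polar_sep hQ (H := Submodule.span F {e}) (x := v)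
      (fun hm => by
        obtain ⟨c, hc⟩ := Submodule.mem_span_singleton.mp hm
        exact hd c hc.symm) 1
    exact ⟨z, by rw [polar_comm]; exact hz0 e (Submodule.mem_span_singleton_self e), by rwa [polar_comm]⟩
  obtain ⟨z₁, hz₁⟩ : ∃ z, z = z₀ - Q z₀ • v := ⟨_, rfl⟩
  have hz₁e : polar Q e z₁ = 0 := by rw [hz₁, polar_sub_right, hz₀, polar_smul_right, hv, smul_zero, sub_zero]
  have hz₁v : polar Q v z₁ = 1 := by
    rw [hz₁, polar_sub_right, hz₀', polar_smul_right, polar_self_zero hQv, smul_zero, sub_zero]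
  have hz₁0 : Q z₁ = 0 := by
    rw [hz₁, map_sub_two, QuadraticMap.map_smul, hQv, polar_smul_right, polar_comm Q z₀ v, hz₀']
    simp
  have h2 : ∀ a : F, a = 0 ∨ a = 1 := by
    intro a
    by_contra hc
    push Not at hc
    have hQz : Q (a • v + z₁) = a := by
      rw [map_two, QuadraticMap.map_smul, hQv, hz₁0, polar_smul_left, hz₁v]; simp
    have := hz (a • v + z₁) (by rw [polar_add_right, polar_smul_right, hv, hz₁e, smul_zero, add_zero])
      (by rw [hQz]; exact hc.1)
    rw [map_sub_two, hQv, hQz, polar_add_right, polar_smul_right, polar_self_zero hQv, hz₁v] at this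
    exact hc.2 (by rw [smul_zero] at this; linear_combination this)
  have hF : Nat.card F = 2 := by
    rw [Nat.card_eq_two_iff]
    exact ⟨0, 1, zero_ne_one, Set.eq_univ_of_forall fun a => by simpa using h2 a⟩
  obtain ⟨K, hK⟩ : ∃ K : Submodule F V, K = LinearMap.ker (Q.polarBilin e) ⊓ LinearMap.ker (Q.polarBilin v) :=
    ⟨_, rfl⟩
  have hKs : ∀ z ∈ K, Q z = 0 := by
    intro z hz'
    rw [hK, Submodule.mem_inf, LinearMap.mem_ker, LinearMap.mem_ker, polarBilin_apply_apply,
      polarBilin_apply_apply] at hz'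
    by_contra hne
    have := hz z hz'.1 hne
    rw [map_sub_two, hQv, hz'.2, zero_add, sub_zero] at this
    exact hne this
  have hsum := Submodule.finrank_sup_add_finrank_inf_eq (LinearMap.ker (Q.polarBilin e))
    (LinearMap.ker (Q.polarBilin v))
  have hdim : ∀ w : V, finrank F V ≤ finrank F (LinearMap.ker (Q.polarBilin w)) + 1 := fun w => by
    rw [← LinearMap.finrank_range_add_finrank_ker (Q.polarBilin w)]
    have : finrank F (LinearMap.range (Q.polarBilin w)) ≤ 1 :=
      (Submodule.finrank_le _).trans_eq (finrank_self F)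
    omega
  rw [← hK] at hsum
  have h1 := Witt.finrank_le_half Q (nondeg hQ) hKs
  have h3 := Submodule.finrank_le (LinearMap.ker (Q.polarBilin e) ⊔ LinearMap.ker (Q.polarBilin v))
  have hd1 := hdim e
  have hd2 := hdim v
  have hspan : 4 ≤ finrank F V := by
    have hli : LinearIndependent F ![e, v] := by
      rw [LinearIndependent.pair_iff' he0]
      intro a ha
      exact hd a ha.symm
    have hW : ∀ w ∈ Submodule.span F (Set.range ![e, v]), Q w = 0 := by
      intro w hw
      rw [Matrix.range_cons, Matrix.range_cons, Matrix.range_empty, Set.union_empty, Set.singleton_union,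
        Submodule.mem_span_pair] at hw
      obtain ⟨a, b, rfl⟩ := hw
      rw [map_two, QuadraticMap.map_smul, QuadraticMap.map_smul, he, hQv, polar_smul_left, polar_smul_right, hv]
      simp
    have h4 := Witt.finrank_le_half Q (nondeg hQ) hW
    rw [finrank_span_eq_card hli, Fintype.card_fin] at h4
    omega
  rcases h with h | h
  · exact h hF
  · omega

theorem siegel_mem_reflGroup [FiniteDimensional F V] (hQ : PND Q) (h : Nat.card F ≠ 2 ∨ finrank F V ≠ 4)
    {e v : V} (he : Q e = 0) (hv : polar Q e v = 0) : siegel he hv ∈ reflGroup Q := by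
  have key : ∀ u (hu : polar Q e u = 0), Q u ≠ 0 → siegel he hu ∈ reflGroup Q := fun u hu hQu => by
    rw [(siegel_eq_refl he hu hQu).1]
    exact mul_mem (refl_mem_reflGroup (by rw [(siegel_eq_refl he hu hQu).2]; exact hQu)) (refl_mem_reflGroup hQu)
  by_cases hQv : Q v = 0
  · rcases siegel_cases hQ h he hv hQv with h1 | ⟨z, hez, hQz, hQvz⟩
    · rw [h1]; exact one_mem _
    · rw [siegel_split he hv hez]; exact mul_mem (key _ _ hQvz) (key _ _ hQz)
  · exact key v hv hQv

/-- The isometry group is generated by reflections. -/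
theorem iso_eq_reflGroup [FiniteDimensional F V] (hQ : PND Q) (h : Nat.card F ≠ 2 ∨ finrank F V ≠ 4) :
    reflGroup Q = Iso Q := by
  refine le_antisymm ((Subgroup.closure_le _).mpr ?_)
    (fun g => mem_of_refl_siegel hQ (reflGroup Q) (fun _ => refl_mem_reflGroup)
      (fun _ _ he hv _ => siegel_mem_reflGroup hQ h he hv) g)
  rintro g ⟨v, -, rfl⟩
  exact refl_mem v

/-! ### Witt's lemma -/

theorem exists_move [FiniteDimensional F V] (hQ : PND Q) {H : Submodule F V} {x y : V} (hx : x ∉ H) (hy : y ∉ H)
    (hxy : Q y = Q x) (hH : ∀ h ∈ H, polar Q y h = polar Q x h) :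
    ∃ g ∈ Iso Q, (∀ h ∈ H, g h = h) ∧ g x = y := by
  obtain ⟨w, hw⟩ : ∃ w, w = y - x := ⟨_, rfl⟩
  have hwH : ∀ h ∈ H, polar Q w h = 0 := fun h hh => by rw [hw, polar_sub_left, hH h hh, sub_self]
  by_cases hQw : Q w ≠ 0
  · refine ⟨refl Q w, refl_mem w, fun h hh => refl_fix (hwH h hh), ?_⟩
    have h1 := refl_sub_apply hxy (hw ▸ hQw)
    rw [← hw] at h1
    conv_lhs => rw [← h1]
    exact (refl Q w).symm_apply_apply y
  push Not at hQw
  by_cases hw0 : w = 0
  · exact ⟨1, one_mem _, fun h _ => rfl, (sub_eq_zero.mp (hw ▸ hw0)).symm⟩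
  have hyw : y = x + w := by rw [hw]; abel
  have hxw : polar Q w x = 0 := by
    rw [hyw, map_two, hQw, polar_comm Q x w] at hxy
    linear_combination hxy
  by_cases hin : x ∈ H ⊔ Submodule.span F {w}
  · obtain ⟨h₀, hh₀, u, hu, hsum⟩ := Submodule.mem_sup.mp hin
    obtain ⟨t, rfl⟩ := Submodule.mem_span_singleton.mp hu
    have ht : t ≠ 0 := fun e => hx (by rw [← hsum, e, zero_smul, add_zero]; exact hh₀)
    have hwnot : w ∉ H := fun e => hx (by rw [← hsum]; exact H.add_mem hh₀ (H.smul_mem t e))
    obtain ⟨e₀, he₀H, he₀w⟩ := exists_polar_sep hQ hwnot 1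
    obtain ⟨e, he⟩ : ∃ e, e = e₀ - Q e₀ • w := ⟨_, rfl⟩
    have heH : ∀ h ∈ H, polar Q e h = 0 := fun h hh => by
      rw [he, polar_sub_left, polar_smul_left, he₀H h hh, hwH h hh, smul_zero, sub_zero]
    have hew : polar Q e w = 1 := by
      rw [he, polar_sub_left, polar_smul_left, he₀w, polar_self_zero hQw, smul_zero, sub_zero]
    have hQe : Q e = 0 := by
      rw [he, map_sub_two, QuadraticMap.map_smul, hQw, polar_smul_right, he₀w]; simp
    have ht1 : t + 1 ≠ 0 := fun e' => hy (by
      rw [hyw, ← hsum, add_assoc, show t • w + w = (t + 1) • w by rw [add_smul, one_smul], e', zero_smul,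
        add_zero]
      exact hh₀)
    have hwe : polar Q w e = 1 := by rw [polar_comm, hew]
    let D : F → F → V →ₗ[F] V := fun l m =>
      { toFun := fun z => z + ((l - 1) * polar Q e z) • w + ((m - 1) * polar Q w z) • e
        map_add' := fun a b => by simp only [polar_add_right]; module
        map_smul' := fun c a => by simp only [polar_smul_right, RingHom.id_apply, smul_eq_mul]; module }
    have hD : ∀ l m, ∀ z, D l m z = z + ((l - 1) * polar Q e z) • w + ((m - 1) * polar Q w z) • e :=
      fun _ _ _ => rfl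
    have hcomp : ∀ l m, l * m = 1 → ∀ z, D l m (D m l z) = z := by
      intro l m hlm z
      simp only [hD, polar_add_right, polar_smul_right, hew, hwe, polar_self_zero hQe, polar_self_zero hQw,
        smul_eq_mul, mul_zero, add_zero, mul_one]
      match_scalars
      · ring
      · linear_combination (polar Q e z) * hlm
      · linear_combination (polar Q w z) * hlm
    obtain ⟨l, hl⟩ : ∃ l, l = (t + 1) / t := ⟨_, rfl⟩
    have hlm : l * l⁻¹ = 1 := mul_inv_cancel₀ (hl ▸ div_ne_zero ht1 ht)
    refine ⟨LinearEquiv.ofLinear (D l l⁻¹) (D l⁻¹ l) (LinearMap.ext (hcomp _ _ hlm))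
      (LinearMap.ext (hcomp _ _ (by rw [mul_comm]; exact hlm))), fun z => ?_, fun h hh => ?_, ?_⟩
    · change Q (D l l⁻¹ z) = Q z
      simp only [hD, map_two, QuadraticMap.map_smul, polar_add_left, polar_smul_left, polar_smul_right,
        hQw, hQe, hwe, polar_comm Q z w, polar_comm Q z e, smul_eq_mul]
      linear_combination (polar Q e z * polar Q w z) * hlm
    · change D l l⁻¹ h = h
      rw [hD, heH h hh, hwH h hh]; simp
    · change D l l⁻¹ x = y
      rw [hD, hyw, hxw, mul_zero, zero_smul, add_zero, show polar Q e x = t from by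
        rw [← hsum, polar_add_right, heH h₀ hh₀, polar_smul_right, hew, zero_add, smul_eq_mul, mul_one],
        hl, show ((t + 1) / t - 1) * t = 1 by field_simp; ring, one_smul]
  · obtain ⟨v, hv, hvx⟩ := exists_polar_sep hQ hin (-1)
    have hwv : polar Q w v = 0 := by
      rw [polar_comm]; exact hv w (Submodule.mem_sup_right (Submodule.mem_span_singleton_self w))
    refine ⟨siegel hQw hwv, siegel_mem _ _, fun h hh => ?_, ?_⟩
    · rw [siegel_apply, hwH h hh, hv h (Submodule.mem_sup_left hh)]; simp
    · rw [siegel_apply, hxw, hvx, hyw]; module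

/-- Witt's lemma. -/
theorem witt [FiniteDimensional F V] (hQ : PND Q) (X : Submodule F V) (f : X →ₗ[F] V) (hinj : Function.Injective f)
    (hf : ∀ x : X, Q (f x) = Q x) : ∃ g ∈ Iso Q, ∀ x : X, g x = f x := by
  suffices H : ∀ d, ∀ X : Submodule F V, finrank F X = d → ∀ f : X →ₗ[F] V, Function.Injective f →
      (∀ x : X, Q (f x) = Q x) → ∃ g ∈ Iso Q, ∀ x : X, g x = f x from H _ X rfl f hinj hf
  intro d
  induction d with
  | zero =>
    intro X hX f _ _
    refine ⟨1, one_mem _, fun x => ?_⟩
    have : (x : V) = 0 := (Submodule.mem_bot F).mp (Submodule.finrank_eq_zero.mp hX ▸ x.2)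
    rw [show x = 0 from Subtype.ext this, map_zero]; rfl
  | succ d ih =>
    intro X hX f hinj hf
    obtain ⟨H, hH⟩ : ∃ H : Submodule F X, finrank F H = d := by
      obtain ⟨s, hs⟩ := exists_linearIndependent_of_le_finrank (R := F) (M := X) (n := d) (by omega)
      exact ⟨Submodule.span F (Set.range s), by rw [finrank_span_eq_card hs, Fintype.card_fin]⟩
    obtain ⟨x, hx⟩ : ∃ x : X, x ∉ H := by
      by_contra hc
      push Not at hc
      rw [Submodule.eq_top_iff'.mpr hc, finrank_top] at hH
      omega
    obtain ⟨g₀, hg₀, hg₀'⟩ := ih (H.map X.subtype)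
      (by rw [← hH]; exact (Submodule.equivMapOfInjective X.subtype X.injective_subtype H).finrank_eq.symm)
      (f ∘ₗ Submodule.inclusion (Submodule.map_subtype_le X H))
      (hinj.comp (Submodule.inclusion_injective _)) (fun z => hf _)
    have hfix : ∀ h ∈ H, g₀ (h : V) = f h := fun h hh => hg₀' ⟨h, h, hh, rfl⟩
    have hxH : (x : V) ∉ H.map X.subtype := by
      rintro ⟨z, hz, e⟩
      exact hx (Subtype.ext e ▸ hz)
    have hyH : g₀.symm (f x) ∉ H.map X.subtype := by
      rintro ⟨z, hz, e⟩
      have : f x = f z := by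
        rw [← hfix z hz, show ((z : X) : V) = g₀.symm (f x) from e, g₀.apply_symm_apply]
      exact hx (hinj this ▸ hz)
    obtain ⟨g₁, hg₁, hg₁H, hg₁x⟩ := exists_move hQ hxH hyH
      (by rw [show Q (g₀.symm (f x)) = Q (f x) from inv_mem hg₀ _, hf]) (by
      rintro _ ⟨z, hz, rfl⟩
      change polar Q (g₀.symm (f x)) (z : V) = polar Q (x : V) z
      rw [← polar_iso hg₀, g₀.apply_symm_apply, hfix z hz]
      simp only [polar, ← map_add, hf, Submodule.coe_add])
    refine ⟨g₀ * g₁, mul_mem hg₀ hg₁, fun z => ?_⟩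
    have htop : H ⊔ Submodule.span F {x} = ⊤ := by
      apply Submodule.eq_top_of_finrank_eq
      have h1 := Submodule.finrank_lt_finrank_of_lt (lt_of_le_of_ne (le_sup_left (a := H) (b := Submodule.span F {x}))
        fun e => hx (e.symm ▸ Submodule.mem_sup_right (Submodule.mem_span_singleton_self x)))
      have h2 := Submodule.finrank_le (H ⊔ Submodule.span F {x})
      omega
    obtain ⟨h, hh, u, hu, rfl⟩ := Submodule.mem_sup.mp (htop.symm ▸ Submodule.mem_top : z ∈ H ⊔ Submodule.span F {x})
    obtain ⟨t, rfl⟩ := Submodule.mem_span_singleton.mp hu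
    rw [map_add, map_smul, Submodule.coe_add, Submodule.coe_smul, map_add, map_smul, LinearEquiv.mul_apply,
      LinearEquiv.mul_apply, hg₁H (h : V) ⟨h, hh, rfl⟩, hg₁x, g₀.apply_symm_apply, hfix h hh]

end Cfsg.Agent.Classical.ORefl
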