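/-
Orthogonal groups in even dimension: elements and irreducibility of Ω, criteria for plus type.
-/
import Cfsg.Agent.Lib.Classical.OrthNotMax
import Cfsg.Agent.Lib.Classical.DiscType
import Cfsg.Agent.Lib.Classical.FixCodim
import Cfsg.Agent.Lib.Classical.Subfield
import Cfsg.Agent.Lib.Classical.LinMaximalGeneral
import Cfsg.Agent.Lib.Classical.FormCoord
import Cfsg.Agent.Lib.Small.QuadBasis

set_option autoImplicit false
set_option linter.unusedSectionVars false
set_option linter.style.haveILetI false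

namespace Cfsg.Agent.Classical.OEven

open Matrix Module QuadraticMap Cfsg.Geo OCount
open Cfsg.Agent.Classical
open scoped Kronecker

variable {ι : Type} [Fintype ι] [DecidableEq ι] {F : Type*} [Field F]

section Omega

variable {Q : QuadraticForm F (ι → F)}

theorem nondeg_of_pnd (hQ : PND Q) : Cfsg.Agent.Small.QuadBasis.Nondeg Q (⊤ : Submodule F (ι → F)) :=
  fun x _ h => hQ x fun y => h y Submodule.mem_top

/-- A hyperbolic pair with a nondegenerate complement. -/
theorem exists_pair_comp [Fintype F] (hQ : PND Q) (hn : 3 ≤ Fintype.card ι) :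
    ∃ (e f : ι → F) (W : Submodule F (ι → F)), e ≠ 0 ∧ Q e = 0 ∧ Q f = 0 ∧ polar Q e f = 1 ∧
      Cfsg.Agent.Small.QuadBasis.Nondeg Q W ∧ finrank F W + 2 = Fintype.card ι ∧
      ∀ x ∈ W, polar Q e x = 0 ∧ polar Q f x = 0 := by
  obtain ⟨e, -, he0, he⟩ := Cfsg.Agent.Small.QuadBasis.exists_singular Q (W := (⊤ : Submodule F (ι → F)))
    (by rw [finrank_top, Module.finrank_pi]; omega)
  obtain ⟨f, -, hf, hef, W, -, hW, hd, ho⟩ :=
    Cfsg.Agent.Small.QuadBasis.exists_pair Q (nondeg_of_pnd hQ) Submodule.mem_top he0 he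
  rw [finrank_top, Module.finrank_pi] at hd
  exact ⟨e, f, W, he0, he, hf, hef, hW, hd, ho⟩

/-- Some singular vector is not orthogonal to a given nonzero vector. -/
theorem exists_singular_not_perp [Fintype F] (hQ : PND Q) (hn : 3 ≤ Fintype.card ι) {w : ι → F} (hw : w ≠ 0) :
    ∃ e, Q e = 0 ∧ polar Q e w ≠ 0 := by
  obtain ⟨e, f, W, -, he, hf, hef, -, -, -⟩ := exists_pair_comp hQ hn
  by_contra hcon
  push Not at hcon
  refine hw (hQ w fun x => ?_)
  have hee : polar Q e e = 0 := by rw [polar_self, he, smul_zero]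
  have hff : polar Q f f = 0 := by rw [polar_self, hf, smul_zero]
  have hfe : polar Q f e = 1 := by rw [polar_comm]; exact hef
  set y := x - polar Q f x • e - polar Q e x • f with hy
  have hye : polar Q e y = 0 := by
    rw [hy, polar_sub_right, polar_sub_right, polar_smul_right, polar_smul_right, hee, hef]; simp
  have hyf : polar Q f y = 0 := by
    rw [hy, polar_sub_right, polar_sub_right, polar_smul_right, polar_smul_right, hff, hfe]; simp
  have hs : Q (y + (e + (-Q y) • f)) = 0 := by
    rw [Cfsg.Agent.Small.QuadBasis.q_add, Cfsg.Agent.Small.QuadBasis.q_add, QuadraticMap.map_smul, polar_add_right,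
      polar_smul_right, polar_smul_right, polar_comm _ y e, hye, polar_comm _ y f, hyf, he, hf, hef]
    simp
  have h1 := hcon _ hs
  rw [polar_add_left, polar_add_left, polar_smul_left, hcon e he, hcon f hf, smul_zero, add_zero, add_zero] at h1
  have e1 : polar Q w x = polar Q y w := by
    rw [hy, polar_sub_left, polar_sub_left, polar_smul_left, polar_smul_left, hcon e he, hcon f hf, smul_zero,
      smul_zero, sub_zero, sub_zero, polar_comm]
  rw [e1, h1]

theorem eq_bot_or_top_of_siegel [Fintype F] (hQ : PND Q) (hn : 5 ≤ Fintype.card ι) {W : Submodule F (ι → F)}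
    (hW : ∀ e v : ι → F, Q e = 0 → polar Q e v = 0 → ∀ x ∈ W,
      x + polar Q e x • v - (polar Q v x + Q v * polar Q e x) • e ∈ W) :
    W = ⊥ ∨ W = ⊤ := by
  rcases eq_or_ne W ⊥ with h | h
  · exact Or.inl h
  obtain ⟨w, hw, hw0⟩ := Submodule.exists_mem_ne_zero_of_ne_bot h
  have hD : ∀ e v : ι → F, Q e = 0 → polar Q e v = 0 → ∀ x ∈ W,
      polar Q e x • v - (polar Q v x + Q v * polar Q e x) • e ∈ W := fun e v he hv x hx => by
    have := W.sub_mem (hW e v he hv x hx) hx
    rwa [show x + polar Q e x • v - (polar Q v x + Q v * polar Q e x) • e - x =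
      polar Q e x • v - (polar Q v x + Q v * polar Q e x) • e by abel] at this
  -- a singular vector not orthogonal to a member is a member
  have hmem : ∀ e x : ι → F, Q e = 0 → x ∈ W → polar Q e x ≠ 0 → e ∈ W := by
    intro e x he hx hne
    have he0 : e ≠ 0 := fun h0 => hne (by rw [h0, polar_zero_left])
    obtain ⟨f, -, -, hef, W', -, hW', hd, ho⟩ :=
      Cfsg.Agent.Small.QuadBasis.exists_pair Q (nondeg_of_pnd hQ) Submodule.mem_top he0 he
    rw [finrank_top, Module.finrank_pi] at hd
    obtain ⟨u, hu, hu0⟩ := Submodule.exists_mem_ne_zero_of_ne_bot (p := W') fun h0 => by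
      rw [h0, finrank_bot] at hd; omega
    obtain ⟨v, hv, huv⟩ : ∃ v ∈ W', polar Q u v ≠ 0 := by
      by_contra hc
      push Not at hc
      exact hu0 (hW' u hu hc)
    have h1 := W.sub_mem (W.sub_mem (hD e (u + v) he (by rw [polar_add_right, (ho u hu).1, (ho v hv).1, add_zero]) x hx)
      (hD e u he (ho u hu).1 x hx)) (hD e v he (ho v hv).1 x hx)
    have e1 : polar Q e x • (u + v) - (polar Q (u + v) x + Q (u + v) * polar Q e x) • e -
        (polar Q e x • u - (polar Q u x + Q u * polar Q e x) • e) -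
        (polar Q e x • v - (polar Q v x + Q v * polar Q e x) • e) = (-(polar Q u v * polar Q e x)) • e := by
      rw [polar_add_left, Cfsg.Agent.Small.QuadBasis.q_add]
      module
    rw [e1] at h1
    exact (W.smul_mem_iff (neg_ne_zero.mpr (mul_ne_zero huv hne))).mp h1
  refine Or.inr ?_
  obtain ⟨e, he, hew⟩ := exists_singular_not_perp hQ (by omega) hw0
  have heW := hmem e w he hw hew
  have hperp : ∀ v, polar Q e v = 0 → v ∈ W := by
    intro v hv
    have h1 := W.add_mem (hD e v he hv w hw) (W.smul_mem (polar Q v w + Q v * polar Q e w) heW)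
    rw [sub_add_cancel] at h1
    exact (W.smul_mem_iff hew).mp h1
  have he0 : e ≠ 0 := fun h0 => hew (by rw [h0, polar_zero_left])
  obtain ⟨f, -, hf, hef, -⟩ :=
    Cfsg.Agent.Small.QuadBasis.exists_pair Q (nondeg_of_pnd hQ) Submodule.mem_top he0 he
  have hfW := hmem f e hf heW (by rw [polar_comm, hef]; exact one_ne_zero)
  refine eq_top_iff.mpr fun x _ => ?_
  have h2 := hperp (x - polar Q e x • f) (by rw [polar_sub_right, polar_smul_right, hef]; simp)
  simpa using W.add_mem h2 (W.smul_mem (polar Q e x) hfW)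

theorem siegel_fixCodim {e v : ι → F} {g : GL ι F}
    (hg : ∀ x, (g : Matrix ι ι F) *ᵥ x = x + polar Q e x • v - (polar Q v x + Q v * polar Q e x) • e) :
    FixCodim 2 g :=
  ⟨LinearMap.pi ![polarBilin Q e, polarBilin Q v], fun x hx => by
    have h0 : polar Q e x = 0 := by simpa using congrFun hx 0
    have h1 : polar Q v x = 0 := by simpa using congrFun hx 1
    rw [hg, h0, h1]; simp⟩

/-- A subspace fixed by the elements of Ω with fixed space of codimension two is trivial. -/
theorem eq_bot_or_top_of_fixCodim [Fintype F] (hQ : PND Q) (hn : 5 ≤ Fintype.card ι) {W : Submodule F (ι → F)}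
    (hW : ∀ g ∈ omegaGL ⇑Q, FixCodim 2 g → ∀ x ∈ W, (g : Matrix ι ι F) *ᵥ x ∈ W) : W = ⊥ ∨ W = ⊤ :=
  eq_bot_or_top_of_siegel hQ hn fun e v he hv x hx => by
    obtain ⟨g, hg, hgm⟩ := ONotMax.exists_siegel hQ (by omega) he hv
    rw [← hgm]
    exact hW g hg (siegel_fixCodim hgm) x hx

theorem omega_irreducible [Fintype F] (hQ : PND Q) (hn : 5 ≤ Fintype.card ι) :
    ActsIrreducibly (matrixSet (omegaGL ⇑Q)) := fun W hW =>
  eq_bot_or_top_of_fixCodim hQ hn fun g hg _ x hx =>
    map_toLin'_le.mp (hW _ (coe_mem_matrixSet hg)) x hx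

/-- A one parameter family of root elements. -/
theorem exists_family [Fintype F] (hQ : PND Q) (hn : 5 ≤ Fintype.card ι) :
    ∃ N : Matrix ι ι F, N ≠ 0 ∧ N * N = 0 ∧
      ∀ t : F, ∃ g ∈ omegaGL ⇑Q, (g : Matrix ι ι F) = 1 + t • N ∧ FixCodim 2 g := by
  obtain ⟨e, f, W, -, he, hf, hef, -, hd, ho⟩ := exists_pair_comp hQ (by omega)
  obtain ⟨v, hvW, hv0, hv⟩ := Cfsg.Agent.Small.QuadBasis.exists_singular Q (W := W) (by omega)
  obtain ⟨hev, hfv⟩ := ho v hvW
  have hee : polar Q e e = 0 := by rw [polar_self, he, smul_zero]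
  have hvv : polar Q v v = 0 := by rw [polar_self, hv, smul_zero]
  let L : (ι → F) →ₗ[F] (ι → F) := (polarBilin Q e).smulRight v - (polarBilin Q v).smulRight e
  have hL : ∀ x, L x = polar Q e x • v - polar Q v x • e := fun x => rfl
  refine ⟨LinearMap.toMatrix' L, fun h0 => ?_, ?_, fun t => ?_⟩
  · have h1 := congrArg (fun M => M *ᵥ f) h0
    simp only [← Matrix.toLin'_apply, Matrix.toLin'_toMatrix', Matrix.zero_mulVec, hL, hef, polar_comm _ v f, hfv,
      one_smul, zero_smul, sub_zero, map_zero, LinearMap.zero_apply] at h1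
    exact hv0 h1
  · refine Matrix.toLin'.injective (LinearMap.ext fun x => ?_)
    rw [Matrix.toLin'_mul, Matrix.toLin'_toMatrix', map_zero]
    simp only [LinearMap.comp_apply, hL, LinearMap.zero_apply, polar_sub_right, polar_smul_right, hev, hee, hvv,
      polar_comm _ v e, smul_zero, sub_zero, zero_smul]
  · obtain ⟨g, hg, hgm⟩ := ONotMax.exists_siegel hQ (by omega) (e := e) (v := t • v) he
      (by rw [polar_smul_right, hev, smul_zero])
    refine ⟨g, hg, Matrix.toLin'.injective (LinearMap.ext fun x => ?_), siegel_fixCodim hgm⟩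
    rw [Matrix.toLin'_apply, hgm, _root_.map_add, LinearEquiv.map_smul, Matrix.toLin'_toMatrix', Matrix.toLin'_one]
    simp only [LinearMap.add_apply, LinearMap.id_apply, LinearMap.smul_apply, hL, polar_smul_left,
      QuadraticMap.map_smul, hv, smul_eq_mul, mul_zero, zero_mul, add_zero]
    module

/-- A nontrivial element of Ω fixing a subspace of codimension two. -/
theorem exists_fixCodim [Fintype F] (hQ : PND Q) (hn : 5 ≤ Fintype.card ι) :
    ∃ g ∈ omegaGL ⇑Q, g ≠ 1 ∧ FixCodim 2 g := by
  obtain ⟨N, hN, -, ht⟩ := exists_family hQ hn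
  obtain ⟨g, hg, hgm, hgd⟩ := ht 1
  refine ⟨g, hg, fun h => hN ?_, hgd⟩
  rw [h, Units.val_one, one_smul, left_eq_add] at hgm
  exact hgm

/-- Ω lies in no decomposition stabiliser with members of dimension above two. -/
theorem omega_not_decomposition [Fintype F] (hQ : PND Q) (hn : 5 ≤ Fintype.card ι) {t k : ℕ}
    {D : Fin t → Submodule F (ι → F)} (hD : IsMDecomposition k D) (hk : 2 < k) :
    ¬ omegaGL ⇑Q ≤ decompositionStabilizer D := by
  intro hle
  have h2 := hD.two_le
  let i₀ : Fin t := ⟨0, by omega⟩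
  have hf := hD.finrank_eq i₀
  rcases eq_bot_or_top_of_fixCodim hQ hn (W := D i₀) fun g hg hd x hx =>
      hd.fixes_members hD hk (hle hg) i₀ x hx with h | h
  · rw [h, finrank_bot] at hf; omega
  · rw [h, finrank_top, Module.finrank_pi] at hf
    have hcard := Cfsg.Agent.Classical.IsMDecomposition.card_eq hD
    nlinarith

/-- A matrix commuting with the elements of Ω with fixed space of codimension two is a scalar. -/
theorem scalar_of_commute_fixCodim [Fintype F] (hQ : PND Q) (hn : 5 ≤ Fintype.card ι) {M : Matrix ι ι F}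
    (hM : ∀ g ∈ omegaGL ⇑Q, FixCodim 2 g → Commute (g : Matrix ι ι F) M) :
    ∃ c : F, M = c • (1 : Matrix ι ι F) := by
  obtain ⟨e, f, W, he0, he, hf, hef, hWn, hd, ho⟩ := exists_pair_comp hQ (by omega)
  obtain ⟨v, hvW, hv0, hv⟩ := Cfsg.Agent.Small.QuadBasis.exists_singular Q (W := W) (by omega)
  obtain ⟨v', hv'W, hv', hvv', -⟩ := Cfsg.Agent.Small.QuadBasis.exists_pair Q hWn hvW hv0 hv
  have hkey : ∀ a b : ι → F, Q a = 0 → Q b = 0 → polar Q a b = 0 → ∀ x,
      M *ᵥ (polar Q a x • b - polar Q b x • a) = polar Q a (M *ᵥ x) • b - polar Q b (M *ᵥ x) • a := by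
    intro a b ha hb hab x
    obtain ⟨g, hg, hgm⟩ := ONotMax.exists_siegel hQ (by omega) ha hab
    have h := congrArg (· *ᵥ x) (hM g hg (siegel_fixCodim hgm)).eq
    simp only [← Matrix.mulVec_mulVec, hgm, hb, zero_mul, add_zero, add_sub_assoc, Matrix.mulVec_add] at h
    exact (add_left_cancel h).symm
  have hve : polar Q v e = 0 := by rw [polar_comm]; exact (ho v hvW).1
  have hv'e : polar Q v' e = 0 := by rw [polar_comm]; exact (ho v' hv'W).1
  -- the image of `e` is in two planes
  have h1 := hkey e v he hv (ho v hvW).1 v'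
  have h2 := hkey e v' he hv' (ho v' hv'W).1 v
  have hev : polar Q e v = 0 := (ho v hvW).1
  have hev' : polar Q e v' = 0 := (ho v' hv'W).1
  simp only [hev', hvv', one_smul, zero_smul, zero_sub, Matrix.mulVec_neg] at h1
  simp only [hev, polar_comm _ v' v, hvv', one_smul, zero_smul, zero_sub, Matrix.mulVec_neg] at h2
  have hMe : M *ᵥ e = polar Q v (M *ᵥ v') • e := by
    refine neg_injective (h1.trans ?_)
    have h3 := congrArg (polar Q v') (h1.symm.trans h2)
    simp only [polar_sub_right, polar_smul_right, polar_comm _ v' v, hvv', hv'e, polar_self, hv, hv', smul_zero,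
      sub_zero, smul_eq_mul, mul_one, mul_zero] at h3
    rw [h3, zero_smul, zero_sub]
  refine ⟨polar Q v (M *ᵥ v'), ?_⟩
  set c := polar Q v (M *ᵥ v')
  let E : Submodule F (ι → F) := LinearMap.ker (Matrix.toLin' (M - c • 1))
  have hE : ∀ x, x ∈ E ↔ M *ᵥ x = c • x := fun x => by
    simp [E, Matrix.sub_mulVec, Matrix.smul_mulVec, sub_eq_zero]
  rcases eq_bot_or_top_of_fixCodim hQ hn (W := E) fun g hg hd x hx => by
      rw [hE] at hx ⊢
      rw [Matrix.mulVec_mulVec, ← (hM g hg hd).eq, ← Matrix.mulVec_mulVec, hx, Matrix.mulVec_smul] with h | h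
  · exact absurd ((Submodule.mem_bot F).mp (h ▸ (hE e).mpr hMe)) he0
  · refine Matrix.toLin'.injective (LinearMap.ext fun x => ?_)
    have := (hE x).mp (h ▸ Submodule.mem_top)
    simpa [Matrix.smul_mulVec] using this

/-- Ω lies in no normaliser of a field of matrices. -/
theorem omega_not_field [Fintype F] (hQ : PND Q) (hn : 5 ≤ Fintype.card ι) {r : ℕ} (hr : 2 ≤ r)
    {K : Subalgebra F (Matrix ι ι F)} (hK : IsFieldSubalgebra r K) :
    ¬ omegaGL ⇑Q ≤ subalgebraNormalizer K := by
  intro hle
  haveI : Nonempty ι := Fintype.card_pos_iff.mp (by omega)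
  have hle1 : K ≤ ⊥ := fun k hk => by
    obtain ⟨c, hc⟩ := scalar_of_commute_fixCodim hQ hn (M := k) fun g hg hd =>
      FixCodim.commute_of_mem_subalgebraNormalizer hd (by omega) hK (hle hg) k hk
    exact Algebra.mem_bot.mpr ⟨c, by rw [hc, Algebra.algebraMap_eq_smul_one]⟩
  have h1 := hK.finrank_eq
  rw [eq_bot_iff.mpr hle1, Subalgebra.finrank_bot] at h1
  omega

end Omega

/-- A group with a linear one parameter unipotent family lies in no proper subfield group. -/
theorem not_le_subfield_of_family {G : Subgroup (GL ι F)} {N : Matrix ι ι F} (hN : N ≠ 0) (hNN : N * N = 0)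
    (ht : ∀ t : F, ∃ g ∈ G, (g : Matrix ι ι F) = 1 + t • N) [Finite F] {F₀ : Subfield F} (h0 : F₀ ≠ ⊤)
    (P : GL ι F) : ¬ G ≤ subfieldSubgroup F₀ P := by
  classical
  intro hle
  set N' := ((P⁻¹ : GL ι F) : Matrix ι ι F) * N * (P : Matrix ι ι F) with hN'
  have hN'0 : N' ≠ 0 := fun h => hN (by
    have := congrArg (fun M => (P : Matrix ι ι F) * M * ((P⁻¹ : GL ι F) : Matrix ι ι F)) h
    simpa [hN', ← Matrix.mul_assoc, Units.mul_inv, Matrix.mul_assoc N] using this)
  have hN'N : N' * N' = 0 := by
    calc N' * N' = ((P⁻¹ : GL ι F) : Matrix ι ι F) * (N * ((P : Matrix ι ι F) * ((P⁻¹ : GL ι F) : Matrix ι ι F)) * N) * (P : Matrix ι ι F) := by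
          simp only [hN', Matrix.mul_assoc]
      _ = 0 := by rw [Units.mul_inv, Matrix.mul_one, hNN, Matrix.mul_zero, Matrix.zero_mul]
  have hrat : ∀ t : F, ∀ i j, (t • N') i j ∈ F₀ := by
    intro t
    rcases eq_or_ne t 0 with rfl | ht0
    · intro i j; simp
    obtain ⟨g, hg, hgm⟩ := ht t
    have hm := hle hg
    rw [mem_subfieldSubgroup, Subgroup.mem_sup_of_normal_right] at hm
    obtain ⟨mm, hm, z, hz, hmz⟩ := hm
    obtain ⟨a, ha⟩ := (mem_scalars_iff z).mp hz
    have hM := range_map_subfield_entries hm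
    set M := (mm : Matrix ι ι F)
    have e1 : (1 : Matrix ι ι F) + t • N' = (a : F) • M := by
      have h := congrArg (fun x : GL ι F => (x : Matrix ι ι F)) hmz
      simp only [Units.val_mul, ha, Matrix.mul_smul, Matrix.mul_one, hgm, Matrix.mul_add, Matrix.add_mul,
        Units.inv_mul, Matrix.smul_mul] at h
      rw [hN']
      exact h.symm
    set b := ((a : F))⁻¹
    have hMe : M = b • 1 + (b * t) • N' := by
      rw [← smul_smul, ← smul_add, e1, smul_smul, inv_mul_cancel₀ a.ne_zero, one_smul]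
    have hbt : b * t ≠ 0 := mul_ne_zero (inv_ne_zero a.ne_zero) ht0
    obtain ⟨i, j, hij, hne⟩ : ∃ i j, i ≠ j ∧ N' i j ≠ 0 := by
      by_contra hcon
      push Not at hcon
      apply hN'0
      ext i j
      rcases eq_or_ne i j with rfl | h
      · have := congrFun (congrFun hN'N i) i
        rw [Matrix.mul_apply, Finset.sum_eq_single i (fun k _ hk => by rw [hcon i k (Ne.symm hk), zero_mul])
          (fun h => absurd (Finset.mem_univ _) h)] at this
        exact mul_self_eq_zero.mp this
      · exact hcon i j h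
    have hMij : M i j = b * t * N' i j := by
      rw [hMe]; simp [Matrix.one_apply_ne hij]
    have hMM : M * M = (b * b) • 1 + (2 * (b * (b * t))) • N' := by
      rw [hMe, Matrix.add_mul, Matrix.mul_add, Matrix.mul_add]
      simp only [Matrix.smul_mul, Matrix.mul_smul, Matrix.one_mul, Matrix.mul_one, hN'N, smul_zero]
      module
    have hb : b ∈ F₀ := by
      by_cases h2 : (2 : F) = 0
      · have hbb : b * b ∈ F₀ := by
          have : (M * M) i i ∈ F₀ := by
            rw [Matrix.mul_apply]; exact sum_mem fun k _ => mul_mem (hM i k) (hM k i)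
          rw [hMM] at this
          simpa [h2] using this
        haveI : CharP F₀ 2 := CharTwo.of_one_ne_zero_of_two_eq_zero one_ne_zero (Subtype.ext h2)
        obtain ⟨c, hc⟩ := FiniteField.isSquare_of_char_two (ringChar.eq F₀ 2) (⟨b * b, hbb⟩ : F₀)
        have hc' : b * b = (c : F) * (c : F) := congrArg Subtype.val hc
        rcases mul_self_eq_mul_self_iff.mp hc' with h | h
        · rw [h]; exact c.2
        · rw [h]; exact neg_mem c.2
      · have h1 : (M * M) i j ∈ F₀ := by
          rw [Matrix.mul_apply]; exact sum_mem fun k _ => mul_mem (hM i k) (hM k j)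
        have h2' : (M * M) i j = 2 * b * M i j := by
          rw [hMM, hMij]; simp [Matrix.one_apply_ne hij]; ring
        have hM0 : M i j ≠ 0 := by rw [hMij]; exact mul_ne_zero hbt hne
        have h3 : (2 : F) * b ∈ F₀ := by
          have := div_mem h1 (hM i j)
          rwa [h2', mul_div_assoc, div_self hM0, mul_one] at this
        have := div_mem h3 (show (2 : F) ∈ F₀ by
          have := add_mem F₀.one_mem F₀.one_mem
          rwa [one_add_one_eq_two] at this)
        rwa [mul_div_cancel_left₀ _ h2] at this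
    intro i' j'
    have e2 : (t • N') i' j' = b⁻¹ * M i' j' - (1 : Matrix ι ι F) i' j' := by
      rw [hMe]
      simp only [Matrix.add_apply, Matrix.smul_apply, smul_eq_mul]
      have hb0 : b ≠ 0 := inv_ne_zero a.ne_zero
      field_simp
      ring
    rw [e2]
    refine sub_mem (mul_mem (inv_mem hb) (hM i' j')) ?_
    rw [Matrix.one_apply]
    split_ifs
    · exact F₀.one_mem
    · exact F₀.zero_mem
  obtain ⟨i, j, hij⟩ : ∃ i j, N' i j ≠ 0 := by
    by_contra hcon; push Not at hcon; exact hN'0 (Matrix.ext hcon)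
  refine h0 (eq_top_iff.mpr fun x _ => ?_)
  have h1 := hrat 1 i j
  rw [one_smul] at h1
  have h2 := hrat x i j
  rw [Matrix.smul_apply, smul_eq_mul] at h2
  have := div_mem h2 h1
  rwa [mul_div_assoc, div_self hij, mul_one] at this

theorem subfield_ne_top_of_card [Fintype F] {F₀ : Subfield F} {r : ℕ} (hr : r.Prime)
    (hc : Fintype.card F = Nat.card F₀ ^ r) : F₀ ≠ ⊤ := fun h => by
  subst h
  rw [Nat.card_congr (Subfield.topEquiv : (⊤ : Subfield F) ≃+* F).toEquiv, Nat.card_eq_fintype_card] at hc
  exact hr.ne_one ((Nat.pow_eq_self_iff Fintype.one_lt_card).mp hc.symm)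

section Type'

variable {Q : (ι → F) → F} (hQ : IsNondegenerateQuadraticForm Q)

include hQ

theorem plus_of_spans {U : Submodule F (ι → F)} (hU : IsTotallySingularQuad Q U)
    (hd : 2 * finrank F U = Fintype.card ι) : IsPlusTypeOn Q ⊤ :=
  ⟨U, le_top, hU, by rw [hd, finrank_top, Module.finrank_pi]⟩

/-- The span of pairwise orthogonal singular vectors is totally singular. -/
theorem totallySingular_span {κ : Type} [Fintype κ] (w : κ → ι → F) (hq : ∀ i, Q (w i) = 0)
    (hp : ∀ i j, i ≠ j → polar Q (w i) (w j) = 0) :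
    IsTotallySingularQuad Q (Submodule.span F (Set.range w)) := by
  obtain ⟨Qf, rfl, -⟩ := ONotMax.exists_qform hQ
  intro x hx
  obtain ⟨c, rfl⟩ := (Submodule.mem_span_range_iff_exists_fun F).mp hx
  rw [Cfsg.Agent.Small.QuadBasis.q_sum Qf Finset.univ (fun i => c i • w i) (fun i j hij => by
    rw [polar_smul_left, polar_smul_right, hp i j hij, smul_zero, smul_zero])]
  exact Finset.sum_eq_zero fun i _ => by rw [QuadraticMap.map_smul, hq, smul_zero]

/-- In odd characteristic the type is read off the determinant of the Gram matrix in any basis. -/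
theorem plus_iff_basis_det [Fintype F] (h2 : (2 : F) ≠ 0) {m : ℕ} (hcard : Fintype.card ι = 2 * m)
    {κ : Type} [Fintype κ] [DecidableEq κ] (u : Basis κ F (ι → F)) :
    IsPlusTypeOn Q ⊤ ↔ IsSquare ((-1 : F) ^ m * (Matrix.of fun a b => polar Q (u a) (u b)).det) := by
  classical
  obtain ⟨Qf, rfl, hP⟩ := ONotMax.exists_qform hQ
  set B : LinearMap.BilinForm F (ι → F) := polarBilin Qf with hB
  have hBa : ∀ x y, B x y = polar Qf x y := fun x y => rfl
  have hsym : B.IsSymm := ⟨fun x y => polar_comm _ x y⟩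
  have hnd : B.Nondegenerate := ⟨fun x hx => hP x hx, fun y hy => hP y fun x => (polar_comm _ y x).trans (hy x)⟩
  obtain ⟨b₀, hbo, hbn⟩ := DiscType.exists_basis h2 hsym hnd
  have e : Fin (finrank F (ι → F)) ≃ κ := Fintype.equivOfCardEq (by rw [Fintype.card_fin, finrank_eq_card_basis u])
  set b := b₀.reindex e
  have hb : ∀ k, b k = b₀ (e.symm k) := fun k => Basis.reindex_apply _ _ _
  have hcκ : Fintype.card κ = 2 * m := by rw [← finrank_eq_card_basis u, Module.finrank_pi, hcard]
  have ho : ∀ i j, i ≠ j → B (b i) (b j) = 0 := fun i j h => by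
    rw [hb, hb]; exact hbo _ _ (e.symm.injective.ne h)
  have hne : ∀ i, B (b i) (b i) ≠ 0 := fun i => by rw [hb]; exact hbn _
  have hG : LinearMap.BilinForm.toMatrix u B = Matrix.of fun a c => polar Qf (u a) (u c) := by
    ext a c; rw [LinearMap.BilinForm.toMatrix_apply]; rfl
  have hdiag : LinearMap.BilinForm.toMatrix b B = Matrix.diagonal fun k => B (b k) (b k) := by
    ext i j
    rw [LinearMap.BilinForm.toMatrix_apply, Matrix.diagonal_apply]
    split_ifs with h
    · rw [h]
    · exact ho _ _ h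
  have hdet : ∏ k, B (b k) (b k) = (u.toMatrix b).det * (Matrix.of fun a c => polar Qf (u a) (u c)).det *
      (u.toMatrix b).det := by
    rw [← Matrix.det_diagonal, ← hdiag, ← LinearMap.BilinForm.toMatrix_mul_basis_toMatrix u b, hG, Matrix.det_mul,
      Matrix.det_mul, Matrix.det_transpose]
  have hP0 : (u.toMatrix b).det ≠ 0 := fun hd => Finset.prod_ne_zero_iff.mpr (fun i _ => hne i) (by
    rw [hdet, hd, zero_mul, zero_mul])
  have hiff := DiscType.half_iff h2 hsym hcκ b ho hne
  rw [hdet] at hiff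
  constructor
  · rintro ⟨U, -, hU, hd⟩
    rw [finrank_top, Module.finrank_pi, hcard] at hd
    obtain ⟨s, hs⟩ := hiff.mp ⟨U, by omega, fun x hx y hy => by
      rw [hBa, polar, hU _ (U.add_mem hx hy), hU x hx, hU y hy, sub_zero, sub_zero]⟩
    refine ⟨s / (u.toMatrix b).det, ?_⟩
    rw [div_mul_div_comm, ← hs]
    field_simp
  · rintro ⟨s, hs⟩
    obtain ⟨X, hXd, hX0⟩ := hiff.mpr ⟨(u.toMatrix b).det * s, by
      linear_combination ((u.toMatrix b).det * (u.toMatrix b).det) * hs⟩
    refine plus_of_spans hQ (U := X) (fun x hx => ?_) (by rw [hXd, hcard])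
    have := hX0 x hx x hx
    rw [hBa, polar_self, two_nsmul, ← two_mul] at this
    exact (mul_eq_zero.mp this).resolve_left h2

/-- In odd characteristic the type is given by the determinant in any basis. -/
theorem plus_of_basis_det [Fintype F] (h2 : (2 : F) ≠ 0) {m : ℕ} (hcard : Fintype.card ι = 2 * m)
    {κ : Type} [Fintype κ] [DecidableEq κ] (u : Basis κ F (ι → F))
    (hs : IsSquare ((-1 : F) ^ m * (Matrix.of fun a b => polar Q (u a) (u b)).det)) : IsPlusTypeOn Q ⊤ :=
  (plus_iff_basis_det hQ h2 hcard u).mpr hs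

/-- The same through coordinates. -/
theorem plus_of_coord_det [Fintype F] (h2 : (2 : F) ≠ 0) {m : ℕ} (hcard : Fintype.card ι = 2 * m)
    {κ : Type} [Fintype κ] [DecidableEq κ] (e : ι ≃ κ) (P : GL ι F)
    (hs : IsSquare ((-1 : F) ^ m * (gramCoord (RingEquiv.refl F) (polar Q) e P).det)) : IsPlusTypeOn Q ⊤ := by
  classical
  refine plus_of_basis_det hQ h2 hcard ((Pi.basisFun F ι).map (Matrix.GeneralLinearGroup.toLin P).toLinearEquiv |>.reindex e) ?_
  convert hs using 3
  ext a c
  have hb := semiForm_of_bilinear hQ.polar_bilinear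
  simp only [Matrix.of_apply, Basis.reindex_apply, Basis.map_apply, Pi.basisFun_apply]
  change polar Q ((P : Matrix ι ι F) *ᵥ Pi.single (e.symm a) 1) ((P : Matrix ι ι F) *ᵥ Pi.single (e.symm c) 1) = _
  have he : ∀ x : κ, (Pi.single (e.symm x) 1 : ι → F) = (Pi.single x (1 : F) : κ → F) ∘ e := fun x => by
    funext y; simp [Pi.single_apply, Equiv.eq_symm_apply]
  rw [he, he, hb.coord_apply e P]
  simp

/-- Coordinates with a totally singular half. -/
theorem plus_of_coord {κ : Type} [Fintype κ] [DecidableEq κ] (e : ι ≃ κ) (P : GL ι F) (S : Finset κ)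
    (hS : 2 * S.card = Fintype.card ι) (hq : ∀ x ∈ S, Q ((P : Matrix ι ι F) *ᵥ (Pi.single x (1 : F) ∘ e)) = 0)
    (hg : ∀ x ∈ S, ∀ y ∈ S, gramCoord (RingEquiv.refl F) (polar Q) e P x y = 0) : IsPlusTypeOn Q ⊤ := by
  classical
  let w : {x // x ∈ S} → ι → F := fun x => (P : Matrix ι ι F) *ᵥ (Pi.single x.1 (1 : F) ∘ e)
  have hw : w = fun x => (P : Matrix ι ι F) *ᵥ Pi.single (e.symm x.1) 1 := funext fun x => by
    simp only [w]
    congr 1
    funext y
    simp [Pi.single_apply, Equiv.eq_symm_apply]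
  have hli : LinearIndependent F w := by
    have h := ((Pi.basisFun F ι).linearIndependent.map' (Matrix.toLin' (P : Matrix ι ι F))
      (LinearMap.ker_eq_bot.mpr fun x y hxy => gl_mulVec_injective P (by simpa using hxy))).comp
      (fun x : {x // x ∈ S} => e.symm x.1) (e.symm.injective.comp Subtype.val_injective)
    have e1 : (⇑(Matrix.toLin' (P : Matrix ι ι F)) ∘ ⇑(Pi.basisFun F ι)) ∘ (fun x : {x // x ∈ S} => e.symm x.1) =
        fun x : {x // x ∈ S} => (P : Matrix ι ι F) *ᵥ Pi.single (e.symm x.1) 1 := by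
      funext x
      simp
    rw [e1, ← hw] at h
    exact h
  refine plus_of_spans hQ (totallySingular_span hQ w (fun x => hq _ x.2) fun x y _ => ?_)
    (by rw [finrank_span_eq_card hli, Fintype.card_coe, hS])
  rw [(semiForm_of_bilinear hQ.polar_bilinear).coord_apply e P]
  simpa [Pi.single_apply, dotProduct, Matrix.mulVec] using hg _ x.2 _ y.2

/-- Isometric orthogonal members, an even number of them: plus type. -/
theorem plus_of_isometric [Fintype F] {m : ℕ} (hcard : Fintype.card ι = 2 * m) {t k : ℕ}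
    {D : Fin t → Submodule F (ι → F)} (hD : IsOrthogonalMDecomposition Q k D) (ht : Even t)
    (hm : (2 : F) = 0 ∨ IsSquare ((-1 : F) ^ m)) : IsPlusTypeOn Q ⊤ := by
  classical
  have hbil := hQ.polar_bilinear
  have h2le := hD.decomp.decomp.two_le
  let i₀ : Fin t := ⟨0, by omega⟩
  let b := Module.finBasisOfFinrankEq F (D i₀) (hD.decomp.decomp.finrank_eq i₀)
  choose L hL using fun i => hD.isometric i₀ i
  let v : Fin t × Fin k → ι → F := fun x => (L x.1 (b x.2) : ι → F)
  have hvm : ∀ x, v x ∈ D x.1 := fun x => (L x.1 (b x.2)).2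
  have hvp : ∀ i j j', polar Q (v (i, j)) (v (i, j')) = polar Q (b j : ι → F) (b j') := fun i j j' => by
    simp only [v, QuadraticMap.polar, ← Submodule.coe_add, ← map_add, hL]
  have hcross : ∀ x y, x.1 ≠ y.1 → polar Q (v x) (v y) = 0 := fun x y h =>
    hD.decomp.orthogonal _ _ h _ (hvm x) _ (hvm y)
  have htk : Fintype.card (Fin t × Fin k) = finrank F (ι → F) := by
    rw [Module.finrank_pi, Fintype.card_prod, Fintype.card_fin, Fintype.card_fin]
    have := Cfsg.Agent.Classical.IsMDecomposition.card_eq hD.decomp.decomp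
    omega
  have hspan : ⊤ ≤ Submodule.span F (Set.range v) := by
    rw [← hD.decomp.decomp.iSup_eq_top, iSup_le_iff]
    intro i y hy
    have e1 := ((b.map (L i)).sum_repr ⟨y, hy⟩)
    have e2 : y = ∑ j, (b.map (L i)).repr ⟨y, hy⟩ j • v (i, j) := by
      conv_lhs => rw [show y = ((⟨y, hy⟩ : D i) : ι → F) from rfl, ← e1]
      simp [v]
    rw [e2]
    exact Submodule.sum_mem _ fun j _ => Submodule.smul_mem _ _ (Submodule.subset_span ⟨(i, j), rfl⟩)
  let u := basisOfTopLeSpanOfCardEqFinrank v hspan htk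
  have hu : ∀ x, u x = v x := fun x => by simp [u]
  by_cases h2 : (2 : F) = 0
  · obtain ⟨Qf, hQf, -⟩ := ONotMax.exists_qform hQ
    obtain ⟨t', rfl⟩ := ht
    let p : Fin t' × Fin k → Fin (t' + t') × Fin k := fun x => (Fin.castAdd t' x.1, x.2)
    let p' : Fin t' × Fin k → Fin (t' + t') × Fin k := fun x => (Fin.natAdd t' x.1, x.2)
    let w : Fin t' × Fin k → ι → F := fun x => v (p x) + v (p' x)
    have hne : ∀ a c : Fin t', Fin.castAdd t' a ≠ Fin.natAdd t' c := fun a c h => by
      have := congrArg Fin.val h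
      simp at this
      have := a.2
      omega
    have hwq : ∀ x, Q (w x) = 0 := fun x => by
      have h1 : polar Q (v (p x)) (v (p' x)) = 0 := hcross _ _ (hne x.1 x.1)
      have e1 : ∀ i, Q (v (i, x.2)) = Q (b x.2 : ι → F) := fun i => hL i _
      have e2 : Q (w x) = Q (v (p x)) + Q (v (p' x)) + polar Q (v (p x)) (v (p' x)) := by
        simp only [w, QuadraticMap.polar]; ring
      rw [e2, h1, add_zero, e1, e1, ← two_mul, h2, zero_mul]
    have hwp : ∀ x y, x ≠ y → polar Q (w x) (w y) = 0 := fun x y _ => by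
      simp only [w, hbil.add_left, hbil.add_right, hcross (p x) (p' y) (hne x.1 y.1),
        hcross (p' x) (p y) (Ne.symm (hne y.1 x.1))]
      by_cases hxy : x.1 = y.1
      · rw [show p y = (Fin.castAdd t' x.1, y.2) by simp [p, hxy], show p' y = (Fin.natAdd t' x.1, y.2) by simp [p', hxy],
          hvp, hvp]
        linear_combination (polar Q (b x.2 : ι → F) (b y.2)) * h2
      · rw [hcross (p x) (p y) (fun h => hxy (Fin.castAdd_injective _ _ h)),
          hcross (p' x) (p' y) (fun h => hxy (Fin.natAdd_injective _ _ h))]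
        simp
    have hwli : LinearIndependent F w := by
      rw [Fintype.linearIndependent_iff]
      intro c hc
      let d : Fin (t' + t') × Fin k → F := fun x => Fin.addCases (fun a => c (a, x.2)) (fun a => c (a, x.2)) x.1
      have hd : ∑ x, d x • v x = 0 := by
        rw [← hc, Fintype.sum_prod_type, Fin.sum_univ_add, ← Finset.sum_add_distrib, Fintype.sum_prod_type]
        refine Finset.sum_congr rfl fun a _ => ?_
        rw [← Finset.sum_add_distrib]
        refine Finset.sum_congr rfl fun j _ => ?_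
        simp only [d, w, p, p', smul_add, Fin.addCases_left, Fin.addCases_right]
      have hvli : LinearIndependent F v := by
        have := u.linearIndependent
        rwa [show (u : Fin (t' + t') × Fin k → ι → F) = v from funext hu] at this
      intro x
      simpa [d] using Fintype.linearIndependent_iff.mp hvli d hd (Fin.castAdd t' x.1, x.2)
    refine plus_of_spans hQ (totallySingular_span hQ w hwq hwp) ?_
    rw [finrank_span_eq_card hwli, Fintype.card_prod, Fintype.card_fin, Fintype.card_fin]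
    have := Cfsg.Agent.Classical.IsMDecomposition.card_eq hD.decomp.decomp
    rw [← this]; ring
  · refine plus_of_basis_det hQ h2 hcard u ?_
    set G₀ : Matrix (Fin k) (Fin k) F := Matrix.of fun j j' => polar Q (b j : ι → F) (b j')
    have hG : (Matrix.of fun x y => polar Q (u x) (u y)) = (1 : Matrix (Fin t) (Fin t) F) ⊗ₖ G₀ := by
      ext ⟨i, j⟩ ⟨i', j'⟩
      rcases eq_or_ne i i' with rfl | h
      · simp [hu, G₀, hvp]
      · simp [hu, hcross (i, j) (i', j') h, Matrix.one_apply_ne h]
    rw [hG, Matrix.det_kronecker, Matrix.det_one, one_pow, one_mul, Fintype.card_fin]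
    obtain ⟨t', rfl⟩ := ht
    exact (hm.resolve_left h2).mul ⟨G₀.det ^ t', by rw [pow_add]⟩

end Type'

end Cfsg.Agent.Classical.OEven
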