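/-
Orthogonal sums: types of the summands, isometry of summands of the same type.
-/
import Cfsg.Agent.Lib.Classical.OrthEvenBase
import Cfsg.Agent.Lib.Small.QuadModels

set_option autoImplicit false
set_option linter.unusedSectionVars false
set_option linter.style.haveILetI false

namespace Cfsg.Agent.Classical.OEven

open Matrix Module Cfsg.Geo
open QuadraticMap (polar polarBilin)

variable {ι : Type} [Fintype ι] [DecidableEq ι] {F : Type*} [Field F]

/-- Vectors with vanishing dot products fill at most half. -/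
theorem dot_orth_le {j : ℕ} {X Y : Submodule F (Fin j → F)} (h : ∀ x ∈ X, ∀ y ∈ Y, x ⬝ᵥ y = 0) :
    finrank F X + finrank F Y ≤ j := by
  have h1 : Y.map (dotProductEquiv F (Fin j)).toLinearMap ≤ X.dualAnnihilator := by
    rintro _ ⟨y, hy, rfl⟩
    rw [Submodule.mem_dualAnnihilator]
    intro x hx
    change y ⬝ᵥ x = 0
    rw [dotProduct_comm]
    exact h x hx y hy
  have h2 := Submodule.finrank_mono h1
  rw [LinearEquiv.finrank_map_eq] at h2
  have h3 := Subspace.finrank_add_finrank_dualAnnihilator_eq X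
  rw [Module.finrank_fin_fun] at h3
  omega

/-- The elliptic model has no totally singular half. -/
theorem minus_model_no_half {j : ℕ} {a c : F}
    (hac : ∀ z₁ z₂ : F, z₁ ^ 2 + a * z₁ * z₂ + c * z₂ ^ 2 = 0 → z₁ = 0 ∧ z₂ = 0)
    {U : Submodule F ((Fin j ⊕ Fin j) ⊕ Fin 2 → F)} (hU : ∀ u ∈ U, Cfsg.quadFormMinus j F a c u = 0) :
    finrank F U ≤ j := by
  classical
  let X : ((Fin j ⊕ Fin j) ⊕ Fin 2 → F) →ₗ[F] (Fin j → F) := LinearMap.funLeft F F fun i => .inl (.inl i)
  let Y : ((Fin j ⊕ Fin j) ⊕ Fin 2 → F) →ₗ[F] (Fin j → F) := LinearMap.funLeft F F fun i => .inl (.inr i)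
  set K := LinearMap.ker Y ⊓ U
  have hK : ∀ v ∈ K, ∀ i, v (.inl (.inr i)) = 0 := fun v hv i => congrFun (show Y v = 0 from hv.1) i
  have hz : ∀ v ∈ K, ∀ d, v (.inr d) = 0 := by
    intro v hv d
    have h := hU v hv.2
    simp only [Cfsg.quadFormMinus, hK v hv, mul_zero, Finset.sum_const_zero, zero_add] at h
    obtain ⟨h0, h1⟩ := hac _ _ h
    fin_cases d <;> assumption
  have hXinj : Set.InjOn X (K : Set ((Fin j ⊕ Fin j) ⊕ Fin 2 → F)) := fun u hu v hv e => by
    funext i
    rcases i with (i | i) | i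
    · exact congrFun e i
    · rw [hK u hu, hK v hv]
    · rw [hz u hu, hz v hv]
  have hdot : ∀ x ∈ K.map X, ∀ y ∈ U.map Y, x ⬝ᵥ y = 0 := by
    rintro _ ⟨v, hv, rfl⟩ _ ⟨u, hu, rfl⟩
    have h := hU (v + u) (U.add_mem hv.2 hu)
    have h' := hU u hu
    simp only [Cfsg.quadFormMinus, Pi.add_apply, hK v hv, hz v hv, zero_add, add_mul, Finset.sum_add_distrib] at h
    simp only [Cfsg.quadFormMinus] at h'
    change ∑ i, v (.inl (.inl i)) * u (.inl (.inr i)) = 0
    linear_combination h - h'
  have h1 := dot_orth_le hdot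
  have h2 : finrank F (K.map X) = finrank F K := by
    have hi : Function.Injective (X ∘ₗ K.subtype) := fun u v e => Subtype.ext (hXinj u.2 v.2 e)
    have h := LinearMap.finrank_range_of_inj hi
    rwa [LinearMap.range_comp, Submodule.range_subtype] at h
  have h3 := (Y ∘ₗ U.subtype).finrank_range_add_finrank_ker
  rw [LinearMap.range_comp, Submodule.range_subtype] at h3
  have h4 : finrank F (LinearMap.ker (Y ∘ₗ U.subtype)) ≤ finrank F K := by
    rw [LinearMap.ker_comp]
    have e : (LinearMap.ker Y).comap U.subtype = (LinearMap.ker Y ⊓ U).comap U.subtype := by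
      ext x; simp
    rw [e]
    exact (Submodule.comapSubtypeEquivOfLe (show LinearMap.ker Y ⊓ U ≤ U from inf_le_right)).finrank_eq.le
  omega

variable [Fintype F] {Q : (ι → F) → F} (hQ : IsNondegenerateQuadraticForm Q)

include hQ

/-- Nondegenerate members restrict to nondegenerate forms. -/
theorem res_nondeg {Qf : QuadraticForm F (ι → F)} (hQf : ⇑Qf = Q) {A : Submodule F (ι → F)}
    (hA : IsNondegenerateOn (polar Q) A) : (polarBilin (Qf.comp A.subtype)).Nondegenerate := by
  have hpol : ∀ u v : A, polar (Qf.comp A.subtype) u v = polar Q (u : ι → F) (v : ι → F) := fun u v => by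
    simp [polar, hQf]
  have key : ∀ v : A, (∀ w : A, polar Q (v : ι → F) (w : ι → F) = 0) → v = 0 := fun v hv => by
    by_contra hne
    obtain ⟨x, hx, hxv⟩ := (hA v v.2 fun e => hne (Subtype.ext e)).2
    exact hxv (hv ⟨x, hx⟩)
  refine ⟨fun v hv => key v fun w => ?_, fun v hv => key v fun w => ?_⟩
  · exact (hpol v w).symm.trans (hv w)
  · rw [QuadraticMap.polar_comm]
    exact (hpol w v).symm.trans (hv w)

/-- Nondegenerate subspaces of the same even dimension and type are isometric. -/
theorem isometric_of_type {A B : Submodule F (ι → F)} (hA : IsNondegenerateOn (polar Q) A)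
    (hB : IsNondegenerateOn (polar Q) B) {m : ℕ} (hm : 1 ≤ m) (hAd : finrank F A = 2 * m) (hBd : finrank F B = 2 * m)
    (ht : IsPlusTypeOn Q A ↔ IsPlusTypeOn Q B) : AreIsometricFor Q A B := by
  classical
  obtain ⟨Qf, hQf, -⟩ := ONotMax.exists_qform hQ
  obtain ⟨a, c, hac⟩ := Cfsg.Agent.Small.QuadModels.exists_aniso (F := F)
  have hval : ∀ (C : Submodule F (ι → F)) (v : C), Qf.comp C.subtype v = Q (v : ι → F) := fun C v => by simp [hQf]
  have hplus : ∀ (C : Submodule F (ι → F)) (L : (Fin m ⊕ Fin m → F) ≃ₗ[F] C),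
      (∀ v, Qf.comp C.subtype (L v) = Cfsg.quadFormPlus m F v) → IsPlusTypeOn Q C := fun C L hL => by
    let S : (Fin m → F) →ₗ[F] (Fin m ⊕ Fin m → F) :=
      { toFun := fun x => Sum.elim x 0
        map_add' := fun x y => by funext i; rcases i with i | i <;> simp
        map_smul' := fun r x => by funext i; rcases i with i | i <;> simp }
    refine ⟨LinearMap.range (C.subtype ∘ₗ L.toLinearMap ∘ₗ S), ?_, ?_, ?_⟩
    · rintro _ ⟨x, rfl⟩; exact (L (S x)).2
    · rintro _ ⟨x, rfl⟩
      exact ((hval C _).symm.trans (hL _)).trans (by simp [Cfsg.quadFormPlus, S])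
    · rw [LinearMap.finrank_range_of_inj, Module.finrank_fin_fun, L.finrank_eq.symm,
        Module.finrank_fintype_fun_eq_card, Fintype.card_sum, Fintype.card_fin]
      · omega
      · exact C.injective_subtype.comp (L.injective.comp fun x y e => funext fun i => congrFun e (.inl i))
  have hminus : ∀ (C : Submodule F (ι → F)) (L : ((Fin (m - 1) ⊕ Fin (m - 1)) ⊕ Fin 2 → F) ≃ₗ[F] C),
      finrank F C = 2 * m → (∀ v, Qf.comp C.subtype (L v) = Cfsg.quadFormMinus (m - 1) F a c v) →
      ¬ IsPlusTypeOn Q C := by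
    rintro C L hd hL ⟨U, hUC, hU, hUd⟩
    let T := (U.comap C.subtype).map L.symm.toLinearMap
    have h := minus_model_no_half hac (U := T) fun v hv => by
      obtain ⟨w, hw, rfl⟩ := hv
      rw [← hL, LinearEquiv.coe_coe, LinearEquiv.apply_symm_apply, hval]
      exact hU _ hw
    rw [LinearEquiv.finrank_map_eq, (Submodule.comapSubtypeEquivOfLe hUC).finrank_eq] at h
    omega
  have key : ∀ {μ : Type} (S : (μ → F) → F) (LA : (μ → F) ≃ₗ[F] A) (LB : (μ → F) ≃ₗ[F] B),
      (∀ v, Qf.comp A.subtype (LA v) = S v) → (∀ v, Qf.comp B.subtype (LB v) = S v) → AreIsometricFor Q A B :=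
    fun S LA LB h1 h2 => ⟨LA.symm.trans LB, fun w => by
      rw [← hval B, LinearEquiv.trans_apply, h2, ← h1, LinearEquiv.apply_symm_apply, hval]⟩
  rcases Cfsg.Agent.Small.QuadModels.even_model (Qf.comp A.subtype) hm hAd (res_nondeg hQ hQf hA) a c hac with
    ⟨LA, hLA⟩ | ⟨LA, hLA⟩ <;>
    rcases Cfsg.Agent.Small.QuadModels.even_model (Qf.comp B.subtype) hm hBd (res_nondeg hQ hQf hB) a c hac with
      ⟨LB, hLB⟩ | ⟨LB, hLB⟩
  · exact key _ LA LB hLA hLB
  · exact absurd (ht.mp (hplus A LA hLA)) (hminus B LB hBd hLB)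
  · exact absurd (ht.mpr (hplus B LB hLB)) (hminus A LA hAd hLA)
  · exact key _ LA LB hLA hLB

/-- A plus type summand in a space of plus type: the complement has plus type. -/
theorem split_plus {A B : Submodule F (ι → F)} (hA : IsNondegenerateOn (polar Q) A)
    (hperp : ∀ x ∈ A, ∀ y ∈ B, polar Q x y = 0) (hsup : A ⊔ B = ⊤)
    (hdim : finrank F A + finrank F B = Fintype.card ι)
    (hAp : IsPlusTypeOn Q A) (hV : IsPlusTypeOn Q ⊤) : IsPlusTypeOn Q B := by
  classical
  obtain ⟨Qf, hQf, hP⟩ := ONotMax.exists_qform hQ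
  obtain ⟨U, hUA, hU, hUd⟩ := hAp
  obtain ⟨L, -, hL, hLd⟩ := hV
  rw [finrank_top, Module.finrank_pi] at hLd
  -- a totally singular half through the half of `A`
  have hext : ∀ n, finrank F U + n ≤ finrank F L →
      ∃ W : Submodule F (ι → F), U ≤ W ∧ finrank F W = finrank F U + n ∧ IsTotallySingularQuad Q W := by
    intro n
    induction n with
    | zero => exact fun _ => ⟨U, le_rfl, rfl, hU⟩
    | succ n ih =>
      intro hn
      obtain ⟨W, hUW, hWd, hW⟩ := ih (by omega)
      obtain ⟨W', h1, h2, h3⟩ := Witt.exists_extend Qf (ORefl.nondeg hP) (U := W) (L := L)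
        (fun w hw => hQf ▸ hW w hw) (fun w hw => hQf ▸ hL w hw) (by omega)
      exact ⟨W', hUW.trans h1, by omega, fun w hw => hQf ▸ h3 w hw⟩
  have hhalf : finrank F U ≤ finrank F L := by omega
  obtain ⟨W, hUW, hWd, hW⟩ := hext (finrank F L - finrank F U) (by omega)
  have hdisj : Disjoint A B := by
    have h := Submodule.finrank_sup_add_finrank_inf_eq A B
    rw [hsup, finrank_top, Module.finrank_pi] at h
    exact disjoint_iff.mpr (Submodule.finrank_eq_zero.mp (show finrank F ↥(A ⊓ B) = 0 by omega))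
  have hc : IsCompl A B := ⟨hdisj, codisjoint_iff.mpr hsup⟩
  let π := B.projectionOnto A hc.symm
  let T := B.subtype ∘ₗ π ∘ₗ W.subtype
  -- the part in `A` lies in `U`
  have hperpU : ∀ a ∈ A, (∀ u ∈ U, polar Q u a = 0) → a ∈ U := by
    set U' := U.comap A.subtype
    have hU'd : finrank F U' = finrank F U := (Submodule.comapSubtypeEquivOfLe hUA).finrank_eq
    have horth := LinearMap.BilinForm.finrank_orthogonal (res_nondeg hQ hQf hA) U'
    have hle : U' ≤ LinearMap.BilinForm.orthogonal (polarBilin (Qf.comp A.subtype)) U' :=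
      Witt.le_orth _ fun w hw => by
        change Qf (w : ι → F) = 0
        rw [hQf]; exact hU _ hw
    have heq := Submodule.eq_of_le_of_finrank_le hle (by omega)
    intro a ha h
    have : (⟨a, ha⟩ : A) ∈ LinearMap.BilinForm.orthogonal (polarBilin (Qf.comp A.subtype)) U' := fun y hy => by
      change polar (Qf.comp A.subtype) y ⟨a, ha⟩ = 0
      have := h y hy
      simpa [polar, hQf] using this
    rw [← heq] at this
    exact this
  have hWU : ∀ v ∈ W, ∀ u ∈ U, polar Q u v = 0 := fun v hv u hu => by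
    rw [polar, hW _ (W.add_mem (hUW hu) hv), hU u hu, hW v hv, sub_zero, sub_zero]
  have hsub : ∀ v : W, (v : ι → F) - (π v : ι → F) ∈ U ∧ Q (π v : ι → F) = 0 := fun v => by
    have ha : (v : ι → F) - (π v : ι → F) ∈ A := by
      have e : π ((v : ι → F) - (π v : ι → F)) = 0 := by
        rw [map_sub, Submodule.projectionOnto_apply_left, sub_self]
      exact (Submodule.projectionOnto_apply_eq_zero_iff hc.symm).mp e
    have hau : (v : ι → F) - (π v : ι → F) ∈ U := hperpU _ ha fun u hu => by
      have h1 := hWU v v.2 u hu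
      have h2 := hperp u (hUA hu) (π v : ι → F) (π v).2
      have h3 : polar Q u (v : ι → F) = polar Q u ((v : ι → F) - (π v : ι → F)) + polar Q u (π v : ι → F) := by
        rw [← hQ.polar_bilinear.add_right, sub_add_cancel]
      rw [h1, h2, add_zero] at h3
      exact h3.symm
    refine ⟨hau, ?_⟩
    have h1 : polar Q ((v : ι → F) - (π v : ι → F)) (π v : ι → F) = 0 := hperp _ ha _ (π v).2
    rw [polar, sub_add_cancel, hW v v.2, hU _ hau, sub_zero, zero_sub, neg_eq_zero] at h1
    exact h1
  refine ⟨LinearMap.range T, ?_, ?_, ?_⟩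
  · rintro _ ⟨v, rfl⟩; exact (π v).2
  · rintro _ ⟨v, rfl⟩; exact (hsub v).2
  · have hk : finrank F (LinearMap.ker T) ≤ finrank F U := by
      have hle : LinearMap.ker T ≤ U.comap W.subtype := fun v hv => by
        have := (hsub v).1
        have e : (π v : ι → F) = 0 := hv
        rwa [e, sub_zero] at this
      exact (Submodule.finrank_mono hle).trans (Submodule.comapSubtypeEquivOfLe hUW).finrank_eq.le
    have h1 := T.finrank_range_add_finrank_ker
    have h2 : 2 * finrank F (LinearMap.range T) ≤ finrank F B := by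
      -- a totally singular subspace of the nondegenerate complement
      have hB : IsNondegenerateOn (polar Q) B := fun b hb hb0 => by
        obtain ⟨x, hx⟩ := (hQ.nondegenerate b hb0).2
        obtain ⟨a', ha', b', hb', rfl⟩ := Submodule.mem_sup.mp (hsup ▸ Submodule.mem_top : x ∈ A ⊔ B)
        have e : polar Q b (a' + b') = polar Q b b' := by
          rw [hQ.polar_bilinear.add_right, QuadraticMap.polar_comm Q b a', hperp a' ha' b hb, zero_add]
        rw [e] at hx
        exact ⟨⟨b', hb', by rwa [QuadraticMap.polar_comm]⟩, b', hb', hx⟩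
      have h := Witt.finrank_le_half (Qf.comp B.subtype) (res_nondeg hQ hQf hB)
        (W := (LinearMap.range T).comap B.subtype) (fun w hw => by
          obtain ⟨v, hv⟩ := hw
          change Qf (w : ι → F) = 0
          have := (hsub v).2
          rw [hQf]
          change Q (B.subtype w) = 0
          rw [← hv]
          exact this)
      rwa [(Submodule.comapSubtypeEquivOfLe (show LinearMap.range T ≤ B by rintro _ ⟨v, rfl⟩; exact (π v).2)).finrank_eq] at h
    omega

/-- Isometric subspaces have the same type. -/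
theorem plus_of_iso {A B : Submodule F (ι → F)} (h : AreIsometricFor Q A B) (hA : IsPlusTypeOn Q A) :
    IsPlusTypeOn Q B := by
  obtain ⟨e, he⟩ := h
  obtain ⟨U, hUA, hU, hUd⟩ := hA
  refine ⟨((U.comap A.subtype).map e.toLinearMap).map B.subtype, Submodule.map_subtype_le _ _, ?_, ?_⟩
  · rintro _ ⟨_, ⟨w, hw, rfl⟩, rfl⟩
    exact (he w).trans (hU _ hw)
  · rw [Submodule.finrank_map_subtype_eq, LinearEquiv.finrank_map_eq,
      (Submodule.comapSubtypeEquivOfLe hUA).finrank_eq, hUd, e.finrank_eq]

end Cfsg.Agent.Classical.OEven
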