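import Cfsg.Agent.Lib.Classical.ExtraspecialEigenBasic
import Mathlib.LinearAlgebra.Eigenspace.Triangularizable
import Mathlib.RingTheory.Int.Basic
import Mathlib.Tactic.NormNum.Prime
import Mathlib.FieldTheory.KummerExtension

/-!
Eigenspace bounds for an element of prime order normalising an absolutely irreducible extraspecial group, stated for a
family of invertible operators indexed by the central quotient.
-/

set_option autoImplicit false

namespace Cfsg.Agent.Classical.EigenBound

open Module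

variable {K : Type*} [Field K] [IsAlgClosed K] {V : Type*} [AddCommGroup V] [Module K V] [FiniteDimensional K V]

/-- Operators indexed by an elementary abelian group, multiplicative up to scalars, permuted up to scalars by `g`. -/
structure Setup (Q : Type*) [CommGroup Q] [Fintype Q] (r ϖ : ℕ) (g : (Module.End K V)ˣ) where
  M : Q → (Module.End K V)ˣ
  hmul : ∀ a b, ∃ c : K, (M (a * b) : Module.End K V) = c • ((M a : Module.End K V) * M b)
  hr : r.Prime
  hexp : ∀ a : Q, a ^ r = 1
  hcard : Fintype.card Q = finrank K V ^ 2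
  e : Q → Q → K
  he : ∀ a b, (M a : Module.End K V) * M b = e a b • ((M b : Module.End K V) * M a)
  sep : ∀ a, a ≠ 1 → ∃ b, e a b ≠ 1
  φ : Q → Q
  s : Q → K
  hg : ∀ a, (g : Module.End K V) * M a = s a • ((M (φ a) : Module.End K V) * g)
  hϖ : ϖ.Prime
  hgpow : g ^ ϖ = 1
  hns : ∀ c : K, (g : Module.End K V) ≠ c • 1
  hV : Nontrivial V

variable {Q : Type*} [CommGroup Q] [Fintype Q] {r ϖ : ℕ} {g : (Module.End K V)ˣ} (D : Setup Q r ϖ g)

namespace Setup

theorem smul_left_inj {X : (Module.End K V)ˣ} (D : Setup Q r ϖ g) {c d : K}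
    (h : c • (X : Module.End K V) = d • (X : Module.End K V)) : c = d :=
  haveI := D.hV
  smul_left_injective K X.ne_zero h

theorem mul_unit (D : Setup Q r ϖ g) (X Y : (Module.End K V)ˣ) {c d : K}
    (h : c • ((X : Module.End K V) * Y) = d • ((X : Module.End K V) * Y)) : c = d :=
  D.smul_left_inj (X := X * Y) (by rwa [Units.val_mul])

theorem e_mul (a b d : Q) : D.e (a * b) d = D.e a d * D.e b d := by
  obtain ⟨c, hc⟩ := D.hmul a b
  have hc0 : c ≠ 0 := by
    haveI := D.hV
    rintro rfl
    exact (D.M (a * b)).ne_zero (by rw [hc, zero_smul])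
  have h1 := D.he (a * b) d
  rw [hc, smul_mul_assoc, mul_smul_comm, smul_smul, mul_assoc, D.he b d, mul_smul_comm, ← mul_assoc, D.he a d,
    smul_mul_assoc, smul_smul, smul_smul, mul_assoc (D.M d : Module.End K V), mul_comm (D.e (a * b) d)] at h1
  have := D.mul_unit (D.M d) (D.M a * D.M b) (by simpa using h1)
  apply mul_left_cancel₀ hc0
  linear_combination -this

theorem e_symm (a b : Q) : D.e a b * D.e b a = 1 := by
  have h := D.he a b
  rw [D.he b a, smul_smul] at h
  exact (D.mul_unit (D.M a) (D.M b) (by rw [one_smul]; exact h.symm))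

theorem e_ne (a b : Q) : D.e a b ≠ 0 := fun h => by
  have := D.e_symm a b; rw [h, zero_mul] at this; exact zero_ne_one this

theorem e_one (d : Q) : D.e 1 d = 1 := by
  have h := D.e_mul 1 1 d
  rw [mul_one] at h
  have : D.e 1 d * (D.e 1 d - 1) = 0 := by linear_combination -h
  exact sub_eq_zero.mp ((mul_eq_zero.mp this).resolve_left (D.e_ne _ _))

theorem e_mul_right (a b d : Q) : D.e a (b * d) = D.e a b * D.e a d := by
  have h1 := D.e_symm a (b * d)
  rw [D.e_mul] at h1
  have h2 := D.e_symm a b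
  have h3 := D.e_symm a d
  linear_combination (D.e a b * D.e a d) * h1 - D.e a (b * d) * h2 -
    D.e a (b * d) * D.e a b * D.e b a * h3

theorem e_pow (a d : Q) : D.e a d ^ r = 1 := by
  have : ∀ n : ℕ, D.e (a ^ n) d = D.e a d ^ n := by
    intro n
    induction n with
    | zero => rw [pow_zero, pow_zero, D.e_one]
    | succ n ih => rw [pow_succ, pow_succ, D.e_mul, ih]
  rw [← this, D.hexp, D.e_one]

theorem e_self (a : Q) : D.e a a = 1 := by
  have h := D.he a a
  exact D.mul_unit (D.M a) (D.M a) (by rw [one_smul]; exact h.symm)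

theorem sep' (a b : Q) (h : a ≠ b) : ∃ d, D.e a d ≠ D.e b d := by
  obtain ⟨d, hd⟩ := D.sep (a * b⁻¹) (fun h' => h (mul_inv_eq_one.mp h'))
  refine ⟨d, fun he => hd ?_⟩
  have h1 := D.e_mul (a * b⁻¹) b d
  rw [inv_mul_cancel_right, he] at h1
  have : (D.e (a * b⁻¹) d - 1) * D.e b d = 0 := by linear_combination -h1
  exact sub_eq_zero.mp ((mul_eq_zero.mp this).resolve_right (D.e_ne _ _))

theorem indep : LinearIndependent K fun a => (D.M a : Module.End K V) :=
  haveI := D.hV
  (card_le_sq (fun a => (D.M a : Module.End K V)) (fun a => (D.M a).isUnit) D.e D.he D.sep').1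

theorem exists_repr (T : Module.End K V) : ∃ a : Q → K, ∑ q, a q • (D.M q : Module.End K V) = T := by
  have hspan := D.indep.span_eq_top_of_card_eq_finrank' (by rw [D.hcard, Module.finrank_linearMap, sq])
  exact (Submodule.mem_span_range_iff_exists_fun K).mp (hspan ▸ Submodule.mem_top)

theorem repr_unique {a b : Q → K}
    (h : ∑ q, a q • (D.M q : Module.End K V) = ∑ q, b q • (D.M q : Module.End K V)) : a = b :=
  funext fun q => by
    have h0 : ∑ q, (a q - b q) • (D.M q : Module.End K V) = 0 := by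
      simp only [sub_smul, Finset.sum_sub_distrib, h, sub_self]
    exact sub_eq_zero.mp (Fintype.linearIndependent_iff.mp D.indep _ h0 q)

theorem eq_of_smul {a b : Q} {c : K} (h : (D.M a : Module.End K V) = c • (D.M b : Module.End K V)) : a = b := by
  classical
  by_contra hab
  have h' := D.repr_unique (a := Pi.single a 1) (b := Pi.single b c) (by
    rw [Finset.sum_eq_single a (fun q _ hq => by simp [hq]) (by simp),
      Finset.sum_eq_single b (fun q _ hq => by simp [hq]) (by simp)]
    simpa using h)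
  have := congrFun h' a
  simp [hab] at this

theorem s_ne (a : Q) : D.s a ≠ 0 := fun h => by
  have h1 := D.hg a
  rw [h, zero_smul] at h1
  haveI := D.hV
  exact (g * D.M a).ne_zero (by rw [Units.val_mul]; exact h1)

theorem hg_inv (a : Q) : (g : Module.End K V) * D.M a * (↑g⁻¹ : Module.End K V) = D.s a • (D.M (D.φ a) : Module.End K V) := by
  rw [D.hg, smul_mul_assoc, mul_assoc, Units.mul_inv, mul_one]

theorem φ_mul (a b : Q) : D.φ (a * b) = D.φ a * D.φ b := by
  obtain ⟨c, hc⟩ := D.hmul a b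
  obtain ⟨c', hc'⟩ := D.hmul (D.φ a) (D.φ b)
  have h1 := D.hg_inv (a * b)
  rw [hc, mul_smul_comm, smul_mul_assoc,
    show (g : Module.End K V) * ((D.M a : Module.End K V) * D.M b) * (↑g⁻¹ : Module.End K V) =
      ((g : Module.End K V) * D.M a * (↑g⁻¹ : Module.End K V)) * ((g : Module.End K V) * D.M b * (↑g⁻¹ : Module.End K V)) by
      simp only [mul_assoc, Units.inv_mul_cancel_left],
    D.hg_inv, D.hg_inv, smul_mul_smul_comm, smul_smul] at h1
  have hc'0 : c' ≠ 0 := by
    haveI := D.hV
    rintro rfl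
    exact (D.M (D.φ a * D.φ b)).ne_zero (by rw [hc', zero_smul])
  have h2 : ((D.M (D.φ a) : Module.End K V) * D.M (D.φ b)) = c'⁻¹ • (D.M (D.φ a * D.φ b) : Module.End K V) := by
    rw [hc', smul_smul, inv_mul_cancel₀ hc'0, one_smul]
  rw [h2, smul_smul] at h1
  refine D.eq_of_smul (c := (D.s (a * b))⁻¹ * (c * (D.s a * D.s b) * c'⁻¹)) ?_
  rw [mul_smul, h1, smul_smul, inv_mul_cancel₀ (D.s_ne _), one_smul]

theorem φ_one : D.φ 1 = 1 := by
  have h := D.φ_mul 1 1
  rw [mul_one] at h
  exact left_eq_mul.mp h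

theorem iterate_rel (n : ℕ) (a : Q) :
    ∃ c : K, c ≠ 0 ∧ ((g ^ n : (Module.End K V)ˣ) : Module.End K V) * D.M a * (↑(g ^ n)⁻¹ : Module.End K V) =
      c • (D.M (D.φ^[n] a) : Module.End K V) := by
  induction n with
  | zero => exact ⟨1, one_ne_zero, by simp⟩
  | succ n ih =>
    obtain ⟨c, hc0, hc⟩ := ih
    refine ⟨c * D.s (D.φ^[n] a), mul_ne_zero hc0 (D.s_ne _), ?_⟩
    rw [pow_succ' g n, _root_.mul_inv_rev, Units.val_mul, Units.val_mul,
      show (g : Module.End K V) * ((g ^ n : (Module.End K V)ˣ) : Module.End K V) * D.M a *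
        ((↑(g ^ n)⁻¹ : Module.End K V) * (↑g⁻¹ : Module.End K V)) = (g : Module.End K V) *
        (((g ^ n : (Module.End K V)ˣ) : Module.End K V) * D.M a * (↑(g ^ n)⁻¹ : Module.End K V)) * (↑g⁻¹ : Module.End K V) by
        simp only [mul_assoc],
      hc, mul_smul_comm, smul_mul_assoc, D.hg_inv, smul_smul, Function.iterate_succ_apply']

theorem φ_period (a : Q) : D.φ^[ϖ] a = a := by
  obtain ⟨c, -, h⟩ := D.iterate_rel ϖ a
  rw [D.hgpow] at h
  simp only [Units.val_one, one_mul, inv_one, mul_one] at h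
  exact (D.eq_of_smul h).symm

theorem e_φ (a b : Q) : D.e (D.φ a) (D.φ b) = D.e a b := by
  have h1 := D.he a b
  have h2 := congrArg (fun X => (g : Module.End K V) * X * (↑g⁻¹ : Module.End K V)) h1
  simp only [mul_smul_comm, smul_mul_assoc] at h2
  rw [show (g : Module.End K V) * ((D.M a : Module.End K V) * D.M b) * (↑g⁻¹ : Module.End K V) =
      ((g : Module.End K V) * D.M a * (↑g⁻¹ : Module.End K V)) * ((g : Module.End K V) * D.M b * (↑g⁻¹ : Module.End K V)) by
      simp only [mul_assoc, Units.inv_mul_cancel_left],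
    show (g : Module.End K V) * ((D.M b : Module.End K V) * D.M a) * (↑g⁻¹ : Module.End K V) =
      ((g : Module.End K V) * D.M b * (↑g⁻¹ : Module.End K V)) * ((g : Module.End K V) * D.M a * (↑g⁻¹ : Module.End K V)) by
      simp only [mul_assoc, Units.inv_mul_cancel_left],
    D.hg_inv, D.hg_inv, smul_mul_smul_comm, smul_mul_smul_comm, D.he (D.φ a) (D.φ b), smul_smul, smul_smul] at h2
  have := D.mul_unit _ _ h2
  apply mul_left_cancel₀ (mul_ne_zero (D.s_ne a) (D.s_ne b))
  linear_combination this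

/-- The fixed subgroup. -/
def C : Subgroup Q where
  carrier := {a | D.φ a = a}
  mul_mem' {a b} (ha : D.φ a = a) (hb : D.φ b = b) := show D.φ (a * b) = a * b by rw [D.φ_mul, ha, hb]
  one_mem' := D.φ_one
  inv_mem' {a} (ha : D.φ a = a) := show D.φ a⁻¹ = a⁻¹ by
    have h := D.φ_mul a⁻¹ a
    rw [inv_mul_cancel, D.φ_one, ha] at h
    exact eq_inv_of_mul_eq_one_left h.symm

theorem mem_C {a : Q} : a ∈ D.C ↔ D.φ a = a := Iff.rfl

theorem s_mul {a b : Q} (ha : a ∈ D.C) (hb : b ∈ D.C) : D.s (a * b) = D.s a * D.s b := by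
  obtain ⟨c, hc⟩ := D.hmul a b
  have h1 := D.hg_inv (a * b)
  rw [D.mem_C.mp (mul_mem ha hb), hc, mul_smul_comm, smul_mul_assoc,
    show (g : Module.End K V) * ((D.M a : Module.End K V) * D.M b) * (↑g⁻¹ : Module.End K V) =
      ((g : Module.End K V) * D.M a * (↑g⁻¹ : Module.End K V)) * ((g : Module.End K V) * D.M b * (↑g⁻¹ : Module.End K V)) by
      simp only [mul_assoc, Units.inv_mul_cancel_left],
    D.hg_inv, D.hg_inv, D.mem_C.mp ha, D.mem_C.mp hb, smul_mul_smul_comm, smul_smul, smul_smul] at h1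
  have hc0 : c ≠ 0 := by
    haveI := D.hV
    rintro rfl
    exact (D.M (a * b)).ne_zero (by rw [hc, zero_smul])
  have := D.mul_unit _ _ h1
  apply mul_left_cancel₀ hc0
  linear_combination -this

theorem s_one : D.s 1 = 1 := by
  have h := D.s_mul D.C.one_mem D.C.one_mem
  rw [mul_one] at h
  exact mul_right_cancel₀ (D.s_ne 1) (by rw [one_mul]; exact h.symm)

theorem s_pow {a : Q} (ha : a ∈ D.C) : D.s a ^ r = 1 := by
  have : ∀ n : ℕ, D.s (a ^ n) = D.s a ^ n := by
    intro n
    induction n with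
    | zero => rw [pow_zero, pow_zero, D.s_one]
    | succ n ih => rw [pow_succ, pow_succ, D.s_mul (pow_mem ha n) ha, ih]
  rw [← this, D.hexp, D.s_one]

/-- The fixed points with trivial scalar. -/
def C₀ : Subgroup Q where
  carrier := {a | D.φ a = a ∧ D.s a = 1}
  mul_mem' {a b} ha hb := ⟨D.C.mul_mem ha.1 hb.1, by rw [D.s_mul ha.1 hb.1, ha.2, hb.2, one_mul]⟩
  one_mem' := ⟨D.φ_one, D.s_one⟩
  inv_mem' {a} ha := by
    refine ⟨D.C.inv_mem ha.1, ?_⟩
    have h := D.s_mul (D.C.inv_mem ha.1) ha.1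
    rw [inv_mul_cancel, D.s_one, ha.2, mul_one] at h
    exact h.symm

theorem C₀_le : D.C₀ ≤ D.C := fun _ h => h.1

/-- The orbit bound for the centraliser. -/
theorem cen_bound :
    ϖ * finrank K (cen (g : Module.End K V)) + Nat.card D.C ≤ ϖ * Nat.card D.C₀ + Nat.card Q := by
  classical
  let L : (Q → K) →ₗ[K] Module.End K V := Fintype.linearCombination K fun q => (D.M q : Module.End K V)
  have hL : ∀ a, L a = ∑ q, a q • (D.M q : Module.End K V) := fun a => Fintype.linearCombination_apply K _ a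
  let Z : Submodule K (Q → K) := (cen (g : Module.End K V)).comap L
  have hinj : Function.Injective D.φ := fun a b h => by
    have e := congrArg (D.φ^[ϖ - 1]) h
    rwa [← Function.iterate_succ_apply, ← Function.iterate_succ_apply,
      show (ϖ - 1).succ = ϖ from Nat.succ_pred_eq_of_pos D.hϖ.pos, D.φ_period, D.φ_period] at e
  have hZ : ∀ a ∈ Z, ∀ q, a (D.φ q) = D.s q * a q := by
    intro a ha q
    have ha' := mem_cen.mp ha
    rw [hL, Finset.mul_sum, Finset.sum_mul] at ha'
    simp only [mul_smul_comm, D.hg, smul_smul, smul_mul_assoc] at ha'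
    have hbij : Function.Bijective D.φ := Finite.injective_iff_bijective.mp hinj
    rw [← (Equiv.ofBijective D.φ hbij).sum_comp (fun x => a x • ((D.M x : Module.End K V) * g))] at ha'
    simp only [Equiv.ofBijective_apply] at ha'
    have h0 : (∑ x, (a x * D.s x - a (D.φ x)) • (D.M (D.φ x) : Module.End K V)) * (g : Module.End K V) = 0 := by
      rw [Finset.sum_mul]
      simp only [sub_smul, smul_mul_assoc, sub_mul, Finset.sum_sub_distrib]
      rw [ha', sub_self]
    have h1 := (Units.mul_left_eq_zero g).mp h0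
    have h2 := Fintype.linearIndependent_iff.mp (D.indep.comp D.φ hinj) _ h1 q
    linear_combination -h2
  have hfin : finrank K (cen (g : Module.End K V)) ≤ finrank K Z := by
    have hsurj : ∀ T ∈ cen (g : Module.End K V), ∃ a ∈ Z, L a = T := fun T hT => by
      obtain ⟨a, ha⟩ := D.exists_repr T
      exact ⟨a, Submodule.mem_comap.mpr (by rw [hL, ha]; exact hT), by rw [hL, ha]⟩
    calc finrank K (cen (g : Module.End K V)) ≤ finrank K (Z.map L) :=
          Submodule.finrank_mono fun T hT => Submodule.mem_map.mpr (hsurj T hT)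
      _ ≤ finrank K Z := Submodule.finrank_map_le _ _
  have h := finrank_fixed_le D.φ D.hϖ D.φ_period D.s D.s_ne Z hZ
  have e1 : Nat.card {q // D.φ q = q} = Nat.card D.C := rfl
  have e2 : Nat.card {q // D.φ q = q ∧ D.s q = 1} = Nat.card D.C₀ := rfl
  rw [e1, e2, ← Nat.card_eq_fintype_card] at h
  have := Nat.mul_le_mul (le_refl ϖ) hfin
  omega

/-- The map `a ↦ φ a * a⁻¹`. -/
def δ : Q →* Q := MonoidHom.mk' (fun a => D.φ a * a⁻¹) fun a b => by
  rw [D.φ_mul, mul_inv, mul_mul_mul_comm]

theorem δ_ker : D.δ.ker = D.C := by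
  ext a
  rw [MonoidHom.mem_ker, D.mem_C]
  exact mul_inv_eq_one

theorem e_δ {c : Q} (hc : c ∈ D.C) (a : Q) : D.e c (D.δ a) = 1 := by
  have h1 := D.e_mul_right c (D.δ a) a
  rw [show D.δ a * a = D.φ a from inv_mul_cancel_right _ _] at h1
  conv at h1 => lhs; rw [← D.mem_C.mp hc, D.e_φ]
  exact mul_right_cancel₀ (D.e_ne c a) (by rw [one_mul]; exact h1.symm)

theorem disjoint_range (hne : r ≠ ϖ) (a : Q) (h : D.δ a ∈ D.C) : D.δ a = 1 := by
  have hit : ∀ n, D.φ^[n] a = a * D.δ a ^ n := by
    intro n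
    induction n with
    | zero => simp
    | succ n ih =>
      have : D.φ (D.δ a ^ n) = D.δ a ^ n := D.mem_C.mp (pow_mem h n)
      rw [Function.iterate_succ_apply', ih, D.φ_mul, this, pow_succ, show D.φ a = D.δ a * a from
        (inv_mul_cancel_right _ _).symm]
      ac_rfl
  have h1 := hit ϖ
  rw [D.φ_period, left_eq_mul] at h1
  have := (pow_gcd_eq_one (a := D.δ a)).mpr ⟨D.hexp (D.δ a), h1⟩
  rwa [(Nat.coprime_primes D.hr D.hϖ).mpr hne, pow_one] at this

theorem card_split : Nat.card D.δ.range * Nat.card D.C = Nat.card Q := by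
  rw [← Subgroup.index_ker D.δ, D.δ_ker, Subgroup.index_mul_card]

include D in
theorem isPGroup_Q : IsPGroup r Q := fun a => ⟨1, by rw [pow_one]; exact D.hexp a⟩

/-- The commutation of `M u` with `M z`, packaged for the eigenspace bound. -/
theorem eig_bound {u : Q} (hu : u ≠ 1) {c : K} (hc : c ≠ 0) :
    r * finrank K (End.eigenspace (D.M u : Module.End K V) c) ≤ finrank K V := by
  obtain ⟨z, hz⟩ := D.sep u hu
  haveI := Fact.mk D.hr
  exact eig_mul_le _ (D.M z) (IsPrimitiveRoot.iff_orderOf.mpr (orderOf_eq_prime (D.e_pow u z) hz)) (D.he u z) hc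

theorem g_smul_eigen {c : K} {v : V} (hv : v ∈ End.eigenspace (g : Module.End K V) c) :
    (g : Module.End K V) v = c • v := End.mem_eigenspace_iff.mp hv

/-- Any element not fixed gives a bound for the eigenspaces. -/
theorem translate_bound (y : Q) (hy : D.φ y ≠ y) {c : K} (hc : c ≠ 0) :
    2 * r * finrank K (End.eigenspace (g : Module.End K V) c) ≤ (r + 1) * finrank K V := by
  set W := End.eigenspace (g : Module.End K V) c
  set u := D.δ y
  have hu : u ≠ 1 := fun h => hy (mul_inv_eq_one.mp h)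
  obtain ⟨d, hd⟩ := D.hmul u y
  rw [show u * y = D.φ y from inv_mul_cancel_right _ _] at hd
  have hd0 : d ≠ 0 := by
    haveI := D.hV
    rintro rfl
    exact (D.M (D.φ y)).ne_zero (by rw [hd, zero_smul])
  let Y : V ≃ₗ[K] V := LinearMap.GeneralLinearGroup.generalLinearEquiv K V (D.M y)
  have hsub : W ⊓ W.map (D.M y : Module.End K V) ≤
      End.eigenspace (D.M u : Module.End K V) (d * D.s y)⁻¹ := by
    intro v hv
    obtain ⟨hv1, hv2⟩ := Submodule.mem_inf.mp hv
    obtain ⟨x, hx, rfl⟩ := Submodule.mem_map.mp hv2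
    rw [End.mem_eigenspace_iff]
    have h1 : (D.M (D.φ y) : Module.End K V) ((g : Module.End K V) x) =
        d • (D.M u : Module.End K V) ((D.M y : Module.End K V) (c • x)) := by
      rw [hd, LinearMap.smul_apply, Module.End.mul_apply, g_smul_eigen hx]
    have h2 := LinearMap.congr_fun (D.hg y) x
    simp only [Module.End.mul_apply, LinearMap.smul_apply, h1, map_smul, smul_smul] at h2
    rw [g_smul_eigen hv1] at h2
    rw [eq_inv_smul_iff₀ (mul_ne_zero hd0 (D.s_ne y))]
    apply smul_right_injective V hc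
    simp only [smul_smul]
    rw [h2]
    congr 1
    ring
  have h3 := Submodule.finrank_mono hsub
  have h4 := Submodule.finrank_sup_add_finrank_inf_eq W (W.map (D.M y : Module.End K V))
  have h5 : finrank K (W.map (D.M y : Module.End K V)) = finrank K W := LinearEquiv.finrank_map_eq Y W
  have h6 := Submodule.finrank_le (W ⊔ W.map (D.M y : Module.End K V))
  have h7 := D.eig_bound hu (c := (d * D.s y)⁻¹) (inv_ne_zero (mul_ne_zero hd0 (D.s_ne y)))
  rw [h5] at h4
  have h8 : 2 * finrank K W ≤ finrank K V + finrank K (End.eigenspace (D.M u : Module.End K V) (d * D.s y)⁻¹) := by omega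
  nlinarith [Nat.mul_le_mul (le_refl r) h8]

/-- Inner elements. -/
theorem inner_bound (h : ∀ a, D.φ a = a) {c : K} (hc : c ≠ 0) :
    r * finrank K (End.eigenspace (g : Module.End K V) c) ≤ finrank K V := by
  obtain ⟨a, ha⟩ : ∃ a, D.s a ≠ 1 := by
    by_contra hcon
    push Not at hcon
    obtain ⟨x, hx⟩ := D.exists_repr (g : Module.End K V)
    -- `g` commutes with everything, so it is supported at the identity
    obtain ⟨c₁, hc₁⟩ := D.hmul 1 1
    rw [mul_one] at hc₁
    have hx1 : ∀ q, q ≠ 1 → x q = 0 := by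
      intro q hq
      obtain ⟨d, hd⟩ := D.sep q hq
      have h1 := D.hg d
      rw [hcon, h, one_smul, ← hx, Finset.sum_mul, Finset.mul_sum] at h1
      have h2 : ∀ i, x i • (D.M i : Module.End K V) * D.M d =
          (x i * D.e i d) • ((D.M d : Module.End K V) * D.M i) := fun i => by
        rw [smul_mul_assoc, D.he i d, smul_smul]
      have h0 : (D.M d : Module.End K V) * ∑ i, (x i * (D.e i d - 1)) • (D.M i : Module.End K V) = 0 := by
        rw [Finset.mul_sum]
        simp only [mul_smul_comm, mul_sub, mul_one, sub_smul, Finset.sum_sub_distrib]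
        rw [Finset.sum_congr rfl fun i _ => h2 i] at h1
        simp only [mul_smul_comm] at h1
        rw [h1, sub_self]
      have := Fintype.linearIndependent_iff.mp D.indep _ ((Units.mul_right_eq_zero _).mp h0) q
      exact (mul_eq_zero.mp this).resolve_right (sub_ne_zero.mpr hd)
    rw [Finset.sum_eq_single 1 (fun q _ hq => by rw [hx1 q hq, zero_smul]) (by simp)] at hx
    have hM1 : (D.M 1 : Module.End K V) * (c₁ • (D.M 1 : Module.End K V)) = (D.M 1 : Module.End K V) * 1 := by
      rw [mul_smul_comm, ← hc₁, mul_one]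
    have h1 := (D.M 1).isUnit.mul_left_cancel hM1
    have hc10 : c₁ ≠ 0 := by
      haveI := D.hV
      rintro rfl
      exact (D.M 1).ne_zero (by rw [hc₁, zero_smul])
    apply D.hns (x 1 * c₁⁻¹)
    rw [← hx, ← h1, smul_smul, mul_assoc, inv_mul_cancel₀ hc10, mul_one]
  have hpow : D.s a ^ r = 1 := D.s_pow (h a)
  haveI := Fact.mk D.hr
  refine eig_mul_le _ (D.M a) (IsPrimitiveRoot.iff_orderOf.mpr (orderOf_eq_prime hpow ha)) ?_ hc
  have := D.hg a
  rwa [h a] at this

theorem index_pow (hne : ∃ y, D.φ y ≠ y) : ∃ d, 1 ≤ d ∧ Nat.card D.δ.range = r ^ d := by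
  haveI := Fact.mk D.hr
  obtain ⟨d, hd⟩ := IsPGroup.iff_card.mp (D.isPGroup_Q.to_subgroup D.δ.range)
  refine ⟨d, Nat.pos_of_ne_zero fun h => ?_, hd⟩
  obtain ⟨y, hy⟩ := hne
  rw [h, pow_zero, Subgroup.card_eq_one] at hd
  exact hy (mul_inv_eq_one.mp (Subgroup.mem_bot.mp (hd ▸ (⟨y, rfl⟩ : D.δ y ∈ D.δ.range))))

theorem range_dvd (hne : r ≠ ϖ) : ϖ ∣ Nat.card D.δ.range - 1 := by
  classical
  haveI := Fact.mk D.hϖ
  haveI := Fact.mk D.hr
  have hinj : Function.Injective D.φ := fun a b h => by
    have e := congrArg (D.φ^[ϖ - 1]) h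
    rwa [← Function.iterate_succ_apply, ← Function.iterate_succ_apply,
      show (ϖ - 1).succ = ϖ from Nat.succ_pred_eq_of_pos D.hϖ.pos, D.φ_period, D.φ_period] at e
  let σ : Equiv.Perm Q := Equiv.ofBijective D.φ (Finite.injective_iff_bijective.mp hinj)
  have hσ : σ ^ ϖ = 1 := Equiv.ext fun q => by
    rw [Equiv.Perm.coe_pow]
    exact D.φ_period q
  have hP : IsPGroup ϖ (Subgroup.zpowers σ) := fun x => by
    obtain ⟨i, hi⟩ := x.2
    refine ⟨1, Subtype.ext ?_⟩
    rw [pow_one, Subgroup.coe_pow, Subgroup.coe_one, ← hi]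
    dsimp only
    rw [← zpow_natCast (σ ^ i), ← zpow_mul, mul_comm, zpow_mul, zpow_natCast, hσ, one_zpow]
  have h := hP.card_modEq_card_fixedPoints (α := Q)
  have hfix : Nat.card (MulAction.fixedPoints (Subgroup.zpowers σ) Q) = Nat.card D.C := by
    apply Nat.card_congr (Equiv.subtypeEquivRight fun q => ?_)
    constructor
    · intro hq
      exact hq ⟨σ, Subgroup.mem_zpowers σ⟩
    · intro (hq : D.φ q = q) x
      obtain ⟨i, hi⟩ := x.2
      change (x : Equiv.Perm Q) q = q
      rw [← hi]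
      exact Function.IsFixedPt.perm_zpow (e := σ) hq i
  rw [hfix, ← D.card_split] at h
  have h' := (Nat.modEq_iff_dvd' (Nat.le_mul_of_pos_left _ Nat.card_pos)).mp h.symm
  rw [← Nat.sub_one_mul] at h'
  refine (D.hϖ.dvd_mul.mp h').resolve_right fun hd => ?_
  obtain ⟨k, hk⟩ := IsPGroup.iff_card.mp (D.isPGroup_Q.to_subgroup D.C)
  rw [hk] at hd
  exact hne ((Nat.prime_dvd_prime_iff_eq D.hϖ D.hr).mp (D.hϖ.dvd_of_dvd_pow hd)).symm

theorem exists_zpow_of_card (hd : Nat.card D.δ.range = r) {u : Q} (hu : u ∈ D.δ.range) (hu1 : u ≠ 1) {x : Q}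
    (hx : x ∈ D.δ.range) : ∃ i < r, u ^ i = x := by
  haveI := Fact.mk D.hr
  have hou : orderOf u = r := orderOf_eq_prime (D.hexp u) hu1
  have heq : Subgroup.zpowers u = D.δ.range := Subgroup.eq_of_le_of_card_ge (Subgroup.zpowers_le.mpr hu)
    (by rw [Nat.card_zpowers, hou, hd])
  rw [← heq] at hx
  obtain ⟨i, hi⟩ := (mem_powers_iff_mem_zpowers.mpr hx : x ∈ Submonoid.powers u)
  refine ⟨i % r, Nat.mod_lt _ D.hr.pos, ?_⟩
  rw [← hou, pow_mod_orderOf]
  exact hi

/-- When the fixed subgroup has prime index, the range lies inside it. -/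
theorem range_le_C (hne : ∃ y, D.φ y ≠ y) (hd : Nat.card D.δ.range = r) : D.δ.range ≤ D.C := by
  intro u hu
  by_contra huC
  have hu1 : u ≠ 1 := fun h => huC (h ▸ D.C.one_mem)
  have hidx : D.C.index = r := by rw [← D.δ_ker, Subgroup.index_ker, hd]
  have hsup : D.C ⊔ Subgroup.zpowers u = ⊤ := by
    have h1 : D.C < D.C ⊔ Subgroup.zpowers u := lt_of_le_of_ne le_sup_left fun h =>
      huC (h ▸ (le_sup_right : Subgroup.zpowers u ≤ _) (Subgroup.mem_zpowers u))
    have h2 := Subgroup.index_dvd_of_le h1.le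
    rw [hidx] at h2
    rcases (Nat.dvd_prime D.hr).mp h2 with h3 | h3
    · exact Subgroup.index_eq_one.mp h3
    · exfalso
      have h4 := Subgroup.index_mul_card D.C
      have h5 := Subgroup.index_mul_card (D.C ⊔ Subgroup.zpowers u)
      rw [hidx, ← h5, h3] at h4
      exact h1.ne (Subgroup.eq_of_le_of_card_ge h1.le (Nat.eq_of_mul_eq_mul_left D.hr.pos h4).ge)
  obtain ⟨b, hb⟩ := D.sep u hu1
  have hall : ∀ x ∈ D.C ⊔ Subgroup.zpowers u, D.e u x = 1 := by
    intro x hx
    obtain ⟨c, hc, z, hz, rfl⟩ := Subgroup.mem_sup.mp hx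
    obtain ⟨i, hi⟩ := (mem_powers_iff_mem_zpowers.mpr hz : z ∈ Submonoid.powers u)
    have hi' : u ^ i = z := hi
    obtain ⟨a, ha⟩ := hu
    have h1 : D.e u c = 1 := by
      have := D.e_symm u c
      rw [← ha, D.e_δ hc a, ha, mul_one] at this
      exact this
    have h2 : ∀ n : ℕ, D.e u (u ^ n) = 1 := by
      intro n
      induction n with
      | zero => rw [pow_zero]; have := D.e_symm u 1; rwa [D.e_one, mul_one] at this
      | succ n ih => rw [pow_succ, D.e_mul_right, ih, D.e_self, one_mul]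
    rw [D.e_mul_right, h1, ← hi', h2, one_mul]
  exact hb (hall b (hsup ▸ Subgroup.mem_top b))

/-- The quotient bound when the fixed subgroup is non-degenerate. -/
theorem quotient_bound (hne : r ≠ ϖ) (hs : ∀ a ∈ D.C, D.s a = 1) (c : K) :
    Nat.card D.C ≤ (finrank K V - finrank K (End.eigenspace (g : Module.End K V) c)) ^ 2 := by
  classical
  set W := End.eigenspace (g : Module.End K V) c with hW
  have hWV : W ≠ ⊤ := fun h => D.hns c (LinearMap.ext fun v => g_smul_eigen (h ▸ Submodule.mem_top : v ∈ W))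
  haveI : Nontrivial (V ⧸ W) := Submodule.Quotient.nontrivial_iff.mpr hWV
  have hinv : ∀ a : D.C, W ≤ W.comap (D.M (a : Q) : Module.End K V) := fun a v hv => by
    rw [Submodule.mem_comap, hW, End.mem_eigenspace_iff]
    have h := LinearMap.congr_fun (D.hg (a : Q)) v
    rw [D.mem_C.mp a.2, hs _ a.2, one_smul] at h
    simp only [Module.End.mul_apply, g_smul_eigen hv, map_smul] at h
    exact h
  let A : D.C → Module.End K (V ⧸ W) := fun a => W.mapQ W (D.M (a : Q) : Module.End K V) (hinv a)
  have hA : ∀ a, IsUnit (A a) := fun a => by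
    rw [Module.End.isUnit_iff]
    have hsurj : Function.Surjective (A a) := by
      intro x
      obtain ⟨v, rfl⟩ := W.mkQ_surjective x
      refine ⟨W.mkQ ((↑(D.M (a : Q))⁻¹ : Module.End K V) v), ?_⟩
      simp only [A, Submodule.mkQ_apply, Submodule.mapQ_apply]
      rw [← Module.End.mul_apply, Units.mul_inv, Module.End.one_apply]
    exact ⟨LinearMap.injective_iff_surjective.mpr hsurj, hsurj⟩
  have h := (card_le_sq A hA (fun a b => D.e (a : Q) b) (fun a b => by
      refine LinearMap.ext fun x => ?_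
      obtain ⟨v, rfl⟩ := W.mkQ_surjective x
      simp only [A, Module.End.mul_apply, LinearMap.smul_apply, Submodule.mkQ_apply, Submodule.mapQ_apply,
        ← Submodule.Quotient.mk_smul]
      exact congrArg _ (LinearMap.congr_fun (D.he (a : Q) b) v))
    (fun a b hab => by
      by_contra hcon
      push Not at hcon
      -- `a / b` is radical in `C`, hence trivial
      have hrad : ∀ x ∈ D.C, D.e ((a : Q) * (b : Q)⁻¹) x = 1 := fun x hx => by
        have h1 := D.e_mul ((a : Q) * (b : Q)⁻¹) (b : Q) x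
        rw [inv_mul_cancel_right, hcon ⟨x, hx⟩] at h1
        exact mul_right_cancel₀ (D.e_ne _ _) (by rw [one_mul]; exact h1.symm)
      set z : Q := (a : Q) * (b : Q)⁻¹
      have hz : z ∈ D.C := D.C.mul_mem a.2 (D.C.inv_mem b.2)
      have hz1 : z ≠ 1 := fun h => hab (Subtype.ext (mul_inv_eq_one.mp h))
      obtain ⟨y, hy⟩ := D.sep z hz1
      -- every element is a product of a fixed one and one in the range
      let m : D.C × D.δ.range → Q := fun p => (p.1 : Q) * (p.2 : Q)
      have hm : Function.Injective m := by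
        rintro ⟨c₁, w₁⟩ ⟨c₂, w₂⟩ h
        change (c₁ : Q) * w₁ = (c₂ : Q) * w₂ at h
        obtain ⟨t, ht⟩ := D.δ.range.mul_mem w₁.2 (D.δ.range.inv_mem w₂.2)
        have e1 : (w₁ : Q) * (w₂ : Q)⁻¹ = (c₁ : Q)⁻¹ * c₂ := by
          rw [mul_inv_eq_iff_eq_mul, mul_assoc, ← h, inv_mul_cancel_left]
        have e2 : D.δ t = 1 := D.disjoint_range hne t (by rw [ht, e1]; exact D.C.mul_mem (D.C.inv_mem c₁.2) c₂.2)
        rw [ht] at e2
        exact Prod.ext (Subtype.ext (inv_mul_eq_one.mp (e1 ▸ e2))) (Subtype.ext (mul_inv_eq_one.mp e2))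
      have hsurj : Function.Surjective m := (Fintype.bijective_iff_injective_and_card m).mpr ⟨hm, by
        rw [Fintype.card_prod, ← Nat.card_eq_fintype_card, ← Nat.card_eq_fintype_card, ← Nat.card_eq_fintype_card,
          mul_comm, D.card_split]⟩ |>.2
      obtain ⟨⟨c₁, ⟨w, t, rfl⟩⟩, rfl⟩ := hsurj y
      apply hy
      change D.e z ((c₁ : Q) * D.δ t) = 1
      rw [D.e_mul_right, hrad _ c₁.2, D.e_δ hz, one_mul])).2
  rwa [← Nat.card_eq_fintype_card,
    show finrank K (V ⧸ W) = finrank K V - finrank K W from Submodule.finrank_quotient W] at h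

theorem eq_zero_of_r_dvd {r a b c : ℕ} (hr : r.Prime) (ha : a < r) (hb : b < r) (hc : c < r)
    (h : (r : ℤ) ∣ ((b : ℤ) - a) * ((c : ℤ) - a) * ((b : ℤ) - c)) : a = b ∨ a = c ∨ b = c := by
  have hp : Prime (r : ℤ) := Nat.prime_iff_prime_int.mp hr
  have key : ∀ x y : ℕ, x < r → y < r → (r : ℤ) ∣ (x : ℤ) - y → x = y := by
    intro x y hx hy hd
    have := Int.eq_zero_of_abs_lt_dvd hd (by rw [abs_lt]; omega)
    omega
  rcases hp.dvd_or_dvd h with h | h
  · rcases hp.dvd_or_dvd h with h | h
    · exact Or.inl (key b a hb ha h).symm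
    · exact Or.inr (Or.inl (key c a hc ha h).symm)
  · exact Or.inr (Or.inr (key b c hb hc h))

/-- The case of a transvection on the central quotient. -/
theorem gauss_bound (hr5 : 5 ≤ r) (hne : ∃ y, D.φ y ≠ y) (hd : Nat.card D.δ.range = r)
    (hs : ∀ a ∈ D.C, D.s a = 1) {c : K} (hc : c ≠ 0) :
    2 * finrank K (End.eigenspace (g : Module.End K V) c) ≤ finrank K V := by
  classical
  haveI := Fact.mk D.hr
  obtain ⟨y, hy⟩ := hne
  set u := D.δ y with hu
  have hu1 : u ≠ 1 := fun h => hy (mul_inv_eq_one.mp h)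
  have huR : u ∈ D.δ.range := ⟨y, rfl⟩
  have huC : u ∈ D.C := D.range_le_C ⟨y, hy⟩ hd huR
  set U : Module.End K V := (↑(D.M u) : Module.End K V) with hU
  have hyC : y ∉ D.C := fun h => hy h
  set ζ := D.e u y
  -- `e u` vanishes on `C`
  have heuC : ∀ x ∈ D.C, D.e u x = 1 := fun x hx => by
    have := D.e_symm u x
    rwa [hu, D.e_δ hx y, mul_one] at this
  have hidx : D.C.index = r := by rw [← D.δ_ker, Subgroup.index_ker, hd]
  have hgen : D.C ⊔ Subgroup.zpowers y = ⊤ := by
    have h1 : D.C < D.C ⊔ Subgroup.zpowers y := lt_of_le_of_ne le_sup_left fun h =>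
      hyC (h ▸ (le_sup_right : Subgroup.zpowers y ≤ _) (Subgroup.mem_zpowers y))
    have h2 := Subgroup.index_dvd_of_le h1.le
    rw [hidx] at h2
    rcases (Nat.dvd_prime D.hr).mp h2 with h3 | h3
    · exact Subgroup.index_eq_one.mp h3
    · exfalso
      have h4 := Subgroup.index_mul_card D.C
      have h5 := Subgroup.index_mul_card (D.C ⊔ Subgroup.zpowers y)
      rw [hidx, ← h5, h3] at h4
      exact h1.ne (Subgroup.eq_of_le_of_card_ge h1.le (Nat.eq_of_mul_eq_mul_left D.hr.pos h4).ge)
  have hext : ∀ x, (∀ a ∈ D.C, D.e x a = 1) → D.e x y = 1 → x = 1 := fun x h1 h2 => by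
    by_contra hx
    obtain ⟨b, hb⟩ := D.sep x hx
    obtain ⟨a, ha, z, hz, rfl⟩ := Subgroup.mem_sup.mp (hgen ▸ Subgroup.mem_top b)
    obtain ⟨i, hi⟩ := (mem_powers_iff_mem_zpowers.mpr hz : z ∈ Submonoid.powers y)
    have h3 : ∀ n : ℕ, D.e x (y ^ n) = 1 := by
      intro n
      induction n with
      | zero => rw [pow_zero]; have := D.e_symm x 1; rwa [D.e_one, mul_one] at this
      | succ n ih => rw [pow_succ, D.e_mul_right, ih, h2, one_mul]
    exact hb (by rw [D.e_mul_right, h1 a ha, show z = y ^ i from hi.symm, h3, one_mul])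
  have hζ1 : ζ ≠ 1 := fun h => hu1 (hext u heuC h)
  have hζ : IsPrimitiveRoot ζ r :=
    IsPrimitiveRoot.iff_orderOf.mpr (orderOf_eq_prime (D.e_pow u y) hζ1)
  -- the elements commuting with `C` are powers of `u`
  have hperp : ∀ x, (∀ a ∈ D.C, D.e x a = 1) → ∃ i < r, u ^ i = x := by
    intro x hx
    obtain ⟨i, hi, hi'⟩ := hζ.eq_pow_of_pow_eq_one (D.e_pow x y)
    refine ⟨i, hi, ?_⟩
    have hp : ∀ n : ℕ, ∀ b, D.e (u ^ n) b = D.e u b ^ n := by
      intro n b
      induction n with
      | zero => rw [pow_zero, pow_zero, D.e_one]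
      | succ n ih => rw [pow_succ, pow_succ, D.e_mul, ih]
    by_contra hne'
    obtain ⟨b, hb⟩ := D.sep' (u ^ i) x hne'
    obtain ⟨a, ha, z, hz, rfl⟩ := Subgroup.mem_sup.mp (hgen ▸ Subgroup.mem_top b)
    obtain ⟨j, hj⟩ := (mem_powers_iff_mem_zpowers.mpr hz : z ∈ Submonoid.powers y)
    apply hb
    have h3 : ∀ n : ℕ, D.e (u ^ i) (y ^ n) = D.e x (y ^ n) := by
      intro n
      induction n with
      | zero =>
        rw [pow_zero]
        have e1 := D.e_symm (u ^ i) 1
        have e2 := D.e_symm x 1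
        rw [D.e_one, mul_one] at e1 e2
        rw [e1, e2]
      | succ n ih => rw [pow_succ, D.e_mul_right, D.e_mul_right, ih, hp i y, hi']
    rw [D.e_mul_right, D.e_mul_right, show z = y ^ j from hj.symm, h3, hp i a, heuC a ha, one_pow, hx a ha]
  -- `M (u ^ i)` is a scalar times `U ^ i`
  have hpowM : ∀ i : ℕ, ∃ d : K, (D.M (u ^ i) : Module.End K V) = d • U ^ i := by
    intro i
    induction i with
    | zero =>
      obtain ⟨d, hd⟩ := D.hmul 1 1
      rw [mul_one] at hd
      have h1 : (D.M 1 : Module.End K V) * (d • (D.M 1 : Module.End K V)) = (D.M 1 : Module.End K V) * 1 := by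
        rw [mul_smul_comm, ← hd, mul_one]
      have h2 := (D.M 1).isUnit.mul_left_cancel h1
      refine ⟨d⁻¹, ?_⟩
      have hd0 : d ≠ 0 := by
        haveI := D.hV
        rintro rfl
        exact (D.M 1).ne_zero (by rw [hd, zero_smul])
      rw [pow_zero, pow_zero, ← h2, smul_smul, inv_mul_cancel₀ hd0, one_smul]
    | succ i ih =>
      obtain ⟨d, hd⟩ := ih
      obtain ⟨d', hd'⟩ := D.hmul (u ^ i) u
      exact ⟨d' * d, by rw [pow_succ, hd', hd, pow_succ, smul_mul_assoc, smul_smul]⟩
  choose dd hdd using hpowM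
  -- `g` is a polynomial in `U`
  obtain ⟨x, hx⟩ := D.exists_repr (g : Module.End K V)
  have hsupp : ∀ q, x q ≠ 0 → ∃ i < r, u ^ i = q := by
    intro q hq
    refine hperp q fun a ha => ?_
    have h1 := D.hg a
    rw [hs a ha, D.mem_C.mp ha, one_smul, ← hx, Finset.sum_mul, Finset.mul_sum] at h1
    have h2 : ∀ i, x i • (D.M i : Module.End K V) * D.M a =
        (x i * D.e i a) • ((D.M a : Module.End K V) * D.M i) := fun i => by
      rw [smul_mul_assoc, D.he i a, smul_smul]
    rw [Finset.sum_congr rfl fun i _ => h2 i] at h1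
    simp only [mul_smul_comm] at h1
    have h0 : (D.M a : Module.End K V) * ∑ i, (x i * (D.e i a - 1)) • (D.M i : Module.End K V) = 0 := by
      rw [Finset.mul_sum]
      simp only [mul_smul_comm, mul_sub, mul_one, sub_smul, Finset.sum_sub_distrib]
      rw [h1, sub_self]
    have := Fintype.linearIndependent_iff.mp D.indep _ ((Units.mul_right_eq_zero _).mp h0) q
    exact sub_eq_zero.mp ((mul_eq_zero.mp this).resolve_left hq)
  choose! idx hidx1 hidx2 using hsupp
  let f : K → K := fun μ => ∑ q, x q * dd (idx q) * μ ^ idx q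
  have hscal : ∀ (μ : K) (v : V), U v = μ • v → (g : Module.End K V) v = f μ • v := by
    intro μ v hv
    have hp : ∀ i : ℕ, (U ^ i) v = μ ^ i • v := by
      intro i
      induction i with
      | zero => simp
      | succ i ih => rw [pow_succ', Module.End.mul_apply, ih, map_smul, hv, smul_smul, pow_succ]
    rw [← hx, LinearMap.sum_apply, Finset.sum_smul]
    refine Finset.sum_congr rfl fun q _ => ?_
    rcases eq_or_ne (x q) 0 with hq | hq
    · simp [hq]
    · rw [LinearMap.smul_apply, show (D.M q : Module.End K V) = dd (idx q) • U ^ idx q by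
        rw [← hdd, hidx2 q hq], LinearMap.smul_apply, hp, smul_smul, smul_smul, mul_assoc]
  -- an eigenvector of `U`
  obtain ⟨ν, hν⟩ : ∃ ν : K, U ^ r = ν • (1 : Module.End K V) := by
    have h1 := hdd r
    rw [D.hexp, ← pow_zero u, hdd 0, pow_zero] at h1
    refine ⟨(dd r)⁻¹ * dd 0, ?_⟩
    have hd0 : dd r ≠ 0 := by
      intro h
      haveI := D.hV
      exact (D.M (u ^ r)).ne_zero (by rw [hdd, h, zero_smul])
    rw [mul_smul, h1, smul_smul, inv_mul_cancel₀ hd0, one_smul]
  haveI := D.hV
  obtain ⟨μ, hμ⟩ := Module.End.exists_eigenvalue U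
  obtain ⟨v, hv⟩ := hμ.exists_hasEigenvector
  have hUv : U v = μ • v := hv.apply_eq_smul
  have hv0 : v ≠ 0 := hv.2
  have hμ0 : μ ≠ 0 := fun h => hv0 (by
    have : (↑(D.M u)⁻¹ : Module.End K V) (U v) = v := by
      rw [← Module.End.mul_apply, Units.inv_mul, Module.End.one_apply]
    rw [hUv, h, zero_smul, map_zero] at this
    exact this.symm)
  set Y : Module.End K V := (↑(D.M y) : Module.End K V) with hY
  obtain ⟨d, hdφ⟩ := D.hmul u y
  rw [show u * y = D.φ y from inv_mul_cancel_right _ _] at hdφ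
  -- the orbit of `v` under `Y`
  have hUY : ∀ i : ℕ, U ((Y ^ i) v) = (μ * ζ ^ i) • (Y ^ i) v := by
    intro i
    induction i with
    | zero => simpa using hUv
    | succ i ih =>
      rw [pow_succ', Module.End.mul_apply]
      have h := LinearMap.congr_fun (D.he u y) ((Y ^ i) v)
      simp only [Module.End.mul_apply, LinearMap.smul_apply] at h
      rw [show U (Y ((Y ^ i) v)) = D.e u y • Y (U ((Y ^ i) v)) from h, ih, map_smul, smul_smul]
      congr 1
      ring
  have hYi : ∀ i : ℕ, (Y ^ i) v ≠ 0 := fun i h => hv0 (by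
    have := congrArg ((↑((D.M y) ^ i)⁻¹ : Module.End K V)) h
    rw [← Module.End.mul_apply, ← Units.val_pow_eq_pow_val, Units.inv_mul, map_zero] at this
    simpa using this)
  set α := D.s y * d * μ
  have hfrec : ∀ i : ℕ, f (μ * ζ ^ (i + 1)) = α * ζ ^ (i + 1) * f (μ * ζ ^ i) := by
    intro i
    have h1 := hscal _ _ (hUY (i + 1))
    have h2 : (g : Module.End K V) ((Y ^ (i + 1)) v) = (α * ζ ^ (i + 1) * f (μ * ζ ^ i)) • (Y ^ (i + 1)) v := by
      have e := LinearMap.congr_fun (D.hg y) ((Y ^ i) v)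
      simp only [Module.End.mul_apply, LinearMap.smul_apply, hdφ, hscal _ _ (hUY i), map_smul] at e
      rw [pow_succ', Module.End.mul_apply, show (g : Module.End K V) (Y ((Y ^ i) v)) = _ from e,
        show U (Y ((Y ^ i) v)) = U ((Y ^ (i + 1)) v) by rw [pow_succ' Y i]; rfl, hUY (i + 1),
        pow_succ' Y i, Module.End.mul_apply]
      simp only [smul_smul]
      congr 1
      simp only [α]
      ring
    exact smul_left_injective K (hYi (i + 1)) (h1.symm.trans h2)
  have hα0 : α ≠ 0 := mul_ne_zero (mul_ne_zero (D.s_ne y) (fun h => (D.M (D.φ y)).ne_zero (by rw [hdφ, h, zero_smul]))) hμ0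
  let T : ℕ → ℕ := fun i => ∑ j ∈ Finset.range i, (j + 1)
  have hT : ∀ i : ℕ, 2 * (T i : ℤ) = (i : ℤ) * (i + 1) := by
    intro i
    induction i with
    | zero => simp [T]
    | succ i ih =>
      have : T (i + 1) = T i + (i + 1) := Finset.sum_range_succ _ _
      rw [this]
      push_cast
      linear_combination ih
  have hfi : ∀ i : ℕ, f (μ * ζ ^ i) = α ^ i * ζ ^ T i * f (μ * ζ ^ 0) := by
    intro i
    induction i with
    | zero => simp [T]
    | succ i ih =>
      rw [hfrec, ih, show T (i + 1) = T i + (i + 1) from Finset.sum_range_succ _ _, pow_succ α, pow_add ζ (T i)]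
      ring
  let S : Finset (Fin r) := Finset.univ.filter fun i => f (μ * ζ ^ (i : ℕ)) = c
  have hS : S.card ≤ 2 := by
    by_contra h3
    obtain ⟨a, ha, b, hb, e, he, hab, hae, hbe⟩ := Finset.two_lt_card.mp (not_le.mp h3)
    simp only [S, Finset.mem_filter, Finset.mem_univ, true_and] at ha hb he
    rw [hfi] at ha hb he
    have hf0 : f (μ * ζ ^ 0) ≠ 0 := fun h => hc (by rw [← ha, h, mul_zero])
    have hζ0 : ζ ≠ 0 := hζ.ne_zero D.hr.ne_zero
    have key : ∀ i j : ℕ, α ^ i * ζ ^ T i * f (μ * ζ ^ 0) = α ^ j * ζ ^ T j * f (μ * ζ ^ 0) →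
        α ^ ((j : ℤ) - i) = ζ ^ ((T i : ℤ) - T j) := by
      intro i j h
      have h' := mul_right_cancel₀ hf0 h
      rw [zpow_sub₀ hα0, zpow_sub₀ hζ0, zpow_natCast, zpow_natCast, zpow_natCast, zpow_natCast,
        div_eq_div_iff (pow_ne_zero _ hα0) (pow_ne_zero _ hζ0)]
      linear_combination -h'
    have k1 := key a b (ha.trans hb.symm)
    have k2 := key a e (ha.trans he.symm)
    have k3 : ζ ^ (((T a : ℤ) - T b) * ((e : ℤ) - a)) = ζ ^ (((T a : ℤ) - T e) * ((b : ℤ) - a)) := by
      rw [zpow_mul, zpow_mul, ← k1, ← k2, ← zpow_mul, ← zpow_mul, mul_comm]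
    rw [← div_eq_one_iff_eq (zpow_ne_zero _ hζ0), ← zpow_sub₀ hζ0, hζ.zpow_eq_one_iff_dvd] at k3
    have h4 : (r : ℤ) ∣ ((b : ℤ) - a) * ((e : ℤ) - a) * ((b : ℤ) - e) := by
      rw [show ((b : ℤ) - a) * ((e : ℤ) - a) * ((b : ℤ) - e) =
          -((2 : ℤ) * (((T a : ℤ) - T b) * ((e : ℤ) - a) - ((T a : ℤ) - T e) * ((b : ℤ) - a))) by
        linear_combination ((e : ℤ) - b) * hT (a : ℕ) - ((e : ℤ) - a) * hT (b : ℕ) + ((b : ℤ) - a) * hT (e : ℕ)]
      exact (k3.mul_left 2).neg_right
    rcases eq_zero_of_r_dvd D.hr a.2 b.2 e.2 h4 with h | h | h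
    · exact hab (Fin.ext h)
    · exact hae (Fin.ext h)
    · exact hbe (Fin.ext h)
  -- `W` is killed by the product over `S`
  set W := End.eigenspace (g : Module.End K V) c with hW
  have hUg : ∀ w, (g : Module.End K V) (U w) = U ((g : Module.End K V) w) := by
    intro w
    have h := LinearMap.congr_fun (D.hg u) w
    rw [D.mem_C.mp huC, hs u huC, one_smul] at h
    exact h
  let F : Fin r → Polynomial K := fun i => Polynomial.X - Polynomial.C (μ * ζ ^ (i : ℕ))
  have hprod : ∏ i : Fin r, F i = Polynomial.X ^ r - Polynomial.C (μ ^ r) := by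
    have hpc := X_pow_sub_C_eq_prod hζ D.hr.pos (rfl : μ ^ r = μ ^ r)
    rw [hpc, ← Fin.prod_univ_eq_prod_range (fun i => Polynomial.X - Polynomial.C (ζ ^ i * μ)) r]
    exact Finset.prod_congr rfl fun i _ => by simp only [F, mul_comm μ]
  have hν' : ν = μ ^ r := by
    have hp : ∀ i : ℕ, (U ^ i) v = μ ^ i • v := by
      intro i
      induction i with
      | zero => simp
      | succ i ih => rw [pow_succ', Module.End.mul_apply, ih, map_smul, hUv, smul_smul, pow_succ]
    have := hp r
    rw [hν, LinearMap.smul_apply, Module.End.one_apply] at this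
    exact smul_left_injective K hv0 this
  have hkill : ∀ w ∈ W, Polynomial.aeval U (∏ i ∈ S, F i) w = 0 := by
    intro w hw
    have hall : Polynomial.aeval U (∏ i : Fin r, F i) w = 0 := by
      rw [hprod, map_sub, map_pow, Polynomial.aeval_X, Polynomial.aeval_C, hν, hν', Algebra.algebraMap_eq_smul_one,
        sub_self, LinearMap.zero_apply]
    have hWinv : ∀ (p : Polynomial K), ∀ x ∈ W, Polynomial.aeval U p x ∈ W := by
      intro p
      induction p using Polynomial.induction_on' with
      | add p q hp hq => intro x hx; rw [map_add, LinearMap.add_apply]; exact W.add_mem (hp x hx) (hq x hx)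
      | monomial n a =>
        intro x hx
        rw [Polynomial.aeval_monomial, Module.End.mul_apply, Module.algebraMap_end_apply]
        refine W.smul_mem _ ?_
        induction n with
        | zero => simpa using hx
        | succ n ih =>
          rw [pow_succ', Module.End.mul_apply, hW, End.mem_eigenspace_iff, hUg, g_smul_eigen ih, map_smul]
    -- strip the factors outside `S`
    have strip : ∀ (s : Finset (Fin r)), (∀ i ∈ s, i ∉ S) → ∀ x ∈ W,
        Polynomial.aeval U (∏ i ∈ s, F i) x = 0 → x = 0 := by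
      intro s
      induction s using Finset.induction with
      | empty => intro _ x _ h; simpa using h
      | insert i s his ih =>
        intro hs' x hx h
        rw [Finset.prod_insert his, map_mul, Module.End.mul_apply] at h
        apply ih (fun j hj => hs' j (Finset.mem_insert_of_mem hj)) x hx
        have hz := hWinv (∏ j ∈ s, F j) x hx
        set z := Polynomial.aeval U (∏ j ∈ s, F j) x
        simp only [F, map_sub, Polynomial.aeval_X, Polynomial.aeval_C, LinearMap.sub_apply,
          Module.algebraMap_end_apply, sub_eq_zero] at h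
        by_contra hz0
        have e1 := hscal _ _ h
        rw [g_smul_eigen hz] at e1
        exact hs' i (Finset.mem_insert_self _ _) (by
          simp only [S, Finset.mem_filter, Finset.mem_univ, true_and]
          exact (smul_left_injective K hz0 e1).symm)
    rw [← Finset.prod_sdiff (Finset.subset_univ S), map_mul, Module.End.mul_apply] at hall
    exact strip _ (fun i hi => (Finset.mem_sdiff.mp hi).2) _ (hWinv _ w hw) hall
  have hker : ∀ s : Finset (Fin r),
      r * finrank K (LinearMap.ker (Polynomial.aeval U (∏ i ∈ s, F i))) ≤ s.card * finrank K V := by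
    intro s
    induction s using Finset.induction with
    | empty => rw [Finset.prod_empty, map_one, Module.End.one_eq_id, LinearMap.ker_id, finrank_bot]; simp
    | insert i s his ih =>
      rw [Finset.prod_insert his, map_mul, Finset.card_insert_of_notMem his]
      have h1 := finrank_ker_mul_le (Polynomial.aeval U (F i)) (Polynomial.aeval U (∏ j ∈ s, F j))
      have h2 := D.eig_bound hu1 (c := μ * ζ ^ (i : ℕ)) (mul_ne_zero hμ0 (pow_ne_zero _ (hζ.ne_zero D.hr.ne_zero)))
      rw [End.eigenspace_def] at h2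
      have h3 : Polynomial.aeval U (F i) = U - (μ * ζ ^ (i : ℕ)) • 1 := by
        simp only [F, map_sub, Polynomial.aeval_X, Polynomial.aeval_C, Algebra.algebraMap_eq_smul_one]
      rw [h3] at h1 ⊢
      have h4 := Nat.mul_le_mul (le_refl r) h1
      rw [Nat.mul_add] at h4
      rw [Nat.succ_mul]
      exact h4.trans ((add_le_add h2 ih).trans (by rw [add_comm]))
  have h1 : finrank K W ≤ finrank K (LinearMap.ker (Polynomial.aeval U (∏ i ∈ S, F i))) :=
    Submodule.finrank_mono fun w hw => LinearMap.mem_ker.mpr (hkill w hw)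
  have h2 := (Nat.mul_le_mul (le_refl r) h1).trans ((hker S).trans (Nat.mul_le_mul hS le_rfl))
  nlinarith [h2, Nat.mul_le_mul hr5 (le_refl (finrank K W))]

theorem pow_small {r d b : ℕ} (hr : 2 ≤ r) (hd0 : 1 ≤ d) (h : r ^ d < b) (hb : b ≤ 16) : r < 16 ∧ d < 4 := by
  constructor
  · have := Nat.le_self_pow (show d ≠ 0 by omega) r
    omega
  · by_contra hd
    have : 2 ^ 4 ≤ r ^ d := (Nat.pow_le_pow_left hr 4).trans (Nat.pow_le_pow_right (by omega) (not_lt.mp hd))
    omega

theorem sq_bound {w n : ℕ} (h : 4 * w ^ 2 ≤ n ^ 2) : 2 * w ≤ n := by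
  nlinarith [Nat.zero_le w, Nat.zero_le n]

theorem small_three {r d : ℕ} (hr : r.Prime) (hr3 : r ≠ 3) (hd : 2 ≤ d) (h : r ^ d < 16) (hdv : 3 ∣ r ^ d - 1) :
    r ^ d = 4 := by
  obtain ⟨hr', hd'⟩ := pow_small hr.two_le (by omega) h le_rfl
  interval_cases d <;> interval_cases r <;> revert hr hr3 h hdv <;> norm_num

theorem small_four {r d : ℕ} (hr : 2 ≤ r) (hd : 2 ≤ d) (h : r ^ d = 4) : r = 2 ∧ d = 2 := by
  obtain ⟨hr', hd'⟩ := pow_small hr (show 1 ≤ d by omega) (show r ^ d < 5 by omega) (by norm_num)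
  interval_cases d <;> interval_cases r <;> simp_all

theorem five_le {ϖ : ℕ} (h : ϖ.Prime) (h3 : 3 < ϖ) : 5 ≤ ϖ := by
  rcases Nat.lt_or_ge ϖ 5 with h' | h'
  · interval_cases ϖ; exact absurd h (by norm_num)
  · exact h'

theorem small_five {r d ϖ : ℕ} (hr : r.Prime) (hϖ : ϖ.Prime) (h3 : 3 < ϖ) (hd : 2 ≤ d) (hdv : ϖ ∣ r ^ d - 1) :
    4 * (ϖ + r ^ d) ≤ ϖ * r ^ d + 4 := by
  have hϖ5 := five_le hϖ h3
  rcases Nat.lt_or_ge (r ^ d) 16 with h16 | h16
  · obtain ⟨hr', hd'⟩ := pow_small hr.two_le (by omega) h16 le_rfl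
    have hle : ϖ ≤ r ^ d - 1 := Nat.le_of_dvd (by have := Nat.one_lt_pow (show d ≠ 0 by omega) hr.one_lt; omega) hdv
    have h2r := hr.two_le
    interval_cases d <;> interval_cases r <;> revert h16 hle hdv hr <;> norm_num <;> intros <;>
      (interval_cases ϖ <;> first | omega | exact absurd hϖ (by norm_num))
  · nlinarith [Nat.mul_le_mul hϖ5 h16]

include D in
/-- The four bounds. -/
theorem bounds (c : K) (hc : c ≠ 0) :
    (ϖ = 2 → 4 * finrank K (End.eigenspace (g : Module.End K V) c) ≤ 3 * finrank K V) ∧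
    (ϖ = 3 → 3 * finrank K (End.eigenspace (g : Module.End K V) c) ≤ 2 * finrank K V) ∧
    (3 < ϖ → 2 * finrank K (End.eigenspace (g : Module.End K V) c) ≤ finrank K V) ∧
    (ϖ = 3 → ¬ 3 ∣ finrank K V → 2 * finrank K (End.eigenspace (g : Module.End K V) c) ≤ finrank K V) := by
  set w := finrank K (End.eigenspace (g : Module.End K V) c) with hw
  set n := finrank K V with hn
  have hwn : w ≤ n := Submodule.finrank_le _
  have h2r := D.hr.two_le
  by_cases hid : ∀ a, D.φ a = a
  · have h := D.inner_bound hid hc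
    rw [← hw, ← hn] at h
    have : 2 * w ≤ n := (Nat.mul_le_mul h2r le_rfl).trans h
    exact ⟨fun _ => by omega, fun _ => by omega, fun _ => this, fun _ _ => this⟩
  push Not at hid
  obtain ⟨y, hy⟩ := hid
  have ht := D.translate_bound y hy hc
  rw [← hw, ← hn] at ht
  have hN : Nat.card Q = n ^ 2 := by rw [Nat.card_eq_fintype_card, D.hcard]
  have hsplit := D.card_split
  obtain ⟨d, hd1, hd⟩ := D.index_pow ⟨y, hy⟩
  set m := Nat.card D.C with hm
  have hcen := D.cen_bound
  rw [← hm] at hcen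
  have hC₀ : Nat.card D.C₀ ≤ m := Nat.card_le_card_of_injective _ (Subgroup.inclusion_injective D.C₀_le)
  rw [hd, hN] at hsplit
  rw [hN] at hcen
  set Zc := finrank K (cen (g : Module.End K V)) with hZc
  -- when the orders differ, the index is at least r²
  have hd2 : r ≠ ϖ → 2 ≤ d := by
    intro hne
    by_contra h2
    have hd1' : d = 1 := by omega
    rw [hd1', pow_one] at hd
    have hle := D.range_le_C ⟨y, hy⟩ hd
    exact hy (mul_inv_eq_one.mp (D.disjoint_range hne y (hle ⟨y, rfl⟩)))
  have hdvd : r ≠ ϖ → ϖ ∣ r ^ d - 1 := fun hne => hd ▸ D.range_dvd hne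
  have hthree : ϖ = 3 → r ≠ 3 → 2 * w ≤ n := by
    intro h3 hr3
    have hne : r ≠ ϖ := by omega
    have hcases : 16 ≤ r ^ d ∨ r ^ d = 4 := by
      by_contra h16
      push Not at h16
      exact h16.2 (small_three D.hr hr3 (hd2 hne) h16.1 (h3 ▸ hdvd hne))
    rcases hcases with h16 | h4
    · by_contra hlt
      have hg3 : (g : Module.End K V) ^ 3 = 1 := by
        rw [← Units.val_pow_eq_pow_val, ← h3, D.hgpow, Units.val_one]
      have hw0 : w ≠ 0 := by omega
      have hc3 : c ^ 3 = 1 := by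
        obtain ⟨v, hv, hv0⟩ := Submodule.exists_mem_ne_zero_of_ne_bot
          (fun h => hw0 (by rw [hw, h, finrank_bot]) : End.eigenspace (g : Module.End K V) c ≠ ⊥)
        have e := LinearMap.congr_fun hg3 v
        rw [show ((g : Module.End K V) ^ 3) v = (g : Module.End K V) ((g : Module.End K V) ((g : Module.End K V) v)) from rfl,
          g_smul_eigen hv, map_smul, g_smul_eigen hv, map_smul, map_smul, g_smul_eigen hv, smul_smul, smul_smul,
          Module.End.one_apply] at e
        have := smul_left_injective K hv0 (e.trans (one_smul K v).symm)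
        rw [← this]; ring
      have hcube := cen_cube (g : Module.End K V) hg3 hc3
      rw [← hw, ← hn, ← hZc] at hcube
      subst h3
      obtain ⟨u, hu⟩ : ∃ u, n = w + u := ⟨n - w, by omega⟩
      rw [hu, Nat.add_sub_cancel_left] at hcube
      have hm16 : 16 * m ≤ n ^ 2 := hsplit ▸ Nat.mul_le_mul h16 le_rfl
      have huw : u < w := by omega
      rw [hu] at hcen hm16
      nlinarith [mul_lt_mul'' huw huw (Nat.zero_le _) (Nat.zero_le _)]
    · obtain ⟨rfl, rfl⟩ : r = 2 ∧ d = 2 := by
        exact small_four h2r (hd2 hne) h4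
      have hs : ∀ a ∈ D.C, D.s a = 1 := fun a ha => by
        obtain ⟨c', -, h⟩ := D.iterate_rel ϖ a
        have hit : ∀ k, ((g ^ k : (Module.End K V)ˣ) : Module.End K V) * D.M a * (↑(g ^ k)⁻¹ : Module.End K V) =
            D.s a ^ k • (D.M a : Module.End K V) := by
          intro k
          induction k with
          | zero => simp
          | succ k ih =>
            rw [pow_succ' g k, _root_.mul_inv_rev, Units.val_mul, Units.val_mul,
              show (g : Module.End K V) * ((g ^ k : (Module.End K V)ˣ) : Module.End K V) * D.M a *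
                ((↑(g ^ k)⁻¹ : Module.End K V) * (↑g⁻¹ : Module.End K V)) = (g : Module.End K V) *
                (((g ^ k : (Module.End K V)ˣ) : Module.End K V) * D.M a * (↑(g ^ k)⁻¹ : Module.End K V)) *
                  (↑g⁻¹ : Module.End K V) by simp only [mul_assoc],
              ih, mul_smul_comm, smul_mul_assoc, D.hg_inv, D.mem_C.mp ha, smul_smul, pow_succ]
        have h1 := hit ϖ
        rw [D.hgpow] at h1
        simp only [Units.val_one, one_mul, inv_one, mul_one] at h1
        have h2 : D.s a ^ 3 = 1 := by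
          rw [← h3]
          exact (D.smul_left_inj (X := D.M a) (by rw [one_smul]; exact h1)).symm
        have h4' := D.s_pow ha
        linear_combination h2 - D.s a * h4'
      have hq := D.quotient_bound hne hs c
      rw [← hw, ← hn, ← hm] at hq
      obtain ⟨u, hu⟩ : ∃ u, n = w + u := ⟨n - w, by omega⟩
      rw [hu, Nat.add_sub_cancel_left] at hq
      by_contra hlt
      rw [hu] at hsplit
      norm_num at hsplit
      nlinarith [mul_lt_mul'' (show u < w by omega) (show u < w by omega) (Nat.zero_le _) (Nat.zero_le _)]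
  refine ⟨fun _ => ?_, fun h3 => ?_, fun h5 => ?_, fun h3 hn3 => ?_⟩
  · nlinarith [Nat.mul_le_mul h2r (le_refl n)]
  · rcases eq_or_ne r 3 with hr3 | hr3
    · subst hr3
      omega
    · have := hthree h3 hr3
      omega
  · have hsq : w ^ 2 ≤ Zc := sq_le_cen _ c
    by_cases hne : r = ϖ
    · subst hne
      have hr5 : 5 ≤ r := by
        rcases D.hr.eq_two_or_odd with h | h <;> omega
      by_cases hsC : ∀ a ∈ D.C, D.s a = 1
      · rcases eq_or_lt_of_le hd1 with h | h
        · exact D.gauss_bound hr5 ⟨y, hy⟩ (by rw [hd, ← h, pow_one]) hsC hc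
        · apply sq_bound
          have hr2 : r ^ 2 ≤ r ^ d := Nat.pow_le_pow_right (by omega) h
          have h2' := Nat.mul_le_mul hr2 (le_refl m)
          have a1 := Nat.mul_le_mul (le_refl r) hsq
          have a2 := Nat.mul_le_mul (le_refl r) hC₀
          have a3 := Nat.mul_le_mul hr5 (le_refl r)
          nlinarith [Nat.mul_le_mul hr5 (le_refl m), Nat.mul_le_mul a3 (le_refl m), Nat.mul_le_mul hr5 (le_refl (n ^ 2))]
      · apply sq_bound
        have hlt : D.C₀ ≠ D.C := fun h => hsC fun a ha => ((h ▸ ha : a ∈ D.C₀)).2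
        haveI := Fact.mk D.hr
        obtain ⟨i, hi⟩ := IsPGroup.iff_card.mp (D.isPGroup_Q.to_subgroup D.C₀)
        obtain ⟨j, hj⟩ := IsPGroup.iff_card.mp (D.isPGroup_Q.to_subgroup D.C)
        have hij : i < j := by
          by_contra hji
          exact hlt (Subgroup.eq_of_le_of_card_ge D.C₀_le (by
            rw [hi, hj]; exact Nat.pow_le_pow_right (by omega) (not_lt.mp hji)))
        have : r * Nat.card D.C₀ ≤ m := by
          rw [hm, hi, hj, ← pow_succ']; exact Nat.pow_le_pow_right (by omega) hij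
        nlinarith [Nat.mul_le_mul (le_refl r) hsq, Nat.mul_le_mul hr5 (le_refl (w ^ 2))]
    · apply sq_bound
      obtain ⟨k, hk⟩ := hdvd hne
      have h22 := hd2 hne
      have hkey := small_five D.hr D.hϖ h5 h22 (hdvd hne)
      have h4 := Nat.mul_le_mul hkey (le_refl m)
      nlinarith [Nat.mul_le_mul (le_refl ϖ) hC₀, Nat.mul_le_mul (le_refl ϖ) hsq]
  · rcases eq_or_ne r 3 with hr3 | hr3
    · exfalso
      subst hr3
      apply hn3
      apply Nat.prime_three.dvd_of_dvd_pow (n := 2)
      rw [← hsplit]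
      exact Dvd.dvd.mul_right (dvd_pow_self 3 (by omega)) m
    · exact hthree h3 hr3

end Setup

end Cfsg.Agent.Classical.EigenBound
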