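import Mathlib.LinearAlgebra.Eigenspace.Basic
import Mathlib.LinearAlgebra.FiniteDimensional.Lemmas
import Mathlib.LinearAlgebra.Dimension.Constructions
import Mathlib.RingTheory.RootsOfUnity.PrimitiveRoots
import Mathlib.Dynamics.PeriodicPts.Defs
import Mathlib.GroupTheory.PGroup
import Mathlib.FieldTheory.IsAlgClosed.Basic

/-!
Linear algebra used to bound the eigenspaces of elements normalising an extraspecial group: eigenspaces of twisted
commuting operators, the centraliser of an operator of order three, monomial fixed spaces.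
-/

set_option autoImplicit false

namespace Cfsg.Agent.Classical.EigenBound

open Module

variable {K : Type*} [Field K] {V : Type*} [AddCommGroup V] [Module K V] [FiniteDimensional K V]

/-- If `Y X = ζ X Y`-twisted, every eigenspace of `X` has at most `1/r` of the dimension. -/
theorem eig_mul_le (X : Module.End K V) (Y : (Module.End K V)ˣ) {ζ : K} {r : ℕ} (hζ : IsPrimitiveRoot ζ r)
    (hYX : X * (Y : Module.End K V) = ζ • ((Y : Module.End K V) * X)) {c : K} (hc : c ≠ 0) :
    r * finrank K (End.eigenspace X c) ≤ finrank K V := by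
  have hmem : ∀ (i : ℕ) (v : V), v ∈ End.eigenspace X c →
      ((Y : Module.End K V) ^ i) v ∈ End.eigenspace X (c * ζ ^ i) := by
    intro i
    induction i with
    | zero => intro v hv; simpa using hv
    | succ i ih =>
      intro v hv
      have h := End.mem_eigenspace_iff.mp (ih v hv)
      rw [End.mem_eigenspace_iff]
      have e := LinearMap.congr_fun hYX (((Y : Module.End K V) ^ i) v)
      simp only [Module.End.mul_apply, LinearMap.smul_apply, h, map_smul, smul_smul] at e
      rw [pow_succ' (Y : Module.End K V) i, Module.End.mul_apply, e, pow_succ]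
      congr 1
      ring
  let φ : (Fin r → End.eigenspace X c) →ₗ[K] V :=
    ∑ i : Fin r, ((Y : Module.End K V) ^ (i : ℕ)).comp ((End.eigenspace X c).subtype.comp (LinearMap.proj i))
  have hφ : ∀ x, φ x = ∑ i : Fin r, ((Y : Module.End K V) ^ (i : ℕ)) (x i : V) := fun x => by
    simp [φ, LinearMap.sum_apply]
  have hinjμ : Function.Injective fun i : Fin r => c * ζ ^ (i : ℕ) := fun i j h =>
    Fin.ext (hζ.pow_inj i.2 j.2 (mul_left_cancel₀ hc h))
  have hinj : Function.Injective φ := by
    rw [← LinearMap.ker_eq_bot, LinearMap.ker_eq_bot']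
    intro x hx
    rw [hφ] at hx
    have h0 := (iSupIndep_iff_finsetSum_eq_zero_imp_eq_zero _).mp ((End.eigenspaces_iSupIndep X).comp hinjμ)
      Finset.univ (fun i => ((Y : Module.End K V) ^ (i : ℕ)) (x i : V)) (fun i _ => hmem _ _ (x i).2) hx
    funext i
    apply Subtype.ext
    have h1 := h0 i (Finset.mem_univ i)
    have hu : IsUnit ((Y : Module.End K V) ^ (i : ℕ)) := (Units.isUnit Y).pow _
    obtain ⟨u, hu⟩ := hu
    rw [← hu] at h1
    have h2 := congrArg ((u⁻¹ : (Module.End K V)ˣ) : Module.End K V) h1
    rw [← Module.End.mul_apply, Units.inv_mul, map_zero] at h2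
    simpa using h2
  have := LinearMap.finrank_le_finrank_of_injective hinj
  rwa [Module.finrank_pi_fintype, Finset.sum_const, Finset.card_univ, Fintype.card_fin, smul_eq_mul] at this

theorem finrank_ker_mul_le (A B : Module.End K V) :
    finrank K (LinearMap.ker (A * B)) ≤ finrank K (LinearMap.ker A) + finrank K (LinearMap.ker B) := by
  let f : LinearMap.ker (A * B) →ₗ[K] LinearMap.ker A :=
    B.restrict (fun v hv => by simpa [LinearMap.mem_ker] using hv)
  have hk : finrank K (LinearMap.ker f) ≤ finrank K (LinearMap.ker B) :=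
    LinearMap.finrank_le_finrank_of_injective
      (f := LinearMap.codRestrict (LinearMap.ker B)
        ((LinearMap.ker (A * B)).subtype.comp (LinearMap.ker f).subtype)
        (fun x => by
          have := congrArg Subtype.val (LinearMap.mem_ker.mp x.2)
          exact LinearMap.mem_ker.mpr this))
      (fun a b h => Subtype.ext (Subtype.ext (by simpa using congrArg Subtype.val h)))
  have := f.finrank_range_add_finrank_ker
  have hr := Submodule.finrank_le (LinearMap.range f)
  omega

/-- The centraliser of `f` in the endomorphism ring. -/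
def cen (f : Module.End K V) : Submodule K (Module.End K V) :=
  LinearMap.ker (LinearMap.mulLeft K f - LinearMap.mulRight K f)

theorem mem_cen {f T : Module.End K V} : T ∈ cen f ↔ f * T = T * f := by
  simp [cen, sub_eq_zero]

theorem sq_le_cen_scalar (f : Module.End K V) {a : K} (h : f = a • 1) : finrank K V ^ 2 ≤ finrank K (cen f) := by
  have : cen f = ⊤ := by
    rw [eq_top_iff]
    intro T _
    rw [mem_cen, h]
    simp
  rw [this, finrank_top, Module.finrank_linearMap, sq]

/-- Recursion for the centraliser: restrict to the image of `f - c`. -/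
theorem cen_recursion (f : Module.End K V) (c : K)
    (hM : ∀ v ∈ LinearMap.range (f - c • 1), f v ∈ LinearMap.range (f - c • 1)) :
    finrank K (LinearMap.ker (f - c • 1)) ^ 2 + finrank K (cen (f.restrict hM)) ≤ finrank K (cen f) := by
  set N : Module.End K V := f - c • 1 with hN
  set M := LinearMap.range N
  set W := LinearMap.ker N
  have hfN : ∀ v, f v = N v + c • v := fun v => by simp [hN]
  -- restriction map
  have hcM : ∀ T ∈ cen f, ∀ v ∈ M, T v ∈ M := by
    rintro T hT _ ⟨v, rfl⟩
    refine ⟨T v, ?_⟩
    have := LinearMap.congr_fun (mem_cen.mp hT) v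
    simp only [Module.End.mul_apply] at this
    simp [hN, this]
  let ρ : cen f →ₗ[K] cen (f.restrict hM) :=
    { toFun := fun T => ⟨(T : Module.End K V).restrict (hcM _ T.2), by
        rw [mem_cen]
        ext v
        exact LinearMap.congr_fun (mem_cen.mp T.2) (v : V)⟩
      map_add' := fun _ _ => by ext; rfl
      map_smul' := fun _ _ => by ext; rfl }
  -- lifting
  have hsurj : Function.Surjective ρ := by
    rintro ⟨T, hT⟩
    obtain ⟨σ, hσ⟩ := LinearMap.exists_rightInverse_of_surjective N.rangeRestrict (LinearMap.range_rangeRestrict _)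
    have hσ' : ∀ m : M, N (σ m) = m := fun m => congrArg Subtype.val (LinearMap.congr_fun hσ m)
    let P : V →ₗ[K] M := N.rangeRestrict
    let T₀ : Module.End K V := σ.comp ((T : Module.End K M).comp P)
    let D : M →ₗ[K] V := M.subtype.comp (T : Module.End K M) - T₀.comp M.subtype
    have hD : ∀ m, D m ∈ W := by
      intro m
      rw [LinearMap.mem_ker]
      simp only [D, T₀, LinearMap.sub_apply, LinearMap.comp_apply, map_sub, hσ', Submodule.subtype_apply]
      have hcom := LinearMap.congr_fun (mem_cen.mp hT) m
      simp only [Module.End.mul_apply] at hcom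
      have hP : P (m : V) = f.restrict hM m - c • m := Subtype.ext (by
        show N (m : V) = _
        simp [hN])
      rw [hP, map_sub, map_smul, ← hcom]
      simp [hN]
    obtain ⟨Φ, hΦ⟩ := LinearMap.exists_extend (LinearMap.codRestrict W D hD)
    let T₁ : Module.End K V := T₀ + W.subtype.comp Φ
    have hT₁M : ∀ m : M, T₁ (m : V) = (T m : V) := by
      intro m
      have := congrArg Subtype.val (LinearMap.congr_fun hΦ m)
      simp only [LinearMap.comp_apply, Submodule.subtype_apply, LinearMap.codRestrict_apply] at this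
      simp only [T₁, LinearMap.add_apply, LinearMap.comp_apply, Submodule.subtype_apply, this, D, LinearMap.sub_apply]
      abel
    have hT₁ : T₁ ∈ cen f := by
      rw [mem_cen]
      ext v
      simp only [Module.End.mul_apply]
      have hW : N ((Φ v : V)) = 0 := LinearMap.mem_ker.mp (Φ v).2
      rw [hfN (T₁ v), hfN v, map_add, map_smul]
      congr 1
      rw [show N v = ((P v : M) : V) from rfl, hT₁M]
      simp only [T₁, T₀, LinearMap.add_apply, LinearMap.comp_apply, map_add, hσ', Submodule.subtype_apply, hW,
        add_zero]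
    exact ⟨⟨T₁, hT₁⟩, Subtype.ext (LinearMap.ext fun m => Subtype.ext (hT₁M m))⟩
  -- kernel
  let ψ : ((V ⧸ M) →ₗ[K] W) →ₗ[K] LinearMap.ker ρ :=
    { toFun := fun S => ⟨⟨W.subtype.comp (S.comp M.mkQ), by
        rw [mem_cen]
        ext v
        simp only [Module.End.mul_apply, LinearMap.comp_apply, Submodule.subtype_apply]
        have hW : N ((S (M.mkQ v) : V)) = 0 := LinearMap.mem_ker.mp (S (M.mkQ v)).2
        rw [hfN, hW, zero_add, hfN v, map_add, map_smul]
        have : M.mkQ (N v) = 0 := by rw [Submodule.mkQ_apply, Submodule.Quotient.mk_eq_zero]; exact ⟨v, rfl⟩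
        rw [this, zero_add, map_smul, Submodule.coe_smul]⟩, by
        rw [LinearMap.mem_ker]
        ext m
        change ((S (M.mkQ (m : V))) : V) = 0
        rw [Submodule.mkQ_apply, (Submodule.Quotient.mk_eq_zero M).mpr m.2, map_zero]
        rfl⟩
      map_add' := fun _ _ => by ext; rfl
      map_smul' := fun _ _ => by ext; rfl }
  have hψ : Function.Injective ψ := by
    intro S S' h
    ext v
    exact LinearMap.congr_fun (congrArg (fun z : LinearMap.ker ρ => ((z : cen f) : Module.End K V)) h) v
  haveI : Module.Free K ↥(cen (f.restrict hM)) := Module.Free.of_divisionRing K ↥(cen (f.restrict hM))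
  obtain ⟨τ, hτ⟩ := LinearMap.exists_rightInverse_of_surjective ρ (LinearMap.range_eq_top.mpr hsurj)
  let Ψ : (((V ⧸ M) →ₗ[K] W) × cen (f.restrict hM)) →ₗ[K] cen f :=
    LinearMap.coprod ((LinearMap.ker ρ).subtype.comp ψ) τ
  have hΨ : Function.Injective Ψ := by
    rintro ⟨S, T⟩ ⟨S', T'⟩ h
    have hk : ∀ S, ρ ((ψ S : LinearMap.ker ρ) : cen f) = 0 := fun S => (ψ S).2
    have hτ' : ∀ T, ρ (τ T) = T := fun T => LinearMap.congr_fun hτ T
    have e := congrArg ρ h
    simp only [Ψ, LinearMap.coprod_apply, LinearMap.comp_apply, Submodule.subtype_apply, map_add, hk, hτ',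
      zero_add] at e
    subst e
    simp only [Ψ, LinearMap.coprod_apply, LinearMap.comp_apply, Submodule.subtype_apply, add_left_inj] at h
    exact Prod.ext (hψ (Subtype.ext h)) rfl
  have h1 := LinearMap.finrank_le_finrank_of_injective hΨ
  rw [Module.finrank_prod, Module.finrank_linearMap, show finrank K (V ⧸ M) = finrank K W by
    have e1 := N.finrank_range_add_finrank_ker
    have e2 := Submodule.finrank_quotient_add_finrank M
    change finrank K M + finrank K W = finrank K V at e1
    omega] at h1
  rw [sq]
  exact h1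

/-- The square of the kernel dimension bounds the centraliser from below. -/
theorem sq_le_cen (f : Module.End K V) (c : K) : finrank K (End.eigenspace f c) ^ 2 ≤ finrank K (cen f) := by
  have hM : ∀ v ∈ LinearMap.range (f - c • 1), f v ∈ LinearMap.range (f - c • 1) := by
    rintro _ ⟨v, rfl⟩
    exact ⟨f v, by simp⟩
  have := cen_recursion f c hM
  rw [End.eigenspace_def]
  change finrank K (LinearMap.ker (f - c • 1)) ^ 2 ≤ _
  omega

/-- An operator with `f ^ 3 = 1` and `c` an eigenvalue. -/
theorem cen_cube [IsAlgClosed K] (f : Module.End K V) (hf : f ^ 3 = 1) {c : K} (hc : c ^ 3 = 1) :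
    2 * finrank K (End.eigenspace f c) ^ 2 + (finrank K V - finrank K (End.eigenspace f c)) ^ 2 ≤
      2 * finrank K (cen f) := by
  classical
  obtain ⟨a, b, hab, hab'⟩ : ∃ a b : K, a + b = -c ∧ a * b = c ^ 2 := by
    obtain ⟨a, ha⟩ := IsAlgClosed.exists_root (Polynomial.X ^ 2 + Polynomial.C c * Polynomial.X + Polynomial.C (c ^ 2))
      (by
        have : (Polynomial.X ^ 2 + Polynomial.C c * Polynomial.X + Polynomial.C (c ^ 2)).degree = 2 := by
          compute_degree!
        rw [this]; norm_num)
    refine ⟨a, -c - a, by ring, ?_⟩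
    simp [Polynomial.IsRoot] at ha
    linear_combination (-1 : K) * ha
  have hM : ∀ v ∈ LinearMap.range (f - c • 1), f v ∈ LinearMap.range (f - c • 1) := by
    rintro _ ⟨v, rfl⟩
    exact ⟨f v, by simp⟩
  have h1 := cen_recursion f c hM
  set M := LinearMap.range (f - c • 1)
  set g : Module.End K M := f.restrict hM with hg
  have hM' : ∀ v ∈ LinearMap.range (g - a • 1), g v ∈ LinearMap.range (g - a • 1) := by
    rintro _ ⟨v, rfl⟩
    exact ⟨g v, by simp⟩
  have h2 := cen_recursion g a hM'
  have hquad : ∀ m : M, (g - b • 1) ((g - a • 1) m) = 0 := by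
    rintro ⟨_, v, rfl⟩
    apply Subtype.ext
    have e := LinearMap.congr_fun hf v
    rw [show (f ^ 3) v = f (f (f v)) from rfl, Module.End.one_apply] at e
    have ec : (a * b * c) = 1 := by rw [hab', ← hc]; ring
    simp only [g, LinearMap.sub_apply, LinearMap.smul_apply, Module.End.one_apply, map_sub, map_smul,
      Submodule.coe_sub, Submodule.coe_smul, LinearMap.coe_restrict_apply, Submodule.coe_zero]
    rw [e]
    have h3 : b = -c - a := by linear_combination hab
    subst h3
    have h4 : a * (-c - a) * c = 1 := ec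
    have h5 : a * a + a * c + c * c = 0 := by linear_combination (-1 : K) * hab'
    match_scalars <;> first | linear_combination (-1 : K) * h4 | linear_combination h5 | linear_combination (-1 : K) * h5 | ring
  have hsc : (g.restrict hM' : Module.End K (LinearMap.range (g - a • 1))) = b • 1 := by
    refine LinearMap.ext ?_
    rintro ⟨_, m, rfl⟩
    apply Subtype.ext
    have := hquad m
    rw [LinearMap.sub_apply, sub_eq_zero] at this
    simpa using this
  have h3 := sq_le_cen_scalar _ hsc
  have e1 := (f - c • 1).finrank_range_add_finrank_ker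
  have e2 := (g - a • 1).finrank_range_add_finrank_ker
  change finrank K M + _ = _ at e1
  rw [show End.eigenspace f c = LinearMap.ker (f - c • 1) from End.eigenspace_def]
  set w := finrank K (LinearMap.ker (f - c • 1))
  set t := finrank K (LinearMap.ker (g - a • 1))
  set s := finrank K (LinearMap.range (g - a • 1))
  have : finrank K V - w = s + t := by omega
  rw [this]
  nlinarith [sq_nonneg ((s : ℤ) - t)]

/-- Invertible operators with pairwise twisted commutation, separated by the twists, are independent. -/
theorem card_le_sq {U : Type*} [AddCommGroup U] [Module K U] [FiniteDimensional K U] [Nontrivial U]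
    {Q : Type*} [Fintype Q] (A : Q → Module.End K U) (hA : ∀ q, IsUnit (A q)) (e : Q → Q → K)
    (he : ∀ a b, A a * A b = e a b • (A b * A a)) (hsep : ∀ a b, a ≠ b → ∃ d, e a d ≠ e b d) :
    LinearIndependent K A ∧ Fintype.card Q ≤ finrank K U ^ 2 := by
  classical
  have hli : LinearIndependent K A := by
    rw [linearIndependent_iff']
    intro S
    induction S using Finset.induction with
    | empty => intro c _ x hx; exact absurd hx (Finset.notMem_empty _)
    | insert y S hy ih =>
      intro c hsum
      rw [Finset.sum_insert hy] at hsum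
      have hS : ∀ x ∈ S, c x = 0 := fun x hx => by
        obtain ⟨d, hd⟩ := hsep x y (fun h => hy (h ▸ hx))
        have h1 : ∀ z, (c z * (e z d - e y d)) • (A d * A z) = (c z • A z) * A d - e y d • (A d * (c z • A z)) := by
          intro z
          rw [smul_mul_assoc, he z d, mul_smul_comm, smul_smul, smul_smul, ← sub_smul]
          congr 1
          ring
        have h2 : ∑ z ∈ S, (c z * (e z d - e y d)) • (A d * A z) = 0 := by
          have h3 : c y • A y = -∑ z ∈ S, c z • A z := eq_neg_of_add_eq_zero_left hsum
          have h4 : (c y • A y) * A d - e y d • (A d * (c y • A y)) = 0 := by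
            rw [← h1 y, sub_self, mul_zero, zero_smul]
          rw [h3, neg_mul, mul_neg, smul_neg, Finset.sum_mul, Finset.mul_sum, Finset.smul_sum, neg_sub_neg,
            ← Finset.sum_sub_distrib] at h4
          calc _ = ∑ z ∈ S, ((c z • A z) * A d - e y d • (A d * (c z • A z))) := Finset.sum_congr rfl fun z _ => h1 z
            _ = -(∑ z ∈ S, (e y d • (A d * (c z • A z)) - (c z • A z) * A d)) := by
              rw [← Finset.sum_neg_distrib]; exact Finset.sum_congr rfl fun z _ => (neg_sub _ _).symm
            _ = 0 := by rw [h4, neg_zero]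
        have h5 : ∑ z ∈ S, (c z * (e z d - e y d)) • A z = 0 := by
          apply (hA d).mul_left_cancel
          rw [mul_zero, Finset.mul_sum, ← h2]
          exact Finset.sum_congr rfl fun z _ => mul_smul_comm _ _ _
        exact (mul_eq_zero.mp (ih _ h5 x hx)).resolve_right (sub_ne_zero.mpr hd)
      intro x hx
      rcases Finset.mem_insert.mp hx with rfl | hx
      · rw [Finset.sum_eq_zero (fun z hz => by rw [hS z hz, zero_smul]), add_zero] at hsum
        exact (smul_eq_zero.mp hsum).resolve_right (hA x).ne_zero
      · exact hS x hx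
  refine ⟨hli, ?_⟩
  have := hli.fintype_card_le_finrank
  rwa [Module.finrank_linearMap, ← sq] at this

/-- Fixed vectors of a monomial map are supported on a set of orbit representatives. -/
theorem finrank_fixed_le {Q : Type*} [Fintype Q] (φ : Q → Q) {ϖ : ℕ} (hϖ : ϖ.Prime) (hper : ∀ q, φ^[ϖ] q = q)
    (s : Q → K) (hs : ∀ q, s q ≠ 0) (Z : Submodule K (Q → K)) (hZ : ∀ a ∈ Z, ∀ q, a (φ q) = s q * a q) :
    ϖ * finrank K Z + Nat.card {q // φ q = q} ≤
      ϖ * Nat.card {q // φ q = q ∧ s q = 1} + Fintype.card Q := by
  classical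
  let idx : Q ≃ Fin (Fintype.card Q) := Fintype.equivFin Q
  let F : Finset Q := Finset.univ.filter fun q => φ q ≠ q ∧ ∀ i : ℕ, idx q ≤ idx (φ^[i] q)
  let C : Finset Q := Finset.univ.filter fun q => φ q = q ∧ s q = 1
  -- representatives determine the vector
  have hit : ∀ a ∈ Z, ∀ q, a q = 0 → ∀ i, a (φ^[i] q) = 0 := by
    intro a ha q hq i
    induction i with
    | zero => simpa using hq
    | succ i ih => rw [Function.iterate_succ_apply', hZ a ha, ih, mul_zero]
  let π : Z →ₗ[K] (↥(F ∪ C) → K) := (LinearMap.funLeft K K (fun x : ↥(F ∪ C) => (x : Q))).comp Z.subtype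
  have hπ : Function.Injective π := by
    rw [← LinearMap.ker_eq_bot, LinearMap.ker_eq_bot']
    rintro ⟨a, ha⟩ h
    have h' : ∀ x ∈ F ∪ C, a x = 0 := fun x hx => congrFun h ⟨x, hx⟩
    apply Subtype.ext
    funext q
    show a q = 0
    by_cases hfix : φ q = q
    · by_cases h1 : s q = 1
      · exact h' q (Finset.mem_union_right _ (by simp [C, hfix, h1]))
      · have := hZ a ha q
        rw [hfix] at this
        have : (s q - 1) * a q = 0 := by linear_combination (-1 : K) * this
        exact (mul_eq_zero.mp this).resolve_left (sub_ne_zero.mpr h1)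
    · obtain ⟨x, hx, hmin⟩ := Finset.exists_min_image (Finset.univ.filter fun x => ∃ i : ℕ, φ^[i] q = x) idx
        ⟨q, Finset.mem_filter.mpr ⟨Finset.mem_univ _, 0, rfl⟩⟩
      obtain ⟨i, rfl⟩ := (Finset.mem_filter.mp hx).2
      have hper' : ∀ k, φ^[ϖ * k] q = q := by
        intro k
        induction k with
        | zero => rfl
        | succ k ih => rw [Nat.mul_succ, Function.iterate_add_apply, hper, ih]
      have hback : φ^[ϖ * i - i] (φ^[i] q) = q := by
        rw [← Function.iterate_add_apply, Nat.sub_add_cancel (Nat.le_mul_of_pos_left i hϖ.pos), hper']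
      have hxF : φ^[i] q ∈ F := by
        refine Finset.mem_filter.mpr ⟨Finset.mem_univ _, fun h => hfix ?_, fun j => hmin _ ?_⟩
        · rw [Function.iterate_fixed h] at hback
          rw [← hback]
          exact h
        · exact Finset.mem_filter.mpr ⟨Finset.mem_univ _, j + i, Function.iterate_add_apply _ _ _ _⟩
      have := hit a ha _ (h' _ (Finset.mem_union_left _ hxF)) (ϖ * i - i)
      rwa [hback] at this
  have h1 := LinearMap.finrank_le_finrank_of_injective hπ
  rw [Module.finrank_fintype_fun_eq_card, Fintype.card_coe] at h1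
  have h2 := Finset.card_union_le F C
  -- each representative has a full orbit
  have hperiod : ∀ q, φ q ≠ q → Function.minimalPeriod φ q = ϖ := fun q hq =>
    (hϖ.eq_one_or_self_of_dvd _ (Function.IsPeriodicPt.minimalPeriod_dvd (hper q))).resolve_left
      (fun h => hq (Function.minimalPeriod_eq_one_iff_isFixedPt.mp h))
  let ι : ↥F × Fin ϖ → {q : Q // ¬ φ q = q} := fun x => ⟨φ^[(x.2 : ℕ)] (x.1 : Q), fun h => by
    have hx := (Finset.mem_filter.mp x.1.2).2.1
    have e : φ^[ϖ - x.2] (φ^[(x.2 : ℕ)] (x.1 : Q)) = x.1 := by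
      rw [← Function.iterate_add_apply, Nat.sub_add_cancel x.2.2.le, hper]
    rw [Function.iterate_fixed h] at e
    rw [e] at h
    exact hx h⟩
  have hι : Function.Injective ι := by
    rintro ⟨⟨x, hx⟩, i⟩ ⟨⟨y, hy⟩, j⟩ h
    have h' : φ^[(i : ℕ)] x = φ^[(j : ℕ)] y := congrArg Subtype.val h
    obtain ⟨-, hxn, hxm⟩ := Finset.mem_filter.mp hx
    obtain ⟨-, hyn, hym⟩ := Finset.mem_filter.mp hy
    have key : ∀ (x y : Q) (i j : Fin ϖ), φ^[(i : ℕ)] x = φ^[(j : ℕ)] y → ∃ k, φ^[k] y = x := fun x y i j h =>
      ⟨ϖ - i + j, by rw [Function.iterate_add_apply, ← h, ← Function.iterate_add_apply,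
        Nat.sub_add_cancel i.2.le, hper]⟩
    obtain ⟨k, hk⟩ := key x y i j h'
    obtain ⟨l, hl⟩ := key y x j i h'.symm
    have exy : x = y := idx.injective (le_antisymm (hl ▸ hxm l) (hk ▸ hym k))
    subst exy
    have := Function.iterate_injOn_Iio_minimalPeriod (f := φ) (x := x) (by simp [hperiod x hxn, i.2])
      (by simp [hperiod x hxn, j.2]) h'
    exact Prod.ext rfl (Fin.ext this)
  have h3 := Fintype.card_le_of_injective ι hι
  rw [Fintype.card_prod, Fintype.card_coe, Fintype.card_fin, Fintype.card_subtype_compl] at h3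
  rw [Nat.card_eq_fintype_card, Nat.card_eq_fintype_card,
    show Fintype.card {q // φ q = q ∧ s q = 1} = C.card from Fintype.card_subtype _]
  have h4 := Fintype.card_subtype_le (fun q : Q => φ q = q)
  have h5 : ϖ * finrank K Z ≤ ϖ * (F.card + C.card) := Nat.mul_le_mul le_rfl (h1.trans h2)
  rw [Nat.mul_add, mul_comm ϖ F.card] at h5
  omega

end Cfsg.Agent.Classical.EigenBound
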