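import Cfsg.Agent.Lib.Small.Unitary.Simple
import Cfsg.Agent.Lib.Classical.UnitaryForm

/-!
# Unitary transvections: generation, and each is a commutator
-/

set_option autoImplicit false
set_option linter.unusedSectionVars false
set_option linter.style.haveILetI false

namespace Cfsg.Agent.Classical.UTrans

open Matrix Cfsg.Agent.Small Cfsg.Agent.Small.Unitary
open scoped commutatorElement

variable {F : Type*} [Field F] [Fintype F] [StarRing F] {n q : ℕ} (hstar : ∀ x : F, star x = x ^ q)
include hstar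

theorem herm_of_hermForm (v : Fin n → F) (h : Cfsg.hermForm n F q v v = 0) : herm v v = 0 := by
  rw [herm, ← h, Cfsg.hermForm, dotProduct]
  exact Finset.sum_congr rfl fun i _ => by rw [Pi.star_apply, hstar, mul_comm]

theorem transvection_eq (v : Fin n → F) (c : F) : Cfsg.unitaryTransvection n q v c = transMat v c := by
  rw [Cfsg.unitaryTransvection, transMat]
  congr 3
  funext j
  rw [Pi.star_apply, hstar]

theorem trans_mem_set (v : Fin n → F) (hv : herm v v = 0) (t : F) (ht : star t = -t) :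
    trans hstar v hv t ht ∈ {A : ↥(Cfsg.SU n F q) | ∃ (v : Fin n → F) (c : F), Cfsg.hermForm n F q v v = 0 ∧
      ((A : Matrix.SpecialLinearGroup (Fin n) F) : Matrix (Fin n) (Fin n) F) = Cfsg.unitaryTransvection n q v c} := by
  refine ⟨v, t, ?_, by rw [transvection_eq hstar]; rfl⟩
  rw [← hv, herm, Cfsg.hermForm, dotProduct]
  exact Finset.sum_congr rfl fun i _ => by rw [Pi.star_apply, hstar, mul_comm]

/-- The transvections generate. -/
theorem closure_eq_top (hF : Fintype.card F = q ^ 2) (hn : 3 ≤ n) (hex : ¬(n = 3 ∧ q = 2)) :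
    Subgroup.closure {A : ↥(Cfsg.SU n F q) | ∃ (v : Fin n → F) (c : F), Cfsg.hermForm n F q v v = 0 ∧
      ((A : Matrix.SpecialLinearGroup (Fin n) F) : Matrix (Fin n) (Fin n) F) = Cfsg.unitaryTransvection n q v c} = ⊤ := by
  obtain ⟨S, hS⟩ : ∃ S, S = {A : ↥(Cfsg.SU n F q) | ∃ (v : Fin n → F) (c : F), Cfsg.hermForm n F q v v = 0 ∧
      ((A : Matrix.SpecialLinearGroup (Fin n) F) : Matrix (Fin n) (Fin n) F) = Cfsg.unitaryTransvection n q v c} :=
    ⟨_, rfl⟩
  rw [← hS]
  have hconj : ∀ A ∈ S, ∀ g : ↥(Cfsg.SU n F q), g * A * g⁻¹ ∈ S := by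
    rw [hS]
    rintro A ⟨v, c, hv, hA⟩ g
    refine ⟨act g v, c, ?_, ?_⟩
    · exact (g.2 v v).trans hv
    · have hgg : g.1.1ᴴ = (g⁻¹).1.1 := by
        have h1 := conjTranspose_mul_self hstar g
        have h2 : g.1.1 * (g⁻¹).1.1 = 1 := congrArg (fun x : ↥(Cfsg.SU n F q) => x.1.1) (mul_inv_cancel g)
        calc g.1.1ᴴ = g.1.1ᴴ * (g.1.1 * (g⁻¹).1.1) := by rw [h2, Matrix.mul_one]
          _ = _ := by rw [← Matrix.mul_assoc, h1, Matrix.one_mul]
      show g.1.1 * A.1.1 * (g⁻¹).1.1 = _
      rw [hA, transvection_eq hstar, transvection_eq hstar, transMat, transMat, Matrix.mul_add, Matrix.mul_one,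
        Matrix.add_mul, ← hgg, Matrix.mul_smul, Matrix.smul_mul, Matrix.mul_vecMulVec, Matrix.vecMulVec_mul,
        ← Matrix.star_mulVec]
      congr 1
      rw [hgg]
      exact congrArg (fun x : ↥(Cfsg.SU n F q) => x.1.1) (mul_inv_cancel g)
  haveI : (Subgroup.closure S).Normal :=
    ⟨fun h hh g => by
      have : Subgroup.closure S ≤ (Subgroup.closure S).comap (MulAut.conj g).toMonoidHom :=
        (Subgroup.closure_le _).mpr fun A hA => Subgroup.subset_closure (hconj A hA g)
      exact this hh⟩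
  obtain ⟨e, f, P⟩ := exists_pair (q := q) hstar hF (i := (⟨0, by omega⟩ : Fin n)) (j := ⟨1, by omega⟩)
    (by simp [Fin.ext_iff])
  have he0 : e ≠ 0 := fun h => by
    have := P.ef
    rw [h, herm_zero_left] at this
    exact zero_ne_one this
  exact normal_eq_top (hstar := hstar) hF hn hex he0 P.ee fun t ht =>
    Subgroup.subset_closure (hS ▸ trans_mem_set hstar e P.ee t ht)

theorem conj_mem_commutatorSet {A : ↥(Cfsg.SU n F q)} (h : A ∈ commutatorSet ↥(Cfsg.SU n F q))
    (g : ↥(Cfsg.SU n F q)) : g * A * g⁻¹ ∈ commutatorSet ↥(Cfsg.SU n F q) := by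
  obtain ⟨a, b, rfl⟩ := h
  exact ⟨g * a * g⁻¹, g * b * g⁻¹, by rw [conjugate_commutatorElement]⟩

/-- Some nonzero isotropic vector whose transvections are commutators. -/
theorem exists_comm_vector (hF : Fintype.card F = q ^ 2) (hn : 4 ≤ n ∨ (n = 3 ∧ 3 ≤ q)) :
    ∃ (v : Fin n → F) (_ : v ≠ 0) (hv : herm v v = 0),
      ∀ (t : F) (ht : star t = -t), trans hstar v hv t ht ∈ commutatorSet ↥(Cfsg.SU n F q) := by
  classical
  have hq := Hermitian.q_two_le hF
  by_cases h4 : 4 ≤ n
  · obtain ⟨E, D, hfr⟩ := exists_frame (n := n) (l := 2) hF hstar (by omega)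
    let v : Fin n → F := fun m => E m 1
    have hv : herm v v = 0 := congrFun (congrFun hfr.isoE 1) 1
    have hv0 : v ≠ 0 := fun h => by
      have h1 := congrFun (congrFun hfr.dual 1) 1
      rw [Matrix.one_apply_eq, Matrix.mul_apply] at h1
      have h2 : ∀ m, E m 1 = 0 := fun m => congrFun h m
      simp [h2] at h1
    refine ⟨v, hv0, hv, fun t ht => ?_⟩
    obtain ⟨c₀, hc₀⟩ := exists_trace hstar hF (r := (1 : F)) (by simp)
    let H : skewH F 2 := ⟨!![0, 1; -1, 0], by
      change (!![0, 1; -1, 0] : Matrix (Fin 2) (Fin 2) F)ᴴ = -!![0, 1; -1, 0]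
      ext a b; fin_cases a <;> fin_cases b <;> simp⟩
    let g : Matrix (Fin 2) (Fin 2) F := !![1, 0; t * c₀, 1]
    obtain ⟨u, hu⟩ := realised_sl hstar hfr g (by simp [g, Matrix.det_fin_two])
    refine ⟨u, radElem hstar E hfr.isoE H, ?_⟩
    have h1 : ⁅u, radElem hstar E hfr.isoE H⁆ =
        radElem hstar E hfr.isoE (⟨g * H.1 * gᴴ, congr_skew g H⟩ - H) := by
      rw [commutatorElement_def, conj_radElem hstar E hfr.isoE u g hu H, mul_inv_eq_iff_eq_mul,
        ← radElem_add, sub_add_cancel]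
    rw [h1]
    apply Subtype.ext
    apply Subtype.ext
    change 1 + E * (g * H.1 * gᴴ - H.1) * Eᴴ = transMat v t
    have hm : g * H.1 * gᴴ - H.1 = Matrix.single 1 1 t := by
      ext a b
      simp only [H, g, Matrix.sub_apply, Matrix.mul_apply, Fin.sum_univ_two,
        Matrix.conjTranspose_apply, Matrix.single_apply]
      fin_cases a <;> fin_cases b <;> simp
      rw [ht]
      linear_combination t * hc₀
    rw [hm, transMat]
    congr 1
    ext a b
    rw [Matrix.mul_apply, Fin.sum_univ_two]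
    simp [Matrix.vecMulVec_apply, v]
    ring
  · obtain ⟨hn3, hq3⟩ := hn.resolve_left h4
    have htop : HasTrans hstar (⊤ : Subgroup (Cfsg.SU n F q)) := fun _ _ _ _ => trivial
    obtain ⟨e, f, P⟩ := exists_pair (q := q) hstar hF (i := (⟨0, by omega⟩ : Fin n)) (j := ⟨1, by omega⟩)
      (by simp [Fin.ext_iff])
    have hk : (⟨2, by omega⟩ : Fin n) ∈ (Finset.univ : Finset (Fin n)) \ {⟨0, by omega⟩, ⟨1, by omega⟩} := by
      simp [Fin.ext_iff]
    have he0 : e ≠ 0 := fun h => by
      have := P.ef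
      rw [h, herm_zero_left] at this
      exact zero_ne_one this
    refine ⟨e, he0, P.ee, fun t ht => ?_⟩
    obtain ⟨lam, hlam0, hlam⟩ : ∃ lam : F, lam ≠ 0 ∧ star lam * lam - 1 ≠ 0 := by
      obtain ⟨g, hg⟩ := IsCyclic.exists_ofOrder_eq_natCard (α := Fˣ)
      rw [Nat.card_units, Nat.card_eq_fintype_card, hF] at hg
      refine ⟨(g : F), g.ne_zero, fun h => ?_⟩
      rw [sub_eq_zero, hstar, ← pow_succ, ← Units.val_pow_eq_pow_val] at h
      have h1 : g ^ (q + 1) = 1 := Units.ext h
      rw [← orderOf_dvd_iff_pow_eq_one, hg] at h1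
      have h2 := Nat.le_of_dvd (by omega) h1
      have h3 : 3 * q ≤ q ^ 2 := by rw [pow_two]; exact Nat.mul_le_mul_right q (by omega)
      omega
    obtain ⟨g, -, -, hg⟩ := moves_scalar hF htop P (Finset.mem_univ _) (Finset.mem_univ _) hk hlam0
    set N := star lam * lam with hN
    have hNs : star N = N := by rw [hN, star_mul', star_star, mul_comm]
    have hs : star (t / (N - 1)) = -(t / (N - 1)) := by
      rw [star_div₀, star_sub, hNs, star_one, ht, neg_div]
    refine ⟨g, trans hstar e P.ee _ hs, ?_⟩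
    rw [commutatorElement_def, conj_trans_scale hstar g e P.ee hg, mul_inv_eq_iff_eq_mul, ← trans_add]
    apply Subtype.ext
    apply Subtype.ext
    change transMat e (N * (t / (N - 1))) = transMat e (t + t / (N - 1))
    congr 1
    field_simp
    ring

/-- Every transvection is a commutator. -/
theorem mem_commutatorSet (hF : Fintype.card F = q ^ 2) (hn : 4 ≤ n ∨ (n = 3 ∧ 3 ≤ q))
    (A : ↥(Cfsg.SU n F q)) (v : Fin n → F) (c : F) (hv0 : Cfsg.hermForm n F q v v = 0)
    (hA : ((A : Matrix.SpecialLinearGroup (Fin n) F) : Matrix (Fin n) (Fin n) F) =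
      Cfsg.unitaryTransvection n q v c) : A ∈ commutatorSet ↥(Cfsg.SU n F q) := by
  have hv := herm_of_hermForm hstar v hv0
  rw [transvection_eq hstar] at hA
  by_cases hvz : v = 0
  · refine ⟨1, 1, ?_⟩
    rw [commutatorElement_self]
    exact Subtype.ext (Subtype.ext (by rw [hA, hvz]; simp [transMat]))
  obtain ⟨i, hi⟩ := Function.ne_iff.mp hvz
  have ht : star c = -c := by
    have h1 := conjTranspose_mul_self hstar A
    rw [hA] at h1
    have h2 : (transMat v c)ᴴ = transMat v (star c) := by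
      rw [transMat, transMat, Matrix.conjTranspose_add, Matrix.conjTranspose_one, Matrix.conjTranspose_smul,
        Matrix.conjTranspose_vecMulVec, star_star]
    rw [h2, transMat_mul v hv, transMat, add_eq_left] at h1
    have h3 := congrFun (congrFun h1 i) i
    simp only [Matrix.smul_apply, Matrix.vecMulVec_apply, Pi.star_apply, smul_eq_mul, Matrix.zero_apply,
      mul_eq_zero, star_eq_zero] at h3
    exact eq_neg_of_add_eq_zero_left (h3.resolve_right (by simpa using hi))
  have hA' : A = trans hstar v hv c ht := Subtype.ext (Subtype.ext hA)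
  obtain ⟨w, hw0, hw, hcomm⟩ := exists_comm_vector hstar hF hn
  have hn3 : 3 ≤ n := by rcases hn with h | h <;> omega
  have htop : HasTrans hstar (⊤ : Subgroup (Cfsg.SU n F q)) := fun _ _ _ _ => trivial
  obtain ⟨e, f, P⟩ := exists_pair (q := q) hstar hF (i := (⟨0, by omega⟩ : Fin n)) (j := ⟨1, by omega⟩)
    (by simp [Fin.ext_iff])
  have hk : (⟨2, by omega⟩ : Fin n) ∈ (Finset.univ : Finset (Fin n)) \ {⟨0, by omega⟩, ⟨1, by omega⟩} := by
    simp [Fin.ext_iff]
  have hall : ∀ x : Fin n → F, x ≠ 0 → herm x x = 0 →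
      Moves (⊤ : Subgroup (Cfsg.SU n F q)) Finset.univ x e := fun x hx0 hx =>
    moves_to_e hF htop P (Finset.mem_univ _) (Finset.mem_univ _) hk hx0 hx
      (fun m hm => absurd (Finset.mem_univ m) hm)
  obtain ⟨g, -, -, hg⟩ := (hall w hw0 hw).comp (hall v hvz hv).symm
  subst hg
  rw [hA', ← conj_trans hstar g w hw c ht]
  exact conj_mem_commutatorSet hstar (hcomm c ht) g

end Cfsg.Agent.Classical.UTrans
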