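/-
Overgroups in the special unitary group: reduction to transvections.
-/
import Cfsg.Agent.Lib.Classical.UnitaryTransComm
import Cfsg.Agent.Lib.Classical.UnitaryGroup

set_option autoImplicit false
set_option linter.unusedSectionVars false
set_option linter.style.haveILetI false

namespace Cfsg.Agent.Classical.UOver

open Matrix Cfsg.Geo
open Cfsg.Agent.Classical

variable {F : Type*} [Field F] [Fintype F] {n q : ℕ} {σ : F ≃+* F}

/-- `g` is the unitary transvection with centre `v` and parameter `c`. -/
def Tv (q : ℕ) (g : GL (Fin n) F) (v : Fin n → F) (c : F) : Prop :=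
  ∀ x, (g : Matrix (Fin n) (Fin n) F) *ᵥ x = x + (c * hermForm n F q x v) • v

theorem tv_unique {g h : GL (Fin n) F} {v : Fin n → F} {c : F} (hg : Tv q g v c) (hh : Tv q h v c) : g = h :=
  gl_ext_mulVec fun x => by rw [hg, hh]

theorem tv_conj {g t : GL (Fin n) F} (hg : g ∈ GU n F q) {v : Fin n → F} {c : F} (ht : Tv q t v c) :
    Tv q (g * t * g⁻¹) ((g : Matrix (Fin n) (Fin n) F) *ᵥ v) c := fun x => by
  have h : hermForm n F q x ((g : Matrix (Fin n) (Fin n) F) *ᵥ v) =
      hermForm n F q (((g⁻¹ : GL (Fin n) F) : Matrix (Fin n) (Fin n) F) *ᵥ x) v := by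
    conv_lhs => rw [← gl_mulVec_inv_cancel g x]
    exact mem_GU_iff.mp hg _ _
  rw [gl_mul_mulVec, gl_mul_mulVec, ht, Matrix.mulVec_add, gl_mulVec_inv_cancel, Matrix.mulVec_smul, h]

theorem tv_smul (hσ : IsUSigma q σ) {g : GL (Fin n) F} {v : Fin n → F} {c : F} (s : F) (hg : Tv q g (s • v) c) :
    Tv q g v (c * s * σ s) := fun x => by
  rw [hg, (semiForm_of_unitary hσ.isUnitaryForm).smul_right, smul_smul]
  congr 2
  ring

theorem tv_mem (hσ : IsUSigma q σ) {g : GL (Fin n) F} {v : Fin n → F} {c : F} (hv : hermForm n F q v v = 0)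
    (hc : c + σ c = 0) (hg : Tv q g v c) : g ∈ suGL n F q := by
  obtain ⟨g', hg', h'⟩ := hσ.exists_transvection hv hc
  exact tv_unique hg h' ▸ hg'

/-- A group containing all unitary transvections contains the special unitary group. -/
theorem suGL_le (hσ : IsUSigma q σ) (hn : 4 ≤ n) {K : Subgroup (GL (Fin n) F)}
    (h : ∀ (v : Fin n → F) (c : F), hermForm n F q v v = 0 → c + σ c = 0 → ∀ g, Tv q g v c → g ∈ K) :
    suGL n F q ≤ K := by
  letI : StarRing F :=
    { star := σ
      star_involutive := hσ.involutive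
      star_mul := fun a b => by rw [← map_mul, mul_comm]
      star_add := fun a b => map_add σ a b }
  have hstar : ∀ x : F, star x = x ^ q := hσ.apply_eq
  intro g hg
  let φ : Cfsg.SU n F q →* GL (Fin n) F := Matrix.SpecialLinearGroup.toGL.comp (Cfsg.SU n F q).subtype
  obtain ⟨hgU, hgS⟩ := hg
  let G : Cfsg.SU n F q := ⟨⟨(g : Matrix (Fin n) (Fin n) F), mem_specialLinear_iff.mp hgS⟩, hgU⟩
  have hle : (⊤ : Subgroup (Cfsg.SU n F q)) ≤ K.comap φ := by
    obtain ⟨e, f, P⟩ := Small.Unitary.exists_pair (q := q) hstar hσ.card (i := (⟨0, by omega⟩ : Fin n))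
      (j := ⟨1, by omega⟩) (by simp [Fin.ext_iff])
    let S : Set (Cfsg.SU n F q) := {A | ∃ (v : Fin n → F) (c : F), hermForm n F q v v = 0 ∧ c + σ c = 0 ∧ Tv q (φ A) v c}
    suffices hS : Subgroup.closure S = ⊤ by
      rw [← hS, Subgroup.closure_le]
      rintro A ⟨v, c, hv, hc, hA⟩
      exact h v c hv hc _ hA
    haveI : (Subgroup.closure S).Normal :=
      ⟨fun a ha b => by
        have : Subgroup.closure S ≤ (Subgroup.closure S).comap (MulAut.conj b).toMonoidHom :=
          (Subgroup.closure_le _).mpr fun A ⟨v, c, hv, hc, hA⟩ => Subgroup.subset_closure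
            ⟨(φ b : Matrix (Fin n) (Fin n) F) *ᵥ v, c, (b.2 v v).trans hv,
              hc, by
                show Tv q (φ (b * A * b⁻¹)) _ c
                rw [map_mul, map_mul, map_inv]
                exact tv_conj (show φ b ∈ GU n F q from b.2) hA⟩
        exact this ha⟩
    refine Small.Unitary.normal_eq_top (hstar := hstar) hσ.card (by omega) (by omega) (v := e) (fun h0 => ?_) P.ee
      fun t ht => Subgroup.subset_closure ?_
    · have := P.ef
      rw [h0, Small.Unitary.herm_zero_left] at this
      exact zero_ne_one this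
    · have hherm : ∀ x, hermForm n F q x e = Small.Unitary.herm e x := fun x => by
        rw [Small.Unitary.herm, hermForm, dotProduct]
        exact Finset.sum_congr rfl fun i _ => by rw [Pi.star_apply, hstar, mul_comm]
      refine ⟨e, t, by rw [hherm]; exact P.ee, by rw [show σ t = star t from rfl, ht]; ring, fun x => ?_⟩
      rw [hherm]
      exact Small.Unitary.transMat_mulVec e t x
  have := hle (Subgroup.mem_top G)
  rw [Subgroup.mem_comap, show φ G = g from Units.ext rfl] at this
  exact this

end Cfsg.Agent.Classical.UOver
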