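import Cfsg.Agent.Lib.Classical.OrthReflect

/-!
# The derived group of a finite orthogonal group, odd characteristic

The sign of the permutation induced on the vectors of value one separates the two classes of
reflections, and together with the determinant it identifies the abelianisation.
-/

set_option autoImplicit false
set_option linter.unusedSectionVars false

namespace Cfsg.Agent.Classical.OOmega

open Module QuadraticMap OCount ORefl

variable {F : Type*} [Field F] {V : Type*} [AddCommGroup V] [Module F V] {Q : QuadraticForm F V}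

variable (Q) in
/-- A reflection as an element of the isometry group. -/
noncomputable def rf (v : V) : ↥(Iso Q) := ⟨refl Q v, refl_mem v⟩

theorem rf_mul_self (v : V) : rf Q v * rf Q v = 1 := Subtype.ext (refl_mul_self v)

theorem rf_inv (v : V) : (rf Q v)⁻¹ = rf Q v := inv_eq_of_mul_eq_one_left (rf_mul_self v)

theorem conj_rf (g : ↥(Iso Q)) (v : V) : g * rf Q v * g⁻¹ = rf Q (g.1 v) := Subtype.ext (conj_refl g.2 v)

theorem rf_smul {t : F} (ht : t ≠ 0) (v : V) : rf Q (t • v) = rf Q v := Subtype.ext (refl_smul ht v)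

theorem siegel_eq_rf {e v : V} (he : Q e = 0) (hv : polar Q e v = 0) (hQv : Q v ≠ 0) :
    (⟨siegel he hv, siegel_mem he hv⟩ : ↥(Iso Q)) = rf Q (v - Q v • e) * rf Q v :=
  Subtype.ext (siegel_eq_refl he hv hQv).1

/-- Induction on words in reflections. -/
theorem induction_on [FiniteDimensional F V] (hQ : PND Q) (h : Nat.card F ≠ 2 ∨ finrank F V ≠ 4)
    {motive : ↥(Iso Q) → Prop} (g : ↥(Iso Q)) (one : motive 1)
    (mul : ∀ v g, Q v ≠ 0 → motive g → motive (rf Q v * g)) : motive g := by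
  have hg : (g : V ≃ₗ[F] V) ∈ reflGroup Q := (iso_eq_reflGroup hQ h).symm ▸ g.2
  suffices H : ∀ y ∈ reflGroup Q, ∀ hy : y ∈ Iso Q, motive ⟨y, hy⟩ from H _ hg g.2
  intro y hy
  induction hy using Subgroup.closure_induction_left with
  | one => intro _; exact one
  | mul_left x hx y hy' ih =>
    intro hy
    obtain ⟨v, hv, rfl⟩ := hx
    exact mul v ⟨y, iso_eq_reflGroup hQ h ▸ hy'⟩ hv (ih _)
  | inv_mul_cancel x hx y hy' ih =>
    intro hy
    obtain ⟨v, hv, rfl⟩ := hx
    have := mul v ⟨y, iso_eq_reflGroup hQ h ▸ hy'⟩ hv (ih _)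
    have e : (⟨_, hy⟩ : ↥(Iso Q)) = rf Q v * ⟨y, iso_eq_reflGroup hQ h ▸ hy'⟩ :=
      Subtype.ext (show (refl Q v)⁻¹ * y = refl Q v * y from congrArg (· * y) (refl_inv v))
    rw [e]; exact this

/-- A homomorphism is determined by the reflections. -/
theorem hom_ext [FiniteDimensional F V] (hQ : PND Q) (h : Nat.card F ≠ 2 ∨ finrank F V ≠ 4)
    {M : Type*} [MulOneClass M] {f f' : ↥(Iso Q) →* M} (e : ∀ v, Q v ≠ 0 → f (rf Q v) = f' (rf Q v)) :
    f = f' := by
  refine MonoidHom.ext fun g => induction_on (motive := fun g => f g = f' g) hQ h g (by rw [map_one, map_one]) fun v g hv ih => ?_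
  rw [map_mul, map_mul, e v hv, ih]

/-- Reflections of equal value are conjugate. -/
theorem exists_conj [FiniteDimensional F V] (hQ : PND Q) {v w : V} (hv : v ≠ 0) (hw : w ≠ 0) (hvw : Q w = Q v) :
    ∃ g : ↥(Iso Q), g.1 v = w := by
  obtain ⟨g, hg, hgv⟩ := witt hQ (F ∙ v)
    ((LinearMap.toSpanSingleton F V w) ∘ₗ (LinearEquiv.toSpanNonzeroSingleton F V v hv).symm.toLinearMap)
    ((smul_left_injective F hw).comp (LinearEquiv.toSpanNonzeroSingleton F V v hv).symm.injective) (fun x => by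
      obtain ⟨t, rfl⟩ := (LinearEquiv.toSpanNonzeroSingleton F V v hv).surjective x
      simp only [LinearMap.comp_apply, LinearEquiv.coe_coe, LinearEquiv.symm_apply_apply, LinearMap.toSpanSingleton_apply]
      rw [QuadraticMap.map_smul, hvw, ← QuadraticMap.map_smul]; rfl)
  refine ⟨⟨g, hg⟩, ?_⟩
  have h1 := hgv (LinearEquiv.toSpanNonzeroSingleton F V v hv 1)
  simp only [LinearMap.comp_apply, LinearEquiv.coe_coe, LinearEquiv.symm_apply_apply,
    LinearMap.toSpanSingleton_apply, one_smul] at h1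
  simpa using h1

/-- In a commutative image reflections of equal value agree. -/
theorem map_rf_eq [FiniteDimensional F V] (hQ : PND Q) {M : Type*} [CommGroup M] (f : ↥(Iso Q) →* M) {v w : V}
    (hv : Q v ≠ 0) (hvw : Q w = Q v) : f (rf Q w) = f (rf Q v) := by
  obtain ⟨g, rfl⟩ := exists_conj hQ (fun e => hv (by rw [e, QuadraticMap.map_zero]))
    (fun e => hv (by rw [← hvw, e, QuadraticMap.map_zero])) hvw
  rw [← conj_rf, map_mul, map_mul, map_inv, mul_comm (f g), mul_inv_cancel_right]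

section Odd

variable [FiniteDimensional F V]

theorem two_ne (h2 : (2 : F) ≠ 0) : Nat.card F ≠ 2 ∨ finrank F V ≠ 4 := Or.inl fun h => by
  haveI : Finite F := Nat.finite_of_card_ne_zero (by omega)
  haveI := Fintype.ofFinite F
  rw [Nat.card_eq_fintype_card] at h
  have := FiniteField.cast_card_eq_zero F
  rw [h] at this
  exact h2 (by exact_mod_cast this)

/-- The determinant of a reflection. -/
theorem det_refl {v : V} (hv : Q v ≠ 0) : LinearMap.det (refl Q v : V →ₗ[F] V) = -1 := by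
  have e : (refl Q v : V →ₗ[F] V) = LinearMap.transvection (-(Q v)⁻¹ • Q.polarBilin v) v := by
    ext x
    rw [LinearMap.transvection.apply]
    change refl Q v x = _
    rw [refl_apply, LinearMap.smul_apply, polarBilin_apply_apply, smul_eq_mul]
    module
  rw [e, LinearMap.transvection.det, LinearMap.smul_apply, polarBilin_apply_apply, polar_self_two, smul_eq_mul]
  field_simp
  ring

theorem exists_nonsing (h2 : (2 : F) ≠ 0) (hQ : PND Q) (hn : 1 ≤ finrank F V) : ∃ v, Q v ≠ 0 := by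
  by_contra hc
  push Not at hc
  haveI : Nontrivial V := Module.nontrivial_of_finrank_pos (R := F) (by omega)
  obtain ⟨v, hv⟩ := exists_ne (0 : V)
  exact hv (hQ v fun w => by rw [polar, hc, hc, hc]; ring)

theorem exists_perp (h2 : (2 : F) ≠ 0) (hQ : PND Q) (hn : 2 ≤ finrank F V) {v : V} (hv : Q v ≠ 0) :
    ∃ v', polar Q v v' = 0 ∧ Q v' ≠ 0 := by
  by_contra hc
  push Not at hc
  have hvv : polar Q v v ≠ 0 := by rw [polar_self_two]; exact mul_ne_zero h2 hv
  have hker : ∀ x, polar Q v x = 0 → x = 0 := fun x hx => by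
    refine hQ x fun w => ?_
    obtain ⟨t, ht⟩ : ∃ t, t = polar Q v w / polar Q v v := ⟨_, rfl⟩
    have hw : polar Q v (w - t • v) = 0 := by
      rw [polar_sub_right, polar_smul_right, smul_eq_mul, ht, div_mul_cancel₀ _ hvv, sub_self]
    have h0 : polar Q x (w - t • v) = 0 := by
      rw [polar, hc _ (by rw [polar_add_right, hx, hw, add_zero]), hc x hx, hc _ hw]; ring
    rwa [polar_sub_right, polar_smul_right, polar_comm Q x v, hx, smul_zero, sub_zero] at h0
  have h1 := LinearMap.finrank_range_add_finrank_ker (Q.polarBilin v)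
  have h3 : finrank F (LinearMap.range (Q.polarBilin v)) ≤ 1 :=
    (Submodule.finrank_le _).trans_eq (finrank_self F)
  have h4 : LinearMap.ker (Q.polarBilin v) = ⊥ := LinearMap.ker_eq_bot'.mpr hker
  rw [h4, finrank_bot] at h1
  omega

variable [Finite F]

/-- A binary non-singular form represents everything. -/
theorem exists_rep (h2 : (2 : F) ≠ 0) {p d : F} (hp : p ≠ 0) (hd : d ≠ 0) (c : F) :
    ∃ a b : F, p * a ^ 2 + d * b ^ 2 = c := by
  haveI := Fintype.ofFinite F
  obtain ⟨a, b, h⟩ := FiniteField.exists_root_sum_quadratic (R := F)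
    (f := Polynomial.C p * Polynomial.X ^ 2) (g := Polynomial.C d * Polynomial.X ^ 2 - Polynomial.C c)
    (by rw [Polynomial.degree_C_mul_X_pow 2 hp]; rfl)
    (by
      rw [Polynomial.degree_sub_eq_left_of_degree_lt]
      · rw [Polynomial.degree_C_mul_X_pow 2 hd]; rfl
      · rw [Polynomial.degree_C_mul_X_pow 2 hd]
        exact lt_of_le_of_lt Polynomial.degree_C_le (by decide))
    (FiniteField.odd_card_of_char_ne_two fun h => h2 (by
      haveI := ringChar.of_eq h
      exact CharTwo.two_eq_zero))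
  simp only [Polynomial.eval_mul, Polynomial.eval_C, Polynomial.eval_pow, Polynomial.eval_X,
    Polynomial.eval_sub] at h
  exact ⟨a, b, by linear_combination h⟩

theorem exists_value (h2 : (2 : F) ≠ 0) (hQ : PND Q) (hn : 2 ≤ finrank F V) (c : F) : ∃ w, Q w = c := by
  obtain ⟨v, hv⟩ := exists_nonsing h2 hQ (by omega)
  obtain ⟨v', hvv', hv'⟩ := exists_perp h2 hQ hn hv
  obtain ⟨a, b, hab⟩ := exists_rep h2 hv hv' c
  refine ⟨a • v + b • v', ?_⟩
  rw [map_two, QuadraticMap.map_smul, QuadraticMap.map_smul, polar_smul_left, polar_smul_right, hvv', ← hab]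
  simp only [smul_eq_mul]; ring

theorem neg_fixed_free {V : Type*} [AddCommGroup V] [Module F V] (h2 : (2 : F) ≠ 0) {x : V} (h : -x = x) :
    x = 0 := by
  have : (2 : F) • x = 0 := by rw [two_smul]; nth_rw 1 [← h]; rw [neg_add_cancel]
  exact (smul_eq_zero.mp this).resolve_left h2

/-- The values `1` are permuted. -/
def valPerm (Q : QuadraticForm F V) : ↥(Iso Q) →* Equiv.Perm {x : V // Q x = 1} where
  toFun g :=
    { toFun := fun x => ⟨g.1 x, (g.2 _).trans x.2⟩
      invFun := fun x => ⟨g.1.symm x, by rw [← g.2 (g.1.symm x), g.1.apply_symm_apply]; exact x.2⟩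
      left_inv := fun x => Subtype.ext (g.1.symm_apply_apply _)
      right_inv := fun x => Subtype.ext (g.1.apply_symm_apply _) }
  map_one' := rfl
  map_mul' _ _ := rfl

/-- The sign on the vectors of value one. -/
noncomputable def chi (Q : QuadraticForm F V) : ↥(Iso Q) →* ℤˣ :=
  haveI : Finite V := Module.finite_of_finite F
  (@Equiv.Perm.sign _ (Classical.decEq _) (Fintype.ofFinite {x : V // Q x = 1})).comp (valPerm Q)

/-- Vectors of value one orthogonal to `v`. -/
noncomputable def nPerp (Q : QuadraticForm F V) (v : V) : ℕ := Nat.card {x : V // Q x = 1 ∧ polar Q v x = 0}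

theorem chi_rf {v : V} (hv : Q v ≠ 0) :
    chi Q (rf Q v) = (-1) ^ ((Nat.card {x : V // Q x = 1} - nPerp Q v) / 2) := by
  haveI : Finite V := Module.finite_of_finite F
  letI := Classical.decEq {x : V // Q x = 1}
  letI := Fintype.ofFinite {x : V // Q x = 1}
  rw [show chi Q (rf Q v) = Equiv.Perm.sign (valPerm Q (rf Q v)) from rfl]
  rw [Equiv.Perm.sign_of_pow_two_eq_one (by rw [_root_.sq, ← map_mul, rf_mul_self, map_one]),
    Nat.card_eq_fintype_card]
  congr 3
  rw [← Nat.card_eq_fintype_card, nPerp]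
  refine Nat.card_congr
    { toFun := fun x => ⟨x.1.1, x.1.2, ?_⟩
      invFun := fun x => ⟨⟨x.1, x.2.1⟩, Subtype.ext (refl_fix x.2.2)⟩
      left_inv := fun x => rfl
      right_inv := fun x => rfl }
  have h : refl Q v x.1.1 = x.1.1 := congrArg Subtype.val x.2
  rw [refl_apply, sub_eq_self, smul_eq_zero, mul_eq_zero, inv_eq_zero] at h
  rcases h with (h | h) | h
  · exact absurd h hv
  · exact h
  · exact absurd (by rw [h, QuadraticMap.map_zero]) hv

theorem even_card (h2 : (2 : F) ≠ 0) {p : V → Prop} (hneg : ∀ x, p x → p (-x)) (h0 : ¬ p 0) :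
    Even (Nat.card {x : V // p x}) := by
  classical
  haveI : Finite V := Module.finite_of_finite F
  haveI := Fintype.ofFinite {x : V // p x}
  obtain ⟨σ, hσ⟩ : ∃ σ : Equiv.Perm {x : V // p x}, σ = Function.Involutive.toPerm
      (fun x => ⟨-x.1, hneg _ x.2⟩) fun x => Subtype.ext (neg_neg _) := ⟨_, rfl⟩
  have hσ2 : σ ^ 2 = 1 := Equiv.ext fun x => by rw [hσ, _root_.sq]; exact Subtype.ext (neg_neg _)
  have := Equiv.Perm.card_compl_support_modEq (p := 2) (n := 1) (σ := σ) (by rw [pow_one, hσ2])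
  have hs : σ.support = Finset.univ := by
    refine Finset.eq_univ_of_forall fun x => Equiv.Perm.mem_support.mpr fun e => h0 ?_
    rw [hσ] at e
    have : x.1 = 0 := neg_fixed_free h2 (congrArg Subtype.val e)
    exact this ▸ x.2
  rw [hs, Finset.compl_univ, Finset.card_empty] at this
  rw [Nat.card_eq_fintype_card]
  exact even_iff_two_dvd.mpr (Nat.modEq_zero_iff_dvd.mp this.symm)

/-- Square roots counted for two classes. -/
theorem card_sqrt_add (h2 : (2 : F) ≠ 0) {d ν : F} (hd : d ≠ 0) (hν : ¬ IsSquare ν) (s : F) :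
    Nat.card {t : F // d * t ^ 2 = s} + Nat.card {t : F // d * ν * t ^ 2 = s} = 2 := by
  classical
  haveI := Fintype.ofFinite F
  have hF : ringChar F ≠ 2 := fun h => h2 (by
    haveI := ringChar.of_eq h
    exact CharTwo.two_eq_zero)
  have hν0 : ν ≠ 0 := fun h => hν (h ▸ IsSquare.zero)
  have key : ∀ e : F, e ≠ 0 → (Nat.card {t : F // e * t ^ 2 = s} : ℤ) = quadraticChar F (s / e) + 1 := by
    intro e he
    rw [← quadraticChar_card_sqrts hF, Nat.card_eq_fintype_card, Fintype.card_subtype]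
    congr 2
    ext t
    rw [Finset.mem_filter, Set.mem_toFinset, Set.mem_setOf_eq, eq_div_iff he, mul_comm e]
    simp
  have h := key (d * ν) (mul_ne_zero hd hν0)
  have h' := key d hd
  rw [show s / (d * ν) = s / d * ν⁻¹ by field_simp, map_mul,
    quadraticChar_neg_one_iff_not_isSquare.mpr (show ¬ IsSquare ν⁻¹ from fun hs => hν (by simpa using hs.inv))] at h
  omega

/-- Vectors of value one orthogonal to `u`, sorted by the part orthogonal to `u` and `u'`. -/
theorem nPerp_eq {u u' : V} (h2 : (2 : F) ≠ 0) (huu : polar Q u u' = 0) (hu' : Q u' ≠ 0) :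
    nPerp Q u = Nat.card (Σ r : {r : V // polar Q u r = 0 ∧ polar Q u' r = 0},
      {t : F // Q u' * t ^ 2 = 1 - Q r.1}) := by
  have hq : polar Q u' u' = 2 * Q u' := polar_self_two u'
  have hf : ∀ s : Σ r : {r : V // polar Q u r = 0 ∧ polar Q u' r = 0}, {t : F // Q u' * t ^ 2 = 1 - Q r.1},
      Q (s.2.1 • u' + s.1.1) = 1 ∧ polar Q u (s.2.1 • u' + s.1.1) = 0 := by
    intro s
    constructor
    · rw [map_two, QuadraticMap.map_smul, polar_smul_left, s.1.2.2]
      have := s.2.2
      simp only [smul_eq_mul]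
      linear_combination this
    · rw [polar_add_right, polar_smul_right, huu, s.1.2.1, smul_zero, add_zero]
  refine Nat.card_congr (Equiv.ofBijective (fun s => ⟨s.2.1 • u' + s.1.1, hf s⟩) ⟨?_, ?_⟩).symm
  · rintro ⟨⟨r, hr⟩, ⟨t, ht⟩⟩ ⟨⟨r', hr'⟩, ⟨t', ht'⟩⟩ e
    have e' : t • u' + r = t' • u' + r' := congrArg Subtype.val e
    have hp := congrArg (polar Q u') e'
    rw [polar_add_right, polar_add_right, polar_smul_right, polar_smul_right, hr.2, hr'.2, add_zero, add_zero,
      smul_eq_mul, smul_eq_mul, hq] at hp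
    obtain rfl : t = t' := mul_right_cancel₀ (mul_ne_zero h2 hu') hp
    obtain rfl : r = r' := add_left_cancel e'
    rfl
  · rintro ⟨x, hx1, hx2⟩
    obtain ⟨t, ht⟩ : ∃ t, t = polar Q u' x / (2 * Q u') := ⟨_, rfl⟩
    have h1 : polar Q u (x - t • u') = 0 := by rw [polar_sub_right, polar_smul_right, hx2, huu, smul_zero, sub_zero]
    have h3 : polar Q u' (x - t • u') = 0 := by
      rw [polar_sub_right, polar_smul_right, smul_eq_mul, hq, ht, div_mul_cancel₀ _ (mul_ne_zero h2 hu'), sub_self]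
    refine ⟨⟨⟨_, h1, h3⟩, ⟨t, ?_⟩⟩, Subtype.ext (add_sub_cancel _ _)⟩
    have e : Q x = Q (t • u' + (x - t • u')) := by rw [add_sub_cancel]
    rw [map_two, QuadraticMap.map_smul, polar_smul_left, h3, hx1] at e
    simp only [smul_eq_mul] at e
    linear_combination -e

/-- The sign separates two suitable reflections. -/
theorem exists_chi_ne (h2 : (2 : F) ≠ 0) (hQ : PND Q) (hn : 2 ≤ finrank F V) :
    ∃ v w, Q v ≠ 0 ∧ Q w ≠ 0 ∧ chi Q (rf Q v) * chi Q (rf Q w) = -1 := by
  classical
  haveI := Fintype.ofFinite F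
  haveI : Finite V := Module.finite_of_finite F
  have hF : ringChar F ≠ 2 := fun h => h2 (by
    haveI := ringChar.of_eq h
    exact CharTwo.two_eq_zero)
  obtain ⟨ν, hν⟩ := FiniteField.exists_nonsquare hF
  have hν0 : ν ≠ 0 := fun h => hν (h ▸ IsSquare.zero)
  obtain ⟨v, hv⟩ := exists_nonsing h2 hQ (by omega)
  obtain ⟨v', hvv', hv'⟩ := exists_perp h2 hQ hn hv
  obtain ⟨a, b, hab⟩ := exists_rep h2 hv hv' (Q v * ν)
  obtain ⟨w, hw⟩ : ∃ w, w = a • v + b • v' := ⟨_, rfl⟩
  obtain ⟨w', hw'⟩ : ∃ w', w' = (Q v)⁻¹ • ((-(Q v' * b)) • v + (a * Q v) • v') := ⟨_, rfl⟩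
  have hv'v : polar Q v' v = 0 := by rw [polar_comm, hvv']
  have hQw : Q w = Q v * ν := by
    rw [hw, map_two, QuadraticMap.map_smul, QuadraticMap.map_smul, polar_smul_left, polar_smul_right, hvv', ← hab]
    simp only [smul_eq_mul]; ring
  have hQw' : Q w' = Q v' * ν := by
    rw [hw', QuadraticMap.map_smul, map_two, QuadraticMap.map_smul, QuadraticMap.map_smul, polar_smul_left,
      polar_smul_right, hvv']
    simp only [smul_eq_mul, mul_zero, add_zero]
    field_simp
    linear_combination hab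
  have hww' : polar Q w w' = 0 := by
    rw [hw, hw']
    simp only [polar_smul_right, polar_add_left, polar_add_right, polar_smul_left, hvv', hv'v, polar_self_two,
      smul_eq_mul]
    ring
  have hR : ∀ r, (polar Q v r = 0 ∧ polar Q v' r = 0) ↔ (polar Q w r = 0 ∧ polar Q w' r = 0) := by
    intro r
    rw [hw, hw']
    simp only [polar_smul_left, polar_add_left, smul_eq_mul, mul_eq_zero, inv_eq_zero, hv, false_or]
    refine ⟨fun ⟨h, h'⟩ => by simp [h, h'], fun ⟨h, h'⟩ => ?_⟩
    have hne : Q v * ν ≠ 0 := mul_ne_zero hv hν0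
    exact ⟨(mul_eq_zero.mp (show Q v * ν * polar Q v r = 0 by
        rw [← hab]; linear_combination (Q v * a) * h - b * h')).resolve_left hne,
      (mul_eq_zero.mp (show Q v * ν * polar Q v' r = 0 by
        rw [← hab]; linear_combination (Q v' * b) * h + a * h')).resolve_left hne⟩
  refine ⟨v, w, hv, hQw ▸ mul_ne_zero hv hν0, ?_⟩
  rw [chi_rf hv, chi_rf (hQw ▸ mul_ne_zero hv hν0), ← pow_add]
  refine Odd.neg_one_pow ?_
  obtain ⟨R, hR'⟩ : ∃ R : Submodule F V, R = LinearMap.ker (Q.polarBilin v) ⊓ LinearMap.ker (Q.polarBilin v') :=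
    ⟨_, rfl⟩
  have hmem : ∀ r, r ∈ R ↔ (polar Q v r = 0 ∧ polar Q v' r = 0) := fun r => by simp [hR']
  haveI := Fintype.ofFinite R
  have e1 : nPerp Q v = ∑ r : R, Nat.card {t : F // Q v' * t ^ 2 = 1 - Q (r : V)} := by
    rw [nPerp_eq h2 hvv' hv', ← Nat.card_sigma]
    exact Nat.card_congr (Equiv.sigmaCongrLeft'
      (Equiv.subtypeEquivRight fun r => (hmem r).symm : {r : V // polar Q v r = 0 ∧ polar Q v' r = 0} ≃ R))
  have e2 : nPerp Q w = ∑ r : R, Nat.card {t : F // Q v' * ν * t ^ 2 = 1 - Q (r : V)} := by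
    rw [nPerp_eq h2 hww' (hQw' ▸ mul_ne_zero hv' hν0), hQw', ← Nat.card_sigma]
    exact Nat.card_congr (Equiv.sigmaCongrLeft'
      (Equiv.subtypeEquivRight fun r => ((hR r).symm.trans (hmem r).symm) :
        {r : V // polar Q w r = 0 ∧ polar Q w' r = 0} ≃ R))
  have hsum : nPerp Q v + nPerp Q w = 2 * Nat.card R := by
    rw [e1, e2, ← Finset.sum_add_distrib, Finset.sum_congr rfl fun r _ => card_sqrt_add h2 hv' hν _,
      Finset.sum_const, Finset.card_univ, smul_eq_mul, Nat.card_eq_fintype_card, mul_comm]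
  have hodd : Nat.card R % 2 = 1 := by
    rw [Nat.card_eq_fintype_card, Module.card_eq_pow_finrank (K := F), Nat.pow_mod,
      FiniteField.odd_card_of_char_ne_two hF, one_pow, Nat.one_mod]
  have hle : ∀ u, nPerp Q u ≤ Nat.card {x : V // Q x = 1} := fun u => by
    refine Nat.card_le_card_of_injective (fun x => ⟨x.1, x.2.1⟩) fun x y e => Subtype.ext ?_
    have := congrArg Subtype.val e
    exact this
  have hN := even_card h2 (p := fun x : V => Q x = 1) (fun x h => by rwa [QuadraticMap.map_neg])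
    (by simp [QuadraticMap.map_zero])
  have hev : ∀ u, Even (nPerp Q u) := fun u => even_card h2
    (fun x h => ⟨by rw [QuadraticMap.map_neg]; exact h.1, by rw [polar_neg_right, h.2, neg_zero]⟩)
    (by simp [QuadraticMap.map_zero])
  have h1 := hle v
  have h3 := hle w
  obtain ⟨k, hk⟩ := hN
  obtain ⟨i, hi⟩ := hev v
  obtain ⟨j, hj⟩ := hev w
  rw [Nat.odd_iff]
  omega

/-- A vector of value in a given class. -/
theorem map_rf_class (hQ : PND Q) {M : Type*} [CommGroup M] (f : ↥(Iso Q) →* M) {v w : V} (hv : Q v ≠ 0) {t : F}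
    (ht : t ≠ 0) (hw : Q w = t ^ 2 * Q v) : f (rf Q w) = f (rf Q v) := by
  rw [← rf_smul ht v]
  refine map_rf_eq hQ f ?_ ?_
  · rw [QuadraticMap.map_smul, smul_eq_mul]; exact mul_ne_zero (mul_ne_zero ht ht) hv
  · rw [QuadraticMap.map_smul, smul_eq_mul, hw]; ring

theorem map_rf_isSquare (hQ : PND Q) {M : Type*} [CommGroup M] (f : ↥(Iso Q) →* M) {v w : V}
    (hv : Q v ≠ 0) (hw : Q w ≠ 0) (h : IsSquare (Q w / Q v)) : f (rf Q w) = f (rf Q v) := by
  obtain ⟨t, ht⟩ := h
  refine map_rf_class hQ f hv (t := t) (fun e => ?_) ?_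
  · rw [e, mul_zero] at ht; exact div_ne_zero hw hv ht
  · rw [div_eq_iff hv] at ht; rw [ht]; ring

/-- The two square classes. -/
theorem isSquare_iff_mul {a b : F} (h2 : (2 : F) ≠ 0) (ha : a ≠ 0) (hb : b ≠ 0) :
    IsSquare (a * b) ↔ (IsSquare a ↔ IsSquare b) := by
  classical
  haveI := Fintype.ofFinite F
  have hF : ringChar F ≠ 2 := fun h => h2 (by
    haveI := ringChar.of_eq h
    exact CharTwo.two_eq_zero)
  rw [← quadraticChar_one_iff_isSquare (mul_ne_zero ha hb), ← quadraticChar_one_iff_isSquare ha,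
    ← quadraticChar_one_iff_isSquare hb, map_mul]
  rcases quadraticChar_dichotomy ha with h | h <;> rcases quadraticChar_dichotomy hb with h' | h' <;>
    rw [h, h'] <;> decide

/-- The determinant as a sign. -/
theorem det_eq (h2 : (2 : F) ≠ 0) (hQ : PND Q) (g : ↥(Iso Q)) :
    LinearMap.det (g.1 : V →ₗ[F] V) = 1 ∨ LinearMap.det (g.1 : V →ₗ[F] V) = -1 := by
  refine induction_on (motive := fun g => LinearMap.det (g.1 : V →ₗ[F] V) = 1 ∨ LinearMap.det (g.1 : V →ₗ[F] V) = -1) hQ (two_ne h2) g (Or.inl ?_) fun v g hv ih => ?_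
  · exact LinearMap.det_id
  · rw [show ((rf Q v * g : ↥(Iso Q)).1 : V →ₗ[F] V) = (refl Q v : V →ₗ[F] V) * (g.1 : V →ₗ[F] V) from rfl,
      map_mul, det_refl hv]
    rcases ih with h | h <;> simp [h]

open scoped _root_.Classical in
/-- The determinant with values in the signs. -/
noncomputable def dsign (h2 : (2 : F) ≠ 0) (hQ : PND Q) : ↥(Iso Q) →* ℤˣ where
  toFun g := if LinearMap.det (g.1 : V →ₗ[F] V) = 1 then 1 else -1
  map_one' := if_pos LinearMap.det_id
  map_mul' g g' := by
    have hne : (-1 : F) ≠ 1 := fun e => h2 (by linear_combination -e)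
    rw [show ((g * g' : ↥(Iso Q)).1 : V →ₗ[F] V) = (g.1 : V →ₗ[F] V) * (g'.1 : V →ₗ[F] V) from rfl, map_mul]
    rcases det_eq h2 hQ g with h | h <;> rcases det_eq h2 hQ g' with h' | h' <;> simp [h, h', hne]

theorem dsign_rf (h2 : (2 : F) ≠ 0) (hQ : PND Q) {v : V} (hv : Q v ≠ 0) : dsign h2 hQ (rf Q v) = -1 :=
  if_neg (by
    change LinearMap.det (refl Q v : V →ₗ[F] V) ≠ 1
    rw [det_refl hv]; exact fun e => h2 (by linear_combination -e))

/-- The spinor norm: the square class of the value on reflections. -/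
theorem exists_spinor (h2 : (2 : F) ≠ 0) (hQ : PND Q) (hn : 2 ≤ finrank F V) :
    ∃ θ : ↥(Iso Q) →* ℤˣ, ∀ v, Q v ≠ 0 → (θ (rf Q v) = 1 ↔ IsSquare (Q v)) := by
  classical
  obtain ⟨u, hu⟩ := exists_value h2 hQ hn 1
  obtain ⟨v, w, hv, hw, hvw⟩ := exists_chi_ne h2 hQ hn
  have hu0 : Q u ≠ 0 := hu ▸ one_ne_zero
  have huu := Int.units_mul_self (chi Q (rf Q u))
  have hval : ∀ x, Q x ≠ 0 → (chi Q (rf Q x) = chi Q (rf Q u) ↔ IsSquare (Q x)) := by
    intro x hx
    refine ⟨fun e => ?_, fun hs => map_rf_isSquare hQ (chi Q) hu0 hx (by rwa [hu, div_one])⟩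
    by_contra hns
    have same : ∀ y, Q y ≠ 0 → chi Q (rf Q y) = chi Q (rf Q u) := by
      intro y hy
      by_cases hsy : IsSquare (Q y)
      · exact map_rf_isSquare hQ (chi Q) hu0 hy (by rwa [hu, div_one])
      · rw [← e]
        refine map_rf_isSquare hQ (chi Q) hx hy ?_
        rw [div_eq_mul_inv, isSquare_iff_mul h2 hy (inv_ne_zero hx), isSquare_inv]
        exact iff_of_false hsy hns
    rw [same v hv, same w hw, huu] at hvw
    exact absurd hvw (by decide)
  rcases Int.units_eq_one_or (chi Q (rf Q u)) with hc | hc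
  · exact ⟨chi Q, fun x hx => by rw [← hval x hx, hc]⟩
  · refine ⟨chi Q * dsign h2 hQ, fun x hx => ?_⟩
    rw [← hval x hx, hc, MonoidHom.mul_apply, dsign_rf h2 hQ hx]
    rcases Int.units_eq_one_or (chi Q (rf Q x)) with e | e <;> rw [e] <;> decide

variable (Q) in
/-- The spinor norm, with junk value for degenerate data. -/
noncomputable def spinor : ↥(Iso Q) →* ℤˣ :=
  open scoped _root_.Classical in
  if h : ∃ θ : ↥(Iso Q) →* ℤˣ, ∀ v, Q v ≠ 0 → (θ (rf Q v) = 1 ↔ IsSquare (Q v)) then h.choose else 1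

theorem spinor_rf (h2 : (2 : F) ≠ 0) (hQ : PND Q) (hn : 2 ≤ finrank F V) {v : V} (hv : Q v ≠ 0) :
    spinor Q (rf Q v) = 1 ↔ IsSquare (Q v) := by
  have h := exists_spinor h2 hQ hn
  rw [spinor, dif_pos h]
  exact h.choose_spec v hv

variable (Q) in
/-- Determinant and spinor norm. -/
noncomputable def both (h2 : (2 : F) ≠ 0) (hQ : PND Q) : ↥(Iso Q) →* ℤˣ × ℤˣ :=
  (dsign h2 hQ).prod (spinor Q)

theorem both_surjective (h2 : (2 : F) ≠ 0) (hQ : PND Q) (hn : 2 ≤ finrank F V) :
    Function.Surjective (both Q h2 hQ) := by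
  classical
  haveI := Fintype.ofFinite F
  obtain ⟨ν, hν⟩ := FiniteField.exists_nonsquare (F := F) fun h => h2 (by
    haveI := ringChar.of_eq h
    exact CharTwo.two_eq_zero)
  obtain ⟨u, hu⟩ := exists_value h2 hQ hn 1
  obtain ⟨w, hw⟩ := exists_value h2 hQ hn ν
  have hw0 : Q w ≠ 0 := hw ▸ fun e => hν (e ▸ IsSquare.zero)
  have hu0 : Q u ≠ 0 := hu ▸ one_ne_zero
  have e1 : both Q h2 hQ (rf Q u) = (-1, 1) :=
    Prod.ext (dsign_rf h2 hQ hu0) ((spinor_rf h2 hQ hn hu0).mpr (hu ▸ IsSquare.one))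
  have e2 : both Q h2 hQ (rf Q w) = (-1, -1) := by
    refine Prod.ext (dsign_rf h2 hQ hw0) ?_
    rcases Int.units_eq_one_or (spinor Q (rf Q w)) with e | e
    · exact absurd (hw ▸ (spinor_rf h2 hQ hn hw0).mp e) hν
    · exact e
  rintro ⟨a, b⟩
  rcases Int.units_eq_one_or a with rfl | rfl <;> rcases Int.units_eq_one_or b with rfl | rfl
  · exact ⟨1, map_one _⟩
  · exact ⟨rf Q u * rf Q w, by rw [map_mul, e1, e2]; decide⟩
  · exact ⟨_, e1⟩
  · exact ⟨_, e2⟩

/-- A homomorphism to a commutative group factors through determinant and spinor norm. -/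
theorem both_universal (h2 : (2 : F) ≠ 0) (hQ : PND Q) (hn : 2 ≤ finrank F V) {M : Type*} [CommGroup M]
    (f : ↥(Iso Q) →* M) (g : ↥(Iso Q)) (hg : both Q h2 hQ g = 1) : f g = 1 := by
  classical
  haveI := Fintype.ofFinite F
  obtain ⟨ν, hν⟩ := FiniteField.exists_nonsquare (F := F) fun h => h2 (by
    haveI := ringChar.of_eq h
    exact CharTwo.two_eq_zero)
  obtain ⟨u, hu⟩ := exists_value h2 hQ hn 1
  obtain ⟨w, hw⟩ := exists_value h2 hQ hn ν
  have hw0 : Q w ≠ 0 := hw ▸ fun e => hν (e ▸ IsSquare.zero)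
  have hu0 : Q u ≠ 0 := hu ▸ one_ne_zero
  obtain ⟨A, hA⟩ : ∃ A, A = f (rf Q u) := ⟨_, rfl⟩
  obtain ⟨B, hB⟩ : ∃ B, B = f (rf Q w) := ⟨_, rfl⟩
  have hAA : A * A = 1 := by rw [hA, ← map_mul, rf_mul_self, map_one]
  have hBB : B * B = 1 := by rw [hB, ← map_mul, rf_mul_self, map_one]
  obtain ⟨val, hval⟩ : ∃ val : ℤˣ × ℤˣ → M,
      val = fun p => if p = 1 then 1 else if p = (-1, 1) then A else if p = (-1, -1) then B else A * B :=
    ⟨_, rfl⟩
  have key : ∀ g, f g = val (both Q h2 hQ g) := by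
    intro g
    refine induction_on (motive := fun g => f g = val (both Q h2 hQ g)) hQ (two_ne h2) g ?_ fun v g hv ih => ?_
    · rw [map_one, map_one, hval]; simp
    · rw [map_mul, map_mul, ih]
      by_cases hs : IsSquare (Q v)
      · have e1 : both Q h2 hQ (rf Q v) = (-1, 1) :=
          Prod.ext (dsign_rf h2 hQ hv) ((spinor_rf h2 hQ hn hv).mpr hs)
        have e2 : f (rf Q v) = A := hA ▸ map_rf_isSquare hQ f hu0 hv (by rwa [hu, div_one])
        rw [e1, e2]
        obtain ⟨⟨a, b⟩, hab⟩ : ∃ p, p = both Q h2 hQ g := ⟨_, rfl⟩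
        rw [← hab]
        rcases Int.units_eq_one_or a with rfl | rfl <;> rcases Int.units_eq_one_or b with rfl | rfl <;>
          simp +decide [hval, hAA, ← mul_assoc]
      · have e1 : both Q h2 hQ (rf Q v) = (-1, -1) := by
          refine Prod.ext (dsign_rf h2 hQ hv) ?_
          rcases Int.units_eq_one_or (spinor Q (rf Q v)) with e | e
          · exact absurd ((spinor_rf h2 hQ hn hv).mp e) hs
          · exact e
        have e2 : f (rf Q v) = B := by
          rw [hB]
          refine map_rf_isSquare hQ f hw0 hv ?_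
          rw [hw, div_eq_mul_inv, isSquare_iff_mul h2 hv (inv_ne_zero fun e => hν (by rw [e]; exact IsSquare.zero)), isSquare_inv]
          exact iff_of_false hs hν
        rw [e1, e2]
        obtain ⟨⟨a, b⟩, hab⟩ : ∃ p, p = both Q h2 hQ g := ⟨_, rfl⟩
        rw [← hab]
        rcases Int.units_eq_one_or a with rfl | rfl <;> rcases Int.units_eq_one_or b with rfl | rfl <;>
          simp +decide [hval, hBB, mul_comm A B, ← mul_assoc]
  rw [key, hg, hval]; simp

/-- The derived group is the common kernel of determinant and spinor norm. -/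
theorem commutator_eq (h2 : (2 : F) ≠ 0) (hQ : PND Q) (hn : 2 ≤ finrank F V) :
    commutator ↥(Iso Q) = (both Q h2 hQ).ker := by
  refine le_antisymm (Abelianization.commutator_subset_ker _) fun g hg => ?_
  have := both_universal h2 hQ hn (Abelianization.of (G := ↥(Iso Q))) g hg
  rw [← Abelianization.ker_of]
  exact this

theorem index_commutator (h2 : (2 : F) ≠ 0) (hQ : PND Q) (hn : 2 ≤ finrank F V) :
    (commutator ↥(Iso Q)).index = 4 := by
  rw [commutator_eq h2 hQ hn, Subgroup.index_ker,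
    MonoidHom.range_eq_top.mpr (both_surjective h2 hQ hn), Subgroup.card_top]
  simp [Nat.card_prod]

end Odd

end Cfsg.Agent.Classical.OOmega
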