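/-
Overgroups in the symplectic group: reduction to transvections, and the orthogonal subgroups in characteristic two.
-/
import Cfsg.Agent.Lib.Classical.FormSpMaximal
import Cfsg.Agent.Lib.Classical.SpGeneration
import Cfsg.Agent.Lib.Classical.OrthNotMax

set_option autoImplicit false
set_option linter.unusedSectionVars false

namespace Cfsg.Agent.Classical.SpOver

open Matrix Cfsg.Geo
open Cfsg.Agent.Classical

variable {m : ℕ} {F : Type*} [Field F] [Fintype F]

local notation "Vm" => Fin m ⊕ Fin m → F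
local notation "Gl" => GL (Fin m ⊕ Fin m) F

/-- `g` is the symplectic transvection with centre `v` and parameter `c`. -/
def Tv (g : Gl) (v : Vm) (c : F) : Prop :=
  ∀ x, (g : Matrix (Fin m ⊕ Fin m) (Fin m ⊕ Fin m) F) *ᵥ x = x + (c * sympForm m F x v) • v

theorem tv_unique {g h : Gl} {v : Vm} {c : F} (hg : Tv g v c) (hh : Tv h v c) : g = h :=
  gl_ext_mulVec fun x => by rw [hg, hh]

theorem tv_conj {g t : Gl} (hg : g ∈ spGL m F) {v : Vm} {c : F} (ht : Tv t v c) :
    Tv (g * t * g⁻¹) ((g : Matrix (Fin m ⊕ Fin m) (Fin m ⊕ Fin m) F) *ᵥ v) c := fun x => by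
  have h : sympForm m F x ((g : Matrix (Fin m ⊕ Fin m) (Fin m ⊕ Fin m) F) *ᵥ v) =
      sympForm m F (((g⁻¹ : Gl) : Matrix (Fin m ⊕ Fin m) (Fin m ⊕ Fin m) F) *ᵥ x) v := by
    have e := hg (((g⁻¹ : Gl) : Matrix (Fin m ⊕ Fin m) (Fin m ⊕ Fin m) F) *ᵥ x) v
    rw [← e]
    exact congrArg (fun z => sympForm m F z _) (gl_mulVec_inv_cancel g x).symm
  rw [gl_mul_mulVec, gl_mul_mulVec, ht, Matrix.mulVec_add, gl_mulVec_inv_cancel, Matrix.mulVec_smul, h]

theorem tv_smul {g : Gl} {v : Vm} {c : F} (s : F) (hg : Tv g (s • v) c) : Tv g v (c * s * s) := fun x => by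
  rw [hg, (sympForm_isSymplectic (m := m) (F := F)).bilinear.smul_right, smul_smul]
  congr 2
  ring

/-- A group containing all transvections contains the symplectic group. -/
theorem spGL_le {K : Subgroup Gl} (h : ∀ (v : Vm) (c : F) (g : Gl), Tv g v c → g ∈ K) : spGL m F ≤ K := by
  intro g hg
  let φ : Matrix.symplecticGroup (Fin m) F →* Gl :=
    (show Matrix.symplecticGroup (Fin m) F →* Matrix (Fin m ⊕ Fin m) (Fin m ⊕ Fin m) F from
      { toFun := fun A => (A : Matrix (Fin m ⊕ Fin m) (Fin m ⊕ Fin m) F), map_one' := rfl,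
        map_mul' := fun _ _ => rfl }).toHomUnits
  have hle : (⊤ : Subgroup (Matrix.symplecticGroup (Fin m) F)) ≤ K.comap φ := by
    rw [← SpGen.closure_transvections, Subgroup.closure_le]
    rintro A ⟨w, c, hA⟩
    refine h w c _ fun x => ?_
    change (A : Matrix (Fin m ⊕ Fin m) (Fin m ⊕ Fin m) F) *ᵥ x = _
    rw [hA, Cfsg.Agent.Lead.Symp.trans_mulVec]
  have hmem : (g : Matrix (Fin m ⊕ Fin m) (Fin m ⊕ Fin m) F) ∈ Matrix.symplecticGroup (Fin m) F := by
    rw [SymplecticGroup.mem_iff']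
    refine Matrix.ext fun i j => ?_
    have e := hg (Pi.single i 1) (Pi.single j 1)
    simp only [sympForm] at e
    have e' : (g : Matrix (Fin m ⊕ Fin m) (Fin m ⊕ Fin m) F)ᵀ * Matrix.J (Fin m) F *
        (g : Matrix (Fin m ⊕ Fin m) (Fin m ⊕ Fin m) F) = Matrix.J (Fin m) F := by
      refine Matrix.ext_of_mulVec_single fun k => funext fun l => ?_
      have e2 := hg (Pi.single l 1) (Pi.single k 1)
      simp only [sympForm, single_one_dotProduct] at e2
      rw [← e2]
      change _ = ((g : Matrix (Fin m ⊕ Fin m) (Fin m ⊕ Fin m) F) *ᵥ Pi.single l 1) ⬝ᵥ _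
      rw [← single_one_dotProduct l (((g : Matrix (Fin m ⊕ Fin m) (Fin m ⊕ Fin m) F)ᵀ * Matrix.J (Fin m) F *
          (g : Matrix (Fin m ⊕ Fin m) (Fin m ⊕ Fin m) F)) *ᵥ Pi.single k 1), Matrix.mul_assoc,
        ← Matrix.mulVec_mulVec, Matrix.dotProduct_mulVec, Matrix.vecMul_transpose, Matrix.mulVec_mulVec]
      rfl
    exact congrFun (congrFun e' i) j
  have := hle (Subgroup.mem_top ⟨_, hmem⟩)
  rw [Subgroup.mem_comap, show φ ⟨_, hmem⟩ = g from Units.ext rfl] at this
  exact this

end Cfsg.Agent.Classical.SpOver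

namespace Cfsg.Agent.Classical.SpOver

open Matrix Cfsg.Geo QuadraticMap OCount
open Cfsg.Agent.Classical

variable {m : ℕ} {F : Type*} [Field F] [Fintype F]

local notation "Vm" => Fin m ⊕ Fin m → F
local notation "Gl" => GL (Fin m ⊕ Fin m) F

variable {Q : QuadraticForm F (Fin m ⊕ Fin m → F)}

/-- Given a non-singular `p`, a vector of any value pairing to one with `p`. -/
theorem exists_value_pair (hm : 2 ≤ m) (h2 : (2 : F) = 0) (hQ : PND Q) {p : Vm} (hp : Q p ≠ 0) (b : F) :
    ∃ x, polar Q x p = 1 ∧ Q x = b := by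
  have hp0 : p ≠ 0 := fun h => hp (h ▸ QuadraticMap.map_zero Q)
  obtain ⟨a, ha, hap⟩ : ∃ a, polar Q a p = 0 ∧ a ∉ F ∙ p := by
    by_contra hcon
    push Not at hcon
    let φ : Vm →ₗ[F] F := (polarBilin Q).flip p
    have hk : LinearMap.ker φ ≤ F ∙ p := fun a ha => hcon a ha
    have h1 := Submodule.finrank_mono hk
    have h2' := φ.finrank_range_add_finrank_ker
    rw [Module.finrank_fintype_fun_eq_card, Fintype.card_sum, Fintype.card_fin] at h2'
    have h3 := Submodule.finrank_le (LinearMap.range φ)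
    rw [Module.finrank_self] at h3
    rw [finrank_span_singleton hp0] at h1
    omega
  haveI : CharP F 2 := CharTwo.of_one_ne_zero_of_two_eq_zero one_ne_zero h2
  haveI : Fact (Nat.Prime 2) := ⟨Nat.prime_two⟩
  obtain ⟨s, hs⟩ : ∃ s : F, s * s = Q a / Q p := by
    obtain ⟨r, hr⟩ := FiniteField.isSquare_of_char_two (ringChar.eq F 2) (Q a / Q p)
    exact ⟨r, hr.symm⟩
  obtain ⟨e, he⟩ : ∃ e, e = a + s • p := ⟨_, rfl⟩
  have hep : polar Q e p = 0 := by
    rw [he, polar_add_left, polar_smul_left, ha, ORefl.polar_self_two, h2, zero_mul, smul_zero, add_zero]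
  have hQe : Q e = 0 := by
    have e1 : polar Q a p = Q (a + p) - Q a - Q p := rfl
    rw [he, map_two, QuadraticMap.map_smul, polar_smul_right, ha, smul_zero, add_zero, hs,
      smul_eq_mul, div_mul_cancel₀ _ hp]
    linear_combination (Q a) * h2
  have hen : e ∉ F ∙ p := fun h => hap (by
    simpa [he] using (F ∙ p).sub_mem h (Submodule.smul_mem _ s (Submodule.mem_span_singleton_self p)))
  obtain ⟨y, hy, hye⟩ := ORefl.exists_polar_sep hQ hen 1
  obtain ⟨z, hz⟩ := ORefl.exists_polar_sep hQ (H := F ∙ e) (x := p) (fun h => by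
    obtain ⟨t, ht⟩ := Submodule.mem_span_singleton.mp h
    exact hp (by rw [← ht, QuadraticMap.map_smul, hQe, smul_zero])) 1
  obtain ⟨hz1, hzp⟩ := hz
  have hze : polar Q z e = 0 := hz1 e (Submodule.mem_span_singleton_self e)
  have hyp : polar Q y p = 0 := hy p (Submodule.mem_span_singleton_self p)
  refine ⟨(y + z) + (b - Q (y + z)) • e, ?_, ?_⟩
  · rw [polar_add_left, polar_add_left, polar_smul_left, hep, hyp, hzp, smul_zero, zero_add, add_zero]
  · rw [map_two, QuadraticMap.map_smul, polar_smul_right, polar_add_left, hQe, hye, hze, smul_zero,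
      add_zero, smul_eq_mul, add_zero, mul_one, add_sub_cancel]

/-- The isometries of a quadratic form polarising to the standard symplectic form are maximal in the symplectic group. -/
theorem orth_maximal (hm : 2 ≤ m) (h2 : (2 : F) = 0) (hQ : PND Q) (hQn : IsNondegenerateQuadraticForm ⇑Q)
    (hpol : ∀ u v, polar Q u v = sympForm m F u v) :
    IsMaximalIn (spGL m F) (quadSimilarityGroup ⇑Q ⊓ spGL m F) := by
  classical
  refine ⟨lt_of_le_of_ne inf_le_right fun e => not_sp_le_quad hm h2 hQn hpol (inf_eq_right.mp e),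
    fun K hK hKS => or_iff_not_imp_left.mpr fun hne => le_antisymm hKS ?_⟩
  haveI : CharP F 2 := CharTwo.of_one_ne_zero_of_two_eq_zero one_ne_zero h2
  haveI : Fact (Nat.Prime 2) := ⟨Nat.prime_two⟩
  have hsq : ∀ a : F, ∃ r, r * r = a := fun a => by
    obtain ⟨r, hr⟩ := FiniteField.isSquare_of_char_two (ringChar.eq F 2) a
    exact ⟨r, hr.symm⟩
  have hadd : ∀ u v, Q (u + v) = Q u + Q v + sympForm m F u v := fun u v => by
    rw [map_two, hpol]
  have hfs := sympForm_isSymplectic (m := m) (F := F)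
  have hcomm : ∀ u v, sympForm m F u v = sympForm m F v u := fun u v => by
    rw [← hpol, ← hpol, polar_comm]
  -- transvections in the orthogonal group
  have horth : ∀ (t : Gl) (v : Vm) (c : F), Tv t v c → t ∈ spGL m F → c * Q v = 1 → t ∈ K := by
    intro t v c ht hts hc
    refine hK ⟨⟨1, fun x => ?_⟩, hts⟩
    rw [ht, hadd, QuadraticMap.map_smul, hfs.bilinear.smul_right, Units.val_one, one_mul, smul_eq_mul]
    linear_combination (c * sympForm m F x v * sympForm m F x v) * hc + (c * sympForm m F x v * sympForm m F x v) * h2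
  -- an element moving the value of a non-singular vector
  obtain ⟨g, hg, v, hv, hgv⟩ : ∃ g ∈ K, ∃ v, Q v ≠ 0 ∧ Q ((g : Matrix (Fin m ⊕ Fin m) (Fin m ⊕ Fin m) F) *ᵥ v) ≠ Q v := by
    by_contra hcon
    push Not at hcon
    refine hne (le_antisymm (le_inf (fun g hg => ⟨1, fun x => ?_⟩) hKS) hK)
    rw [Units.val_one, one_mul]
    by_cases hx : Q x = 0
    swap
    · exact hcon g hg x hx
    by_cases hx0 : x = 0
    · rw [hx0, Matrix.mulVec_zero]
    obtain ⟨y, hy, hy0⟩ : ∃ y, polar Q x y = 0 ∧ Q y ≠ 0 := by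
      by_contra hcon'
      push Not at hcon'
      obtain ⟨a, ha, hax⟩ : ∃ a, polar Q x a = 0 ∧ a ∉ F ∙ x := by
        by_contra hcon''
        push Not at hcon''
        have h1 := Submodule.finrank_mono (show LinearMap.ker (polarBilin Q x) ≤ F ∙ x from fun a ha => hcon'' a ha)
        have h2' := (polarBilin Q x).finrank_range_add_finrank_ker
        rw [Module.finrank_fintype_fun_eq_card, Fintype.card_sum, Fintype.card_fin] at h2'
        have h3 := Submodule.finrank_le (LinearMap.range (polarBilin Q x))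
        rw [Module.finrank_self] at h3
        rw [finrank_span_singleton hx0] at h1
        omega
      obtain ⟨w, hw, hwa⟩ := ORefl.exists_polar_sep hQ hax 1
      have hwx : polar Q x w = 0 := by rw [polar_comm]; exact hw x (Submodule.mem_span_singleton_self x)
      have := hcon' (w + a) (by rw [polar_add_right, hwx, ha, add_zero])
      rw [map_two, hcon' a ha, hcon' w hwx, hwa, zero_add, zero_add] at this
      exact one_ne_zero this
    have e := hcon g hg (x + y) (by rw [hadd, hx, ← hpol, hy, zero_add, add_zero]; exact hy0)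
    rw [Matrix.mulVec_add, hadd, hadd, hcon g hg y hy0] at e
    have e' : sympForm m F ((g : Matrix (Fin m ⊕ Fin m) (Fin m ⊕ Fin m) F) *ᵥ x)
        ((g : Matrix (Fin m ⊕ Fin m) (Fin m ⊕ Fin m) F) *ᵥ y) = sympForm m F x y := hKS hg x y
    rw [e'] at e
    exact add_right_cancel (add_right_cancel e)
  have hgs : g ∈ spGL m F := hKS hg
  -- a transvection with non-zero centre outside the orthogonal group
  obtain ⟨p, c, hp0, hc0, hcp, tp, htpK, htp⟩ : ∃ (p : Vm) (c : F), p ≠ 0 ∧ c ≠ 0 ∧ c * Q p ≠ 1 ∧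
      ∃ t ∈ K, Tv t p c := by
    obtain ⟨t, hts, ht⟩ := exists_sp_transvection v (Q v)⁻¹
    refine ⟨_, (Q v)⁻¹, fun e => ?_, inv_ne_zero hv, fun e => hgv ?_, _,
      mul_mem (mul_mem hg (horth t v _ ht hts (inv_mul_cancel₀ hv))) (inv_mem hg), tv_conj hgs ht⟩
    · exact hv (by rw [gl_mulVec_injective g (e.trans (Matrix.mulVec_zero _).symm), QuadraticMap.map_zero])
    · rw [inv_mul_eq_one₀ hv] at e
      exact e.symm
  -- a transvection with singular centre
  obtain ⟨e₀, c₀, he0, he0', hc₀, te, hteK, hte⟩ : ∃ (e : Vm) (c : F), e ≠ 0 ∧ Q e = 0 ∧ c ≠ 0 ∧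
      ∃ t ∈ K, Tv t e c := by
    by_cases hQp : Q p = 0
    · exact ⟨p, c, hp0, hQp, hc0, tp, htpK, htp⟩
    obtain ⟨x', hx'p, hx'⟩ := exists_value_pair hm h2 hQ hQp (c * (c * Q p + 1))
    have hk : c * Q p + 1 ≠ 0 := fun e => hcp (by linear_combination e - h2)
    obtain ⟨t', hts', ht'⟩ := exists_sp_transvection x' (Q x')⁻¹
    have hx'0 : Q x' ≠ 0 := by rw [hx']; exact mul_ne_zero hc0 hk
    refine ⟨_, (Q x')⁻¹, fun e => ?_, ?_, inv_ne_zero hx'0, _,
      mul_mem (mul_mem htpK (horth t' x' _ ht' hts' (inv_mul_cancel₀ hx'0))) (inv_mem htpK),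
      tv_conj (hKS htpK) ht'⟩
    · exact hx'0 (by rw [gl_mulVec_injective tp (e.trans (Matrix.mulVec_zero _).symm), QuadraticMap.map_zero])
    · rw [htp, hadd, QuadraticMap.map_smul, hfs.bilinear.smul_right, smul_eq_mul, ← hpol, hx'p, hx']
      linear_combination (c * c * Q p + c) * h2
  -- every transvection with singular centre
  have hsing : ∀ (e : Vm) (c : F) (t : Gl), Q e = 0 → Tv t e c → t ∈ K := by
    intro e c t hQe ht
    by_cases he : e = 0 ∨ c = 0
    · rw [show t = 1 from gl_ext_mulVec fun x => by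
        rw [ht, Units.val_one, Matrix.one_mulVec]; rcases he with rfl | rfl <;> simp]
      exact one_mem K
    push Not at he
    obtain ⟨s, hs⟩ := hsq (c / c₀)
    have hs0 : s ≠ 0 := fun e' => div_ne_zero he.2 hc₀ (by rw [← hs, e', zero_mul])
    obtain ⟨γ, hγ, -, hγe⟩ := ORefl.exists_move hQ (H := ⊥) (x := e₀) (y := s • e) (by simpa using he0)
      (by simpa [hs0] using he.1) (by rw [QuadraticMap.map_smul, hQe, he0', smul_zero]) (by simp)
    obtain ⟨h, hh⟩ : ∃ h : Gl, ∀ x, (h : Matrix (Fin m ⊕ Fin m) (Fin m ⊕ Fin m) F) *ᵥ x = γ x := by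
      refine ⟨Matrix.GeneralLinearGroup.toLin.symm (LinearMap.GeneralLinearGroup.ofLinearEquiv γ), fun x => ?_⟩
      rw [← Matrix.toLin'_apply]
      change (Matrix.GeneralLinearGroup.toLin (Matrix.GeneralLinearGroup.toLin.symm
        (LinearMap.GeneralLinearGroup.ofLinearEquiv γ)) : Vm →ₗ[F] Vm) x = γ x
      rw [MulEquiv.apply_symm_apply]
      rfl
    have hhs : h ∈ spGL m F := fun x y => by
      change sympForm m F ((h : Matrix (Fin m ⊕ Fin m) (Fin m ⊕ Fin m) F) *ᵥ x)
        ((h : Matrix (Fin m ⊕ Fin m) (Fin m ⊕ Fin m) F) *ᵥ y) = _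
      rw [hh, hh, ← hpol, ← hpol, ORefl.polar_iso hγ]
    have hhK : h ∈ K := hK ⟨⟨1, fun x => by rw [hh, Units.val_one, one_mul]; exact hγ x⟩, hhs⟩
    have hc : c₀ * s * s = c := by rw [mul_assoc, hs, mul_div_cancel₀ _ hc₀]
    have := tv_conj hhs hte
    rw [hh, hγe] at this
    rw [tv_unique ht (hc ▸ tv_smul s this)]
    exact mul_mem (mul_mem hhK hteK) (inv_mem hhK)
  -- all transvections
  refine spGL_le fun p c t ht => ?_
  by_cases hp : Q p = 0
  · exact hsing p c t hp ht
  obtain ⟨e, hep, hQe⟩ := exists_value_pair hm h2 hQ hp 0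
  rw [hpol] at hep
  obtain ⟨x, hx⟩ : ∃ x, x = p + Q p • e := ⟨_, rfl⟩
  have hQx : Q x = 0 := by
    rw [hx, hadd, QuadraticMap.map_smul, hQe, smul_zero, hfs.bilinear.smul_right, hcomm, hep, add_zero, mul_one]
    linear_combination (Q p) * h2
  obtain ⟨a, has, ha⟩ := exists_sp_transvection e (Q p)
  obtain ⟨b, hbs, hb⟩ := exists_sp_transvection x c
  have hax : (a : Matrix (Fin m ⊕ Fin m) (Fin m ⊕ Fin m) F) *ᵥ x = p := by
    rw [ha, hx, hfs.bilinear.add_left, hfs.bilinear.smul_left, hfs.alternating, mul_zero, add_zero, hcomm, hep, mul_one,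
      add_assoc, ← add_smul, show Q p + Q p = 0 from by linear_combination (Q p) * h2, zero_smul, add_zero]
  have := tv_conj has hb
  rw [hax] at this
  rw [tv_unique ht this]
  exact mul_mem (mul_mem (hsing e _ a hQe ha) (hsing x c b hQx hb)) (inv_mem (hsing e _ a hQe ha))

end Cfsg.Agent.Classical.SpOver
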