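/-
Case division for maximal subgroups of orthogonal groups of odd prime dimension.
-/
import Cfsg.Agent.Lib.Classical.OrthogonalMembers
import Cfsg.Agent.Lib.Classical.PrimeStructure
import Cfsg.Agent.Lib.Classical.GaloisDescent

set_option autoImplicit false
set_option linter.style.haveILetI false

namespace Cfsg.Agent.Classical

open Matrix Cfsg.Geo

variable {ι : Type} [Fintype ι] [DecidableEq ι] {F : Type*} [Field F] {Q : (ι → F) → F}
  (hQ : IsNondegenerateQuadraticForm Q)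

include hQ

theorem gram_invariant {g : GL ι F} (hg : g ∈ isometryGroup F Q) :
    (g : Matrix ι ι F)ᵀ * gramMatrix (QuadraticMap.polar Q) * (g : Matrix ι ι F) =
      gramMatrix (QuadraticMap.polar Q) := by
  have e : gramMatrix (fun a b => QuadraticMap.polar Q ((g : Matrix ι ι F) *ᵥ a) ((g : Matrix ι ι F) *ᵥ b)) =
      gramMatrix (QuadraticMap.polar Q) := by
    congr 1
    funext a b
    simp only [QuadraticMap.polar, ← Matrix.mulVec_add, mem_isometryGroup_iff.mp hg]
  rw [gram_comp (RingEquiv.refl F) (semiForm_of_bilinear hQ.polar_bilinear)] at e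
  exact e

theorem gram_symm : (gramMatrix (QuadraticMap.polar Q))ᵀ = gramMatrix (QuadraticMap.polar Q) := by
  ext a b
  exact QuadraticMap.polar_comm _ _ _

/-- An abelian group of isometries with irreducible action is scalar. -/
theorem orth_field_absurd (h2 : (2 : F) ≠ 0) (hodd : Odd (Fintype.card ι)) {A : Subgroup (GL ι F)}
    (hA : A ≤ isometryGroup F Q) (hc : ∀ x ∈ A, ∀ y ∈ A, x * y = y * x) {r : ℕ}
    (hK : IsFieldSubalgebra r (commutant A)) : A ≤ scalars ι F := by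
  classical
  intro x hx
  haveI : Nonempty ι := Fintype.card_pos_iff.mp hodd.pos
  set S := gramMatrix (QuadraticMap.polar Q) with hS
  set X := (x : Matrix ι ι F) with hX
  set Xi := ((x⁻¹ : GL ι F) : Matrix ι ι F)
  have hmem : ∀ y ∈ A, (y : Matrix ι ι F) ∈ commutant A := fun y hy => mem_commutant_iff.mpr fun z hz => by
    rw [← Units.val_mul, ← Units.val_mul, hc z hz y hy]
  have hXT : Xᵀ * S = S * Xi := by
    calc Xᵀ * S = Xᵀ * S * (X * Xi) := by rw [Units.mul_inv, Matrix.mul_one]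
      _ = S * Xi := by rw [← Matrix.mul_assoc, gram_invariant hQ (hA hx)]
  have hskew : (S * (X - Xi))ᵀ = -(S * (X - Xi)) := by
    have h := congrArg Matrix.transpose hXT
    rw [Matrix.transpose_mul, Matrix.transpose_transpose, gram_symm hQ] at h
    rw [Matrix.mul_sub, Matrix.transpose_sub, ← h, Matrix.transpose_mul S X, gram_symm hQ, hXT, neg_sub]
  have hdet : (S * (X - Xi)).det = 0 := det_eq_zero_of_alternating_of_odd hodd _
    (fun i j => by simpa using congrFun (congrFun hskew i) j)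
    (fun i => by
      have := congrFun (congrFun hskew i) i
      rw [Matrix.transpose_apply, Matrix.neg_apply, eq_neg_iff_add_eq_zero, ← two_mul] at this
      exact (mul_eq_zero.mp this).resolve_left h2)
  have hk0 : X - Xi = 0 := by
    by_contra hne
    obtain ⟨y, -, hy⟩ := hK.inv _ (sub_mem (hmem x hx) (hmem _ (inv_mem hx))) hne
    rw [Matrix.det_mul, mul_eq_zero] at hdet
    have h := congrArg Matrix.det hy
    rw [Matrix.det_mul, hdet.resolve_left (det_polar_gram_ne_zero hQ), zero_mul, Matrix.det_one] at h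
    exact zero_ne_one h
  have hXX : (X - 1) * (X + 1) = 0 := by
    have e : X * X = 1 := by
      conv_lhs => arg 2; rw [sub_eq_zero.mp hk0]
      exact Units.mul_inv x
    rw [Matrix.sub_mul, Matrix.mul_add, Matrix.one_mul, Matrix.mul_one, e]
    abel
  by_cases hp : X + 1 = 0
  · refine mem_scalars_of_eq (c := -1) ?_
    rw [← hX, eq_neg_of_add_eq_zero_left hp, neg_smul, one_smul]
  · obtain ⟨y, -, hy⟩ := hK.inv _ (add_mem (hmem x hx) (one_mem _)) hp
    have h : X - 1 = 0 := by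
      calc X - 1 = (X - 1) * ((X + 1) * y) := by rw [hy, Matrix.mul_one]
        _ = 0 := by rw [← Matrix.mul_assoc, hXX, Matrix.zero_mul]
    exact mem_scalars_of_eq (c := 1) (by rw [← hX, sub_eq_zero.mp h, one_smul])

/-- An orthogonal group contains no Heisenberg pair. -/
theorem orth_no_primitive (hp : (Fintype.card ι).Prime) (hodd : Odd (Fintype.card ι)) {x y : GL ι F} {c : F}
    (hc : IsPrimitiveRoot c (Fintype.card ι)) (hx : x ∈ isometryGroup F Q) (hy : y ∈ isometryGroup F Q)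
    (hxy : (x : Matrix ι ι F) * (y : Matrix ι ι F) = c • ((y : Matrix ι ι F) * (x : Matrix ι ι F))) : False := by
  haveI : Nonempty ι := Fintype.card_pos_iff.mp hodd.pos
  obtain ⟨i⟩ := ‹Nonempty ι›
  set u : ι → F := ((((y * x : GL ι F))⁻¹ : GL ι F) : Matrix ι ι F) *ᵥ Pi.single i 1
  have key : ∀ w, Q w = c ^ 2 * Q w := fun w => by
    have h := mem_isometryGroup_iff.mp (mul_mem hx hy) ((((y * x : GL ι F))⁻¹ : GL ι F) *ᵥ w)
    rw [Units.val_mul, hxy, Matrix.smul_mulVec, hQ.smul, ← Units.val_mul, gl_mulVec_inv_cancel,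
      mem_isometryGroup_iff.mp (inv_mem (mul_mem hy hx))] at h
    exact h.symm
  have hc2 : c ^ 2 = 1 := by
    obtain ⟨z, hz⟩ : ∃ z, Q z ≠ 0 := by
      by_contra hcon
      push Not at hcon
      obtain ⟨v, hv⟩ := (hQ.nondegenerate (Pi.single i 1) (by simp)).2
      exact hv (by simp [QuadraticMap.polar, hcon])
    exact (mul_eq_right₀ hz).mp (key z).symm
  have := Nat.le_of_dvd two_pos (hc.dvd_of_pow_eq_one 2 hc2)
  have h2le := hp.two_le
  obtain ⟨k, hk⟩ := hodd
  omega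

/-- Subfield case: the rational structure carries the form, the group being odd dimensional. -/
theorem orth_subfield_case [Fintype F] (h2 : (2 : F) ≠ 0) (hodd : Odd (Fintype.card ι))
    (hS : ∀ (F₁ : Subfield F) i j, gramMatrix (QuadraticMap.polar Q) i j ∈ F₁)
    {H N : Subgroup (GL ι F)} (hNG : N ≤ isometryGroup F Q) (hn : ∀ h ∈ H, ∀ x ∈ N, h * x * h⁻¹ ∈ N)
    (hN : ActsAbsolutelyIrreducibly (matrixSet N)) {F₀ : Subfield F} (h0 : F₀ ≠ ⊤)
    (hreal : RealisableOver F₀ (matrixSet N)) :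
    ∃ (F₁ : Subfield F) (r : ℕ) (P : GL ι F), r.Prime ∧ Fintype.card F = Nat.card F₁ ^ r ∧
      IsQuadFormRationalStructure Q F₁ P ∧ H ≤ subfieldSubgroup F₁ P := by
  classical
  haveI : Nonempty ι := Fintype.card_pos_iff.mp hodd.pos
  obtain ⟨F₁, r, hr, hcard, hle, -⟩ := exists_prime_index_subfield F₀ h0
  obtain ⟨B, hB⟩ := hreal
  have hBN : ∀ x ∈ N, ∀ i j, ((B * x * B⁻¹ : GL ι F) : Matrix ι ι F) i j ∈ F₁ := fun x hx i j =>
    hle (by simpa using hB _ (coe_mem_matrixSet hx) i j)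
  set S := gramMatrix (QuadraticMap.polar Q) with hSdef
  set Bm := (B : Matrix ι ι F) with hBm
  set Bi := ((B⁻¹ : GL ι F) : Matrix ι ι F) with hBi
  obtain ⟨A, hA⟩ : ∃ A : Matrix ι ι F, A = Biᵀ * S * Bi := ⟨_, rfl⟩
  have hAdet : A.det = Bi.det ^ 2 * S.det := by
    rw [hA, Matrix.det_mul, Matrix.det_mul, Matrix.det_transpose]; ring
  have hBi0 : Bi.det ≠ 0 := ((Matrix.isUnit_iff_isUnit_det _).mp (B⁻¹).isUnit).ne_zero
  have hA0 : A.det ≠ 0 := hAdet ▸ mul_ne_zero (pow_ne_zero _ hBi0) (det_polar_gram_ne_zero hQ)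
  obtain ⟨p, hchar⟩ := CharP.exists F
  obtain ⟨⟨e, he⟩, hp, hce⟩ := FiniteField.card F p
  change Fintype.card F = p ^ e at hce
  obtain ⟨b, hb, -, -, hiff⟩ := subfield_card_eq hp hce F₁
  haveI : ExpChar F p := ExpChar.prime hp
  set τ := iterateFrobenius F p b with hτ
  have hτfix : ∀ y, τ y = y ↔ y ∈ F₁ := fun y => by rw [hiff, hτ, iterateFrobenius_def]
  obtain ⟨u, hu⟩ : IsUnit A := (Matrix.isUnit_iff_isUnit_det A).mpr (isUnit_iff_ne_zero.mpr hA0)
  set D := ((u⁻¹ : (Matrix ι ι F)ˣ) : Matrix ι ι F) * τ.mapMatrix A with hD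
  have hAD : A * D = τ.mapMatrix A := by rw [hD, ← Matrix.mul_assoc, ← hu, Units.mul_inv, Matrix.one_mul]
  have hYB : ∀ x : GL ι F, ((B * x * B⁻¹ : GL ι F) : Matrix ι ι F) * Bm = Bm * (x : Matrix ι ι F) := fun x => by
    rw [hBm, ← Units.val_mul, inv_mul_cancel_right, Units.val_mul]
  have hBY : ∀ x : GL ι F, Bi * ((B * x * B⁻¹ : GL ι F) : Matrix ι ι F) = (x : Matrix ι ι F) * Bi := fun x => by
    rw [hBi, ← Units.val_mul, ← mul_assoc, ← mul_assoc, inv_mul_cancel, one_mul, Units.val_mul]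
  have hcomm : ∀ x ∈ N, D * ((B * x * B⁻¹ : GL ι F) : Matrix ι ι F) = ((B * x * B⁻¹ : GL ι F) : Matrix ι ι F) * D := by
    intro x hx
    set Y := ((B * x * B⁻¹ : GL ι F) : Matrix ι ι F) with hY
    have h1 : Yᵀ * A * Y = A := by
      calc Yᵀ * A * Y = (Bi * Y)ᵀ * S * (Bi * Y) := by rw [Matrix.transpose_mul, hA]; simp only [Matrix.mul_assoc]
        _ = Biᵀ * ((x : Matrix ι ι F)ᵀ * S * (x : Matrix ι ι F)) * Bi := by
            rw [hBY, Matrix.transpose_mul]; simp only [Matrix.mul_assoc]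
        _ = A := by rw [gram_invariant hQ (hNG hx), ← hA]
    have h2' : Yᵀ * τ.mapMatrix A * Y = τ.mapMatrix A := by
      have := congrArg τ.mapMatrix h1
      rwa [map_mul, map_mul, show τ.mapMatrix Y = Y from by ext i j; exact (hτfix _).mpr (hBN x hx i j),
        show τ.mapMatrix Yᵀ = Yᵀ from by ext i j; exact (hτfix _).mpr (hBN x hx j i)] at this
    have hYu : IsUnit Yᵀ := (Matrix.isUnit_iff_isUnit_det _).mpr (by
      rw [Matrix.det_transpose]; exact (Matrix.isUnit_iff_isUnit_det _).mp (B * x * B⁻¹).isUnit)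
    refine (hu ▸ u.isUnit : IsUnit A).mul_left_cancel (hYu.mul_left_cancel ?_)
    calc Yᵀ * (A * (D * Y)) = Yᵀ * (A * D) * Y := by simp only [Matrix.mul_assoc]
      _ = A * D := by rw [hAD, h2']
      _ = Yᵀ * A * Y * D := by rw [h1]
      _ = Yᵀ * (A * (Y * D)) := by simp only [Matrix.mul_assoc]
  obtain ⟨l, hl⟩ := hN.2 (Bi * D * Bm) (by
    rintro _ ⟨x, hx, rfl⟩
    change Bi * D * Bm * (x : Matrix ι ι F) = _
    rw [Matrix.mul_assoc, ← hYB, ← Matrix.mul_assoc, Matrix.mul_assoc Bi D, hcomm x hx, ← Matrix.mul_assoc, hBY]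
    simp only [Matrix.mul_assoc])
  have hτA : τ.mapMatrix A = l • A := by
    have hDl : D = l • (1 : Matrix ι ι F) := by
      calc D = Bm * (Bi * D * Bm) * Bi := by
            simp only [Matrix.mul_assoc, hBm, hBi, Units.mul_inv, Matrix.mul_one]
            rw [← Matrix.mul_assoc (B : Matrix ι ι F), Units.mul_inv, Matrix.one_mul]
        _ = l • 1 := by rw [hl, Matrix.mul_smul, Matrix.mul_one, Matrix.smul_mul, hBm, hBi, Units.mul_inv]
    rw [← hAD, hDl, Matrix.mul_smul, Matrix.mul_one]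
  obtain ⟨i, j, hij⟩ : ∃ i j, A i j ≠ 0 := by
    by_contra hcon
    push Not at hcon
    exact hA0 (by rw [show A = 0 from Matrix.ext hcon]; exact Matrix.det_zero)
  obtain ⟨a, ha⟩ : ∃ a, a = A i j := ⟨_, rfl⟩
  have ha0 : a ≠ 0 := ha ▸ hij
  obtain ⟨A₀, hA₀⟩ : ∃ A₀ : Matrix ι ι F, A₀ = a⁻¹ • A := ⟨_, rfl⟩
  have hAA₀ : A = a • A₀ := by rw [hA₀, smul_smul, mul_inv_cancel₀ ha0, one_smul]
  have hA₀F : ∀ k m, A₀ k m ∈ F₁ := fun k m => by
    have e : ∀ k m, τ (A k m) = l * A k m := fun k m => congrFun (congrFun hτA k) m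
    have hl0 : l ≠ 0 := fun h => by
      have := e i j
      rw [h, zero_mul, map_eq_zero] at this
      exact hij this
    rw [← hτfix, hA₀, Matrix.smul_apply, smul_eq_mul, map_mul, map_inv₀, ha, e, e]
    field_simp
  have hdetF : ∀ M : Matrix ι ι F, (∀ k m, M k m ∈ F₁) → M.det ∈ F₁ := fun M hM => by
    rw [Matrix.det_apply]
    exact sum_mem fun π _ => zsmul_mem (prod_mem fun k _ => hM _ _) _
  obtain ⟨k, hk⟩ := hodd
  have hdetA : a * (a ^ k) ^ 2 * A₀.det = Bi.det ^ 2 * S.det := by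
    rw [← hAdet, hAA₀, Matrix.det_smul, hk]; ring
  have hA₀0 : A₀.det ≠ 0 := fun h => hA0 (by rw [hAA₀, Matrix.det_smul, h, mul_zero])
  set t := Bi.det / a ^ k with ht
  have ht0 : t ≠ 0 := div_ne_zero hBi0 (pow_ne_zero _ ha0)
  set β := S.det / A₀.det with hβ
  have hat : a = β * t ^ 2 := by
    rw [hβ, ht]; field_simp; linear_combination hdetA
  have hβF : β ∈ F₁ := div_mem (hdetF _ (hS F₁)) (hdetF _ hA₀F)
  let s : GL ι F := Units.map (Matrix.scalar ι : F →+* Matrix ι ι F).toMonoidHom (Units.mk0 t⁻¹ (inv_ne_zero ht0))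
  have hsv : ∀ v : ι → F, (s : Matrix ι ι F) *ᵥ v = t⁻¹ • v := fun v => by
    ext m; simp [s, Matrix.mulVec_diagonal]
  refine ⟨F₁, r, B⁻¹ * s, hr, hcard, fun v hv => ?_, fun g hg => ?_⟩
  · have h2F : (2 : F) ∈ F₁ := one_add_one_eq_two (R := F) ▸ add_mem (one_mem F₁) (one_mem F₁)
    have hdot : v ⬝ᵥ (A₀ *ᵥ v) ∈ F₁ :=
      sum_mem fun k _ => mul_mem (hv k) (sum_mem fun m _ => mul_mem (hA₀F k m) (hv m))
    have hval : QuadraticMap.polar Q (Bi *ᵥ v) (Bi *ᵥ v) = a * (v ⬝ᵥ (A₀ *ᵥ v)) := by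
      rw [polar_eq_dot hQ, ← hSdef, Matrix.mulVec_mulVec, ← smul_eq_mul a, ← dotProduct_smul, ← Matrix.smul_mulVec,
        ← hAA₀, hA, Matrix.mul_assoc, ← Matrix.mulVec_mulVec v Biᵀ, Matrix.dotProduct_mulVec v Biᵀ,
        Matrix.vecMul_transpose]
    have e : Q (((B⁻¹ * s : GL ι F) : Matrix ι ι F) *ᵥ v) = β * (v ⬝ᵥ (A₀ *ᵥ v)) / 2 := by
      rw [gl_mul_mulVec, hsv, Matrix.mulVec_smul, hQ.smul, ← hBi, eq_div_iff h2]
      have := polar_self_eq hQ (Bi *ᵥ v)
      rw [hval, hat] at this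
      field_simp
      linear_combination -this
    rw [e]
    exact div_mem (mul_mem hβF hdot) h2F
  · rw [mem_subfieldSubgroup, show (B⁻¹ * s)⁻¹ * g * (B⁻¹ * s) = s⁻¹ * (B * g * B⁻¹) * s by group]
    have hss : s ∈ scalars ι F := ⟨_, rfl⟩
    exact mul_mem (mul_mem (Subgroup.mem_sup_right (inv_mem hss))
      (mem_range_sup_scalars_of_normalizes hN hBN (hn g hg))) (Subgroup.mem_sup_right hss)

omit hQ in
/-- An irreducible monomial group permutes its lines transitively. -/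
theorem exists_transporter {t : ℕ} {H : Subgroup (GL ι F)} (hH : ActsIrreducibly (matrixSet H))
    {D : Fin t → Submodule F (ι → F)} (hD : IsMDecomposition 1 D) (hle : H ≤ decompositionStabilizer D)
    (i j : Fin t) : ∃ g ∈ H, (D i).map (Matrix.toLin' (g : Matrix ι ι F)) = D j := by
  classical
  by_contra hcon
  push Not at hcon
  have hne : ∀ k, D k ≠ ⊥ := fun k e => by
    have := hD.finrank_eq k
    rw [e, finrank_bot] at this
    exact zero_ne_one this
  let U : Submodule F (ι → F) := ⨆ g : H, (D i).map (Matrix.toLin' ((g : GL ι F) : Matrix ι ι F))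
  have hU : U = ⊤ := by
    refine (hH U ?_).resolve_left fun e => hne i ?_
    · rintro _ ⟨g, hg, rfl⟩
      simp only [U, Submodule.map_iSup]
      refine iSup_le fun h => le_iSup_of_le (⟨g, hg⟩ * h) ?_
      rw [← Submodule.map_comp, ← Matrix.toLin'_mul, ← Units.val_mul]
      exact le_rfl
    · have h1 : (D i).map (Matrix.toLin' (((1 : H) : GL ι F) : Matrix ι ι F)) ≤ U := le_iSup (fun g : H => (D i).map (Matrix.toLin' ((g : GL ι F) : Matrix ι ι F))) 1
      rw [e, le_bot_iff] at h1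
      simpa using h1
  have hle' : U ≤ ⨆ (k) (_ : k ≠ j), D k := iSup_le fun g => by
    obtain ⟨π, hπ⟩ := hle g.2
    rw [hπ i]
    exact le_iSup₂ (f := fun (k : Fin t) (_ : k ≠ j) => D k) (π i) (fun e => hcon g g.2 (by rw [hπ i, e]))
  have hdis : Disjoint (D j) (⨆ (k) (_ : k ≠ j), D k) := hD.indep j
  rw [hU, top_le_iff] at hle'
  rw [hle', disjoint_top] at hdis
  exact hne j hdis

/-- The eigenlines of an abelian normal subgroup form an orthogonal decomposition into isometric lines, and the group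
permuting them is absolutely irreducible and realised over every subfield. -/
theorem orth_monomial [Finite F] (hp : (Fintype.card ι).Prime) (h2 : (2 : F) ≠ 0) (hodd : Odd (Fintype.card ι))
    {H A : Subgroup (GL ι F)}
    (hH : ActsIrreducibly (matrixSet H)) (hHG : H ≤ isometryGroup F Q) (hA : A ≤ H)
    {D : Fin (Fintype.card ι) → Submodule F (ι → F)} (hD : IsMDecomposition 1 D) (hHD : H ≤ decompositionStabilizer D)
    {χ : Fin (Fintype.card ι) → GL ι F → F}
    (hχ : ∀ i, ∀ x ∈ A, ∀ w ∈ D i, (x : Matrix ι ι F) *ᵥ w = χ i x • w)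
    (hsep : ∀ i j, (∀ x ∈ A, χ i x = χ j x) → i = j) :
    IsOrthogonalMDecomposition Q 1 D ∧ ActsAbsolutelyIrreducibly (matrixSet H) ∧
      ∀ F₀ : Subfield F, RealisableOver F₀ (matrixSet H) := by
  classical
  have hb := hQ.polar_bilinear
  have hpol : ∀ g ∈ H, ∀ u v, QuadraticMap.polar Q ((g : Matrix ι ι F) *ᵥ u) ((g : Matrix ι ι F) *ᵥ v) =
      QuadraticMap.polar Q u v := fun g hg u v => by
    simp only [QuadraticMap.polar, ← Matrix.mulVec_add, mem_isometryGroup_iff.mp (hHG hg)]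
  let R : Fin (Fintype.card ι) → Fin (Fintype.card ι) → Prop := fun i j =>
    ∃ v ∈ D i, ∃ w ∈ D j, QuadraticMap.polar Q v w ≠ 0
  have hprod : ∀ i j, R i j → ∀ x ∈ A, χ i x * χ j x = 1 := by
    rintro i j ⟨v, hv, w, hw, hvw⟩ x hx
    have h := hpol x (hA hx) v w
    rw [hχ i x hx v hv, hχ j x hx w hw, hb.smul_left, hb.smul_right, ← mul_assoc] at h
    exact mul_eq_right₀ hvw |>.mp h
  have huniq : ∀ i j k, R i j → R i k → j = k := fun i j k hj hk => hsep j k fun x hx => by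
    have e1 := hprod i j hj x hx
    have e2 := hprod i k hk x hx
    exact mul_left_cancel₀ (left_ne_zero_of_mul_eq_one e1) (e1.trans e2.symm)
  have hsymm : ∀ i j, R i j → R j i := by
    rintro i j ⟨v, hv, w, hw, h⟩
    exact ⟨w, hw, v, hv, by rwa [QuadraticMap.polar_comm]⟩
  have hne : ∀ i, D i ≠ ⊥ := fun i e => by
    have := hD.finrank_eq i
    rw [e, finrank_bot] at this
    exact zero_ne_one this
  have hex : ∀ i, ∃ j, R i j := by
    intro i
    by_contra hcon
    push Not at hcon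
    obtain ⟨v, hv, hv0⟩ := Submodule.exists_mem_ne_zero_of_ne_bot (hne i)
    obtain ⟨x, hx⟩ := (hQ.nondegenerate v hv0).2
    apply hx
    suffices h : ∀ y ∈ iSup D, QuadraticMap.polar Q v y = 0 from h x (hD.iSup_eq_top ▸ Submodule.mem_top)
    intro y hy
    induction hy using Submodule.iSup_induction' with
    | mem j w hw =>
      by_contra h
      exact hcon j ⟨v, hv, w, hw, h⟩
    | zero => rw [← zero_smul F (0 : ι → F), hb.smul_right, zero_mul]
    | add a b _ _ ha hb' => rw [hb.add_right, ha, hb', add_zero]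
  choose τ hτ using hex
  have hττ : ∀ i, τ (τ i) = i := fun i => huniq _ _ _ (hτ (τ i)) (hsymm _ _ (hτ i))
  obtain ⟨i₀, hi₀⟩ : ∃ i, τ i = i := by
    by_contra hcon
    push Not at hcon
    let π : Equiv.Perm (Fin (Fintype.card ι)) := ⟨τ, τ, hττ, hττ⟩
    have hπ2 : π ^ 2 = 1 := by ext i; simp [sq, π, hττ]
    have hs : π.support = Finset.univ := Finset.eq_univ_of_forall fun i => Equiv.Perm.mem_support.mpr (hcon i)
    have := Equiv.Perm.two_dvd_card_support hπ2
    rw [hs, Finset.card_univ, Fintype.card_fin] at this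
    exact (Nat.not_even_iff_odd.mpr hodd) (even_iff_two_dvd.mpr this)
  obtain ⟨v₀, hv₀, hv₀0⟩ := Submodule.exists_mem_ne_zero_of_ne_bot (hne i₀)
  choose g hg hgD using fun i => exists_transporter hH hD hHD i₀ i
  set v : Fin (Fintype.card ι) → (ι → F) := fun i => (g i : Matrix ι ι F) *ᵥ v₀ with hvdef
  have hvD : ∀ i, v i ∈ D i := fun i => hgD i ▸ ⟨v₀, hv₀, rfl⟩
  have hv0 : ∀ i, v i ≠ 0 := fun i e => hv₀0 (gl_mulVec_injective (g i) (e.trans (Matrix.mulVec_zero _).symm))
  have hline : ∀ i, ∀ w ∈ D i, ∃ c : F, c • v i = w := by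
    intro i w hw
    have h : F ∙ v i = D i := Submodule.eq_of_le_of_finrank_eq
      ((Submodule.span_singleton_le_iff_mem _ _).mpr (hvD i)) (by rw [finrank_span_singleton (hv0 i), hD.finrank_eq])
    exact Submodule.mem_span_singleton.mp (h.symm ▸ hw)
  have hQv : ∀ i, Q (v i) = Q v₀ := fun i => mem_isometryGroup_iff.mp (hHG (hg i)) v₀
  have hQ0 : Q v₀ ≠ 0 := by
    intro h
    have hR : R i₀ i₀ := by simpa [hi₀] using hτ i₀
    obtain ⟨a, ha, c, hc, hac⟩ := hR
    obtain ⟨x, rfl⟩ := hline i₀ a ha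
    obtain ⟨y, rfl⟩ := hline i₀ c hc
    rw [hb.smul_left, hb.smul_right, polar_self_eq hQ, hQv, h] at hac
    simp at hac
  have hRii : ∀ i, R i i := fun i => ⟨v i, hvD i, v i, hvD i, by
    rw [polar_self_eq hQ, hQv]; exact mul_ne_zero h2 hQ0⟩
  have hND : IsOrthogonalMDecomposition Q 1 D := by
    refine ⟨⟨hD, fun i w hw hw0 => ?_, fun i j hij u hu w hw => ?_⟩, fun i j => ?_⟩
    · obtain ⟨c, rfl⟩ := hline i w hw
      have hc : c ≠ 0 := fun e => hw0 (by rw [e, zero_smul])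
      refine ⟨⟨v i, hvD i, ?_⟩, v i, hvD i, ?_⟩
      · rw [hb.smul_right, polar_self_eq hQ, hQv]; exact mul_ne_zero hc (mul_ne_zero h2 hQ0)
      · rw [hb.smul_left, polar_self_eq hQ, hQv]; exact mul_ne_zero hc (mul_ne_zero h2 hQ0)
    · by_contra h
      exact hij (huniq i i j (hRii i) ⟨u, hu, w, hw, h⟩)
    · obtain ⟨k, hk, hkD⟩ := exists_transporter hH hD hHD i j
      refine ⟨(Submodule.equivMapOfInjective _ (fun a b h => gl_mulVec_injective k (by simpa using h)) (D i)).trans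
        (LinearEquiv.ofEq _ _ hkD), fun w => ?_⟩
      change Q ((k : Matrix ι ι F) *ᵥ (w : ι → F)) = _
      exact mem_isometryGroup_iff.mp (hHG hk) _
  have hmove : ∀ h ∈ H, ∀ i, ∃ j, ∃ c : F, (c = 1 ∨ c = -1) ∧ (h : Matrix ι ι F) *ᵥ v i = c • v j := by
    intro h hh i
    obtain ⟨π, hπ⟩ := hHD hh
    obtain ⟨c, hc⟩ := hline (π i) ((h : Matrix ι ι F) *ᵥ v i) (hπ i ▸ ⟨v i, hvD i, rfl⟩)
    refine ⟨π i, c, ?_, hc.symm⟩
    have := mem_isometryGroup_iff.mp (hHG hh) (v i)
    rw [← hc, hQ.smul, hQv, hQv, mul_eq_right₀ hQ0] at this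
    exact sq_eq_one_iff.mp this
  refine ⟨hND, absIrr_of_nonabelian_normal hp hH (fun h hh x hx => mul_mem (mul_mem hh hx) (inv_mem hh)) ?_, fun F₀ => ?_⟩
  · by_contra hcon
    push Not at hcon
    obtain ⟨j, hj⟩ : ∃ j, j ≠ i₀ := by
      haveI : Nontrivial (Fin (Fintype.card ι)) := Fin.nontrivial_iff_two_le.mpr hp.two_le
      exact exists_ne i₀
    apply hj
    refine (hsep i₀ j fun x hx => ?_).symm
    have e : (x : Matrix ι ι F) *ᵥ v j = χ i₀ x • v j := by
      simp only [hvdef]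
      rw [← gl_mul_mulVec, hcon x (hA hx) (g j) (hg j), gl_mul_mulVec, hχ i₀ x hx v₀ hv₀, Matrix.mulVec_smul]
    rw [hχ j x hx _ (hvD j)] at e
    exact (smul_left_injective F (hv0 j) e).symm
  · let ε := Fintype.equivFin ι
    let V : Matrix ι ι F := fun k i => v (ε i) k
    have hli : LinearIndependent F v := hD.indep.linearIndependent D hvD hv0
    have hV : IsUnit V := Matrix.linearIndependent_cols_iff_isUnit.mp (hli.comp ε ε.injective)
    refine ⟨hV.unit⁻¹, ?_⟩
    rintro _ ⟨h, hh, rfl⟩ k i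
    rw [inv_inv]
    obtain ⟨j, c, hc, hcj⟩ := hmove h hh (ε i)
    have hcol : ∀ s, V *ᵥ Pi.single s 1 = v (ε s) := fun s => by rw [Matrix.mulVec_single_one]; rfl
    have e : ((((hV.unit⁻¹ : GL ι F) : Matrix ι ι F) * (h : Matrix ι ι F) * (hV.unit : Matrix ι ι F)) *ᵥ Pi.single i 1) =
        c • Pi.single (ε.symm j) 1 := by
      rw [← Matrix.mulVec_mulVec, ← Matrix.mulVec_mulVec, IsUnit.unit_spec, hcol, hcj, Matrix.mulVec_smul]
      congr 1
      refine gl_mulVec_injective hV.unit ?_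
      dsimp only
      rw [gl_mulVec_inv_cancel, IsUnit.unit_spec, hcol, Equiv.apply_symm_apply]
    have e' := congrFun e k
    rw [Matrix.mulVec_single_one] at e'
    simp only [Matrix.col_apply] at e'
    rw [e', Pi.smul_apply, Pi.single_apply, smul_eq_mul]
    rcases hc with rfl | rfl <;> split_ifs <;> simp [one_mem, zero_mem]

/-- An absolutely irreducible group of isometries, realised over no proper subfield, fixes no unitary form. -/
theorem orth_no_unitary [Fintype F] (hodd : Odd (Fintype.card ι)) {P : Subgroup (GL ι F)} (hPG : P ≤ isometryGroup F Q)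
    (hP : ActsAbsolutelyIrreducibly (matrixSet P))
    (hreal : ∀ F₀ : Subfield F, F₀ ≠ ⊤ → ¬ RealisableOver F₀ (matrixSet P)) :
    ¬ ∃ (σ : F ≃+* F) (f : (ι → F) → (ι → F) → F), IsUnitaryForm σ f ∧ FixesForm (matrixSet P) f := by
  classical
  rintro ⟨σ, f, hf, hfix⟩
  haveI : Nonempty ι := Fintype.card_pos_iff.mp hodd.pos
  set S := gramMatrix (QuadraticMap.polar Q)
  set A := gramMatrix f
  let Su : GL ι F := Matrix.GeneralLinearGroup.mkOfDetNeZero S (det_polar_gram_ne_zero hQ)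
  let Au : GL ι F := Matrix.GeneralLinearGroup.mkOfDetNeZero A (det_gram_ne_zero σ (semiForm_of_unitary hf) hf.nondegenerate)
  obtain ⟨F₀, h0, hr⟩ := realisable_of_intertwiner hf.involutive hf.ne_refl hP (C := Su⁻¹ * Au) (fun x hx => by
    set X := (x : Matrix ι ι F)
    set C := ((Su⁻¹ * Au : GL ι F) : Matrix ι ι F) with hCdef
    have hSC : S * C = A := by
      rw [hCdef, show S = (Su : Matrix ι ι F) from rfl, ← Units.val_mul, mul_inv_cancel_left]
      rfl
    have h1 : Xᵀ * A * X.map σ = A := by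
      have e : gramMatrix (fun a b => f (X *ᵥ a) (X *ᵥ b)) = A :=
        congrArg gramMatrix (funext fun a => funext fun b => hfix _ (coe_mem_matrixSet hx) a b)
      rwa [gram_comp σ (semiForm_of_unitary hf)] at e
    have hXu : IsUnit Xᵀ := (Matrix.isUnit_iff_isUnit_det _).mpr (by
      rw [Matrix.det_transpose]; exact (Matrix.isUnit_iff_isUnit_det _).mp x.isUnit)
    refine (Su.isUnit : IsUnit S).mul_left_cancel (hXu.mul_left_cancel ?_)
    calc Xᵀ * (S * (C * X.map σ)) = Xᵀ * (S * C) * X.map σ := by simp only [Matrix.mul_assoc]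
      _ = S * C := by rw [hSC, h1]
      _ = Xᵀ * S * X * C := by rw [gram_invariant hQ (hPG hx)]
      _ = Xᵀ * (S * (X * C)) := by simp only [Matrix.mul_assoc])
  exact hreal F₀ h0 hr

omit hQ in
theorem decompositionStabilizer_finCast {t t' : ℕ} (h : t' = t) (D : Fin t → Submodule F (ι → F)) :
    decompositionStabilizer (D ∘ Fin.cast h) = decompositionStabilizer D := by
  subst h; rfl

omit hQ in
theorem IsOrthogonalMDecomposition.finCast {t t' m : ℕ} (h : t' = t) {D : Fin t → Submodule F (ι → F)}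
    (hD : IsOrthogonalMDecomposition Q m D) : IsOrthogonalMDecomposition Q m (D ∘ Fin.cast h) := by
  subst h; exact hD

/-- Maximal subgroups of an irreducible group of isometries with a unipotent family, in odd prime dimension. -/
theorem orth_prime_cases [Fintype F] (h2 : (2 : F) ≠ 0) (hp : (Fintype.card ι).Prime) (h3 : 3 < Fintype.card ι)
    (hS : ∀ (F₁ : Subfield F) i j, gramMatrix (QuadraticMap.polar Q) i j ∈ F₁)
    {G : Subgroup (GL ι F)} (hGI : G ≤ isometryGroup F Q) (hGS : G ≤ specialLinear ι F)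
    (hirr : ActsIrreducibly (matrixSet G)) (huni : HasUnipotentFamily G)
    {t : ℕ} (ht : Fintype.card ι = t)
    {H : Subgroup (GL ι F)} (hH : IsMaximalIn G H) :
    (∃ W : Submodule F (ι → F), W ≠ ⊥ ∧ IsTotallySingularQuad Q W ∧ H = subspaceStabilizer W ⊓ G) ∨
    (∃ W : Submodule F (ι → F), W ≠ ⊥ ∧ Even (Module.finrank F W) ∧ IsNondegenerateOn (QuadraticMap.polar Q) W ∧
      ¬ (Fintype.card F = 3 ∧ Module.finrank F W = 2 ∧ IsPlusTypeOn Q W) ∧ H = subspaceStabilizer W ⊓ G) ∨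
    ((Fintype.card F).Prime ∧ ∃ D : Fin t → Submodule F (ι → F), IsOrthogonalMDecomposition Q 1 D ∧
      H = decompositionStabilizer D ⊓ G) ∨
    (∃ (F₀ : Subfield F) (r : ℕ) (P : GL ι F), r.Prime ∧ Fintype.card F = Nat.card F₀ ^ r ∧
      IsQuadFormRationalStructure Q F₀ P ∧ H = subfieldSubgroup F₀ P ⊓ G) ∨
    InOrthogonalResidualClass H := by
  classical
  haveI : Nonempty ι := Fintype.card_pos_iff.mp hp.pos
  have hodd : Odd (Fintype.card ι) := hp.odd_of_ne_two (by omega)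
  have hHI : H ≤ isometryGroup F Q := hH.1.le.trans hGI
  have cut : ∀ X, H ≤ X → ¬ G ≤ X → H = X ⊓ G := fun X hle hX =>
    ((hH.2 (X ⊓ G) (le_inf hle hH.1.le) inf_le_right).resolve_right fun h => hX (h ▸ inf_le_left)).symm
  have cutW : ∀ W : Submodule F (ι → F), W ≠ ⊥ → W ≠ ⊤ → H ≤ subspaceStabilizer W →
      H = subspaceStabilizer W ⊓ G := fun W h0 h1 hle => cut _ hle fun hG => by
    rcases hirr W (fun s ⟨g, hg, e⟩ => e ▸ map_toLin'_le.mpr (mem_subspaceStabilizer_iff.mp (hG hg))) with h | h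
    exacts [h0 h, h1 h]
  have hsub : ∀ {F₀ : Subfield F} {N : Subgroup (GL ι F)}, N ≤ H → (∀ h ∈ H, ∀ x ∈ N, h * x * h⁻¹ ∈ N) →
      ActsAbsolutelyIrreducibly (matrixSet N) → F₀ ≠ ⊤ → RealisableOver F₀ (matrixSet N) →
      ∃ (F₀ : Subfield F) (r : ℕ) (P : GL ι F), r.Prime ∧ Fintype.card F = Nat.card F₀ ^ r ∧
        IsQuadFormRationalStructure Q F₀ P ∧ H = subfieldSubgroup F₀ P ⊓ G := by
    intro F₀ N hNH hn ha h0 hr
    obtain ⟨F₁, r, P, hr', hc, hform, hle⟩ := orth_subfield_case hQ h2 hodd hS (hNH.trans hHI) hn ha h0 hr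
    exact ⟨F₁, r, P, hr', hc, hform, cut _ hle (huni.not_le_subfield hr' hc P)⟩
  cases prime_structure hp hodd (hH.1.le.trans hGS) with
  | reducible h =>
    obtain ⟨W, h0, h1, hW, hT | ⟨he, hN, hexc⟩⟩ := orth_reducible_cases hQ h2 hodd h3 hHI h
    · exact Or.inl ⟨W, h0, hT, cutW W h0 h1 hW⟩
    · exact Or.inr (Or.inl ⟨W, h0, he, hN, hexc, cutW W h0 h1 hW⟩)
  | abelian hir A hA hn hs hc =>
    rcases abelian_normal_cases_strong hp hir hn hc with h | ⟨D, hD, hle, χ, hχ, hsep⟩ | ⟨hK, -⟩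
    · exact absurd h hs
    · obtain ⟨hOD, ha, hreal⟩ := orth_monomial hQ hp h2 hodd hir hHI hA hD hle hχ hsep
      by_cases hq : (Fintype.card F).Prime
      · refine Or.inr (Or.inr (Or.inl ⟨hq, D ∘ Fin.cast ht.symm, IsOrthogonalMDecomposition.finCast ht.symm hOD, ?_⟩))
        rw [decompositionStabilizer_finCast]
        exact cut _ hle (huni.not_le_decomposition h2 hD)
      · obtain ⟨p, hchar⟩ := CharP.exists F
        obtain ⟨⟨e, he⟩, hpp, hce⟩ := FiniteField.card F p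
        change Fintype.card F = p ^ e at hce
        obtain ⟨F₀, hc₀, -⟩ := exists_subfield_pow hpp hce (one_dvd e) one_pos
        refine Or.inr (Or.inr (Or.inr (Or.inl (hsub le_rfl (fun h hh x hx => mul_mem (mul_mem hh hx) (inv_mem hh)) ha
          (F₀ := F₀) (fun h => hq ?_) (hreal F₀)))))
        rw [h, Nat.card_congr (Equiv.subtypeUnivEquiv Subfield.mem_top), Nat.card_eq_fintype_card, pow_one] at hc₀
        rw [hc₀]; exact hpp
    · exact absurd (orth_field_absurd hQ h2 hodd (hA.trans hHI) hc hK) hs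
  | symplectic M c hM hn ha hc hd =>
    obtain ⟨x, hx, y, hy, hxy, -⟩ := hd.gens
    exact (orth_no_primitive hQ hp hodd hd.prim (hHI (hM hx)) (hHI (hM hy)) hxy).elim
  | perfect P hP hPn hPa hcore hsymp =>
    by_cases hreal : ∃ F₀ : Subfield F, F₀ ≠ ⊤ ∧ RealisableOver F₀ (matrixSet P)
    · obtain ⟨F₀, h0, hr⟩ := hreal
      exact Or.inr (Or.inr (Or.inr (Or.inl (hsub hP hPn hPa h0 hr))))
    have hno : ∀ F₀ : Subfield F, F₀ ≠ ⊤ → ¬ RealisableOver F₀ (matrixSet P) := fun F₀ h0 hr => hreal ⟨F₀, h0, hr⟩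
    exact Or.inr (Or.inr (Or.inr (Or.inr ⟨P, hcore hno, orth_no_unitary hQ hodd (hP.trans hHI) hPa hno⟩)))

end Cfsg.Agent.Classical
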