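/-
Groups permuting orthogonal lines of equal value: a decomposition member or a subfield member.
-/
import Cfsg.Agent.Lib.Classical.OrthogonalPrime
import Cfsg.Agent.Lib.Classical.SesqForm

set_option autoImplicit false
set_option linter.style.haveILetI false
set_option linter.unusedSectionVars false

namespace Cfsg.Agent.Classical

open Matrix Cfsg.Geo

variable {ι : Type} [Fintype ι] [DecidableEq ι] {F : Type*} [Field F]

/-- An irreducible group permuting a decomposition permutes its members transitively. -/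
theorem exists_member_transporter {t k : ℕ} {H : Subgroup (GL ι F)} (hH : ActsIrreducibly (matrixSet H))
    {D : Fin t → Submodule F (ι → F)} (hD : IsMDecomposition k D) (hle : H ≤ decompositionStabilizer D)
    (i j : Fin t) : ∃ g ∈ H, (D i).map (Matrix.toLin' (g : Matrix ι ι F)) = D j := by
  classical
  by_contra hcon
  push Not at hcon
  have hne : ∀ s, D s ≠ ⊥ := fun s e => by
    have := hD.finrank_eq s
    rw [e, finrank_bot] at this
    exact absurd this.symm hD.pos.ne'
  let U : Submodule F (ι → F) := ⨆ g : H, (D i).map (Matrix.toLin' ((g : GL ι F) : Matrix ι ι F))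
  have hU : U = ⊤ := by
    refine (hH U ?_).resolve_left fun e => hne i ?_
    · rintro _ ⟨g, hg, rfl⟩
      simp only [U, Submodule.map_iSup]
      refine iSup_le fun h => le_iSup_of_le (⟨g, hg⟩ * h) ?_
      rw [← Submodule.map_comp, ← Matrix.toLin'_mul, ← Units.val_mul]
      exact le_rfl
    · have h1 : (D i).map (Matrix.toLin' (((1 : H) : GL ι F) : Matrix ι ι F)) ≤ U :=
        le_iSup (fun g : H => (D i).map (Matrix.toLin' ((g : GL ι F) : Matrix ι ι F))) 1
      rw [e, le_bot_iff] at h1
      simpa using h1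
  have hle' : U ≤ ⨆ (s) (_ : s ≠ j), D s := iSup_le fun g => by
    obtain ⟨π, hπ⟩ := hle g.2
    rw [hπ i]
    exact le_iSup₂ (f := fun (s : Fin t) (_ : s ≠ j) => D s) (π i) (fun e => hcon g g.2 (by rw [hπ i, e]))
  have hdis : Disjoint (D j) (⨆ (s) (_ : s ≠ j), D s) := hD.indep j
  rw [hU, top_le_iff] at hle'
  rw [hle', disjoint_top] at hdis
  exact hne j hdis

variable {Q : (ι → F) → F} (hQ : IsNondegenerateQuadraticForm Q)

include hQ

theorem orth_isometric {t k : ℕ} {H : Subgroup (GL ι F)} (hH : ActsIrreducibly (matrixSet H))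
    (hI : H ≤ isometryGroup F Q) {D : Fin t → Submodule F (ι → F)}
    (hD : IsNondegenerateMDecomposition (QuadraticMap.polar Q) k D) (hle : H ≤ decompositionStabilizer D) :
    IsOrthogonalMDecomposition Q k D := by
  refine ⟨hD, fun i j => ?_⟩
  obtain ⟨g, hg, hgj⟩ := exists_member_transporter hH hD.decomp hle i j
  let L : (ι → F) ≃ₗ[F] (ι → F) :=
    LinearEquiv.ofBijective (Matrix.toLin' (g : Matrix ι ι F)) ⟨gl_mulVec_injective g, fun v =>
      ⟨((g⁻¹ : GL ι F) : Matrix ι ι F) *ᵥ v, by rw [Matrix.toLin'_apply, gl_mulVec_inv_cancel]⟩⟩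
  refine ⟨(L.submoduleMap (D i)).trans (LinearEquiv.ofEq _ _ hgj), fun w => ?_⟩
  exact mem_isometryGroup_iff.mp (hI hg) w

/-- A group permuting an orthogonal basis of equal values up to signs. -/
theorem orth_lines [Fintype F] (h2 : (2 : F) ≠ 0) (hodd : Odd (Fintype.card ι)) (h2le : 2 ≤ Fintype.card ι)
    (hS : ∀ (F₁ : Subfield F) i j, gramMatrix (QuadraticMap.polar Q) i j ∈ F₁)
    {H : Subgroup (GL ι F)} (v : ι → ι → F) {c : F} (hc : c ≠ 0)
    (hgram : ∀ i j, QuadraticMap.polar Q (v i) (v j) = if i = j then c else 0)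
    (hmove : ∀ h ∈ H, ∀ i, ∃ (j : ι) (a : F), (a = 1 ∨ a = -1) ∧ (h : Matrix ι ι F) *ᵥ v i = a • v j) :
    ((Fintype.card F).Prime ∧ ∃ (t : ℕ) (D : Fin t → Submodule F (ι → F)), IsOrthogonalMDecomposition Q 1 D ∧
        H ≤ decompositionStabilizer D) ∨
      ∃ (F₁ : Subfield F) (r : ℕ) (P : GL ι F), r.Prime ∧ Fintype.card F = Nat.card F₁ ^ r ∧
        IsQuadFormRationalStructure Q F₁ P ∧ H ≤ subfieldSubgroup F₁ P := by
  classical
  set S := gramMatrix (QuadraticMap.polar Q) with hSdef
  let V : Matrix ι ι F := Matrix.of fun k i => v i k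
  have hVcol : ∀ i, V *ᵥ Pi.single i 1 = v i := fun i => by rw [Matrix.mulVec_single_one]; rfl
  have hVSV : Vᵀ * S * V = c • 1 := by
    have e := gram_comp (RingEquiv.refl F) (semiForm_of_bilinear hQ.polar_bilinear) V
    refine (e.symm.trans ?_)
    ext i j
    simp only [gramMatrix, hVcol, hgram, Matrix.smul_apply, Matrix.one_apply, smul_eq_mul, mul_ite, mul_one, mul_zero]
  have hVdet : V.det ≠ 0 := fun h0 => by
    have := congrArg Matrix.det hVSV
    rw [Matrix.det_mul, h0, mul_zero, Matrix.det_smul, Matrix.det_one, mul_one] at this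
    exact pow_ne_zero _ hc this.symm
  let P : GL ι F := Matrix.GeneralLinearGroup.mkOfDetNeZero V hVdet
  have hPcol : ∀ i, (P : Matrix ι ι F) *ᵥ Pi.single i 1 = v i := hVcol
  have hinj : ∀ i j (a : F), v i = a • v j → i = j := fun i j a h => by
    by_contra hne
    have := hgram i i
    rw [if_pos rfl] at this
    nth_rewrite 2 [h] at this
    rw [hQ.polar_bilinear.smul_right, hgram, if_neg hne, mul_zero] at this
    exact hc this.symm
  by_cases hprime : (Fintype.card F).Prime
  · refine Or.inl ⟨hprime, Fintype.card ι, ?_⟩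
    let en := (Fintype.equivFin ι).symm
    let D : Fin (Fintype.card ι) → Submodule F (ι → F) := fun s => F ∙ v (en s)
    have hv0 : ∀ i, v i ≠ 0 := fun i h => by
      have := hgram i i
      rw [if_pos rfl, h, (reflexForm_of_quadratic hQ).zero_left] at this
      exact hc this.symm
    have hliι : LinearIndependent F v := (Matrix.linearIndependent_cols_iff_isUnit (A := V)).mpr
      ((Matrix.isUnit_iff_isUnit_det V).mpr (isUnit_iff_ne_zero.mpr hVdet))
    have hli : LinearIndependent F (v ∘ en) := hliι.comp _ en.injective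
    have hdec : IsMDecomposition 1 D := by
      refine ⟨h2le, one_pos, fun s => finrank_span_singleton (hv0 _), hli.iSupIndep_span_singleton, ?_⟩
      haveI : Nonempty (Fin (Fintype.card ι)) := ⟨⟨0, by omega⟩⟩
      rw [show iSup D = Submodule.span F (Set.range (v ∘ en)) from (Submodule.span_range_eq_iSup).symm]
      exact hli.span_eq_top_of_card_eq_finrank (by rw [Fintype.card_fin, Module.finrank_fintype_fun_eq_card])
    refine ⟨D, ⟨⟨hdec, fun s w hw hw0 => ?_, fun s s' hne u hu w hw => ?_⟩, fun s s' => ?_⟩, fun h hh => ?_⟩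
    · obtain ⟨a, rfl⟩ := Submodule.mem_span_singleton.mp hw
      have ha : a ≠ 0 := fun e => hw0 (by rw [e, zero_smul])
      have : QuadraticMap.polar Q (v (en s)) (v (en s)) ≠ 0 := by rw [hgram, if_pos rfl]; exact hc
      exact ⟨⟨_, Submodule.mem_span_singleton_self _, by rw [hQ.polar_bilinear.smul_right]; exact mul_ne_zero ha this⟩,
        ⟨_, Submodule.mem_span_singleton_self _, by rw [hQ.polar_bilinear.smul_left]; exact mul_ne_zero ha this⟩⟩
    · obtain ⟨a, rfl⟩ := Submodule.mem_span_singleton.mp hu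
      obtain ⟨b, rfl⟩ := Submodule.mem_span_singleton.mp hw
      rw [hQ.polar_bilinear.smul_left, hQ.polar_bilinear.smul_right, hgram, if_neg (fun e => hne (en.injective e)),
        mul_zero, mul_zero]
    · refine ⟨(LinearEquiv.toSpanNonzeroSingleton F _ _ (hv0 (en s))).symm.trans
        (LinearEquiv.toSpanNonzeroSingleton F _ _ (hv0 (en s'))), fun w => ?_⟩
      obtain ⟨a, rfl⟩ := (LinearEquiv.toSpanNonzeroSingleton F _ _ (hv0 (en s))).surjective w
      have hQv : ∀ i, 2 * Q (v i) = c := fun i => by
        have := polar_self_eq hQ (v i)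
        rw [hgram, if_pos rfl] at this
        exact this.symm
      rw [LinearEquiv.trans_apply, LinearEquiv.symm_apply_apply]
      change Q (a • v (en s')) = Q (a • v (en s))
      rw [hQ.smul, hQ.smul]
      exact congrArg _ (mul_left_cancel₀ h2 ((hQv _).trans (hQv _).symm))
    · choose j a ha hja using hmove h hh
      have hjinj : Function.Injective fun s => en.symm (j (en s)) := by
        intro s s' e
        have e' : j (en s) = j (en s') := en.symm.injective e
        apply en.injective
        have h1 := hja (en s)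
        rw [e'] at h1
        have h2' := hja (en s')
        refine hinj _ _ (a (en s) * a (en s')) ?_
        refine gl_mulVec_injective h ?_
        simp only [Matrix.mulVec_smul, h2', smul_smul]
        rw [h1]
        congr 1
        rcases ha (en s') with e1 | e1 <;> rw [e1] <;> ring
      refine ⟨Equiv.ofBijective _ ⟨hjinj, Finite.injective_iff_surjective.mp hjinj⟩, fun s => ?_⟩
      simp only [D, Equiv.ofBijective_apply, Equiv.apply_symm_apply, Submodule.map_span, Set.image_singleton,
        Matrix.toLin'_apply, hja]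
      have ha0 : a (en s) ≠ 0 := by rcases ha (en s) with e1 | e1 <;> rw [e1] <;> simp
      rw [Submodule.span_singleton_smul_eq (isUnit_iff_ne_zero.mpr ha0), show en (Equiv.ofBijective (fun s => en.symm (j (en s))) ⟨hjinj, Finite.injective_iff_surjective.mp hjinj⟩ s) = j (en s) from en.apply_symm_apply _]
  · right
    obtain ⟨p, hchar⟩ := CharP.exists F
    obtain ⟨⟨e, he⟩, hp, hce⟩ := FiniteField.card F p
    change Fintype.card F = p ^ e at hce
    obtain ⟨F₀, hF₀, -⟩ := exists_subfield_pow hp hce (one_dvd e) one_pos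
    have h0 : F₀ ≠ ⊤ := fun h => hprime (by
      rw [h, Nat.card_congr (Equiv.subtypeUnivEquiv Subfield.mem_top), Nat.card_eq_fintype_card, pow_one] at hF₀
      rw [hF₀]; exact hp)
    obtain ⟨F₁, r, hr, hcard, -, -⟩ := exists_prime_index_subfield F₀ h0
    obtain ⟨k, hk⟩ := hodd
    have hdetS : S.det ∈ F₁ := by
      rw [Matrix.det_apply]
      exact sum_mem fun π _ => zsmul_mem (prod_mem fun i _ => hS F₁ _ _) _
    set s := V.det / c ^ k with hs
    have hs0 : s ≠ 0 := div_ne_zero hVdet (pow_ne_zero _ hc)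
    have hcs : c = s ^ 2 * S.det := by
      have := congrArg Matrix.det hVSV
      rw [Matrix.det_mul, Matrix.det_mul, Matrix.det_transpose, Matrix.det_smul, Matrix.det_one, mul_one, hk] at this
      rw [hs]
      field_simp
      rw [show 2 * k + 1 = k * 2 + 1 by ring, pow_succ, pow_mul] at this
      linear_combination -this
    let z : GL ι F := Units.map (Matrix.scalar ι : F →+* Matrix ι ι F).toMonoidHom (Units.mk0 s⁻¹ (inv_ne_zero hs0))
    have hzv : ∀ w : ι → F, (z : Matrix ι ι F) *ᵥ w = s⁻¹ • w := fun w => by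
      ext m; simp [z, Matrix.mulVec_diagonal]
    refine ⟨F₁, r, P * z, hr, hcard, fun u hu => ?_, fun h hh => ?_⟩
    · have hpol : QuadraticMap.polar Q ((P : Matrix ι ι F) *ᵥ u) ((P : Matrix ι ι F) *ᵥ u) = c * ∑ i, u i * u i := by
        rw [polar_eq_dot hQ, ← hSdef]
        change (V *ᵥ u) ⬝ᵥ (S *ᵥ (V *ᵥ u)) = _
        rw [Matrix.mulVec_mulVec, dotProduct_comm, Matrix.dotProduct_mulVec, ← Matrix.mulVec_transpose, Matrix.mulVec_mulVec,
          ← Matrix.mul_assoc, hVSV, Matrix.smul_mulVec, Matrix.one_mulVec, smul_dotProduct, smul_eq_mul]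
        rfl
      have e : Q (((P * z : GL ι F) : Matrix ι ι F) *ᵥ u) = S.det * (∑ i, u i * u i) / 2 := by
        rw [gl_mul_mulVec, hzv, Matrix.mulVec_smul, hQ.smul, eq_div_iff h2]
        have := polar_self_eq hQ ((P : Matrix ι ι F) *ᵥ u)
        rw [hpol, hcs] at this
        field_simp
        simp only [← sq] at this ⊢
        linear_combination -this
      rw [e]
      exact div_mem (mul_mem hdetS (sum_mem fun i _ => mul_mem (hu i) (hu i)))
        (one_add_one_eq_two (R := F) ▸ add_mem (one_mem F₁) (one_mem F₁))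
    · rw [mem_subfieldSubgroup, show (P * z)⁻¹ * h * (P * z) = z⁻¹ * (P⁻¹ * h * P) * z by group]
      have hss : z ∈ scalars ι F := ⟨_, rfl⟩
      refine mul_mem (mul_mem (Subgroup.mem_sup_right (inv_mem hss)) (Subgroup.mem_sup_left (mem_range_map_subfield fun i l => ?_)))
        (Subgroup.mem_sup_right hss)
      obtain ⟨j, a, ha, hja⟩ := hmove h hh l
      have e' : ((P⁻¹ * h * P : GL ι F) : Matrix ι ι F) *ᵥ Pi.single l 1 = a • Pi.single j 1 := by
        rw [gl_mul_mulVec, gl_mul_mulVec, hPcol, hja, Matrix.mulVec_smul, ← hPcol, gl_inv_mulVec_cancel]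
      have e'' := congrFun e' i
      rw [Matrix.mulVec_single_one] at e''
      simp only [Matrix.col_apply] at e''
      rw [e'', Pi.smul_apply, Pi.single_apply, smul_eq_mul]
      rcases ha with rfl | rfl <;> split_ifs <;> simp [one_mem, zero_mem]

end Cfsg.Agent.Classical
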