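/-
The standard odd dimensional quadratic form: nondegeneracy, Eichler elements of Ω, and irreducibility of Ω.
-/
import Cfsg.Agent.Lib.Classical.OrthogonalGroup

set_option autoImplicit false
set_option linter.style.haveILetI false

namespace Cfsg.Agent.Classical

open Matrix Cfsg.Geo

variable {m : ℕ} {F : Type*} [Field F]

local notation "ι" => Unit ⊕ (Fin m ⊕ Fin m)

/-- The partner of a coordinate for the form `x₀² + Σ xᵢyᵢ`. -/
def oddPair (m : ℕ) : Unit ⊕ (Fin m ⊕ Fin m) → Unit ⊕ (Fin m ⊕ Fin m) := Sum.map id Sum.swap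

theorem oddPair_pair (k : ι) : oddPair m (oddPair m k) = k := by
  rcases k with u | i | i <;> rfl

theorem oddPair_inr_ne (i : Fin m ⊕ Fin m) : oddPair m (.inr i) ≠ .inr i := by
  rcases i with i | i <;> simp [oddPair]

theorem oddPair_eq_inl {k : ι} : oddPair m k = .inl () ↔ k = .inl () := by
  rcases k with u | i | i <;> simp [oddPair]

/-- The coefficient of a coordinate in the polar form. -/
def oddCoef (m : ℕ) (F : Type*) [Field F] : Unit ⊕ (Fin m ⊕ Fin m) → F := Sum.elim (fun _ => 2) (fun _ => 1)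

theorem polar_quadFormOdd (u v : ι → F) :
    QuadraticMap.polar (quadFormOdd m F) u v =
      2 * u (.inl ()) * v (.inl ()) + ∑ i : Fin m, (u (.inr (.inl i)) * v (.inr (.inr i)) + v (.inr (.inl i)) * u (.inr (.inr i))) := by
  simp only [QuadraticMap.polar, quadFormOdd, Pi.add_apply, add_mul, mul_add, Finset.sum_add_distrib]
  ring

theorem polar_quadFormOdd_single (u : ι → F) (k : ι) (a : F) :
    QuadraticMap.polar (quadFormOdd m F) u (Pi.single k a) = oddCoef m F k * a * u (oddPair m k) := by
  rw [polar_quadFormOdd]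
  rcases k with ⟨⟩ | i | i <;> simp [oddCoef, oddPair, Pi.single_apply] <;> ring

theorem quadFormOdd_single (k : ι) (a : F) :
    quadFormOdd m F (Pi.single k a) = if k = .inl () then a ^ 2 else 0 := by
  rcases k with ⟨⟩ | i | i <;> simp [quadFormOdd]

theorem quadFormOdd_nondegenerate (h2 : (2 : F) ≠ 0) : IsNondegenerateQuadraticForm (quadFormOdd m F) where
  smul c v := by
    simp only [quadFormOdd, Pi.smul_apply, smul_eq_mul, mul_add, Finset.mul_sum]
    exact congr_arg₂ _ (by ring) (Finset.sum_congr rfl fun i _ => by ring)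
  polar_bilinear :=
    { add_left := fun x y v => by
        simp only [polar_quadFormOdd, Pi.add_apply, add_mul, mul_add, Finset.sum_add_distrib]; ring
      smul_left := fun c x v => by
        simp only [polar_quadFormOdd, Pi.smul_apply, smul_eq_mul, mul_add, Finset.mul_sum]
        exact congr_arg₂ _ (by ring) (Finset.sum_congr rfl fun i _ => by ring)
      add_right := fun v x y => by
        simp only [polar_quadFormOdd, Pi.add_apply, add_mul, mul_add, Finset.sum_add_distrib]; ring
      smul_right := fun c v x => by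
        simp only [polar_quadFormOdd, Pi.smul_apply, smul_eq_mul, mul_add, Finset.mul_sum]
        exact congr_arg₂ _ (by ring) (Finset.sum_congr rfl fun i _ => by ring) }
  nondegenerate v hv := by
    obtain ⟨k, hk⟩ := Function.ne_iff.mp hv
    have h : QuadraticMap.polar (quadFormOdd m F) v (Pi.single (oddPair m k) 1) ≠ 0 := by
      rw [polar_quadFormOdd_single, oddPair_pair, mul_one]
      refine mul_ne_zero ?_ hk
      rcases oddPair m k with ⟨⟩ | i <;> simp [oddCoef, h2]
    exact ⟨⟨_, by rw [QuadraticMap.polar_comm]; exact h⟩, _, h⟩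

theorem gram_quadFormOdd_mem (F₁ : Subfield F) (i j : ι) :
    gramMatrix (QuadraticMap.polar (quadFormOdd m F)) i j ∈ F₁ := by
  have h : ∀ a b : ι, (Pi.single a (1 : F) : ι → F) b ∈ F₁ := fun a b => by
    rw [Pi.single_apply]; split_ifs
    exacts [one_mem _, zero_mem _]
  change QuadraticMap.polar _ _ _ ∈ F₁
  rw [polar_quadFormOdd_single, mul_one]
  refine mul_mem ?_ (h _ _)
  rcases j with ⟨⟩ | j
  · simp only [oddCoef, Sum.elim_inl]
    exact one_add_one_eq_two (R := F) ▸ add_mem (one_mem F₁) (one_mem F₁)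
  · simpa [oddCoef] using one_mem F₁

/-- The Eichler element on coordinate vectors lies in Ω. -/
theorem exists_eichler_coord (h2 : (2 : F) ≠ 0) {k l : ι} (hk : k ≠ .inl ()) (hlk : l ≠ k)
    (hlk' : l ≠ oddPair m k) (t : F) :
    ∃ g ∈ omegaGL (quadFormOdd m F), ∀ x : ι → F,
      (g : Matrix ι ι F) *ᵥ x = x + Pi.single l (x (oddPair m k) * t) -
        Pi.single k (oddCoef m F l * t * x (oddPair m l) + quadFormOdd m F (Pi.single l t) * x (oddPair m k)) := by
  classical
  obtain ⟨i, rfl⟩ : ∃ i, k = .inr i := by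
    rcases k with ⟨⟩ | i
    · exact absurd rfl hk
    · exact ⟨i, rfl⟩
  set k : ι := .inr i with hk'
  have hQ := quadFormOdd_nondegenerate (m := m) h2
  let D : ι → F := fun s => if s = k ∨ s = oddPair m k then -1 else 1
  have hD : ∀ s, D s * D s = 1 := fun s => by simp only [D]; split_ifs <;> ring
  have hd : (Matrix.diagonal D).det ≠ 0 := by
    rw [Matrix.det_diagonal, Finset.prod_ne_zero_iff]
    exact fun s _ h => by simpa [h] using hD s
  set d : GL ι F := Matrix.GeneralLinearGroup.mkOfDetNeZero (Matrix.diagonal D) hd with hdd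
  have hdv : ∀ (x : ι → F) s, ((d : Matrix ι ι F) *ᵥ x) s = D s * x s := fun x s => by
    change (Matrix.diagonal D *ᵥ x) s = _
    rw [Matrix.mulVec_diagonal]
  have hDD : ∀ j : Fin m, D (.inr (.inl j)) = D (.inr (.inr j)) := fun j => by
    rcases i with i | i <;> simp [D, k, oddPair] <;> congr 1
  have hD0 : D (.inl ()) = 1 := by
    rcases i with i | i <;> simp [D, k, oddPair]
  have hdI : d ∈ isometryGroup F (quadFormOdd m F) := mem_isometryGroup_iff.mpr fun x => by
    simp only [quadFormOdd, hdv, hD0, one_mul]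
    refine congr_arg₂ _ rfl (Finset.sum_congr rfl fun j _ => ?_)
    have := hD (.inr (.inr j))
    rw [hDD j]
    linear_combination (x (.inr (.inl j)) * x (.inr (.inr j))) * this
  have hsing : ∀ (s : ι) (a : F), (d : Matrix ι ι F) *ᵥ Pi.single s a = D s • Pi.single s a := fun s a => by
    funext r
    rw [hdv, Pi.smul_apply, smul_eq_mul]
    by_cases h : r = s
    · subst h; rfl
    · simp [h]
  have huw : QuadraticMap.polar (quadFormOdd m F) (Pi.single k 1) (Pi.single l t) = 0 := by
    rw [polar_quadFormOdd_single, Pi.single_eq_of_ne (fun e => hlk' (by rw [← e, oddPair_pair])), mul_zero]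
  have hu : quadFormOdd m F (Pi.single k 1) = 0 := by rw [quadFormOdd_single, if_neg hk]
  have hab : D k * D l ≠ 1 := by
    have h1 : D k = -1 := by simp [D]
    have h2' : D l = 1 := by simp [D, hlk, hlk']
    rw [h1, h2', mul_one]
    intro h
    exact h2 (by linear_combination -h)
  obtain ⟨g, hg, hgm⟩ := eichler_mem_omega hQ hu huw hdI (hsing k 1) (hsing l t) hab
  refine ⟨g, hg, fun x => ?_⟩
  rw [hgm, eichler, polar_quadFormOdd_single, polar_quadFormOdd_single, show oddCoef m F k = 1 from rfl,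
    one_mul, one_mul, ← Pi.single_smul', ← Pi.single_smul', smul_eq_mul, smul_eq_mul, mul_one]

theorem exists_third (hm : 3 ≤ m) (a b : Fin m) : ∃ c : Fin m, c ≠ a ∧ c ≠ b := by
  classical
  obtain ⟨c, -, hc⟩ := Finset.exists_mem_notMem_of_card_lt_card (s := ({a, b} : Finset (Fin m)))
    (t := Finset.univ) (by rw [Finset.card_univ, Fintype.card_fin]; exact lt_of_le_of_lt Finset.card_le_two (by omega))
  exact ⟨c, fun e => hc (by simp [e]), fun e => hc (by simp [e])⟩

/-- Ω acts irreducibly. -/
theorem omega_odd_irreducible (h2 : (2 : F) ≠ 0) (hm : 3 ≤ m) :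
    ActsIrreducibly (matrixSet (omegaGL (quadFormOdd m F))) := by
  classical
  intro W hW
  refine or_iff_not_imp_left.mpr fun hW0 => ?_
  have hin : ∀ {k l : ι}, k ≠ .inl () → l ≠ k → l ≠ oddPair m k → ∀ x ∈ W,
      Pi.single l (x (oddPair m k)) -
        Pi.single k (oddCoef m F l * x (oddPair m l) + quadFormOdd m F (Pi.single l 1) * x (oddPair m k)) ∈ W := by
    intro k l h1 h3 h4 x hx
    obtain ⟨g, hg, hgm⟩ := exists_eichler_coord (F := F) h2 h1 h3 h4 1
    have h := W.sub_mem (map_toLin'_le.mp (hW _ (coe_mem_matrixSet hg)) x hx) hx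
    rw [hgm] at h
    simpa [add_sub_assoc] using h
  have hscale : ∀ {s : ι} {a : F}, a ≠ 0 → Pi.single s a ∈ W → Pi.single s (1 : F) ∈ W := by
    intro s a ha h
    have := W.smul_mem a⁻¹ h
    rwa [← Pi.single_smul', smul_eq_mul, inv_mul_cancel₀ ha] at this
  let idx : Fin m ⊕ Fin m → Fin m := Sum.elim id id
  have hsep : ∀ {i j : Fin m ⊕ Fin m}, idx i ≠ idx j →
      (Sum.inr i : ι) ≠ .inr j ∧ (Sum.inr i : ι) ≠ oddPair m (.inr j) := by
    intro i j h
    constructor <;> intro e <;> apply h
    · rw [Sum.inr_injective e]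
    · rcases j with j | j <;> simp only [oddPair, Sum.map_inr, Sum.swap, Sum.elim_inl, Sum.elim_inr, Sum.inr.injEq] at e <;>
        subst e <;> rfl
  -- a coordinate vector
  obtain ⟨j, hj⟩ : ∃ j : Fin m ⊕ Fin m, (Pi.single (.inr j) (1 : F) : ι → F) ∈ W := by
    obtain ⟨v, hv, hv0⟩ := Submodule.exists_mem_ne_zero_of_ne_bot hW0
    by_cases hall : ∀ i : Fin m ⊕ Fin m, v (.inr i) = 0
    · have hv1 : v (.inl ()) ≠ 0 := fun e => hv0 (funext fun s => by rcases s with ⟨⟩ | i; exacts [e, hall i])
      have h := hin (k := .inr (.inl ⟨0, by omega⟩)) (l := .inl ()) (by simp) (by simp) (by simp [oddPair]) v hv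
      simp only [oddPair, Sum.map_inr, Sum.swap, Sum.map_inl, id_eq, Sum.elim_inl, hall, mul_zero, add_zero,
        Pi.single_zero, zero_sub, neg_mem_iff, oddCoef] at h
      exact ⟨_, hscale (mul_ne_zero h2 hv1) h⟩
    push Not at hall
    obtain ⟨i, hi⟩ := hall
    -- `k` is the partner of `i`
    obtain ⟨c, hc, -⟩ := exists_third hm (idx i) (idx i)
    obtain ⟨d, hd1, hd2⟩ := exists_third hm (idx i) c
    obtain ⟨k, hk, hki⟩ : ∃ k : Fin m ⊕ Fin m, oddPair m (.inr k) = .inr i ∧ idx k = idx i :=
      ⟨i.swap, by simp [oddPair], by rcases i with i | i <;> rfl⟩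
    obtain ⟨e1, e2⟩ := hsep (i := Sum.inl c) (j := k) (by rw [hki]; exact hc)
    have h := hin (k := .inr k) (l := .inr (.inl c)) (by simp) e1 e2 v hv
    rw [hk, quadFormOdd_single, if_neg (by simp), zero_mul, add_zero] at h
    set b := oddCoef m F (.inr (.inl c)) * v (oddPair m (.inr (.inl c)))
    have h' := hin (k := .inr (.inr c)) (l := .inr (.inl d)) (by simp)
      (hsep (i := Sum.inl d) (j := Sum.inr c) hd2).1 (hsep (i := Sum.inl d) (j := Sum.inr c) hd2).2 _ h
    have hkd : k ≠ Sum.inr d := fun e => hd1 (by rw [← hki, e]; rfl)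
    have hkc : k ≠ Sum.inl c := fun e => hc (by rw [← hki, e]; rfl)
    rw [quadFormOdd_single, if_neg (by simp), zero_mul, add_zero] at h'
    simp [oddPair, oddCoef, Pi.single_apply, hkd.symm, hkc.symm, Ne.symm hd2] at h'
    exact ⟨_, hscale hi (by simpa [Pi.single_apply, eq_comm] using h')⟩
  -- spreading
  have spread : ∀ {j l : Fin m ⊕ Fin m}, idx l ≠ idx j → Pi.single (.inr j) (1 : F) ∈ W →
      Pi.single (.inr l) (1 : F) ∈ W := by
    intro j l hlj hj
    have hjs : idx l ≠ idx j.swap := by rcases j with j | j <;> exact hlj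
    obtain ⟨h1, h3⟩ := hsep hjs
    have h := hin (k := .inr j.swap) (l := .inr l) (by simp) h1 h3 _ hj
    have hp : oddPair m (.inr j.swap) = .inr j := by simp [oddPair]
    have hp2 : oddPair m (.inr l) ≠ .inr j := fun e => by
      apply (hsep hlj).2
      rw [← e, oddPair_pair]
    rw [hp, quadFormOdd_single, if_neg (by simp), zero_mul, add_zero, Pi.single_eq_of_ne hp2, mul_zero,
      Pi.single_zero, sub_zero, Pi.single_eq_same] at h
    exact h
  have hall : ∀ i : Fin m ⊕ Fin m, Pi.single (.inr i) (1 : F) ∈ W := by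
    intro i
    obtain ⟨c, hc1, hc2⟩ := exists_third hm (idx j) (idx i)
    exact spread (j := Sum.inl c) (Ne.symm hc2) (spread (l := Sum.inl c) hc1 hj)
  rw [eq_top_iff]
  intro v _
  rw [pi_eq_sum_univ' v]
  refine W.sum_mem fun s _ => W.smul_mem _ ?_
  rcases s with ⟨⟩ | i
  · let a : Fin m := ⟨0, by omega⟩
    have h := hin (k := .inr (.inl a)) (l := .inl ()) (by simp) (by simp) (by simp [oddPair]) _ (hall (.inr a))
    have hp : oddPair m (Sum.inl ()) = Sum.inl () := rfl
    simp only [show oddPair m (.inr (.inl a)) = .inr (.inr a) from rfl, hp, Pi.single_eq_same,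
      Pi.single_eq_of_ne (show (Sum.inl () : ι) ≠ .inr (.inr a) by simp), mul_zero, zero_add] at h
    have h' := W.add_mem h (W.smul_mem (quadFormOdd m F (Pi.single (.inl ()) 1) * 1) (hall (.inl a)))
    rwa [← Pi.single_smul', smul_eq_mul, mul_one, mul_one, sub_add_cancel] at h'
  · exact hall i

/-- A one parameter family `1 + t N` with `N² = 0` in Ω. -/
theorem omega_odd_unipotent (h2 : (2 : F) ≠ 0) (hm : 3 ≤ m) :
    ∃ N : Matrix ι ι F, N ≠ 0 ∧ N * N = 0 ∧ (∀ (F₁ : Subfield F) a b, N a b ∈ F₁) ∧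
      ∀ t : F, ∃ g ∈ omegaGL (quadFormOdd m F), (g : Matrix ι ι F) = 1 + t • N := by
  classical
  let a : Fin m := ⟨0, by omega⟩
  let b : Fin m := ⟨1, by omega⟩
  have hab : a ≠ b := by simp [a, b]
  let N : Matrix ι ι F := Matrix.single (.inr (.inl b)) (.inr (.inr a)) 1 - Matrix.single (.inr (.inl a)) (.inr (.inr b)) 1
  refine ⟨N, fun e => ?_, ?_, fun F₁ i j => ?_, fun t => ?_⟩
  · simpa [N, hab, Ne.symm hab, Matrix.single_apply] using congrFun (congrFun e (.inr (.inl b))) (.inr (.inr a))
  · simp [N, mul_sub, sub_mul]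
  · simp only [N, Matrix.sub_apply, Matrix.single_apply]
    split_ifs <;> simp [sub_mem, one_mem, zero_mem]
  obtain ⟨g, hg, hgm⟩ := exists_eichler_coord (F := F) h2 (k := .inr (.inl a)) (l := .inr (.inl b)) (by simp)
    (by simpa using Ne.symm hab) (by simp [oddPair]) t
  refine ⟨g, hg, Matrix.toLin'.injective (LinearMap.ext fun x => ?_)⟩
  rw [Matrix.toLin'_apply, Matrix.toLin'_apply, hgm, quadFormOdd_single, if_neg (by simp), zero_mul, add_zero,
    Matrix.add_mulVec, Matrix.one_mulVec, Matrix.smul_mulVec, Matrix.sub_mulVec, Matrix.single_mulVec, Matrix.single_mulVec]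
  funext s
  simp [oddPair, oddCoef, Pi.single_apply, Function.update_apply]
  split_ifs <;> ring

end Cfsg.Agent.Classical
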