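/-
Members of the geometric classes of an odd-dimensional orthogonal group containing a given irreducible subgroup.
-/
import Cfsg.Agent.Lib.Classical.FormPower
import Cfsg.Agent.Lib.Classical.FormOrthLines
import Cfsg.Agent.Lib.Classical.FormField
import Cfsg.Agent.Lib.Classical.FormReducible
import Cfsg.Agent.Lib.Classical.OrthogonalOdd
import Cfsg.Agent.Lib.Classical.LinMaximalGeneral
import Cfsg.Agent.Lib.Classical.LinAschbacher

set_option autoImplicit false
set_option linter.style.haveILetI false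
set_option linter.unusedSectionVars false

namespace Cfsg.Agent.Classical

open Matrix Cfsg.Geo
open scoped Kronecker

variable {m : ℕ} {F : Type*} [Field F] [Fintype F]

/-- `H` lies in a member of a geometric class of the orthogonal group. -/
def OMember (H : Subgroup (GL (Unit ⊕ (Fin m ⊕ Fin m)) F)) : Prop := ∃ M, InOrthogonalOddClass m F M ∧ H ≤ M

theorem card_oddIndex : Fintype.card (Unit ⊕ (Fin m ⊕ Fin m)) = 2 * m + 1 := by
  simp [Fintype.card_sum]; omega

theorem orth_fixes {H : Subgroup (GL (Unit ⊕ (Fin m ⊕ Fin m)) F)} (hI : H ≤ isometryGroup F (quadFormOdd m F)) :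
    FixesForm (matrixSet H) (QuadraticMap.polar (quadFormOdd m F)) :=
  quad_fixes_polar (by rintro _ ⟨g, hg, rfl⟩ v; exact mem_isometryGroup_iff.mp (hI hg) v)

variable {H : Subgroup (GL (Unit ⊕ (Fin m ⊕ Fin m)) F)} (h2 : (2 : F) ≠ 0) (hI : H ≤ isometryGroup F (quadFormOdd m F))

include h2 hI

theorem oMember_of_reducible (hred : ¬ ActsIrreducibly (matrixSet H)) : OMember H := by
  have hQ := quadFormOdd_nondegenerate (m := m) h2
  have hf := reflexForm_of_quadratic hQ
  rcases hf.reducible_cases (orth_fixes hI) hred with ⟨W, h0, hts, h⟩ | ⟨W, h0, hnd, hlt, h⟩ | ⟨k, D, hk, -, -⟩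
  · refine ⟨_, Or.inl ⟨W, h0, fun w hw => ?_, rfl⟩, le_inf h hI⟩
    have := hts w hw w hw
    rw [polar_self_eq hQ] at this
    exact (mul_eq_zero.mp this).resolve_left h2
  · refine ⟨_, Or.inr (Or.inl ⟨W, h0, fun e => ?_, hnd, rfl⟩), le_inf h hI⟩
    rw [e, finrank_top, Module.finrank_fintype_fun_eq_card] at hlt
    omega
  · rw [card_oddIndex] at hk
    omega

/-- An irreducible group preserving an orthogonal decomposition lies in a member. -/
theorem oMember_of_decomposition (hm : 0 < m) (hirr : ActsIrreducibly (matrixSet H)) {t k : ℕ}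
    {D : Fin t → Submodule F ((Unit ⊕ (Fin m ⊕ Fin m)) → F)} (hD : IsNondegenerateMDecomposition (QuadraticMap.polar (quadFormOdd m F)) k D)
    (hle : H ≤ decompositionStabilizer D) : OMember H := by
  classical
  have hQ := quadFormOdd_nondegenerate (m := m) h2
  have hiso := orth_isometric hQ hirr hI hD hle
  rcases eq_or_lt_of_le (Nat.succ_le_iff.mpr hD.decomp.pos) with hk1 | hk1
  swap
  · exact ⟨_, Or.inr (Or.inr (Or.inl ⟨t, k, D, hk1, hiso, rfl⟩)), le_inf hle hI⟩
  obtain rfl : k = 1 := hk1.symm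
  have ht : t = Fintype.card (Unit ⊕ (Fin m ⊕ Fin m)) := by simpa using IsMDecomposition.card_eq hD.decomp
  subst ht
  let s₀ : Fin (Fintype.card (Unit ⊕ (Fin m ⊕ Fin m))) := ⟨0, Fintype.card_pos⟩
  choose g hg hgs using fun s => exists_member_transporter hirr hD.decomp hle s₀ s
  obtain ⟨w, hw, hw0⟩ := Submodule.exists_mem_ne_zero_of_ne_bot (p := D s₀) fun e => by
    have := hD.decomp.finrank_eq s₀
    rw [e, finrank_bot] at this
    exact zero_ne_one this
  let u : Fin (Fintype.card (Unit ⊕ (Fin m ⊕ Fin m))) → (Unit ⊕ (Fin m ⊕ Fin m)) → F := fun s => (g s : Matrix (Unit ⊕ (Fin m ⊕ Fin m)) (Unit ⊕ (Fin m ⊕ Fin m)) F) *ᵥ w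
  have hu : ∀ s, u s ∈ D s := fun s => hgs s ▸ Submodule.mem_map_of_mem (f := Matrix.toLin' (g s : Matrix (Unit ⊕ (Fin m ⊕ Fin m)) (Unit ⊕ (Fin m ⊕ Fin m)) F)) hw
  have hu0 : ∀ s, u s ≠ 0 := fun s h => hw0 (gl_mulVec_injective (g s) (by simpa [u] using h))
  have hQu : ∀ s, quadFormOdd m F (u s) = quadFormOdd m F w := fun s => mem_isometryGroup_iff.mp (hI (hg s)) w
  have hspan : ∀ s x, x ∈ D s → ∃ a : F, x = a • u s := fun s x hx => by
    obtain ⟨a, ha⟩ := exists_smul_eq_of_finrank_eq_one (hD.decomp.finrank_eq s) (x := (⟨u s, hu s⟩ : D s))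
      (fun e => hu0 s (congrArg Subtype.val e)) ⟨x, hx⟩
    exact ⟨a, (congrArg Subtype.val ha).symm⟩
  have hwQ : quadFormOdd m F w ≠ 0 := fun e => by
    obtain ⟨⟨x, hx, hne⟩, -⟩ := hD.nondegenerate s₀ w hw hw0
    obtain ⟨a, rfl⟩ := hspan s₀ x hx
    obtain ⟨b, hb⟩ := hspan s₀ w hw
    rw [hb, hQ.polar_bilinear.smul_left, hQ.polar_bilinear.smul_right, polar_self_eq hQ, hQu, e] at hne
    simp at hne
  let en := Fintype.equivFin (Unit ⊕ (Fin m ⊕ Fin m))
  have hQQ := hQ
  rcases orth_lines hQ h2 (by rw [card_oddIndex]; exact ⟨m, rfl⟩) (by rw [card_oddIndex]; omega)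
      (gram_quadFormOdd_mem (m := m)) (fun i => u (en i)) (c := 2 * quadFormOdd m F w) (mul_ne_zero h2 hwQ)
      (fun i j => by
        split_ifs with h
        · rw [h, polar_self_eq hQ, hQu]
        · exact hD.orthogonal _ _ (fun e => h (en.injective e)) _ (hu _) _ (hu _))
      (fun h hh i => by
        obtain ⟨π, hπ⟩ := hle hh
        have hmem : (h : Matrix (Unit ⊕ (Fin m ⊕ Fin m)) (Unit ⊕ (Fin m ⊕ Fin m)) F) *ᵥ u (en i) ∈ D (π (en i)) := by
          rw [← hπ]
          exact Submodule.mem_map_of_mem (f := Matrix.toLin' (h : Matrix (Unit ⊕ (Fin m ⊕ Fin m)) (Unit ⊕ (Fin m ⊕ Fin m)) F)) (hu _)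
        obtain ⟨a, ha⟩ := hspan _ _ hmem
        refine ⟨en.symm (π (en i)), a, ?_, by rw [Equiv.apply_symm_apply]; exact ha⟩
        have e := mem_isometryGroup_iff.mp (hI hh) (u (en i))
        rw [ha, hQ.smul, hQu, hQu] at e
        have : (a * a - 1) * quadFormOdd m F w = 0 := by linear_combination e
        exact mul_self_eq_one_iff.mp (sub_eq_zero.mp ((mul_eq_zero.mp this).resolve_right hwQ))) with
    ⟨hp, t, D', hD', h⟩ | ⟨F₁, r, P, hr, hc, hrat, h⟩
  · exact ⟨_, Or.inr (Or.inr (Or.inr (Or.inl ⟨t, D', hp, hD', rfl⟩))), le_inf h hI⟩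
  · exact ⟨_, Or.inr (Or.inr (Or.inr (Or.inr (Or.inr (Or.inr (Or.inl ⟨F₁, r, P, hr, hc, hrat, rfl⟩)))))), le_inf h hI⟩

/-- An irreducible group normalising a non-scalar commutative adjoint-closed algebra lies in a member,
or normalises a self-adjoint field of full degree inside it. -/
theorem oMember_of_algebra (hm : 0 < m) (hirr : ActsIrreducibly (matrixSet H))
    {Z : Subalgebra F (Matrix (Unit ⊕ (Fin m ⊕ Fin m)) (Unit ⊕ (Fin m ⊕ Fin m)) F)} (hZ : ∀ x ∈ Z, ∀ y ∈ Z, x * y = y * x)
    (hn : H ≤ subalgebraNormalizer Z)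
    (hZadj : ∀ z ∈ Z, formAdj (RingEquiv.refl F) (QuadraticMap.polar (quadFormOdd m F)) z ∈ Z)
    (hns : ∃ z ∈ Z, ∀ c : F, z ≠ c • (1 : Matrix (Unit ⊕ (Fin m ⊕ Fin m)) (Unit ⊕ (Fin m ⊕ Fin m)) F)) :
    OMember H ∨ ∃ K : Subalgebra F (Matrix (Unit ⊕ (Fin m ⊕ Fin m)) (Unit ⊕ (Fin m ⊕ Fin m)) F), IsFieldSubalgebra (Fintype.card (Unit ⊕ (Fin m ⊕ Fin m))) K ∧ K ≤ Z ∧
      ∀ k ∈ K, formAdj (RingEquiv.refl F) (QuadraticMap.polar (quadFormOdd m F)) k = k := by
  classical
  have hQ := quadFormOdd_nondegenerate (m := m) h2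
  have hf := reflexForm_of_quadratic hQ
  set f := QuadraticMap.polar (quadFormOdd m F)
  rcases hf.comm_algebra_cases hirr (orth_fixes hI) hZ hn hZadj with hs | ⟨t, k, D, hD, h⟩ |
    ⟨k, D, hD, -⟩ | ⟨r, K, hr, hK, hKadj, h, hKZ⟩
  · obtain ⟨z, hz, hz'⟩ := hns
    obtain ⟨c, hc⟩ := hs z hz
    exact absurd hc (hz' c)
  · exact Or.inl (oMember_of_decomposition h2 hI hm hirr hD h)
  · have := IsMDecomposition.card_eq hD
    rw [card_oddIndex] at this
    omega
  · rw [hf.isAdjointClosedFor_iff] at hKadj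
    have hself : ∀ k ∈ K, formAdj (RingEquiv.refl F) f k = k := by
      intro k hk
      by_contra hne
      set τk := formAdj (RingEquiv.refl F) f k with hτ
      obtain ⟨y, -, hy⟩ := hK.inv (k - τk) (K.sub_mem hk (hKadj k hk)) (sub_ne_zero.mpr (Ne.symm hne))
      set w := k - τk with hw
      have hwf : ∀ u v, f (w *ᵥ u) v = -f (w *ᵥ v) u := fun u v => by
        have e1 : ∀ u v, f (k *ᵥ u) v = f (τk *ᵥ v) u := fun u v => by
          rw [hf.adj_spec, ← hτ]
          exact QuadraticMap.polar_comm _ _ _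
        have e2 : ∀ u v : (Unit ⊕ (Fin m ⊕ Fin m)) → F, ∀ a b, f (a - b) v = f a v - f b v := fun u v a b => by
          rw [sub_eq_add_neg, hf.semi.add_left, hf.neg_left, ← sub_eq_add_neg]
        simp only [hw, Matrix.sub_mulVec, e2 u v, e2 v u, e1 u v, e1 v u]
        ring
      let M : Matrix (Unit ⊕ (Fin m ⊕ Fin m)) (Unit ⊕ (Fin m ⊕ Fin m)) F := fun i j => f (w *ᵥ Pi.single i 1) (Pi.single j 1)
      have hM0 : M.det = 0 := det_eq_zero_of_alternating_of_odd (by rw [card_oddIndex]; exact ⟨m, rfl⟩) M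
        (fun i j => hwf _ _) (fun i => (mul_eq_zero.mp (show (2 : F) * M i i = 0 by
          linear_combination hwf (Pi.single i 1) (Pi.single i 1))).resolve_left h2)
      have hMeq : M = wᵀ * gramMatrix f := by
        ext i j
        change f (w *ᵥ Pi.single i 1) (Pi.single j 1) = _
        rw [semiForm_apply (RingEquiv.refl F) hf.semi,
          show ((RingEquiv.refl F : F ≃+* F) : F → F) ∘ Pi.single j (1 : F) = Pi.single j 1 from rfl,
          Matrix.mulVec_single_one, Matrix.mulVec_single_one]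
        simp [Matrix.mul_apply, dotProduct]
      rw [hMeq, Matrix.det_mul, Matrix.det_transpose] at hM0
      have hdy := congrArg Matrix.det hy
      rw [Matrix.det_mul, (mul_eq_zero.mp hM0).resolve_right (det_gram_ne_zero _ hf.semi hf.nondeg), zero_mul,
        Matrix.det_one] at hdy
      exact zero_ne_one hdy
    by_cases hrn : 2 * m + 1 = r
    · exact Or.inr ⟨K, by rw [card_oddIndex, hrn]; exact hK, hKZ, hself⟩
    · exact Or.inl ⟨_, Or.inr (Or.inr (Or.inr (Or.inr (Or.inl
        ⟨r, K, hr, hrn, hK, hf.isSelfAdjointFor_iff.mpr hself, rfl⟩)))), le_inf h hI⟩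

/-- A group preserving a tensor power of a symmetric form lies in a member. -/
theorem oMember_of_gram_power {k t : ℕ} (hk : Odd k) (hk3 : 3 ≤ k) (ht : 2 ≤ t)
    (e : (Unit ⊕ (Fin m ⊕ Fin m)) ≃ (Fin t → Fin k)) (P : GL (Unit ⊕ (Fin m ⊕ Fin m)) F) {c : F} {G₀ : Matrix (Fin k) (Fin k) F}
    (hG : gramCoord (RingEquiv.refl F) (QuadraticMap.polar (quadFormOdd m F)) e P = c • pureM fun _ => G₀) (hc : c ≠ 0)
    (hdet : G₀.det ≠ 0) (hs : ∀ i j, G₀ j i = G₀ i j) (hle : H ≤ tensorWreathSubgroup k t e P) : OMember H := by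
  classical
  have hQ := quadFormOdd_nondegenerate (m := m) h2
  have hf := reflexForm_of_quadratic hQ
  by_cases hex : Fintype.card F = 3 ∧ k = 3
  swap
  · exact ⟨_, Or.inr (Or.inr (Or.inr (Or.inr (Or.inr (Or.inr (Or.inr ⟨k, t, e, P, _, hk3, ht, hex,
      gram_symmetric hdet hs, tensor_power_structure P hf.semi e hc hG, rfl⟩)))))), le_inf hle hI⟩
  obtain ⟨h3, rfl⟩ := hex
  have hsq : ∀ a : F, a ≠ 0 → a * a = 1 := fun a ha => by
    have := FiniteField.pow_card_sub_one_eq_one a ha
    rw [h3] at this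
    linear_combination this
  have h30 : (3 : F) = 0 := by
    have h1 := hsq 2 h2
    linear_combination h1
  obtain ⟨c₁, A, hc₁, hA⟩ := symmetric_congr h2 hk hdet hs
  obtain ⟨P', hG', hle'⟩ := exists_power_rebase e P hG A
  change gramCoord (RingEquiv.refl F) _ e P' = c • pureM (fun _ => (A : Matrix (Fin 3) (Fin 3) F)ᵀ * G₀ * (A : Matrix (Fin 3) (Fin 3) F)) at hG'
  rw [hA, pureM_smul, pureM_one, smul_smul] at hG'
  set C := c * ∏ _i : Fin t, c₁ with hC
  have hC0 : C ≠ 0 := mul_ne_zero hc (Finset.prod_ne_zero_iff.mpr fun _ _ => hc₁)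
  have hfix := orth_fixes hI
  let v : (Unit ⊕ (Fin m ⊕ Fin m)) → (Unit ⊕ (Fin m ⊕ Fin m)) → F := fun i => (P' : Matrix (Unit ⊕ (Fin m ⊕ Fin m)) (Unit ⊕ (Fin m ⊕ Fin m)) F) *ᵥ (Pi.single (e i) (1 : F) ∘ e)
  have hgram : ∀ i j, QuadraticMap.polar (quadFormOdd m F) (v i) (v j) = if i = j then C else 0 := fun i j => by
    rw [hf.semi.coord_apply e P', hG']
    simp [Pi.single_apply, dotProduct, Matrix.smul_mulVec, Matrix.one_apply, e.injective.eq_iff, eq_comm]
  have hn3 : 2 ≤ Fintype.card (Unit ⊕ (Fin m ⊕ Fin m)) := by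
    rw [Fintype.card_congr e, Fintype.card_fun, Fintype.card_fin, Fintype.card_fin]
    calc 2 ≤ 3 ^ 1 := by norm_num
      _ ≤ 3 ^ t := Nat.pow_le_pow_right (by norm_num) (by omega)
  rcases orth_lines hQ h2 (by rw [card_oddIndex]; exact ⟨m, rfl⟩) hn3 (gram_quadFormOdd_mem (m := m)) v hC0 hgram
      (fun h hh i => by
        obtain ⟨π, M, hM, hl⟩ := power_element hf (G₀ := (1 : Matrix (Fin 3) (Fin 3) F))
          (show gramCoord (RingEquiv.refl F) _ e P' = C • pureM fun _ => 1 by rw [pureM_one]; exact hG') hC0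
          (by rw [Matrix.det_one]; exact one_ne_zero) hfix (hle.trans hle') hh
        have hrow : ∀ s b, ∃ a, (M s : Matrix (Fin 3) (Fin 3) F) a b ≠ 0 ∧
            ∀ a', a' ≠ a → (M s : Matrix (Fin 3) (Fin 3) F) a' b = 0 := by
          intro s b
          obtain ⟨l, hl0, hl⟩ := hl s
          set X := (M s : Matrix (Fin 3) (Fin 3) F)
          change Xᵀ * 1 * X = l • 1 at hl
          rw [Matrix.mul_one] at hl
          have hd : X.det ≠ 0 := ((Matrix.isUnit_iff_isUnit_det _).mp (M s).isUnit).ne_zero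
          have hl1 : l = 1 := by
            have e1 := congrArg Matrix.det hl
            rw [Matrix.det_mul, Matrix.det_transpose, Matrix.det_smul, Matrix.det_one, mul_one, Fintype.card_fin] at e1
            have := hsq _ hd
            have := hsq l hl0
            linear_combination (-1 : F) * e1 + (hsq _ hd) - l * this
          have hb := congrFun (congrFun hl b) b
          rw [hl1, one_smul, Matrix.one_apply_eq, Matrix.mul_apply, Fin.sum_univ_three] at hb
          simp only [Matrix.transpose_apply] at hb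
          have hv : ∀ a, X a b * X a b = if X a b = 0 then 0 else 1 := fun a => by
            split_ifs with h'
            · rw [h', mul_zero]
            · exact hsq _ h'
          simp only [hv] at hb
          by_cases h0 : X 0 b = 0 <;> by_cases h1 : X 1 b = 0 <;> by_cases h2' : X 2 b = 0 <;>
            simp only [h0, h1, h2', if_true, if_false, add_zero, zero_add] at hb
          · exact absurd hb zero_ne_one
          · exact ⟨2, h2', fun a ha => by fin_cases a <;> first | assumption | exact absurd rfl ha⟩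
          · exact ⟨1, h1, fun a ha => by fin_cases a <;> first | assumption | exact absurd rfl ha⟩
          · exact absurd (show (1 : F) = 0 by linear_combination hb) one_ne_zero
          · exact ⟨0, h0, fun a ha => by fin_cases a <;> first | assumption | exact absurd rfl ha⟩
          · exact absurd (show (1 : F) = 0 by linear_combination hb) one_ne_zero
          · exact absurd (show (1 : F) = 0 by linear_combination hb) one_ne_zero
          · exact absurd (show (1 : F) = 0 by linear_combination h30 - hb) one_ne_zero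
        choose a ha0 ha using fun s => hrow s (e i s)
        set x : Fin t → Fin 3 := fun s => a (π.symm s)
        set s' := ∏ s, (M s : Matrix (Fin 3) (Fin 3) F) (a s) (e i s) with hs'
        refine ⟨e.symm x, s', mul_self_eq_one_iff.mp (hsq _ (Finset.prod_ne_zero_iff.mpr fun s _ => ha0 s)), ?_⟩
        refine vecCoord_injective e P' ?_
        have hvc : ∀ i', vecCoord e P' (v i') = Pi.single (e i') 1 := fun i' => by
          rw [vecCoord, gl_inv_mulVec_cancel]
          funext y; simp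
        rw [vecCoord_mulVec, hvc, show vecCoord e P' (s' • v (e.symm x)) = s' • Pi.single x 1 by
          funext y
          have := congrFun (hvc (e.symm x)) y
          rw [Equiv.apply_symm_apply] at this
          rw [Pi.smul_apply, ← this]
          simp [vecCoord, Matrix.mulVec_smul]]
        rw [hM, Matrix.mulVec_single_one]
        funext y
        rw [Matrix.col_apply, factorPermM_mul_apply, Pi.smul_apply, Pi.single_apply, smul_eq_mul, mul_ite, mul_one, mul_zero]
        simp only [pureM, Matrix.of_apply, Function.comp_apply]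
        split_ifs with hy
        · subst hy
          exact Finset.prod_congr rfl fun s _ => by simp [x]
        · obtain ⟨s, hs⟩ := Function.ne_iff.mp hy
          refine Finset.prod_eq_zero (Finset.mem_univ (π.symm s)) (ha _ _ ?_)
          rw [Equiv.apply_symm_apply]
          exact hs) with ⟨hp, t', D', hD', h⟩ | ⟨F₁, r, P₁, hr, hcF, hrat, h⟩
  · exact ⟨_, Or.inr (Or.inr (Or.inr (Or.inl ⟨t', D', hp, hD', rfl⟩))), le_inf h hI⟩
  · exact ⟨_, Or.inr (Or.inr (Or.inr (Or.inr (Or.inr (Or.inr (Or.inl ⟨F₁, r, P₁, hr, hcF, hrat, rfl⟩)))))), le_inf h hI⟩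

theorem odd_factor {d k : ℕ} (e : (Unit ⊕ (Fin m ⊕ Fin m)) ≃ Fin d × Fin k) : Odd d ∧ Odd k := by
  have h := Fintype.card_congr e
  rw [card_oddIndex, Fintype.card_prod, Fintype.card_fin, Fintype.card_fin] at h
  exact Nat.odd_mul.mp ⟨m, h.symm⟩

/-- An irreducible group preserving a tensor decomposition lies in a member. -/
theorem oMember_of_tensor {d k : ℕ} (hd : 2 ≤ d) (hk : 2 ≤ k) (e : (Unit ⊕ (Fin m ⊕ Fin m)) ≃ Fin d × Fin k) (P : GL (Unit ⊕ (Fin m ⊕ Fin m)) F)
    {G₁ : Matrix (Fin d) (Fin d) F} {G₂ : Matrix (Fin k) (Fin k) F} {l : F}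
    (hT : TensorGram (RingEquiv.refl F) 1 (QuadraticMap.polar (quadFormOdd m F)) e P G₁ G₂ l)
    (hkr : ∀ g ∈ H, ∃ (a : GL (Fin d) F) (b : GL (Fin k) F),
      matCoord e P (g : Matrix (Unit ⊕ (Fin m ⊕ Fin m)) (Unit ⊕ (Fin m ⊕ Fin m)) F) = (a : Matrix (Fin d) (Fin d) F) ⊗ₖ (b : Matrix (Fin k) (Fin k) F)) : OMember H := by
  classical
  have hQ := quadFormOdd_nondegenerate (m := m) h2
  have hf := reflexForm_of_quadratic hQ
  obtain ⟨hdo, hko⟩ := odd_factor h2 hI e
  have hl : l = 1 := by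
    rcases mul_self_eq_one_iff.mp (hT.norm : l * l = 1) with h | h
    · exact h
    · exfalso
      refine hT.det_left (det_eq_zero_of_alternating_of_odd (by rw [Fintype.card_fin]; exact hdo) G₁
        (fun i j => by simpa [h] using hT.swap_left i j) fun i => ?_)
      have := hT.swap_left i i
      rw [h] at this
      exact (mul_eq_zero.mp (show (2 : F) * G₁ i i = 0 by simp at this; linear_combination this)).resolve_left h2
  have hs₁ : ∀ i j, G₁ j i = G₁ i j := fun i j => by simpa [hl] using hT.swap_left i j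
  have hs₂ : ∀ i j, G₂ j i = G₂ i j := fun i j => by simpa [hl] using hT.swap_right i j
  have hd3 : 3 ≤ d := by obtain ⟨r, rfl⟩ := hdo; omega
  have hk3 : 3 ≤ k := by obtain ⟨r, rfl⟩ := hko; omega
  rcases lt_trichotomy d k with hlt | rfl | hgt
  · exact ⟨_, Or.inr (Or.inr (Or.inr (Or.inr (Or.inr (Or.inl ⟨d, k, e, P, _, _, hd3, hlt,
      gram_symmetric hT.det_left hs₁, gram_symmetric hT.det_right hs₂,
      tensor_structure P hf.semi e one_ne_zero (by rw [one_smul]; exact hT.gram), rfl⟩))))),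
      le_inf (le_tensor_of_kronecker e P hkr) hI⟩
  · obtain ⟨c₁, A₁, hc₁, hA₁⟩ := symmetric_congr h2 hdo hT.det_left hs₁
    obtain ⟨c₂, A₂, hc₂, hA₂⟩ := symmetric_congr h2 hdo hT.det_right hs₂
    obtain ⟨P', hP', hkr'⟩ := exists_tensor_rebase e P (c := (1 : F)) (by rw [one_smul]; exact hT.gram) A₁ A₂ hkr
    change gramCoord (RingEquiv.refl F) _ e P' = (1 : F) •
      (((A₁ : Matrix (Fin d) (Fin d) F)ᵀ * G₁ * (A₁ : Matrix (Fin d) (Fin d) F)) ⊗ₖ
        ((A₂ : Matrix (Fin d) (Fin d) F)ᵀ * G₂ * (A₂ : Matrix (Fin d) (Fin d) F))) at hP'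
    rw [hA₁, hA₂, one_smul, Matrix.smul_kronecker, Matrix.kronecker_smul, Matrix.one_kronecker_one, smul_smul] at hP'
    refine oMember_of_gram_power h2 hI hdo hd3 le_rfl (e.trans (finTwoArrowEquiv (Fin d)).symm) P' (c := c₁ * c₂)
      (G₀ := 1) ?_ (mul_ne_zero hc₁ hc₂) (by rw [Matrix.det_one]; exact one_ne_zero)
      (fun i j => by simp [Matrix.one_apply, eq_comm]) (le_wreath_of_square e P' hkr')
    rw [gramCoord_trans, hP', pureM_one]
    ext x y
    simp [Matrix.one_apply, funext_iff, Fin.forall_fin_two]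
  · have hT' := hT.prodComm (by simp) (fun _ => rfl)
    exact ⟨_, Or.inr (Or.inr (Or.inr (Or.inr (Or.inr (Or.inl ⟨k, d, e.trans (Equiv.prodComm _ _), P, _, _, hk3, hgt,
      gram_symmetric hT'.det_left hs₂, gram_symmetric hT'.det_right hs₁,
      tensor_structure P hf.semi _ one_ne_zero (by rw [one_smul]; exact hT'.gram), rfl⟩))))),
      le_inf (le_tensor_of_kronecker_swap e P hkr) hI⟩

/-- A group permuting the factors of a tensor power lies in a member. -/
theorem oMember_of_power {k t : ℕ} (hk : 2 ≤ k) (ht : 2 ≤ t) (e : (Unit ⊕ (Fin m ⊕ Fin m)) ≃ (Fin t → Fin k)) (B : GL (Unit ⊕ (Fin m ⊕ Fin m)) F)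
    (hle : H ≤ tensorWreathSubgroup k t e B) {P : Subgroup (GL (Unit ⊕ (Fin m ⊕ Fin m)) F)} (hPH : P ≤ H) (hW : WreathFactors H P e B) :
    OMember H := by
  classical
  have hQ := quadFormOdd_nondegenerate (m := m) h2
  have hf := reflexForm_of_quadratic hQ
  obtain ⟨c, G₀, l, hG⟩ := hf.power_gram hk ht e B hPH (orth_fixes hI) hW
  have hko : Odd k := by
    have h := Fintype.card_congr e
    rw [card_oddIndex, Fintype.card_fun, Fintype.card_fin, Fintype.card_fin] at h
    exact (Nat.odd_pow_iff (by omega : t ≠ 0)).mp ⟨m, h.symm⟩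
  have hl : l = 1 := by
    rcases mul_self_eq_one_iff.mp (hG.norm : l * l = 1) with h | h
    · exact h
    · exfalso
      refine hG.det_ne_zero (det_eq_zero_of_alternating_of_odd (by rw [Fintype.card_fin]; exact hko) G₀
        (fun i j => by simpa [h] using hG.swap i j) fun i => ?_)
      have := hG.swap i i
      rw [h] at this
      exact (mul_eq_zero.mp (show (2 : F) * G₀ i i = 0 by simp at this; linear_combination this)).resolve_left h2
  exact oMember_of_gram_power h2 hI hko (by obtain ⟨r, rfl⟩ := hko; omega) ht e B hG.gram hG.ne_zero hG.det_ne_zero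
    (fun i j => by simpa [hl] using hG.swap i j) hle

end Cfsg.Agent.Classical
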