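/-
Subgroup structure of the odd-dimensional orthogonal groups.
-/
import Cfsg.Agent.Lib.Classical.FormAschbacher
import Cfsg.Agent.Lib.Classical.FormOrthMember
import Cfsg.Agent.Lib.Classical.FormOtherForms

set_option autoImplicit false
set_option linter.style.haveILetI false
set_option linter.unusedSectionVars false

namespace Cfsg.Agent.Classical

open Matrix Cfsg.Geo
open scoped commutatorElement

variable {m : ℕ} {F : Type*} [Field F] [Fintype F]

/-- Every subgroup of an odd-dimensional orthogonal group lies in a member or is residual. -/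
theorem orth_structure (h2 : (2 : F) ≠ 0) (hm : 1 ≤ m) {H : Subgroup (GL (Unit ⊕ (Fin m ⊕ Fin m)) F)}
    (hI : H ≤ isometryGroup F (quadFormOdd m F)) : OMember H ∨ InOrthogonalResidualClass H := by
  classical
  have hn : 2 ≤ Fintype.card (Unit ⊕ (Fin m ⊕ Fin m)) := by rw [card_oddIndex]; omega
  have hodd : Odd (Fintype.card (Unit ⊕ (Fin m ⊕ Fin m))) := by rw [card_oddIndex]; exact ⟨m, rfl⟩
  have hQ := quadFormOdd_nondegenerate (m := m) h2
  have hf := reflexForm_of_quadratic hQ
  have hfix := orth_fixes hI
  set f := QuadraticMap.polar (quadFormOdd m F)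
  rcases form_aschbacher hn hf hfix (OMember H)
      (oMember_of_reducible h2 hI)
      (fun hirr M hMH hMn hMs hns => by
        rcases oMember_of_algebra h2 hI hm hirr
            (fun x hx y hy => (mem_commutantCentre.mp hx).2 y (mem_commutantCentre.mp hy).1)
            (normalizer_le_centreNormalizer hMn) (fun z hz => hf.commutantCentre_adj hfix hMH hz) hns with h | ⟨K, hK, hKZ, hKs⟩
        · exact h
        exfalso
        apply hMs
        intro x hx
        have hxK : (x : Matrix _ _ F) ∈ K := mem_field_of_commutes hK fun k hk =>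
          mem_commutant_iff.mp (mem_commutantCentre.mp (hKZ hk)).1 x hx
        have h1 := hKs _ hxK
        rw [hf.isometry_inv (hfix _ (coe_mem_matrixSet (hMH hx)))] at h1
        set X := (x : Matrix (Unit ⊕ (Fin m ⊕ Fin m)) (Unit ⊕ (Fin m ⊕ Fin m)) F)
        have hXX : X * X = 1 := by
          conv_lhs => arg 2; rw [← h1]
          exact Units.mul_inv x
        rcases fieldSubalgebra_mul_eq_zero hK (K.sub_mem hxK K.one_mem) (show (X - 1) * (X + 1) = 0 by
          rw [Matrix.sub_mul, Matrix.mul_add, hXX, Matrix.one_mul, Matrix.mul_one]; abel) with h | h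
        · exact mem_scalars_of_eq (c := 1) (by rw [one_smul]; exact sub_eq_zero.mp h)
        · exact mem_scalars_of_eq (c := -1) (by rw [neg_smul, one_smul]; exact eq_neg_of_add_eq_zero_left h))
      (fun hirr d k e P G₁ G₂ l hd hk hT hkr => oMember_of_tensor h2 hI hd hk e P hT hkr)
      (fun M hMH _ _ hne hc _ => by
        exfalso
        obtain ⟨x, hx, y, hy, hxy⟩ := hne
        apply hxy
        obtain ⟨c, hcz⟩ := (mem_scalars_iff _).mp (hc x hx y hy)
        obtain ⟨i⟩ : Nonempty (Unit ⊕ (Fin m ⊕ Fin m)) := inferInstance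
        obtain ⟨w, hw⟩ := (hf.nondeg (Pi.single i 1) (by simp)).1
        have hmem : x * y * x⁻¹ * y⁻¹ ∈ M := mul_mem (mul_mem (mul_mem hx hy) (inv_mem hx)) (inv_mem hy)
        have e := hfix _ (coe_mem_matrixSet (hMH hmem)) w (Pi.single i 1)
        rw [hcz, Matrix.smul_mulVec, Matrix.one_mulVec, Matrix.smul_mulVec, Matrix.one_mulVec, hf.semi.smul_left,
          hf.semi.smul_right, ← mul_assoc] at e
        have hc2 : (c : F) * c = 1 := (mul_eq_right₀ hw).mp e
        have hdet : Matrix.GeneralLinearGroup.det (x * y * x⁻¹ * y⁻¹) = 1 := by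
          rw [map_mul, map_mul, map_mul, map_inv, map_inv, mul_comm (Matrix.GeneralLinearGroup.det x) _]
          group
        have hd : (c : F) ^ Fintype.card (Unit ⊕ (Fin m ⊕ Fin m)) = 1 := by
          have h' := congrArg Units.val hdet
          rw [Matrix.GeneralLinearGroup.val_det_apply, hcz, Matrix.det_smul, Matrix.det_one, mul_one, Units.val_one] at h'
          exact h'
        have hc1 : (c : F) = 1 := by
          rcases mul_self_eq_one_iff.mp hc2 with h | h
          · exact h
          · rw [h, hodd.neg_one_pow] at hd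
            exact absurd (show (2 : F) = 0 by linear_combination -hd) h2
        exact commutatorElement_eq_one_iff_mul_comm.mp (Units.ext (by
          change (x * y * x⁻¹ * y⁻¹ : GL _ F).val = 1
          rw [hcz, hc1, one_smul])))
      (fun N hNH hNn hNa F₀ h0 hreal => by
        obtain ⟨F₁, r, P, hr, hc, hrat, hle⟩ := orth_subfield_case hQ h2 hodd (gram_quadFormOdd_mem (m := m))
          (hNH.trans hI) hNn hNa h0 hreal
        exact ⟨_, Or.inr (Or.inr (Or.inr (Or.inr (Or.inr (Or.inr (Or.inl ⟨F₁, r, P, hr, hc, hrat, rfl⟩)))))),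
          le_inf hle hI⟩)
      (fun hirr k t e B P hk ht hle hPH _ _ hW => oMember_of_power h2 hI hk ht e B hle hPH hW) with
    h | ⟨P, hP⟩
  · exact Or.inl h
  refine Or.inr ⟨P, hP, fun ⟨σ, g, hu, hgu⟩ => ?_⟩
  haveI : Nonempty (Unit ⊕ (Fin m ⊕ Fin m)) := inferInstance
  obtain ⟨F₀, h0, hr⟩ := realisable_of_two_forms hP.absIrred hQ.polar_bilinear hQ.nondegenerate
    (orth_fixes (hP.le.trans hI)) hu hgu
  exact hP.no_subfield F₀ h0 hr

end Cfsg.Agent.Classical
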