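/-
Eichler elements and the maximal subgroups of nine-dimensional orthogonal groups.
-/
import Cfsg.Agent.Lib.Classical.FormOrthStructure
import Cfsg.Agent.Lib.Classical.FormOrthLines
import Cfsg.Agent.Lib.Classical.FixCodim
import Cfsg.Agent.Lib.Classical.OrthogonalOdd
import Cfsg.Agent.Lib.Classical.OrthogonalPrime
import Cfsg.Agent.Lib.Classical.FormClassify
import Cfsg.Agent.Lib.Classical.DecompFamily

set_option autoImplicit false
set_option linter.style.haveILetI false
set_option linter.unusedSectionVars false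

namespace Cfsg.Agent.Classical

open Matrix Cfsg.Geo

variable {m : ℕ} {F : Type*} [Field F]

local notation "ι" => Unit ⊕ (Fin m ⊕ Fin m)

theorem eichler_coord_fixCodim {k l : ι} (t : F) {g : GL ι F}
    (hg : ∀ x : ι → F, (g : Matrix ι ι F) *ᵥ x = x + Pi.single l (x (oddPair m k) * t) -
      Pi.single k (oddCoef m F l * t * x (oddPair m l) + quadFormOdd m F (Pi.single l t) * x (oddPair m k))) :
    FixCodim 2 g :=
  ⟨LinearMap.pi ![LinearMap.proj (oddPair m k), LinearMap.proj (oddPair m l)], fun x hx => by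
    have h0 : x (oddPair m k) = 0 := by simpa using congrFun hx 0
    have h1 : x (oddPair m l) = 0 := by simpa using congrFun hx 1
    rw [hg, h0, h1, zero_mul, mul_zero, mul_zero, add_zero, Pi.single_zero, Pi.single_zero, add_zero, sub_zero]⟩

/-- A matrix commuting with the Eichler elements is a scalar. -/
theorem eichler_centralizer (h2 : (2 : F) ≠ 0) (hm : 3 ≤ m) {M : Matrix ι ι F}
    (hM : ∀ g ∈ omegaGL (quadFormOdd m F), FixCodim 2 g → Commute (g : Matrix ι ι F) M) :
    ∃ c : F, M = c • (1 : Matrix ι ι F) := by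
  classical
  have key : ∀ (i : Fin m ⊕ Fin m) (l : ι), l ≠ .inr i → l ≠ oddPair m (.inr i) → ∀ x : ι → F,
      M *ᵥ (Pi.single l (x (oddPair m (.inr i))) - Pi.single (.inr i)
          (oddCoef m F l * x (oddPair m l) + quadFormOdd m F (Pi.single l 1) * x (oddPair m (.inr i)))) =
        Pi.single l ((M *ᵥ x) (oddPair m (.inr i))) - Pi.single (.inr i)
          (oddCoef m F l * (M *ᵥ x) (oddPair m l) + quadFormOdd m F (Pi.single l 1) * (M *ᵥ x) (oddPair m (.inr i))) := by
    intro i l h1 h3 x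
    obtain ⟨g, hg, hgm⟩ := exists_eichler_coord (F := F) h2 (k := .inr i) (by simp) h1 h3 1
    have e := congrArg (· *ᵥ x) (hM g hg (eichler_coord_fixCodim 1 hgm)).eq
    simp only [← Matrix.mulVec_mulVec, hgm, mul_one, add_sub_assoc, Matrix.mulVec_add] at e
    exact (add_left_cancel e).symm
  let idx : Fin m ⊕ Fin m → Fin m := Sum.elim id id
  have hsep : ∀ {i j : Fin m ⊕ Fin m}, idx i ≠ idx j →
      (Sum.inr i : ι) ≠ .inr j ∧ (Sum.inr i : ι) ≠ oddPair m (.inr j) := by
    intro i j h
    constructor <;> intro e <;> apply h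
    · rw [Sum.inr_injective e]
    · rcases j with j | j <;> simp only [oddPair, Sum.map_inr, Sum.swap, Sum.elim_inl, Sum.elim_inr, Sum.inr.injEq] at e <;>
        subst e <;> rfl
  have hswap : ∀ i : Fin m ⊕ Fin m, oddPair m (.inr i.swap) = .inr i := fun i => by simp [oddPair]
  have hidx : ∀ i : Fin m ⊕ Fin m, idx i.swap = idx i := fun i => by rcases i with i | i <;> rfl
  -- the image of a hyperbolic coordinate vector
  have himg : ∀ i l : Fin m ⊕ Fin m, idx l ≠ idx i →
      M *ᵥ Pi.single (.inr l) (1 : F) = Pi.single (.inr l) ((M *ᵥ Pi.single (.inr i) 1) (.inr i)) -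
        Pi.single (.inr i.swap) ((M *ᵥ Pi.single (.inr i) 1) (oddPair m (.inr l))) := by
    intro i l h
    obtain ⟨h1, h3⟩ := hsep (i := l) (j := i.swap) (by rwa [hidx])
    have e := key i.swap (.inr l) h1 h3 (Pi.single (.inr i) 1)
    have h4 : oddPair m (.inr l) ≠ .inr i := fun e' => h (by
      have e'' : l.swap = i := by simpa [oddPair] using e'
      rw [← e'', hidx])
    simpa [hswap, Pi.single_eq_of_ne h4, quadFormOdd_single, oddCoef] using e
  have hdiag : ∀ l s, s ≠ Sum.inr l → (M *ᵥ Pi.single (.inr l) (1 : F)) s = 0 := by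
    intro l s hs
    obtain ⟨c, hc, -⟩ := exists_third hm (idx l) (idx l)
    obtain ⟨d, hd1, hd2⟩ := exists_third hm (idx l) c
    by_cases hsd : s = .inr (Sum.inl c : Fin m ⊕ Fin m).swap
    · rw [himg (.inl d) l (Ne.symm hd1), Pi.sub_apply, Pi.single_eq_of_ne hs, Pi.single_eq_of_ne, sub_zero]
      rw [hsd]
      intro e
      exact hd2 (by simpa using e.symm)
    · rw [himg (.inl c) l (Ne.symm hc), Pi.sub_apply, Pi.single_eq_of_ne hs, Pi.single_eq_of_ne hsd, sub_zero]
  set μ : Fin m ⊕ Fin m → F := fun l => (M *ᵥ Pi.single (.inr l) (1 : F)) (.inr l)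
  have hMl : ∀ l, M *ᵥ Pi.single (.inr l) (1 : F) = Pi.single (.inr l) (μ l) := fun l => funext fun s => by
    by_cases hs : s = .inr l
    · subst hs; simp [μ]
    · rw [hdiag l s hs, Pi.single_eq_of_ne hs]
  have hμ : ∀ i l, idx l ≠ idx i → μ l = μ i := fun i l h => by
    have h5 : (Sum.inr l : ι) ≠ .inr i.swap := (hsep (i := l) (j := i.swap) (by rwa [hidx])).1
    change (M *ᵥ _) _ = _
    rw [himg i l h, Pi.sub_apply, Pi.single_eq_same, Pi.single_eq_of_ne h5, sub_zero]
  let i₀ : Fin m ⊕ Fin m := .inl ⟨0, by omega⟩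
  have hμ0 : ∀ l, μ l = μ i₀ := fun l => by
    obtain ⟨c, hc1, hc2⟩ := exists_third hm (idx l) (idx i₀)
    rw [hμ (.inl c) l (Ne.symm hc1), hμ i₀ (.inl c) hc2]
  have hz : M *ᵥ Pi.single (.inl ()) (1 : F) = Pi.single (.inl ()) (μ i₀) := by
    have e := key i₀.swap (.inl ()) (by simp) (by simp [oddPair]) (Pi.single (.inr i₀) 1)
    rw [hswap, Pi.single_eq_same, Matrix.mulVec_sub, hMl, Pi.single_eq_same,
      show oddPair m (.inl ()) = .inl () from rfl, Pi.single_eq_of_ne (by simp), Pi.single_eq_of_ne (by simp),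
      mul_zero, zero_add, quadFormOdd_single, if_pos rfl, one_pow, one_mul, zero_add, one_mul, hMl, hμ0] at e
    exact sub_left_injective e
  refine ⟨μ i₀, Matrix.ext_of_mulVec_single fun s => ?_⟩
  rw [Matrix.smul_mulVec, Matrix.one_mulVec, ← Pi.single_smul', smul_eq_mul, mul_one]
  rcases s with ⟨⟩ | l
  · exact hz
  · rw [hMl, hμ0]

/-- An Eichler element whose square is nontrivial. -/
theorem exists_eichler_fixCodim (h2 : (2 : F) ≠ 0) (hm : 2 ≤ m) :
    ∃ g ∈ omegaGL (quadFormOdd m F), g ≠ 1 ∧ g * g ≠ 1 ∧ FixCodim 2 g := by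
  classical
  let a : Fin m := ⟨0, by omega⟩
  let b : Fin m := ⟨1, by omega⟩
  have hab : a ≠ b := by simp [a, b]
  obtain ⟨g, hg, hgm⟩ := exists_eichler_coord (F := F) h2 (k := .inr (.inl a)) (l := .inr (.inl b)) (by simp)
    (by simp [hab.symm]) (by simp [oddPair]) 1
  set k' : ι := .inr (.inr a)
  set l : ι := .inr (.inl b)
  have hk : (g : Matrix ι ι F) *ᵥ Pi.single k' 1 = Pi.single k' 1 + Pi.single l 1 := by
    rw [hgm]
    simp [oddPair, k', l, quadFormOdd_single, oddCoef, hab.symm]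
  have hl : (g : Matrix ι ι F) *ᵥ Pi.single l 1 = Pi.single l 1 := by
    rw [hgm]
    simp [oddPair, l, quadFormOdd_single, oddCoef]
  refine ⟨g, hg, fun e => ?_, fun e => ?_, eichler_coord_fixCodim 1 hgm⟩
  · rw [e, Units.val_one, Matrix.one_mulVec] at hk
    simpa [l, k'] using congrFun hk l
  · have h := congrArg (fun x : GL ι F => (x : Matrix ι ι F) *ᵥ Pi.single k' 1) e
    simp only [Units.val_mul, ← Matrix.mulVec_mulVec, hk, Matrix.mulVec_add, hl, Units.val_one, Matrix.one_mulVec] at h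
    have := congrFun h l
    simp [l, k'] at this
    exact h2 (by linear_combination this)

/-- Over the field with three elements an orthogonal decomposition into 3-spaces gives orthogonal lines. -/
theorem three_spaces_lines [Fintype F] {ι' : Type} [Fintype ι'] [DecidableEq ι'] {Q : (ι' → F) → F}
    (hQ : IsNondegenerateQuadraticForm Q) (hF : Fintype.card F = 3) {t : ℕ} {D : Fin t → Submodule F (ι' → F)}
    (hD : IsOrthogonalMDecomposition Q 3 D) :
    ∃ (v : ι' → ι' → F) (c : F), c ≠ 0 ∧ (∀ i j, QuadraticMap.polar Q (v i) (v j) = if i = j then c else 0) ∧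
      ∀ h ∈ decompositionStabilizer D ⊓ isometryGroup F Q, ∀ i, ∃ (j : ι') (a : F), (a = 1 ∨ a = -1) ∧
        (h : Matrix ι' ι' F) *ᵥ v i = a • v j := by
  classical
  have hf := reflexForm_of_quadratic hQ
  have hb := hQ.polar_bilinear
  have h3 : (3 : F) = 0 := by
    have := FiniteField.cast_card_eq_zero F
    rw [hF] at this
    exact_mod_cast this
  have h2 : (2 : F) ≠ 0 := fun h => one_ne_zero (α := F) (by linear_combination h3 - h)
  have hsq : ∀ x : F, x = 0 ∨ x * x = 1 := fun x => by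
    rcases eq_or_ne x 0 with h | h
    · exact Or.inl h
    · have := FiniteField.pow_card_sub_one_eq_one x h
      rw [hF] at this
      exact Or.inr (by rw [← this]; ring)
  set f := QuadraticMap.polar Q with hfdef
  have hD' : IsNondegenerateMDecomposition f 3 D := hD.decomp
  let i₀ : Fin t := ⟨0, by have := hD'.decomp.two_le; omega⟩
  let bs : Module.Basis (Fin 3) F (D i₀) := Module.finBasisOfFinrankEq F (D i₀) (hD'.decomp.finrank_eq i₀)
  let G : Matrix (Fin 3) (Fin 3) F := Matrix.of fun i j => f (bs i : ι' → F) (bs j)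
  have hG : G.det ≠ 0 := by
    intro h0
    obtain ⟨x, hx0, hx⟩ := Matrix.exists_vecMul_eq_zero_iff.mpr h0
    set w : D i₀ := ∑ i, x i • bs i with hw
    have hw0 : (w : ι' → F) ≠ 0 := by
      intro e
      apply hx0
      have h' : ∑ i, x i • bs i = 0 := Subtype.ext e
      exact funext fun i => (Fintype.linearIndependent_iff.mp bs.linearIndependent x h' i)
    obtain ⟨z, hz, hwz⟩ := (hD'.nondegenerate i₀ _ w.2 hw0).2
    apply hwz
    have hcoe : ∀ c : Fin 3 → F, ((∑ i, c i • bs i : D i₀) : ι' → F) = ∑ i, c i • (bs i : ι' → F) := fun c => by simp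
    obtain ⟨c, hc⟩ : ∃ c : Fin 3 → F, z = ∑ i, c i • (bs i : ι' → F) := ⟨fun i => bs.repr ⟨z, hz⟩ i, by
      rw [← hcoe, bs.sum_repr]⟩
    have hxj : ∀ j, f (w : ι' → F) (bs j) = 0 := fun j => by
      rw [hw, hcoe, hf.sum_left]
      have := congrFun hx j
      simpa [Matrix.vecMul, dotProduct, G, hb.smul_left] using this
    rw [hc]
    refine hf.eq_zero_swap ?_
    rw [hf.sum_left]
    exact Finset.sum_eq_zero fun j _ => by rw [hb.smul_left, hf.eq_zero_swap (hxj j), mul_zero]
  obtain ⟨c, A, hc, hA⟩ := symmetric_congr h2 (by decide : Odd 3) hG (fun i j => QuadraticMap.polar_comm _ _ _)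
  let u : Fin 3 → D i₀ := fun j => ∑ i, A.val i j • bs i
  have hu : ∀ j j', f (u j : ι' → F) (u j') = if j = j' then c else 0 := by
    intro j j'
    have e := congrFun (congrFun hA j) j'
    rw [Matrix.smul_apply, Matrix.one_apply, smul_eq_mul, mul_ite, mul_one, mul_zero] at e
    rw [← e]
    simp only [u, Submodule.coe_sum, Submodule.coe_smul]
    simp only [Fin.sum_univ_three, hb.add_left, hb.add_right, hb.smul_left, hb.smul_right, Matrix.mul_apply,
      Matrix.transpose_apply, G, Matrix.of_apply]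
    ring
  choose L hL using fun i => hD.isometric i₀ i
  let w : Fin t × Fin 3 → ι' → F := fun x => (L x.1 (u x.2) : ι' → F)
  have hwmem : ∀ x, w x ∈ D x.1 := fun x => (L x.1 (u x.2)).2
  have hpolL : ∀ i (a b : D i₀), f (L i a : ι' → F) (L i b) = f (a : ι' → F) b := fun i a b => by
    simp only [hfdef, QuadraticMap.polar, ← Submodule.coe_add, ← map_add, hL]
  have hww : ∀ x y, f (w x) (w y) = if x = y then c else 0 := by
    rintro ⟨i, j⟩ ⟨i', j'⟩
    rcases eq_or_ne i i' with rfl | hne
    · rw [show f (w (i, j)) (w (i, j')) = f (u j : ι' → F) (u j') from hpolL i _ _, hu]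
      simp
    · rw [hD'.orthogonal i i' hne _ (hwmem (i, j)) _ (hwmem (i', j')), if_neg fun e => hne (congrArg Prod.fst e)]
  have hspan : ∀ i, ∀ z ∈ D i, ∃ a : Fin 3 → F, z = ∑ j, a j • w (i, j) := by
    intro i z hz
    have hli : LinearIndependent F fun j => w (i, j) := by
      rw [Fintype.linearIndependent_iff]
      intro a ha j
      have e : f (∑ j, a j • w (i, j)) (w (i, j)) = 0 := by rw [ha, hf.zero_left]
      rw [hf.sum_left] at e
      simpa [hb.smul_left, hww, hc] using e
    have heq : Submodule.span F (Set.range fun j => w (i, j)) = D i := by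
      refine Submodule.eq_of_le_of_finrank_eq (Submodule.span_le.mpr ?_) ?_
      · rintro _ ⟨j, rfl⟩; exact hwmem (i, j)
      · rw [finrank_span_eq_card hli, hD'.decomp.finrank_eq, Fintype.card_fin]
    rw [← heq] at hz
    obtain ⟨a, ha⟩ := (Submodule.mem_span_range_iff_exists_fun F).mp hz
    exact ⟨a, ha.symm⟩
  have hcard : Fintype.card ι' = Fintype.card (Fin t × Fin 3) := by
    rw [Fintype.card_prod, Fintype.card_fin, Fintype.card_fin, IsMDecomposition.card_eq hD'.decomp]
  let E : ι' ≃ Fin t × Fin 3 := Fintype.equivOfCardEq hcard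
  refine ⟨fun x => w (E x), c, hc, fun x y => by rw [hww]; simp [E.injective.eq_iff], ?_⟩
  rintro h ⟨⟨π, hπ⟩, hI⟩ x
  show ∃ (k : ι') (b : F), (b = 1 ∨ b = -1) ∧ (h : Matrix ι' ι' F) *ᵥ w (E x) = b • w (E k)
  generalize E x = y
  obtain ⟨i, j⟩ := y
  have hmem : (h : Matrix ι' ι' F) *ᵥ w (i, j) ∈ D (π i) := by
    rw [← hπ]
    exact ⟨w (i, j), hwmem (i, j), rfl⟩
  obtain ⟨a, ha⟩ := hspan _ _ hmem
  have hnorm : f ((h : Matrix ι' ι' F) *ᵥ w (i, j)) ((h : Matrix ι' ι' F) *ᵥ w (i, j)) = c := by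
    simp only [hfdef, QuadraticMap.polar, ← Matrix.mulVec_add, mem_isometryGroup_iff.mp hI]
    have := hww (i, j) (i, j)
    rwa [if_pos rfl] at this
  have hcoef : ∀ j', f ((h : Matrix ι' ι' F) *ᵥ w (i, j)) (w (π i, j')) = a j' * c := fun j' => by
    rw [ha, hf.sum_left]
    simp [hb.smul_left, hww]
  have hsum : a 0 * a 0 + a 1 * a 1 + a 2 * a 2 = 1 := by
    have e := hnorm
    nth_rewrite 2 [ha] at e
    have hcomm : ∀ p q, f p q = f q p := fun p q => QuadraticMap.polar_comm _ p q
    rw [hcomm, hf.sum_left] at e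
    simp only [hb.smul_left, Fin.sum_univ_three, hcomm (w _) (_ *ᵥ _), hcoef] at e
    refine mul_right_cancel₀ hc ?_
    rw [one_mul]
    linear_combination e
  have hone : ∀ {y : F}, y * y = 1 → y = 1 ∨ y = -1 := fun hy => mul_self_eq_one_iff.mp hy
  have fin : ∀ j', (∀ r, r ≠ j' → a r = 0) → a j' * a j' = 1 →
      ∃ (k : ι') (b : F), (b = 1 ∨ b = -1) ∧ (h : Matrix ι' ι' F) *ᵥ w (i, j) = b • w (E k) := fun j' hj hsq' =>
    ⟨E.symm (π i, j'), a j', hone hsq', by
      rw [E.apply_symm_apply, ha, Finset.sum_eq_single j' (fun r _ hr => by rw [hj r hr, zero_smul])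
        (fun h' => absurd (Finset.mem_univ _) h')]⟩
  rcases hsq (a 0) with h0 | h0 <;> rcases hsq (a 1) with h1 | h1 <;> rcases hsq (a 2) with h2' | h2'
  · simp [h0, h1, h2'] at hsum
  · exact fin 2 (fun r hr => by fin_cases r <;> first | exact absurd rfl hr | assumption) h2'
  · exact fin 1 (fun r hr => by fin_cases r <;> first | exact absurd rfl hr | assumption) h1
  · simp [h0, h1, h2'] at hsum
  · exact fin 0 (fun r hr => by fin_cases r <;> first | exact absurd rfl hr | assumption) h0
  · simp [h0, h1, h2'] at hsum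
  · simp [h0, h1, h2'] at hsum
  · exfalso
    rw [h0, h1, h2'] at hsum
    exact one_ne_zero (α := F) (by linear_combination h3 - hsum)

end Cfsg.Agent.Classical
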