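/-
Similitudes of a plus type form in dimension four, and the tensor products built on it.
-/
import Cfsg.Agent.Lib.Classical.FormPower
import Cfsg.Agent.Lib.Classical.FormBasis
import Cfsg.Agent.Lib.Classical.FormSpMember

set_option autoImplicit false
set_option linter.style.haveILetI false
set_option linter.unusedSectionVars false

namespace Cfsg.Agent.Classical

open Matrix Cfsg.Geo
open scoped Kronecker

variable {F : Type*} [Field F]

/-- Four points as pairs. -/
def pairEquiv : Fin 2 × Fin 2 ≃ Fin 4 := finProdFinEquiv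

/-- The standard alternating matrix of size two. -/
def J2 (F : Type*) [Field F] : Matrix (Fin 2) (Fin 2) F := !![0, 1; -1, 0]

theorem J2_congr (a : Matrix (Fin 2) (Fin 2) F) : aᵀ * J2 F * a = a.det • J2 F := by
  ext i j
  fin_cases i <;> fin_cases j <;>
    simp [J2, Matrix.mul_apply, Fin.sum_univ_two, Matrix.det_fin_two] <;> ring

theorem J2_det : (J2 F).det = 1 := by simp [J2, Matrix.det_fin_two]

/-- A linear map preserving the determinant up to a factor is a two-sided multiplication, up to transposition. -/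
theorem det_preserver {L : Matrix (Fin 2) (Fin 2) F →ₗ[F] Matrix (Fin 2) (Fin 2) F} {ν : F} (hν : ν ≠ 0)
    (h : ∀ X, (L X).det = ν * X.det) :
    ∃ A B : GL (Fin 2) F, (∀ X, L X = (A : Matrix (Fin 2) (Fin 2) F) * X * (B : Matrix (Fin 2) (Fin 2) F)) ∨
      ∀ X, L X = (A : Matrix (Fin 2) (Fin 2) F) * Xᵀ * (B : Matrix (Fin 2) (Fin 2) F) := by
  have hM : (L 1).det ≠ 0 := by rw [h, Matrix.det_one, mul_one]; exact hν
  let M : GL (Fin 2) F := Matrix.GeneralLinearGroup.mkOfDetNeZero (L 1) hM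
  let L₁ : Matrix (Fin 2) (Fin 2) F →ₗ[F] Matrix (Fin 2) (Fin 2) F :=
    { toFun := fun X => ((M⁻¹ : GL (Fin 2) F) : Matrix (Fin 2) (Fin 2) F) * L X
      map_add' := fun X Y => by rw [map_add, Matrix.mul_add]
      map_smul' := fun c X => by rw [map_smul, Matrix.mul_smul, RingHom.id_apply] }
  have hL : ∀ X, L X = (M : Matrix (Fin 2) (Fin 2) F) * L₁ X := fun X => by
    change L X = _ * (_ * L X)
    rw [← Matrix.mul_assoc, Units.mul_inv, Matrix.one_mul]
  have hdet : ∀ X, (L₁ X).det = X.det := fun X => by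
    have h1 := congrArg Matrix.det (hL X)
    rw [Matrix.det_mul, h, show (M : Matrix (Fin 2) (Fin 2) F).det = ν by change (L 1).det = ν; rw [h, Matrix.det_one, mul_one]] at h1
    exact (mul_left_cancel₀ hν h1).symm
  have hone : L₁ 1 = 1 := by
    change ((M⁻¹ : GL (Fin 2) F) : Matrix (Fin 2) (Fin 2) F) * L 1 = 1
    exact Units.inv_mul M
  set N := L₁ (Matrix.single 0 0 1) with hN
  have hN0 : N.det = 0 := by rw [hN, hdet]; simp [Matrix.det_fin_two]
  have hN1 : (N - 1).det = 0 := by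
    rw [hN]
    conv_lhs => rw [← hone, ← map_sub, hdet]
    simp [Matrix.det_fin_two]
  obtain ⟨u, hu, hNu⟩ := Matrix.exists_mulVec_eq_zero_iff.mpr hN1
  obtain ⟨w, hw, hNw⟩ := Matrix.exists_mulVec_eq_zero_iff.mpr hN0
  rw [Matrix.sub_mulVec, Matrix.one_mulVec, sub_eq_zero] at hNu
  have hli : LinearIndependent F ![u, w] := by
    rw [LinearIndependent.pair_iff]
    intro a b hab
    have h1 := congrArg (N *ᵥ ·) hab
    simp only [Matrix.mulVec_add, Matrix.mulVec_smul, hNu, hNw, smul_zero, add_zero, Matrix.mulVec_zero] at h1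
    rw [h1, zero_add] at hab
    exact ⟨(smul_eq_zero.mp h1).resolve_right hu, (smul_eq_zero.mp hab).resolve_right hw⟩
  let Tm : Matrix (Fin 2) (Fin 2) F := Matrix.of fun i j => ![u, w] j i
  have hTm : IsUnit Tm := Matrix.linearIndependent_cols_iff_isUnit.mp hli
  set T : GL (Fin 2) F := hTm.unit
  have hT : (T : Matrix (Fin 2) (Fin 2) F) = Tm := rfl
  have hNT : N * Tm = Tm * Matrix.single 0 0 1 := by
    have e1 : ∀ i, N i 0 * u 0 + N i 1 * u 1 = u i := fun i => by
      have := congrFun hNu i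
      simpa [Matrix.mulVec, dotProduct, Fin.sum_univ_two] using this
    have e2 : ∀ i, N i 0 * w 0 + N i 1 * w 1 = 0 := fun i => by
      have := congrFun hNw i
      simpa [Matrix.mulVec, dotProduct, Fin.sum_univ_two] using this
    ext i j
    fin_cases j <;> simp [Tm, Matrix.mul_apply, Fin.sum_univ_two, Matrix.single_apply, e1, e2]
  let L₂ : Matrix (Fin 2) (Fin 2) F →ₗ[F] Matrix (Fin 2) (Fin 2) F :=
    { toFun := fun X => ((T⁻¹ : GL (Fin 2) F) : Matrix (Fin 2) (Fin 2) F) * L₁ X * (T : Matrix (Fin 2) (Fin 2) F)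
      map_add' := fun X Y => by rw [map_add, Matrix.mul_add, Matrix.add_mul]
      map_smul' := fun c X => by rw [map_smul, Matrix.mul_smul, Matrix.smul_mul, RingHom.id_apply] }
  have hL₂ : ∀ X, L X = ((M * T : GL (Fin 2) F) : Matrix (Fin 2) (Fin 2) F) * L₂ X * ((T⁻¹ : GL (Fin 2) F) : Matrix (Fin 2) (Fin 2) F) := fun X => by
    change _ = _ * (_ * L₁ X * _) * _
    rw [Units.val_mul, hL]
    simp only [Matrix.mul_assoc, Units.mul_inv, Matrix.mul_one]
    rw [← Matrix.mul_assoc (T : Matrix (Fin 2) (Fin 2) F), Units.mul_inv, Matrix.one_mul]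
  have hdet₂ : ∀ X, (L₂ X).det = X.det := fun X => by
    change (_ * L₁ X * _).det = _
    rw [Matrix.det_units_conj', hdet]
  have h00 : L₂ (Matrix.single 0 0 1) = Matrix.single 0 0 1 := by
    change _ * N * _ = _
    rw [Matrix.mul_assoc, hT, hNT, ← hT, ← Matrix.mul_assoc, Units.inv_mul, Matrix.one_mul]
  have hone₂ : L₂ 1 = 1 := by
    change _ * L₁ 1 * _ = _
    rw [hone, Matrix.mul_one, Units.inv_mul]
  have h11 : L₂ (Matrix.single 1 1 1) = Matrix.single 1 1 1 := by
    have e : (Matrix.single 1 1 1 : Matrix (Fin 2) (Fin 2) F) = 1 - Matrix.single 0 0 1 := by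
      ext i j; fin_cases i <;> fin_cases j <;> simp [Matrix.single_apply]
    rw [e, map_sub, hone₂, h00]
  have hoff : ∀ X : Matrix (Fin 2) (Fin 2) F, X 0 0 = 0 → X 1 1 = 0 →
      (L₂ X) 0 0 = 0 ∧ (L₂ X) 1 1 = 0 ∧ L₂ X 0 1 * L₂ X 1 0 = X 0 1 * X 1 0 := by
    intro X hx0 hx1
    have e0 := hdet₂ X
    have e1 := hdet₂ (X + Matrix.single 0 0 1)
    have e2 := hdet₂ (X + Matrix.single 1 1 1)
    rw [map_add, h00] at e1
    rw [map_add, h11] at e2
    simp [Matrix.det_fin_two, Matrix.add_apply, Matrix.single_apply, hx0, hx1] at e0 e1 e2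
    have a1 : (L₂ X) 1 1 = 0 := by linear_combination e1 - e0
    have a0 : (L₂ X) 0 0 = 0 := by linear_combination e2 - e0
    exact ⟨a0, a1, by rw [a0, zero_mul] at e0; linear_combination -e0⟩
  set Z := L₂ (Matrix.single 0 1 1)
  set W := L₂ (Matrix.single 1 0 1)
  obtain ⟨z0, z1, hz⟩ := hoff (Matrix.single 0 1 1) (by simp) (by simp)
  obtain ⟨w0, w1, hw'⟩ := hoff (Matrix.single 1 0 1) (by simp) (by simp)
  obtain ⟨-, -, hzw⟩ := hoff (Matrix.single 0 1 1 + Matrix.single 1 0 1) (by simp [Matrix.single_apply]) (by simp [Matrix.single_apply])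
  rw [map_add] at hzw
  simp [Matrix.single_apply] at hz hw' hzw
  change Z 0 1 = 0 ∨ Z 1 0 = 0 at hz
  change W 0 1 = 0 ∨ W 1 0 = 0 at hw'
  change (Z 0 1 + W 0 1) * (Z 1 0 + W 1 0) = 1 at hzw
  replace z0 : Z 0 0 = 0 := z0
  replace z1 : Z 1 1 = 0 := z1
  replace w0 : W 0 0 = 0 := w0
  replace w1 : W 1 1 = 0 := w1
  have hdec : ∀ X : Matrix (Fin 2) (Fin 2) F,
      L₂ X = X 0 0 • Matrix.single 0 0 1 + X 0 1 • Z + X 1 0 • W + X 1 1 • Matrix.single 1 1 1 := fun X => by
    have e : X = X 0 0 • Matrix.single 0 0 1 + X 0 1 • Matrix.single 0 1 1 + X 1 0 • Matrix.single 1 0 1 +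
        X 1 1 • Matrix.single 1 1 1 := by
      ext i j; fin_cases i <;> fin_cases j <;> simp [Matrix.single_apply]
    conv_lhs => rw [e]
    simp only [map_add, map_smul, h00, h11]
    rfl
  have conj : ∀ (a : F) (ha : a ≠ 0), ∃ S : GL (Fin 2) F, ∀ Y : Matrix (Fin 2) (Fin 2) F,
      (S : Matrix (Fin 2) (Fin 2) F) * Y * ((S⁻¹ : GL (Fin 2) F) : Matrix (Fin 2) (Fin 2) F) =
        !![Y 0 0, a * Y 0 1; a⁻¹ * Y 1 0, Y 1 1] := fun a ha => by
    refine ⟨⟨Matrix.diagonal ![a, 1], Matrix.diagonal ![a⁻¹, 1], ?_, ?_⟩, fun Y => ?_⟩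
    · rw [Matrix.diagonal_mul_diagonal, ← Matrix.diagonal_one]; congr 1; funext i; fin_cases i <;> simp [ha]
    · rw [Matrix.diagonal_mul_diagonal, ← Matrix.diagonal_one]; congr 1; funext i; fin_cases i <;> simp [ha]
    · change Matrix.diagonal ![a, 1] * Y * Matrix.diagonal ![a⁻¹, 1] = _
      ext i j; fin_cases i <;> fin_cases j <;> simp [Matrix.mul_diagonal, Matrix.diagonal_mul, ha, mul_comm]
  rcases hz with hz | hz
  · -- transpose
    have hW1 : W 1 0 = 0 := by
      rcases hw' with e | e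
      · exfalso
        rw [hz, e, add_zero, zero_mul] at hzw
        exact zero_ne_one hzw
      · exact e
    rw [hz, hW1, zero_add, add_zero] at hzw
    obtain ⟨S, hS⟩ := conj (W 0 1) (left_ne_zero_of_mul_eq_one hzw)
    refine ⟨M * T * S, S⁻¹ * T⁻¹, Or.inr fun X => ?_⟩
    have e : L₂ X = (S : Matrix (Fin 2) (Fin 2) F) * Xᵀ * ((S⁻¹ : GL (Fin 2) F) : Matrix (Fin 2) (Fin 2) F) := by
      rw [hS, hdec]
      ext i j
      fin_cases i <;> fin_cases j <;>
        simp [Matrix.single_apply, z0, z1, w0, w1, hz, hW1, inv_eq_of_mul_eq_one_right hzw, mul_comm]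
    rw [hL₂, e]
    simp [Units.val_mul, Matrix.mul_assoc]
  · have hW0 : W 0 1 = 0 := by
      rcases hw' with e | e
      · exact e
      · exfalso
        rw [hz, e, add_zero, mul_zero] at hzw
        exact zero_ne_one hzw
    rw [hz, hW0, zero_add, add_zero] at hzw
    obtain ⟨S, hS⟩ := conj (Z 0 1) (left_ne_zero_of_mul_eq_one hzw)
    refine ⟨M * T * S, S⁻¹ * T⁻¹, Or.inl fun X => ?_⟩
    have e : L₂ X = (S : Matrix (Fin 2) (Fin 2) F) * X * ((S⁻¹ : GL (Fin 2) F) : Matrix (Fin 2) (Fin 2) F) := by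
      rw [hS, hdec]
      ext i j
      fin_cases i <;> fin_cases j <;>
        simp [Matrix.single_apply, z0, z1, w0, w1, hz, hW0, inv_eq_of_mul_eq_one_right hzw, mul_comm]
    rw [hL₂, e]
    simp [Units.val_mul, Matrix.mul_assoc]

theorem vec_quad (x : Fin 2 × Fin 2 → F) :
    x ⬝ᵥ ((J2 F ⊗ₖ J2 F) *ᵥ x) = 2 * (Matrix.of fun i j => x (i, j)).det := by
  simp [dotProduct, Matrix.mulVec, Fintype.sum_prod_type, Fin.sum_univ_two, J2, Matrix.det_fin_two]
  ring

/-- A similitude of the tensor square of the alternating form is a pure tensor, up to exchanging the factors. -/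
theorem similitude_square (h2 : (2 : F) ≠ 0) {b : Matrix (Fin 2 × Fin 2) (Fin 2 × Fin 2) F} {c : F} (hc : c ≠ 0)
    (h : bᵀ * (J2 F ⊗ₖ J2 F) * b = c • (J2 F ⊗ₖ J2 F)) :
    ∃ A B : GL (Fin 2) F, b = (A : Matrix (Fin 2) (Fin 2) F) ⊗ₖ (B : Matrix (Fin 2) (Fin 2) F) ∨
      b = ((A : Matrix (Fin 2) (Fin 2) F) ⊗ₖ (B : Matrix (Fin 2) (Fin 2) F)).submatrix id Prod.swap := by
  let L : Matrix (Fin 2) (Fin 2) F →ₗ[F] Matrix (Fin 2) (Fin 2) F :=
    { toFun := fun X => Matrix.of fun i j => (b *ᵥ fun p => X p.1 p.2) (i, j)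
      map_add' := fun X Y => by
        ext i j
        simp only [Matrix.of_apply, Matrix.add_apply]
        rw [show (fun p : Fin 2 × Fin 2 => X p.1 p.2 + Y p.1 p.2) = (fun p => X p.1 p.2) + (fun p => Y p.1 p.2) from rfl,
          Matrix.mulVec_add]
        rfl
      map_smul' := fun s X => by
        ext i j
        simp only [Matrix.of_apply, Matrix.smul_apply, RingHom.id_apply]
        rw [show (fun p : Fin 2 × Fin 2 => s • X p.1 p.2) = s • (fun p => X p.1 p.2) from rfl,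
          Matrix.mulVec_smul]
        rfl }
  have hdet : ∀ X, (L X).det = c * X.det := fun X => by
    refine mul_left_cancel₀ h2 ?_
    change 2 * (Matrix.of fun i j => (b *ᵥ fun p => X p.1 p.2) (i, j)).det = _
    have hX : (Matrix.of fun i j => (fun p : Fin 2 × Fin 2 => X p.1 p.2) (i, j)) = X := rfl
    have key : ∀ (K : Matrix (Fin 2 × Fin 2) (Fin 2 × Fin 2) F) (v : Fin 2 × Fin 2 → F),
        (b *ᵥ v) ⬝ᵥ (K *ᵥ (b *ᵥ v)) = v ⬝ᵥ ((bᵀ * K * b) *ᵥ v) := fun K v => by
      rw [← Matrix.mulVec_mulVec, ← Matrix.mulVec_mulVec, Matrix.dotProduct_mulVec v bᵀ, Matrix.vecMul_transpose]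
    rw [← vec_quad, key, h, Matrix.smul_mulVec, dotProduct_smul, vec_quad, hX, smul_eq_mul]
    ring
  have hentry : ∀ i k j l, b (i, k) (j, l) = L (Matrix.single j l 1) i k := fun i k j l => by
    change _ = (b *ᵥ fun p => Matrix.single j l (1 : F) p.1 p.2) (i, k)
    have e : (fun p : Fin 2 × Fin 2 => Matrix.single j l (1 : F) p.1 p.2) = Pi.single (j, l) 1 := by
      funext p
      simp [Matrix.single_apply, Pi.single_apply, Prod.ext_iff, eq_comm]
    rw [e, Matrix.mulVec_single_one]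
    rfl
  obtain ⟨A, B, hAB⟩ := det_preserver hc hdet
  let Bt : GL (Fin 2) F := Matrix.GeneralLinearGroup.mkOfDetNeZero (B : Matrix (Fin 2) (Fin 2) F)ᵀ (by
    rw [Matrix.det_transpose]; exact (Matrix.GeneralLinearGroup.det B).ne_zero)
  refine ⟨A, Bt, hAB.imp (fun e => ?_) fun e => ?_⟩
  · ext ⟨i, k⟩ ⟨j, l⟩
    rw [hentry, e]
    simp [Bt, Matrix.mul_apply, Matrix.single_apply, ite_and, Finset.mul_sum, mul_comm]
  · ext ⟨i, k⟩ ⟨j, l⟩
    rw [hentry, e]
    simp [Bt, Matrix.mul_apply, Matrix.single_apply, ite_and, Finset.mul_sum, mul_comm, Matrix.transpose_apply]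

/-- A plus type symmetric form of dimension four is congruent to a tensor square. -/
theorem plus_four_congr (h2 : (2 : F) ≠ 0) {G : Matrix (Fin 4) (Fin 4) F} (hdet : G.det ≠ 0) (hs : ∀ i j, G j i = G i j)
    {U : Submodule F (Fin 4 → F)} (hU : ∀ u ∈ U, u ⬝ᵥ (G *ᵥ u) = 0) (hdim : Module.finrank F U = 2) :
    ∃ A : GL (Fin 4) F, (A : Matrix (Fin 4) (Fin 4) F)ᵀ * G * (A : Matrix (Fin 4) (Fin 4) F) =
      (J2 F ⊗ₖ J2 F).submatrix pairEquiv.symm pairEquiv.symm := by
  classical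
  let g : (Fin 4 → F) → (Fin 4 → F) → F := fun u v => u ⬝ᵥ (G *ᵥ v)
  have hsymm : ∀ u v, g u v = g v u := fun u v => by
    have hGt : Gᵀ = G := by ext i j; exact hs i j
    simp only [g]
    conv_lhs => rw [Matrix.dotProduct_mulVec, ← Matrix.mulVec_transpose, hGt, dotProduct_comm]
  have haddr : ∀ u v w, g u (v + w) = g u v + g u w := fun u v w => by simp [g, Matrix.mulVec_add]
  have hsmulr : ∀ (c : F) u v, g u (c • v) = c * g u v := fun c u v => by simp [g, Matrix.mulVec_smul]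
  have haddl : ∀ u v w, g (u + v) w = g u w + g v w := fun u v w => by simp [g, add_dotProduct]
  have hsmull : ∀ (c : F) u v, g (c • u) v = c * g u v := fun c u v => by simp [g, smul_dotProduct]
  have hTS : ∀ u ∈ U, ∀ v ∈ U, g u v = 0 := fun u hu v hv => by
    have e : g (u + v) (u + v) = 0 := hU _ (U.add_mem hu hv)
    rw [haddl, haddr, haddr, show g u u = 0 from hU u hu, show g v v = 0 from hU v hv, hsymm v u] at e
    exact (mul_eq_zero.mp (show (2 : F) * g u v = 0 by linear_combination e)).resolve_left h2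
  let bs : Module.Basis (Fin 2) F U := Module.finBasisOfFinrankEq F U hdim
  set u₁ : Fin 4 → F := (bs 0 : Fin 4 → F)
  set u₂ : Fin 4 → F := (bs 1 : Fin 4 → F)
  have hli : LinearIndependent F ![u₁, u₂] := by
    rw [LinearIndependent.pair_iff]
    intro a b hab
    have h := Fintype.linearIndependent_iff.mp bs.linearIndependent ![a, b] (by
      apply Subtype.ext
      simpa [Fin.sum_univ_two, u₁, u₂] using hab)
    exact ⟨h 0, h 1⟩
  let φ : (Fin 4 → F) →ₗ[F] (Fin 2 → F) :=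
    { toFun := fun w => ![g u₁ w, g u₂ w]
      map_add' := fun v w => by ext i; fin_cases i <;> simp [haddr]
      map_smul' := fun c w => by ext i; fin_cases i <;> simp [hsmulr] }
  have hφ : Function.Surjective φ := by
    rw [← LinearMap.range_eq_top]
    by_contra hne
    obtain ⟨d, hd0, hd⟩ : ∃ d : Fin 2 → F, d ≠ 0 ∧ ∀ w, d 0 * g u₁ w + d 1 * g u₂ w = 0 := by
      obtain ⟨ψ, hψ0, hψ⟩ := Submodule.exists_le_ker_of_lt_top _ (lt_top_iff_ne_top.mpr hne)
      refine ⟨fun i => ψ (Pi.single i 1), fun e => hψ0 (LinearMap.pi_ext fun i x => ?_), fun w => ?_⟩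
      · rw [LinearMap.zero_apply, show (Pi.single i x : Fin 2 → F) = x • Pi.single i 1 by rw [← Pi.single_smul']; simp,
          map_smul, show ψ (Pi.single i 1) = 0 from congrFun e i, smul_zero]
      · have := hψ ⟨w, rfl⟩
        rw [LinearMap.mem_ker, show φ w = (g u₁ w) • Pi.single 0 1 + (g u₂ w) • Pi.single 1 1 by
          ext i; fin_cases i <;> simp [φ], map_add, map_smul, map_smul] at this
        simpa [mul_comm] using this
    have hz : ∀ w, g (d 0 • u₁ + d 1 • u₂) w = 0 := fun w => by rw [haddl, hsmull, hsmull, hd]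
    have hv : d 0 • u₁ + d 1 • u₂ = 0 := by
      by_contra hv0
      have hGv : G *ᵥ (d 0 • u₁ + d 1 • u₂) = 0 := funext fun i => by
        have := hz (Pi.single i 1)
        rw [hsymm] at this
        simpa [g, single_one_dotProduct] using this
      exact hdet (Matrix.exists_mulVec_eq_zero_iff.mp ⟨_, hv0, hGv⟩)
    obtain ⟨e0, e1⟩ := LinearIndependent.pair_iff.mp hli _ _ hv
    exact hd0 (funext fun i => by fin_cases i <;> assumption)
  obtain ⟨a, ha⟩ := hφ ![1, 0]
  obtain ⟨b, hb⟩ := hφ ![0, 1]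
  have ha1 : g u₁ a = 1 := congrFun ha 0
  have ha2 : g u₂ a = 0 := congrFun ha 1
  have hb1 : g u₁ b = 0 := congrFun hb 0
  have hb2 : g u₂ b = 1 := congrFun hb 1
  have h11 : g u₁ u₁ = 0 := hTS _ (bs 0).2 _ (bs 0).2
  have h12 : g u₁ u₂ = 0 := hTS _ (bs 0).2 _ (bs 1).2
  have h22 : g u₂ u₂ = 0 := hTS _ (bs 1).2 _ (bs 1).2
  set w₁ := a + (-(g a a / 2)) • u₁ with hw₁
  set b' := b + (-(g b w₁)) • u₁ with hb'
  set w₂ := b' + (-(g b' b' / 2)) • u₂ with hw₂
  clear_value w₁ b' w₂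
  have e11 : g u₁ w₁ = 1 := by rw [hw₁, haddr, hsmulr, h11, ha1]; ring
  have e21 : g u₂ w₁ = 0 := by rw [hw₁, haddr, hsmulr, hsymm u₂ u₁, h12, ha2]; ring
  have eww1 : g w₁ w₁ = 0 := by
    rw [hw₁, haddl, haddr, haddr, hsmull, hsmull, hsmulr, hsmulr, h11, hsymm a u₁, ha1]
    field_simp
    ring
  have f1 : g u₁ b' = 0 := by rw [hb', haddr, hsmulr, h11, hb1]; ring
  have f2 : g u₂ b' = 1 := by rw [hb', haddr, hsmulr, hsymm u₂ u₁, h12, hb2]; ring
  have f3 : g b' w₁ = 0 := by rw [hb', haddl, hsmull, e11]; ring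
  have e12 : g u₁ w₂ = 0 := by rw [hw₂, haddr, hsmulr, h12, f1]; ring
  have e22 : g u₂ w₂ = 1 := by rw [hw₂, haddr, hsmulr, h22, f2]; ring
  have eww12 : g w₂ w₁ = 0 := by rw [hw₂, haddl, hsmull, f3, e21]; ring
  have eww2 : g w₂ w₂ = 0 := by
    rw [hw₂, haddl, haddr, haddr, hsmull, hsmull, hsmulr, hsmulr, h22, hsymm b' u₂, f2]
    field_simp
    ring
  let col : Fin 2 × Fin 2 → Fin 4 → F := fun p =>
    if p.1 = 0 then (if p.2 = 0 then u₁ else u₂) else (if p.2 = 0 then (-1 : F) • w₂ else w₁)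
  let A : Matrix (Fin 4) (Fin 4) F := Matrix.of fun i j => col (pairEquiv.symm j) i
  have hA : Aᵀ * G * A = (J2 F ⊗ₖ J2 F).submatrix pairEquiv.symm pairEquiv.symm := by
    ext i j
    have e : (Aᵀ * G * A) i j = g (col (pairEquiv.symm i)) (col (pairEquiv.symm j)) := by
      rw [Matrix.mul_assoc]
      rfl
    rw [e, Matrix.submatrix_apply]
    generalize pairEquiv.symm i = p
    generalize pairEquiv.symm j = r
    obtain ⟨p1, p2⟩ := p
    obtain ⟨r1, r2⟩ := r
    fin_cases p1 <;> fin_cases p2 <;> fin_cases r1 <;> fin_cases r2 <;>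
      simp only [col, Fin.zero_eta, Fin.mk_one, Fin.isValue, one_ne_zero, if_true, if_false, hsmull, hsmulr, h11, h12, h22,
        hsymm u₂ u₁, hsymm w₁ u₁, hsymm w₁ u₂, hsymm w₂ u₁, hsymm w₂ u₂, hsymm w₁ w₂, e11, e12, e21, e22, eww1, eww12,
        eww2] <;> simp [J2]
  have hAdet : A.det ≠ 0 := fun h0 => by
    have h := congrArg Matrix.det hA
    rw [Matrix.det_mul, h0, mul_zero, Matrix.det_submatrix_equiv_self, Matrix.det_kronecker, J2_det, one_pow, one_mul] at h
    exact zero_ne_one h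
  exact ⟨Matrix.GeneralLinearGroup.mkOfDetNeZero A hAdet, hA⟩

/-- The transposition of two factors. -/
theorem factor_swap_mem {k t : ℕ} (i j : Fin t) :
    ∃ S : GL (Fin t → Fin k) F, S ∈ tensorWreathStandard k t F ∧ ∀ x y,
      (S : Matrix (Fin t → Fin k) (Fin t → Fin k) F) x y = if y = x ∘ Equiv.swap i j then 1 else 0 := by
  classical
  let M : Matrix (Fin t → Fin k) (Fin t → Fin k) F := Matrix.of fun x y => if y = x ∘ Equiv.swap i j then 1 else 0
  have hM : M * M = 1 := by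
    ext x z
    rw [Matrix.mul_apply, Finset.sum_eq_single (x ∘ Equiv.swap i j) (fun y _ hy => by simp [M, hy])
      (fun h => absurd (Finset.mem_univ _) h)]
    simp [M, Function.comp_assoc, Matrix.one_apply, eq_comm, ← Equiv.coe_trans]
  exact ⟨⟨M, M, hM, hM⟩, Subgroup.subset_closure (Or.inr ⟨Equiv.swap i j, fun x y => rfl⟩), fun x y => rfl⟩

/-- A symplectic tensor product with a plus type space of dimension four lies in a cube of planes. -/
theorem wreath_of_tensor_plus {ι : Type} [Fintype ι] [DecidableEq ι] (h2 : (2 : F) ≠ 0)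
    {f : (ι → F) → (ι → F) → F} (hfs : IsSymplecticForm f) {e : ι ≃ Fin 2 × Fin 4} {P : GL ι F}
    {f₁ : (Fin 2 → F) → (Fin 2 → F) → F} {f₂ : (Fin 4 → F) → (Fin 4 → F) → F} (hf₁ : IsSymplecticForm f₁)
    (hf₂ : IsSymmetricForm f₂) (hplus : IsPlusTypeOn (fun v : Fin 4 → F => f₂ v v) ⊤)
    (hT : IsTensorFormStructure id f f₁ f₂ e P) {H : Subgroup (GL ι F)} (hle : H ≤ tensorProductSubgroup 2 4 e P)
    (hH : FixesForm (matrixSet H) f) :
    ∃ (e' : ι ≃ (Fin 3 → Fin 2)) (P' : GL ι F) (κ : F), κ ≠ 0 ∧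
      gramCoord (RingEquiv.refl F) f e' P' = κ • pureM (fun _ => J2 F) ∧ H ≤ tensorWreathSubgroup 2 3 e' P' := by
  classical
  have hf := reflexForm_of_symplectic hfs
  obtain ⟨c, hc, hT⟩ := hT
  have hgram : gramCoord (RingEquiv.refl F) f e P = c • (gramMatrix f₁ ⊗ₖ gramMatrix f₂) := by
    ext x y
    have h := hT (Pi.single x 1) (Pi.single y 1)
    rw [hf.semi.coord_apply e P, show (id : F → F) = (RingEquiv.refl F : F → F) from rfl, formOfGram_eq] at h
    simpa [Matrix.mulVec, dotProduct, Pi.single_apply] using h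
  set a₀ := gramMatrix f₁ 0 1
  have hG₁ : gramMatrix f₁ = a₀ • J2 F := by
    ext i j
    fin_cases i <;> fin_cases j <;> simp [J2, a₀, gramMatrix, hf₁.alternating]
    exact hf₁.skew _ _
  have ha₀ : a₀ ≠ 0 := fun h0 => by
    have := det_gram_ne_zero (RingEquiv.refl F) (reflexForm_of_symplectic hf₁).semi hf₁.nondegenerate
    rw [hG₁, h0, zero_smul, Matrix.det_zero] at this
    exact this rfl
  have hd₂ : (gramMatrix f₂).det ≠ 0 :=
    det_gram_ne_zero (RingEquiv.refl F) (reflexForm_of_symmetric hf₂).semi hf₂.nondegenerate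
  obtain ⟨U, -, hU, hdim⟩ := hplus
  rw [finrank_top, Module.finrank_fin_fun] at hdim
  obtain ⟨A, hA⟩ := plus_four_congr h2 hd₂ (fun i j => hf₂.symm _ _) (U := U) (fun u hu => by
    have e1 := (reflexForm_of_symmetric hf₂).apply_eq u u
    rw [RingEquiv.coe_refl, Function.id_comp] at e1
    rw [← e1]
    exact hU u hu) (by omega)
  have hkr : ∀ g ∈ H, ∃ (a : GL (Fin 2) F) (b : GL (Fin 4) F),
      matCoord e P (g : Matrix ι ι F) = (a : Matrix (Fin 2) (Fin 2) F) ⊗ₖ (b : Matrix (Fin 4) (Fin 4) F) := fun g hg => by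
    obtain ⟨a, b, h⟩ := (mem_conj_reindex_iff e P).mp (hle hg)
    rw [coe_glReindex_conj] at h
    exact ⟨a, b, h⟩
  obtain ⟨P', hP', hkr'⟩ := exists_tensor_rebase e P hgram (1 : GL (Fin 2) F) A hkr
  simp only [Units.val_one, Matrix.transpose_one, Matrix.one_mul, RingEquiv.coe_refl, Matrix.map_id, Matrix.mul_one,
    hA, hG₁, Matrix.smul_kronecker, smul_smul] at hP'
  set κ := c * a₀
  have hκ : κ ≠ 0 := mul_ne_zero hc ha₀
  set K := (J2 F ⊗ₖ J2 F).submatrix pairEquiv.symm pairEquiv.symm with hKdef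
  let ε : Fin 2 × Fin 4 ≃ (Fin 3 → Fin 2) :=
    { toFun := fun x => ![x.1, (pairEquiv.symm x.2).1, (pairEquiv.symm x.2).2]
      invFun := fun z => (z 0, pairEquiv (z 1, z 2))
      left_inv := fun x => Prod.ext rfl (pairEquiv.apply_symm_apply x.2)
      right_inv := fun z => by
        funext i
        fin_cases i <;> simp }
  have hεs : ∀ z, ε.symm z = (z 0, pairEquiv (z 1, z 2)) := fun z => rfl
  refine ⟨e.trans ε, P', κ, hκ, ?_, fun g hg => ?_⟩
  · rw [gramCoord_trans, hP']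
    ext x y
    simp only [Matrix.submatrix_apply, Matrix.smul_apply, hεs, Matrix.kronecker_apply, hKdef, Equiv.symm_apply_apply,
      pureM, Matrix.of_apply, Fin.prod_univ_three, smul_eq_mul]
    ring
  obtain ⟨a, b, hab⟩ := hkr' g hg
  have hiso := hf.gramCoord_isometry e P' (g := g) (hH _ (coe_mem_matrixSet hg))
  rw [hab, hP', RingEquiv.coe_refl, Matrix.map_id, Matrix.mul_smul, Matrix.smul_mul, ← Matrix.kroneckerMap_transpose,
    ← Matrix.mul_kronecker_mul, ← Matrix.mul_kronecker_mul, J2_congr] at hiso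
  have hiso' := smul_right_injective (Matrix (Fin 2 × Fin 4) (Fin 2 × Fin 4) F) hκ hiso
  set d := (a : Matrix (Fin 2) (Fin 2) F).det
  have hd : d ≠ 0 := (Matrix.GeneralLinearGroup.det a).ne_zero
  set β : Matrix (Fin 2 × Fin 2) (Fin 2 × Fin 2) F := (b : Matrix (Fin 4) (Fin 4) F).submatrix pairEquiv pairEquiv
  have hβ : βᵀ * (J2 F ⊗ₖ J2 F) * β = d⁻¹ • (J2 F ⊗ₖ J2 F) := by
    have e1 : (b : Matrix (Fin 4) (Fin 4) F)ᵀ * K * (b : Matrix (Fin 4) (Fin 4) F) = d⁻¹ • K := by
      ext x y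
      have h := congrFun (congrFun hiso' (0, x)) (1, y)
      simp [J2] at h
      rw [Matrix.smul_apply, smul_eq_mul, ← h, inv_mul_cancel_left₀ hd]
    have e2 : K.submatrix pairEquiv pairEquiv = J2 F ⊗ₖ J2 F := by
      ext; simp [hKdef]
    rw [← e2]
    have e3 := congrArg (fun M : Matrix (Fin 4) (Fin 4) F => M.submatrix pairEquiv pairEquiv) e1
    simp only [β, Matrix.transpose_submatrix, Matrix.submatrix_mul_equiv]
    exact e3
  obtain ⟨A', B', hAB⟩ := similitude_square h2 (inv_ne_zero hd) hβ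
  rw [tensorWreathSubgroup, mem_conj_reindex_iff]
  have hb : ∀ x y, (b : Matrix (Fin 4) (Fin 4) F) (pairEquiv x) (pairEquiv y) = β x y := fun x y => rfl
  have hcoord : ∀ x y : Fin 3 → Fin 2, (glReindex (e.trans ε) (P'⁻¹ * g * P') :
      Matrix (Fin 3 → Fin 2) (Fin 3 → Fin 2) F) x y = a.val (x 0) (y 0) * β (x 1, x 2) (y 1, y 2) := fun x y => by
    rw [coe_glReindex_conj, matCoord_trans, hab, Matrix.submatrix_apply, hεs, hεs, Matrix.kronecker_apply, hb]
  have hpure : (pureGL ![a, A', B'] : GL (Fin 3 → Fin 2) F) ∈ tensorWreathStandard 2 3 F :=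
    Subgroup.subset_closure (Or.inl ⟨![a, A', B'], fun x y => rfl⟩)
  rcases hAB with hAB | hAB
  · have e3 : glReindex (e.trans ε) (P'⁻¹ * g * P') = pureGL ![a, A', B'] := by
      refine Units.ext (Matrix.ext fun x y => ?_)
      rw [hcoord, hAB, pureGL_coe]
      simp [pureM, Fin.prod_univ_three, mul_assoc]
    rw [e3]
    exact hpure
  · obtain ⟨S, hS, hSapp⟩ := factor_swap_mem (F := F) (k := 2) (1 : Fin 3) 2
    have e3 : glReindex (e.trans ε) (P'⁻¹ * g * P') = pureGL ![a, A', B'] * S := by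
      refine Units.ext (Matrix.ext fun x y => ?_)
      rw [hcoord, hAB, Units.val_mul, Matrix.mul_apply,
        Finset.sum_eq_single (y ∘ Equiv.swap (1 : Fin 3) 2) (fun z _ hz => ?_) (fun h => absurd (Finset.mem_univ _) h)]
      · rw [hSapp, if_pos (by rw [Function.comp_assoc, ← Equiv.coe_trans]; simp), pureGL_coe]
        simp [pureM, Fin.prod_univ_three, mul_assoc, Matrix.submatrix_apply, Equiv.swap_apply_def]
      · rw [hSapp, if_neg (fun e4 => hz (by rw [e4, Function.comp_assoc, ← Equiv.coe_trans]; simp)), mul_zero]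
    rw [e3]
    exact mul_mem hpure hS

end Cfsg.Agent.Classical
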