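/-
The normal two-subgroup of a cube of planes over the field with three elements.
-/
import Cfsg.Agent.Lib.Classical.FormSquareSplit
import Cfsg.Agent.Lib.Classical.FormSpSymplectic
import Cfsg.Agent.Lib.Classical.FixCodim

set_option autoImplicit false
set_option linter.style.haveILetI false
set_option linter.unusedSectionVars false

namespace Cfsg.Agent.Classical

open Matrix Cfsg.Geo

variable {F : Type*} [Field F]

/-- The elements of the quaternion group of order eight among the matrices of degree two over three elements. -/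
def IsQuat (A : Matrix (Fin 2) (Fin 2) F) : Prop := A.det = 1 ∧ (A.trace = 0 ∨ A = 1 ∨ A = -1)

theorem isQuat_cases {A : Matrix (Fin 2) (Fin 2) F} (h : IsQuat A) :
    (A = 1 ∨ A = -1) ∨ (A 1 1 = -A 0 0 ∧ -(A 0 0 * A 0 0) - A 0 1 * A 1 0 = 1) := by
  rcases h.2 with h0 | h1
  · refine Or.inr ⟨?_, ?_⟩
    · rw [Matrix.trace_fin_two] at h0
      linear_combination h0
    · have hd := h.1
      rw [Matrix.det_fin_two] at hd
      rw [Matrix.trace_fin_two] at h0
      linear_combination hd - A 0 0 * h0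
  · exact Or.inl h1

theorem isQuat_pm {A : Matrix (Fin 2) (Fin 2) F} (h : A = 1 ∨ A = -1) : IsQuat A := by
  refine ⟨?_, Or.inr h⟩
  rcases h with rfl | rfl <;> simp [Matrix.det_fin_two]

theorem three_prod_fact : ∀ a b c x y z : ZMod 3, -(a * a) - b * c = 1 → -(x * x) - y * z = 1 →
    (a * x + b * z + (c * y + a * x) = 0 ∨
      ((a * y - b * x = 0 ∧ c * x - a * z = 0) ∧ (a * x + b * z = c * y + a * x) ∧
        (a * x + b * z = 1 ∨ a * x + b * z = -1))) := by decide

theorem three_card_fact : Fintype.card {A : Matrix (Fin 2) (Fin 2) (ZMod 3) //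
    A.det = 1 ∧ (A.trace = 0 ∨ A = 1 ∨ A = -1)} = 8 := by decide

section three

variable [Fintype F]

/-- A field with three elements is the field of integers modulo three. -/
theorem exists_equiv_three (hF : Fintype.card F = 3) : Nonempty (ZMod 3 ≃+* F) := by
  haveI : Fact (Nat.Prime 3) := ⟨Nat.prime_three⟩
  exact ⟨FiniteField.ringEquivOfCardEq (by rw [ZMod.card, hF])⟩

theorem three_not_sq (hF : Fintype.card F = 3) (a : F) : a * a ≠ -1 := by
  obtain ⟨φ⟩ := exists_equiv_three hF
  have key : ∀ x : ZMod 3, x * x ≠ -1 := by decide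
  obtain ⟨x, rfl⟩ := φ.surjective a
  rw [← map_mul, ← map_one φ, ← map_neg]
  exact fun e => key x (φ.injective e)

theorem three_two_ne (hF : Fintype.card F = 3) : (2 : F) ≠ 0 := fun h =>
  three_not_sq hF 1 (by linear_combination h)

theorem isQuat_mul (hF : Fintype.card F = 3) {A B : Matrix (Fin 2) (Fin 2) F} (hA : IsQuat A) (hB : IsQuat B) :
    IsQuat (A * B) := by
  refine ⟨by rw [Matrix.det_mul, hA.1, hB.1, one_mul], ?_⟩
  rcases isQuat_cases hA with hA' | ⟨hA1, hA2⟩
  · rcases hA' with rfl | rfl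
    · simpa using hB.2
    · rcases hB.2 with h | h | h
      · exact Or.inl (by simp [h])
      · exact Or.inr (Or.inr (by simp [h]))
      · exact Or.inr (Or.inl (by simp [h]))
  rcases isQuat_cases hB with hB' | ⟨hB1, hB2⟩
  · have hA0 : A.trace = 0 := by rw [Matrix.trace_fin_two, hA1, add_neg_cancel]
    rcases hB' with rfl | rfl <;> exact Or.inl (by simp [hA0])
  obtain ⟨φ⟩ := exists_equiv_three hF
  obtain ⟨a, ha⟩ := φ.surjective (A 0 0)
  obtain ⟨b, hb⟩ := φ.surjective (A 0 1)
  obtain ⟨c, hc⟩ := φ.surjective (A 1 0)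
  obtain ⟨x, hx⟩ := φ.surjective (B 0 0)
  obtain ⟨y, hy⟩ := φ.surjective (B 0 1)
  obtain ⟨z, hz⟩ := φ.surjective (B 1 0)
  rw [← ha, ← hb, ← hc, ← map_mul, ← map_neg, ← map_mul, ← map_sub, ← map_one φ] at hA2
  rw [← hx, ← hy, ← hz, ← map_mul, ← map_neg, ← map_mul, ← map_sub, ← map_one φ] at hB2
  have e00 : (A * B) 0 0 = φ (a * x + b * z) := by
    simp [Matrix.mul_apply, Fin.sum_univ_two, ← ha, ← hb, ← hx, ← hz]
  have e01 : (A * B) 0 1 = φ (a * y - b * x) := by
    simp [Matrix.mul_apply, Fin.sum_univ_two, hB1, ← ha, ← hb, ← hx, ← hy]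
    ring
  have e10 : (A * B) 1 0 = φ (c * x - a * z) := by
    simp [Matrix.mul_apply, Fin.sum_univ_two, hA1, ← ha, ← hc, ← hx, ← hz]
    ring
  have e11 : (A * B) 1 1 = φ (c * y + a * x) := by
    simp [Matrix.mul_apply, Fin.sum_univ_two, hA1, hB1, ← ha, ← hc, ← hx, ← hy]
  rcases three_prod_fact a b c x y z (φ.injective hA2) (φ.injective hB2) with h | ⟨⟨h1, h2⟩, h3, h4⟩
  · exact Or.inl (by rw [Matrix.trace_fin_two, e00, e11, ← map_add, h, map_zero])
  · refine Or.inr (h4.imp (fun h4 => ?_) fun h4 => ?_) <;>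
    · ext i j
      fin_cases i <;> fin_cases j <;>
        simp [e00, e01, e10, e11, h1, h2, ← h3, h4]

theorem isQuat_inv {A : GL (Fin 2) F} (hA : IsQuat (A : Matrix (Fin 2) (Fin 2) F)) :
    IsQuat ((A⁻¹ : GL (Fin 2) F) : Matrix (Fin 2) (Fin 2) F) := by
  rcases hA.2 with h | h | h
  · have e : ((A⁻¹ : GL (Fin 2) F) : Matrix (Fin 2) (Fin 2) F) = -(A : Matrix (Fin 2) (Fin 2) F) := by
      refine Units.inv_eq_of_mul_eq_one_right ?_
      have htr := h
      have hd := hA.1
      rw [Matrix.trace_fin_two] at htr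
      rw [Matrix.det_fin_two] at hd
      have e1 : (A : Matrix (Fin 2) (Fin 2) F) 1 1 = -(A : Matrix (Fin 2) (Fin 2) F) 0 0 := by linear_combination htr
      rw [e1] at hd
      ext i j
      fin_cases i <;> fin_cases j <;> simp [Matrix.mul_apply, Fin.sum_univ_two, e1] <;>
        first | ring1 | linear_combination hd
    rw [e]
    refine ⟨?_, Or.inl (by rw [Matrix.trace_neg, h, neg_zero])⟩
    rw [Matrix.det_neg, hA.1]
    simp
  · exact isQuat_pm (Or.inl (Units.inv_eq_of_mul_eq_one_right (by rw [h, Matrix.mul_one])))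
  · exact isQuat_pm (Or.inr (Units.inv_eq_of_mul_eq_one_right (by rw [h]; simp)))

/-- The quaternion subgroup of the plane. -/
def quatGroup (hF : Fintype.card F = 3) : Subgroup (GL (Fin 2) F) where
  carrier := {A | IsQuat (A : Matrix (Fin 2) (Fin 2) F)}
  mul_mem' ha hb := isQuat_mul hF ha hb
  one_mem' := isQuat_pm (Or.inl rfl)
  inv_mem' ha := isQuat_inv ha

theorem card_quatGroup (hF : Fintype.card F = 3) : Nat.card (quatGroup hF) = 8 := by
  obtain ⟨φ⟩ := exists_equiv_three hF
  let e₁ : quatGroup hF ≃ {A : Matrix (Fin 2) (Fin 2) F // IsQuat A} :=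
    { toFun := fun A => ⟨_, A.2⟩
      invFun := fun A => ⟨Matrix.GeneralLinearGroup.mkOfDetNeZero A.1 (by rw [A.2.1]; exact one_ne_zero), A.2⟩
      left_inv := fun A => Subtype.ext (Units.ext rfl)
      right_inv := fun A => rfl }
  let e₂ : {A : Matrix (Fin 2) (Fin 2) (ZMod 3) // A.det = 1 ∧ (A.trace = 0 ∨ A = 1 ∨ A = -1)} ≃
      {A : Matrix (Fin 2) (Fin 2) F // IsQuat A} :=
    φ.mapMatrix.toEquiv.subtypeEquiv fun A => by
      change _ ↔ IsQuat (φ.mapMatrix A)
      unfold IsQuat
      rw [show (φ.mapMatrix A).det = φ A.det from (RingEquiv.map_det φ A).symm,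
        show (φ.mapMatrix A).trace = φ A.trace from (AddMonoidHom.map_trace φ.toAddMonoidHom A).symm,
        map_eq_one_iff φ φ.injective, map_eq_zero_iff φ φ.injective, map_eq_one_iff φ.mapMatrix φ.mapMatrix.injective,
        ← map_one φ.mapMatrix, ← map_neg φ.mapMatrix, φ.mapMatrix.injective.eq_iff]
  rw [Nat.card_congr e₁, ← Nat.card_congr e₂, Nat.card_eq_fintype_card, three_card_fact]

theorem quat_comm (hF : Fintype.card F = 3) {A B : Matrix (Fin 2) (Fin 2) F} (hA : IsQuat A) (hB : IsQuat B) :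
    A * B = B * A ∨ A * B = -(B * A) := by
  rcases (isQuat_mul hF hA hB).2 with h | h | h
  · rcases isQuat_cases hA with hA' | ⟨hA1, -⟩
    · rcases hA' with rfl | rfl <;> exact Or.inl (by simp)
    rcases isQuat_cases hB with hB' | ⟨hB1, -⟩
    · rcases hB' with rfl | rfl <;> exact Or.inl (by simp)
    refine Or.inr ?_
    rw [Matrix.trace_fin_two] at h
    simp [Matrix.mul_apply, Fin.sum_univ_two, hA1, hB1] at h
    ext i j
    fin_cases i <;> fin_cases j <;> simp [Matrix.mul_apply, Fin.sum_univ_two, hA1, hB1] <;>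
      first | ring1 | linear_combination h
  · exact Or.inl (h.trans (mul_eq_one_comm.mp h).symm)
  · have h' : -A * B = 1 := by rw [Matrix.neg_mul, h, neg_neg]
    have h'' := mul_eq_one_comm.mp h'
    rw [Matrix.mul_neg, neg_eq_iff_eq_neg] at h''
    exact Or.inl (h.trans h''.symm)

theorem quat_sq {A : Matrix (Fin 2) (Fin 2) F} (hA : IsQuat A) : A * A = 1 ∨ A * A = -1 := by
  rcases isQuat_cases hA with h | ⟨e1, e2⟩
  · rcases h with rfl | rfl <;> exact Or.inl (by simp)
  · refine Or.inr ?_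
    ext i j
    fin_cases i <;> fin_cases j <;> simp [Matrix.mul_apply, Fin.sum_univ_two, e1] <;>
      first | ring1 | linear_combination -e2

/-- The upper unitriangular matrix of the plane. -/
def unitU (F : Type*) [Field F] : GL (Fin 2) F :=
  ⟨!![1, 1; 0, 1], !![1, -1; 0, 1], by ext i j; fin_cases i <;> fin_cases j <;> simp,
    by ext i j; fin_cases i <;> fin_cases j <;> simp⟩

theorem quat_conj_mem (hF : Fintype.card F = 3) {A : GL (Fin 2) F} (hA : A ∈ quatGroup hF) (B : GL (Fin 2) F) :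
    B * A * B⁻¹ ∈ quatGroup hF := by
  change IsQuat _ at hA ⊢
  refine ⟨?_, ?_⟩
  · rw [Units.val_mul, Units.val_mul, Matrix.det_units_conj, hA.1]
  · rcases hA.2 with h | h | h
    · exact Or.inl (by rw [Units.val_mul, Units.val_mul, Matrix.trace_mul_cycle, Units.inv_mul, Matrix.one_mul, h])
    · exact Or.inr (Or.inl (by rw [Units.val_mul, Units.val_mul, h, Matrix.mul_one, Units.mul_inv]))
    · exact Or.inr (Or.inr (by
        rw [Units.val_mul, Units.val_mul, h, Matrix.mul_neg, Matrix.mul_one, Matrix.neg_mul, Units.mul_inv]))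

/-- A non-central element does not commute with its conjugate. -/
theorem quat_conj_noncomm (hF : Fintype.card F = 3) {A : GL (Fin 2) F} (hA : A ∈ quatGroup hF)
    (hpm : ¬ ((A : Matrix (Fin 2) (Fin 2) F) = 1 ∨ (A : Matrix (Fin 2) (Fin 2) F) = -1)) :
    unitU F * A * (unitU F)⁻¹ * A ≠ A * (unitU F * A * (unitU F)⁻¹) := by
  intro h
  obtain ⟨e1, e2⟩ := (isQuat_cases hA).resolve_left hpm
  have hconj : ((unitU F * A * (unitU F)⁻¹ : GL (Fin 2) F) : Matrix (Fin 2) (Fin 2) F) =
      !![(A : Matrix (Fin 2) (Fin 2) F) 0 0 + (A : Matrix (Fin 2) (Fin 2) F) 1 0,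
        (A : Matrix (Fin 2) (Fin 2) F) 0 1 - 2 * (A : Matrix (Fin 2) (Fin 2) F) 0 0 - (A : Matrix (Fin 2) (Fin 2) F) 1 0;
        (A : Matrix (Fin 2) (Fin 2) F) 1 0, -(A : Matrix (Fin 2) (Fin 2) F) 0 0 - (A : Matrix (Fin 2) (Fin 2) F) 1 0] := by
    rw [Units.val_mul, Units.val_mul,
      show ((unitU F : GL (Fin 2) F) : Matrix (Fin 2) (Fin 2) F) = !![1, 1; 0, 1] from rfl,
      show (((unitU F)⁻¹ : GL (Fin 2) F) : Matrix (Fin 2) (Fin 2) F) = !![1, -1; 0, 1] from rfl,
      Matrix.eta_fin_two (A : Matrix (Fin 2) (Fin 2) F), Matrix.mul_fin_two, Matrix.mul_fin_two, e1]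
    ext i j
    fin_cases i <;> fin_cases j <;> simp <;> ring
  have h10 := congrArg (fun g : GL (Fin 2) F => (g : Matrix (Fin 2) (Fin 2) F) 1 0) h
  simp only [Units.val_mul] at h10 hconj
  rw [hconj, Matrix.mul_apply, Matrix.mul_apply, Fin.sum_univ_two, Fin.sum_univ_two] at h10
  simp [e1] at h10
  have hc : (A : Matrix (Fin 2) (Fin 2) F) 1 0 = 0 := by
    have : (2 : F) * ((A : Matrix (Fin 2) (Fin 2) F) 1 0 * (A : Matrix (Fin 2) (Fin 2) F) 1 0) = 0 := by
      first | linear_combination h10 | linear_combination -h10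
    simpa [three_two_ne hF] using this
  rw [hc, mul_zero, sub_zero] at e2
  exact three_not_sq hF _ (neg_eq_iff_eq_neg.mp e2)

/-- The quaternion group spans the matrices of degree two. -/
theorem quat_span (hF : Fintype.card F = 3) (S : Submodule F (Matrix (Fin 2) (Fin 2) F))
    (hS : ∀ A ∈ quatGroup hF, (A : Matrix (Fin 2) (Fin 2) F) ∈ S) : S = ⊤ := by
  have h2 := three_two_ne hF
  have h3 : (3 : F) = 0 := by
    obtain ⟨φ⟩ := exists_equiv_three hF
    rw [show (3 : F) = φ 3 from (map_ofNat φ 3).symm, show (3 : ZMod 3) = 0 from rfl, map_zero]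
  have mk : ∀ M : Matrix (Fin 2) (Fin 2) F, IsQuat M → M ∈ S := fun M hM =>
    hS (Matrix.GeneralLinearGroup.mkOfDetNeZero M (by rw [hM.1]; exact one_ne_zero)) hM
  have m1 : (1 : Matrix (Fin 2) (Fin 2) F) ∈ S := mk _ (isQuat_pm (Or.inl rfl))
  have mi : (!![0, 1; -1, 0] : Matrix (Fin 2) (Fin 2) F) ∈ S := mk _ ⟨by simp [Matrix.det_fin_two], Or.inl (by simp [Matrix.trace_fin_two])⟩
  have mj : (!![1, 1; 1, -1] : Matrix (Fin 2) (Fin 2) F) ∈ S :=
    mk _ ⟨by simp [Matrix.det_fin_two]; linear_combination -h3, Or.inl (by simp [Matrix.trace_fin_two])⟩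
  have mk' : (!![1, -1; -1, -1] : Matrix (Fin 2) (Fin 2) F) ∈ S :=
    mk _ ⟨by simp [Matrix.det_fin_two]; linear_combination -h3, Or.inl (by simp [Matrix.trace_fin_two])⟩
  refine eq_top_iff.mpr fun X _ => ?_
  have e : X = ((X 0 0 + X 1 1) / 2) • (1 : Matrix (Fin 2) (Fin 2) F) + ((X 0 1 - X 1 0) / 2) • !![0, 1; -1, 0] +
      ((X 0 0 - X 1 1 + X 0 1 + X 1 0) / 4) • !![1, 1; 1, -1] + ((X 0 0 - X 1 1 - X 0 1 - X 1 0) / 4) • !![1, -1; -1, -1] := by
    have h4 : (4 : F) ≠ 0 := by
      have : (4 : F) = 1 := by linear_combination h3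
      rw [this]; exact one_ne_zero
    ext i j
    fin_cases i <;> fin_cases j <;> simp <;> field_simp <;> ring
  rw [e]
  exact S.add_mem (S.add_mem (S.add_mem (S.smul_mem _ m1) (S.smul_mem _ mi)) (S.smul_mem _ mj)) (S.smul_mem _ mk')

end three

section cube

variable {ι : Type} [Fintype ι] [DecidableEq ι]

/-- A set of matrices generating all matrices as an algebra acts absolutely irreducibly. -/
theorem absIrr_of_adjoin_eq_top {S : Set (Matrix ι ι F)} (h : Algebra.adjoin F S = ⊤) : ActsAbsolutelyIrreducibly S := by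
  refine ⟨fun W hW => ?_, fun M hM => ?_⟩
  · let St : Subalgebra F (Matrix ι ι F) :=
      { carrier := {X | ∀ w ∈ W, X *ᵥ w ∈ W}
        mul_mem' := fun {X Y} hX hY w hw => by rw [← Matrix.mulVec_mulVec]; exact hX _ (hY w hw)
        add_mem' := fun {X Y} hX hY w hw => by rw [Matrix.add_mulVec]; exact W.add_mem (hX w hw) (hY w hw)
        algebraMap_mem' := fun c w hw => by
          rw [Algebra.algebraMap_eq_smul_one, Matrix.smul_mulVec, Matrix.one_mulVec]; exact W.smul_mem c hw }
    have hall : ∀ X : Matrix ι ι F, ∀ w ∈ W, X *ᵥ w ∈ W := fun X => by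
      have hle : Algebra.adjoin F S ≤ St := Algebra.adjoin_le fun s hs w hw => hW s hs ⟨w, hw, rfl⟩
      exact hle (h ▸ Algebra.mem_top)
    rcases eq_or_ne W ⊥ with h0 | h0
    · exact Or.inl h0
    obtain ⟨w, hw, hw0⟩ := Submodule.exists_mem_ne_zero_of_ne_bot h0
    obtain ⟨i, hi⟩ := Function.ne_iff.mp hw0
    refine Or.inr (eq_top_iff.mpr fun v _ => ?_)
    have := hall (Matrix.of fun a b => if b = i then v a / w i else 0) w hw
    convert this using 1
    funext a
    simp [Matrix.mulVec, dotProduct, div_mul_cancel₀ _ hi]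
  · have hc : ∀ X : Matrix ι ι F, M * X = X * M := fun X => by
      have hle : Algebra.adjoin F S ≤ Subalgebra.centralizer F {M} := Algebra.adjoin_le fun s hs => by
        rw [SetLike.mem_coe, Subalgebra.mem_centralizer_iff]
        rintro _ rfl
        exact hM s hs
      exact (Subalgebra.mem_centralizer_iff _).mp (hle (h ▸ Algebra.mem_top)) M rfl
    obtain ⟨c, hc'⟩ := Matrix.mem_range_scalar_iff_commute_single'.mpr fun i j => (hc (Matrix.single i j 1)).symm
    exact ⟨c, by rw [← hc', Matrix.scalar_apply, Matrix.smul_one_eq_diagonal]⟩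

/-- The isomorphism onto the matrices in given coordinates. -/
def coordIso (e : ι ≃ (Fin 3 → Fin 2)) (P : GL ι F) : GL (Fin 3 → Fin 2) F ≃* GL ι F :=
  (glReindex e.symm).trans (MulAut.conj P)

theorem coe_coordIso (e : ι ≃ (Fin 3 → Fin 2)) (P : GL ι F) (g : GL (Fin 3 → Fin 2) F) :
    ((coordIso e P g : GL ι F) : Matrix ι ι F) = (P : Matrix ι ι F) *
      (g : Matrix (Fin 3 → Fin 2) (Fin 3 → Fin 2) F).submatrix e e * ((P⁻¹ : GL ι F) : Matrix ι ι F) := rfl

theorem matCoord_coordIso (e : ι ≃ (Fin 3 → Fin 2)) (P : GL ι F) (g : GL (Fin 3 → Fin 2) F) :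
    matCoord e P ((coordIso e P g : GL ι F) : Matrix ι ι F) = (g : Matrix (Fin 3 → Fin 2) (Fin 3 → Fin 2) F) := by
  rw [coe_coordIso, matCoord]
  simp [Matrix.mul_assoc, Matrix.submatrix_submatrix, ← Matrix.mul_assoc ((P⁻¹ : GL ι F) : Matrix ι ι F) (P : Matrix ι ι F)]

theorem mem_tensorWreath_iff (e : ι ≃ (Fin 3 → Fin 2)) (P : GL ι F) {g : GL ι F} :
    g ∈ tensorWreathSubgroup 2 3 e P ↔ ∃ s ∈ tensorWreathStandard 2 3 F, coordIso e P s = g := by
  simp [tensorWreathSubgroup, Subgroup.mem_map, coordIso]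

theorem pureGL_single (i : Fin 3) (A : GL (Fin 2) F) :
    ((pureGL (Pi.mulSingle i A) : GL (Fin 3 → Fin 2) F) : Matrix (Fin 3 → Fin 2) (Fin 3 → Fin 2) F) =
      facM i (A : Matrix (Fin 2) (Fin 2) F) := by
  rw [pureGL_coe, facM]
  congr 1
  funext j
  rcases eq_or_ne j i with rfl | hj
  · simp
  · simp [Pi.mulSingle_eq_of_ne hj, Function.update_of_ne hj]

/-- The product of the quaternion groups of the three planes. -/
def cubeGroup [Fintype F] (hF : Fintype.card F = 3) (e : ι ≃ (Fin 3 → Fin 2)) (P : GL ι F) : Subgroup (GL ι F) :=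
  (Subgroup.pi Set.univ fun _ : Fin 3 => quatGroup hF).map ((coordIso e P).toMonoidHom.comp pureGL)

variable [Fintype F] {hF : Fintype.card F = 3} {e : ι ≃ (Fin 3 → Fin 2)} {P : GL ι F}

theorem mem_cubeGroup {g : GL ι F} :
    g ∈ cubeGroup hF e P ↔ ∃ x : Fin 3 → GL (Fin 2) F, (∀ i, x i ∈ quatGroup hF) ∧ coordIso e P (pureGL x) = g := by
  simp [cubeGroup, Subgroup.mem_map, Subgroup.mem_pi]

theorem cube_single_mem (i : Fin 3) {A : GL (Fin 2) F} (hA : A ∈ quatGroup hF) :
    coordIso e P (pureGL (Pi.mulSingle i A)) ∈ cubeGroup hF e P :=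
  mem_cubeGroup.mpr ⟨_, fun j => by
    rcases eq_or_ne j i with rfl | hj
    · simpa using hA
    · simp [Pi.mulSingle_eq_of_ne hj], rfl⟩

theorem cube_single_comm (i : Fin 3) {A B : GL (Fin 2) F}
    (h : coordIso e P (pureGL (Pi.mulSingle i A)) * coordIso e P (pureGL (Pi.mulSingle i B)) =
      coordIso e P (pureGL (Pi.mulSingle i B)) * coordIso e P (pureGL (Pi.mulSingle i A))) : A * B = B * A := by
  rw [← map_mul, ← map_mul, ← map_mul, ← map_mul, ← Pi.mulSingle_mul, ← Pi.mulSingle_mul] at h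
  have h' := congrArg (fun g : GL (Fin 3 → Fin 2) F => (g : Matrix (Fin 3 → Fin 2) (Fin 3 → Fin 2) F))
    ((coordIso e P).injective h)
  simp only [pureGL_single] at h'
  exact Units.ext (facM_injective i h')

theorem cube_pm_of_all {x : Fin 3 → GL (Fin 2) F}
    (h : ∀ i, (x i : Matrix (Fin 2) (Fin 2) F) = 1 ∨ (x i : Matrix (Fin 2) (Fin 2) F) = -1) :
    coordIso e P (pureGL x) = 1 ∨ coordIso e P (pureGL x) = -1 := by
  have h' : ∀ i, ∃ c : F, (c = 1 ∨ c = -1) ∧ (x i : Matrix (Fin 2) (Fin 2) F) = c • (1 : Matrix (Fin 2) (Fin 2) F) :=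
    fun i => (h i).elim (fun e => ⟨1, Or.inl rfl, by simp [e]⟩) fun e => ⟨-1, Or.inr rfl, by simp [e]⟩
  choose c hc hx using h'
  have hp : ((pureGL x : GL (Fin 3 → Fin 2) F) : Matrix (Fin 3 → Fin 2) (Fin 3 → Fin 2) F) = (∏ i, c i) • 1 := by
    rw [pureGL_coe, ← pureM_one, ← pureM_smul]
    exact congrArg pureM (funext hx)
  have hc' : (∏ i, c i) = 1 ∨ (∏ i, c i) = -1 := by
    rw [Fin.prod_univ_three]
    rcases hc 0 with a | a <;> rcases hc 1 with b | b <;> rcases hc 2 with d | d <;> simp [a, b, d]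
  rcases hc' with e1 | e1
  · exact Or.inl (Units.ext (by simp [coe_coordIso, hp, e1]))
  · exact Or.inr (Units.ext (by simp [coe_coordIso, hp, e1, Matrix.submatrix_neg]))

/-- An element whose commutators inside a subgroup are small is scalar in every factor. -/
theorem cube_scalar_of_commute {x : Fin 3 → GL (Fin 2) F} (hx : ∀ i, x i ∈ quatGroup hF)
    (hc : ∀ g ∈ cubeGroup hF e P, coordIso e P (pureGL x) * g = g * coordIso e P (pureGL x)) (i : Fin 3) :
    (x i : Matrix (Fin 2) (Fin 2) F) = 1 ∨ (x i : Matrix (Fin 2) (Fin 2) F) = -1 := by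
  by_contra hpm
  set y := unitU F * x i * (unitU F)⁻¹
  refine quat_conj_noncomm hF (hx i) hpm ?_
  have h := hc _ (cube_single_mem (e := e) (P := P) i (quat_conj_mem hF (hx i) (unitU F)))
  rw [← map_mul, ← map_mul, ← map_mul, ← map_mul] at h
  have h' := congrArg (fun g : GL (Fin 3 → Fin 2) F => (g : Matrix (Fin 3 → Fin 2) (Fin 3 → Fin 2) F))
    ((coordIso e P).injective h)
  simp only [pureGL_coe] at h'
  have hne : ∀ j, ((x * Pi.mulSingle i y : Fin 3 → GL (Fin 2) F) j : Matrix (Fin 2) (Fin 2) F) ≠ 0 := fun j =>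
    Units.ne_zero _
  choose l hl0 hl using fun j => pureM_unique hne h' j
  have hl1 : ∀ k, k ≠ i → l k = 1 := fun k hk => by
    have e1 := hl k
    simp only [Pi.mul_apply, Pi.mulSingle_eq_of_ne hk, one_mul, mul_one] at e1
    exact smul_left_injective F (Units.ne_zero (x k)) (by simpa using e1.symm)
  have hscal : pureM (fun k => l k • ((x * Pi.mulSingle i y : Fin 3 → GL (Fin 2) F) k : Matrix (Fin 2) (Fin 2) F)) =
      pureM fun k => ((x * Pi.mulSingle i y : Fin 3 → GL (Fin 2) F) k : Matrix (Fin 2) (Fin 2) F) := by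
    simp only [← hl]
    exact h'.symm
  rw [pureM_smul, Finset.prod_eq_single i (fun k _ hk => hl1 k hk) (by simp)] at hscal
  have hli : l i = 1 := smul_left_injective F (M := Matrix (Fin 3 → Fin 2) (Fin 3 → Fin 2) F)
    (show pureM (fun k => (((x * Pi.mulSingle i y : Fin 3 → GL (Fin 2) F)) k : Matrix (Fin 2) (Fin 2) F)) ≠ 0 by
      rw [← pureGL_coe]; exact Units.ne_zero _) (by simpa using hscal)
  have e1 := hl i
  rw [hli, one_smul] at e1
  simp only [Pi.mul_apply, Pi.mulSingle_eq_same] at e1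
  exact Units.ext e1

theorem cube_fixes {f : (ι → F) → (ι → F) → F} (hfs : IsSymplecticForm f) {κ : F}
    (hG : gramCoord (RingEquiv.refl F) f e P = κ • pureM (fun _ => J2 F)) :
    FixesForm (matrixSet (cubeGroup hF e P)) f := by
  rintro _ ⟨g, hg, rfl⟩ u v
  obtain ⟨x, hx, rfl⟩ := mem_cubeGroup.mp hg
  have hf := (reflexForm_of_symplectic hfs).semi
  rw [hf.apply_coord e P, hf.apply_coord e P u v, vecCoord_mulVec, vecCoord_mulVec, matCoord_coordIso, hG, pureGL_coe,
    RingEquiv.coe_refl, Function.id_comp, Function.id_comp]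
  have key : ∀ (M K : Matrix (Fin 3 → Fin 2) (Fin 3 → Fin 2) F) (a b : (Fin 3 → Fin 2) → F),
      (M *ᵥ a) ⬝ᵥ (K *ᵥ (M *ᵥ b)) = a ⬝ᵥ ((Mᵀ * K * M) *ᵥ b) := fun M K a b => by
    rw [← Matrix.mulVec_mulVec, ← Matrix.mulVec_mulVec, Matrix.dotProduct_mulVec a Mᵀ, Matrix.vecMul_transpose]
  rw [key, Matrix.mul_smul, Matrix.smul_mul, pureM_transpose, pureM_mul, pureM_mul]
  congr 2
  refine congrArg (κ • ·) (congrArg (pureM (F := F)) (funext fun i => ?_))
  rw [J2_congr, show ((x i : GL (Fin 2) F) : Matrix (Fin 2) (Fin 2) F).det = 1 from (hx i).1, one_smul]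

theorem cube_absIrr : ActsAbsolutelyIrreducibly (matrixSet (cubeGroup hF e P)) := by
  refine absIrr_of_adjoin_eq_top (eq_top_iff.mpr fun X _ => ?_)
  set A := Algebra.adjoin F (matrixSet (cubeGroup hF e P))
  let L : Matrix (Fin 3 → Fin 2) (Fin 3 → Fin 2) F →ₗ[F] Matrix ι ι F :=
    { toFun := fun Y => (P : Matrix ι ι F) * Y.submatrix e e * ((P⁻¹ : GL ι F) : Matrix ι ι F)
      map_add' := fun Y Z => by rw [Matrix.submatrix_add]; simp [Matrix.mul_add, Matrix.add_mul]
      map_smul' := fun c Y => by rw [Matrix.submatrix_smul]; simp }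
  have hLm : ∀ Y Z, L (Y * Z) = L Y * L Z := fun Y Z => by
    change _ * (Y * Z).submatrix e e * _ = (_ * _ * _) * (_ * _ * _)
    rw [← Matrix.submatrix_mul_equiv Y Z e e e]
    simp only [Matrix.mul_assoc]
    rw [← Matrix.mul_assoc ((P⁻¹ : GL ι F) : Matrix ι ι F), Units.inv_mul, Matrix.one_mul]
  have hfac : ∀ (i : Fin 3) (Y : Matrix (Fin 2) (Fin 2) F), L (facM i Y) ∈ A := fun i Y => by
    let lin : Matrix (Fin 2) (Fin 2) F →ₗ[F] Matrix (Fin 3 → Fin 2) (Fin 3 → Fin 2) F :=
      { toFun := facM i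
        map_add' := fun Y Z => by ext a b; simp only [Matrix.add_apply, facM_apply]; split_ifs <;> simp
        map_smul' := fun c Y => by ext a b; simp only [Matrix.smul_apply, facM_apply, RingHom.id_apply]; split_ifs <;> simp }
    have htop := quat_span hF (Submodule.comap (L.comp lin) A.toSubmodule) fun B hB => by
      change L (facM i (B : Matrix (Fin 2) (Fin 2) F)) ∈ A
      rw [← pureGL_single]
      exact Algebra.subset_adjoin ⟨_, cube_single_mem i hB, rfl⟩
    exact (eq_top_iff.mp htop) Submodule.mem_top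
  have hpure : ∀ M : Fin 3 → Matrix (Fin 2) (Fin 2) F, L (pureM M) ∈ A := fun M => by
    have e1 : pureM M = facM 0 (M 0) * facM 1 (M 1) * facM 2 (M 2) := by
      simp only [facM, pureM_mul]
      refine congrArg pureM (funext fun i => ?_)
      fin_cases i <;> simp
    rw [e1, hLm, hLm]
    exact mul_mem (mul_mem (hfac _ _) (hfac _ _)) (hfac _ _)
  have hXeq : X = L (matCoord e P X) := by
    change _ = _ * (matCoord e P X).submatrix e e * _
    simp [matCoord, Matrix.submatrix_submatrix, ← Matrix.mul_assoc]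
  rw [hXeq, Matrix.matrix_eq_sum_single (matCoord e P X), map_sum]
  refine sum_mem fun a _ => ?_
  rw [map_sum]
  refine sum_mem fun b _ => ?_
  have e2 : Matrix.single a b (matCoord e P X a b) = matCoord e P X a b • pureM fun i => Matrix.single (a i) (b i) (1 : F) := by
    ext p r
    simp only [Matrix.smul_apply, pureM, Matrix.of_apply, Matrix.single_apply, smul_eq_mul]
    by_cases h : a = p ∧ b = r
    · rw [if_pos h]; simp [h.1, h.2]
    · rw [if_neg h]
      have : ∃ i, ¬ (a i = p i ∧ b i = r i) := by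
        by_contra hcon; push Not at hcon
        exact h ⟨funext fun i => (hcon i).1, funext fun i => (hcon i).2⟩
      obtain ⟨i, hi⟩ := this
      rw [Finset.prod_eq_zero (Finset.mem_univ i) (if_neg hi), mul_zero]
  rw [e2, map_smul]
  exact A.smul_mem (hpure _) _

theorem cube_comm (x y : cubeGroup hF e P) :
    (((x * y : cubeGroup hF e P) : GL ι F) : Matrix ι ι F) = (((y * x : cubeGroup hF e P) : GL ι F) : Matrix ι ι F) ∨
      (((x * y : cubeGroup hF e P) : GL ι F) : Matrix ι ι F) = -(((y * x : cubeGroup hF e P) : GL ι F) : Matrix ι ι F) := by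
  obtain ⟨a, ha, hax⟩ := mem_cubeGroup.mp x.2
  obtain ⟨b, hb, hby⟩ := mem_cubeGroup.mp y.2
  have h : ∀ i, ∃ c : F, (c = 1 ∨ c = -1) ∧ (a i : Matrix (Fin 2) (Fin 2) F) * (b i : Matrix (Fin 2) (Fin 2) F) =
      c • ((b i : Matrix (Fin 2) (Fin 2) F) * (a i : Matrix (Fin 2) (Fin 2) F)) := fun i =>
    (quat_comm hF (ha i) (hb i)).elim (fun e => ⟨1, Or.inl rfl, by simp [e]⟩) fun e => ⟨-1, Or.inr rfl, by simp [e]⟩
  choose c hc hab using h
  have hc' : (∏ i, c i) = 1 ∨ (∏ i, c i) = -1 := by
    rw [Fin.prod_univ_three]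
    rcases hc 0 with p | p <;> rcases hc 1 with q | q <;> rcases hc 2 with d | d <;> simp [p, q, d]
  have hp : ((pureGL a * pureGL b : GL (Fin 3 → Fin 2) F) : Matrix (Fin 3 → Fin 2) (Fin 3 → Fin 2) F) =
      (∏ i, c i) • ((pureGL b * pureGL a : GL (Fin 3 → Fin 2) F) : Matrix (Fin 3 → Fin 2) (Fin 3 → Fin 2) F) := by
    rw [Units.val_mul, Units.val_mul, pureGL_coe, pureGL_coe, pureM_mul, pureM_mul, ← pureM_smul]
    exact congrArg pureM (funext hab)
  rw [Subgroup.coe_mul, Subgroup.coe_mul, ← hax, ← hby, ← map_mul (coordIso e P), ← map_mul (coordIso e P), coe_coordIso, coe_coordIso, hp]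
  rcases hc' with e1 | e1 <;> rw [e1]
  · exact Or.inl (by simp)
  · exact Or.inr (by simp [Matrix.submatrix_neg])

theorem cube_pow_four {g : GL ι F} (hg : g ∈ cubeGroup hF e P) : g ^ 4 = 1 := by
  obtain ⟨x, hx, rfl⟩ := mem_cubeGroup.mp hg
  have h : x ^ 4 = 1 := funext fun i => Units.ext (by
    rw [Pi.pow_apply, Units.val_pow_eq_pow_val, show 4 = 2 + 2 from rfl, pow_add, pow_two]
    rcases quat_sq (hx i) with e1 | e1 <;> simp [e1])
  rw [← map_pow, ← map_pow, h, map_one, map_one]

theorem neg_one_mem_cube : (-1 : GL ι F) ∈ cubeGroup hF e P := by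
  have h : coordIso e P (pureGL (Pi.mulSingle 0 (-1))) = (-1 : GL ι F) := Units.ext (by
    rw [coe_coordIso, pureGL_single]
    have e1 : facM (0 : Fin 3) (((-1 : GL (Fin 2) F)) : Matrix (Fin 2) (Fin 2) F) = (-1 : Matrix (Fin 3 → Fin 2) (Fin 3 → Fin 2) F) := by
      ext a b
      rw [facM_apply, Units.val_neg, Units.val_one]
      by_cases hab : a = b
      · subst hab; simp
      · rw [Matrix.neg_apply, Matrix.neg_apply, Matrix.one_apply_ne hab]
        split_ifs with hj
        · have h0 : a 0 ≠ b 0 := fun h0 => hab (funext fun j => if hj0 : j = 0 then hj0 ▸ h0 else hj j hj0)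
          rw [Matrix.one_apply_ne h0]
        · simp
    rw [e1]
    simp [Matrix.submatrix_neg])
  rw [← h]
  exact cube_single_mem 0 (isQuat_pm (Or.inr rfl))

theorem neg_one_ne_one_gl (hF : Fintype.card F = 3) (e : ι ≃ (Fin 3 → Fin 2)) : (-1 : GL ι F) ≠ 1 := fun h => by
  have := congrArg (fun g : GL ι F => (g : Matrix ι ι F) (e.symm 0) (e.symm 0)) h
  simp only [Units.val_neg, Units.val_one, Matrix.neg_apply, Matrix.one_apply_eq] at this
  exact three_two_ne hF (by linear_combination -this)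

theorem card_center_cube : Nat.card (Subgroup.center (cubeGroup hF e P)) = 2 := by
  classical
  have hset : ∀ g : cubeGroup hF e P, g ∈ Subgroup.center (cubeGroup hF e P) ↔
      g ∈ ({1, ⟨-1, neg_one_mem_cube⟩} : Finset (cubeGroup hF e P)) := fun g => by
    rw [Finset.mem_insert, Finset.mem_singleton]
    constructor
    · intro hg
      obtain ⟨x, hx, hxg⟩ := mem_cubeGroup.mp g.2
      have hc : ∀ y ∈ cubeGroup hF e P, coordIso e P (pureGL x) * y = y * coordIso e P (pureGL x) := fun y hy => by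
        rw [hxg]
        exact congrArg Subtype.val ((Subgroup.mem_center_iff.mp hg ⟨y, hy⟩).symm)
      exact (cube_pm_of_all (cube_scalar_of_commute hx hc)).imp (fun h => Subtype.ext (hxg.symm.trans h))
        fun h => Subtype.ext (hxg.symm.trans h)
    · rintro (rfl | rfl)
      · exact one_mem _
      · exact Subgroup.mem_center_iff.mpr fun y => Subtype.ext (by simp)
  rw [show Nat.card (Subgroup.center (cubeGroup hF e P)) =
    Nat.card ({1, ⟨-1, neg_one_mem_cube⟩} : Finset (cubeGroup hF e P)) from Nat.card_congr (Equiv.subtypeEquivRight hset),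
    Nat.card_eq_fintype_card, Fintype.card_coe, Finset.card_pair]
  exact fun h => neg_one_ne_one_gl hF e (congrArg Subtype.val h).symm

theorem card_cubeGroup : Nat.card (cubeGroup hF e P) = 128 := by
  classical
  let Q := Subgroup.pi Set.univ fun _ : Fin 3 => quatGroup hF
  let h : Q →* GL ι F := ((coordIso e P).toMonoidHom.comp pureGL).comp Q.subtype
  have hr : h.range = cubeGroup hF e P := by
    rw [MonoidHom.range_eq_map, ← Subgroup.map_map, ← MonoidHom.range_eq_map, Subgroup.range_subtype]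
    rfl
  have hQ : Nat.card Q = 512 := by
    rw [Nat.card_congr (show Q ≃ (Fin 3 → quatGroup hF) from
      { toFun := fun x i => ⟨x.1 i, x.2 i (Set.mem_univ i)⟩
        invFun := fun x => ⟨fun i => (x i).1, fun i _ => (x i).2⟩
        left_inv := fun x => rfl
        right_inv := fun x => rfl }), Nat.card_pi, Finset.prod_const, card_quatGroup, Finset.card_univ, Fintype.card_fin]
    rfl
  let s : Bool → GL (Fin 2) F := fun b => if b then 1 else -1
  have hs : ∀ b, s b ∈ quatGroup hF := fun b => by cases b <;> [exact isQuat_pm (Or.inr rfl); exact isQuat_pm (Or.inl rfl)]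
  have hne : (-1 : GL (Fin 2) F) ≠ 1 := fun e1 => by
    have := congrArg (fun g : GL (Fin 2) F => (g : Matrix (Fin 2) (Fin 2) F) 0 0) e1
    simp only [Units.val_neg, Units.val_one, Matrix.neg_apply, Matrix.one_apply_eq] at this
    exact three_two_ne hF (by linear_combination -this)
  let emb : Bool × Bool → h.ker := fun p =>
    ⟨⟨![s p.1, s p.2, s p.1 * s p.2], fun i _ =>
      (Fin.forall_fin_succ (P := fun i => (![s p.1, s p.2, s p.1 * s p.2] : Fin 3 → GL (Fin 2) F) i ∈ quatGroup hF)).mpr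
        ⟨hs _, Fin.forall_fin_two.mpr ⟨hs _, mul_mem (hs _) (hs _)⟩⟩ i⟩, by
      rw [MonoidHom.mem_ker]
      change coordIso e P (pureGL ![s p.1, s p.2, s p.1 * s p.2]) = 1
      rw [show pureGL ![s p.1, s p.2, s p.1 * s p.2] = (1 : GL (Fin 3 → Fin 2) F) from Units.ext ?_, map_one]
      rw [pureGL_coe, Units.val_one, ← pureM_one]
      rcases p with ⟨_ | _, _ | _⟩ <;>
      · ext a b
        simp [pureM, s, Fin.prod_univ_three]⟩
  have hbij : Function.Bijective emb := by
    constructor
    · intro p r hpr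
      have e0 : s p.1 = s r.1 := congrFun (congrArg (fun z : h.ker => (z.1 : Fin 3 → GL (Fin 2) F)) hpr) 0
      have e1 : s p.2 = s r.2 := congrFun (congrArg (fun z : h.ker => (z.1 : Fin 3 → GL (Fin 2) F)) hpr) 1
      have si : Function.Injective s := fun a b hab => by
        cases a <;> cases b <;> simp [s, hne, hne.symm] at hab ⊢
      exact Prod.ext (si e0) (si e1)
    · rintro ⟨⟨x, hx⟩, hk⟩
      have hk1 : pureGL x = (1 : GL (Fin 3 → Fin 2) F) := (coordIso e P).injective (hk.trans (map_one _).symm)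
      have hk2 : pureM (fun i => (x i : Matrix (Fin 2) (Fin 2) F)) = pureM fun _ : Fin 3 => (1 : Matrix (Fin 2) (Fin 2) F) := by
        rw [← pureGL_coe, hk1, pureM_one]; rfl
      have hpm : ∀ i, x i = 1 ∨ x i = -1 := fun i => by
        obtain ⟨l, -, hl⟩ := pureM_unique (fun _ => one_ne_zero) hk2.symm i
        rcases isQuat_cases (hx i (Set.mem_univ i)) with hp | ⟨e1, e2⟩
        · exact hp.imp (fun hp => Units.ext hp) fun hp => Units.ext hp
        · rw [hl] at e1 e2
          simp at e1 e2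
          exact absurd (show l * l = -1 by linear_combination -e2) (three_not_sq hF l)
      have hx01 : ∀ i, ∃ b, s b = x i := fun i => (hpm i).elim (fun e1 => ⟨true, e1.symm⟩) fun e1 => ⟨false, e1.symm⟩
      obtain ⟨b0, hb0⟩ := hx01 0
      obtain ⟨b1, hb1⟩ := hx01 1
      refine ⟨(b0, b1), Subtype.ext (Subtype.ext (funext fun i => ?_))⟩
      fin_cases i
      · exact hb0
      · exact hb1
      · change s b0 * s b1 = x 2
        have e000 := congrFun (congrFun hk2 0) 0
        simp [pureM, Fin.prod_univ_three] at e000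
        rw [hb0, hb1]
        rcases hpm 0 with a | a <;> rcases hpm 1 with b | b <;> rcases hpm 2 with c | c <;>
          rw [a, b, c] at e000 ⊢ <;> simp at e000 ⊢ <;>
          exact absurd e000 (fun e9 => three_two_ne hF (by linear_combination -e9))
  have hker : Nat.card h.ker = 4 := by rw [← Nat.card_eq_of_bijective emb hbij]; simp
  have hmul := Subgroup.index_mul_card h.ker
  rw [Subgroup.index_ker, hker, hQ, hr] at hmul
  omega

/-- The cube group has symplectic type. -/
theorem cube_symplecticType : IsSymplecticTypeGroup 2 (cubeGroup hF e P) := by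
  classical
  refine ⟨Nat.prime_two, fun g => ⟨2, Subtype.ext (cube_pow_four g.2)⟩, fun A hA hcomm => ?_, ?_⟩
  · have hle : A ≤ Subgroup.center (cubeGroup hF e P) := fun a ha => by
      obtain ⟨x, hx, hxa⟩ := mem_cubeGroup.mp a.2
      have hpm : ∀ i, (x i : Matrix (Fin 2) (Fin 2) F) = 1 ∨ (x i : Matrix (Fin 2) (Fin 2) F) = -1 := by
        intro i
        by_contra hne
        set T := coordIso e P (pureGL (Pi.mulSingle i (unitU F)))
        have hT : ∀ g ∈ cubeGroup hF e P, T * g * T⁻¹ ∈ cubeGroup hF e P ∧ T⁻¹ * g * T ∈ cubeGroup hF e P := by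
          intro g hg
          obtain ⟨y, hy, rfl⟩ := mem_cubeGroup.mp hg
          simp only [T, ← map_inv, ← map_mul]
          constructor <;> refine mem_cubeGroup.mpr ⟨_, fun j => ?_, rfl⟩
          · exact quat_conj_mem hF (hy j) _
          · have := quat_conj_mem hF (hy j) ((Pi.mulSingle i (unitU F) : Fin 3 → GL (Fin 2) F)⁻¹ j)
            simpa using this
        let α : cubeGroup hF e P ≃* cubeGroup hF e P :=
          { toFun := fun g => ⟨T * g * T⁻¹, (hT g g.2).1⟩
            invFun := fun g => ⟨T⁻¹ * g * T, (hT g g.2).2⟩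
            left_inv := fun g => Subtype.ext (by group)
            right_inv := fun g => Subtype.ext (by group)
            map_mul' := fun g k => Subtype.ext (by simp [mul_assoc]) }
        have hα : ∀ b ∈ A, α b ∈ A := fun b hb => by
          have := hA.fixed α
          exact Subgroup.mem_comap.mp (this.symm ▸ hb : b ∈ A.comap α.toMonoidHom)
        have hqQ : unitU F * x i * (unitU F)⁻¹ * (x i)⁻¹ ∈ quatGroup hF :=
          mul_mem (quat_conj_mem hF (hx i) _) (inv_mem (hx i))
        have hb : ((α a * a⁻¹ : cubeGroup hF e P) : GL ι F) =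
            coordIso e P (pureGL (Pi.mulSingle i (unitU F * x i * (unitU F)⁻¹ * (x i)⁻¹))) := by
          change T * a * T⁻¹ * (a : GL ι F)⁻¹ = _
          rw [← hxa]
          simp only [T, ← map_inv, ← map_mul]
          refine congrArg _ (congrArg _ (funext fun j => ?_))
          rcases eq_or_ne j i with rfl | hj
          · simp
          · simp [Pi.mulSingle_eq_of_ne hj]
        set q := unitU F * x i * (unitU F)⁻¹ * (x i)⁻¹ with hq
        have hqpm : ¬ ((q : Matrix (Fin 2) (Fin 2) F) = 1 ∨ (q : Matrix (Fin 2) (Fin 2) F) = -1) := fun hpm' => by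
          refine quat_conj_noncomm hF (hx i) hne ?_
          have e1 : unitU F * x i * (unitU F)⁻¹ = q * x i := by rw [hq, inv_mul_cancel_right]
          rw [e1]
          rcases hpm' with e2 | e2
          · rw [show q = 1 from Units.ext e2]; simp
          · rw [show q = -1 from Units.ext e2]; simp
        have hmem : α a * a⁻¹ ∈ A := mul_mem (hα a ha) (inv_mem ha)
        have hb2 : ((α (α a * a⁻¹) : cubeGroup hF e P) : GL ι F) =
            coordIso e P (pureGL (Pi.mulSingle i (unitU F * q * (unitU F)⁻¹))) := by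
          change T * ((α a * a⁻¹ : cubeGroup hF e P) : GL ι F) * T⁻¹ = _
          rw [hb]
          simp only [T, ← map_inv, ← map_mul]
          refine congrArg _ (congrArg _ (funext fun j => ?_))
          rcases eq_or_ne j i with rfl | hj
          · simp
          · simp [Pi.mulSingle_eq_of_ne hj]
        refine quat_conj_noncomm hF hqQ hqpm (cube_single_comm (e := e) (P := P) i ?_)
        rw [← hb, ← hb2, ← Subgroup.coe_mul, ← Subgroup.coe_mul]
        haveI := hcomm
        exact congrArg (fun z : A => ((z : cubeGroup hF e P) : GL ι F))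
          (mul_comm' (⟨_, hα _ hmem⟩ : A) ⟨_, hmem⟩)
      rw [Subgroup.mem_center_iff]
      intro y
      apply Subtype.ext
      rcases cube_pm_of_all (e := e) (P := P) hpm with h1 | h1 <;>
        simp [Subgroup.coe_mul, ← hxa, h1]
    haveI : Fact (Nat.Prime 2) := ⟨Nat.prime_two⟩
    haveI : IsCyclic (Subgroup.center (cubeGroup hF e P)) := isCyclic_of_prime_card card_center_cube
    exact isCyclic_of_injective (Subgroup.inclusion hle) (Subgroup.inclusion_injective hle)
  · change Monoid.exponent (cubeGroup hF e P) = 2 * Nat.gcd 2 2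
    rw [Nat.gcd_self]
    have hd : Monoid.exponent (cubeGroup hF e P) ∣ 2 ^ 2 :=
      Monoid.exponent_dvd_of_forall_pow_eq_one fun g => Subtype.ext (cube_pow_four g.2)
    obtain ⟨k, hk, hk'⟩ := (Nat.dvd_prime_pow Nat.prime_two).mp hd
    interval_cases k
    all_goals first | exact hk' | skip
    all_goals
      exfalso
      have hi : (J2 F) ∈ {M : Matrix (Fin 2) (Fin 2) F | IsQuat M} :=
        ⟨J2_det, Or.inl (by simp [J2, Matrix.trace_fin_two])⟩
      let jj : GL (Fin 2) F := Matrix.GeneralLinearGroup.mkOfDetNeZero (J2 F) (by rw [J2_det]; exact one_ne_zero)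
      have hm : coordIso e P (pureGL (Pi.mulSingle 0 jj)) ∈ cubeGroup hF e P := cube_single_mem 0 hi
      have h1 : coordIso e P (pureGL (Pi.mulSingle 0 jj)) ^ 2 = 1 := by
        have h9 := Monoid.pow_exponent_eq_one (⟨_, hm⟩ : cubeGroup hF e P)
        rw [hk'] at h9
        have h10 := congrArg Subtype.val h9
        simp at h10
        first
          | exact h10
          | rw [h10, map_one, one_pow]
      rw [← map_pow, ← map_pow, ← Pi.mulSingle_pow] at h1
      have h2 : pureGL (Pi.mulSingle (0 : Fin 3) (jj ^ 2)) = (1 : GL (Fin 3 → Fin 2) F) :=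
        (coordIso e P).injective (h1.trans (map_one _).symm)
      have h3 := congrArg (fun g : GL (Fin 3 → Fin 2) F => (g : Matrix (Fin 3 → Fin 2) (Fin 3 → Fin 2) F) 0 0) h2
      simp [pureGL_single, facM_apply, jj, pow_two, J2, Matrix.GeneralLinearGroup.mkOfDetNeZero, Matrix.mul_apply] at h3
      exact three_two_ne hF (by linear_combination -h3)

theorem cube_minusType {f : (ι → F) → (ι → F) → F} (hfs : IsSymplecticForm f) {κ : F}
    (hG : gramCoord (RingEquiv.refl F) f e P = κ • pureM (fun _ => J2 F)) : IsOfMinusType 3 (cubeGroup hF e P) :=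
  haveI : Nonempty ι := ⟨e.symm 0⟩
  minus_type_of_symplectic (three_two_ne hF) hfs cube_absIrr (cube_fixes hfs hG) cube_comm card_cubeGroup card_center_cube

/-- The wreath group normalises the cube group. -/
theorem wreath_le_normalizer_cube : tensorWreathSubgroup 2 3 e P ≤ subgroupNormalizer (cubeGroup hF e P) := by
  intro g hg
  obtain ⟨s, hs, rfl⟩ := (mem_tensorWreath_iff e P).mp hg
  suffices hle : tensorWreathStandard 2 3 F ≤ (subgroupNormalizer (cubeGroup hF e P)).comap (coordIso e P).toMonoidHom from hle hs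
  refine (Subgroup.closure_le _).mpr fun t ht => ?_
  rw [SetLike.mem_coe, Subgroup.mem_comap]
  refine Subgroup.mem_normalizer_fintype fun g hg => ?_
  obtain ⟨x, hx, rfl⟩ := mem_cubeGroup.mp hg
  rcases ht with ⟨gs, hgs⟩ | ⟨π, hπ⟩
  · have ht' : t = pureGL gs := Units.ext (Matrix.ext hgs)
    refine mem_cubeGroup.mpr ⟨gs * x * gs⁻¹, fun j => quat_conj_mem hF (hx j) _, ?_⟩
    change _ = coordIso e P t * coordIso e P (pureGL x) * (coordIso e P t)⁻¹
    rw [ht', ← map_inv, ← map_inv, ← map_mul, ← map_mul, ← map_mul, ← map_mul]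
  · refine mem_cubeGroup.mpr ⟨fun j => x (π.symm j), fun j => hx _, ?_⟩
    change _ = coordIso e P t * coordIso e P (pureGL x) * (coordIso e P t)⁻¹
    rw [← map_inv, ← map_mul, ← map_mul]
    refine congrArg _ (eq_mul_inv_of_mul_eq (Units.ext ?_))
    rw [Units.val_mul, Units.val_mul, pureGL_coe, pureGL_coe,
      show (t : Matrix (Fin 3 → Fin 2) (Fin 3 → Fin 2) F) = factorPermM 2 F π from Matrix.ext hπ]
    exact (factorPermM_pureM (F := F) π fun i => (x i : Matrix (Fin 2) (Fin 2) F)).symm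

end cube

end Cfsg.Agent.Classical
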