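/-
Planes over the field with two elements and tensor products with O₃(3) in symplectic groups.
-/
import Cfsg.Agent.Lib.Classical.FormSpMaximal
import Cfsg.Agent.Lib.Classical.DecompFamily

set_option autoImplicit false
set_option linter.style.haveILetI false
set_option linter.unusedSectionVars false

namespace Cfsg.Agent.Classical

open Matrix Cfsg.Geo
open scoped Kronecker

variable {m : ℕ} {F : Type*} [Field F] [Fintype F]

/-- Over the field with two elements the stabiliser of planes fixes a quadratic form. -/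
theorem quad_of_planes (hm : 0 < m) (hF : Fintype.card F = 2) {t : ℕ} {D : Fin t → Submodule F (Fin m ⊕ Fin m → F)}
    (hD : IsNondegenerateMDecomposition (sympForm m F) 2 D) :
    ∃ Q : (Fin m ⊕ Fin m → F) → F, IsNondegenerateQuadraticForm Q ∧
      (∀ u v, QuadraticMap.polar Q u v = sympForm m F u v) ∧
      decompositionStabilizer D ⊓ spGL m F ≤ quadSimilarityGroup Q := by
  classical
  haveI : Nonempty (Fin m ⊕ Fin m) := ⟨.inl ⟨0, hm⟩⟩
  have hfs := sympForm_isSymplectic (m := m) (F := F)
  have hf := reflexForm_of_symplectic hfs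
  set f := sympForm m F
  have hel : ∀ x : F, x = 0 ∨ x = 1 := by
    intro x
    by_contra hcon
    push Not at hcon
    have h : ({0, 1, x} : Finset F).card ≤ 2 := hF ▸ Finset.card_le_univ _
    rw [Finset.card_insert_of_notMem (by simp [hcon.1.symm]), Finset.card_pair (Ne.symm hcon.2)] at h
    omega
  have h2 : (2 : F) = 0 := by
    rcases hel 2 with h | h
    · exact h
    · exact absurd (show (1 : F) = 0 by linear_combination h) one_ne_zero
  -- components
  have hex : ∀ v, ∃ c : Fin t → (Fin m ⊕ Fin m → F), (∀ i, c i ∈ D i) ∧ ∑ i, c i = v := by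
    intro v
    have hv : v ∈ iSup D := hD.decomp.iSup_eq_top ▸ Submodule.mem_top
    obtain ⟨c, hc, hsum⟩ := (Submodule.mem_iSup_iff_exists_finsupp _ _).mp hv
    refine ⟨c, hc, ?_⟩
    rw [← hsum, Finsupp.sum_fintype _ _ (fun _ => rfl)]
  choose c hc hsum using hex
  have hcomp : ∀ v i, ∀ w ∈ D i, f v w = f (c v i) w := fun v i w hw => by
    conv_lhs => rw [← hsum v, hf.sum_left]
    exact Finset.sum_eq_single i (fun j _ hj => hD.orthogonal j i hj _ (hc v j) _ hw) (fun h => absurd (Finset.mem_univ _) h)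
  let P : (Fin m ⊕ Fin m → F) → Fin t → Prop := fun v i => ∃ w ∈ D i, f v w ≠ 0
  have hP : ∀ v i, P v i ↔ c v i ≠ 0 := by
    intro v i
    refine ⟨fun ⟨w, hw, hne⟩ h0 => hne (by rw [hcomp v i w hw, h0, hf.zero_left]), fun h0 => ?_⟩
    obtain ⟨w, hw, hne⟩ := (hD.nondegenerate i _ (hc v i) h0).2
    exact ⟨w, hw, by rwa [hcomp v i w hw]⟩
  have hcadd : ∀ a b i, c (a + b) i = c a i + c b i := by
    intro a b i
    by_contra hne
    obtain ⟨w, hw, h⟩ := (hD.nondegenerate i _ ((D i).sub_mem (hc (a + b) i) ((D i).add_mem (hc a i) (hc b i)))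
      (sub_ne_zero.mpr hne)).2
    apply h
    rw [sub_eq_add_neg, hf.semi.add_left, hf.neg_left, hf.semi.add_left, ← hcomp _ i w hw, ← hcomp _ i w hw,
      ← hcomp _ i w hw, hf.semi.add_left, add_neg_cancel]
  let ind : (Fin m ⊕ Fin m → F) → F := fun x => if x = 0 then 0 else 1
  let Q : (Fin m ⊕ Fin m → F) → F := fun v => ∑ i, ind (c v i)
  have hpol : ∀ u v, QuadraticMap.polar Q u v = f u v := by
    intro u v
    have key : ∀ i, ind (c u i + c v i) - ind (c u i) - ind (c v i) = f (c u i) (c v i) := by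
      intro i
      set a := c u i with ha'
      set b := c v i with hb'
      rcases eq_or_ne a 0 with ha | ha
      · simp [ind, ha, hf.zero_left]
      rcases eq_or_ne b 0 with hb | hb
      · simp [ind, hb, hf.zero_right]
      rcases eq_or_ne a b with e | hne
      · simp only [← e, ← two_smul F a, h2, zero_smul, ind, if_pos, if_neg ha, hfs.alternating]
        linear_combination -h2
      have hab : a + b ≠ 0 := fun e => hne (by
        rw [eq_neg_of_add_eq_zero_left e, ← neg_one_smul F b, show (-1 : F) = 1 by linear_combination -h2, one_smul])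
      have hfab : f a b = 1 := by
        refine (hel _).resolve_left fun h0 => ?_
        have hli : LinearIndependent F ![a, b] := by
          rw [linearIndependent_fin2]
          refine ⟨hb, fun s e => ?_⟩
          simp only [Matrix.cons_val_zero, Matrix.cons_val_one] at e
          rcases hel s with rfl | rfl
          · exact ha (by rw [← e, zero_smul])
          · exact hne (by rw [← e, one_smul])
        have hspan : Submodule.span F (Set.range ![a, b]) = D i := by
          refine Submodule.eq_of_le_of_finrank_eq (Submodule.span_le.mpr ?_) ?_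
          · rintro _ ⟨j, rfl⟩
            fin_cases j
            · exact hc u i
            · exact hc v i
          · rw [finrank_span_eq_card hli, hD.decomp.finrank_eq, Fintype.card_fin]
        obtain ⟨x, hx, hax⟩ := (hD.nondegenerate i a (hc u i) ha).2
        rw [← hspan] at hx
        obtain ⟨g, rfl⟩ := (Submodule.mem_span_range_iff_exists_fun F).mp hx
        apply hax
        simp [Fin.sum_univ_two, hf.semi.add_right, hf.semi.smul_right, hfs.alternating, h0]
      simp only [ind, if_neg hab, if_neg ha, if_neg hb, hfab]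
      linear_combination -h2
    calc QuadraticMap.polar Q u v = ∑ i, (ind (c u i + c v i) - ind (c u i) - ind (c v i)) := by
          simp [QuadraticMap.polar, Q, hcadd, Finset.sum_sub_distrib]
      _ = ∑ i, f u (c v i) := Finset.sum_congr rfl fun i _ => by rw [key, hcomp u i _ (hc v i)]
      _ = f u v := by
          conv_rhs => rw [← hsum v]
          exact (map_sum (AddMonoidHom.mk' (f u) (hf.semi.add_right u)) _ _).symm
  have hQ0 : Q 0 = 0 := Finset.sum_eq_zero fun i _ => by
    have := hcadd 0 0 i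
    rw [add_zero, left_eq_add] at this
    simp [ind, this]
  have hfun : (fun u v => QuadraticMap.polar Q u v) = f := funext fun u => funext fun v => hpol u v
  refine ⟨Q, ⟨fun a v => ?_, ?_, ?_⟩, hpol, ?_⟩
  · rcases hel a with rfl | rfl <;> simp [hQ0]
  · rw [show QuadraticMap.polar Q = f from hfun]; exact hfs.bilinear
  · rw [show QuadraticMap.polar Q = f from hfun]; exact hfs.nondegenerate
  · rintro g ⟨⟨π, hπ⟩, hg⟩
    refine ⟨1, fun v => ?_⟩
    rw [Units.val_one, one_mul]
    have hiff : ∀ i, (c ((g : Matrix (Fin m ⊕ Fin m) (Fin m ⊕ Fin m) F) *ᵥ v) (π i) ≠ 0 ↔ c v i ≠ 0) := by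
      intro i
      rw [← hP, ← hP]
      constructor
      · rintro ⟨w, hw, hne⟩
        rw [← hπ] at hw
        obtain ⟨w', hw', rfl⟩ := hw
        exact ⟨w', hw', by rw [Matrix.toLin'_apply] at hne; exact fun e => hne ((hg v w').trans e)⟩
      · rintro ⟨w, hw, hne⟩
        refine ⟨(g : Matrix (Fin m ⊕ Fin m) (Fin m ⊕ Fin m) F) *ᵥ w, ?_, fun e => hne ((hg v w).symm.trans e)⟩
        rw [← hπ]
        exact ⟨w, hw, rfl⟩
    simp only [Q]
    rw [← Equiv.sum_comp π]
    refine Finset.sum_congr rfl fun i _ => ?_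
    have h := not_iff_not.mp (hiff i)
    simp only [ind]
    by_cases h' : c v i = 0
    · rw [if_pos h', if_pos (h.mpr h')]
    · rw [if_neg h', if_neg fun e => h' (h.mp e)]

/-- Over the field with three elements a tensor product with O₃ fixes a decomposition into three. -/
theorem decomp_of_tensor_three (hm : 0 < m) (hF : Fintype.card F = 3) {n₁ : ℕ} (hn₁ : 0 < n₁)
    {e : (Fin m ⊕ Fin m) ≃ Fin n₁ × Fin 3} {P : GL (Fin m ⊕ Fin m) F}
    {f₁ : (Fin n₁ → F) → (Fin n₁ → F) → F} {f₂ : (Fin 3 → F) → (Fin 3 → F) → F} (hf₁ : IsSymplecticForm f₁)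
    (hf₂ : IsSymmetricForm f₂) (hT : IsTensorFormStructure id (sympForm m F) f₁ f₂ e P)
    {H : Subgroup (GL (Fin m ⊕ Fin m) F)} (hle : H ≤ tensorProductSubgroup n₁ 3 e P) (hH : H ≤ spGL m F) :
    ∃ D : Fin 3 → Submodule F (Fin m ⊕ Fin m → F), IsNondegenerateMDecomposition (sympForm m F) n₁ D ∧
      H ≤ decompositionStabilizer D := by
  classical
  haveI : Nonempty (Fin m ⊕ Fin m) := ⟨.inl ⟨0, hm⟩⟩
  have hfs := sympForm_isSymplectic (m := m) (F := F)
  have hf := reflexForm_of_symplectic hfs
  set f := sympForm m F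
  have h3 : (3 : F) = 0 := by
    have := FiniteField.cast_card_eq_zero F
    rw [hF] at this
    exact_mod_cast this
  have h2 : (2 : F) ≠ 0 := fun h => one_ne_zero (α := F) (by linear_combination h3 - h)
  have hsq : ∀ x : F, x = 0 ∨ x * x = 1 := fun x => by
    rcases eq_or_ne x 0 with h | h
    · exact Or.inl h
    · have := FiniteField.pow_card_sub_one_eq_one x h
      rw [hF] at this
      exact Or.inr (by rw [← this]; ring)
  obtain ⟨c, hc, hT⟩ := hT
  have hgram : gramCoord (RingEquiv.refl F) f e P = c • (gramMatrix f₁ ⊗ₖ gramMatrix f₂) := by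
    ext x y
    have h := hT (Pi.single x 1) (Pi.single y 1)
    rw [hf.semi.coord_apply e P, show (id : F → F) = (RingEquiv.refl F : F → F) from rfl, formOfGram_eq] at h
    simpa [Matrix.mulVec, dotProduct, Pi.single_apply] using h
  have hd₁ : (gramMatrix f₁).det ≠ 0 :=
    det_gram_ne_zero (RingEquiv.refl F) (reflexForm_of_symplectic hf₁).semi hf₁.nondegenerate
  have hd₂ : (gramMatrix f₂).det ≠ 0 :=
    det_gram_ne_zero (RingEquiv.refl F) (reflexForm_of_symmetric hf₂).semi hf₂.nondegenerate
  obtain ⟨s, A, hs, hA⟩ := symmetric_congr h2 (by decide) hd₂ (fun i j => hf₂.symm _ _)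
  have hkr : ∀ g ∈ H, ∃ (a : GL (Fin n₁) F) (b : GL (Fin 3) F),
      matCoord e P (g : Matrix (Fin m ⊕ Fin m) (Fin m ⊕ Fin m) F) =
        (a : Matrix (Fin n₁) (Fin n₁) F) ⊗ₖ (b : Matrix (Fin 3) (Fin 3) F) :=
    fun g hg => by
      obtain ⟨a, b, h⟩ := (mem_conj_reindex_iff e P).mp (hle hg)
      rw [coe_glReindex_conj] at h
      exact ⟨a, b, h⟩
  obtain ⟨P', hP', hkr'⟩ := exists_tensor_rebase e P hgram (1 : GL (Fin n₁) F) A hkr
  simp only [Units.val_one, Matrix.transpose_one, Matrix.one_mul, RingEquiv.coe_refl, Matrix.map_id, Matrix.mul_one,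
    hA, Matrix.kronecker_smul, smul_smul] at hP'
  set G₁ := gramMatrix f₁
  set κ := c * s with hκ
  have hκ0 : κ ≠ 0 := mul_ne_zero hc hs
  choose b hb using fun x : Fin 3 × Fin n₁ => vecCoord_surjective e P' (Pi.single (x.2, x.1) (1 : F))
  have hfb : ∀ x y, f (b x) (b y) = if x.1 = y.1 then (κ • G₁) x.2 y.2 else 0 := by
    rintro ⟨i, j⟩ ⟨i', j'⟩
    rw [hf.semi.apply_coord e P', hb, hb, hP']
    simp [Matrix.mulVec_single_one, single_one_dotProduct, Matrix.one_apply, RingEquiv.coe_refl]
  have hcard : 3 * n₁ = Fintype.card (Fin m ⊕ Fin m) := by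
    rw [Fintype.card_congr e, Fintype.card_prod, Fintype.card_fin, Fintype.card_fin, mul_comm]
  have hD := hf.nondeg_decomp_of_family (t := 3) (by norm_num) hn₁ hcard b
    (G := κ • G₁) (by rw [Matrix.det_smul]; exact mul_ne_zero (pow_ne_zero _ hκ0) hd₁) hfb
  refine ⟨blockSpan b, hD, fun g hg => mem_stabilizer_of_family hD.decomp fun i => ?_⟩
  obtain ⟨a, B, hab⟩ := hkr' g hg
  have hiso := hf.gramCoord_isometry e P' (g := g) (spGL_fixes hH _ (coe_mem_matrixSet hg))
  rw [hab, hP', RingEquiv.coe_refl, Matrix.map_id, Matrix.mul_smul, Matrix.smul_mul, ← Matrix.kroneckerMap_transpose,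
    ← Matrix.mul_kronecker_mul, Matrix.mul_one, ← Matrix.mul_kronecker_mul] at hiso
  have hiso' := smul_right_injective (Matrix (Fin n₁ × Fin 3) (Fin n₁ × Fin 3) F) hκ0 hiso
  obtain ⟨j, l, hjl⟩ : ∃ j l, G₁ j l ≠ 0 := by
    by_contra hcon
    push Not at hcon
    haveI : Nonempty (Fin n₁) := ⟨⟨0, hn₁⟩⟩
    exact hd₁ (by rw [show G₁ = 0 from Matrix.ext hcon, Matrix.det_zero])
  set α := ((a : Matrix (Fin n₁) (Fin n₁) F)ᵀ * G₁ * (a : Matrix (Fin n₁) (Fin n₁) F)) j l
  set N := (B : Matrix (Fin 3) (Fin 3) F)ᵀ * (B : Matrix (Fin 3) (Fin 3) F)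
  have hent : ∀ x y, α * N x y = if x = y then G₁ j l else 0 := fun x y => by
    have h := congrFun (congrFun hiso' (j, x)) (l, y)
    rw [Matrix.kronecker_apply, Matrix.kronecker_apply, Matrix.one_apply, mul_ite, mul_one, mul_zero] at h
    exact h
  have hα : α ≠ 0 := fun h => hjl (by simpa [h] using (hent 0 0).symm)
  have hN : N = (G₁ j l / α) • 1 := by
    ext x y
    rw [Matrix.smul_apply, Matrix.one_apply, smul_eq_mul, mul_ite, mul_one, mul_zero]
    split_ifs with h
    · have h' := hent x y
      rw [if_pos h] at h'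
      rw [← h', mul_div_cancel_left₀ _ hα]
    · have h' := hent x y
      rw [if_neg h] at h'
      exact (mul_eq_zero.mp h').resolve_left hα
  have hν : G₁ j l / α = 1 := by
    have hdet := congrArg Matrix.det hN
    rw [Matrix.det_mul, Matrix.det_transpose, Matrix.det_smul, Matrix.det_one, mul_one, Fintype.card_fin] at hdet
    have hB0 : (B : Matrix (Fin 3) (Fin 3) F).det ≠ 0 := (Matrix.GeneralLinearGroup.det B).ne_zero
    rw [(hsq _).resolve_left hB0] at hdet
    rcases hsq (G₁ j l / α) with h | h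
    · exact absurd h (div_ne_zero hjl hα)
    · linear_combination -hdet - (G₁ j l / α) * h
  have hcol : ∑ x, B.val x i * B.val x i = 1 := by
    have := congrFun (congrFun hN i) i
    rw [hν, one_smul, Matrix.one_apply_eq] at this
    simp only [N, Matrix.mul_apply] at this
    simpa [Matrix.transpose_apply] using this
  obtain ⟨i', hi'⟩ : ∃ i', ∀ r, r ≠ i' → B.val r i = 0 := by
    rw [Fin.sum_univ_three] at hcol
    rcases hsq (B.val 0 i) with h0 | h0 <;> rcases hsq (B.val 1 i) with h1 | h1 <;> rcases hsq (B.val 2 i) with h2' | h2'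
    · exfalso
      simp only [h0, h1, h2', mul_zero, add_zero, zero_add] at hcol
      exact zero_ne_one hcol
    · exact ⟨2, fun r hr => by fin_cases r <;> first | exact absurd rfl hr | assumption⟩
    · exact ⟨1, fun r hr => by fin_cases r <;> first | exact absurd rfl hr | assumption⟩
    · exfalso
      simp only [h0, h1, h2', mul_zero, add_zero, zero_add] at hcol
      exact one_ne_zero (α := F) (by linear_combination hcol)
    · exact ⟨0, fun r hr => by fin_cases r <;> first | exact absurd rfl hr | assumption⟩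
    · exfalso
      simp only [h0, h1, h2', mul_zero, add_zero, zero_add] at hcol
      exact one_ne_zero (α := F) (by linear_combination hcol)
    · exfalso
      simp only [h0, h1, h2', mul_zero, add_zero, zero_add] at hcol
      exact one_ne_zero (α := F) (by linear_combination hcol)
    · exfalso
      simp only [h0, h1, h2', mul_zero, add_zero, zero_add] at hcol
      exact one_ne_zero (α := F) (by linear_combination h3 - hcol)
  refine ⟨i', fun j₀ => ?_⟩
  have heq : (g : Matrix (Fin m ⊕ Fin m) (Fin m ⊕ Fin m) F) *ᵥ b (i, j₀) =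
      ∑ j', (a.val j' j₀ * B.val i' i) • b (i', j') := by
    refine vecCoord_injective e P' ?_
    rw [vecCoord_mulVec, hb, hab]
    have hsum : ∀ (c : Fin n₁ → F) (v : Fin n₁ → Fin m ⊕ Fin m → F),
        vecCoord e P' (∑ j', c j' • v j') = ∑ j', c j' • vecCoord e P' (v j') := fun c v => by
      funext x
      simp [vecCoord, Matrix.mulVec_sum, Matrix.mulVec_smul]
    rw [hsum]
    simp only [hb]
    funext ⟨r, l⟩
    rw [Matrix.mulVec_single_one]
    simp only [Matrix.col_apply, Matrix.kronecker_apply, Finset.sum_apply, Pi.smul_apply, Pi.single_apply,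
      Prod.mk.injEq, smul_eq_mul, mul_ite, mul_one, mul_zero]
    by_cases hl : l = i'
    · subst hl; simp
    · simp [hl, hi' l hl]
  rw [heq]
  exact Submodule.sum_mem _ fun j' _ => Submodule.smul_mem _ _ (mem_blockSpan b i' j')

/-- A maximal stabiliser of planes over the field with two elements is a class eight member. -/
theorem maximal_quad_of_planes (hm : 3 ≤ m) (hF : Fintype.card F = 2) {t : ℕ}
    {D : Fin t → Submodule F (Fin m ⊕ Fin m → F)} {H : Subgroup (GL (Fin m ⊕ Fin m) F)}
    (hH : IsMaximalIn (spGL m F) H) (hD : IsNondegenerateMDecomposition (sympForm m F) 2 D)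
    (h : H = decompositionStabilizer D ⊓ spGL m F) :
    ¬ Odd (Fintype.card F) ∧ ∃ Q : (Fin m ⊕ Fin m → F) → F, IsNondegenerateQuadraticForm Q ∧
      (∀ u v, QuadraticMap.polar Q u v = sympForm m F u v) ∧ H = quadSimilarityGroup Q ⊓ spGL m F := by
  obtain ⟨Q, hQ, hpol, hle⟩ := quad_of_planes (by omega) hF hD
  refine ⟨by rw [hF]; decide, Q, hQ, hpol, eq_inf_of_maximalIn hH (h.trans_le hle) (not_sp_le_quad (by omega) ?_ hQ hpol)⟩
  have := FiniteField.cast_card_eq_zero F
  rw [hF] at this
  exact_mod_cast this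

/-- A maximal tensor product with O₃(3) is the stabiliser of a decomposition into three. -/
theorem maximal_decomp_of_tensor_three (hm : 3 ≤ m) (hF : Fintype.card F = 3) {n₁ : ℕ} (hn₁ : 1 < n₁)
    {e : (Fin m ⊕ Fin m) ≃ Fin n₁ × Fin 3} {P : GL (Fin m ⊕ Fin m) F}
    {f₁ : (Fin n₁ → F) → (Fin n₁ → F) → F} {f₂ : (Fin 3 → F) → (Fin 3 → F) → F} (hf₁ : IsSymplecticForm f₁)
    (hf₂ : IsSymmetricForm f₂) (hT : IsTensorFormStructure id (sympForm m F) f₁ f₂ e P)
    {H : Subgroup (GL (Fin m ⊕ Fin m) F)} (hH : IsMaximalIn (spGL m F) H)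
    (h : H = tensorProductSubgroup n₁ 3 e P ⊓ spGL m F) :
    ∃ D : Fin 3 → Submodule F (Fin m ⊕ Fin m → F), IsNondegenerateMDecomposition (sympForm m F) n₁ D ∧
      H = decompositionStabilizer D ⊓ spGL m F := by
  obtain ⟨D, hD, hle⟩ := decomp_of_tensor_three (H := H) (by omega) hF (by omega) hf₁ hf₂ hT
    (h.trans_le inf_le_left) hH.1.le
  exact ⟨D, hD, eq_inf_of_maximalIn hH hle (not_sp_le_decomp (by omega) hD.decomp hn₁)⟩

end Cfsg.Agent.Classical
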