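/-
Members of the geometric classes of a unitary group containing a given irreducible subgroup.
-/
import Cfsg.Agent.Lib.Classical.FormPower
import Cfsg.Agent.Lib.Classical.FormSmallSolvable
import Cfsg.Agent.Lib.Classical.FormField
import Cfsg.Agent.Lib.Classical.FormReducible
import Cfsg.Agent.Lib.Classical.LinMaximalGeneral
import Cfsg.Agent.Lib.Classical.LinAschbacher

set_option autoImplicit false
set_option linter.style.haveILetI false
set_option linter.unusedSectionVars false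

namespace Cfsg.Agent.Classical

open Matrix Cfsg.Geo
open scoped Kronecker

variable {n q : ℕ} {F : Type*} [Field F] [Fintype F] {σ : F ≃+* F}

/-- `H` lies in a member of a geometric class of the unitary group. -/
def UMember (q : ℕ) (H : Subgroup (GL (Fin n) F)) : Prop := ∃ M, InUnitaryClass n F q M ∧ H ≤ M

/-- The excluded tensor square: `q = 2`, two factors of dimension three, the standard unitary form on each. -/
def SquareSpecial (q : ℕ) (σ : F ≃+* F) (H : Subgroup (GL (Fin n) F)) : Prop :=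
  q = 2 ∧ ∃ (e : Fin n ≃ (Fin 2 → Fin 3)) (P : GL (Fin n) F) (c : F), c ≠ 0 ∧
    gramCoord σ (hermForm n F q) e P = c • pureM (fun _ => (1 : Matrix (Fin 3) (Fin 3) F)) ∧
      H ≤ tensorWreathSubgroup 3 2 e P

variable {H : Subgroup (GL (Fin n) F)} (hσ : IsUSigma q σ)

include hσ

theorem IsUSigma.uMember_of_reducible (hH : H ≤ GU n F q) (hred : ¬ ActsIrreducibly (matrixSet H)) : UMember q H := by
  have hf := reflexForm_of_unitary (hσ.isUnitaryForm (n := n))
  rcases hf.reducible_cases (GU_fixes hH) hred with ⟨W, h0, hts, h⟩ | ⟨W, h0, hnd, hlt, h⟩ | ⟨k, D, -, hD, h⟩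
  · exact ⟨_, Or.inl (Or.inl ⟨W, h0, hts, rfl⟩), le_inf h hH⟩
  · exact ⟨_, Or.inl (Or.inr (Or.inl ⟨W, h0, hnd, by simpa using hlt, rfl⟩)), le_inf h hH⟩
  · exact ⟨_, Or.inl (Or.inr (Or.inr (Or.inl ⟨_, _, D, hD, rfl⟩))), le_inf h hH⟩

/-- An irreducible group normalising a non-scalar commutative adjoint-closed algebra lies in a member. -/
theorem IsUSigma.uMember_of_algebra (hn : 0 < n) (hH : H ≤ GU n F q) (hirr : ActsIrreducibly (matrixSet H))
    {Z : Subalgebra F (Matrix (Fin n) (Fin n) F)} (hZ : ∀ x ∈ Z, ∀ y ∈ Z, x * y = y * x)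
    (hnorm : H ≤ subalgebraNormalizer Z) (hZadj : ∀ z ∈ Z, formAdj σ (hermForm n F q) z ∈ Z)
    (hns : ∃ z ∈ Z, ∀ c : F, z ≠ c • (1 : Matrix (Fin n) (Fin n) F)) : UMember q H := by
  classical
  haveI : Nonempty (Fin n) := ⟨⟨0, hn⟩⟩
  have hf := reflexForm_of_unitary (hσ.isUnitaryForm (n := n))
  rcases hf.comm_algebra_cases hirr (GU_fixes hH) hZ hnorm hZadj with hs | ⟨t, k, D, hD, h⟩ |
    ⟨k, D, hD, hts, h, -⟩ | ⟨r, K, hr, hK, hKadj, h, -⟩
  · obtain ⟨z, hz, hz'⟩ := hns
    obtain ⟨c, hc⟩ := hs z hz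
    exact absurd hc (hz' c)
  · exact ⟨_, Or.inl (Or.inr (Or.inr (Or.inl ⟨t, k, D, hD, rfl⟩))), le_inf h hH⟩
  · exact ⟨_, Or.inl (Or.inr (Or.inr (Or.inr (Or.inl ⟨k, D, by simpa using IsMDecomposition.card_eq hD, hD, hts, rfl⟩)))),
      le_inf h hH⟩
  · have hodd : Odd r := hr.odd_of_ne_two (by
      rintro rfl
      exact hf.field_degree_ne_two hσ.ne_refl hKadj hK)
    exact ⟨_, Or.inr (Or.inl ⟨r, K, hr, hodd, hK, hKadj, rfl⟩), le_inf h hH⟩

/-- A group preserving a tensor power of a hermitian form lies in a member, one case excepted. -/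
theorem IsUSigma.uMember_of_gram_power (hH : H ≤ GU n F q) {k t : ℕ} (hk : 2 ≤ k) (ht : 2 ≤ t)
    (e : Fin n ≃ (Fin t → Fin k)) (P : GL (Fin n) F) {c : F} {G₀ : Matrix (Fin k) (Fin k) F}
    (hG : gramCoord σ (hermForm n F q) e P = c • pureM fun _ => G₀) (hc : c ≠ 0) (hcs : σ c = c) (hdet : G₀.det ≠ 0)
    (hh : ∀ i j, G₀ j i = σ (G₀ i j)) (hle : H ≤ tensorWreathSubgroup k t e P) (hex : ¬ (q = 2 ∧ k = 3)) : UMember q H := by
  classical
  have hf := reflexForm_of_unitary (hσ.isUnitaryForm (n := n))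
  rcases eq_or_lt_of_le hk with rfl | hk3
  · obtain ⟨P', hP', hcase⟩ := hσ.power_plane hf (by omega) hG hc hcs hdet hh (GU_fixes hH) hle
    have hn : Even n := by
      have h := Fintype.card_congr e
      simp only [Fintype.card_fin, Fintype.card_fun] at h
      rw [h]
      exact Nat.even_pow.mpr ⟨even_two, by omega⟩
    rcases hcase with ⟨hq, hrat⟩ | ⟨ζ, h0, hζ, hrat, halt⟩
    · exact ⟨_, Or.inl (Or.inr (Or.inr (Or.inr (Or.inr (Or.inr (Or.inl
        ⟨fixedField σ, P', hq, hσ.card_fixed_sq, hrat, rfl⟩)))))), le_inf hP' hH⟩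
    · exact ⟨_, Or.inl (Or.inr (Or.inr (Or.inr (Or.inr (Or.inr (Or.inr (Or.inl
        ⟨fixedField σ, P', ζ, hn, hσ.card_fixed_sq, h0, hζ, hrat, halt, rfl⟩))))))), le_inf hP' hH⟩
  · refine ⟨_, Or.inr (Or.inr (Or.inr ⟨k, t, e, P, _, hk3, ht, hex, hσ.gram_unitaryPow hdet hh, ?_, rfl⟩)),
      le_inf hle hH⟩
    have := tensor_power_structure P hf.semi e hc hG
    rwa [hσ.coe_eq] at this

/-- A perfect-cored group permuting the factors of a tensor power lies in a member. -/
theorem IsUSigma.uMember_of_power (hH : H ≤ GU n F q) {k t : ℕ}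
    (hk : 2 ≤ k) (ht : 2 ≤ t) (e : Fin n ≃ (Fin t → Fin k)) (B : GL (Fin n) F)
    (hle : H ≤ tensorWreathSubgroup k t e B) {P : Subgroup (GL (Fin n) F)} (hPH : P ≤ H)
    (hperf : ⁅P, P⁆ = P) (hPne : ¬ P ≤ ⊥) (hW : WreathFactors H P e B) : UMember q H := by
  classical
  have hf := reflexForm_of_unitary (hσ.isUnitaryForm (n := n))
  have hfix := GU_fixes hH
  obtain ⟨c, G₀, l, hG⟩ := hf.power_gram hk ht e B hPH hfix hW
  obtain ⟨b, hb0, hb⟩ := hσ.exists_skew_factor hG.norm
  set G' := b • G₀ with hG'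
  have hdet : G'.det ≠ 0 := by
    rw [hG', Matrix.det_smul]; exact mul_ne_zero (pow_ne_zero _ hb0) hG.det_ne_zero
  have hh : ∀ i j, G' j i = σ (G' i j) := fun i j => by
    rw [hG', Matrix.smul_apply, Matrix.smul_apply, smul_eq_mul, smul_eq_mul, map_mul, hb, hG.swap i j]
    ring
  have hgram : gramCoord σ (hermForm n F q) e B = (c / b ^ t) • pureM fun _ => G' := by
    rw [hG.gram, hG', pureM_smul, Finset.prod_const, Finset.card_univ, Fintype.card_fin, smul_smul,
      div_mul_cancel₀ _ (pow_ne_zero _ hb0)]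
  have hcs : σ (c / b ^ t) = c / b ^ t := by
    have hs := hG.scalar
    rw [one_mul] at hs
    have hl : l ≠ 0 := left_ne_zero_of_mul_eq_one hG.norm
    rw [map_div₀, map_pow, hb, ← hs, mul_pow]
    field_simp
  by_cases hex : q = 2 ∧ k = 3
  · exfalso
    obtain ⟨rfl, rfl⟩ := hex
    obtain ⟨A, hA⟩ := hσ.hermitian_congr hdet hh
    haveI := isSolvable_unitGroup_three hσ
    obtain ⟨h2, hx⟩ := unit_four hσ
    let U : Subgroup (GL (Fin 3) F) := (unitGroup σ 3).comap (MulAut.conj A⁻¹).toMonoidHom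
    haveI : Group.IsSolvable U := Group.isSolvable_of_isSolvable_injective
      (f := ((MulAut.conj A⁻¹).toMonoidHom.comp U.subtype).codRestrict (unitGroup σ 3) fun x => x.2) fun x y h =>
        Subtype.ext ((MulAut.conj A⁻¹).injective (congrArg Subtype.val h))
    refine hPne (perfect_pure_le_bot (by omega) (by omega) e B hperf hW.2 U fun p hp M hM i => ?_)
    obtain ⟨l', hl0, hl'⟩ := wreath_factor_similitude (π := 1) (A := M) (div_ne_zero hG.ne_zero (pow_ne_zero _ hb0))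
      ((Matrix.isUnit_iff_isUnit_det _).mpr (isUnit_iff_ne_zero.mpr hdet)) (by
        have h := hf.gramCoord_isometry e B (hfix _ (coe_mem_matrixSet (hPH hp)))
        rw [hM, hgram] at h
        rw [factorPermM_one, Matrix.one_mul]
        exact h) i
    set X := (M i : Matrix (Fin 3) (Fin 3) F) with hX
    have hGt : G'ᵀ = G'.map σ := Matrix.ext fun a b => hh a b
    have hl1 : l' = 1 := by
      have e1 : (Xᵀ * G' * X.map σ)ᵀ = (Xᵀ * G' * X.map σ).map σ := by
        rw [Matrix.transpose_mul, Matrix.transpose_mul, Matrix.map_mul, Matrix.map_mul, Matrix.transpose_transpose, hGt,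
          show (X.map σ).map σ = X by ext a b; simp [hσ.involutive], Matrix.transpose_map, Matrix.mul_assoc]
      rw [hl'] at e1
      obtain ⟨a₀, b₀, hab⟩ : ∃ a b, G' a b ≠ 0 := by
        by_contra hcon; push Not at hcon
        exact hdet (by rw [show G' = 0 from Matrix.ext hcon, Matrix.det_zero])
      have e2 := congrFun (congrFun e1 b₀) a₀
      simp only [Matrix.transpose_apply, Matrix.smul_apply, Matrix.map_apply, smul_eq_mul, map_mul, ← hh b₀ a₀] at e2
      have hσl : σ l' = l' := (mul_right_cancel₀ hab e2).symm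
      have h1 := (hx l' hl0).1
      rw [hσl] at h1
      rcases mul_self_eq_one_iff.mp h1 with h | h
      · exact h
      · rw [h]; linear_combination -h2
    rw [hl1, one_smul] at hl'
    change _ = (1 : Matrix (Fin 3) (Fin 3) F)
    simp only [MulEquiv.coe_toMonoidHom, MulAut.conj_apply, inv_inv, Units.val_mul, Matrix.transpose_mul, Matrix.map_mul]
    have hG1 : G' = ((A⁻¹ : GL (Fin 3) F) : Matrix (Fin 3) (Fin 3) F)ᵀ * ((A⁻¹ : GL (Fin 3) F) : Matrix (Fin 3) (Fin 3) F).map σ := by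
      calc G' = (((A⁻¹ : GL (Fin 3) F) : Matrix (Fin 3) (Fin 3) F)ᵀ * (A : Matrix (Fin 3) (Fin 3) F)ᵀ) * G' *
          ((A : Matrix (Fin 3) (Fin 3) F).map σ * ((A⁻¹ : GL (Fin 3) F) : Matrix (Fin 3) (Fin 3) F).map σ) := by
            rw [← Matrix.transpose_mul, ← Matrix.map_mul, Units.mul_inv, Matrix.transpose_one,
              Matrix.map_one σ (map_zero σ) (map_one σ), Matrix.one_mul, Matrix.mul_one]
        _ = ((A⁻¹ : GL (Fin 3) F) : Matrix (Fin 3) (Fin 3) F)ᵀ * ((A : Matrix (Fin 3) (Fin 3) F)ᵀ * G' *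
          (A : Matrix (Fin 3) (Fin 3) F).map σ) * ((A⁻¹ : GL (Fin 3) F) : Matrix (Fin 3) (Fin 3) F).map σ := by
            simp only [Matrix.mul_assoc]
        _ = _ := by rw [hA, Matrix.mul_one]
    calc _ = (A : Matrix (Fin 3) (Fin 3) F)ᵀ * (Xᵀ * (((A⁻¹ : GL (Fin 3) F) : Matrix (Fin 3) (Fin 3) F)ᵀ *
        ((A⁻¹ : GL (Fin 3) F) : Matrix (Fin 3) (Fin 3) F).map σ) * X.map σ) * (A : Matrix (Fin 3) (Fin 3) F).map σ := by
          simp only [hX, Matrix.mul_assoc]
      _ = 1 := by rw [← hG1, hl', hA]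
  exact hσ.uMember_of_gram_power hH hk ht e B hgram (div_ne_zero hG.ne_zero (pow_ne_zero _ hb0)) hcs hdet hh hle hex

/-- An irreducible group preserving a tensor decomposition lies in a member, one case excepted. -/
theorem IsUSigma.uMember_of_tensor (hH : H ≤ GU n F q) {d k : ℕ}
    (hd : 2 ≤ d) (hk : 2 ≤ k) (e : Fin n ≃ Fin d × Fin k) (P : GL (Fin n) F)
    {G₁ : Matrix (Fin d) (Fin d) F} {G₂ : Matrix (Fin k) (Fin k) F} {l : F}
    (hT : TensorGram σ 1 (hermForm n F q) e P G₁ G₂ l)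
    (hkr : ∀ g ∈ H, ∃ (a : GL (Fin d) F) (b : GL (Fin k) F),
      matCoord e P (g : Matrix (Fin n) (Fin n) F) = (a : Matrix (Fin d) (Fin d) F) ⊗ₖ (b : Matrix (Fin k) (Fin k) F)) :
    UMember q H ∨ SquareSpecial q σ H := by
  classical
  have hf := reflexForm_of_unitary (hσ.isUnitaryForm (n := n))
  obtain ⟨b, hb0, hb⟩ := hσ.exists_skew_factor hT.norm
  have hT1 := hT.rescale hσ.involutive hb0 (l' := 1) (by rw [one_mul, hb, mul_comm])
  clear hT
  set H₁ := b • G₁
  set H₂ := b⁻¹ • G₂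
  have hh₁ : ∀ i j, H₁ j i = σ (H₁ i j) := fun i j => by rw [hT1.swap_left i j, one_mul]
  have hh₂ : ∀ i j, H₂ j i = σ (H₂ i j) := fun i j => by rw [hT1.swap_right i j, map_one, one_mul, one_mul]
  rcases lt_trichotomy d k with hlt | rfl | hgt
  · left
    refine ⟨_, Or.inr (Or.inr (Or.inl ⟨d, k, e, P, _, _, hd, hlt, hσ.gram_unitaryPow hT1.det_left hh₁,
      hσ.gram_unitaryPow hT1.det_right hh₂, ?_, rfl⟩)), le_inf (le_tensor_of_kronecker e P hkr) hH⟩
    have := tensor_structure P hf.semi e one_ne_zero (by rw [one_smul]; exact hT1.gram)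
    rwa [hσ.coe_eq] at this
  · obtain ⟨A₁, hA₁⟩ := hσ.hermitian_congr hT1.det_left hh₁
    obtain ⟨A₂, hA₂⟩ := hσ.hermitian_congr hT1.det_right hh₂
    obtain ⟨P', hP', hkr'⟩ := exists_tensor_rebase e P (c := (1 : F)) (by rw [one_smul]; exact hT1.gram) A₁ A₂ hkr
    rw [hA₁, hA₂, one_smul, Matrix.one_kronecker_one] at hP'
    set e' := e.trans (finTwoArrowEquiv (Fin d)).symm
    have hG : gramCoord σ (hermForm n F q) e' P' = (1 : F) • pureM fun _ => (1 : Matrix (Fin d) (Fin d) F) := by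
      rw [gramCoord_trans, hP', pureM_one, one_smul, Matrix.submatrix_one_equiv]
    have hle : H ≤ tensorWreathSubgroup d 2 e' P' := le_wreath_of_square e P' hkr'
    by_cases hex : q = 2 ∧ d = 3
    · obtain ⟨rfl, rfl⟩ := hex
      exact Or.inr ⟨rfl, e', P', 1, one_ne_zero, hG, hle⟩
    · exact Or.inl (hσ.uMember_of_gram_power hH hd le_rfl e' P' hG one_ne_zero (map_one σ)
        (by rw [Matrix.det_one]; exact one_ne_zero) (fun i j => by
          simp [Matrix.one_apply, apply_ite σ, eq_comm]) hle hex)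
  · left
    have hT' := hT1.prodComm (by simp) hσ.involutive
    refine ⟨_, Or.inr (Or.inr (Or.inl ⟨k, d, e.trans (Equiv.prodComm _ _), P, _, _, hk, hgt,
      hσ.gram_unitaryPow hT'.det_left hh₂, hσ.gram_unitaryPow hT'.det_right hh₁, ?_, rfl⟩)),
      le_inf (le_tensor_of_kronecker_swap e P hkr) hH⟩
    have := tensor_structure P hf.semi (e.trans (Equiv.prodComm _ _)) one_ne_zero (by rw [one_smul]; exact hT'.gram)
    rwa [hσ.coe_eq] at this

end Cfsg.Agent.Classical
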