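/-
The stabiliser of a tensor square of the standard unitary form of degree three over four elements normalises an
extraspecial group of order 243.
-/
import Cfsg.Agent.Lib.Classical.FormUMember
import Cfsg.Agent.Lib.Classical.SymplecticType

set_option autoImplicit false
set_option linter.style.haveILetI false
set_option linter.unusedSectionVars false

namespace Cfsg.Agent.Classical

open Matrix Cfsg.Geo
open Fin.CommRing

/-- The extraspecial group of order 243 and exponent 3. -/
@[ext]
structure NineHeis where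
  i : Fin 3
  j : Fin 2 → Fin 3
  k : Fin 2 → Fin 3
deriving DecidableEq, Fintype

namespace NineHeis

instance : Mul NineHeis :=
  ⟨fun a b => ⟨a.i + b.i + (a.j 0 * b.k 0 + a.j 1 * b.k 1), a.j + b.j, a.k + b.k⟩⟩
instance : One NineHeis := ⟨⟨0, 0, 0⟩⟩
instance : Inv NineHeis := ⟨fun a => ⟨-a.i + (a.j 0 * a.k 0 + a.j 1 * a.k 1), -a.j, -a.k⟩⟩

@[simp] theorem mul_i (a b : NineHeis) : (a * b).i = a.i + b.i + (a.j 0 * b.k 0 + a.j 1 * b.k 1) := rfl
@[simp] theorem mul_j (a b : NineHeis) : (a * b).j = a.j + b.j := rfl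
@[simp] theorem mul_k (a b : NineHeis) : (a * b).k = a.k + b.k := rfl
@[simp] theorem one_i : (1 : NineHeis).i = 0 := rfl
@[simp] theorem one_j : (1 : NineHeis).j = 0 := rfl
@[simp] theorem one_k : (1 : NineHeis).k = 0 := rfl
@[simp] theorem inv_i (a : NineHeis) : a⁻¹.i = -a.i + (a.j 0 * a.k 0 + a.j 1 * a.k 1) := rfl
@[simp] theorem inv_j (a : NineHeis) : a⁻¹.j = -a.j := rfl
@[simp] theorem inv_k (a : NineHeis) : a⁻¹.k = -a.k := rfl

instance : Group NineHeis :=
  Group.ofLeftAxioms
    (fun a b c => NineHeis.ext (by simp; ring) (add_assoc _ _ _) (add_assoc _ _ _))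
    (fun a => NineHeis.ext (by simp) (zero_add _) (zero_add _))
    (fun a => NineHeis.ext (by simp; ring) (neg_add_cancel _) (neg_add_cancel _))

theorem cube (a : NineHeis) : a * a * a = 1 := by
  have h3 : ∀ x : Fin 3, x + x + x = 0 := by decide
  refine NineHeis.ext ?_ (funext fun s => h3 _) (funext fun s => h3 _)
  simp only [mul_i, mul_j, one_i, Pi.add_apply]
  have h := h3 (a.i + (a.j 0 * a.k 0 + a.j 1 * a.k 1))
  linear_combination h

/-- An automorphism moving the `j` part by the `k` part. -/
def shearJ (l : Fin 2) : NineHeis ≃* NineHeis where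
  toFun a := ⟨a.i + 2 * (a.k l * a.k l), a.j + Pi.single l (a.k l), a.k⟩
  invFun a := ⟨a.i - 2 * (a.k l * a.k l), a.j - Pi.single l (a.k l), a.k⟩
  left_inv a := NineHeis.ext (by simp) (by simp) rfl
  right_inv a := NineHeis.ext (by simp) (by simp) rfl
  map_mul' a b := by
    refine NineHeis.ext ?_ ?_ rfl
    · have h3 : (3 : Fin 3) = 0 := by decide
      fin_cases l
      · simp; linear_combination (a.k 0 * b.k 0) * h3
      · simp; linear_combination (a.k 1 * b.k 1) * h3
    · simp only [mul_j, mul_k, Pi.add_apply, Pi.single_add]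
      abel

/-- An automorphism moving the `k` part by the `j` part. -/
def shearK (l : Fin 2) : NineHeis ≃* NineHeis where
  toFun a := ⟨a.i + 2 * (a.j l * a.j l), a.j, a.k + Pi.single l (a.j l)⟩
  invFun a := ⟨a.i - 2 * (a.j l * a.j l), a.j, a.k - Pi.single l (a.j l)⟩
  left_inv a := NineHeis.ext (by simp) rfl (by simp)
  right_inv a := NineHeis.ext (by simp) rfl (by simp)
  map_mul' a b := by
    refine NineHeis.ext ?_ rfl ?_
    · have h3 : (3 : Fin 3) = 0 := by decide
      fin_cases l
      · simp; linear_combination (a.j 0 * b.j 0) * h3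
      · simp; linear_combination (a.j 1 * b.j 1) * h3
    · simp only [mul_j, mul_k, Pi.add_apply, Pi.single_add]
      abel

theorem sq_eq_zero {x : Fin 3} (h : x * x = 0) : x = 0 := by revert x; decide

theorem mem_center {a : NineHeis} (hJ : ∀ l, a * shearJ l a = shearJ l a * a) (hK : ∀ l, a * shearK l a = shearK l a * a) :
    a ∈ Subgroup.center NineHeis := by
  have hk : ∀ l, a.k l = 0 := fun l => by
    have h := congrArg NineHeis.i (hJ l)
    apply sq_eq_zero
    fin_cases l <;> simp [shearJ] at h ⊢ <;> linear_combination -h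
  have hj : ∀ l, a.j l = 0 := fun l => by
    have h := congrArg NineHeis.i (hK l)
    apply sq_eq_zero
    fin_cases l <;> simp [shearK] at h ⊢ <;> linear_combination h
  rw [Subgroup.mem_center_iff]
  intro b
  exact NineHeis.ext (by simp [hj, hk]; ring) (add_comm _ _) (add_comm _ _)

theorem mem_center_iff {a : NineHeis} : a ∈ Subgroup.center NineHeis ↔ a.j = 0 ∧ a.k = 0 := by
  constructor
  · intro h
    rw [Subgroup.mem_center_iff] at h
    constructor <;> funext l
    · have e := congrArg NineHeis.i (h ⟨0, 0, Pi.single l 1⟩)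
      fin_cases l <;> simpa using e.symm
    · have e := congrArg NineHeis.i (h ⟨0, Pi.single l 1, 0⟩)
      fin_cases l <;> simpa using e
  · rintro ⟨hj, hk⟩
    rw [Subgroup.mem_center_iff]
    intro b
    exact NineHeis.ext (by simp [hj, hk]; ring) (add_comm _ _) (add_comm _ _)

theorem card : Nat.card NineHeis = 3 ^ 5 := by
  rw [Nat.card_congr (β := Fin 3 × (Fin 2 → Fin 3) × (Fin 2 → Fin 3))
    ⟨fun a => (a.i, a.j, a.k), fun x => ⟨x.1, x.2.1, x.2.2⟩, fun _ => rfl, fun _ => rfl⟩]
  simp

theorem card_center : Nat.card (Subgroup.center NineHeis) = 3 := by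
  rw [Nat.card_congr (β := Fin 3)
    ⟨fun a => a.1.i, fun x => ⟨⟨x, 0, 0⟩, mem_center_iff.mpr ⟨rfl, rfl⟩⟩,
      fun a => Subtype.ext (NineHeis.ext rfl (mem_center_iff.mp a.2).1.symm (mem_center_iff.mp a.2).2.symm), fun _ => rfl⟩]
  simp

end NineHeis

section Four

variable {F : Type*} [Field F]

/-- The power of a cube root of unity with the given exponent. -/
def rootPow (ω : F) (a : Fin 3) : F := ω ^ (a : ℕ)

/-- The matrices of the extraspecial group of order 27 in degree three. -/
def clockShift (ω : F) (j k : Fin 3) : Matrix (Fin 3) (Fin 3) F :=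
  Matrix.of fun x y => if x = y + k then rootPow ω (j * y) else 0

/-- The matrices of the extraspecial group of order 243 in degree nine. -/
def nineMat (ω : F) (a : NineHeis) : Matrix (Fin 2 → Fin 3) (Fin 2 → Fin 3) F :=
  Matrix.of fun x y => if x = y + a.k then rootPow ω (a.i + (a.j 0 * y 0 + a.j 1 * y 1)) else 0

variable {ω : F}

theorem rootPow_zero : rootPow ω 0 = 1 := by simp [rootPow]

theorem rootPow_add (hω : IsPrimitiveRoot ω 3) (a b : Fin 3) : rootPow ω (a + b) = rootPow ω a * rootPow ω b := by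
  rw [rootPow, rootPow, rootPow, Fin.val_add, ← pow_eq_pow_mod _ hω.pow_eq_one, pow_add]

theorem rootPow_ne_zero (hω : IsPrimitiveRoot ω 3) (a : Fin 3) : rootPow ω a ≠ 0 := pow_ne_zero _ (hω.ne_zero (by norm_num))

theorem rootPow_injective (hω : IsPrimitiveRoot ω 3) : Function.Injective (rootPow ω) := fun a b h =>
  Fin.ext (hω.pow_inj a.2 b.2 h)

theorem nineMat_one : nineMat ω 1 = 1 := by
  ext x y
  simp [nineMat, Matrix.one_apply, rootPow_zero]

theorem nineMat_mul (hω : IsPrimitiveRoot ω 3) (a b : NineHeis) : nineMat ω (a * b) = nineMat ω a * nineMat ω b := by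
  ext x y
  simp only [Matrix.mul_apply, nineMat, Matrix.of_apply]
  rw [Finset.sum_eq_single (y + b.k) (fun z _ hz => by rw [if_neg hz, mul_zero])
    (fun h => absurd (Finset.mem_univ _) h), if_pos rfl]
  simp only [NineHeis.mul_k, NineHeis.mul_i, NineHeis.mul_j, ite_mul, zero_mul]
  refine if_congr ?_ ?_ rfl
  · rw [add_comm a.k b.k, add_assoc]
  · rw [← rootPow_add hω]
    congr 1
    simp only [Pi.add_apply]
    ring

theorem nineMat_injective (hω : IsPrimitiveRoot ω 3) : Function.Injective (nineMat ω) := by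
  intro a b h
  have he : ∀ y, rootPow ω (a.i + (a.j 0 * y 0 + a.j 1 * y 1)) =
      if y + a.k = y + b.k then rootPow ω (b.i + (b.j 0 * y 0 + b.j 1 * y 1)) else 0 := fun y => by
    have := congrFun (congrFun h (y + a.k)) y
    simpa [nineMat] using this
  have hk : a.k = b.k := by
    by_contra hne
    have := he 0
    rw [if_neg (by simpa using hne)] at this
    exact rootPow_ne_zero hω _ this
  have he' : ∀ y : Fin 2 → Fin 3, a.i + (a.j 0 * y 0 + a.j 1 * y 1) = b.i + (b.j 0 * y 0 + b.j 1 * y 1) := fun y => by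
    have := he y
    rw [hk, if_pos rfl] at this
    exact rootPow_injective hω this
  have hi : a.i = b.i := by simpa using he' 0
  refine NineHeis.ext hi (funext fun l => ?_) hk
  have := he' (Pi.single l 1)
  fin_cases l <;> simpa [hi] using this

theorem nineMat_eq_pure (hω : IsPrimitiveRoot ω 3) (a : NineHeis) :
    nineMat ω a = rootPow ω a.i • pureM fun s => clockShift ω (a.j s) (a.k s) := by
  ext x y
  simp only [nineMat, clockShift, pureM, Matrix.of_apply, Matrix.smul_apply, smul_eq_mul, Fin.prod_univ_two]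
  by_cases h : x = y + a.k
  · subst h
    simp only [if_pos, Pi.add_apply, rootPow_add hω]
  · rw [if_neg h]
    by_cases h0 : x 0 = y 0 + a.k 0
    · rw [if_neg fun h1 : x 1 = y 1 + a.k 1 => h (funext fun l => by fin_cases l <;> assumption), mul_zero, mul_zero]
    · rw [if_neg h0, zero_mul, mul_zero]

theorem clockShift_mul (hω : IsPrimitiveRoot ω 3) (j k j' k' : Fin 3) :
    clockShift ω j k * clockShift ω j' k' = rootPow ω (j * k') • clockShift ω (j + j') (k + k') := by
  ext x y
  simp only [Matrix.mul_apply, clockShift, Matrix.of_apply, Matrix.smul_apply, smul_eq_mul]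
  rw [Finset.sum_eq_single (y + k') (fun z _ hz => by rw [if_neg hz, mul_zero])
    (fun h => absurd (Finset.mem_univ _) h), if_pos rfl]
  simp only [ite_mul, zero_mul, mul_ite, mul_zero]
  refine if_congr ?_ ?_ rfl
  · rw [add_comm k k', add_assoc]
  · rw [← rootPow_add hω, ← rootPow_add hω]
    congr 1
    ring

theorem clockShift_cube (hω : IsPrimitiveRoot ω 3) (j k : Fin 3) :
    clockShift ω j k * clockShift ω j k * clockShift ω j k = 1 := by
  rw [clockShift_mul hω, Matrix.smul_mul, clockShift_mul hω, smul_smul, ← rootPow_add hω]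
  have h : ∀ j k : Fin 3, j + j + j = 0 ∧ j * k + (j + j) * k = 0 := by decide
  rw [(h j k).2, (h j k).1, (h k j).1, rootPow_zero, one_smul]
  ext x y
  simp [clockShift, Matrix.one_apply, rootPow_zero]

theorem clockShift_mulVec (j k : Fin 3) (v : Fin 3 → F) (x : Fin 3) :
    (clockShift ω j k *ᵥ v) x = rootPow ω (j * (x - k)) * v (x - k) := by
  simp [clockShift, Matrix.mulVec, dotProduct, eq_sub_iff_add_eq, ite_mul, ← sub_eq_iff_eq_add]

/-- A monomial matrix with trivial product and cube is a scalar times a matrix of the group of order 27. -/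
theorem monomial_shift (hω : IsPrimitiveRoot ω 3) (h4 : ∀ z : F, z ≠ 0 → ∃ a, z = rootPow ω a)
    {M : Matrix (Fin 3) (Fin 3) F} (p : Fin 3 → Fin 3) (d : Fin 3 → F) (hM : ∀ x y, M x y = if x = p y then d y else 0)
    (hprod : d 0 * d 1 * d 2 = 1) (hcube : M * M * M = 1) :
    ∃ i j k, M = rootPow ω i • clockShift ω j k := by
  have hd : ∀ y, d y ≠ 0 := fun y h => by
    apply one_ne_zero (α := F)
    rw [← hprod]
    fin_cases y <;> simp_all
  have hp : ∀ y, p (p (p y)) = y := fun y => by
    by_contra hne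
    have h := congrFun (congrFun hcube (p (p (p y)))) y
    rw [Matrix.one_apply_ne hne, Matrix.mul_apply] at h
    rw [Finset.sum_eq_single (p y) (fun z _ hz => by rw [hM z y, if_neg hz, mul_zero])
      (fun h => absurd (Finset.mem_univ _) h), Matrix.mul_apply,
      Finset.sum_eq_single (p (p y)) (fun z _ hz => by rw [hM z (p y), if_neg hz, mul_zero])
      (fun h => absurd (Finset.mem_univ _) h)] at h
    simp [hM, hd] at h
  obtain ⟨k, hk⟩ : ∃ k, ∀ y, p y = y + k :=
    (by decide : ∀ p : Fin 3 → Fin 3, (∀ y, p (p (p y)) = y) → ∃ k, ∀ y, p y = y + k) p hp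
  choose a ha using fun y => h4 (d y) (hd y)
  have hsum : a 0 + a 1 + a 2 = 0 := rootPow_injective hω (by
    rw [rootPow_add hω, rootPow_add hω, ← ha, ← ha, ← ha, hprod, rootPow_zero])
  have hal : ∀ y, a y = a 0 + (a 1 - a 0) * y :=
    (by decide : ∀ a : Fin 3 → Fin 3, a 0 + a 1 + a 2 = 0 → ∀ y, a y = a 0 + (a 1 - a 0) * y) a hsum
  refine ⟨a 0, a 1 - a 0, k, Matrix.ext fun x y => ?_⟩
  simp only [hM, hk, clockShift, Matrix.smul_apply, Matrix.of_apply, smul_eq_mul, mul_ite, mul_zero]
  refine if_congr Iff.rfl ?_ rfl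
  rw [ha, ← rootPow_add hω, ← hal]

variable [Fintype F] {σ : F ≃+* F} (hσ : IsUSigma 2 σ)

include hσ

/-- Unitary matrices of degree three normalise the group of order 27. -/
theorem unit_conj_clockShift (hω : IsPrimitiveRoot ω 3) (h4 : ∀ z : F, z ≠ 0 → ∃ a, z = rootPow ω a)
    {A : GL (Fin 3) F} (hA : (A : Matrix (Fin 3) (Fin 3) F)ᵀ * (A : Matrix (Fin 3) (Fin 3) F).map σ = 1) (j k : Fin 3) :
    ∃ i' j' k', (A : Matrix (Fin 3) (Fin 3) F) * clockShift ω j k =
      rootPow ω i' • (clockShift ω j' k' * (A : Matrix (Fin 3) (Fin 3) F)) := by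
  obtain ⟨h2, hx⟩ := unit_four hσ
  set B := ((A⁻¹ : GL (Fin 3) F) : Matrix (Fin 3) (Fin 3) F) with hB
  set X := clockShift ω j k with hX
  set M := (A : Matrix (Fin 3) (Fin 3) F) * X * B with hMdef
  have hAB : (A : Matrix (Fin 3) (Fin 3) F) * B = 1 := A.mul_inv
  have hBA : B * (A : Matrix (Fin 3) (Fin 3) F) = 1 := A.inv_mul
  have hdot : ∀ (Y : Matrix (Fin 3) (Fin 3) F), Yᵀ * Y.map σ = 1 → ∀ u v, (Y *ᵥ u) ⬝ᵥ (σ ∘ (Y *ᵥ v)) = u ⬝ᵥ (σ ∘ v) := by
    intro Y hY u v
    have e' : ∀ z, (Y *ᵥ u) ⬝ᵥ z = u ⬝ᵥ (Yᵀ *ᵥ z) := fun z => by rw [Matrix.dotProduct_mulVec, Matrix.vecMul_transpose]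
    rw [show (σ : F → F) ∘ (Y *ᵥ v) = Y.map σ *ᵥ (σ ∘ v) from funext fun i => RingHom.map_mulVec (σ : F →+* F) _ v i,
      e', Matrix.mulVec_mulVec, hY, Matrix.one_mulVec]
  have hBu : Bᵀ * B.map σ = 1 := (unitGroup σ 3).inv_mem (x := A) hA
  have hXu : Xᵀ * X.map σ = 1 := by
    ext x y
    simp only [X, Matrix.mul_apply, Matrix.transpose_apply, Matrix.map_apply, clockShift, Matrix.of_apply, apply_ite σ,
      map_zero, ite_mul, zero_mul, mul_ite, mul_zero, Finset.sum_ite_eq', Finset.mem_univ, if_true]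
    rcases eq_or_ne x y with rfl | hxy
    · rw [if_pos rfl, Matrix.one_apply_eq]
      exact (hx _ (rootPow_ne_zero hω _)).1
    · rw [if_neg (by simpa using hxy.symm), Matrix.one_apply_ne hxy]
  have hMu : ∀ u v, (M *ᵥ u) ⬝ᵥ (σ ∘ (M *ᵥ v)) = u ⬝ᵥ (σ ∘ v) := fun u v => by
    simp only [M, ← Matrix.mulVec_mulVec]
    rw [hdot _ hA, hdot _ hXu, hdot _ hBu]
  have hlabX : ∀ u : Fin 3 → F, frameLabel (X *ᵥ u) = frameLabel u := fun u => by
    simp only [frameLabel, X, clockShift_mulVec]
    have e : rootPow ω (j * (0 - k)) * rootPow ω (j * (1 - k)) * rootPow ω (j * (2 - k)) = 1 := by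
      rw [← rootPow_add hω, ← rootPow_add hω,
        (by decide : ∀ j k : Fin 3, j * (0 - k) + j * (1 - k) + j * (2 - k) = 0) j k, rootPow_zero]
    have ev : u (0 - k) * u (1 - k) * u (2 - k) = u 0 * u 1 * u 2 := by
      fin_cases k
      · rfl
      · change u 2 * u 0 * u 1 = _; ring
      · change u 1 * u 2 * u 0 = _; ring
    linear_combination (u (0 - k) * u (1 - k) * u (2 - k)) * e + ev
  have hlab : ∀ v : Fin 3 → F, v ⬝ᵥ (σ ∘ v) = 1 → frameLabel (M *ᵥ v) = frameLabel v := fun v hv => by
    refine (label_eq_iff hσ ((hMu v v).trans hv) hv).mpr ?_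
    have hu : (B *ᵥ v) ⬝ᵥ (σ ∘ (B *ᵥ v)) = 1 := (hdot _ hBu v v).trans hv
    have hv' : v = (A : Matrix (Fin 3) (Fin 3) F) *ᵥ (B *ᵥ v) := by rw [Matrix.mulVec_mulVec, hAB, Matrix.one_mulVec]
    have hw : M *ᵥ v = (A : Matrix (Fin 3) (Fin 3) F) *ᵥ (X *ᵥ (B *ᵥ v)) := by simp only [M, Matrix.mulVec_mulVec, Matrix.mul_assoc]
    rcases (label_eq_iff hσ ((hdot _ hXu _ _).trans hu) hu).mp (hlabX _) with h | ⟨s, hs, e⟩
    · left
      rw [hw]
      nth_rw 2 [hv']
      rw [hdot _ hA]
      exact h
    · right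
      refine ⟨s, hs, ?_⟩
      rw [hw, ← Matrix.mulVec_smul, ← e]
      exact hv'
  have hcol : ∀ y, ∃ x, M x y ≠ 0 ∧ ∀ z, z ≠ x → M z y = 0 := fun y => by
    have hy : (Pi.single y (1 : F) : Fin 3 → F) ⬝ᵥ (σ ∘ Pi.single y 1) = 1 := by simp [single_one_dotProduct]
    rcases unit_shape hσ ((hMu _ _).trans hy) with ⟨a0, a1, a2⟩ | h
    · exfalso
      apply mul_ne_zero (mul_ne_zero a0 a1) a2
      change frameLabel (M *ᵥ Pi.single y 1) = 0
      rw [hlab _ hy]
      fin_cases y <;> simp [frameLabel]
    · obtain ⟨x, hx0, hx1⟩ := h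
      exact ⟨x, by simpa [Matrix.mulVec_single_one] using hx0, fun z hz => by simpa [Matrix.mulVec_single_one] using hx1 z hz⟩
  choose p hp0 hp1 using hcol
  have hM : ∀ x y, M x y = if x = p y then M (p y) y else 0 := fun x y => by
    split_ifs with h
    · rw [h]
    · exact hp1 y x h
  have hcube : M * M * M = 1 := by
    calc M * M * M = (A : Matrix (Fin 3) (Fin 3) F) * (X * (B * (A : Matrix (Fin 3) (Fin 3) F)) * X *
        (B * (A : Matrix (Fin 3) (Fin 3) F)) * X) * B := by simp only [M, Matrix.mul_assoc]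
      _ = 1 := by rw [hBA, Matrix.mul_one, Matrix.mul_one, hX, clockShift_cube hω, Matrix.mul_one, hAB]
  have hprod : M (p 0) 0 * M (p 1) 1 * M (p 2) 2 = 1 := by
    have hones : (fun _ : Fin 3 => (1 : F)) ⬝ᵥ (σ ∘ fun _ => (1 : F)) = 1 := by
      simp [dotProduct, Fin.sum_univ_three]
      linear_combination h2
    have h := hlab _ hones
    have hinj : Function.Injective p := fun a b hab => by
      by_contra hne
      have e := hMu (Pi.single a 1) (Pi.single b 1)
      rw [single_one_dotProduct, Function.comp_apply, Pi.single_eq_of_ne hne, map_zero] at e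
      simp only [Matrix.mulVec_single_one, dotProduct, Function.comp_apply, Matrix.col_apply] at e
      rw [Finset.sum_eq_single (p a) (fun z _ hz => by simp [hp1 a z hz]) (fun h => absurd (Finset.mem_univ _) h)] at e
      rcases mul_eq_zero.mp e with e | e
      · exact hp0 a e
      · exact hp0 b (by rw [← hab]; exact (map_eq_zero σ).mp e)
    have hrow : ∀ y, (M *ᵥ fun _ => (1 : F)) (p y) = M (p y) y := fun y => by
      simp only [Matrix.mulVec, dotProduct, mul_one]
      exact Finset.sum_eq_single y (fun z _ hz => hp1 z _ fun e => hz (hinj e.symm)) (fun h => absurd (Finset.mem_univ _) h)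
    have hperm := Equiv.prod_comp (Equiv.ofBijective p (Finite.injective_iff_bijective.mp hinj))
      (fun x => (M *ᵥ fun _ => (1 : F)) x)
    simp only [Equiv.ofBijective_apply, Fin.prod_univ_three, hrow] at hperm
    rw [hperm]
    simpa [frameLabel] using h
  obtain ⟨i', j', k', e⟩ := monomial_shift hω h4 p _ hM hprod hcube
  refine ⟨i', j', k', ?_⟩
  rw [← Matrix.smul_mul, ← e]
  simp only [M, Matrix.mul_assoc, hBA, Matrix.mul_one]

/-- Permuted pure tensors of unitary matrices normalise the group of order 243. -/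
theorem nineMat_normalised (hω : IsPrimitiveRoot ω 3) (h4 : ∀ z : F, z ≠ 0 → ∃ a, z = rootPow ω a)
    (π : Equiv.Perm (Fin 2)) (A : Fin 2 → GL (Fin 3) F)
    (hA : ∀ s, (A s : Matrix (Fin 3) (Fin 3) F)ᵀ * (A s : Matrix (Fin 3) (Fin 3) F).map σ = 1) (a : NineHeis) :
    ∃ b : NineHeis, nineMat ω b * (factorPermM 3 F π * pureM fun s => (A s : Matrix (Fin 3) (Fin 3) F)) =
      (factorPermM 3 F π * pureM fun s => (A s : Matrix (Fin 3) (Fin 3) F)) * nineMat ω a := by
  choose i' j' k' hjk using fun s => unit_conj_clockShift hσ hω h4 (hA s) (a.j s) (a.k s)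
  refine ⟨⟨a.i + (i' 0 + i' 1), fun s => j' (π.symm s), fun s => k' (π.symm s)⟩, ?_⟩
  have hperm : (pureM fun s => clockShift ω (j' (π.symm s)) (k' (π.symm s))) * factorPermM 3 F π =
      factorPermM 3 F π * pureM fun s => clockShift ω (j' s) (k' s) :=
    (factorPermM_pureM π fun s => clockShift ω (j' s) (k' s)).symm
  rw [nineMat_eq_pure hω, nineMat_eq_pure hω a, Matrix.smul_mul, Matrix.mul_smul, ← Matrix.mul_assoc, hperm,
    Matrix.mul_assoc, pureM_mul, Matrix.mul_assoc, pureM_mul]
  simp only [hjk]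
  rw [pureM_smul, Fin.prod_univ_two, Matrix.mul_smul, smul_smul, rootPow_add hω, rootPow_add hω]

end Four

section Member

variable {n : ℕ} {F : Type*} [Field F] [Fintype F] {σ : F ≃+* F} {q : ℕ} {H : Subgroup (GL (Fin n) F)}

set_option maxHeartbeats 2000000 in
/-- The excluded tensor square lies in a normaliser of an extraspecial group. -/
theorem IsUSigma.uMember_of_squareSpecial (hσ : IsUSigma q σ) (hH : H ≤ GU n F q) (h : SquareSpecial q σ H) :
    UMember q H := by
  classical
  obtain ⟨rfl, e, P, c, hc, hG, hle⟩ := h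
  obtain ⟨h2, hx⟩ := unit_four hσ
  have hcard : Fintype.card F = 4 := by rw [hσ.card]; rfl
  haveI := char_two_of_card_four hcard
  obtain ⟨g, hg⟩ := IsCyclic.exists_generator (α := Fˣ)
  have hω : IsPrimitiveRoot (g : F) 3 := IsPrimitiveRoot.coe_units_iff.mpr (by
    have : orderOf g = 3 := by
      rw [orderOf_eq_card_of_forall_mem_zpowers hg, Nat.card_units, Nat.card_eq_fintype_card, hcard]
    exact this ▸ IsPrimitiveRoot.orderOf g)
  set ω : F := (g : F)
  have h4 : ∀ z : F, z ≠ 0 → ∃ a, z = rootPow ω a := fun z hz => by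
    obtain ⟨a, ha, hz'⟩ := hω.eq_pow_of_pow_eq_one (ξ := z) (by linear_combination (hx z hz).2)
    exact ⟨⟨a, ha⟩, hz'.symm⟩
  have hgram : gramCoord σ (hermForm n F 2) e P = c • 1 := by rw [hG, pureM_one]
  have hf := reflexForm_of_unitary (hσ.isUnitaryForm (n := n))
  let ρ : NineHeis →* GL (Fin 2 → Fin 3) F := MonoidHom.toHomUnits
    { toFun := nineMat ω, map_one' := nineMat_one, map_mul' := nineMat_mul hω }
  let φ : GL (Fin 2 → Fin 3) F →* GL (Fin n) F := (MulAut.conj P).toMonoidHom.comp (glReindex e.symm).toMonoidHom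
  have hφinj : Function.Injective φ := (MulAut.conj P).injective.comp (glReindex (F := F) e.symm).injective
  let R : Subgroup (GL (Fin n) F) := (φ.comp ρ).range
  have hinj : Function.Injective (φ.comp ρ) := fun a b hab => nineMat_injective hω (congrArg Units.val (hφinj hab))
  let E : NineHeis ≃* R := MonoidHom.ofInjective hinj
  have hco : ∀ a, matCoord e P ((φ (ρ a) : GL (Fin n) F) : Matrix (Fin n) (Fin n) F) = nineMat ω a := fun a => by
    rw [← coe_glReindex_conj, show P⁻¹ * φ (ρ a) * P = glReindex e.symm (ρ a) by simp [φ, mul_assoc]]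
    ext x y
    simp [glReindex, ρ]
  have hco' : ∀ a, matCoord e P (((φ.comp ρ) a : GL (Fin n) F) : Matrix (Fin n) (Fin n) F) = nineMat ω a := hco
  -- the similarity group
  have hsim : R ≤ similarityGroup (hermForm n F 2) := by
    rintro _ ⟨a, rfl⟩
    refine ⟨1, fun u v => ?_⟩
    have hunit : (nineMat ω a)ᵀ * (nineMat ω a).map σ = 1 := by
      ext x y
      simp only [Matrix.mul_apply, Matrix.transpose_apply, Matrix.map_apply, nineMat, Matrix.of_apply, apply_ite σ,
        map_zero, ite_mul, zero_mul, mul_ite, mul_zero, Finset.sum_ite_eq', Finset.mem_univ, if_true]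
      rcases eq_or_ne x y with rfl | hxy
      · rw [if_pos rfl, Matrix.one_apply_eq]
        exact (hx _ (rootPow_ne_zero hω _)).1
      · rw [Matrix.one_apply_ne hxy]
        simp [hxy, hxy.symm]
    rw [Units.val_one, one_mul, hf.semi.apply_coord e P, hf.semi.apply_coord e P u v, vecCoord_mulVec, vecCoord_mulVec,
      hgram, hco',
      show (σ : F → F) ∘ (nineMat ω a *ᵥ vecCoord e P v) = (nineMat ω a).map σ *ᵥ (σ ∘ vecCoord e P v) from
        funext fun i => RingHom.map_mulVec (σ : F →+* F) _ _ i]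
    simp only [Matrix.smul_mulVec, Matrix.one_mulVec, dotProduct_smul, smul_eq_mul]
    have e' : ∀ z, (nineMat ω a *ᵥ vecCoord e P u) ⬝ᵥ z = vecCoord e P u ⬝ᵥ ((nineMat ω a)ᵀ *ᵥ z) := fun z => by
      rw [Matrix.dotProduct_mulVec, Matrix.vecMul_transpose]
    rw [e', Matrix.mulVec_mulVec, hunit, Matrix.one_mulVec]
  -- normality
  have hnorm : NormalIn H R := by
    rintro h hh _ ⟨a, rfl⟩
    obtain ⟨π, A, hA, hsimA⟩ := power_element hf hG hc (by rw [Matrix.det_one]; exact one_ne_zero) (GU_fixes hH) hle hh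
    have hAu : ∀ s, (A s : Matrix (Fin 3) (Fin 3) F)ᵀ * (A s : Matrix (Fin 3) (Fin 3) F).map σ = 1 := fun s => by
      obtain ⟨l, hl0, hl⟩ := hsimA s
      rw [Matrix.mul_one] at hl
      have h00 := congrFun (congrFun hl 0) 0
      simp only [Matrix.mul_apply, Matrix.transpose_apply, Matrix.map_apply, Matrix.smul_apply, Matrix.one_apply_eq,
        smul_eq_mul, mul_one] at h00
      have hσl : σ l = l := by
        rw [← h00, map_sum]
        exact Finset.sum_congr rfl fun k _ => by rw [map_mul, hσ.involutive, mul_comm]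
      have hl1 : l = 1 := by
        have h1 := (hx l hl0).1
        rw [hσl] at h1
        rcases mul_self_eq_one_iff.mp h1 with h | h
        · exact h
        · rw [h]; linear_combination -h2
      rw [hl, hl1, one_smul]
    obtain ⟨b, hb⟩ := nineMat_normalised hσ hω h4 π A hAu a
    refine ⟨b, ?_⟩
    rw [eq_mul_inv_iff_mul_eq]
    refine Units.ext (matCoord_injective e P ?_)
    rw [Units.val_mul, Units.val_mul, matCoord_mul, matCoord_mul, hco' b, hco' a, hA]
    exact hb
  -- irreducibility
  have hvadd : ∀ u v, vecCoord e P (u + v) = vecCoord e P u + vecCoord e P v := fun u v => by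
    funext x; simp [vecCoord, Matrix.mulVec_add]
  have hvsmul : ∀ (b : F) v, vecCoord e P (b • v) = b • vecCoord e P v := fun b v => by
    funext x; simp [vecCoord, Matrix.mulVec_smul]
  have hact : ∀ (a : NineHeis) (v : Fin n → F) x,
      vecCoord e P (((φ (ρ a) : GL (Fin n) F) : Matrix (Fin n) (Fin n) F) *ᵥ v) x =
        rootPow ω (a.i + (a.j 0 * (x - a.k) 0 + a.j 1 * (x - a.k) 1)) * vecCoord e P v (x - a.k) := fun a v x => by
    rw [vecCoord_mulVec, hco]
    simp [nineMat, Matrix.mulVec, dotProduct, eq_sub_iff_add_eq, ← sub_eq_iff_eq_add, ite_mul]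
  have hRa : ActsAbsolutelyIrreducibly (matrixSet R) := by
    refine ⟨fun W hW => ?_, fun X hX => ?_⟩
    · by_cases hbot : W = ⊥
      · exact Or.inl hbot
      right
      have hmem : ∀ (a : NineHeis), ∀ v ∈ W, ((φ (ρ a) : GL (Fin n) F) : Matrix (Fin n) (Fin n) F) *ᵥ v ∈ W :=
        fun a v hv => map_toLin'_le.mp (hW _ (coe_mem_matrixSet (show φ (ρ a) ∈ R from ⟨a, rfl⟩))) v hv
      have hproj : ∀ (l : Fin 2) (b : Fin 3), ∀ v ∈ W, ∃ w ∈ W, ∀ x, vecCoord e P w x =
          if x l = b then vecCoord e P v x else 0 := by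
        intro l b v hv
        refine ⟨∑ a : Fin 3, rootPow ω (-(a * b)) • (((φ (ρ ⟨0, Pi.single l a, 0⟩) : GL (Fin n) F) : Matrix (Fin n) (Fin n) F) *ᵥ v),
          W.sum_mem fun a _ => W.smul_mem _ (hmem _ v hv), fun x => ?_⟩
        let L : (Fin n → F) →ₗ[F] F :=
          { toFun := fun v => vecCoord e P v x
            map_add' := fun u v => congrFun (hvadd u v) x
            map_smul' := fun b v => congrFun (hvsmul b v) x }
        change L _ = _
        simp only [map_sum, map_smul, L, LinearMap.coe_mk, AddHom.coe_mk, hact, smul_eq_mul]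
        have key : ∀ d : Fin 3, ∑ a : Fin 3, rootPow ω (a * d) = if d = 0 then 1 else 0 := fun d => by
          rw [Fin.sum_univ_three]
          fin_cases d <;> simp [rootPow]
          · linear_combination h2
          · linear_combination hω.geom_sum_eq_zero (by norm_num) - (by simp [Finset.sum_range_succ] : ∑ i ∈ Finset.range 3, ω ^ i = 1 + ω + ω ^ 2)
          · linear_combination hω.geom_sum_eq_zero (by norm_num) - (by simp [Finset.sum_range_succ] : ∑ i ∈ Finset.range 3, ω ^ i = 1 + ω + ω ^ 2)
        calc ∑ a : Fin 3, _ = ∑ a : Fin 3, rootPow ω (a * (x l - b)) * vecCoord e P v x := Finset.sum_congr rfl fun a _ => by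
              rw [← mul_assoc, ← rootPow_add hω]
              simp only [sub_zero]
              congr 2
              fin_cases l <;> simp <;> ring
          _ = _ := by
              rw [← Finset.sum_mul, key]
              simp only [sub_eq_zero, ite_mul, one_mul, zero_mul]
      obtain ⟨v, hv, hv0⟩ := Submodule.exists_mem_ne_zero_of_ne_bot hbot
      obtain ⟨x, hx0⟩ : ∃ x, vecCoord e P v x ≠ 0 := by
        by_contra hcon
        push Not at hcon
        exact hv0 (vecCoord_injective e P ((funext hcon).trans (funext fun y => by simp [vecCoord])))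
      obtain ⟨w1, hw1, e1⟩ := hproj 0 (x 0) v hv
      obtain ⟨w2, hw2, e2⟩ := hproj 1 (x 1) w1 hw1
      have hsingle : ∀ y, ∃ w ∈ W, vecCoord e P w = Pi.single y 1 := fun y => by
        refine ⟨(vecCoord e P v x)⁻¹ • (((φ (ρ ⟨0, 0, y - x⟩) : GL (Fin n) F) : Matrix (Fin n) (Fin n) F) *ᵥ w2),
          W.smul_mem _ (hmem _ w2 hw2), funext fun z => ?_⟩
        rw [hvsmul, Pi.smul_apply, hact, e2, e1]
        rcases eq_or_ne z y with rfl | hz
        · simp [rootPow_zero, hx0]
        · rw [Pi.single_eq_of_ne hz]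
          by_cases h1 : (z - (y - x)) 1 = x 1
          · by_cases h0 : (z - (y - x)) 0 = x 0
            · exfalso
              apply hz
              funext l
              fin_cases l
              · simp at h0 ⊢; linear_combination h0
              · simp at h1 ⊢; linear_combination h1
            · rw [if_pos h1, if_neg h0]; simp
          · rw [if_neg h1]; simp
      choose w hw hwy using hsingle
      rw [eq_top_iff]
      intro u _
      have : u = ∑ y, vecCoord e P u y • w y := vecCoord_injective e P (funext fun z => by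
        let L : (Fin n → F) →ₗ[F] F :=
          { toFun := fun v => vecCoord e P v z
            map_add' := fun u v => congrFun (hvadd u v) z
            map_smul' := fun b v => congrFun (hvsmul b v) z }
        change _ = L _
        simp [map_sum, map_smul, L, hwy, Pi.single_apply])
      rw [this]
      exact W.sum_mem fun y _ => W.smul_mem _ (hw y)
    · have hcomm : ∀ a, matCoord e P X * nineMat ω a = nineMat ω a * matCoord e P X := fun a => by
        rw [← hco, ← matCoord_mul, ← matCoord_mul, hX _ (coe_mem_matrixSet (show φ (ρ a) ∈ R from ⟨a, rfl⟩))]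
      set Y := matCoord e P X with hY
      have hoff : ∀ x y, x ≠ y → Y x y = 0 := fun x y hxy => by
        obtain ⟨l, hl⟩ := Function.ne_iff.mp hxy
        have hh := congrFun (congrFun (hcomm ⟨0, Pi.single l 1, 0⟩) x) y
        simp [Matrix.mul_apply, nineMat, ite_mul, mul_ite] at hh
        by_contra hne
        rw [mul_comm] at hh
        have := rootPow_injective hω (mul_right_cancel₀ hne hh)
        exact hl (by fin_cases l <;> simpa using this.symm)
      have hdiag : ∀ y, Y y y = Y 0 0 := fun y => by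
        have hh := congrFun (congrFun (hcomm ⟨0, 0, y⟩) y) 0
        rw [Matrix.mul_apply, Matrix.mul_apply,
          Finset.sum_eq_single y (fun z _ hz => by simp [nineMat, hz]) (fun h => absurd (Finset.mem_univ _) h),
          Finset.sum_eq_single 0 (fun z _ hz => by simp [nineMat, hz, eq_comm]) (fun h => absurd (Finset.mem_univ _) h)] at hh
        simpa [nineMat, rootPow_zero] using hh
      refine ⟨Y 0 0, matCoord_injective e P ?_⟩
      rw [matCoord_smul, matCoord_one, ← hY]
      ext x y
      rcases eq_or_ne x y with rfl | hxy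
      · simp [hdiag]
      · simp [hoff x y hxy, hxy]
  -- the symplectic type
  have hcube : ∀ r : R, r ^ 3 = 1 := fun r => by
    obtain ⟨a, rfl⟩ := E.surjective r
    rw [← map_pow, pow_succ, pow_two, NineHeis.cube, map_one]
  haveI : Nontrivial R := ⟨⟨E ⟨1, 0, 0⟩, 1, fun h => by
    have := congrArg NineHeis.i (E.injective (h.trans (map_one E).symm))
    simp at this⟩⟩
  have hcard' : Nat.card (Subgroup.center R) = 3 := by
    rw [← Nat.card_congr (Subgroup.centerCongr E).toEquiv, NineHeis.card_center]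
  have hst : IsSymplecticTypeGroup 3 R := by
    refine ⟨Nat.prime_three, fun r => ⟨1, by rw [pow_one]; exact hcube r⟩, fun A hA hcommA => ?_, ?_⟩
    · haveI : Fact (Nat.Prime 3) := ⟨Nat.prime_three⟩
      haveI : IsCyclic (Subgroup.center R) := isCyclic_of_prime_card hcard'
      have hAc : A ≤ Subgroup.center R := fun r hr => by
        have hmove : ∀ α : NineHeis ≃* NineHeis, E.symm r * α (E.symm r) = α (E.symm r) * E.symm r := fun α => by
          have h1 : ((E.symm.trans α).trans E) r ∈ A :=
            (SetLike.ext_iff.mp (hA.fixed ((E.symm.trans α).trans E)) r).mpr hr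
          have h2 := congrArg Subtype.val (hcommA.is_comm.comm ⟨r, hr⟩ ⟨_, h1⟩)
          apply E.injective
          rw [map_mul, map_mul, MulEquiv.apply_symm_apply]
          exact h2
        have := NineHeis.mem_center (fun l => hmove (NineHeis.shearJ l)) (fun l => hmove (NineHeis.shearK l))
        rw [Subgroup.mem_center_iff] at this ⊢
        intro s
        have hh := congrArg E (this (E.symm s))
        simpa using hh
      exact isCyclic_of_injective (Subgroup.inclusion hAc) (Subgroup.inclusion_injective hAc)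
    · rw [show 3 * Nat.gcd 2 3 = 3 from rfl, Monoid.exponent_eq_prime_iff Nat.prime_three]
      exact fun r hr => orderOf_eq_prime (hcube r) hr
  refine ⟨_, Or.inl (Or.inr (Or.inr (Or.inr (Or.inr (Or.inr (Or.inr (Or.inr
    ⟨3, R, 2, 2, 2, hst, hRa, hsim, by norm_num, ?_, Or.inl ⟨⟨1, rfl⟩, hcard', by norm_num, ?_⟩, rfl⟩))))))),
    le_inf hnorm.le_normalizer hH⟩
  · exact ⟨Nat.prime_two, inferInstance, by rw [hcard]; norm_num, by rw [hcard']; norm_num, fun d hd hd2 => by
      rw [hcard']; interval_cases d; norm_num⟩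
  · rw [← Nat.card_congr E.toEquiv, NineHeis.card]

end Member

end Cfsg.Agent.Classical
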