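/-
The symplectic-type case for unitary groups.
-/
import Cfsg.Agent.Lib.Classical.FormUMember
import Cfsg.Agent.Lib.Classical.SymplecticType

set_option autoImplicit false
set_option linter.style.haveILetI false
set_option linter.unusedSectionVars false

namespace Cfsg.Agent.Classical

open Matrix Cfsg.Geo

variable {n q : ℕ} {F : Type*} [Field F] [Fintype F] {σ : F ≃+* F} {H : Subgroup (GL (Fin n) F)} (hσ : IsUSigma q σ)

include hσ

/-- A normal subgroup of symplectic type gives a member. -/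
theorem IsUSigma.uMember_of_symplectic (hn : 2 ≤ n) (hH : H ≤ GU n F q) {M : Subgroup (GL (Fin n) F)}
    (hMH : M ≤ H) (hMn : NormalIn H M)
    (hM : ActsAbsolutelyIrreducibly (matrixSet M)) (hne : ∃ x ∈ M, ∃ y ∈ M, x * y ≠ y * x)
    (hcomm : ∀ x ∈ M, ∀ y ∈ M, x * y * x⁻¹ * y⁻¹ ∈ scalars (Fin n) F)
    (hmin : ∀ A : Subgroup (GL (Fin n) F), A ≤ M → NormalIn H A → M ⊓ scalars (Fin n) F ≤ A → ¬ A ≤ scalars (Fin n) F → A = M) :
    UMember q H := by
  classical
  haveI : Nonempty (Fin n) := ⟨⟨0, by omega⟩⟩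
  obtain ⟨R, r, N, hR, hRM⟩ := exists_symplecticModel' hMn hM hne hcomm hmin
  have hf := reflexForm_of_unitary (hσ.isUnitaryForm (n := n))
  set f := hermForm n F q with hfdef
  have hfixM : ∀ g ∈ H, ∀ u v, f ((g : Matrix (Fin n) (Fin n) F) *ᵥ u) ((g : Matrix (Fin n) (Fin n) F) *ᵥ v) = f u v :=
    fun g hg => GU_fixes hH _ (coe_mem_matrixSet hg)
  have hdec : ∀ g ∈ R, ∃ m ∈ M, ∃ z ∈ scalars (Fin n) F, g = m * z := fun g hg => by
    obtain ⟨m, hm, z, hz, e⟩ := Subgroup.mem_sup_of_normal_right.mp (hRM hg)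
    exact ⟨m, hm, z, hz, e.symm⟩
  -- multipliers
  have hsim : R ≤ similarityGroup f := fun g hg => by
    obtain ⟨m, hm, z, hz, rfl⟩ := hdec g hg
    refine mul_mem ⟨1, fun u v => by rw [Units.val_one, one_mul]; exact hfixM m (hMH hm) u v⟩ ?_
    obtain ⟨c, hc⟩ := (mem_scalars_iff z).mp hz
    refine ⟨Units.mk0 ((c : F) * σ c) (mul_ne_zero c.ne_zero ((map_ne_zero σ).mpr c.ne_zero)), fun u v => ?_⟩
    rw [hc, Matrix.smul_mulVec, Matrix.one_mulVec, Matrix.smul_mulVec, Matrix.one_mulVec, hf.semi.smul_left,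
      hf.semi.smul_right, Units.val_mk0]
    ring
  obtain ⟨i₀⟩ := ‹Nonempty (Fin n)›
  obtain ⟨x₀, hx₀⟩ := (hf.nondeg (Pi.single i₀ 1) (by simp)).1
  choose μ hμ using fun g : R => hsim g.2
  let μh : R →* Fˣ := MonoidHom.mk' μ fun a b => Units.ext (by
    have h := hμ (a * b) x₀ (Pi.single i₀ 1)
    rw [Subgroup.coe_mul, gl_mul_mulVec, gl_mul_mulVec, hμ a, hμ b] at h
    rw [Units.val_mul]
    exact mul_right_cancel₀ hx₀ (h.symm.trans (mul_assoc _ _ _).symm))
  set R₁ := R ⊓ GU n F q with hR₁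
  have hker : ∀ g : R, μh g = 1 → (g : GL (Fin n) F) ∈ GU n F q := fun g hg => mem_GU_iff.mpr fun u v => by
    rw [← hfdef, hμ g, show μ g = 1 from hg, Units.val_one, one_mul]
  have hR₁n : NormalIn H R₁ := fun h hh x hx => ⟨hR.normal h hh x hx.1, (GU n F q).mul_mem ((GU n F q).mul_mem (hH hh) hx.2) ((GU n F q).inv_mem (hH hh))⟩
  have hR₁irr : ActsAbsolutelyIrreducibly (matrixSet R₁) := by
    have hM₁ := hmin ((R₁ ⊔ scalars (Fin n) F) ⊓ M) inf_le_right ((hR₁n.sup normalIn_of_normal).inf hMn)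
      (le_inf (inf_le_right.trans le_sup_right) inf_le_left) fun hle => by
      have hs : R₁ ≤ scalars (Fin n) F := fun g hg => by
        obtain ⟨m, hm, z, hz, rfl⟩ := hdec g hg.1
        refine mul_mem (hle ⟨?_, hm⟩) hz
        simpa using mul_mem (Subgroup.mem_sup_left (T := scalars (Fin n) F) hg) (Subgroup.mem_sup_right (inv_mem hz))
      have hker' : μh.ker ≤ Subgroup.center R := fun g hg => Subgroup.mem_center_iff.mpr fun w =>
        Subtype.ext (scalars_commute (hs ⟨g.2, hker g hg⟩) w).symm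
      obtain ⟨g, hg, h, hh, hgh⟩ := hR.nonabelian
      exact hgh (congrArg Subtype.val
        ((MonoidHom.isMulCommutative_of_isCyclic_of_ker_le_center μh hker').is_comm.comm ⟨g, hg⟩ ⟨h, hh⟩))
    have hcov : ∀ x ∈ M, ∃ y ∈ R₁, ∃ c : Fˣ, (x : Matrix (Fin n) (Fin n) F) = (c : F) • (y : Matrix (Fin n) (Fin n) F) := fun x hx => by
      rw [← hM₁] at hx
      obtain ⟨y, hy, z, hz, rfl⟩ := Subgroup.mem_sup_of_normal_right.mp hx.1
      obtain ⟨c, hc⟩ := (mem_scalars_iff z).mp hz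
      exact ⟨y, hy, c, by rw [Units.val_mul, hc, Matrix.mul_smul, Matrix.mul_one]⟩
    refine ⟨fun W hW => hM.1 W ?_, fun X hX => hM.2 X ?_⟩
    · rintro _ ⟨x, hx, rfl⟩
      obtain ⟨y, hy, c, hc⟩ := hcov x hx
      refine map_toLin'_le.mpr fun w hw => ?_
      change (x : Matrix (Fin n) (Fin n) F) *ᵥ w ∈ W
      rw [hc, Matrix.smul_mulVec]
      exact Submodule.smul_mem _ _ (map_toLin'_le.mp (hW _ (coe_mem_matrixSet hy)) w hw)
    · rintro _ ⟨x, hx, rfl⟩
      obtain ⟨y, hy, c, hc⟩ := hcov x hx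
      change X * (x : Matrix (Fin n) (Fin n) F) = (x : Matrix (Fin n) (Fin n) F) * X
      rw [hc, Matrix.mul_smul, Matrix.smul_mul, hX _ (coe_mem_matrixSet hy)]
  -- the field
  obtain ⟨p, hchar⟩ := CharP.exists F
  obtain ⟨⟨e, he⟩, hp, hce⟩ := FiniteField.card F p
  change Fintype.card F = p ^ e at hce
  obtain ⟨ω₀, hω₀⟩ := hR.prim
  have hrq : r ∣ Fintype.card F - 1 :=
    hω₀.dvd_of_pow_eq_one _ (FiniteField.pow_card_sub_one_eq_one ω₀ (hω₀.ne_zero hR.prime.ne_zero))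
  have hrp : r ≠ p := fun h => hR.r_ne (by
    haveI := hchar
    rw [h]; exact CharP.cast_eq_zero F p)
  have hNq : N ∣ Fintype.card F - 1 := by
    rcases hR.prime.eq_two_or_odd' with h2 | hodd
    · rw [hR.N_eq, h2, Nat.gcd_self, hσ.card]
      have hq : Odd q := hσ.odd_iff.mpr (by have := hR.r_ne; rw [h2] at this; exact_mod_cast this)
      obtain ⟨u, rfl⟩ := hq
      exact ⟨u * u + u, by
        have : (2 * u + 1) ^ 2 = 2 * 2 * (u * u + u) + 1 := by ring
        omega⟩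
    · rwa [hR.N_eq, (Nat.coprime_two_left.mpr hodd : Nat.gcd 2 r = 1), mul_one]
  have hz : Nat.card (Subgroup.center R) = N := by rw [hR.card_center, Nat.gcd_eq_right hNq]
  obtain ⟨ω, hω⟩ : ∃ ω : F, IsPrimitiveRoot ω N := by
    obtain ⟨g, hg⟩ := IsCyclic.exists_generator (α := Fˣ)
    have hord : orderOf g = Fintype.card F - 1 := by
      rw [orderOf_eq_card_of_forall_mem_zpowers hg, Nat.card_units, Nat.card_eq_fintype_card]
    obtain ⟨j, hj⟩ := hNq
    have hq1 : 0 < Fintype.card F - 1 := by have := Fintype.one_lt_card (α := F); omega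
    have hg' : IsPrimitiveRoot ((g : Fˣ) : F) (Fintype.card F - 1) :=
      IsPrimitiveRoot.coe_units_iff.mpr (hord ▸ IsPrimitiveRoot.orderOf g)
    exact ⟨(g : F) ^ j, hg'.pow hq1 (hj.trans (mul_comm _ _))⟩
  obtain ⟨B, k, -, hcard, hk1, hmon⟩ := hR.monomial_model hω
  haveI : Fact (1 < N) := ⟨lt_of_lt_of_le hR.prime.one_lt (Nat.le_of_dvd hR.N_pos ⟨_, hR.N_eq⟩)⟩
  have hpe : (p : ZMod N) ^ e = 1 := by
    rw [← Nat.cast_pow, ← Nat.cast_one (R := ZMod N), ZMod.natCast_eq_natCast_iff, Nat.ModEq.comm,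
      Nat.modEq_iff_dvd' (Nat.one_le_pow _ _ hp.pos), ← hce]
    exact hNq
  set d := orderOf (p : ZMod N) with hd
  have hde : d ∣ e := orderOf_dvd_of_pow_eq_one hpe
  have hd0 : 0 < d := Nat.pos_of_ne_zero fun h => by rw [h, zero_dvd_iff] at hde; omega
  have hkey : ∀ j, N ∣ p ^ j - 1 ↔ d ∣ j := fun j => by
    rw [hd, orderOf_dvd_iff_pow_eq_one, ← Nat.cast_pow, ← Nat.cast_one (R := ZMod N), ZMod.natCast_eq_natCast_iff,
      Nat.ModEq.comm, Nat.modEq_iff_dvd' (Nat.one_le_pow _ _ hp.pos)]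
  by_cases hdlt : d < e
  · obtain ⟨F₀, hF₀, hF₀iff⟩ := exists_subfield_pow hp hce hde hd0
    have hne_top : F₀ ≠ ⊤ := fun h => by
      rw [h, Nat.card_congr (Equiv.subtypeUnivEquiv Subfield.mem_top), Nat.card_eq_fintype_card, hce] at hF₀
      have := Nat.pow_right_injective hp.two_le hF₀
      omega
    have hroot : ∀ c : F, c ^ N = 1 → c ∈ F₀ := fun c hc => by
      rw [hF₀iff]
      obtain ⟨j, hj⟩ := (hkey d).mpr dvd_rfl
      have h1 : 1 ≤ p ^ d := Nat.one_le_pow _ _ hp.pos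
      rw [show p ^ d = N * j + 1 by omega, pow_succ, pow_mul, hc, one_pow, one_mul]
    have hreal : RealisableOver F₀ (matrixSet R₁) := ⟨B, by
      rintro _ ⟨x, hx, rfl⟩ i j
      obtain ⟨π, a, ha, hπ⟩ := hmon x hx.1
      have e1 := congrFun (hπ j) i
      rw [Matrix.mulVec_single_one, Units.val_mul, Units.val_mul] at e1
      simp only [Matrix.col_apply, Pi.smul_apply, Pi.single_apply, smul_eq_mul] at e1
      change ((B : Matrix (Fin n) (Fin n) F) * (x : Matrix (Fin n) (Fin n) F) * ((B⁻¹ : GL (Fin n) F) : Matrix (Fin n) (Fin n) F)) i j ∈ F₀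
      rw [e1]
      split_ifs
      · rw [mul_one]; exact hroot _ (ha j)
      · rw [mul_zero]; exact zero_mem _⟩
    rcases hσ.subfield_classes hn inf_le_right hR₁n hR₁irr hne_top hreal with
      ⟨F₁, r', P, hr', hr'o, hc', hrat, hle⟩ | ⟨hqo, F₁, P, hc', hrat, hle⟩ | ⟨F₁, P, ζ, hne', hc', h0, hζ, hrat, halt, hle⟩
    · exact ⟨_, Or.inl (Or.inr (Or.inr (Or.inr (Or.inr (Or.inl ⟨F₁, r', P, hr', hr'o, hc', hrat, rfl⟩))))),
        le_inf hle hH⟩
    · exact ⟨_, Or.inl (Or.inr (Or.inr (Or.inr (Or.inr (Or.inr (Or.inl ⟨F₁, P, hqo, hc', hrat, rfl⟩)))))),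
        le_inf hle hH⟩
    · exact ⟨_, Or.inl (Or.inr (Or.inr (Or.inr (Or.inr (Or.inr (Or.inr (Or.inl
        ⟨F₁, P, ζ, hne', hc', h0, hζ, hrat, halt, rfl⟩))))))), le_inf hle hH⟩
  have hde' : d = e := le_antisymm (Nat.le_of_dvd he hde) (not_lt.mp hdlt)
  have hminF : IsMinimalFieldFor (Nat.card (Subgroup.center R)) p e F := by
    refine ⟨hp, hchar, hce, hz ▸ hce ▸ hNq, fun j hj hje hdj => ?_⟩
    rw [hz, hkey] at hdj
    have := Nat.le_of_dvd hj hdj
    omega
  refine ⟨_, Or.inl (Or.inr (Or.inr (Or.inr (Or.inr (Or.inr (Or.inr (Or.inr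
    ⟨r, R, p, e, k, hR.isSymplecticType, hR.absIrred, hsim, hrp, hminF, ?_, rfl⟩))))))), le_inf hR.normal.le_normalizer hH⟩
  rcases hR.prime.eq_two_or_odd' with h2 | hodd
  · have hN4 : N = 4 := by rw [hR.N_eq, h2]; rfl
    have hpodd : Odd p := hp.odd_of_ne_two (fun h => hrp (h2.trans h.symm))
    have hd2 : d ∣ 2 := by
      rw [← hkey, hN4]
      obtain ⟨u, hu⟩ := hpodd
      exact ⟨u * (u + 1), by rw [hu]; ring_nf; omega⟩
    have heven : Even e := by
      obtain ⟨p', b, σ', hp', hchar', hq', hb, -⟩ := exists_usigma hσ.card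
      obtain rfl : p' = p := CharP.eq F hchar' hchar
      have := hσ.card
      rw [hce, hq', ← pow_mul] at this
      rw [Nat.pow_right_injective hp.two_le this, mul_comm]
      exact even_two_mul b
    have he2 : e = 2 := by
      have := Nat.le_of_dvd two_pos hd2
      obtain ⟨b, hb⟩ := heven
      omega
    exact Or.inr ⟨h2, he2, hz.trans hN4, by rw [hcard, hz, hN4, h2, show (4 : ℕ) = 2 ^ 2 from rfl, ← pow_add]⟩
  · have hNr : N = r := by rw [hR.N_eq, (Nat.coprime_two_left.mpr hodd : Nat.gcd 2 r = 1), mul_one]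
    exact Or.inl ⟨hodd, hz.trans hNr, hk1, by rw [hcard, hz, hNr, pow_add, pow_one]⟩

end Cfsg.Agent.Classical
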