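/-
Subgroup structure of the unitary groups.
-/
import Cfsg.Agent.Lib.Classical.FormAschbacher
import Cfsg.Agent.Lib.Classical.FormUSymplectic
import Cfsg.Agent.Lib.Classical.FormSquareSpecial
import Cfsg.Agent.Lib.Classical.FormOtherForms

set_option autoImplicit false
set_option linter.style.haveILetI false
set_option linter.unusedSectionVars false

namespace Cfsg.Agent.Classical

open Matrix Cfsg.Geo

variable {n q : ℕ} {F : Type*} [Field F] [Fintype F] {σ : F ≃+* F}

/-- Every subgroup of the unitary group lies in a member or is residual. -/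
theorem IsUSigma.u_structure (hσ : IsUSigma q σ) (hn : 2 ≤ n) {H : Subgroup (GL (Fin n) F)} (hH : H ≤ GU n F q) :
    UMember q H ∨ InUnitaryResidualClass H := by
  classical
  haveI : Nonempty (Fin n) := ⟨⟨0, by omega⟩⟩
  have hfu := hσ.isUnitaryForm (n := n)
  have hf := reflexForm_of_unitary hfu
  have hfix := GU_fixes hH
  rcases form_aschbacher (by simpa using hn) hf hfix (UMember q H)
      (hσ.uMember_of_reducible hH)
      (fun hirr M hMH hMn _ hns => hσ.uMember_of_algebra (by omega) hH hirr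
        (fun x hx y hy => (mem_commutantCentre.mp hx).2 y (mem_commutantCentre.mp hy).1)
        (normalizer_le_centreNormalizer hMn) (fun z hz => hf.commutantCentre_adj hfix hMH hz) hns)
      (fun _ d k e P G₁ G₂ l hd hk hT hkr => (hσ.uMember_of_tensor hH hd hk e P hT hkr).elim id
        (hσ.uMember_of_squareSpecial hH))
      (fun M hMH hMn hMa hne hc hmin => hσ.uMember_of_symplectic hn hH hMH hMn hMa hne hc hmin)
      (fun N hNH hNn hNa F₀ h0 hreal => by
        rcases hσ.subfield_classes hn (hNH.trans hH) hNn hNa h0 hreal with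
          ⟨F₁, r', P, hr', hr'o, hc', hrat, hle⟩ | ⟨hqo, F₁, P, hc', hrat, hle⟩ |
          ⟨F₁, P, ζ, hne', hc', h0', hζ, hrat, halt, hle⟩
        · exact ⟨_, Or.inl (Or.inr (Or.inr (Or.inr (Or.inr (Or.inl ⟨F₁, r', P, hr', hr'o, hc', hrat, rfl⟩))))),
            le_inf hle hH⟩
        · exact ⟨_, Or.inl (Or.inr (Or.inr (Or.inr (Or.inr (Or.inr (Or.inl ⟨F₁, P, hqo, hc', hrat, rfl⟩)))))),
            le_inf hle hH⟩
        · exact ⟨_, Or.inl (Or.inr (Or.inr (Or.inr (Or.inr (Or.inr (Or.inr (Or.inl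
            ⟨F₁, P, ζ, hne', hc', h0', hζ, hrat, halt, rfl⟩))))))), le_inf hle hH⟩)
      (fun _ k t e B P hk ht hle hPH hperf hne hW => hσ.uMember_of_power hH hk ht e B hle hPH hperf hne hW) with
    h | ⟨P, hP⟩
  · exact Or.inl h
  have hPfix := GU_fixes (hP.le.trans hH)
  refine Or.inr ⟨P, hP, ?_, ?_⟩
  · rintro ⟨Q, hQ, hQfix⟩
    obtain ⟨F₀, h0, hr⟩ := realisable_of_two_forms hP.absIrred hQ.polar_bilinear hQ.nondegenerate
      (quad_fixes_polar hQfix) hfu hPfix
    exact hP.no_subfield F₀ h0 hr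
  · rintro ⟨b, hb, hbfix⟩
    obtain ⟨F₀, h0, hr⟩ := realisable_of_two_forms hP.absIrred hb.bilinear hb.nondegenerate hbfix hfu hPfix
    exact hP.no_subfield F₀ h0 hr

end Cfsg.Agent.Classical
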