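/-
Case division for the maximal subgroups of the special unitary group in prime dimension at least five.
-/
import Cfsg.Agent.Lib.Classical.UnitaryPrime

set_option autoImplicit false
set_option linter.style.haveILetI false

namespace Cfsg.Agent.Classical

open Matrix Cfsg.Geo
open scoped commutatorElement

variable {n : ℕ} {F : Type*} [Field F] [Fintype F] {q : ℕ}

omit [Fintype F] in
theorem eq_inf_of_maximal' {G H X : Subgroup (GL (Fin n) F)} (hH : IsMaximalIn G H) (hle : H ≤ X)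
    (hX : ¬ G ≤ X) : H = X ⊓ G :=
  ((hH.2 (X ⊓ G) (le_inf hle hH.1.le) inf_le_right).resolve_right fun h => hX (h ▸ inf_le_left)).symm

omit [Fintype F] in
theorem decompositionStabilizer_cast {t t' : ℕ} (h : t' = t) (D : Fin t → Submodule F (Fin n → F)) :
    decompositionStabilizer (D ∘ Fin.cast h) = decompositionStabilizer D := by
  subst h; rfl

theorem su_prime_cases (hp : n.Prime) (h5 : 5 ≤ n) (hF : Fintype.card F = q ^ 2)
    {H : Subgroup (GL (Fin n) F)} (hH : IsMaximalIn (GU n F q ⊓ specialLinear (Fin n) F) H) :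
    (∃ W : Submodule F (Fin n → F), W ≠ ⊥ ∧ IsTotallySingularFor (hermForm n F q) W ∧
      H = subspaceStabilizer W ⊓ (GU n F q ⊓ specialLinear (Fin n) F)) ∨
    (∃ W : Submodule F (Fin n → F), W ≠ ⊥ ∧ IsNondegenerateOn (hermForm n F q) W ∧ 2 * Module.finrank F W < n ∧
      H = subspaceStabilizer W ⊓ (GU n F q ⊓ specialLinear (Fin n) F)) ∨
    (∃ D : Fin n → Submodule F (Fin n → F), IsNondegenerateMDecomposition (hermForm n F q) 1 D ∧
      H = decompositionStabilizer D ⊓ (GU n F q ⊓ specialLinear (Fin n) F)) ∨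
    (∃ K : Subalgebra F (Matrix (Fin n) (Fin n) F), IsFieldSubalgebra n K ∧ IsAdjointClosedFor (hermForm n F q) K ∧
      H = subalgebraNormalizer K ⊓ (GU n F q ⊓ specialLinear (Fin n) F)) ∨
    (∃ (F₀ : Subfield F) (r : ℕ) (P : GL (Fin n) F), r.Prime ∧ Odd r ∧ Fintype.card F = Nat.card F₀ ^ r ∧
      IsFormRationalStructure (hermForm n F q) F₀ 1 P ∧
      H = subfieldSubgroup F₀ P ⊓ (GU n F q ⊓ specialLinear (Fin n) F)) ∨
    (Odd q ∧ ∃ (F₀ : Subfield F) (P : GL (Fin n) F), Fintype.card F = Nat.card F₀ ^ 2 ∧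
      IsFormRationalStructure (hermForm n F q) F₀ 1 P ∧
      H = subfieldSubgroup F₀ P ⊓ (GU n F q ⊓ specialLinear (Fin n) F)) ∨
    (∃ (p e : ℕ) (R : Subgroup (GL (Fin n) F)), p.Prime ∧ CharP F p ∧ q = p ^ e ∧
      orderOf (p : ZMod n) = 2 * e ∧ IsSymplecticTypeGroup n R ∧ ActsAbsolutelyIrreducibly (matrixSet R) ∧
      R ≤ GU n F q ∧ R ≤ similarityGroup (hermForm n F q) ∧ Nat.card R = n ^ 3 ∧ Nat.card (Subgroup.center R) = n ∧
      H = subgroupNormalizer R ⊓ (GU n F q ⊓ specialLinear (Fin n) F)) ∨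
    InUnitaryResidualClass H := by
  classical
  obtain ⟨p, e, σ, hpp, hchar, hq, he, hσ⟩ := exists_usigma hF
  have hodd : Odd n := hp.odd_of_ne_two (by omega)
  have hcn : Fintype.card (Fin n) = n := Fintype.card_fin n
  have hp' : (Fintype.card (Fin n)).Prime := by rwa [hcn]
  have hodd' : Odd (Fintype.card (Fin n)) := by rwa [hcn]
  have hHG : H ≤ GU n F q := hH.1.le.trans inf_le_left
  have hHS : H ≤ specialLinear (Fin n) F := hH.1.le.trans inf_le_right
  have hsub : ∀ {F₀ : Subfield F} {N : Subgroup (GL (Fin n) F)}, N ≤ H → NormalIn H N →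
      ActsAbsolutelyIrreducibly (matrixSet N) → F₀ ≠ ⊤ → RealisableOver F₀ (matrixSet N) →
      (∃ (F₀ : Subfield F) (r : ℕ) (P : GL (Fin n) F), r.Prime ∧ Odd r ∧ Fintype.card F = Nat.card F₀ ^ r ∧
        IsFormRationalStructure (hermForm n F q) F₀ 1 P ∧
        H = subfieldSubgroup F₀ P ⊓ (GU n F q ⊓ specialLinear (Fin n) F)) ∨
      (Odd q ∧ ∃ (F₀ : Subfield F) (P : GL (Fin n) F), Fintype.card F = Nat.card F₀ ^ 2 ∧
        IsFormRationalStructure (hermForm n F q) F₀ 1 P ∧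
        H = subfieldSubgroup F₀ P ⊓ (GU n F q ⊓ specialLinear (Fin n) F)) := by
    intro F₀ N hNH hn ha h0 hr
    rcases hσ.subfield_case (by omega) hodd (hNH.trans hHG) hn ha h0 hr with
      ⟨F₁, r, P, hr', hro, hc, hform, hle⟩ | ⟨hqo, F₁, P, hc, hform, hle⟩
    · exact Or.inl ⟨F₁, r, P, hr', hro, hc, hform,
        eq_inf_of_maximal' hH hle (hσ.not_su_le_subfield h5 hr' hc P)⟩
    · exact Or.inr ⟨hqo, F₁, P, hc, hform,
        eq_inf_of_maximal' hH hle (hσ.not_su_le_subfield h5 Nat.prime_two hc P)⟩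
  cases prime_structure hp' hodd' hHS with
  | reducible h =>
    obtain ⟨W, h0, h1, hW, hT | ⟨hN, hlt⟩⟩ := hσ.reducible_cases hodd hHG h
    · exact Or.inl ⟨W, h0, hT, eq_inf_of_maximal' hH hW (hσ.not_su_le_subspace h5 h0 h1)⟩
    · exact Or.inr (Or.inl ⟨W, h0, hN, hlt, eq_inf_of_maximal' hH hW (hσ.not_su_le_subspace h5 h0 h1)⟩)
  | abelian hirr A hA hn hs hc =>
    rcases abelian_normal_cases_strong hp' hirr hn hc with h | ⟨D, hD, hle, χ, hχ, hsep⟩ | ⟨hK, hle⟩
    · exact absurd h hs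
    · have hND := hσ.orthogonal_lines hodd hirr hHG (hA.trans hHG) hD hle hχ hsep
      refine Or.inr (Or.inr (Or.inl ⟨D ∘ Fin.cast hcn.symm, ⟨⟨?_, ?_, ?_, ?_, ?_⟩, ?_, ?_⟩, ?_⟩))
      · omega
      · exact one_pos
      · exact fun i => hD.finrank_eq _
      · exact hD.indep.comp (Fin.cast_injective _)
      · rw [← hD.iSup_eq_top]
        exact (finCongr hcn.symm).iSup_comp (g := D)
      · exact fun i => hND.nondegenerate _
      · exact fun i j hij => hND.orthogonal _ _ (fun e => hij (Fin.cast_injective _ e))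
      · rw [decompositionStabilizer_cast]
        exact eq_inf_of_maximal' hH hle (hσ.not_su_le_decomposition h5 hD)
    · rw [hcn] at hK
      exact Or.inr (Or.inr (Or.inr (Or.inl ⟨commutant A, hK, hσ.commutant_adjoint (hA.trans hHG),
        eq_inf_of_maximal' hH hle (hσ.not_su_le_field h5 hp.one_lt hK)⟩)))
  | symplectic M c hM hn ha hc hd =>
    haveI := hchar
    haveI : Fact (Fintype.card (Fin n)).Prime := ⟨hp'⟩
    have hce : Fintype.card F = p ^ (2 * e) := by rw [hF, hq, ← pow_mul, mul_comm]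
    by_cases hlt : orderOf (p : ZMod (Fintype.card (Fin n))) < 2 * e
    · obtain ⟨F₀, h0, hr⟩ := realisable_of_symplecticData hp' hd hpp hce (by omega) hlt
      rcases hsub hM hn ha h0 hr with h | h
      · exact Or.inr (Or.inr (Or.inr (Or.inr (Or.inl h))))
      · exact Or.inr (Or.inr (Or.inr (Or.inr (Or.inr (Or.inl h)))))
    have hord : orderOf (p : ZMod (Fintype.card (Fin n))) = 2 * e := by
      refine le_antisymm (Nat.le_of_dvd (by omega) (orderOf_dvd_of_pow_eq_one ((zmod_pow_eq_one_iff hpp.pos).mpr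
        (hd.prim.dvd_of_pow_eq_one _ ?_)))) (Nat.not_lt.mp hlt)
      rw [← hce]
      exact FiniteField.pow_card_sub_one_eq_one c (hd.prim.ne_zero hp'.ne_zero)
    replace hord : orderOf (p : ZMod n) = 2 * e :=
      (show ∀ m, m = n → orderOf (p : ZMod m) = orderOf (p : ZMod n) from fun m hm => by subst hm; rfl) _ hcn ▸ hord
    have hnon : ∃ x ∈ M, x ∉ scalars (Fin n) F := by
      by_contra hcon
      push Not at hcon
      obtain ⟨x, hx, y, -, hxy, -⟩ := hd.gens
      have h1 : c = 1 := by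
        obtain ⟨a, ha'⟩ := (mem_scalars_iff x).mp (hcon x hx)
        rw [ha', Matrix.smul_mul, Matrix.one_mul, Matrix.mul_smul, Matrix.mul_one, smul_smul] at hxy
        haveI : Nonempty (Fin n) := ⟨⟨0, by omega⟩⟩
        have hy0 : (y : Matrix (Fin n) (Fin n) F) ≠ 0 := Units.ne_zero y
        exact (mul_eq_right₀ a.ne_zero).mp (smul_left_injective F hy0 hxy).symm
      exact hd.prim.ne_one hp'.one_lt h1
    have htype := hd.type
    have hcen := hd.card_center
    have hcard := hd.card_eq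
    rw [hcn] at htype hcen hcard
    exact Or.inr (Or.inr (Or.inr (Or.inr (Or.inr (Or.inr (Or.inl ⟨p, e, M, hpp, hchar, hq, hord, htype, ha,
      hM.trans hHG, fun g hg => ⟨1, fun u v => by rw [Units.val_one, one_mul]; exact mem_GU_iff.mp (hHG (hM hg)) u v⟩,
      hcard, hcen, eq_inf_of_maximal' hH hn.le_normalizer (hσ.not_su_le_normalizer h5 hp ha (hM.trans hHG)
        (fun x hx => det_gl_of_mem_specialLinear (hHS (hM hx))) hnon hc)⟩))))))
  | perfect P hP hPn hPa hcore hsymp =>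
    by_cases hreal : ∃ F₀ : Subfield F, F₀ ≠ ⊤ ∧ RealisableOver F₀ (matrixSet P)
    · obtain ⟨F₀, h0, hr⟩ := hreal
      rcases hsub hP hPn hPa h0 hr with h | h
      · exact Or.inr (Or.inr (Or.inr (Or.inr (Or.inl h))))
      · exact Or.inr (Or.inr (Or.inr (Or.inr (Or.inr (Or.inl h)))))
    have hno : ∀ F₀ : Subfield F, F₀ ≠ ⊤ → ¬ RealisableOver F₀ (matrixSet P) := fun F₀ h0 hr => hreal ⟨F₀, h0, hr⟩
    exact Or.inr (Or.inr (Or.inr (Or.inr (Or.inr (Or.inr (Or.inr
      ⟨P, hcore hno, hσ.no_quadratic hodd (hP.trans hHG) hPa hno, hsymp⟩))))))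

/-- The residue of `p` modulo `n` when it has multiplicative order `m`. -/
theorem order_facts {n p m : ℕ} (hn : n.Prime) (hm : 0 < m) (h : orderOf (p : ZMod n) = m) :
    m < n ∧ (p % n) ^ m % n = 1 ∧ ∀ d, d < m → 0 < d → (p % n) ^ d % n ≠ 1 := by
  haveI : Fact n.Prime := ⟨hn⟩
  haveI : Fact (1 < n) := ⟨hn.one_lt⟩
  have key : ∀ d, (p : ZMod n) ^ d = 1 ↔ (p % n) ^ d % n = 1 := fun d => by
    rw [← Nat.cast_pow, ← Nat.cast_one, ZMod.natCast_eq_natCast_iff', Nat.pow_mod, Nat.mod_eq_of_lt hn.one_lt]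
  refine ⟨?_, (key m).mp (h ▸ pow_orderOf_eq_one _), fun d hd hd0 he => ?_⟩
  · have hne : (p : ZMod n) ≠ 0 := fun e => by
      rw [e] at h
      have := h ▸ pow_orderOf_eq_one (0 : ZMod n)
      rw [zero_pow hm.ne'] at this
      exact zero_ne_one this
    have h2 := orderOf_dvd_of_pow_eq_one (ZMod.pow_card_sub_one_eq_one hne)
    rw [h] at h2
    have := Nat.le_of_dvd (by have := hn.two_le; omega) h2
    have := hn.two_le
    omega
  · have := Nat.le_of_dvd hd0 (orderOf_dvd_of_pow_eq_one ((key d).mpr he))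
    omega

end Cfsg.Agent.Classical
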