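/-
Maximal subgroups of the special unitary groups in dimension at least five.
-/
import Cfsg.Agent.Lib.Classical.FormUStructure
import Cfsg.Agent.Lib.Classical.FixCodim
import Cfsg.Agent.Lib.Classical.SymplecticClassTwo
import Cfsg.Agent.Lib.Classical.UnitaryCases

set_option autoImplicit false
set_option linter.style.haveILetI false
set_option linter.unusedSectionVars false

namespace Cfsg.Agent.Classical

open Matrix Cfsg.Geo

variable {n q : ℕ} {F : Type*} [Field F] [Fintype F] {σ : F ≃+* F} (hσ : IsUSigma q σ)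

include hσ

theorem IsUSigma.transvection_fixCodim {v : Fin n → F} {c : F} {g : GL (Fin n) F}
    (hg : ∀ u, (g : Matrix (Fin n) (Fin n) F) *ᵥ u = u + (c * hermForm n F q u v) • v) : FixCodim 1 g :=
  ⟨{ toFun := fun u _ => hermForm n F q u v
     map_add' := fun a b => funext fun _ => hσ.isUnitaryForm.add_left a b v
     map_smul' := fun s a => funext fun _ => hσ.isUnitaryForm.smul_left s a v },
    fun u hu => by rw [hg, show hermForm n F q u v = 0 from congrFun hu 0, mul_zero, zero_smul, add_zero]⟩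

/-- A nontrivial transvection. -/
theorem IsUSigma.exists_fixCodim (h5 : 5 ≤ n) : ∃ g ∈ suGL n F q, g ≠ 1 ∧ FixCodim 1 g := by
  classical
  obtain ⟨a, -, -, ha0, -, -, -, ha, -, -⟩ := hσ.three_values
  obtain ⟨c, hc0, hc⟩ := hσ.exists_skew
  let i : Fin n := ⟨0, by omega⟩
  let j : Fin n := ⟨1, by omega⟩
  have hij : i ≠ j := by simp [i, j]
  set v : Fin n → F := Pi.single i 1 + Pi.single j a with hv
  have hv0 : v ≠ 0 := fun e => by simpa [hv, hij] using congrFun e i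
  obtain ⟨g, hg, hgm⟩ := hσ.exists_transvection (v := v) (hσ.isotropic_pair hij ha) hc
  refine ⟨g, hg, fun e => ?_, hσ.transvection_fixCodim hgm⟩
  obtain ⟨u, hu⟩ := (hσ.isUnitaryForm.nondegenerate v hv0).1
  have h := hgm u
  rw [e, Units.val_one, Matrix.one_mulVec, eq_comm, add_eq_left] at h
  exact hu ((mul_eq_zero.mp ((smul_eq_zero.mp h).resolve_right hv0)).resolve_left hc0)

/-- The special unitary group preserves no decomposition. -/
theorem IsUSigma.not_su_le_decomp (h5 : 5 ≤ n) {t k : ℕ} {D : Fin t → Submodule F (Fin n → F)}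
    (hD : IsMDecomposition k D) : ¬ suGL n F q ≤ decompositionStabilizer D := by
  classical
  intro hle
  have hcard := IsMDecomposition.card_eq hD
  rw [Fintype.card_fin] at hcard
  by_cases hk : k = 1
  · subst hk
    rw [mul_one] at hcard
    refine hσ.not_su_le_decomposition h5 (D := D ∘ Fin.cast ((Fintype.card_fin n).trans hcard.symm))
      ⟨by rw [Fintype.card_fin]; omega, one_pos, fun i => hD.finrank_eq _,
        hD.indep.comp (Fin.cast_injective _), ?_⟩ ?_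
    · rw [← hD.iSup_eq_top]
      exact (finCongr ((Fintype.card_fin n).trans hcard.symm)).iSup_comp (g := D)
    · rw [decompositionStabilizer_cast]; exact hle
  · refine not_decomposition_of_centralizer (d := 1) (S := {g | g ∈ suGL n F q ∧ FixCodim 1 g}) (fun g hg => hg.2)
      (fun M hM => hσ.transvection_centralizer h5 fun v _ c _ g hg hgm => hM g ⟨hg, hσ.transvection_fixCodim hgm⟩)
      hD (by have := hD.pos; omega) fun g hg => hle hg.1

/-- The maximal subgroups of the special unitary group. -/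
theorem IsUSigma.u_cases (h5 : 5 ≤ n) {H : Subgroup (GL (Fin n) F)} (hH : IsMaximalIn (suGL n F q) H) :
    (∃ W : Submodule F (Fin n → F), W ≠ ⊥ ∧ IsTotallySingularFor (hermForm n F q) W ∧
      H = subspaceStabilizer W ⊓ suGL n F q) ∨
    (∃ W : Submodule F (Fin n → F), W ≠ ⊥ ∧ IsNondegenerateOn (hermForm n F q) W ∧ 2 * Module.finrank F W < n ∧
      H = subspaceStabilizer W ⊓ suGL n F q) ∨
    (∃ (t k : ℕ) (D : Fin t → Submodule F (Fin n → F)), 2 ≤ t ∧ 0 < k ∧ t * k = n ∧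
      IsNondegenerateMDecomposition (hermForm n F q) k D ∧ H = decompositionStabilizer D ⊓ suGL n F q) ∨
    (∃ (k : ℕ) (D : Fin 2 → Submodule F (Fin n → F)), 2 * k = n ∧ IsMDecomposition k D ∧
      (∀ i, IsTotallySingularFor (hermForm n F q) (D i)) ∧ H = decompositionStabilizer D ⊓ suGL n F q) ∨
    (∃ (F₀ : Subfield F) (r : ℕ) (P : GL (Fin n) F), r.Prime ∧ Odd r ∧ Fintype.card F = Nat.card F₀ ^ r ∧
      IsFormRationalStructure (hermForm n F q) F₀ 1 P ∧ H = subfieldSubgroup F₀ P ⊓ suGL n F q) ∨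
    (∃ (F₀ : Subfield F) (P : GL (Fin n) F), Odd q ∧ Fintype.card F = Nat.card F₀ ^ 2 ∧
      IsFormRationalStructure (hermForm n F q) F₀ 1 P ∧ H = subfieldSubgroup F₀ P ⊓ suGL n F q) ∨
    (∃ (F₀ : Subfield F) (P : GL (Fin n) F) (ζ : F), Even n ∧ Fintype.card F = Nat.card F₀ ^ 2 ∧ ζ ≠ 0 ∧
      ζ + ζ ^ q = 0 ∧ IsFormRationalStructure (hermForm n F q) F₀ ζ P ∧
      (∀ u : Fin n → F, (∀ i, u i ∈ F₀) →
        hermForm n F q ((P : Matrix (Fin n) (Fin n) F) *ᵥ u) ((P : Matrix (Fin n) (Fin n) F) *ᵥ u) = 0) ∧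
      H = subfieldSubgroup F₀ P ⊓ suGL n F q) ∨
    (∃ (r : ℕ) (R : Subgroup (GL (Fin n) F)) (p k : ℕ), IsSymplecticTypeGroup r R ∧
      ActsAbsolutelyIrreducibly (matrixSet R) ∧ R ≤ similarityGroup (hermForm n F q) ∧ p.Prime ∧
      ((Odd r ∧ Nat.card (Subgroup.center R) = r ∧ 1 ≤ k ∧ Nat.card R = r ^ (1 + 2 * k) ∧ n = r ^ k ∧
          r ≠ p ∧ ∃ e, IsMinimalFieldFor r p e F) ∨
       (r = 2 ∧ q = p ∧ p % 4 = 3 ∧ Nat.card (Subgroup.center R) = 4 ∧ Nat.card R = 2 ^ (2 + 2 * k) ∧ n = 2 ^ k)) ∧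
      H = subgroupNormalizer R ⊓ suGL n F q) ∨
    (∃ (r : ℕ) (K : Subalgebra F (Matrix (Fin n) (Fin n) F)), r.Prime ∧ Odd r ∧ r ∣ n ∧ IsFieldSubalgebra r K ∧
      IsAdjointClosedFor (hermForm n F q) K ∧ H = subalgebraNormalizer K ⊓ suGL n F q) ∨
    (∃ (n₁ n₂ : ℕ) (e : Fin n ≃ Fin n₁ × Fin n₂) (P : GL (Fin n) F)
      (f₁ : (Fin n₁ → F) → (Fin n₁ → F) → F) (f₂ : (Fin n₂ → F) → (Fin n₂ → F) → F),
      2 ≤ n₁ ∧ n₁ < n₂ ∧ n₁ * n₂ = n ∧ IsUnitaryFormPow q f₁ ∧ IsUnitaryFormPow q f₂ ∧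
      IsTensorFormStructure (fun x : F => x ^ q) (hermForm n F q) f₁ f₂ e P ∧
      H = tensorProductSubgroup n₁ n₂ e P ⊓ suGL n F q) ∨
    (∃ (k t : ℕ) (e : Fin n ≃ (Fin t → Fin k)) (P : GL (Fin n) F) (f₁ : (Fin k → F) → (Fin k → F) → F),
      3 ≤ k ∧ 2 ≤ t ∧ k ^ t = n ∧ ¬ (q = 2 ∧ k = 3) ∧ IsUnitaryFormPow q f₁ ∧
      IsTensorPowerFormStructure (fun x : F => x ^ q) (hermForm n F q) f₁ e P ∧
      H = tensorWreathSubgroup k t e P ⊓ suGL n F q) ∨
    InUnitaryResidualClass H := by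
  classical
  haveI : Nonempty (Fin n) := ⟨⟨0, by omega⟩⟩
  have hHI : H ≤ GU n F q := hH.1.le.trans inf_le_left
  have hcard : Fintype.card (Fin n) = n := Fintype.card_fin n
  rcases hσ.u_structure (by omega) hHI with ⟨M, hM, hHM⟩ | hres
  swap
  · iterate 11 right
    exact hres
  obtain ⟨g, hg, hg1, hgd⟩ := hσ.exists_fixCodim h5
  -- every member is `X ⊓ GU`
  have key : ∀ {X : Subgroup (GL (Fin n) F)}, M = X ⊓ GU n F q → ¬ suGL n F q ≤ X → H = X ⊓ suGL n F q :=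
    fun hMX hX => eq_inf_of_maximal' hH ((hHM.trans hMX.le).trans inf_le_left) hX
  rcases hM with hM | hM | hM | hM
  · rcases hM with ⟨W, h0, hts, rfl⟩ | ⟨W, h0, hnd, hlt, rfl⟩ | ⟨t, k, D, hD, rfl⟩ | ⟨k, D, hk, hD, hts, rfl⟩ |
      ⟨F₀, r, P, hr, hro, hc, hrat, rfl⟩ | ⟨F₀, P, hqo, hc, hrat, rfl⟩ | ⟨F₀, P, ζ, hev, hc, h0, hζ, hrat, halt, rfl⟩ |
      ⟨r, R, p, e, k, hR, hRa, hsim, hrp, hmin, hdata, rfl⟩
    · refine Or.inl ⟨W, h0, hts, key rfl (hσ.not_su_le_subspace h5 h0 fun e => ?_)⟩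
      subst e
      obtain ⟨x, hx⟩ := (hσ.isUnitaryForm.nondegenerate (Pi.single (⟨0, by omega⟩ : Fin n) (1 : F)) (by simp)).1
      exact hx (hts x trivial _ trivial)
    · refine Or.inr (Or.inl ⟨W, h0, hnd, hlt, key rfl (hσ.not_su_le_subspace h5 h0 fun e => ?_)⟩)
      subst e
      simp at hlt
      omega
    · exact Or.inr (Or.inr (Or.inl ⟨t, k, D, hD.decomp.two_le, hD.decomp.pos, (IsMDecomposition.card_eq hD.decomp).trans hcard, hD,
        key rfl (hσ.not_su_le_decomp h5 hD.decomp)⟩))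
    · exact Or.inr (Or.inr (Or.inr (Or.inl ⟨k, D, hk, hD, hts, key rfl (hσ.not_su_le_decomp h5 hD)⟩)))
    · exact Or.inr (Or.inr (Or.inr (Or.inr (Or.inl ⟨F₀, r, P, hr, hro, hc, hrat,
        key rfl (hσ.not_su_le_subfield h5 hr hc P)⟩))))
    · exact Or.inr (Or.inr (Or.inr (Or.inr (Or.inr (Or.inl ⟨F₀, P, hqo, hc, hrat,
        key rfl (hσ.not_su_le_subfield h5 Nat.prime_two hc P)⟩)))))
    · exact Or.inr (Or.inr (Or.inr (Or.inr (Or.inr (Or.inr (Or.inl ⟨F₀, P, ζ, hev, hc, h0, hζ, hrat, halt,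
        key rfl (hσ.not_su_le_subfield h5 Nat.prime_two hc P)⟩))))))
    · have hcomm := symplecticTypeGroup_comm hR hRa
      have hn := card_sq_of_scalar_commutators hRa hcomm
      rw [hcard] at hn
      have hnot : ¬ suGL n F q ≤ subgroupNormalizer R := fun h =>
        hgd.not_mem_normalizer hg1 (by rw [hcard]; omega) hRa hcomm (h hg)
      refine Or.inr (Or.inr (Or.inr (Or.inr (Or.inr (Or.inr (Or.inr (Or.inl
        ⟨r, R, p, k, hR, hRa, hsim, hmin.1, ?_, key rfl hnot⟩)))))))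
      rcases hdata with ⟨hro, hZ, hk, hRc⟩ | ⟨rfl, rfl, hZ, hRc⟩
      · refine Or.inl ⟨hro, hZ, hk, hRc, ?_, hrp, e, hZ ▸ hmin⟩
        rw [hZ, hRc, show r ^ (1 + 2 * k) = (r ^ k) ^ 2 * r by ring] at hn
        exact Nat.pow_left_injective two_ne_zero (Nat.eq_of_mul_eq_mul_right hR.prime.pos hn)
      · obtain ⟨hp, hchar, hcF, hdvd, hnd⟩ := hmin
        rw [hσ.card] at hcF
        refine Or.inr ⟨rfl, (Nat.pow_left_injective two_ne_zero hcF : q = p), ?_, hZ, hRc, ?_⟩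
        · have h1 := hnd 1 one_pos one_lt_two
          rw [hZ, pow_one] at h1
          have h2 : p ≠ 2 := fun e => hrp e.symm
          obtain ⟨u, hu⟩ := hp.odd_of_ne_two h2
          have := hp.two_le
          omega
        · rw [hZ, hRc, show 2 ^ (2 + 2 * k) = (2 ^ k) ^ 2 * 4 by ring] at hn
          exact Nat.pow_left_injective two_ne_zero (Nat.eq_of_mul_eq_mul_right (by norm_num) hn)
  · obtain ⟨r, K, hr, hro, hK, hadj, rfl⟩ := hM
    exact Or.inr (Or.inr (Or.inr (Or.inr (Or.inr (Or.inr (Or.inr (Or.inr (Or.inl ⟨r, K, hr, hro,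
      hcard ▸ fieldSubalgebra_finrank_dvd hK, hK, hadj, key rfl (hσ.not_su_le_field h5 hr.one_lt hK)⟩))))))))
  · obtain ⟨n₁, n₂, e, P, f₁, f₂, h1, h2, hf₁, hf₂, hT, rfl⟩ := hM
    have hn : n₁ * n₂ = n := by
      have := Fintype.card_congr e
      simp only [Fintype.card_fin, Fintype.card_prod] at this
      exact this.symm
    exact Or.inr (Or.inr (Or.inr (Or.inr (Or.inr (Or.inr (Or.inr (Or.inr (Or.inr (Or.inl ⟨n₁, n₂, e, P, f₁, f₂, h1, h2, hn,
      hf₁, hf₂, hT, key rfl fun h => hgd.not_mem_tensor hg1 (by omega) (by omega) e P (h hg)⟩)))))))))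
  · obtain ⟨k, t, e, P, f₁, hk, ht, hex, hf₁, hT, rfl⟩ := hM
    have hn : k ^ t = n := by
      have := Fintype.card_congr e
      simp only [Fintype.card_fin, Fintype.card_fun] at this
      exact this.symm
    exact Or.inr (Or.inr (Or.inr (Or.inr (Or.inr (Or.inr (Or.inr (Or.inr (Or.inr (Or.inr (Or.inl ⟨k, t, e, P, f₁, hk, ht, hn,
      hex, hf₁, hT, key rfl fun h => hgd.not_mem_wreath hg1 (by omega) ht (Or.inl (by omega)) e P (h hg)⟩))))))))))

/-- The minimal field of the cube roots of unity in the unitary case. -/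
theorem IsUSigma.cube_root_field {p e : ℕ} (hp3 : 3 ≠ p) (h : IsMinimalFieldFor 3 p e F) : q = p ∧ p % 3 = 2 := by
  obtain ⟨hp, hchar, hcF, hdvd, hnd⟩ := h
  have he : e ≠ 0 := fun e0 => by
    rw [e0, pow_zero] at hcF
    exact absurd hcF Fintype.one_lt_card.ne'
  have h3 : p % 3 = 1 ∨ p % 3 = 2 := by
    have : p % 3 ≠ 0 := fun h0 => hp3 ((Nat.prime_dvd_prime_iff_eq Nat.prime_three hp).mp (Nat.dvd_of_mod_eq_zero h0))
    omega
  have hle : ∀ d, 0 < d → 3 ∣ p ^ d - 1 → e ≤ d := fun d hd hdd => by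
    by_contra hcon
    exact hnd d hd (by omega) hdd
  have h2 : e ≤ 2 := hle 2 two_pos (by
    have : p ^ 2 % 3 = 1 := by rw [Nat.pow_mod]; rcases h3 with h | h <;> rw [h] <;> rfl
    have := Nat.one_le_pow 2 p hp.pos
    omega)
  have hne1 : e ≠ 1 := fun e1 => by
    rw [e1, pow_one, hσ.card] at hcF
    exact Nat.Prime.not_prime_pow (x := q) le_rfl (hcF ▸ hp)
  have he2 : e = 2 := by omega
  rw [he2, hσ.card] at hcF
  refine ⟨Nat.pow_left_injective two_ne_zero hcF, h3.resolve_left fun h1 => ?_⟩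
  have := hle 1 one_pos (by rw [pow_one]; have := hp.two_le; omega)
  omega

end Cfsg.Agent.Classical
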