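/-
Planes and tensor products with a factor of dimension two in unitary groups over the field with four elements.
-/
import Cfsg.Agent.Lib.Classical.DecompFamily
import Cfsg.Agent.Lib.Classical.FormUMember
import Cfsg.Agent.Lib.Classical.FormUMaximal

set_option autoImplicit false
set_option linter.style.haveILetI false
set_option linter.unusedSectionVars false

namespace Cfsg.Agent.Classical

open Matrix Cfsg.Geo
open scoped Kronecker

variable {n : ℕ} {F : Type*} [Field F] [Fintype F] {σ : F ≃+* F} (hσ : IsUSigma 2 σ)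

include hσ

theorem unit_of_fixed {x : F} (hx : x ≠ 0) (h : σ x = x) : x = 1 := by
  obtain ⟨h2, hu⟩ := unit_four hσ
  have h1 := (hu x hx).1
  rw [h] at h1
  rcases mul_self_eq_one_iff.mp h1 with h | h
  · exact h
  · rw [h]; linear_combination -h2

/-- A sum of two norms equal to one has one vanishing term. -/
theorem norm_pair_one {x y : F} (h : x * σ x + y * σ y = 1) : x = 0 ∨ y = 0 := by
  obtain ⟨h2, hu⟩ := unit_four hσ
  by_contra hcon
  push Not at hcon
  rw [(hu x hcon.1).1, (hu y hcon.2).1] at h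
  exact one_ne_zero (α := F) (by linear_combination h2 - h)

/-- The stabiliser of planes fixes lines. -/
theorem lines_of_planes {t : ℕ} {D : Fin t → Submodule F (Fin n → F)}
    (hD : IsNondegenerateMDecomposition (hermForm n F 2) 2 D) :
    ∃ D' : Fin (t * 2) → Submodule F (Fin n → F), IsNondegenerateMDecomposition (hermForm n F 2) 1 D' ∧
      ∀ g ∈ decompositionStabilizer D, g ∈ GU n F 2 → g ∈ decompositionStabilizer D' := by
  classical
  obtain ⟨h2, hu⟩ := unit_four hσ
  have hfu := hσ.isUnitaryForm (n := n)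
  have hf := reflexForm_of_unitary hfu
  set f := hermForm n F 2
  have hself : ∀ v, f v v ≠ 0 → f v v = 1 := fun v hv => unit_of_fixed hσ hv (hfu.herm v v).symm
  have hbasis : ∀ i, ∃ u w, u ∈ D i ∧ w ∈ D i ∧ f u u = 1 ∧ f w w = 1 ∧ f u w = 0 ∧
      ∀ v ∈ D i, ∃ a c : F, v = a • u + c • w := by
    intro i
    have hfin := hD.decomp.finrank_eq i
    obtain ⟨u, huD, hu1⟩ : ∃ u ∈ D i, f u u = 1 := by
      by_contra hcon
      push Not at hcon
      have h0 : ∀ v ∈ D i, f v v = 0 := fun v hv => by_contra fun h => hcon v hv (hself v h)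
      obtain ⟨v, hv, hv0⟩ := Submodule.exists_mem_ne_zero_of_ne_bot (p := D i) (fun e => by rw [e, finrank_bot] at hfin; omega)
      obtain ⟨z, hz, hzv⟩ := (hD.nondegenerate i v hv hv0).2
      obtain ⟨ω, hω0, hω1⟩ : ∃ ω : F, ω ≠ 0 ∧ ω ≠ 1 := by
        have : 2 < Fintype.card F := by rw [hσ.card]; norm_num
        obtain ⟨ω, -, hω⟩ := Finset.exists_mem_notMem_of_card_lt_card (s := ({0, 1} : Finset F)) (t := Finset.univ)
          ((Finset.card_le_two).trans_lt (by rwa [Finset.card_univ]))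
        exact ⟨ω, by simpa using fun e : ω = 0 => hω (by simp [e]), by simpa using fun e : ω = 1 => hω (by simp [e])⟩
      have key : ∀ c : F, c * f v z + σ (c * f v z) = 0 := fun c => by
        have h := h0 (c • v + z) ((D i).add_mem ((D i).smul_mem c hv) hz)
        rw [hf.semi.add_left, hf.semi.add_right, hf.semi.add_right, hf.semi.smul_left, hf.semi.smul_left, hf.semi.smul_right,
          hf.semi.smul_right, h0 v hv, h0 z hz, hfu.herm z v, mul_zero, mul_zero, zero_add, add_zero, ← map_mul] at h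
        exact h
      have h1 := key (f v z)⁻¹
      have h3 := key (ω * (f v z)⁻¹)
      rw [inv_mul_cancel₀ hzv] at h1
      rw [mul_assoc, inv_mul_cancel₀ hzv, mul_one] at h3
      exact hω1 (unit_of_fixed hσ hω0 (by linear_combination h3 - ω * h2))
    obtain ⟨z, hz, hzn⟩ : ∃ z ∈ D i, z ∉ F ∙ u := by
      by_contra hcon
      push Not at hcon
      have hu0 : u ≠ 0 := fun e => by rw [e, hf.zero_left] at hu1; exact zero_ne_one hu1
      have := (Submodule.finrank_mono hcon).trans_eq (finrank_span_singleton hu0)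
      omega
    set w := z + (-(f z u)) • u with hw
    have hwD : w ∈ D i := (D i).add_mem hz ((D i).smul_mem _ huD)
    have hwu : f w u = 0 := by rw [hw, hf.semi.add_left, hf.semi.smul_left, hu1]; ring
    have huw : f u w = 0 := hf.eq_zero_swap hwu
    have hspan : ∀ v ∈ D i, ∀ x y : Fin n → F, x ∈ D i → y ∈ D i → LinearIndependent F ![x, y] →
        ∃ a c : F, v = a • x + c • y := by
      intro v hv x y hx hy hli
      have heq : Submodule.span F (Set.range ![x, y]) = D i := by
        refine Submodule.eq_of_le_of_finrank_eq (Submodule.span_le.mpr ?_) ?_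
        · rintro _ ⟨k, rfl⟩; fin_cases k <;> assumption
        · rw [finrank_span_eq_card hli, hfin, Fintype.card_fin]
      rw [← heq, show Set.range ![x, y] = {x, y} by simp [Matrix.range_cons, Set.pair_comm]] at hv
      obtain ⟨a, c, h⟩ := Submodule.mem_span_pair.mp hv
      exact ⟨a, c, h.symm⟩
    have hw0 : w ≠ 0 := fun e => hzn (by
      have : z = f z u • u := by rw [hw, neg_smul, ← sub_eq_add_neg, sub_eq_zero] at e; exact e
      rw [this]; exact Submodule.smul_mem _ _ (Submodule.mem_span_singleton_self u))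
    have hli : LinearIndependent F ![u, w] := by
      rw [LinearIndependent.pair_iff]
      intro a c h
      have h1 := congrArg (fun x => f x u) h
      simp only [hf.semi.add_left, hf.semi.smul_left, hu1, hwu, hf.zero_left, mul_zero, add_zero, mul_one] at h1
      rw [h1, zero_smul, zero_add, smul_eq_zero] at h
      exact ⟨h1, h.resolve_right hw0⟩
    have hww : f w w = 1 := by
      refine hself w fun h => ?_
      obtain ⟨x, hx, hxw⟩ := (hD.nondegenerate i w hwD hw0).1
      obtain ⟨a, c, rfl⟩ := hspan x hx u w huD hwD hli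
      exact hxw (by rw [hf.semi.add_left, hf.semi.smul_left, hf.semi.smul_left, huw, h, mul_zero, mul_zero, add_zero])
    exact ⟨u, w, huD, hwD, hu1, hww, huw, fun v hv => hspan v hv u w huD hwD hli⟩
  choose U W hU hW hUU hWW hUW hdec using hbasis
  let E : Fin (t * 2) ≃ Fin t × Fin 2 := finProdFinEquiv.symm
  let B : Fin t × Fin 2 → Fin n → F := fun x => if x.2 = 0 then U x.1 else W x.1
  have hBmem : ∀ x, B x ∈ D x.1 := fun x => by
    simp only [B]; split_ifs <;> [exact hU _; exact hW _]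
  have hB : ∀ x y, f (B x) (B y) = if x = y then 1 else 0 := by
    rintro ⟨i, s⟩ ⟨i', s'⟩
    rcases eq_or_ne i i' with rfl | hne
    · fin_cases s <;> fin_cases s' <;> simp [B, hUU, hWW, hUW, hf.eq_zero_swap (hUW i)]
    · rw [hD.orthogonal i i' hne _ (hBmem (i, s)) _ (hBmem (i', s')), if_neg fun e => hne (congrArg Prod.fst e)]
  let b : Fin (t * 2) × Fin 1 → Fin n → F := fun x => B (E x.1)
  have ht := hD.decomp.two_le
  have hcard : t * 2 * 1 = Fintype.card (Fin n) := by rw [mul_one, IsMDecomposition.card_eq hD.decomp]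
  have hD' := hf.nondeg_decomp_of_family (t := t * 2) (k := 1) (by omega) one_pos hcard b
    (G := 1) (by rw [Matrix.det_one]; exact one_ne_zero) fun x y => by
      rw [hB]
      obtain ⟨x1, x2⟩ := x; obtain ⟨y1, y2⟩ := y
      simp [E.injective.eq_iff, Subsingleton.elim x2 y2, Matrix.one_apply]
  refine ⟨blockSpan b, hD', fun g hg hgU => mem_stabilizer_of_family hD'.decomp fun x => ?_⟩
  obtain ⟨π, hπ⟩ := hg
  set y := E x
  have hmem : (g : Matrix (Fin n) (Fin n) F) *ᵥ B y ∈ D (π y.1) := by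
    rw [← hπ]; exact ⟨B y, hBmem y, rfl⟩
  obtain ⟨a, c, hac⟩ := hdec _ _ hmem
  have h1 : f ((g : Matrix (Fin n) (Fin n) F) *ᵥ B y) ((g : Matrix (Fin n) (Fin n) F) *ᵥ B y) = 1 := by
    rw [show f ((g : Matrix (Fin n) (Fin n) F) *ᵥ B y) ((g : Matrix (Fin n) (Fin n) F) *ᵥ B y) = f (B y) (B y) from
      mem_GU_iff.mp hgU _ _, hB, if_pos rfl]
  rw [hac] at h1
  simp only [hf.semi.add_left, hf.semi.add_right, hf.semi.smul_left, hf.semi.smul_right, hUU, hWW, hUW,
    hf.eq_zero_swap (hUW (π y.1)), mul_zero, add_zero, zero_add, mul_one] at h1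
  rcases norm_pair_one hσ h1 with h | h
  · refine ⟨E.symm (π y.1, 1), fun j => ?_⟩
    have : b (E.symm (π y.1, 1), 0) = W (π y.1) := by simp [b, B]
    change (g : Matrix (Fin n) (Fin n) F) *ᵥ B y ∈ _
    rw [hac, h, zero_smul, zero_add, ← this]
    exact Submodule.smul_mem _ _ (mem_blockSpan b _ 0)
  · refine ⟨E.symm (π y.1, 0), fun j => ?_⟩
    have : b (E.symm (π y.1, 0), 0) = U (π y.1) := by simp [b, B]
    change (g : Matrix (Fin n) (Fin n) F) *ᵥ B y ∈ _
    rw [hac, h, zero_smul, add_zero, ← this]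
    exact Submodule.smul_mem _ _ (mem_blockSpan b _ 0)

/-- A tensor product with a plane fixes a decomposition into two subspaces. -/
theorem halves_of_tensor {m : ℕ} (hm : 0 < m) {e : Fin n ≃ Fin 2 × Fin m} {P : GL (Fin n) F}
    {f₁ : (Fin 2 → F) → (Fin 2 → F) → F} {f₂ : (Fin m → F) → (Fin m → F) → F} (hf₁ : IsUnitaryFormPow 2 f₁)
    (hf₂ : IsUnitaryFormPow 2 f₂) (hT : IsTensorFormStructure (fun x : F => x ^ 2) (hermForm n F 2) f₁ f₂ e P)
    {H : Subgroup (GL (Fin n) F)} (hle : H ≤ tensorProductSubgroup 2 m e P) (hH : H ≤ GU n F 2) :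
    ∃ D : Fin 2 → Submodule F (Fin n → F), IsNondegenerateMDecomposition (hermForm n F 2) m D ∧
      H ≤ decompositionStabilizer D := by
  classical
  obtain ⟨h2, hu⟩ := unit_four hσ
  have hfu := hσ.isUnitaryForm (n := n)
  have hf := reflexForm_of_unitary hfu
  set f := hermForm n F 2
  obtain ⟨c, hc, hT⟩ := hT
  set G₁ := gramMatrix f₁
  set G₂ := gramMatrix f₂
  have hgram : gramCoord σ f e P = c • (G₁ ⊗ₖ G₂) := by
    ext x y
    have h := hT (Pi.single x 1) (Pi.single y 1)
    rw [hf.semi.coord_apply e P, ← hσ.coe_eq, formOfGram_eq] at h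
    simpa [Matrix.mulVec, dotProduct, Pi.single_apply, apply_ite σ] using h
  have hrefl : ∀ {k : ℕ} {g : (Fin k → F) → (Fin k → F) → F}, IsUnitaryFormPow 2 g → (gramMatrix g).det ≠ 0 ∧
      ∀ i j, gramMatrix g j i = σ (gramMatrix g i j) := fun {k g} hg => by
    have hherm : ∀ v w, g v w = σ (g w v) := fun v w => by rw [hσ.apply_eq]; exact hg.herm v w
    have hsemi : IsSemiForm σ g := ⟨hg.add_left, hg.smul_left,
      fun v x y => by rw [hherm, hg.add_left, map_add, ← hherm, ← hherm],
      fun c v x => by rw [hherm, hg.smul_left, map_mul, ← hherm]⟩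
    exact ⟨det_gram_ne_zero σ hsemi hg.nondegenerate, fun i j => hherm _ _⟩
  obtain ⟨A, hA⟩ := hσ.hermitian_congr (hrefl hf₁).1 (hrefl hf₁).2
  have hkr : ∀ g ∈ H, ∃ (a : GL (Fin 2) F) (b : GL (Fin m) F),
      matCoord e P (g : Matrix (Fin n) (Fin n) F) = (a : Matrix (Fin 2) (Fin 2) F) ⊗ₖ (b : Matrix (Fin m) (Fin m) F) :=
    fun g hg => by
      obtain ⟨a, b, h⟩ := (mem_conj_reindex_iff e P).mp (hle hg)
      rw [coe_glReindex_conj] at h
      exact ⟨a, b, h⟩
  obtain ⟨P', hP', hkr'⟩ := exists_tensor_rebase e P hgram A (1 : GL (Fin m) F) hkr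
  rw [hA, Units.val_one, Matrix.transpose_one, Matrix.one_mul, Matrix.map_one σ (map_zero σ) (map_one σ), Matrix.mul_one] at hP'
  choose b hb using fun x => vecCoord_surjective e P' (Pi.single x (1 : F))
  have hfb : ∀ x y, f (b x) (b y) = if x.1 = y.1 then (c • G₂) x.2 y.2 else 0 := fun x y => by
    rw [hf.semi.apply_coord e P', hb, hb, hP']
    simp [Matrix.mulVec, dotProduct, Pi.single_apply, apply_ite σ, Matrix.one_apply]
    rw [Finset.sum_eq_single x (fun z _ hz => by simp [hz]) (fun h => absurd (Finset.mem_univ _) h)]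
    simp
  have hD := hf.nondeg_decomp_of_family le_rfl hm (by rw [Fintype.card_congr e]; simp) b
    (G := c • G₂) (by rw [Matrix.det_smul]; exact mul_ne_zero (pow_ne_zero _ hc) (hrefl hf₂).1) hfb
  refine ⟨blockSpan b, hD, fun g hg => mem_stabilizer_of_family hD.decomp fun i => ?_⟩
  obtain ⟨a, B, hab⟩ := hkr' g hg
  have hiso := hf.gramCoord_isometry e P' (g := g) (mem_GU_iff.mp (hH hg))
  rw [hab, hP'] at hiso
  obtain ⟨j₀, l₀, hjl⟩ : ∃ j l, G₂ j l ≠ 0 := by
    by_contra hcon
    push Not at hcon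
    haveI : Nonempty (Fin m) := ⟨⟨0, hm⟩⟩
    exact (hrefl hf₂).1 (by rw [show gramMatrix f₂ = 0 from Matrix.ext hcon, Matrix.det_zero])
  have hnorm : a.val 0 i * σ (a.val 0 i) + a.val 1 i * σ (a.val 1 i) ≠ 0 := by
    intro h0
    have e1 := congrFun (congrFun hiso (i, j₀)) (i, l₀)
    rw [Matrix.mul_smul, Matrix.smul_mul, ← Matrix.kroneckerMap_transpose, ← Matrix.mul_kronecker_mul,
      show ((a : Matrix (Fin 2) (Fin 2) F) ⊗ₖ (B : Matrix (Fin m) (Fin m) F)).map σ =
        (a : Matrix (Fin 2) (Fin 2) F).map σ ⊗ₖ (B : Matrix (Fin m) (Fin m) F).map σ by ext; simp,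
      ← Matrix.mul_kronecker_mul] at e1
    simp only [Matrix.smul_apply, Matrix.kronecker_apply, smul_eq_mul, Matrix.mul_one, Matrix.mul_apply (M := (a : Matrix (Fin 2) (Fin 2) F)ᵀ),
      Fin.sum_univ_two, Matrix.transpose_apply, Matrix.map_apply, Matrix.one_apply_eq, one_mul] at e1
    rw [h0, zero_mul, mul_zero] at e1
    exact mul_ne_zero hc hjl e1.symm
  have hfix1 : σ (a.val 0 i * σ (a.val 0 i) + a.val 1 i * σ (a.val 1 i)) =
      a.val 0 i * σ (a.val 0 i) + a.val 1 i * σ (a.val 1 i) := by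
    rw [map_add, map_mul, map_mul, hσ.involutive, hσ.involutive]; ring
  obtain ⟨i', hi'⟩ : ∃ i', ∀ r, r ≠ i' → a.val r i = 0 := by
    rcases norm_pair_one hσ (unit_of_fixed hσ hnorm hfix1) with h | h
    · exact ⟨1, fun r hr => by fin_cases r <;> first | exact h | exact absurd rfl hr⟩
    · exact ⟨0, fun r hr => by fin_cases r <;> first | exact h | exact absurd rfl hr⟩
  refine ⟨i', fun j => ?_⟩
  have heq : (g : Matrix (Fin n) (Fin n) F) *ᵥ b (i, j) = ∑ j', (a.val i' i * B.val j' j) • b (i', j') := by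
    refine vecCoord_injective e P' ?_
    rw [vecCoord_mulVec, hb, hab]
    have hsum : ∀ (c : Fin m → F) (v : Fin m → Fin n → F),
        vecCoord e P' (∑ j', c j' • v j') = ∑ j', c j' • vecCoord e P' (v j') := fun c v => by
      funext x
      simp [vecCoord, Matrix.mulVec_sum, Matrix.mulVec_smul]
    rw [hsum]
    simp only [hb]
    funext ⟨r, l⟩
    rw [Matrix.mulVec_single_one]
    simp only [Matrix.col_apply, Matrix.kronecker_apply, Finset.sum_apply, Pi.smul_apply, Pi.single_apply,
      Prod.mk.injEq, smul_eq_mul, mul_ite, mul_one, mul_zero]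
    by_cases hr : r = i'
    · subst hr; simp
    · simp [hr, hi' r hr]
  rw [heq]
  exact Submodule.sum_mem _ fun j' _ => Submodule.smul_mem _ _ (mem_blockSpan b i' j')

/-- A maximal stabiliser of planes is the stabiliser of lines. -/
theorem maximal_lines_of_planes (h5 : 5 ≤ n) {t : ℕ} {D : Fin t → Submodule F (Fin n → F)} {H : Subgroup (GL (Fin n) F)}
    (hH : IsMaximalIn (suGL n F 2) H) (hD : IsNondegenerateMDecomposition (hermForm n F 2) 2 D)
    (h : H = decompositionStabilizer D ⊓ suGL n F 2) :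
    ∃ D' : Fin (t * 2) → Submodule F (Fin n → F), IsNondegenerateMDecomposition (hermForm n F 2) 1 D' ∧
      H = decompositionStabilizer D' ⊓ suGL n F 2 := by
  obtain ⟨D', hD', hst⟩ := lines_of_planes hσ hD
  exact ⟨D', hD', eq_inf_of_maximal' hH
    (fun g hg => hst g (h ▸ hg : g ∈ decompositionStabilizer D ⊓ suGL n F 2).1 (hH.1.le hg).1)
    (hσ.not_su_le_decomp h5 hD'.decomp)⟩

/-- A maximal tensor product with a plane is the stabiliser of two halves. -/
theorem maximal_halves_of_tensor (h5 : 5 ≤ n) {m : ℕ} (hm : 0 < m) {e : Fin n ≃ Fin 2 × Fin m} {P : GL (Fin n) F}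
    {f₁ : (Fin 2 → F) → (Fin 2 → F) → F} {f₂ : (Fin m → F) → (Fin m → F) → F} (hf₁ : IsUnitaryFormPow 2 f₁)
    (hf₂ : IsUnitaryFormPow 2 f₂) (hT : IsTensorFormStructure (fun x : F => x ^ 2) (hermForm n F 2) f₁ f₂ e P)
    {H : Subgroup (GL (Fin n) F)} (hH : IsMaximalIn (suGL n F 2) H)
    (h : H = tensorProductSubgroup 2 m e P ⊓ suGL n F 2) :
    ∃ D : Fin 2 → Submodule F (Fin n → F), IsNondegenerateMDecomposition (hermForm n F 2) m D ∧
      H = decompositionStabilizer D ⊓ suGL n F 2 := by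
  obtain ⟨D, hD, hle⟩ := halves_of_tensor hσ hm hf₁ hf₂ hT (H := H)
    (fun g hg => (h ▸ hg : g ∈ tensorProductSubgroup 2 m e P ⊓ suGL n F 2).1) (fun g hg => (hH.1.le hg).1)
  exact ⟨D, hD, eq_inf_of_maximal' hH hle (hσ.not_su_le_decomp h5 hD.decomp)⟩

end Cfsg.Agent.Classical
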