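/-
Six orthogonal lines over the field with four elements do not give a maximal subgroup: their stabiliser fixes the
set of vectors of weight two together with those of weight six with product of coordinates one, and so does the
transvection centred at their sum.
-/
import Cfsg.Agent.Lib.Classical.FormUSmall

set_option autoImplicit false
set_option linter.style.haveILetI false
set_option linter.unusedSectionVars false

namespace Cfsg.Agent.Classical

open Matrix Cfsg.Geo

/-- Sum in the model of the field with four elements. -/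
def fourAdd : Fin 4 → Fin 4 → Fin 4 := ![![0, 1, 2, 3], ![1, 0, 3, 2], ![2, 3, 0, 1], ![3, 2, 1, 0]]

/-- Product in the model of the field with four elements. -/
def fourMul : Fin 4 → Fin 4 → Fin 4 := ![![0, 0, 0, 0], ![0, 1, 2, 3], ![0, 2, 3, 1], ![0, 3, 1, 2]]

def fourWeight (a b c d e f : Fin 4) : ℕ :=
  (if a = 0 then 0 else 1) + (if b = 0 then 0 else 1) + (if c = 0 then 0 else 1) + (if d = 0 then 0 else 1) +
    (if e = 0 then 0 else 1) + (if f = 0 then 0 else 1)

def fourGood (a b c d e f : Fin 4) : Bool :=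
  fourWeight a b c d e f == 2 ||
    (fourWeight a b c d e f == 6 && fourMul a (fourMul b (fourMul c (fourMul d (fourMul e f)))) == 1)

theorem four_shift : ∀ a b c d e f : Fin 4, fourGood a b c d e f = true →
    (let s := fourAdd a (fourAdd b (fourAdd c (fourAdd d (fourAdd e f))))
     fourGood (fourAdd a s) (fourAdd b s) (fourAdd c s) (fourAdd d s) (fourAdd e s) (fourAdd f s)) = true := by
  decide +kernel

variable {F : Type*} [Field F] [Fintype F] {σ : F ≃+* F} (hσ : IsUSigma 2 σ)

/-- Weight two, or weight six and product one. -/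
def SixGood (c : Fin 6 → F) : Prop :=
  (∃ i j, i ≠ j ∧ c i ≠ 0 ∧ c j ≠ 0 ∧ ∀ k, k ≠ i → k ≠ j → c k = 0) ∨ ((∀ i, c i ≠ 0) ∧ ∏ i, c i = 1)

theorem four_model (x : Fin 6 → Fin 4) (φ : Fin 4 → F) (hφi : Function.Injective φ) (h0 : φ 0 = 0) (h1 : φ 1 = 1)
    (hm : ∀ a b, φ (fourMul a b) = φ a * φ b) :
    SixGood (fun i => φ (x i)) ↔ fourGood (x 0) (x 1) (x 2) (x 3) (x 4) (x 5) = true := by
  have hz : ∀ a, φ a = 0 ↔ a = 0 := fun a => ⟨fun h => hφi (h.trans h0.symm), fun h => h.symm ▸ h0⟩
  have key : ∀ y : Fin 6 → Bool, ((∃ i j, i ≠ j ∧ y i = true ∧ y j = true ∧ ∀ k, k ≠ i → k ≠ j → y k = false) ↔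
      ((if y 0 then 1 else 0) + (if y 1 then 1 else 0) + (if y 2 then 1 else 0) + (if y 3 then 1 else 0) +
        (if y 4 then 1 else 0) + (if y 5 then (1:ℕ) else 0) = 2)) := by decide +kernel
  have key6 : ∀ y : Fin 6 → Bool, ((∀ i, y i = true) ↔
      ((if y 0 then 1 else 0) + (if y 1 then 1 else 0) + (if y 2 then 1 else 0) + (if y 3 then 1 else 0) +
        (if y 4 then 1 else 0) + (if y 5 then (1:ℕ) else 0) = 6)) := by decide +kernel
  have hw : fourWeight (x 0) (x 1) (x 2) (x 3) (x 4) (x 5) =
      (if decide (x 0 ≠ 0) then 1 else 0) + (if decide (x 1 ≠ 0) then 1 else 0) + (if decide (x 2 ≠ 0) then 1 else 0) +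
        (if decide (x 3 ≠ 0) then 1 else 0) + (if decide (x 4 ≠ 0) then 1 else 0) + (if decide (x 5 ≠ 0) then (1:ℕ) else 0) := by
    simp [fourWeight]
  have hp : (∏ i, φ (x i) = 1) ↔ fourMul (x 0) (fourMul (x 1) (fourMul (x 2) (fourMul (x 3) (fourMul (x 4) (x 5))))) = 1 := by
    rw [← hφi.eq_iff (b := (1 : Fin 4)), h1, hm, hm, hm, hm, hm]
    simp [Fin.prod_univ_six, mul_assoc]
  have k2 := key fun i => decide (x i ≠ 0)
  have k6 := key6 fun i => decide (x i ≠ 0)
  simp only [decide_eq_true_eq, decide_eq_false_iff_not, not_not] at k2 k6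
  simp only [SixGood, fourGood, Bool.or_eq_true, Bool.and_eq_true, beq_iff_eq, hw, ne_eq, hz, hp]
  simp only [decide_eq_true_eq, ne_eq] at k2 k6 ⊢
  rw [k2, k6]

include hσ

/-- A model of the field with four elements. -/
theorem exists_four_model : ∃ φ : Fin 4 → F, Function.Bijective φ ∧ φ 0 = 0 ∧ φ 1 = 1 ∧
    (∀ a b, φ (fourMul a b) = φ a * φ b) ∧ ∀ a b, φ (fourAdd a b) = φ a + φ b := by
  classical
  obtain ⟨h2, hu⟩ := unit_four hσ
  have hcard : Fintype.card F = 4 := by rw [hσ.card]; rfl
  obtain ⟨w, -, hw⟩ := Finset.exists_mem_notMem_of_card_lt_card (s := ({0, 1} : Finset F)) (t := Finset.univ)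
    ((Finset.card_le_two).trans_lt (by rw [Finset.card_univ, hcard]; norm_num))
  simp only [Finset.mem_insert, Finset.mem_singleton, not_or] at hw
  have hw3 := (hu w hw.1).2
  have hq : w * w + w + 1 = 0 := by
    refine (mul_eq_zero.mp (show (w - 1) * (w * w + w + 1) = 0 by linear_combination hw3)).resolve_left ?_
    exact sub_ne_zero.mpr hw.2
  have hinj : Function.Injective ![0, 1, w, w * w] := by
    intro a b hab
    have e1 : w * w ≠ 0 := mul_ne_zero hw.1 hw.1
    have e2 : w * w ≠ 1 := fun e => hw.2 (by rw [e, one_mul] at hw3; exact hw3)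
    have e3 : w * w ≠ w := fun e => hw.2 (mul_left_cancel₀ hw.1 (e.trans (mul_one w).symm))
    obtain ⟨hw0, hw1⟩ := hw
    clear h2 hu hcard hq hw3
    fin_cases a <;> fin_cases b <;> simp_all [eq_comm]
  refine ⟨![0, 1, w, w * w], (Fintype.bijective_iff_injective_and_card _).mpr ⟨hinj, by rw [Fintype.card_fin, hcard]⟩,
    rfl, rfl, fun a b => ?_, fun a b => ?_⟩
  · fin_cases a <;> fin_cases b <;> simp [fourMul] <;>
      first
        | linear_combination hw3
        | linear_combination -hw3
        | linear_combination w * hw3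
        | linear_combination -w * hw3
        | ring
  · fin_cases a <;> fin_cases b <;> simp [fourAdd] <;>
      first
        | linear_combination hq
        | linear_combination -hq
        | linear_combination hq - h2
        | linear_combination hq - w * h2
        | linear_combination hq - w * w * h2
        | linear_combination -hq + h2
        | linear_combination -hq + w * h2
        | linear_combination -hq + w * w * h2
        | linear_combination h2
        | linear_combination -h2
        | linear_combination w * h2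
        | linear_combination -w * h2
        | linear_combination w * w * h2
        | linear_combination -(w * w) * h2
        | ring

theorem six_shift {c : Fin 6 → F} (hc : SixGood c) : SixGood fun i => c i + ∑ j, c j := by
  obtain ⟨φ, hφ, h0, h1, hm, ha⟩ := exists_four_model hσ
  choose x hx using fun i => hφ.2 (c i)
  have e : c = fun i => φ (x i) := funext fun i => (hx i).symm
  rw [e, four_model x φ hφ.1 h0 h1 hm] at hc
  have h := four_shift _ _ _ _ _ _ hc
  set s := fourAdd (x 0) (fourAdd (x 1) (fourAdd (x 2) (fourAdd (x 3) (fourAdd (x 4) (x 5))))) with hs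
  have e' : (fun i => c i + ∑ j, c j) = fun i => φ (fourAdd (x i) s) := funext fun i => by
    rw [ha, hs, ha, ha, ha, ha, ha, hx, hx, hx, hx, hx, hx, hx, Fin.sum_univ_six]
    ring
  rw [e', four_model (fun i => fourAdd (x i) s) φ hφ.1 h0 h1 hm]
  exact h

/-- Six orthogonal lines over four elements: the stabiliser is not maximal. -/
theorem six_frame_false {H : Subgroup (GL (Fin 6) F)} (hH : IsMaximalIn (suGL 6 F 2) H)
    {D : Fin 6 → Submodule F (Fin 6 → F)} (hD : IsNondegenerateMDecomposition (hermForm 6 F 2) 1 D)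
    (h : H = decompositionStabilizer D ⊓ suGL 6 F 2) : False := by
  classical
  obtain ⟨h2, hu⟩ := unit_four hσ
  have hfu := hσ.isUnitaryForm (n := 6)
  have hf := reflexForm_of_unitary hfu
  set f := hermForm 6 F 2 with hfdef
  have hone : ∀ v, f v v ≠ 0 → f v v = 1 := fun v hv => unit_of_fixed hσ hv (hfu.herm v v).symm
  have hinv : ∀ a : F, σ (σ a) = a := hσ.involutive
  -- an orthonormal basis
  have hb : ∀ i, ∃ b ∈ D i, f b b = 1 ∧ ∀ v ∈ D i, ∃ a : F, v = a • b := fun i => by
    obtain ⟨v, hv, hv0⟩ := Submodule.exists_mem_ne_zero_of_ne_bot (p := D i) fun e => by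
      have := hD.decomp.finrank_eq i
      rw [e, finrank_bot] at this
      exact zero_ne_one this
    have hall : ∀ z ∈ D i, ∃ a : F, z = a • v := fun z hz => by
      obtain ⟨a, ha⟩ := exists_smul_eq_of_finrank_eq_one (hD.decomp.finrank_eq i) (x := (⟨v, hv⟩ : D i))
        (fun e => hv0 (congrArg Subtype.val e)) ⟨z, hz⟩
      exact ⟨a, (congrArg Subtype.val ha).symm⟩
    refine ⟨v, hv, hone v fun e => ?_, hall⟩
    obtain ⟨⟨z, hz, hne⟩, -⟩ := hD.nondegenerate i v hv hv0
    obtain ⟨a, rfl⟩ := hall z hz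
    exact hne (by rw [hf.semi.smul_left, e, mul_zero])
  choose b hbD hbb hbspan using hb
  have hgram : ∀ i j, f (b i) (b j) = if i = j then 1 else 0 := fun i j => by
    split_ifs with hij
    · rw [hij, hbb]
    · exact hD.orthogonal i j hij _ (hbD i) _ (hbD j)
  obtain ⟨B, hB⟩ : ∃ B : Matrix (Fin 6) (Fin 6) F, ∀ k i, B k i = b i k := ⟨fun k i => b i k, fun _ _ => rfl⟩
  have hBcol : ∀ i, B *ᵥ Pi.single i 1 = b i := fun i => funext fun k => by
    rw [Matrix.mulVec_single_one]; exact hB k i
  have hBdet : B.det ≠ 0 := fun h0 => by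
    obtain ⟨v, hv0, hv⟩ := Matrix.exists_mulVec_eq_zero_iff.mpr h0
    apply hv0
    funext i
    have e : B *ᵥ v = ∑ j, v j • b j := funext fun k => by
      simp [Matrix.mulVec, dotProduct, hB, mul_comm, Finset.sum_apply]
    have := congrArg (fun w => f w (b i)) hv
    simp only [e, hf.sum_left, hf.semi.smul_left, hgram, hf.zero_left] at this
    simpa using this
  -- the set
  let co : (Fin 6 → F) → Fin 6 → F := fun v i => f v (b i)
  let S : Set (Fin 6 → F) := {v | SixGood (co v)}
  have hHS : H ≤ stabilizing (glToMat (Fin 6) F) S := by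
    have key : ∀ g ∈ H, ∀ v ∈ S, (g : Matrix (Fin 6) (Fin 6) F) *ᵥ v ∈ S := by
      intro g hg v hv
      have hg' := h ▸ hg
      obtain ⟨π, hπ⟩ := hg'.1
      have hgU := mem_GU_iff.mp hg'.2.1
      choose a ha using fun i => hbspan (π i) ((g : Matrix (Fin 6) (Fin 6) F) *ᵥ b i) (by
        rw [← hπ i]; exact Submodule.mem_map_of_mem (f := Matrix.toLin' (g : Matrix (Fin 6) (Fin 6) F)) (hbD i))
      have han : ∀ i, a i * σ (a i) = 1 := fun i => by
        have e := hgU (b i) (b i)
        rw [← hfdef, ha, hf.semi.smul_left, hf.semi.smul_right, hgram, hgram, if_pos rfl, if_pos rfl, mul_one] at e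
        exact e
      have hprod : ∏ i, a i = 1 := by
        have e : (g : Matrix (Fin 6) (Fin 6) F) * B = B.submatrix id π * Matrix.diagonal a := by
          ext k i
          rw [Matrix.mul_diagonal, Matrix.submatrix_apply, hB, id]
          have := congrFun (ha i) k
          rw [← hBcol i, Matrix.mulVec_mulVec, Matrix.mulVec_single_one] at this
          rw [mul_comm]
          exact this
        have e' := congrArg Matrix.det e
        rw [Matrix.det_mul, det_gl_of_mem_specialLinear hg'.2.2, one_mul, Matrix.det_mul, Matrix.det_permute',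
          Matrix.det_diagonal] at e'
        have hs : ((Equiv.Perm.sign π : ℤ) : F) = 1 := by
          rcases Int.units_eq_one_or (Equiv.Perm.sign π) with hs | hs <;> rw [hs]
          · simp
          · simp; linear_combination -h2
        rw [hs, one_mul] at e'
        exact (mul_eq_left₀ hBdet).mp e'.symm
      have hco : ∀ i, co ((g : Matrix (Fin 6) (Fin 6) F) *ᵥ v) (π i) = a i * co v i := fun i => by
        have e : f ((g : Matrix (Fin 6) (Fin 6) F) *ᵥ v) ((g : Matrix (Fin 6) (Fin 6) F) *ᵥ b i) = f v (b i) := hgU v (b i)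
        rw [ha, hf.semi.smul_right] at e
        calc co ((g : Matrix (Fin 6) (Fin 6) F) *ᵥ v) (π i) = (a i * σ (a i)) * co ((g : Matrix (Fin 6) (Fin 6) F) *ᵥ v) (π i) := by
              rw [han, one_mul]
          _ = a i * co v i := by rw [mul_assoc]; exact congrArg _ e
      have ha0 : ∀ i, a i ≠ 0 := fun i e => by
        have := han i; rw [e, zero_mul] at this; exact zero_ne_one this
      rcases hv with ⟨i, j, hij, hi, hj, hk⟩ | ⟨hall, hpr⟩
      · refine Or.inl ⟨π i, π j, fun e => hij (π.injective e), by rw [hco]; exact mul_ne_zero (ha0 i) hi,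
          by rw [hco]; exact mul_ne_zero (ha0 j) hj, fun k hki hkj => ?_⟩
        obtain ⟨k, rfl⟩ := π.surjective k
        rw [hco, hk k (fun e => hki (congrArg π e)) (fun e => hkj (congrArg π e)), mul_zero]
      · refine Or.inr ⟨fun k => ?_, ?_⟩
        · obtain ⟨k, rfl⟩ := π.surjective k
          rw [hco]
          exact mul_ne_zero (ha0 k) (hall k)
        · rw [← Equiv.prod_comp π, Finset.prod_congr rfl (fun i _ => hco i), Finset.prod_mul_distrib, hprod, hpr, mul_one]
    intro g hg v
    refine ⟨key g hg v, fun hv => ?_⟩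
    have := key g⁻¹ (inv_mem hg) _ hv
    rwa [show glToMat (Fin 6) F g = (g : Matrix (Fin 6) (Fin 6) F) from rfl, gl_inv_mulVec_cancel] at this
  -- the transvection at the sum of the basis
  obtain ⟨s, hs⟩ : ∃ s, s = ∑ i, b i := ⟨_, rfl⟩
  have hcos : ∀ i, f s (b i) = 1 := fun i => by
    rw [hs, hf.sum_left, Finset.sum_congr rfl fun j _ => hgram j i]; simp
  have hsr : ∀ v, f v s = ∑ i, f v (b i) := fun v => by
    rw [hfu.herm, hs, hf.sum_left, map_sum]
    exact Finset.sum_congr rfl fun i _ => (hfu.herm v (b i)).symm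
  have hss : f s s = 0 := by
    rw [hsr, Finset.sum_congr rfl fun i _ => hcos i]; simp; linear_combination 3 * h2
  obtain ⟨t, ht, htm⟩ := hσ.exists_transvection (v := s) hss (c := 1) (by rw [map_one]; linear_combination h2)
  have htS : t ∈ stabilizing (glToMat (Fin 6) F) S := by
    have hco : ∀ v i, co ((t : Matrix (Fin 6) (Fin 6) F) *ᵥ v) i = co v i + ∑ j, co v j := fun v i => by
      change f _ _ = _
      rw [htm, one_mul, hf.semi.add_left, hf.semi.smul_left, ← hfdef, hcos, mul_one, hsr]
    have key : ∀ v ∈ S, (t : Matrix (Fin 6) (Fin 6) F) *ᵥ v ∈ S := fun v hv => by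
      change SixGood _
      rw [show co ((t : Matrix (Fin 6) (Fin 6) F) *ᵥ v) = fun i => co v i + ∑ j, co v j from funext (hco v)]
      exact six_shift hσ hv
    intro v
    refine ⟨key v, fun hv => ?_⟩
    have := key _ hv
    rw [show glToMat (Fin 6) F t = (t : Matrix (Fin 6) (Fin 6) F) from rfl, htm, htm] at this
    simp only [one_mul, hf.semi.add_left, hf.semi.smul_left, ← hfdef, hss, mul_zero, add_zero] at this
    rwa [add_assoc, ← add_smul, show f v s + f v s = 0 by linear_combination (f v s) * h2, zero_smul, add_zero] at this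
  -- properness
  have hnot : ¬ suGL 6 F 2 ≤ stabilizing (glToMat (Fin 6) F) S := fun hle => by
    obtain ⟨w, hw⟩ : ∃ w, w = b 0 + b 1 + b 2 + b 3 := ⟨_, rfl⟩
    have hfw : ∀ i, f w (b i) = if i.val < 4 then 1 else 0 := fun i => by
      rw [hw, hf.semi.add_left, hf.semi.add_left, hf.semi.add_left, hgram, hgram, hgram, hgram]
      fin_cases i <;> simp
    have hfr : ∀ i, f (b i) w = if i.val < 4 then 1 else 0 := fun i => by
      rw [hfu.herm, hfw]; split_ifs <;> simp
    have hww : f w w = 0 := by
      conv_lhs => arg 1; rw [hw]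
      rw [hf.semi.add_left, hf.semi.add_left, hf.semi.add_left, hfr, hfr, hfr, hfr]
      simp; linear_combination 2 * h2
    obtain ⟨t', ht', htm'⟩ := hσ.exists_transvection (v := w) hww (c := 1) (by rw [map_one]; linear_combination h2)
    have hv : b 0 + b 4 ∈ S := Or.inl ⟨0, 4, by decide, by
      simp [co, hf.semi.add_left, hgram], by simp [co, hf.semi.add_left, hgram],
      fun k hk0 hk4 => by simp [co, hf.semi.add_left, hgram, hk0.symm, hk4.symm]⟩
    have := (hle ht' (b 0 + b 4)).mp hv
    rw [show glToMat (Fin 6) F t' = (t' : Matrix (Fin 6) (Fin 6) F) from rfl, htm', one_mul, ← hfdef, hf.semi.add_left,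
      hfr, hfr] at this
    simp at this
    have hval : ∀ i : Fin 6, co (b 0 + b 4 + w) i = if i = 0 ∨ i = 5 then 0 else 1 := fun i => by
      simp only [co, hf.semi.add_left, hgram, hfw]
      fin_cases i <;> simp
      linear_combination h2
    rcases this with ⟨i, j, -, -, -, hk⟩ | ⟨hall, -⟩
    · obtain ⟨k, hk1, hk2, hk3, hk4⟩ : ∃ k : Fin 6, k ≠ i ∧ k ≠ j ∧ k ≠ 0 ∧ k ≠ 5 := by
        clear hk; revert i j; decide
      have := hk k hk1 hk2
      rw [hval, if_neg (by simp [hk3, hk4])] at this
      exact one_ne_zero this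
    · exact hall 0 (by rw [hval]; simp)
  have hHeq := eq_inf_of_maximal' hH hHS hnot
  obtain ⟨⟨π, hπ⟩, -⟩ : t ∈ decompositionStabilizer D ⊓ suGL 6 F 2 := h ▸ (hHeq ▸ ⟨htS, ht⟩ : t ∈ H)
  obtain ⟨a, ha⟩ := hbspan (π 0) ((t : Matrix (Fin 6) (Fin 6) F) *ᵥ b 0) (by
    rw [← hπ 0]; exact Submodule.mem_map_of_mem (f := Matrix.toLin' (t : Matrix (Fin 6) (Fin 6) F)) (hbD 0))
  rw [htm, one_mul] at ha
  obtain ⟨k, hk0, hk1⟩ : ∃ k : Fin 6, k ≠ 0 ∧ k ≠ π 0 := by
    generalize π 0 = j; revert j; decide
  have h1 : f (b 0) s = 1 := by rw [hfu.herm, hcos, map_one]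
  have := congrArg (fun v => f v (b k)) ha
  simp only [hf.semi.add_left, hf.semi.smul_left, ← hfdef, h1, hgram, hcos, if_neg hk0.symm, if_neg hk1.symm, zero_add,
    mul_zero, one_mul] at this
  exact one_ne_zero this

end Cfsg.Agent.Classical
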