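/-
The normaliser of a field of degree five in the five dimensional unitary group over four elements fixes a set of
fifty five vectors, as does a further involution.
-/
import Cfsg.Agent.Lib.Classical.FormUSixFrame

set_option autoImplicit false
set_option linter.style.haveILetI false
set_option linter.unusedSectionVars false

namespace Cfsg.Agent.Classical

open Matrix Cfsg.Geo

namespace FiveField

abbrev Mat := Fin 5 → Fin 5 → Fin 4

def sum5 (a b c d e : Fin 4) : Fin 4 := fourAdd a (fourAdd b (fourAdd c (fourAdd d e)))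

def dot5 (a b : Fin 5 → Fin 4) : Fin 4 :=
  sum5 (fourMul (a 0) (b 0)) (fourMul (a 1) (b 1)) (fourMul (a 2) (b 2)) (fourMul (a 3) (b 3)) (fourMul (a 4) (b 4))

def mm (A B : Mat) : Mat := fun i j => dot5 (A i) (fun k => B k j)

def mv (A : Mat) (v : Fin 5 → Fin 4) : Fin 5 → Fin 4 := fun i => dot5 (A i) v

def one5 : Mat := fun i j => if i = j then 1 else 0

def conj4 (a : Fin 4) : Fin 4 := fourMul a a

def cC : Mat := ![![0, 0, 0, 0, 1], ![1, 0, 0, 0, 2], ![0, 1, 0, 0, 1], ![0, 0, 1, 0, 1], ![0, 0, 0, 1, 3]]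

def cPhi : Mat := ![![1, 0, 0, 0, 1], ![0, 0, 3, 1, 2], ![0, 0, 2, 0, 1], ![0, 0, 3, 0, 1], ![0, 1, 2, 0, 3]]

def cT : Mat := ![![1, 3, 0, 2, 1], ![0, 1, 2, 2, 3], ![0, 1, 1, 3, 2], ![0, 3, 1, 2, 3], ![0, 1, 3, 0, 2]]

def cG : Mat := ![![1, 2, 3, 2, 2], ![3, 1, 2, 3, 2], ![2, 3, 1, 2, 3], ![3, 2, 3, 1, 2], ![3, 3, 2, 3, 1]]

def isometric (A : Mat) : Prop := mm (mm (fun i j => A j i) cG) (fun i j => conj4 (A i j)) = cG

def pw (A : Mat) : ℕ → Mat
  | 0 => one5
  | n + 1 => mm (pw A n) A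

def orbit : List (Fin 5 → Fin 4) := [
  ![0, 0, 1, 1, 2],
  ![2, 3, 2, 3, 0],
  ![2, 1, 0, 1, 3],
  ![0, 1, 1, 2, 0],
  ![0, 2, 3, 2, 3],
  ![2, 2, 3, 1, 0],
  ![1, 1, 3, 1, 2],
  ![3, 3, 2, 3, 3],
  ![1, 0, 3, 3, 3],
  ![0, 1, 3, 3, 0],
  ![0, 1, 2, 3, 3],
  ![3, 1, 1, 0, 0],
  ![3, 1, 2, 1, 1],
  ![1, 2, 1, 3, 1],
  ![0, 2, 2, 3, 1],
  ![2, 3, 1, 2, 3],
  ![1, 1, 2, 0, 0],
  ![3, 0, 3, 0, 1],
  ![3, 2, 0, 1, 1],
  ![0, 3, 0, 2, 2],
  ![2, 0, 2, 1, 3],
  ![3, 2, 0, 0, 3],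
  ![0, 0, 1, 3, 3],
  ![3, 3, 0, 2, 0],
  ![1, 1, 0, 2, 1],
  ![0, 3, 1, 1, 0],
  ![1, 1, 0, 3, 2],
  ![2, 2, 2, 0, 1],
  ![3, 3, 2, 0, 2],
  ![1, 3, 3, 0, 0],
  ![1, 2, 3, 3, 0],
  ![1, 0, 2, 0, 2],
  ![1, 3, 0, 1, 1],
  ![1, 0, 1, 0, 3],
  ![0, 0, 2, 2, 1],
  ![1, 1, 1, 2, 3],
  ![2, 0, 0, 3, 2],
  ![2, 2, 1, 0, 0],
  ![2, 3, 1, 1, 1],
  ![2, 1, 2, 2, 2],
  ![3, 3, 3, 1, 3],
  ![3, 2, 1, 3, 2],
  ![3, 1, 3, 2, 1],
  ![0, 3, 3, 0, 2],
  ![0, 0, 3, 1, 1],
  ![2, 2, 3, 2, 2],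
  ![3, 0, 2, 2, 0],
  ![2, 0, 1, 0, 1],
  ![1, 2, 1, 2, 2],
  ![1, 3, 2, 1, 2],
  ![3, 0, 3, 2, 2],
  ![2, 2, 0, 3, 3],
  ![0, 2, 2, 1, 0],
  ![2, 1, 3, 0, 3],
  ![3, 3, 1, 3, 1]]

theorem phi_facts : isometric cPhi ∧ pw cPhi 5 = one5 ∧ mm cPhi cC = mm (pw cC 4) cPhi := by
  unfold isometric; decide +kernel

theorem t_facts : isometric cT ∧ mm cT cT = one5 ∧ ∀ m : Fin 11, mm cT cC ≠ mm (pw cC m) cT := by
  unfold isometric; decide +kernel

theorem orbit_closed : ∀ v ∈ orbit, mv cC v ∈ orbit ∧ mv cPhi v ∈ orbit ∧ mv cT v ∈ orbit := by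
  decide +kernel

def cW : Fin 5 → Fin 4 := ![0, 0, 0, 1, 2]

def cV : Fin 5 → Fin 4 := ![2, 1, 0, 1, 3]

theorem moved : dot5 cW (mv cG (fun i => conj4 (cW i))) = 0 ∧ cV ∈ orbit ∧
    (fun i => fourAdd (cV i) (fourMul (dot5 cV (mv cG (fun j => conj4 (cW j)))) (cW i))) ∉ orbit := by
  decide +kernel

theorem exponent_cases : ∀ a : Fin 1023, (a : ℕ) * a % 1023 = 1 → 341 * (a : ℕ) % 1023 = 682 →
    93 * (a : ℕ) % 1023 ≠ 93 → (a : ℕ) = 32 ∨ (a : ℕ) = 1022 := by
  decide +kernel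

end FiveField

open FiveField

variable {F : Type*} [Field F] [Fintype F] {σ : F ≃+* F} (hσ : IsUSigma 2 σ)

include hσ

/-- Over four elements the field normaliser in dimension five is not maximal. -/
theorem five_field_false {H : Subgroup (GL (Fin 5) F)} (hH : IsMaximalIn (suGL 5 F 2) H)
    {K : Subalgebra F (Matrix (Fin 5) (Fin 5) F)} (hK : IsFieldSubalgebra 5 K)
    (hadj : IsAdjointClosedFor (hermForm 5 F 2) K) (h : H = subalgebraNormalizer K ⊓ suGL 5 F 2) : False := by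
  classical
  haveI : Nonempty (Fin 5) := ⟨0⟩
  obtain ⟨h2, hu⟩ := unit_four hσ
  obtain ⟨φ, hφ, h0, h1, hm, ha⟩ := exists_four_model hσ
  have hfu := hσ.isUnitaryForm (n := 5)
  have hf := reflexForm_of_unitary hfu
  set f := hermForm 5 F 2 with hfdef
  have hσσ : ∀ a, σ (σ a) = a := hσ.involutive
  have hσ2 : ∀ x : F, σ x = x * x := fun x => by rw [hσ.apply_eq, sq]
  have hσφ : ∀ a, φ (conj4 a) = σ (φ a) := fun a => by rw [conj4, hm, hσ2]
  set p2 := φ 2 with hp2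
  have hp3 : φ 3 = 1 + p2 := by rw [show (3 : Fin 4) = fourAdd 1 2 from rfl, ha, h1]
  have hpq : p2 * p2 + p2 + 1 = 0 := by
    rw [hp2, ← hm, show fourMul 2 2 = fourAdd 1 2 from rfl, ha, h1]
    linear_combination (φ 2 + 1) * h2
  have hp0 : p2 ≠ 0 := fun e => one_ne_zero (α := F) (by rw [e] at hpq; linear_combination hpq)
  have hp1 : p2 ≠ 1 := fun e => one_ne_zero (α := F) (by rw [e] at hpq; linear_combination hpq - h2)
  -- the adjoint on the field
  let τ : Matrix (Fin 5) (Fin 5) F → Matrix (Fin 5) (Fin 5) F := formAdj σ f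
  have hτK : ∀ k ∈ K, τ k ∈ K := hf.isAdjointClosedFor_iff.mp hadj
  have hττ : ∀ k, τ (τ k) = k := hf.adj_adj
  have hone : ∀ c : F, c • (1 : Matrix (Fin 5) (Fin 5) F) = 0 → c = 0 := fun c e => by
    simpa using congrFun (congrFun e 0) 0
  obtain ⟨w, hw, hw0, hgen, hord⟩ := exists_generator_fieldSubalgebra hK
  have hq : Nat.card F ^ 5 - 1 = 1023 := by rw [Nat.card_eq_fintype_card, hσ.card]; rfl
  simp only [hq] at hord
  have hpow : ∀ i, w ^ i = w ^ (i % 1023) := fun i => by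
    conv_lhs => rw [← Nat.div_add_mod i 1023, pow_add, pow_mul, (hord 1023).mpr dvd_rfl, one_pow, one_mul]
  have hwinj : ∀ i j, w ^ i = w ^ j → i % 1023 = j % 1023 := fun i j e => by
    rw [hpow i, hpow j] at e
    have hi := Nat.mod_lt i (show 1023 > 0 by norm_num)
    have hj := Nat.mod_lt j (show 1023 > 0 by norm_num)
    rcases le_total (i % 1023) (j % 1023) with hle | hle
    · have : w ^ (1023 - i % 1023 + j % 1023) = 1 := by
        rw [pow_add, ← e, ← pow_add, Nat.sub_add_cancel hi.le, (hord 1023).mpr dvd_rfl]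
      obtain ⟨d, hd⟩ := (hord _).mp this
      omega
    · have : w ^ (1023 - j % 1023 + i % 1023) = 1 := by
        rw [pow_add, e, ← pow_add, Nat.sub_add_cancel hj.le, (hord 1023).mpr dvd_rfl]
      obtain ⟨d, hd⟩ := (hord _).mp this
      omega
  have hwK : ∀ i, w ^ i ∈ K := fun i => K.pow_mem hw i
  have heleven : ∀ y ∈ K, y ^ 11 = 1 → ∃ m : ℕ, y = w ^ (93 * m) := fun y hy e => by
    have hy0 : y ≠ 0 := fun e0 => by rw [e0, zero_pow (by norm_num)] at e; exact zero_ne_one e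
    obtain ⟨j, rfl⟩ := hgen y hy hy0
    rw [← pow_mul] at e
    obtain ⟨d, hd⟩ := (hord _).mp e
    exact ⟨d, by rw [show j = 93 * d by omega]⟩
  -- the two factors of the cyclotomic polynomial
  let P1 : Matrix (Fin 5) (Fin 5) F → Matrix (Fin 5) (Fin 5) F := fun y =>
    y ^ 5 + ((1 : F) • 1 + φ 2 • y + (1 : F) • y ^ 2 + (1 : F) • y ^ 3 + φ 3 • y ^ 4)
  let P2 : Matrix (Fin 5) (Fin 5) F → Matrix (Fin 5) (Fin 5) F := fun y =>
    y ^ 5 + ((1 : F) • 1 + φ 3 • y + (1 : F) • y ^ 2 + (1 : F) • y ^ 3 + φ 2 • y ^ 4)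
  have hprod : ∀ y ∈ K, y ^ 11 = 1 → y ≠ 1 → P1 y = 0 ∨ P2 y = 0 := fun y hy e hne => by
    have hPK : P1 y ∈ K := K.add_mem (K.pow_mem hy 5) (K.add_mem (K.add_mem (K.add_mem (K.add_mem
      (K.smul_mem K.one_mem _) (K.smul_mem hy _)) (K.smul_mem (K.pow_mem hy 2) _)) (K.smul_mem (K.pow_mem hy 3) _))
      (K.smul_mem (K.pow_mem hy 4) _))
    have hgeo : (y - 1) * (P1 y * P2 y) = y ^ 11 - 1 := by
      have key : Polynomial.aeval y ((Polynomial.X - 1) *
          ((Polynomial.X ^ 5 + (1 + Polynomial.C (φ 2) * Polynomial.X + Polynomial.X ^ 2 + Polynomial.X ^ 3 +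
              Polynomial.C (φ 3) * Polynomial.X ^ 4)) *
           (Polynomial.X ^ 5 + (1 + Polynomial.C (φ 3) * Polynomial.X + Polynomial.X ^ 2 + Polynomial.X ^ 3 +
              Polynomial.C (φ 2) * Polynomial.X ^ 4))) : Polynomial F) =
          Polynomial.aeval y (Polynomial.X ^ 11 - 1 : Polynomial F) := by
        congr 1
        have hq' : (Polynomial.C p2) * Polynomial.C p2 + Polynomial.C p2 + 1 = 0 := by
          rw [← map_mul, ← map_add, ← map_one Polynomial.C, ← map_add, hpq, map_zero]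
        have h2' : (2 : Polynomial F) = 0 := by
          rw [← map_ofNat (Polynomial.C (R := F)) 2, h2, map_zero]
        rw [hp3, ← hp2, map_add, map_one]
        generalize Polynomial.C p2 = c at hq'
        generalize (Polynomial.X : Polynomial F) = X
        linear_combination (X - 1) * (X ^ 2 + 2 * X ^ 5 + X ^ 8) * hq' +
          (X - 1) * (c * X + (1 + c) * X ^ 3 + (1 + 2 * c) * X ^ 4 + X ^ 5 + (1 + 2 * c) * X ^ 6 + (1 + c) * X ^ 7 +
            c * X ^ 9) * h2'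
      simp only [map_mul, map_sub, map_add, map_pow, map_one, Polynomial.aeval_X, Polynomial.aeval_C] at key
      simpa [P1, P2, Algebra.smul_def] using key
    rw [e, sub_self] at hgeo
    rcases fieldSubalgebra_mul_eq_zero hK (K.sub_mem hy K.one_mem) hgeo with h' | h'
    · exact absurd (sub_eq_zero.mp h') hne
    · exact fieldSubalgebra_mul_eq_zero hK hPK h'
  have hdisj : ∀ y ∈ K, y ^ 11 = 1 → y ≠ 1 → P1 y = 0 → P2 y = 0 → False := fun y hy e hne e1 e2 => by
    have h' : y * (1 + y ^ 3) = 0 := by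
      have hd : P1 y - P2 y = (φ 2 - φ 3) • y + (φ 3 - φ 2) • y ^ 4 := by
        simp only [P1, P2, sub_smul]; abel
      rw [e1, e2, sub_self, hp3, ← hp2, show p2 - (1 + p2) = 1 by linear_combination -h2,
        show 1 + p2 - p2 = 1 by ring, one_smul, one_smul] at hd
      rw [Matrix.mul_add, Matrix.mul_one, ← pow_succ']
      exact hd.symm
    rcases fieldSubalgebra_mul_eq_zero hK hy h' with h'' | h''
    · rw [h'', zero_pow (by norm_num)] at e; exact zero_ne_one e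
    · have h3 : y ^ 3 = 1 := by
        rw [eq_neg_of_add_eq_zero_right h'', ← neg_one_smul F (1 : Matrix (Fin 5) (Fin 5) F),
          show (-1 : F) = 1 by linear_combination -h2, one_smul]
      apply hne
      calc y = y ^ 12 := by rw [pow_succ, e, one_mul]
        _ = 1 := by rw [show 12 = 3 * 4 by norm_num, pow_mul, h3, one_pow]
  -- the element of order eleven
  obtain ⟨x, hxK, hx11, hx1, hxp⟩ : ∃ x ∈ K, x ^ 11 = 1 ∧ x ≠ 1 ∧ P1 x = 0 := by
    have e11 : (w ^ 93) ^ 11 = 1 := by rw [← pow_mul, hord]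
    have hne : w ^ 93 ≠ 1 := fun e => by obtain ⟨d, hd⟩ := (hord _).mp e; omega
    rcases hprod _ (hwK _) e11 hne with e | e
    · exact ⟨_, hwK _, e11, hne, e⟩
    refine ⟨(w ^ 93) ^ 2, K.pow_mem (hwK _) _, by rw [← pow_mul, mul_comm 2 11, pow_mul, e11, one_pow],
      fun e' => ?_, ?_⟩
    · rw [← pow_mul] at e'; obtain ⟨d, hd⟩ := (hord _).mp e'; omega
    · generalize hy : w ^ 93 = y at e
      letI : CommRing K := { K.toRing with mul_comm := fun a b => Subtype.ext (hK.comm a a.2 b b.2) }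
      obtain ⟨Y, hY⟩ : ∃ Y : K, (Y : Matrix (Fin 5) (Fin 5) F) = y := ⟨⟨y, hy ▸ hwK 93⟩, rfl⟩
      subst hY
      have e' : Y ^ 5 + ((1 : F) • 1 + φ 3 • Y + (1 : F) • Y ^ 2 + (1 : F) • Y ^ 3 + φ 2 • Y ^ 4) = 0 :=
        Subtype.ext (by simpa [P2] using e)
      suffices (Y ^ 2) ^ 5 + ((1 : F) • 1 + φ 2 • Y ^ 2 + (1 : F) • (Y ^ 2) ^ 2 + (1 : F) • (Y ^ 2) ^ 3 +
          φ 3 • (Y ^ 2) ^ 4) = 0 by simpa [P1] using congrArg Subtype.val this
      simp only [Algebra.smul_def, hp3, ← hp2, map_add, map_one, one_mul, mul_one] at e' ⊢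
      have hq' : algebraMap F K p2 * algebraMap F K p2 + algebraMap F K p2 + 1 = 0 := by
        rw [← map_mul, ← map_add, ← map_one (algebraMap F K), ← map_add, hpq, map_zero]
      have h2' : (2 : K) = 0 := by rw [← map_ofNat (algebraMap F K) 2, h2, map_zero]
      generalize algebraMap F K p2 = c at hq' e' ⊢
      linear_combination (Y ^ 5 + (1 + (1 + c) * Y + Y ^ 2 + Y ^ 3 + c * Y ^ 4)) * e' - (Y ^ 2 + Y ^ 8) * hq' +
        ((1 + c) * Y ^ 8 - (Y ^ 5 * (1 + (1 + c) * Y + Y ^ 2 + Y ^ 3 + c * Y ^ 4) + 1 * ((1 + c) * Y + Y ^ 2 + Y ^ 3 + c * Y ^ 4) + (1 + c) * Y * (Y ^ 2 + Y ^ 3 + c * Y ^ 4) + Y ^ 2 * (Y ^ 3 + c * Y ^ 4) + Y ^ 3 * c * Y ^ 4)) * h2'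
  -- the adjoint inverts it
  have hτpow : ∀ k (i : ℕ), τ (k ^ i) = τ k ^ i := fun k i => hf.adj_pow k i
  have hτw : τ w = w ^ 32 := by
    have hτ0 : τ w ≠ 0 := fun e => hw0 (by rw [← hττ w, e]; exact hf.adj_zero)
    obtain ⟨a, hA⟩ := hgen _ (hτK w hw) hτ0
    have haa : a * a % 1023 = 1 := by
      have := hwinj (a * a) 1 (by rw [pow_mul, ← hA, ← hτpow, ← hA, hττ, pow_one])
      simpa using this
    obtain ⟨b, hb⟩ := hgen _ (K.smul_mem K.one_mem p2) (fun e => hp0 (hone _ e))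
    have hb3 : b * 3 % 1023 = 0 := by
      have : w ^ (b * 3) = 1 := by
        rw [pow_mul, ← hb, smul_pow, one_pow, show p2 ^ 3 = 1 by linear_combination (hu p2 hp0).2, one_smul]
      obtain ⟨d, hd⟩ := (hord _).mp this
      omega
    have hb0 : b % 1023 ≠ 0 := fun e => hp1 (by
      rw [hpow b, e, pow_zero] at hb
      simpa using congrFun (congrFun hb 0) 0)
    have hab : a * b % 1023 = 2 * b % 1023 := hwinj _ _ (by
      rw [pow_mul, ← hA, ← hτpow, ← hb, mul_comm 2 b, pow_mul, ← hb]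
      change formAdj σ f _ = _
      rw [hf.adj_scalar, hσ2, smul_pow, one_pow, sq])
    have hb' : b % 1023 = 341 ∨ b % 1023 = 682 := by omega
    have h341 : 341 * (a % 1023) % 1023 = 682 := by
      have e1 : a * b % 1023 = (a % 1023) * (b % 1023) % 1023 := Nat.mul_mod _ _ _
      rcases hb' with e | e <;> rw [e] at e1 <;> omega
    have h93 : 93 * (a % 1023) % 1023 ≠ 93 := fun e => by
      have hfix : τ x = x := by
        obtain ⟨m, rfl⟩ := heleven x hxK hx11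
        rw [hτpow, hA, ← pow_mul, hpow, hpow (93 * m)]
        congr 1
        have e93 : a * 93 % 1023 = 93 := by omega
        rw [← mul_assoc, Nat.mul_mod (a * 93), e93, Nat.mul_mod 93 m]
      refine hdisj x hxK hx11 hx1 hxp ?_
      have := congrArg τ hxp
      simp only [P1, τ, hf.adj_add, hf.adj_smul, hf.adj_pow, hf.adj_zero, hf.adj_one, ← hσφ, map_one] at this
      simp only [show formAdj σ f x = x from hfix] at this
      exact this
    rcases exponent_cases ⟨a % 1023, Nat.mod_lt _ (by norm_num)⟩ (by simpa [Nat.mul_mod, Nat.mod_mod] using haa)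
      h341 h93 with e32 | e1022
    · simp only at e32
      rw [hA, hpow a, e32]
    · exfalso
      simp only at e1022
      have hinv : ∀ k ∈ K, k ≠ 0 → τ k * k = 1 := fun k hk hk0 => by
        obtain ⟨i, rfl⟩ := hgen k hk hk0
        rw [hτpow, hA, hpow a, e1022, ← pow_mul, ← pow_add, hord]
        exact ⟨i, by ring⟩
      have h11 : (1 : Matrix (Fin 5) (Fin 5) F) + 1 = 0 := by rw [← two_smul F, h2, zero_smul]
      have hne : 1 + w ≠ 0 := fun e => by
        have e1 : w ^ 1 = w ^ 0 := by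
          rw [pow_one, pow_zero, ← sub_eq_zero, ← e, sub_eq_add_neg, add_comm, ← neg_one_smul F (1 : Matrix (Fin 5) (Fin 5) F),
            show (-1 : F) = 1 by linear_combination -h2, one_smul]
        exact absurd (hwinj _ _ e1) (by norm_num)
      have h1 := hinv _ (K.add_mem K.one_mem hw) hne
      simp only [τ, hf.adj_add, hf.adj_one] at h1
      rw [Matrix.add_mul, Matrix.one_mul, Matrix.mul_add, Matrix.mul_one, show formAdj σ f w * w = 1 from hinv w hw hw0] at h1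
      have h4 : w + τ w = 1 := by
        have : (1 : Matrix (Fin 5) (Fin 5) F) + w + (τ w + 1) = (1 + 1) + (w + τ w) := by abel
        rw [this, h11, zero_add] at h1
        exact h1
      have h5 := congrArg (fun X => X * w) h4
      simp only [Matrix.add_mul, hinv w hw hw0, Matrix.one_mul] at h5
      have h3 : w * w = 1 + w := by
        calc w * w = w * w + (1 + 1) := by rw [h11, add_zero]
          _ = (w * w + 1) + 1 := by abel
          _ = 1 + w := by rw [h5]; abel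
      have h6 : w ^ 3 = 1 := by
        rw [pow_succ, pow_two, h3, Matrix.add_mul, Matrix.one_mul, h3]
        calc w + (1 + w) = 1 + (w + w) := by abel
          _ = 1 := by rw [← two_smul F, h2, zero_smul, add_zero]
      obtain ⟨d, hd⟩ := (hord 3).mp h6
      omega
  have hτ32 : ∀ k ∈ K, τ k = k ^ 32 := fun k hk => by
    rcases eq_or_ne k 0 with rfl | hk0
    · rw [show τ 0 = 0 from hf.adj_zero]; simp
    obtain ⟨i, rfl⟩ := hgen k hk hk0
    rw [hτpow, hτw, ← pow_mul, ← pow_mul, mul_comm]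
  have hx0 : x ≠ 0 := fun e => by rw [e, zero_pow (by norm_num)] at hx11; exact zero_ne_one hx11
  have hτx : ∀ i ≤ 11, τ (x ^ i) = x ^ (11 - i) := fun i hi => by
    rw [hτpow, hτ32 x hxK, ← pow_mul, show 32 * i = 11 * (3 * i) - i by omega]
    have e1 : x ^ (11 * (3 * i) - i) * x ^ i = x ^ (11 - i) * x ^ i := by
      rw [← pow_add, ← pow_add, Nat.sub_add_cancel (by omega), Nat.sub_add_cancel hi, pow_mul, hx11, one_pow]
    rcases fieldSubalgebra_mul_eq_zero hK (K.sub_mem (K.pow_mem hxK _) (K.pow_mem hxK (11 - i)))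
      (show (x ^ (11 * (3 * i) - i) - x ^ (11 - i)) * x ^ i = 0 by rw [Matrix.sub_mul, e1, sub_self]) with e | e
    · exact sub_eq_zero.mp e
    · exfalso
      apply zero_ne_one (α := Matrix (Fin 5) (Fin 5) F)
      rw [← hx11, ← Nat.sub_add_cancel hi, pow_add, e, Matrix.mul_zero]
  -- independence of the powers
  have hxscal : ∀ c : F, x ≠ c • 1 := fun c e => by
    rcases eq_or_ne c 0 with rfl | hc0
    · exact hx0 (by rw [e, zero_smul])
    apply hx1
    have h3 : x ^ 3 = 1 := by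
      rw [e, smul_pow, one_pow, show c ^ 3 = 1 by linear_combination (hu c hc0).2, one_smul]
    calc x = x ^ 12 := by rw [pow_succ, hx11, one_mul]
      _ = 1 := by rw [show 12 = 3 * 4 by norm_num, pow_mul, h3, one_pow]
  obtain ⟨z₀, hz₀⟩ : ∃ z : Fin 5 → F, z = Pi.single 0 1 := ⟨_, rfl⟩
  let Lz : (Fin 5 → F) → (K →ₗ[F] (Fin 5 → F)) := fun v =>
    { toFun := fun k => (k : Matrix (Fin 5) (Fin 5) F) *ᵥ v
      map_add' := fun a b => by simp [Matrix.add_mulVec]
      map_smul' := fun c a => by simp [Matrix.smul_mulVec] }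
  have hfree : ∀ z : Fin 5 → F, z ≠ 0 → Function.Bijective (Lz z) := fun z hz => by
    have hinj : Function.Injective (Lz z) := by
      rw [← LinearMap.ker_eq_bot, LinearMap.ker_eq_bot']
      intro k hk
      by_contra hk0
      obtain ⟨y, hy, hky⟩ := hK.inv k k.2 (fun e => hk0 (Subtype.ext e))
      apply hz
      have := congrArg (fun u => y *ᵥ u) (show (k : Matrix (Fin 5) (Fin 5) F) *ᵥ z = 0 from hk)
      rwa [Matrix.mulVec_zero, Matrix.mulVec_mulVec, ← hK.comm _ k.2 y hy, hky, Matrix.one_mulVec] at this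
    exact ⟨hinj, (LinearMap.injective_iff_surjective_of_finrank_eq_finrank
      (by rw [hK.finrank_eq, Module.finrank_fin_fun])).mp hinj⟩
  -- the powers of the element span the field
  let X' : K := ⟨x, hxK⟩
  have hli : LinearIndependent F fun i : Fin 5 => X' ^ (i : ℕ) := by
    letI : CommRing K := { K.toRing with mul_comm := fun a b => Subtype.ext (hK.comm a a.2 b b.2) }
    haveI : Nontrivial K := ⟨⟨0, 1, fun e => zero_ne_one (congrArg Subtype.val e)⟩⟩
    haveI : NoZeroDivisors K := ⟨fun {a b} hab =>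
      (fieldSubalgebra_mul_eq_zero hK a.2 (congrArg Subtype.val hab)).imp (fun h => Subtype.ext h) fun h => Subtype.ext h⟩
    haveI : IsDomain K := NoZeroDivisors.to_isDomain _
    haveI : Finite K := Finite.of_injective _ Subtype.val_injective
    letI : Field K := (Finite.isDomain_to_isField K).toField
    have hint : IsIntegral F X' := IsIntegral.of_finite F X'
    have hdeg : (minpoly F X').natDegree = 5 := by
      have hdvd : (minpoly F X').natDegree ∣ 5 := by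
        have := minpoly.degree_dvd hint
        rwa [hK.finrank_eq] at this
      rcases (Nat.dvd_prime Nat.prime_five).mp hdvd with e | e
      · exfalso
        obtain ⟨c, hc⟩ := minpoly.natDegree_eq_one_iff.mp e
        exact hxscal c (by
          have := congrArg Subtype.val hc
          simpa [X', Algebra.algebraMap_eq_smul_one] using this.symm)
      · exact e
    have := linearIndependent_pow (K := F) X'
    rw [hdeg] at this
    exact this
  have hspan : ∀ k ∈ K, ∃ c : Fin 5 → F, k = ∑ i, c i • x ^ (i : ℕ) := fun k hk => by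
    have htop := hli.span_eq_top_of_card_eq_finrank (by rw [Fintype.card_fin, hK.finrank_eq])
    obtain ⟨c, hc⟩ := (Submodule.mem_span_range_iff_exists_fun F).mp (htop.ge (Submodule.mem_top (x := (⟨k, hk⟩ : K))))
    exact ⟨c, by have := congrArg Subtype.val hc; simpa [X'] using this.symm⟩
  -- the functional of a vector
  have hlam : ∀ k ∈ K, ∀ z, f z (k *ᵥ z) = f (τ k *ᵥ z) z := fun k _ z => hf.adj_spec' k z z
  obtain ⟨z, hz, hgram0⟩ : ∃ z : Fin 5 → F, z ≠ 0 ∧ ∀ n : Fin 5, f (x ^ (n : ℕ) *ᵥ z) z = φ (cG n 0) := by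
    have hz00 : z₀ ≠ 0 := by rw [hz₀]; simp
    let Λ : K →ₗ[F] (Fin 5 → F) :=
      { toFun := fun d i => f (((d : Matrix (Fin 5) (Fin 5) F) * x ^ (i : ℕ)) *ᵥ z₀) z₀
        map_add' := fun a b => funext fun i => by simp [Matrix.add_mul, Matrix.add_mulVec, hf.semi.add_left]
        map_smul' := fun c a => funext fun i => by simp [Matrix.smul_mul, Matrix.smul_mulVec, hf.semi.smul_left] }
    have hΛ : Function.Injective Λ := by
      rw [← LinearMap.ker_eq_bot, LinearMap.ker_eq_bot']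
      intro d hd
      by_contra hd0
      have hall : ∀ k ∈ K, f ((d : Matrix (Fin 5) (Fin 5) F) *ᵥ (k *ᵥ z₀)) z₀ = 0 := fun k hk => by
        obtain ⟨c, rfl⟩ := hspan k hk
        rw [Matrix.mulVec_mulVec, Matrix.mul_sum, Matrix.sum_mulVec, hf.sum_left]
        exact Finset.sum_eq_zero fun i _ => by
          rw [Matrix.mul_smul, Matrix.smul_mulVec, hf.semi.smul_left,
            show f (((d : Matrix (Fin 5) (Fin 5) F) * x ^ (i : ℕ)) *ᵥ z₀) z₀ = 0 from congrFun hd i, mul_zero]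
      obtain ⟨y, hy, hdy⟩ := hK.inv d d.2 (fun e => hd0 (Subtype.ext e))
      obtain ⟨u, hu'⟩ := (hf.nondeg z₀ hz00).1
      obtain ⟨k, hk⟩ := (hfree z₀ hz00).2 u
      refine hu' ?_
      have := hall _ (K.mul_mem hy k.2)
      rw [Matrix.mulVec_mulVec, ← Matrix.mul_assoc, hdy, Matrix.one_mul] at this
      rw [← hk]
      exact this
    obtain ⟨d, hd⟩ := (LinearMap.injective_iff_surjective_of_finrank_eq_finrank
      (by rw [hK.finrank_eq, Module.finrank_fin_fun])).mp hΛ (fun i => φ (cG i 0))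
    set dm := (d : Matrix (Fin 5) (Fin 5) F) with hdm
    let u : ℕ → F := fun n => f ((dm * x ^ n) *ᵥ z₀) z₀
    have hu5 : ∀ n, u (n + 5) + (u n + φ 2 * u (n + 1) + u (n + 2) + u (n + 3) + φ 3 * u (n + 4)) = 0 := fun n => by
      have e := congrArg (fun M => f ((dm * (x ^ n * M)) *ᵥ z₀) z₀) hxp
      simp only [P1, Matrix.mul_add, Matrix.mul_smul, Matrix.mul_one, ← pow_add, ← pow_succ, Matrix.add_mulVec,
        Matrix.smul_mulVec, hf.semi.add_left, hf.semi.smul_left, one_mul, Matrix.mul_zero, Matrix.zero_mulVec,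
        hf.zero_left] at e
      exact e
    have hrec : ∀ n (a b c d e : Fin 4), u n = φ a → u (n + 1) = φ b → u (n + 2) = φ c → u (n + 3) = φ d →
        u (n + 4) = φ e → u (n + 5) = φ (sum5 a (fourMul 2 b) c d (fourMul 3 e)) := fun n a b c d e ea eb ec ed ee => by
      have := hu5 n
      rw [ea, eb, ec, ed, ee] at this
      simp only [sum5, ha, hm]
      linear_combination this - (φ a + φ 2 * φ b + φ c + φ d + φ 3 * φ e) * h2
    have u0 : u 0 = φ 1 := congrFun hd 0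
    have u1 : u 1 = φ 3 := congrFun hd 1
    have u2 : u 2 = φ 2 := congrFun hd 2
    have u3 : u 3 = φ 3 := congrFun hd 3
    have u4 : u 4 = φ 3 := congrFun hd 4
    have u5 : u 5 = φ 3 := hrec 0 _ _ _ _ _ u0 u1 u2 u3 u4
    have u6 : u 6 = φ 2 := hrec 1 _ _ _ _ _ u1 u2 u3 u4 u5
    have u7 : u 7 = φ 2 := hrec 2 _ _ _ _ _ u2 u3 u4 u5 u6
    have u8 : u 8 = φ 2 := hrec 3 _ _ _ _ _ u3 u4 u5 u6 u7
    have u9 : u 9 = φ 3 := hrec 4 _ _ _ _ _ u4 u5 u6 u7 u8
    have u10 : u 10 = φ 2 := hrec 5 _ _ _ _ _ u5 u6 u7 u8 u9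
    have hreal : τ dm = dm := by
      have : (⟨τ dm, hτK dm d.2⟩ : K) = d := by
        refine hΛ (funext fun i => ?_)
        rw [hd]
        change f ((τ dm * x ^ (i : ℕ)) *ᵥ z₀) z₀ = φ (cG i 0)
        have e1 : τ (dm * x ^ (11 - (i : ℕ))) = τ dm * x ^ (i : ℕ) := by
          change formAdj σ f _ = _
          rw [hf.adj_mul, show formAdj σ f (x ^ (11 - (i : ℕ))) = x ^ (i : ℕ) from
            (hτx _ (by omega)).trans (by rw [Nat.sub_sub_self (by omega)])]
          exact hK.comm _ (K.pow_mem hxK _) _ (hτK dm d.2)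
        rw [← e1, ← hlam _ (K.mul_mem d.2 (K.pow_mem hxK _)), hfu.herm]
        change σ (u (11 - (i : ℕ))) = _
        fin_cases i
        · have : u 11 = u 0 := by simp only [u, hx11, pow_zero]
          simp [this, u0, h1, cG]
        · simp [u10, ← hσφ, cG]; rfl
        · simp [u9, ← hσφ, cG]; rfl
        · simp [u8, ← hσφ, cG]; rfl
        · simp [u7, ← hσφ, cG]; rfl
      exact congrArg Subtype.val this
    have hd0 : dm ≠ 0 := fun e => by
      have := u0
      simp only [u, e, Matrix.zero_mul, Matrix.zero_mulVec, hf.zero_left, h1] at this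
      exact zero_ne_one this
    obtain ⟨j, hj⟩ := hgen dm d.2 hd0
    set a := dm ^ 512 with hA
    have haK : a ∈ K := K.pow_mem d.2 _
    have ha2 : a * a = dm := by
      rw [hA, ← pow_add, hj, ← pow_mul, hpow, hpow j]
      congr 1
      omega
    have hτa : τ a = a := by rw [hA, hτpow, hreal]
    refine ⟨a *ᵥ z₀, fun e => ?_, fun n => ?_⟩
    · apply hd0
      have h0' : (⟨a, haK⟩ : K) = 0 := (hfree z₀ hz00).1 (by simpa [Lz] using e)
      rw [← ha2, show a = 0 from congrArg Subtype.val h0', Matrix.mul_zero]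
    · rw [hf.adj_spec' a, Matrix.mulVec_mulVec, Matrix.mulVec_mulVec,
        show formAdj σ f a = a from hτa, Matrix.mul_assoc a, hK.comm _ (K.pow_mem hxK _) _ haK, ← Matrix.mul_assoc, ha2]
      exact congrFun hd n
  -- coordinates
  obtain ⟨B, hB⟩ : ∃ B : Matrix (Fin 5) (Fin 5) F, ∀ r i, B r i = (x ^ (i : ℕ) *ᵥ z) r := ⟨fun r i => _, fun _ _ => rfl⟩
  have hBcol : ∀ i, B *ᵥ Pi.single i 1 = x ^ (i : ℕ) *ᵥ z := fun i => funext fun r => by
    rw [Matrix.mulVec_single_one]; exact hB r i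
  have hBdet : B.det ≠ 0 := fun h0' => by
    obtain ⟨c, hc0, hc⟩ := Matrix.exists_mulVec_eq_zero_iff.mpr h0'
    apply hc0
    have e1 : (∑ i, c i • X' ^ (i : ℕ)) = 0 := (hfree z hz).1 (by
      change (((∑ i, c i • X' ^ (i : ℕ) : K)) : Matrix (Fin 5) (Fin 5) F) *ᵥ z = ((0 : K) : Matrix (Fin 5) (Fin 5) F) *ᵥ z
      rw [ZeroMemClass.coe_zero, Matrix.zero_mulVec, ← hc]
      funext r
      simp [Matrix.mulVec, dotProduct, hB, Matrix.sum_apply, Finset.sum_mul, X', mul_comm, mul_left_comm, Finset.mul_sum]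
      exact Finset.sum_comm)
    exact funext (Fintype.linearIndependent_iff.mp hli c e1)
  let Bg : GL (Fin 5) F := Matrix.GeneralLinearGroup.mkOfDetNeZero B hBdet
  let up : Mat → Matrix (Fin 5) (Fin 5) F := fun A => Matrix.of fun i j => φ (A i j)
  have hdot : ∀ a b : Fin 5 → Fin 4, φ (dot5 a b) = (φ ∘ a) ⬝ᵥ (φ ∘ b) := fun a b => by
    simp [dot5, sum5, ha, hm, dotProduct, Fin.sum_univ_five, add_assoc]
  have hupmm : ∀ A A' : Mat, up (mm A A') = up A * up A' := fun A A' => by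
    ext i j; exact hdot _ _
  have hupone : up one5 = 1 := by
    ext i j; simp [up, one5, Matrix.one_apply, apply_ite φ, h0, h1]
  have huppw : ∀ A n, up (pw A n) = up A ^ n := fun A n => by
    induction n with
    | zero => exact hupone
    | succ n ih => rw [pw, hupmm, ih, pow_succ]
  have hupinj : Function.Injective up := fun A A' e => by
    funext i j; exact hφ.1 (congrFun (congrFun e i) j)
  have hupσ : ∀ A : Mat, up (fun i j => conj4 (A i j)) = (up A).map σ := fun A => by ext i j; exact hσφ _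
  have hupmv : ∀ (A : Mat) v, φ ∘ (mv A v) = up A *ᵥ (φ ∘ v) := fun A v => funext fun i => hdot _ _
  set G := up cG with hG
  have hgramG : ∀ i j : Fin 5, f (x ^ (i : ℕ) *ᵥ z) (x ^ (j : ℕ) *ᵥ z) = G i j := by
    intro i j
    have hall : ∀ a b : Fin 5, (b : ℕ) ≤ a → f (x ^ (a : ℕ) *ᵥ z) (x ^ (b : ℕ) *ᵥ z) = φ (cG ⟨(a : ℕ) - b, by omega⟩ 0) :=
      fun a b hab => by
        rw [hf.adj_spec' (x ^ (b : ℕ)), Matrix.mulVec_mulVec, show formAdj σ f (x ^ (b : ℕ)) = x ^ (11 - (b : ℕ)) from hτx _ (by omega),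
          ← pow_add, show 11 - (b : ℕ) + a = 11 + (a - b) by omega, pow_add, hx11, one_mul]
        exact hgram0 ⟨(a : ℕ) - b, by omega⟩
    have hG₀ : ∀ a b c : Fin 5, (c : ℕ) + b = a → cG a b = cG c 0 := by decide
    have hG' : ∀ a b : Fin 5, (b : ℕ) ≤ a → cG a b = cG ⟨(a : ℕ) - b, by omega⟩ 0 := fun a b hab =>
      hG₀ a b _ (Nat.sub_add_cancel hab)
    have hG'' : ∀ a b : Fin 5, cG a b = conj4 (cG b a) := by decide
    rcases le_total (j : ℕ) i with hle | hle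
    · rw [hall i j hle]
      exact congrArg φ (hG' i j hle).symm
    · rw [hfu.herm, hall j i hle, ← hσφ, ← hG' j i hle]
      exact congrArg φ (hG'' i j).symm
  have hBG : Bᵀ * B.map σ = G := by
    ext i j
    rw [← hgramG, hfdef, hσ.hermForm_eq, Matrix.mul_apply]
    exact Finset.sum_congr rfl fun r _ => by rw [Matrix.transpose_apply, Matrix.map_apply, hB, hB]
  have hformB : ∀ u v, f (B *ᵥ u) (B *ᵥ v) = u ⬝ᵥ (G *ᵥ ((σ : F → F) ∘ v)) := fun u v => by
    rw [← hBG, hfdef, hσ.hermForm_eq, ← Matrix.mulVec_mulVec, Matrix.dotProduct_mulVec u, Matrix.vecMul_transpose]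
    refine Finset.sum_congr rfl fun r _ => congrArg _ ?_
    exact RingHom.map_mulVec (σ : F →+* F) B v r
  have hisoB : ∀ A : Mat, isometric A → ∀ g : GL (Fin 5) F, (g : Matrix (Fin 5) (Fin 5) F) * B = B * up A → g ∈ GU 5 F 2 := by
    intro A hA g hg
    have e : (up A)ᵀ * G * (up A).map σ = G := by
      have := congrArg up hA
      rwa [hupmm, hupmm, hupσ] at this
    refine mem_GU_iff.mpr fun u v => ?_
    obtain ⟨u', rfl⟩ : ∃ u', u = B *ᵥ u' := ⟨_, (gl_mulVec_inv_cancel Bg u).symm⟩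
    obtain ⟨v', rfl⟩ : ∃ v', v = B *ᵥ v' := ⟨_, (gl_mulVec_inv_cancel Bg v).symm⟩
    rw [Matrix.mulVec_mulVec, Matrix.mulVec_mulVec, hg, ← Matrix.mulVec_mulVec, ← Matrix.mulVec_mulVec, ← hfdef, hformB, hformB]
    conv_rhs => rw [← e]
    rw [← Matrix.mulVec_mulVec, ← Matrix.mulVec_mulVec, Matrix.dotProduct_mulVec u', Matrix.vecMul_transpose,
      show (σ : F → F) ∘ (up A *ᵥ v') = (up A).map σ *ᵥ ((σ : F → F) ∘ v') from
        funext fun r => RingHom.map_mulVec (σ : F →+* F) (up A) v' r]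
  have hlift : ∀ A A' : Mat, mm A A' = one5 → ∃ g : GL (Fin 5) F, (g : Matrix (Fin 5) (Fin 5) F) * B = B * up A := by
    intro A A' hAA'
    have e : up A * up A' = 1 := by rw [← hupmm, hAA', hupone]
    refine ⟨Bg * ⟨up A, up A', e, mul_eq_one_comm.mp e⟩ * Bg⁻¹, ?_⟩
    rw [Units.val_mul, Units.val_mul, Matrix.mul_assoc]
    change B * up A * (((Bg⁻¹ : GL (Fin 5) F) : Matrix (Fin 5) (Fin 5) F) * (Bg : Matrix (Fin 5) (Fin 5) F)) = _
    rw [Units.inv_mul, Matrix.mul_one]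
  have hinvB : ∀ {A A' : Matrix (Fin 5) (Fin 5) F}, B * A = B * A' → A = A' := fun {A A'} e => Bg.isUnit.mul_left_cancel e
  have hinvB' : ∀ {A A' : Matrix (Fin 5) (Fin 5) F}, A * B = A' * B → A = A' := fun {A A'} e => Bg.isUnit.mul_right_cancel e
  obtain ⟨⟨hPiso, hP5, hPC⟩, ⟨hTiso, hT2, hTC⟩⟩ := And.intro phi_facts t_facts
  obtain ⟨P, hP⟩ := hlift cPhi (pw cPhi 4) (by rw [← hP5]; decide +kernel)
  obtain ⟨T, hT⟩ := hlift cT cT hT2
  have hPU := hisoB _ hPiso P hP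
  have hTU := hisoB _ hTiso T hT
  have hdet1 : ∀ (g : GL (Fin 5) F) (A : Mat) (n : ℕ), (g : Matrix (Fin 5) (Fin 5) F) * B = B * up A → pw A n = one5 →
      (g : Matrix (Fin 5) (Fin 5) F).det ^ n = 1 := fun g A n e e' => by
    have h' : (g : Matrix (Fin 5) (Fin 5) F).det = (up A).det := by
      have := congrArg Matrix.det e
      rw [Matrix.det_mul, Matrix.det_mul, mul_comm B.det] at this
      exact mul_right_cancel₀ hBdet this
    rw [h', ← Matrix.det_pow, ← huppw, e', hupone, Matrix.det_one]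
  have hPS : P ∈ suGL 5 F 2 := ⟨hPU, mem_specialLinear_iff.mpr (by
    have h5 := hdet1 P cPhi 5 hP hP5
    have hd0 : (P : Matrix (Fin 5) (Fin 5) F).det ≠ 0 := ((Matrix.isUnit_iff_isUnit_det _).mp P.isUnit).ne_zero
    have h3 := (hu _ hd0).2
    have hd2 : (P : Matrix (Fin 5) (Fin 5) F).det ^ 2 = 1 := by linear_combination h5 - ((P : Matrix (Fin 5) (Fin 5) F).det ^ 2) * h3
    linear_combination h3 - (P : Matrix (Fin 5) (Fin 5) F).det * hd2)⟩
  have hTS : T ∈ suGL 5 F 2 := ⟨hTU, mem_specialLinear_iff.mpr (by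
    have h2' := hdet1 T cT 2 hT (by rw [← hT2]; decide +kernel)
    rcases mul_self_eq_one_iff.mp (show (T : Matrix (Fin 5) (Fin 5) F).det * (T : Matrix (Fin 5) (Fin 5) F).det = 1 by
      rw [← h2']; ring) with e | e
    · exact e
    · rw [e]; linear_combination -h2)⟩
  have hxB : x * B = B * up cC := by
    ext r j
    have hl : (x * B) r j = ((x * x ^ (j : ℕ)) *ᵥ z) r := by
      rw [← Matrix.mulVec_mulVec, ← hBcol j, Matrix.mulVec_mulVec, Matrix.mulVec_single_one]; rfl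
    rw [hl, Matrix.mul_apply, Fin.sum_univ_five, ← pow_succ']
    simp only [up, Matrix.of_apply, hB]
    fin_cases j
    iterate 4 simp [cC, h0, h1]
    have e5 : x ^ 5 = -((1 : F) • 1 + φ 2 • x + (1 : F) • x ^ 2 + (1 : F) • x ^ 3 + φ 3 • x ^ 4) :=
      eq_neg_of_add_eq_zero_left hxp
    simp [cC, h1, e5, Matrix.neg_mulVec, Matrix.add_mulVec, Matrix.smul_mulVec]
    linear_combination -((x ^ 2 *ᵥ z) r + (x ^ 3 *ᵥ z) r + z r + φ 2 * (x *ᵥ z) r + φ 3 * (x ^ 4 *ᵥ z) r) * h2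
  have hxnB : ∀ n, x ^ n * B = B * up cC ^ n := fun n => by
    induction n with
    | zero => simp
    | succ n ih => rw [pow_succ, Matrix.mul_assoc, hxB, ← Matrix.mul_assoc, ih, Matrix.mul_assoc, ← pow_succ]
  -- the set
  let S : Set (Fin 5 → F) := {v | ∃ a ∈ orbit, v = B *ᵥ (φ ∘ a)}
  have hstab : ∀ (g : GL (Fin 5) F) (A : Mat), (g : Matrix (Fin 5) (Fin 5) F) * B = B * up A →
      (∀ v ∈ orbit, mv A v ∈ orbit) → g ∈ stabilizing (glToMat (Fin 5) F) S := by
    intro g A hg hA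
    have hsub : (fun v => (g : Matrix (Fin 5) (Fin 5) F) *ᵥ v) '' S ⊆ S := by
      rintro _ ⟨_, ⟨a, haS, rfl⟩, rfl⟩
      exact ⟨mv A a, hA a haS, by simp only [hupmv, Matrix.mulVec_mulVec, ← hg]⟩
    have heq : (fun v => (g : Matrix (Fin 5) (Fin 5) F) *ᵥ v) '' S = S :=
      Set.eq_of_subset_of_ncard_le hsub (by rw [Set.ncard_image_of_injective _ (gl_mulVec_injective g)]) (Set.toFinite _)
    intro v
    refine ⟨fun hv => hsub ⟨v, hv, rfl⟩, fun hv => ?_⟩
    rw [show glToMat (Fin 5) F g = (g : Matrix (Fin 5) (Fin 5) F) from rfl, ← heq] at hv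
    obtain ⟨u, hu', e⟩ := hv
    rwa [← gl_mulVec_injective g e]
  have hxU : ∃ xg : GL (Fin 5) F, (xg : Matrix (Fin 5) (Fin 5) F) = x :=
    ⟨⟨x, x ^ 10, by rw [← pow_succ', hx11], by rw [← pow_succ, hx11]⟩, rfl⟩
  obtain ⟨xg, hxg⟩ := hxU
  have hxS : xg ∈ stabilizing (glToMat (Fin 5) F) S :=
    hstab xg cC (by rw [hxg]; exact hxB) fun v hv => (orbit_closed v hv).1
  have hPst : P ∈ stabilizing (glToMat (Fin 5) F) S := hstab P cPhi hP fun v hv => (orbit_closed v hv).2.1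
  have hTst : T ∈ stabilizing (glToMat (Fin 5) F) S := hstab T cT hT fun v hv => (orbit_closed v hv).2.2
  have hPx : (P : Matrix (Fin 5) (Fin 5) F) * x = x ^ 4 * (P : Matrix (Fin 5) (Fin 5) F) := by
    refine hinvB' ?_
    rw [Matrix.mul_assoc, hxB, ← Matrix.mul_assoc, hP, Matrix.mul_assoc, ← hupmm, hPC, hupmm, huppw, ← Matrix.mul_assoc,
      ← hxnB, Matrix.mul_assoc, ← hP, Matrix.mul_assoc]
  have hPpow : ∀ k n, ((P ^ k : GL (Fin 5) F) : Matrix (Fin 5) (Fin 5) F) * x ^ n =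
      x ^ (4 ^ k * n) * ((P ^ k : GL (Fin 5) F) : Matrix (Fin 5) (Fin 5) F) := by
    have h1' : ∀ n, (P : Matrix (Fin 5) (Fin 5) F) * x ^ n = x ^ (4 * n) * (P : Matrix (Fin 5) (Fin 5) F) := fun n => by
      induction n with
      | zero => simp
      | succ n ih => rw [pow_succ, ← Matrix.mul_assoc, ih, Matrix.mul_assoc, hPx, ← Matrix.mul_assoc, ← pow_add, mul_add, mul_one]
    intro k
    induction k with
    | zero => simp
    | succ k ih => intro n; rw [pow_succ', Units.val_mul, Matrix.mul_assoc, ih, ← Matrix.mul_assoc, h1', Matrix.mul_assoc, pow_succ',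
        mul_assoc]
  have hnorm : ∀ g ∈ H, ∃ m : Fin 11, (g : Matrix (Fin 5) (Fin 5) F) * x = x ^ (m : ℕ) * (g : Matrix (Fin 5) (Fin 5) F) ∧
      ∃ k : ℕ, (m : ℕ) = 4 ^ k % 11 := by
    intro g hg
    obtain ⟨y, hy⟩ : ∃ y, y = (g : Matrix (Fin 5) (Fin 5) F) * x * ((g⁻¹ : GL (Fin 5) F) : Matrix (Fin 5) (Fin 5) F) := ⟨_, rfl⟩
    have hyK : y ∈ K := hy ▸ ((h ▸ hg : g ∈ subalgebraNormalizer K ⊓ suGL 5 F 2).1 x).mp hxK
    have hgy : (g : Matrix (Fin 5) (Fin 5) F) * x = y * (g : Matrix (Fin 5) (Fin 5) F) := by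
      rw [hy, Matrix.mul_assoc _ _ (g : Matrix (Fin 5) (Fin 5) F), Units.inv_mul, Matrix.mul_one]
    have hconj : ∀ n, y ^ n = (g : Matrix (Fin 5) (Fin 5) F) * x ^ n * ((g⁻¹ : GL (Fin 5) F) : Matrix (Fin 5) (Fin 5) F) := fun n => by
      induction n with
      | zero => simp
      | succ n ih => rw [pow_succ, ih, pow_succ, hy]; simp [Matrix.mul_assoc]
    have hy11 : y ^ 11 = 1 := by rw [hconj, hx11, Matrix.mul_one, Units.mul_inv]
    have hy1 : y ≠ 1 := fun e => hx1 (by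
      rw [e, Matrix.one_mul] at hgy
      exact g.isUnit.mul_left_cancel (hgy.trans (Matrix.mul_one _).symm))
    have hyp : P1 y = 0 := by
      have : P1 y = (g : Matrix (Fin 5) (Fin 5) F) * P1 x * ((g⁻¹ : GL (Fin 5) F) : Matrix (Fin 5) (Fin 5) F) := by
        simp only [P1, hconj, Matrix.mul_add, Matrix.add_mul, Matrix.mul_smul, Matrix.smul_mul, Matrix.mul_one, Units.mul_inv]
        rw [← hy]
      rw [this, hxp, Matrix.mul_zero, Matrix.zero_mul]
    obtain ⟨mx, hmx⟩ := heleven x hxK hx11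
    obtain ⟨my, hmy⟩ := heleven y hyK hy11
    obtain ⟨m, hm⟩ : ∃ m : Fin 11, y = x ^ (m : ℕ) := by
      have hmx0 : mx % 11 ≠ 0 := fun e => hx1 (by
        rw [hmx, hpow, show 93 * mx % 1023 = 0 by omega, pow_zero])
      obtain ⟨c, hc⟩ : ∃ c : Fin 11, (mx % 11) * (c : ℕ) % 11 = my % 11 := by
        have hdec : ∀ a b : Fin 11, (a : ℕ) ≠ 0 → ∃ c : Fin 11, (a : ℕ) * c % 11 = b := by decide +kernel
        exact hdec ⟨mx % 11, Nat.mod_lt _ (by norm_num)⟩ ⟨my % 11, Nat.mod_lt _ (by norm_num)⟩ hmx0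
      refine ⟨c, ?_⟩
      rw [hmy, hmx, ← pow_mul, hpow, hpow (93 * mx * (c : ℕ))]
      congr 1
      have e1 : mx * (c : ℕ) % 11 = my % 11 := by rw [← hc, Nat.mul_mod, Nat.mod_mul_mod]; simp [Nat.mul_mod]
      have e2 : 93 * mx * (c : ℕ) = 93 * (mx * (c : ℕ)) := by ring
      omega
    refine ⟨m, by rw [hgy, hm], ?_⟩
    have hcases : ∀ m : Fin 11, (m : ℕ) = 0 ∨ (∃ k : Fin 5, (m : ℕ) = 4 ^ (k : ℕ) % 11) ∨
        ∃ k : Fin 5, (2 * 4 ^ (k : ℕ)) % 11 = (m : ℕ) := by decide +kernel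
    rcases hcases m with e | ⟨k, hk⟩ | ⟨k, hk⟩
    · exact absurd (by rw [hm, e, pow_zero]) hy1
    · exact ⟨k, hk⟩
    · exfalso
      -- y is the square of a conjugate of x, so the conjugate polynomial vanishes at it
      set gP := (P ^ (k : ℕ) : GL (Fin 5) F) with hgP
      have hsq : P1 x = 0 := hxp
      have h2y : y = x ^ (4 ^ (k : ℕ) * 2) := by
        rw [hm, ← Nat.mod_add_div (4 ^ (k : ℕ) * 2) 11, mul_comm (4 ^ (k : ℕ)) 2, hk, pow_add, pow_mul, hx11, one_pow, mul_one]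
      have hc : ∀ n, x ^ (4 ^ (k : ℕ) * n) = (gP : Matrix (Fin 5) (Fin 5) F) * x ^ n * ((gP⁻¹ : GL (Fin 5) F) : Matrix (Fin 5) (Fin 5) F) :=
        fun n => by rw [hgP, hPpow, Matrix.mul_assoc, Units.mul_inv, Matrix.mul_one]
      have hP2x : P2 (x ^ 2) = 0 := by
        letI : CommRing K := { K.toRing with mul_comm := fun a b => Subtype.ext (hK.comm a a.2 b b.2) }
        have e' : X' ^ 5 + ((1 : F) • 1 + φ 2 • X' + (1 : F) • X' ^ 2 + (1 : F) • X' ^ 3 + φ 3 • X' ^ 4) = 0 :=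
          Subtype.ext (by simpa [P1, X'] using hxp)
        suffices (X' ^ 2) ^ 5 + ((1 : F) • 1 + φ 3 • X' ^ 2 + (1 : F) • (X' ^ 2) ^ 2 + (1 : F) • (X' ^ 2) ^ 3 +
            φ 2 • (X' ^ 2) ^ 4) = 0 by simpa [P2, X'] using congrArg Subtype.val this
        simp only [Algebra.smul_def, hp3, ← hp2, map_add, map_one, one_mul, mul_one] at e' ⊢
        have hq' : algebraMap F K p2 * algebraMap F K p2 + algebraMap F K p2 + 1 = 0 := by
          rw [← map_mul, ← map_add, ← map_one (algebraMap F K), ← map_add, hpq, map_zero]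
        have h2' : (2 : K) = 0 := by rw [← map_ofNat (algebraMap F K) 2, h2, map_zero]
        generalize algebraMap F K p2 = c at hq' e' ⊢
        generalize X' = Y at e' ⊢
        linear_combination (Y ^ 5 + (1 + c * Y + Y ^ 2 + Y ^ 3 + (1 + c) * Y ^ 4)) * e' - (Y ^ 2 + Y ^ 8) * hq' +
        ((1 + c) * Y ^ 2 - (Y ^ 5 * (1 + c * Y + Y ^ 2 + Y ^ 3 + (1 + c) * Y ^ 4) + 1 * (c * Y + Y ^ 2 + Y ^ 3 + (1 + c) * Y ^ 4) + c * Y * (Y ^ 2 + Y ^ 3 + (1 + c) * Y ^ 4) + Y ^ 2 * (Y ^ 3 + (1 + c) * Y ^ 4) + Y ^ 3 * (1 + c) * Y ^ 4)) * h2'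
      have hP2y : P2 y = 0 := by
        have : P2 y = (gP : Matrix (Fin 5) (Fin 5) F) * P2 (x ^ 2) * ((gP⁻¹ : GL (Fin 5) F) : Matrix (Fin 5) (Fin 5) F) := by
          simp only [P2, Matrix.mul_add, Matrix.add_mul, Matrix.mul_smul, Matrix.smul_mul, Matrix.mul_one, Units.mul_inv, ← pow_mul,
            ← hc, h2y, mul_assoc]
        rw [this, hP2x, Matrix.mul_zero, Matrix.zero_mul]
      exact hdisj y hyK hy11 hy1 hyp hP2y
  have hHS : H ≤ stabilizing (glToMat (Fin 5) F) S := by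
    intro g hg
    obtain ⟨m, hgm, k, hk⟩ := hnorm g hg
    obtain ⟨g', hg'⟩ : ∃ g' : GL (Fin 5) F, g' = (P ^ k)⁻¹ * g := ⟨_, rfl⟩
    have hgg : g = P ^ k * g' := by rw [hg', mul_inv_cancel_left]
    have hcomm : (g' : Matrix (Fin 5) (Fin 5) F) * x = x * (g' : Matrix (Fin 5) (Fin 5) F) := by
      apply (P ^ k).isUnit.mul_left_cancel
      have e1 : x ^ (m : ℕ) = x ^ (4 ^ k) := by
        rw [hk]
        conv_rhs => rw [← Nat.mod_add_div (4 ^ k) 11, pow_add, pow_mul, hx11, one_pow, mul_one]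
      have e2 : ((P ^ k : GL (Fin 5) F) : Matrix (Fin 5) (Fin 5) F) * x =
          x ^ (4 ^ k) * ((P ^ k : GL (Fin 5) F) : Matrix (Fin 5) (Fin 5) F) := by
        have := hPpow k 1
        rwa [pow_one, mul_one] at this
      rw [← Matrix.mul_assoc, ← Units.val_mul, ← hgg, hgm, e1, ← Matrix.mul_assoc, e2, Matrix.mul_assoc, ← Units.val_mul, ← hgg]
    obtain ⟨kk, hkk⟩ := (hfree z hz).2 ((g' : Matrix (Fin 5) (Fin 5) F) *ᵥ z)
    have hcommn : ∀ n, (g' : Matrix (Fin 5) (Fin 5) F) * x ^ n = x ^ n * (g' : Matrix (Fin 5) (Fin 5) F) := fun n =>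
      (Commute.pow_right hcomm n : _)
    have hk' : (g' : Matrix (Fin 5) (Fin 5) F) = (kk : Matrix (Fin 5) (Fin 5) F) := by
      refine hinvB' (Matrix.ext_of_mulVec_single fun i => ?_)
      rw [← Matrix.mulVec_mulVec, ← Matrix.mulVec_mulVec, hBcol, Matrix.mulVec_mulVec, Matrix.mulVec_mulVec, hcommn,
        ← hK.comm _ (K.pow_mem hxK _) _ kk.2, ← Matrix.mulVec_mulVec, ← Matrix.mulVec_mulVec]
      exact congrArg _ hkk.symm
    have hg'S : g' ∈ suGL 5 F 2 := hg' ▸ mul_mem (inv_mem (pow_mem hPS k)) (hH.1.le hg)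
    set K' := (kk : Matrix (Fin 5) (Fin 5) F) with hK'
    have hk1 : formAdj σ f K' * K' = 1 := by
      refine hf.ext_right fun u v => ?_
      rw [← Matrix.mulVec_mulVec, Matrix.one_mulVec, ← hf.adj_spec, ← hk']
      exact mem_GU_iff.mp hg'S.1 u v
    have hk11 : (kk : Matrix (Fin 5) (Fin 5) F) ^ 11 = 1 := by
      rw [show formAdj σ f K' = K' ^ 32 from hτ32 _ kk.2, ← pow_succ] at hk1
      obtain ⟨j, hj⟩ := hgen _ kk.2 (fun e => by rw [hK', e, zero_pow (by norm_num)] at hk1; exact zero_ne_one hk1)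
      rw [hK', hj, ← pow_mul] at hk1
      obtain ⟨d, hd⟩ := (hord _).mp hk1
      obtain ⟨b, hb⟩ := hgen _ (K.smul_mem K.one_mem p2) (fun e => hp0 (hone _ e))
      have hscal : ∀ d, ∃ c : F, c ≠ 0 ∧ w ^ (341 * d) = c • 1 := fun d => by
        have hb' : b % 1023 = 341 ∨ b % 1023 = 682 := by
          have : w ^ (b * 3) = 1 := by
            rw [pow_mul, ← hb, smul_pow, one_pow, show p2 ^ 3 = 1 by linear_combination (hu p2 hp0).2, one_smul]
          obtain ⟨e, he⟩ := (hord _).mp this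
          have : b % 1023 ≠ 0 := fun e => hp1 (by
            rw [hpow b, e, pow_zero] at hb
            simpa using congrFun (congrFun hb 0) 0)
          omega
        rcases hb' with e | e
        · refine ⟨p2 ^ d, pow_ne_zero _ hp0, ?_⟩
          rw [pow_mul, ← e, ← hpow, ← hb, smul_pow, one_pow]
        · refine ⟨p2 ^ (2 * d), pow_ne_zero _ hp0, ?_⟩
          rw [show w ^ (341 * d) = ((w ^ (b % 1023)) ^ 2) ^ d by
            rw [e, ← pow_mul, ← pow_mul, hpow, hpow (682 * (2 * d))]; congr 1; omega, ← hpow, ← hb, smul_pow, one_pow,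
            smul_pow, one_pow, ← pow_mul]
      obtain ⟨c, hc0, hc⟩ := hscal d
      have hsc : K' ^ 11 = c • 1 := by
        rw [hK', hj, ← pow_mul, ← hc, hpow, hpow (341 * d)]
        congr 1
        omega
      have hdetc : c ^ 5 = 1 := by
        have := congrArg Matrix.det hsc
        rw [Matrix.det_pow, ← hk', det_gl_of_mem_specialLinear hg'S.2, one_pow, Matrix.det_smul, Matrix.det_one, mul_one,
          Fintype.card_fin] at this
        exact this.symm
      have hc3 := (hu c hc0).2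
      rw [hsc, show c = 1 by
        have hd2 : c ^ 2 = 1 := by linear_combination hdetc - c ^ 2 * hc3
        linear_combination hc3 - c * hd2, one_smul]
    obtain ⟨mk, hmk⟩ := heleven _ kk.2 hk11
    obtain ⟨mx, hmx⟩ := heleven x hxK hx11
    have hmx0 : mx % 11 ≠ 0 := fun e => hx1 (by rw [hmx, hpow, show 93 * mx % 1023 = 0 by omega, pow_zero])
    obtain ⟨c, hc⟩ : ∃ c : Fin 11, (mx % 11) * (c : ℕ) % 11 = mk % 11 := by
      have hdec : ∀ a b : Fin 11, (a : ℕ) ≠ 0 → ∃ c : Fin 11, (a : ℕ) * c % 11 = b := by decide +kernel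
      exact hdec ⟨mx % 11, Nat.mod_lt _ (by norm_num)⟩ ⟨mk % 11, Nat.mod_lt _ (by norm_num)⟩ hmx0
    have hg'' : g' = xg ^ (c : ℕ) := Units.ext (by
      rw [Units.val_pow_eq_pow_val, hxg, hk', hK', hmk, hmx, ← pow_mul, hpow, hpow (93 * mx * (c : ℕ))]
      congr 1
      have e1 : mx * (c : ℕ) % 11 = mk % 11 := by rw [← hc, Nat.mul_mod, Nat.mod_mul_mod]; simp [Nat.mul_mod]
      have e2 : 93 * mx * (c : ℕ) = 93 * (mx * (c : ℕ)) := by ring
      omega)
    rw [hgg, hg'']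
    exact mul_mem (pow_mem hPst k) (pow_mem hxS _)
  -- properness
  have hnot : ¬ suGL 5 F 2 ≤ stabilizing (glToMat (Fin 5) F) S := fun hle => by
    obtain ⟨hW, hV, hmoved⟩ := moved
    have hσc : ∀ u : Fin 5 → Fin 4, φ ∘ (fun i => conj4 (u i)) = (σ : F → F) ∘ (φ ∘ u) := fun u => funext fun i => hσφ _
    have hww : f (B *ᵥ (φ ∘ cW)) (B *ᵥ (φ ∘ cW)) = 0 := by
      rw [hformB, hG, ← hσc, ← hupmv, ← hdot, hW, h0]
    obtain ⟨t, ht, htm⟩ := hσ.exists_transvection hww (c := 1) (by rw [map_one]; linear_combination h2)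
    obtain ⟨a, haS, hae⟩ := (hle ht (B *ᵥ (φ ∘ cV))).mp ⟨cV, hV, rfl⟩
    rw [show glToMat (Fin 5) F t = (t : Matrix (Fin 5) (Fin 5) F) from rfl, htm, one_mul, ← hfdef, hformB, hG, ← hσc, ← hupmv,
      ← hdot, ← Matrix.mulVec_smul, ← Matrix.mulVec_add] at hae
    apply hmoved
    convert haS using 1
    funext i
    refine hφ.1 ?_
    have := congrFun (gl_mulVec_injective Bg hae) i
    simpa [ha, hm] using this
  have hHeq := eq_inf_of_maximal' hH hHS hnot
  obtain ⟨m, hm', -⟩ := hnorm T (hHeq ▸ ⟨hTst, hTS⟩)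
  refine hTC m (hupinj ?_)
  rw [hupmm, hupmm, huppw]
  refine hinvB ?_
  rw [← Matrix.mul_assoc, ← hT, Matrix.mul_assoc, ← hxB, ← Matrix.mul_assoc, hm', Matrix.mul_assoc, hT, ← Matrix.mul_assoc,
    hxnB, Matrix.mul_assoc]

end Cfsg.Agent.Classical
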