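/-
The special unitary group in dimension at least three: perfectness, normal subgroups, and the geometric members
it is not contained in.
-/
import Cfsg.Agent.Lib.Classical.FormUMaximal
import Cfsg.Agent.Lib.Classical.FormSmallSolvable
import Cfsg.Agent.Lib.Small.Unitary.Simple

set_option autoImplicit false
set_option linter.style.haveILetI false
set_option linter.unusedSectionVars false

namespace Cfsg.Agent.Classical

open Matrix Cfsg.Geo
open scoped commutatorElement

variable {n : ℕ} {F : Type*} [Field F]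

/-- A perfect group permuting at most four subspaces fixes each of them. -/
theorem perfect_fixes_members {S : Subgroup (GL (Fin n) F)} (hS : ⁅S, S⁆ = S) {t k : ℕ} (ht : t ≤ 4)
    {D : Fin t → Submodule F (Fin n → F)} (hD : IsMDecomposition k D) (hle : S ≤ decompositionStabilizer D) :
    ∀ g ∈ S, ∀ i, S ≤ decompositionStabilizer D ∧ (D i).map (Matrix.toLin' (g : Matrix (Fin n) (Fin n) F)) = D i := by
  classical
  have hinj : Function.Injective D := fun i j hij => by
    by_contra hne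
    have h := hD.indep.pairwiseDisjoint hne
    change Disjoint (D i) (D j) at h
    rw [hij, disjoint_self] at h
    have := hD.finrank_eq j
    rw [h, finrank_bot] at this
    exact hD.pos.ne' this.symm
  choose π hπ using fun g : S => hle g.2
  let φ : S →* Equiv.Perm (Fin t) :=
    { toFun := π
      map_one' := Equiv.ext fun i => hinj (by rw [← hπ]; simp)
      map_mul' := fun a b => Equiv.ext fun i => hinj (by
        rw [← hπ, Subgroup.coe_mul, Units.val_mul, Matrix.toLin'_mul, Submodule.map_comp, hπ, hπ, Equiv.Perm.mul_apply]) }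
  haveI : Group.IsSolvable (Equiv.Perm (Fin t)) := isSolvable_of_card_le_perm (by simpa using ht)
  have htop : commutator S = ⊤ := by
    apply Subgroup.map_injective S.subtype_injective
    rw [commutator_def, Subgroup.map_commutator, ← MonoidHom.range_eq_map, Subgroup.range_subtype, hS]
  have hd : ∀ m, derivedSeries S m = ⊤ := fun m => by
    induction m with
    | zero => rfl
    | succ m ih => rw [derivedSeries_succ, ih, ← commutator_def, htop]
  obtain ⟨m, hm⟩ := Group.IsSolvable.solvable (G := Equiv.Perm (Fin t))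
  intro g hg i
  have h1 : φ ⟨g, hg⟩ = 1 := Subgroup.mem_bot.mp
    (hm ▸ map_derivedSeries_le_derivedSeries φ m ⟨⟨g, hg⟩, by rw [hd m]; exact Subgroup.mem_top _, rfl⟩)
  refine ⟨hle, ?_⟩
  rw [show (D i).map (Matrix.toLin' (g : Matrix (Fin n) (Fin n) F)) = D (π ⟨g, hg⟩ i) from hπ ⟨g, hg⟩ i,
    show π ⟨g, hg⟩ = 1 from h1]
  rfl

variable {q : ℕ} [Fintype F] {σ : F ≃+* F} (hσ : IsUSigma q σ)

include hσ

/-- Perfectness, and the normal subgroups. -/
theorem IsUSigma.su_simple_facts (h3 : 3 ≤ n) (hex : ¬ (n = 3 ∧ q = 2)) :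
    ⁅suGL n F q, suGL n F q⁆ = suGL n F q ∧ ∀ N : Subgroup (GL (Fin n) F), N ≤ suGL n F q →
      (∀ g ∈ suGL n F q, ∀ x ∈ N, g * x * g⁻¹ ∈ N) → N ≤ scalars (Fin n) F ∨ N = suGL n F q := by
  classical
  letI : StarRing F := Cfsg.Agent.Small.Hermitian.starRingOfInvolution (σ : F →+* F) hσ.involutive
  have hperf : commutator (SU n F q) = ⊤ :=
    Cfsg.Agent.Small.Unitary.commutator_eq_top (fun x => hσ.apply_eq x) hσ.card h3 hex
  haveI hsimp : IsSimpleGroup (PSU n F q) :=
    Cfsg.Agent.Small.Unitary.psu_simple (fun x => hσ.apply_eq x) hσ.card h3 hex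
  let ι : ↥(SU n F q) →* GL (Fin n) F := Matrix.SpecialLinearGroup.toGL.comp (SU n F q).subtype
  have hrange : ι.range = suGL n F q := by
    ext g
    constructor
    · rintro ⟨x, rfl⟩
      exact ⟨x.2, mem_specialLinear_iff.mpr x.1.2⟩
    · rintro ⟨hg, hd⟩
      exact ⟨⟨⟨_, mem_specialLinear_iff.mp hd⟩, hg⟩, Units.ext rfl⟩
  have hp : ⁅suGL n F q, suGL n F q⁆ = suGL n F q := by
    rw [← hrange, MonoidHom.range_eq_map, ← Subgroup.map_commutator, ← commutator_def, hperf]
  refine ⟨hp, fun N hN hconj => ?_⟩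
  haveI hnorm : (N.comap ι).Normal := ⟨fun x hx g => by
    rw [Subgroup.mem_comap, map_mul, map_mul, map_inv]
    exact hconj _ (hrange ▸ ⟨g, rfl⟩) _ hx⟩
  let Z := Subgroup.center ↥(SU n F q)
  have hN' : N = (N.comap ι).map ι := by
    rw [Subgroup.map_comap_eq, hrange, inf_eq_right.mpr hN]
  rcases (hnorm.map (QuotientGroup.mk' Z) (QuotientGroup.mk'_surjective Z)).eq_bot_or_eq_top with h | h
  · left
    rw [Subgroup.map_eq_bot_iff, QuotientGroup.ker_mk'] at h
    rw [hN']
    rintro _ ⟨x, hx, rfl⟩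
    obtain ⟨c, hc⟩ := hσ.transvection_centralizer_three h3 (M := (ι x : Matrix (Fin n) (Fin n) F))
      fun v _ c _ g hg _ => by
        obtain ⟨y, rfl⟩ : g ∈ ι.range := hrange.symm ▸ hg
        have := congrArg ι (Subgroup.mem_center_iff.mp (h hx) y)
        rw [map_mul, map_mul] at this
        exact congrArg (fun z : GL (Fin n) F => (z : Matrix (Fin n) (Fin n) F)) this
    exact mem_scalars_of_eq hc
  · right
    refine le_antisymm hN ?_
    have htop : commutator ↥(SU n F q) ≤ N.comap ι := by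
      rw [commutator_def, Subgroup.commutator_le]
      intro a _ b _
      obtain ⟨a', ha', ea⟩ : QuotientGroup.mk' Z a ∈ (N.comap ι).map (QuotientGroup.mk' Z) := h ▸ Subgroup.mem_top _
      obtain ⟨b', hb', eb⟩ : QuotientGroup.mk' Z b ∈ (N.comap ι).map (QuotientGroup.mk' Z) := h ▸ Subgroup.mem_top _
      obtain ⟨z, hz, rfl⟩ := (QuotientGroup.mk'_eq_mk' Z).mp ea
      obtain ⟨w, hw, rfl⟩ := (QuotientGroup.mk'_eq_mk' Z).mp eb
      have hzc := Subgroup.mem_center_iff.mp hz
      have hwc := Subgroup.mem_center_iff.mp hw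
      have : ⁅a' * z, b' * w⁆ = ⁅a', b'⁆ := by
        simp only [commutatorElement_def]
        calc a' * z * (b' * w) * (a' * z)⁻¹ * (b' * w)⁻¹
            = a' * (z * b') * (w * z⁻¹) * a'⁻¹ * w⁻¹ * b'⁻¹ := by group
          _ = a' * (b' * z) * (z⁻¹ * w) * a'⁻¹ * w⁻¹ * b'⁻¹ := by rw [← hzc b', hwc z⁻¹]
          _ = a' * b' * (w * a'⁻¹) * w⁻¹ * b'⁻¹ := by group
          _ = a' * b' * (a'⁻¹ * w) * w⁻¹ * b'⁻¹ := by rw [← hwc a'⁻¹]
          _ = a' * b' * a'⁻¹ * b'⁻¹ := by group
      rw [this, commutatorElement_def]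
      exact mul_mem (mul_mem (mul_mem ha' hb') (inv_mem ha')) (inv_mem hb')
    rw [← hrange, MonoidHom.range_eq_map, ← hperf, hN']
    exact Subgroup.map_mono htop

variable (h3 : 3 ≤ n) (hex : ¬ (n = 3 ∧ q = 2))

include h3

/-- A nontrivial transvection. -/
theorem IsUSigma.exists_fixCodim_three : ∃ g ∈ suGL n F q, g ≠ 1 ∧ FixCodim 1 g := by
  classical
  obtain ⟨a, -, -, ha0, -, -, -, ha, -, -⟩ := hσ.three_values
  obtain ⟨c, hc0, hc⟩ := hσ.exists_skew
  let i : Fin n := ⟨0, by omega⟩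
  let j : Fin n := ⟨1, by omega⟩
  have hij : i ≠ j := by simp [i, j]
  set v : Fin n → F := Pi.single i 1 + Pi.single j a with hv
  have hv0 : v ≠ 0 := fun e => by simpa [hv, hij] using congrFun e i
  obtain ⟨g, hg, hgm⟩ := hσ.exists_transvection (v := v) (hσ.isotropic_pair hij ha) hc
  refine ⟨g, hg, fun e => ?_, hσ.transvection_fixCodim hgm⟩
  obtain ⟨u, hu⟩ := (hσ.isUnitaryForm.nondegenerate v hv0).1
  have h := hgm u
  rw [e, Units.val_one, Matrix.one_mulVec, eq_comm, add_eq_left] at h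
  exact hu ((mul_eq_zero.mp ((smul_eq_zero.mp h).resolve_right hv0)).resolve_left hc0)

theorem IsUSigma.not_su_le_scalars : ¬ suGL n F q ≤ scalars (Fin n) F := fun h => by
  obtain ⟨g, hg, hg1, hgd⟩ := hσ.exists_fixCodim_three h3
  obtain ⟨c, hc⟩ := (mem_scalars_iff g).mp (h hg)
  exact hg1 (hgd.eq_one_of_scalar (by rw [Fintype.card_fin]; omega) hc)

theorem IsUSigma.not_su_le_subspace_three {W : Submodule F (Fin n → F)} (h0 : W ≠ ⊥) (h1 : W ≠ ⊤) :
    ¬ suGL n F q ≤ subspaceStabilizer W := fun h => by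
  rcases hσ.su_irreducible_three h3 W (fun s ⟨g, hg, e⟩ => e ▸ map_toLin'_le.mpr (mem_subspaceStabilizer_iff.mp (h hg))) with e | e
  · exact h0 e
  · exact h1 e

include hex

theorem IsUSigma.not_su_le_field_three {r : ℕ} (hr : 1 < r) {K : Subalgebra F (Matrix (Fin n) (Fin n) F)}
    (hK : IsFieldSubalgebra r K) : ¬ suGL n F q ≤ subalgebraNormalizer K := by
  intro h
  haveI : Nonempty (Fin n) := ⟨⟨0, by omega⟩⟩
  have hc : ∀ x ∈ suGL n F q, ∀ k ∈ K, Commute (x : Matrix (Fin n) (Fin n) F) k := by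
    let C : Subgroup (GL (Fin n) F) :=
      { carrier := {x | ∀ k ∈ K, Commute (x : Matrix (Fin n) (Fin n) F) k}
        mul_mem' := fun {a b} ha hb k hk => by rw [Units.val_mul]; exact (ha k hk).mul_left (hb k hk)
        one_mem' := fun k _ => by rw [Units.val_one]; exact Commute.one_left k
        inv_mem' := fun {a} ha k hk => (ha k hk).units_inv_left }
    have : suGL n F q ≤ C := by
      rw [← (hσ.su_simple_facts h3 hex).1, Subgroup.commutator_le]
      exact fun a ha b hb => fieldSubalgebra_normalizer_commutator hK (h ha) (h hb)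
    exact fun x hx => this hx
  have hbot : K = ⊥ := by
    rw [eq_bot_iff]
    intro k hk
    obtain ⟨c, rfl⟩ := hσ.transvection_centralizer_three h3 fun v _ c _ g hg _ => hc g hg k hk
    exact Algebra.mem_bot.mpr ⟨c, by simp [Algebra.algebraMap_eq_smul_one]⟩
  have := hK.finrank_eq
  rw [hbot, Subalgebra.finrank_bot] at this
  omega

theorem IsUSigma.not_su_le_decomp_small {t k : ℕ} (ht : t ≤ 4) {D : Fin t → Submodule F (Fin n → F)}
    (hD : IsMDecomposition k D) : ¬ suGL n F q ≤ decompositionStabilizer D := by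
  intro hle
  have hfix := perfect_fixes_members (hσ.su_simple_facts h3 hex).1 ht hD hle
  let i : Fin t := ⟨0, by have := hD.two_le; omega⟩
  have hcard := hD.finrank_eq i
  refine hσ.not_su_le_subspace_three h3 (W := D i) (fun e => ?_) (fun e => ?_)
    (fun g hg => mem_subspaceStabilizer_iff.mpr fun v hv => (hfix g hg i).2 ▸ ⟨v, hv, rfl⟩)
  · rw [e, finrank_bot] at hcard; exact hD.pos.ne' hcard.symm
  · have hj : (⟨1, hD.two_le⟩ : Fin t) ≠ i := by simp [i, Fin.ext_iff]
    have h := hD.indep.pairwiseDisjoint hj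
    change Disjoint (D _) (D i) at h
    rw [e, disjoint_top] at h
    have := hD.finrank_eq ⟨1, hD.two_le⟩
    rw [h, finrank_bot] at this
    exact hD.pos.ne' this.symm

/-- The special unitary group normalises no absolutely irreducible group with scalar commutators. -/
theorem IsUSigma.not_su_le_normalizer_three {R : Subgroup (GL (Fin n) F)}
    (hR : ActsAbsolutelyIrreducibly (matrixSet R)) (hsim : R ≤ similarityGroup (hermForm n F q))
    (hcomm : ∀ x ∈ R, ∀ y ∈ R, x * y * x⁻¹ * y⁻¹ ∈ scalars (Fin n) F) :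
    ¬ suGL n F q ≤ subgroupNormalizer R := by
  classical
  intro hle
  have hn : ∀ g ∈ suGL n F q, ∀ x ∈ R, g * x * g⁻¹ ∈ R := fun g hg x hx =>
    (Subgroup.mem_normalizer_iff.mp (hle hg) x).mp hx
  obtain ⟨hperf, hcases⟩ := hσ.su_simple_facts h3 hex
  rcases hcases (R ⊓ suGL n F q) inf_le_right
      (fun g hg x hx => ⟨hn g hg x hx.1, (suGL n F q).mul_mem ((suGL n F q).mul_mem hg hx.2) ((suGL n F q).inv_mem hg)⟩) with hN | hN
  swap
  · refine hσ.not_su_le_scalars h3 ?_
    rw [← hperf, Subgroup.commutator_le]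
    intro a ha b hb
    exact hcomm a (hN.ge ha).1 b (hN.ge hb).1
  have hall : ∀ r ∈ R, ∃ c : F, (r : Matrix (Fin n) (Fin n) F) = c • (1 : Matrix (Fin n) (Fin n) F) := by
    intro r hr
    refine hσ.transvection_centralizer_three h3 fun v hv c hc g hg hgm => ?_
    obtain ⟨s, hs⟩ := hsim hr
    have hgU := mem_GU_iff.mp hg.1
    have hconjU : r * g⁻¹ * r⁻¹ ∈ GU n F q := mem_GU_iff.mpr fun u w => by
      have hri : ∀ u, (r : Matrix (Fin n) (Fin n) F) *ᵥ (((r⁻¹ : GL (Fin n) F) : Matrix (Fin n) (Fin n) F) *ᵥ u) = u :=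
        gl_mulVec_inv_cancel r
      rw [gl_mul_mulVec, gl_mul_mulVec, gl_mul_mulVec, gl_mul_mulVec, hs, mem_GU_iff.mp ((GU n F q).inv_mem hg.1)]
      conv_rhs => rw [← hri u, ← hri w, hs]
    have hz : g * r * g⁻¹ * r⁻¹ ∈ R ⊓ suGL n F q := by
      refine ⟨R.mul_mem (hn g hg r hr) (R.inv_mem hr), ?_, mem_specialLinear_iff.mpr ?_⟩
      · rw [show g * r * g⁻¹ * r⁻¹ = g * (r * g⁻¹ * r⁻¹) by group]
        exact (GU n F q).mul_mem hg.1 hconjU
      · have hd := mem_specialLinear_iff.mp hg.2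
        have hdi := mem_specialLinear_iff.mp ((specialLinear (Fin n) F).inv_mem hg.2)
        have hr1 : (r : Matrix (Fin n) (Fin n) F).det * ((r⁻¹ : GL (Fin n) F) : Matrix (Fin n) (Fin n) F).det = 1 := by
          rw [← Matrix.det_mul, Units.mul_inv, Matrix.det_one]
        rw [Units.val_mul, Units.val_mul, Units.val_mul, Matrix.det_mul, Matrix.det_mul, Matrix.det_mul, hd, hdi, one_mul,
          mul_one]
        exact hr1
    obtain ⟨l, hl⟩ := (mem_scalars_iff _).mp (hN hz)
    have hgr := coe_mul_comm_of_scalar hl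
    obtain ⟨φ, hφ⟩ := hσ.transvection_fixCodim hgm
    obtain ⟨u, hu0, hu⟩ := exists_ne_zero_map_zero (φ.prod (φ ∘ₗ Matrix.toLin' (r : Matrix (Fin n) (Fin n) F)))
      (by rw [Module.finrank_prod, Module.finrank_fin_fun, Module.finrank_fintype_fun_eq_card, Fintype.card_fin]; omega)
    obtain ⟨hu1, hu2⟩ := Prod.mk_eq_zero.mp hu
    replace hu2 : φ ((r : Matrix (Fin n) (Fin n) F) *ᵥ u) = 0 := hu2
    have e := congrArg (fun X => X *ᵥ u) hgr
    simp only [← Matrix.mulVec_mulVec, Matrix.smul_mulVec, hφ u hu1] at e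
    rw [hφ _ hu2] at e
    have hru : (r : Matrix (Fin n) (Fin n) F) *ᵥ u ≠ 0 := fun e0 =>
      hu0 (gl_mulVec_injective r (e0.trans (Matrix.mulVec_zero _).symm))
    have hl1 : (l : F) = 1 := smul_left_injective F hru (e.symm.trans (one_smul F _).symm)
    rw [hl1, one_smul] at hgr
    exact hgr
  haveI : Nonempty (Fin n) := ⟨⟨0, by omega⟩⟩
  obtain ⟨c, hc⟩ := hR.2 (Matrix.of fun i j => if i = (⟨0, by omega⟩ : Fin n) ∧ j = ⟨1, by omega⟩ then (1 : F) else 0)
    (fun s ⟨r, hr, e⟩ => by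
      obtain ⟨d, hd⟩ := hall r hr
      rw [← e]
      change _ * (r : Matrix (Fin n) (Fin n) F) = (r : Matrix (Fin n) (Fin n) F) * _
      rw [hd, Matrix.mul_smul, Matrix.smul_mul, Matrix.mul_one, Matrix.one_mul])
  have := congrFun (congrFun hc ⟨0, by omega⟩) ⟨1, by omega⟩
  simp [Fin.ext_iff] at this

omit hex

theorem IsUSigma.not_su_le_subfield_three {F₀ : Subfield F} {r : ℕ} (hr : r.Prime)
    (hc : Fintype.card F = Nat.card F₀ ^ r) (P : GL (Fin n) F) : ¬ suGL n F q ≤ subfieldSubgroup F₀ P := by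
  classical
  intro hle
  obtain ⟨ζ, hζ, hζ1, hζ2, hζord⟩ := hσ.exists_norm_one
  have hζ0 : ζ ≠ 0 := left_ne_zero_of_mul_eq_one hζ
  obtain ⟨p, hchar⟩ := CharP.exists F
  obtain ⟨⟨e, he⟩, hpp, hce⟩ := FiniteField.card F p
  change Fintype.card F = p ^ e at hce
  obtain ⟨b, hb, -, hb1, hbF⟩ := subfield_card_eq hpp hce F₀
  haveI : ExpChar F p := ExpChar.prime hpp
  set τ := iterateFrobenius F p b with hτ
  have hτfix : ∀ y, τ y = y ↔ y ∈ F₀ := fun y => by rw [hbF, hτ, iterateFrobenius_def]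
  have hζF : ζ ∉ F₀ := fun h => by
    have h' := (hτfix ζ).mpr h
    rw [hτ, iterateFrobenius_def, ← hb1] at h'
    have hq0 : 1 < Nat.card F₀ := hb1 ▸ Nat.one_lt_pow hb.ne' hpp.one_lt
    have := hζord (Nat.card F₀ - 1) (mul_right_cancel₀ hζ0 (by rw [one_mul, ← pow_succ, Nat.sub_add_cancel hq0.le, h']))
    have h1 := Nat.le_of_dvd (by omega) this
    have h2 : Nat.card F₀ ^ 2 ≤ q ^ 2 := by rw [← hσ.card, hc]; exact Nat.pow_le_pow_right hq0.le hr.two_le
    have := (Nat.pow_le_pow_iff_left two_ne_zero).mp h2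
    omega
  obtain ⟨c, hc0, hcs⟩ := hσ.exists_skew
  -- rank one parts are rational in the new coordinates
  have key : ∀ v, hermForm n F q v v = 0 →
      ∀ i j, (((P⁻¹ : GL (Fin n) F) : Matrix (Fin n) (Fin n) F) * (c • Matrix.vecMulVec v ((σ : F → F) ∘ v)) *
        (P : Matrix (Fin n) (Fin n) F)) i j ∈ F₀ := by
    intro v hv
    obtain ⟨g, hg, hgm⟩ := hσ.exists_transvection hv hcs
    set N := c • Matrix.vecMulVec v ((σ : F → F) ∘ v) with hN
    have hgN : (g : Matrix (Fin n) (Fin n) F) = 1 + N := by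
      refine Matrix.toLin'.injective (LinearMap.ext fun u => ?_)
      rw [Matrix.toLin'_apply, Matrix.toLin'_apply, hgm, Matrix.add_mulVec, Matrix.one_mulVec, hN, Matrix.smul_mulVec,
        Matrix.vecMulVec_mulVec, hσ.hermForm_eq]
      ext k
      simp [dotProduct, mul_comm, mul_left_comm, Finset.mul_sum]
    have hm := hle hg
    rw [mem_subfieldSubgroup, Subgroup.mem_sup_of_normal_right] at hm
    obtain ⟨m, hm, z, hz, hmz⟩ := hm
    obtain ⟨a, ha⟩ := (mem_scalars_iff z).mp hz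
    set M := (m : Matrix (Fin n) (Fin n) F) with hM
    set X := ((P⁻¹ : GL (Fin n) F) : Matrix (Fin n) (Fin n) F) * N * (P : Matrix (Fin n) (Fin n) F) with hX
    have hMX : (a : F) • M = 1 + X := by
      have h := congrArg (fun X : GL (Fin n) F => (X : Matrix (Fin n) (Fin n) F)) hmz
      simp only [Units.val_mul, ha, Matrix.mul_smul, Matrix.mul_one, hgN, Matrix.mul_add, Matrix.add_mul] at h
      rw [Units.inv_mul] at h
      exact h
    have hXrow : X = c • Matrix.vecMulVec (((P⁻¹ : GL (Fin n) F) : Matrix (Fin n) (Fin n) F) *ᵥ v)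
        (((σ : F → F) ∘ v) ᵥ* (P : Matrix (Fin n) (Fin n) F)) := by
      rw [hX, hN, Matrix.mul_smul, Matrix.smul_mul, Matrix.mul_vecMulVec, Matrix.vecMulVec_mul]
    obtain ⟨w, hw⟩ : ∃ w, w = ((σ : F → F) ∘ v) ᵥ* (P : Matrix (Fin n) (Fin n) F) := ⟨_, rfl⟩
    rw [← hw] at hXrow
    have haF : τ (a : F) = a := by
      let L : (Fin n → F) →ₗ[F] F × F :=
        { toFun := fun u => (w ⬝ᵥ u, (τ ∘ w) ⬝ᵥ u)
          map_add' := fun x y => by simp [dotProduct_add]
          map_smul' := fun s x => by simp [dotProduct_smul] }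
      obtain ⟨u, hu0, hu⟩ := exists_ne_zero_map_zero L (by
        rw [Module.finrank_prod, Module.finrank_self, Module.finrank_fintype_fun_eq_card, Fintype.card_fin]; omega)
      obtain ⟨hu1, hu2⟩ := Prod.mk_eq_zero.mp hu
      have hfix : M.map τ = M := by ext i j; exact (hτfix _).mpr (range_map_subfield_entries hm i j)
      have e1 : (a : F) • (M *ᵥ u) = u := by
        rw [← Matrix.smul_mulVec, hMX, Matrix.add_mulVec, Matrix.one_mulVec, hXrow, Matrix.smul_mulVec,
          Matrix.vecMulVec_mulVec, hu1]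
        simp
      have e2 : τ a • (M *ᵥ u) = u := by
        have h := congrArg (fun A : Matrix (Fin n) (Fin n) F => A.map τ *ᵥ u) hMX
        rw [hXrow] at h
        simp only [Matrix.map_add τ (map_add τ), Matrix.map_one τ (map_zero τ) (map_one τ), Matrix.add_mulVec,
          Matrix.one_mulVec] at h
        have h1 : ((a : F) • M).map τ = τ a • M := by
          conv_rhs => rw [← hfix]
          ext i j; simp
        have h2 : (c • Matrix.vecMulVec (((P⁻¹ : GL (Fin n) F) : Matrix (Fin n) (Fin n) F) *ᵥ v) w).map τ *ᵥ u = 0 := by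
          rw [show (c • Matrix.vecMulVec (((P⁻¹ : GL (Fin n) F) : Matrix (Fin n) (Fin n) F) *ᵥ v) w).map τ =
            τ c • Matrix.vecMulVec (τ ∘ (((P⁻¹ : GL (Fin n) F) : Matrix (Fin n) (Fin n) F) *ᵥ v)) (τ ∘ w) by
              ext i j; simp [Matrix.vecMulVec_apply], Matrix.smul_mulVec, Matrix.vecMulVec_mulVec, hu2]
          simp
        rw [h1, h2, add_zero, Matrix.smul_mulVec] at h
        exact h
      have hMu : M *ᵥ u ≠ 0 := fun e0 => hu0 (by rw [← e1, e0, smul_zero])
      exact smul_left_injective F hMu (e2.trans e1.symm)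
    intro i j
    have e : X i j = (a : F) * M i j - (1 : Matrix (Fin n) (Fin n) F) i j := by
      have := congrFun (congrFun hMX i) j
      rw [Matrix.smul_apply, Matrix.add_apply, smul_eq_mul] at this
      rw [this]; ring
    rw [e]
    refine F₀.sub_mem (F₀.mul_mem ((hτfix _).mp haF) (range_map_subfield_entries hm i j)) ?_
    rw [Matrix.one_apply]; split_ifs
    · exact F₀.one_mem
    · exact F₀.zero_mem
  -- traces of triple products
  have htr : ∀ v₁ v₂ v₃, hermForm n F q v₁ v₁ = 0 → hermForm n F q v₂ v₂ = 0 → hermForm n F q v₃ v₃ = 0 →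
      c * c * c * (hermForm n F q v₂ v₁ * hermForm n F q v₃ v₂ * hermForm n F q v₁ v₃) ∈ F₀ := by
    intro v₁ v₂ v₃ h1 h2 h4
    let Nv : (Fin n → F) → Matrix (Fin n) (Fin n) F := fun v => c • Matrix.vecMulVec v ((σ : F → F) ∘ v)
    let C : Matrix (Fin n) (Fin n) F → Matrix (Fin n) (Fin n) F := fun N =>
      ((P⁻¹ : GL (Fin n) F) : Matrix (Fin n) (Fin n) F) * N * (P : Matrix (Fin n) (Fin n) F)
    have hprod : C (Nv v₁) * C (Nv v₂) * C (Nv v₃) = C (Nv v₁ * Nv v₂ * Nv v₃) := by
      simp [C, Matrix.mul_assoc]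
    have htrace : (C (Nv v₁ * Nv v₂ * Nv v₃)).trace =
        c * c * c * (hermForm n F q v₂ v₁ * hermForm n F q v₃ v₂ * hermForm n F q v₁ v₃) := by
      have hd : ∀ u w : Fin n → F, ((σ : F → F) ∘ w) ⬝ᵥ u = hermForm n F q u w := fun u w => by
        rw [hσ.hermForm_eq]; simp [dotProduct, mul_comm]
      rw [Matrix.trace_mul_cycle, Units.mul_inv, Matrix.one_mul]
      simp only [Nv, Matrix.smul_mul, Matrix.mul_smul, Matrix.vecMulVec_mul_vecMulVec, Matrix.trace_smul,
        Matrix.trace_vecMulVec, Matrix.vecMulVec_smul, smul_eq_mul, smul_smul]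
      simp only [smul_dotProduct, dotProduct_smul, smul_eq_mul, hd, dotProduct_comm v₁ ((σ : F → F) ∘ v₃)]
      ring
    rw [← htrace, ← hprod, Matrix.trace]
    refine F₀.sum_mem fun i _ => ?_
    simp only [Matrix.diag_apply, Matrix.mul_apply]
    exact F₀.sum_mem fun j _ => F₀.mul_mem (F₀.sum_mem fun k _ => F₀.mul_mem (key _ h1 i k) (key _ h2 k j)) (key _ h4 j i)
  obtain ⟨a, -, -, ha0, -, -, -, ha, -, -⟩ := hσ.three_values
  let i₀ : Fin n := ⟨0, by omega⟩
  let i₁ : Fin n := ⟨1, by omega⟩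
  let i₂ : Fin n := ⟨2, by omega⟩
  have h01 : i₀ ≠ i₁ := by simp [i₀, i₁]
  have h02 : i₀ ≠ i₂ := by simp [i₀, i₂]
  have h12 : i₁ ≠ i₂ := by simp [i₁, i₂]
  have hval : ∀ b, b * σ b = -1 → c * c * c * (-b) ∈ F₀ := fun b hb => by
    have h := htr _ _ _ (hσ.isotropic_pair h01 ha) (hσ.isotropic_pair h02 ha) (hσ.isotropic_pair h12 hb)
    have hfu := hσ.isUnitaryForm (n := n)
    simp [hfu.add_left, hσ.hermForm_single, h01, h01.symm, h02, h02.symm, h12, h12.symm] at h
    have : b * σ a * a = -b := by linear_combination b * ha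
    rwa [this] at h
  have hbζ : (a * ζ) * σ (a * ζ) = -1 := by rw [map_mul]; linear_combination (ζ * σ ζ) * ha - hζ
  have := F₀.mul_mem (hval _ hbζ) (F₀.inv_mem (hval a ha))
  rw [show c * c * c * -(a * ζ) * (c * c * c * -a)⁻¹ = ζ by field_simp] at this
  exact hζF this

end Cfsg.Agent.Classical
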