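/-
Four dimensional unitary groups over small fields: the stabiliser of two totally singular planes lies in a
symplectic subfield group, that of planes over four elements fixes four lines, and that of a frame over nine
elements normalises a group of symplectic type.
-/
import Cfsg.Agent.Lib.Classical.UnitarySmallDim
import Cfsg.Agent.Lib.Classical.FormUSmall
import Cfsg.Agent.Lib.Classical.FormPower
import Cfsg.Agent.Lib.Classical.FormUSixFrame
import Cfsg.Agent.Lib.Classical.FormPlaneCube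

set_option autoImplicit false
set_option linter.style.haveILetI false
set_option linter.unusedSectionVars false

namespace Cfsg.Agent.Classical

open Matrix Cfsg.Geo

/-- A finite matrix group with commutators and squares signs, holding a square root of minus one, has symplectic
type. -/
theorem symplecticType_of_signs {ι : Type} [Fintype ι] [DecidableEq ι] {F : Type*} [Field F] [Finite F]
    (h2 : (2 : F) ≠ 0) {R : Subgroup (GL ι F)} [Nonempty ι] {i : F} (hi : i * i = -1)
    {z : GL ι F} (hz : z ∈ R) (hzi : (z : Matrix ι ι F) = i • (1 : Matrix ι ι F))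
    (hsq : ∀ x ∈ R, (x : Matrix ι ι F) * x = 1 ∨ (x : Matrix ι ι F) * x = -1)
    (hsign : ∀ x ∈ R, ∀ y ∈ R, (x : Matrix ι ι F) * y = (y : Matrix ι ι F) * x ∨
      (x : Matrix ι ι F) * y = -((y : Matrix ι ι F) * x))
    (habs : ActsAbsolutelyIrreducibly (matrixSet R)) :
    IsSymplecticTypeGroup 2 R ∧ Nat.card (Subgroup.center R) = 4 ∧
      (∀ x ∈ R, ∀ y ∈ R, x * y * x⁻¹ * y⁻¹ ∈ scalars ι F) := by
  classical
  have hne : (1 : Matrix ι ι F) ≠ -1 := fun e => by
    obtain ⟨a⟩ := ‹Nonempty ι›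
    have := congrFun (congrFun e a) a
    simp at this
    exact h2 (by linear_combination this)
  have hcomm : ∀ x ∈ R, ∀ y ∈ R, x * y * x⁻¹ * y⁻¹ ∈ scalars ι F := by
    intro x hx y hy
    have e : ∀ {c : F}, (x : Matrix ι ι F) * y = c • ((y : Matrix ι ι F) * x) →
        ((x * y * x⁻¹ * y⁻¹ : GL ι F) : Matrix ι ι F) = c • (1 : Matrix ι ι F) := fun {c} e => by
      simp only [Units.val_mul, e, Matrix.smul_mul]
      rw [Units.mul_inv_cancel_right, Units.mul_inv]
    rcases hsign x hx y hy with h | h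
    · exact mem_scalars_of_eq (e (c := 1) (by rw [h, one_smul]))
    · exact mem_scalars_of_eq (e (c := -1) (by rw [h, neg_one_smul]))
  have hi0 : i ≠ 0 := fun e => by rw [e, zero_mul] at hi; exact one_ne_zero (α := F) (by linear_combination hi)
  have hpow4 : ∀ x ∈ R, x ^ 4 = 1 := fun x hx => Units.ext (by
    rw [Units.val_pow_eq_pow_val, show (4 : ℕ) = 2 * 2 from rfl, pow_mul, sq, sq, Units.val_one]
    rcases hsq x hx with h | h <;> rw [h] <;> simp)
  refine ⟨⟨Nat.prime_two, fun g => ⟨2, Subtype.ext (by simpa using hpow4 g g.2)⟩, fun A hA hAc => ?_, ?_⟩, ?_, hcomm⟩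
  · -- characteristic abelian subgroups are central
    have hle : A ≤ Subgroup.center R := by
      intro a ha
      by_contra hac
      obtain ⟨v₀, hv₀⟩ : ∃ v₀ : R, v₀ * a ≠ a * v₀ := by
        by_contra h
        push Not at h
        exact hac (Subgroup.mem_center_iff.mpr h)
      obtain ⟨v, hvm, hva⟩ : ∃ v : R, ((v : GL ι F) : Matrix ι ι F) * (v : GL ι F) = -1 ∧ v * a ≠ a * v := by
        rcases hsq v₀ v₀.2 with h | h
        · refine ⟨⟨z, hz⟩ * v₀, ?_, fun e => hv₀ ?_⟩
          · simp only [Subgroup.coe_mul, Units.val_mul, hzi, Matrix.smul_mul, Matrix.mul_smul, Matrix.one_mul, smul_smul,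
              hi, h, neg_smul, one_smul]
          · have hzc : (⟨z, hz⟩ : R) * a = a * ⟨z, hz⟩ := Subtype.ext (Units.ext (by
              simp [hzi]))
            apply mul_left_cancel (a := (⟨z, hz⟩ : R))
            rw [← mul_assoc, e, ← mul_assoc, ← mul_assoc, hzc]
        · exact ⟨v₀, h, hv₀⟩
      -- multiplication by `v` on the elements not commuting with it
      let φ : R → R := fun x => if x * v = v * x then x else x * v
      have hanti : ∀ x : R, ¬ x * v = v * x → ((x : GL ι F) : Matrix ι ι F) * (v : GL ι F) =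
          -(((v : GL ι F) : Matrix ι ι F) * (x : GL ι F)) := fun x hx => by
        rcases hsign x x.2 v v.2 with h | h
        · exact absurd (Subtype.ext (Units.ext h)) hx
        · exact h
      have hmat : ∀ {x y : R}, ((x : GL ι F) : Matrix ι ι F) = ((y : GL ι F) : Matrix ι ι F) → x = y := fun h =>
        Subtype.ext (Units.ext h)
      have hmul : ∀ x y, φ (x * y) = φ x * φ y := by
        intro x y
        by_cases hx : x * v = v * x <;> by_cases hy : y * v = v * y
        · have : x * y * v = v * (x * y) := by rw [mul_assoc, hy, ← mul_assoc, hx, mul_assoc]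
          simp [φ, hx, hy, this]
        · have : ¬ x * y * v = v * (x * y) := fun e => hy (mul_left_cancel (a := x) (by
            rw [← mul_assoc, e, ← mul_assoc, ← hx, mul_assoc]))
          simp only [φ, if_pos hx, if_neg hy, if_neg this, mul_assoc]
        · have : ¬ x * y * v = v * (x * y) := fun e => hx (mul_right_cancel (b := y) (by
            rw [mul_assoc, ← hy, ← mul_assoc, e, mul_assoc]))
          simp only [φ, if_neg this, if_neg hx, if_pos hy]
          rw [mul_assoc, hy, ← mul_assoc]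
        · have hxy : x * y * v = v * (x * y) := hmat (by
            simp only [Subgroup.coe_mul, Units.val_mul]
            rw [Matrix.mul_assoc, hanti y hy, Matrix.mul_neg, ← Matrix.mul_assoc, hanti x hx, Matrix.neg_mul, neg_neg,
              Matrix.mul_assoc])
          simp only [φ, if_pos hxy, if_neg hx, if_neg hy]
          refine hmat ?_
          simp only [Subgroup.coe_mul, Units.val_mul]
          have e1 : ((v : GL ι F) : Matrix ι ι F) * (((y : GL ι F) : Matrix ι ι F) * ((v : GL ι F) : Matrix ι ι F)) =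
              ((y : GL ι F) : Matrix ι ι F) := by
            rw [hanti y hy, Matrix.mul_neg, ← Matrix.mul_assoc, hvm, Matrix.neg_mul, Matrix.one_mul, neg_neg]
          rw [Matrix.mul_assoc, e1]
      have hφinj : Function.Injective φ := by
        let ψ : R →* R := MonoidHom.mk' φ hmul
        refine (injective_iff_map_eq_one ψ).mpr fun x hx => ?_
        change φ x = 1 at hx
        by_cases h : x * v = v * x
        · simpa [φ, h] using hx
        · simp only [φ, if_neg h] at hx
          exact absurd (by rw [hx, show v * x = 1 from mul_eq_one_comm.mp hx]) h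
      let α : R ≃* R := MulEquiv.ofBijective (MonoidHom.mk' φ hmul) (Finite.injective_iff_bijective.mp hφinj)
      have hαa : α a ∈ A := by
        have := hA.fixed α
        exact Subgroup.mem_comap.mp (this.symm ▸ ha : a ∈ A.comap α.toMonoidHom)
      have hαe : α a = a * v := by
        change φ a = _
        exact if_neg fun e => hva e.symm
      haveI := hAc
      have e := congrArg Subtype.val (mul_comm' (⟨a, ha⟩ : A) ⟨α a, hαa⟩)
      simp only [Subgroup.coe_mul, hαe] at e
      rw [mul_assoc] at e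
      exact hva (mul_left_cancel e).symm
    haveI : IsCyclic (Subgroup.center R) := by
      let j : Subgroup.center R →* F :=
        { toFun := fun c => (((c : R) : GL ι F) : Matrix ι ι F) (Classical.arbitrary ι) (Classical.arbitrary ι)
          map_one' := by simp
          map_mul' := fun c d => by
            obtain ⟨l, hl⟩ := (mem_scalars_iff _).mp (mem_scalars_of_absIrr habs fun w hw =>
              (congrArg Subtype.val (Subgroup.mem_center_iff.mp c.2 ⟨w, hw⟩)).symm)
            simp [hl] }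
      refine isCyclic_of_subgroup_isDomain j fun c d e => Subtype.ext (Subtype.ext (Units.ext ?_))
      obtain ⟨l, hl⟩ := (mem_scalars_iff _).mp (mem_scalars_of_absIrr habs fun w hw =>
        (congrArg Subtype.val (Subgroup.mem_center_iff.mp c.2 ⟨w, hw⟩)).symm)
      obtain ⟨l', hl'⟩ := (mem_scalars_iff _).mp (mem_scalars_of_absIrr habs fun w hw =>
        (congrArg Subtype.val (Subgroup.mem_center_iff.mp d.2 ⟨w, hw⟩)).symm)
      simp only [j, MonoidHom.coe_mk, OneHom.coe_mk, hl, hl', Matrix.smul_apply, Matrix.one_apply_eq, smul_eq_mul,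
        mul_one] at e
      rw [hl, hl', e]
    exact isCyclic_of_injective (Subgroup.inclusion hle) (Subgroup.inclusion_injective hle)
  · have hdvd : Monoid.exponent R ∣ 2 ^ 2 := Monoid.exponent_dvd_of_forall_pow_eq_one fun x => Subtype.ext (by
      simpa using hpow4 x x.2)
    obtain ⟨m, hm, he⟩ := (Nat.dvd_prime_pow Nat.prime_two).mp hdvd
    have hm2 : m = 2 := by
      by_contra hne'
      have h4 : (⟨z, hz⟩ : R) ^ 2 = 1 := orderOf_dvd_iff_pow_eq_one.mp
        ((Monoid.order_dvd_exponent _).trans (he ▸ pow_dvd_pow 2 (show m ≤ 1 by omega)))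
      apply hne
      have h5 : (z : Matrix ι ι F) * z = 1 := by
        rw [← sq, ← Units.val_pow_eq_pow_val]
        exact congrArg (fun w : R => ((w : GL ι F) : Matrix ι ι F)) h4
      rw [hzi, Matrix.smul_mul, Matrix.mul_smul, Matrix.one_mul, smul_smul, hi, neg_smul, one_smul] at h5
      exact h5.symm
    rw [he, hm2]
    rfl
  · have hi4 : ∀ k : Fin 4, (scalarGL ι F (Units.mk0 i hi0)) ^ (k : ℕ) ∈ R := fun k => by
      have : scalarGL ι F (Units.mk0 i hi0) = z := Units.ext (by rw [scalarGL_coe, hzi]; rfl)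
      rw [this]; exact R.pow_mem hz _
    have hmem : ∀ k : Fin 4, (⟨_, hi4 k⟩ : R) ∈ Subgroup.center R := fun k => by
      refine Subgroup.mem_center_iff.mpr fun w => Subtype.ext (Units.ext ?_)
      simp [Units.val_pow_eq_pow_val, scalarGL_coe, smul_pow]
    let e : Fin 4 → Subgroup.center R := fun k => ⟨⟨_, hi4 k⟩, hmem k⟩
    have hbij : Function.Bijective e := by
      obtain ⟨a⟩ := ‹Nonempty ι›
      constructor
      · intro k l hkl
        have hkl' : i ^ (k : ℕ) = i ^ (l : ℕ) := by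
          have := congrArg (fun c : Subgroup.center R => (((c : R) : GL ι F) : Matrix ι ι F) a a) hkl
          simpa [e, Units.val_pow_eq_pow_val, scalarGL_coe, smul_pow] using this
        have key : ∀ k l : Fin 4, (k : ℕ) < l → i ^ (k : ℕ) ≠ i ^ (l : ℕ) := by
          intro k l hlt h
          have h' : i ^ ((l : ℕ) - k) = 1 := mul_left_cancel₀ (pow_ne_zero (k : ℕ) hi0)
            (by rw [← pow_add, Nat.add_sub_cancel' hlt.le, mul_one, h])
          have h1 : (l : ℕ) - k = 1 ∨ (l : ℕ) - k = 2 ∨ (l : ℕ) - k = 3 := by omega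
          rcases h1 with h1 | h1 | h1 <;> rw [h1] at h'
          · rw [pow_one] at h'; rw [h', one_mul] at hi; exact h2 (by linear_combination hi)
          · rw [sq, hi] at h'; exact h2 (by linear_combination -h')
          · have : i = -1 := by linear_combination -h' + i * hi
            rw [this] at hi; exact h2 (by linear_combination hi)
        rcases lt_trichotomy (k : ℕ) l with h | h | h
        · exact absurd hkl' (key k l h)
        · exact Fin.ext h
        · exact absurd hkl'.symm (key l k h)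
      · intro c
        obtain ⟨l, hl⟩ := (mem_scalars_iff _).mp (mem_scalars_of_absIrr habs fun w hw =>
          (congrArg Subtype.val (Subgroup.mem_center_iff.mp c.2 ⟨w, hw⟩)).symm)
        have hcases : (l : F) = i ^ 0 ∨ (l : F) = i ^ 1 ∨ (l : F) = i ^ 2 ∨ (l : F) = i ^ 3 := by
          rcases hsq _ (c : R).2 with h | h <;>
            rw [hl, Matrix.smul_mul, Matrix.one_mul, smul_smul] at h <;>
            have h' := congrFun (congrFun h a) a <;> simp at h'
          · rcases mul_self_eq_one_iff.mp h' with h'' | h''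
            · left; rw [h'', pow_zero]
            · right; right; left; rw [h'', sq, hi]
          · rcases mul_self_eq_mul_self_iff.mp (show (l : F) * l = i * i by rw [hi]; exact h') with h'' | h''
            · right; left; rw [h'', pow_one]
            · right; right; right; rw [h'']; linear_combination -i * hi
        have hval : ∀ k : Fin 4, (l : F) = i ^ (k : ℕ) → e k = c := fun k hk => by
          refine Subtype.ext (Subtype.ext (Units.ext ?_))
          simp [e, Units.val_pow_eq_pow_val, scalarGL_coe, smul_pow, hl, hk]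
        rcases hcases with h | h | h | h
        · exact ⟨0, hval 0 h⟩
        · exact ⟨1, hval 1 h⟩
        · exact ⟨2, hval 2 h⟩
        · exact ⟨3, hval 3 h⟩
    rw [← Nat.card_eq_of_bijective e hbij]
    simp

variable {F : Type*} [Field F] [Fintype F]

/-- Two totally singular planes over four or nine elements give a symplectic subfield group. -/
theorem four_pair_subfield {q : ℕ} {σ : F ≃+* F} (hσ : IsUSigma q σ) (hq : q ≤ 3) {H : Subgroup (GL (Fin 4) F)}
    (hH : IsMaximalIn (suGL 4 F q) H) {D : Fin 2 → Submodule F (Fin 4 → F)} (hD : IsMDecomposition 2 D)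
    (hts : ∀ i, IsTotallySingularFor (hermForm 4 F q) (D i)) (h : H = decompositionStabilizer D ⊓ suGL 4 F q) :
    ∃ (F₀ : Subfield F) (P : GL (Fin 4) F) (ζ : F), Fintype.card F = Nat.card F₀ ^ 2 ∧ ζ ≠ 0 ∧ ζ + ζ ^ q = 0 ∧
      IsFormRationalStructure (hermForm 4 F q) F₀ ζ P ∧
      (∀ u : Fin 4 → F, (∀ i, u i ∈ F₀) →
        hermForm 4 F q ((P : Matrix (Fin 4) (Fin 4) F) *ᵥ u) ((P : Matrix (Fin 4) (Fin 4) F) *ᵥ u) = 0) ∧
      H = subfieldSubgroup F₀ P ⊓ suGL 4 F q := by
  classical
  have hfu := hσ.isUnitaryForm (n := 4)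
  have hf := reflexForm_of_unitary hfu
  set f := hermForm 4 F q with hfdef
  have hσσ : ∀ a, σ (σ a) = a := hσ.involutive
  obtain ⟨c, hc0, hc⟩ := hσ.exists_skew
  have hcs : σ c = -c := eq_neg_of_add_eq_zero_right hc
  have hsr : ∀ (z : Fin 4 → F) {κ : Type} [Fintype κ] (x : κ → Fin 4 → F), f z (∑ i, x i) = ∑ i, f z (x i) := fun z {κ} _ x => by
    rw [hfu.herm, hf.sum_left, map_sum]
    exact Finset.sum_congr rfl fun i _ => (hfu.herm _ _).symm
  -- dual bases
  have hind : Disjoint (D 0) (D 1) := hD.indep.pairwiseDisjoint (show (0 : Fin 2) ≠ 1 by decide)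
  have hsum : ∀ v, ∃ a ∈ D 0, ∃ b ∈ D 1, v = a + b := fun v => by
    have : v ∈ D 0 ⊔ D 1 := by
      have e : D 0 ⊔ D 1 = iSup D := le_antisymm (sup_le (le_iSup D 0) (le_iSup D 1))
        (iSup_le fun i => by fin_cases i <;> simp)
      rw [e, hD.iSup_eq_top]; trivial
    obtain ⟨a, ha, b, hb, e⟩ := Submodule.mem_sup.mp this
    exact ⟨a, ha, b, hb, e.symm⟩
  let bu := Module.finBasisOfFinrankEq F (D 0) (hD.finrank_eq 0)
  let u : Fin 2 → Fin 4 → F := fun i => (bu i : Fin 4 → F)
  let L : D 1 →ₗ[F] (Fin 2 → F) :=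
    { toFun := fun w i => f w (u i)
      map_add' := fun a b => funext fun i => hf.semi.add_left _ _ _
      map_smul' := fun s a => funext fun i => hf.semi.smul_left _ _ _ }
  have hL : Function.Bijective L := by
    have hinj : Function.Injective L := by
      rw [← LinearMap.ker_eq_bot, LinearMap.ker_eq_bot']
      intro w hw
      by_contra hw0
      obtain ⟨x, hx⟩ := (hf.nondeg (w : Fin 4 → F) fun e => hw0 (Subtype.ext e)).1
      apply hx
      obtain ⟨a, ha, b, hb, rfl⟩ := hsum x
      have h0 : f w a = 0 := by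
        have e : (∑ i, bu.repr ⟨a, ha⟩ i • u i) = a := by
          simpa only [AddSubmonoidClass.coe_finsetSum, SetLike.val_smul] using congrArg Subtype.val (bu.sum_repr ⟨a, ha⟩)
        rw [← congrArg (f (w : Fin 4 → F)) e, hsr]
        exact Finset.sum_eq_zero fun i _ => by rw [hf.semi.smul_right, show f (w : Fin 4 → F) (u i) = 0 from congrFun hw i, mul_zero]
      rw [hf.semi.add_left, hts 1 b hb _ w.2, add_zero, hfu.herm, h0, map_zero]
    exact ⟨hinj, (LinearMap.injective_iff_surjective_of_finrank_eq_finrank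
      (by rw [hD.finrank_eq, Module.finrank_fin_fun])).mp hinj⟩
  choose w hw using fun j : Fin 2 => hL.2 (Pi.single j 1)
  have hwu : ∀ j i, f (w j : Fin 4 → F) (u i) = (Pi.single j (1 : F) : Fin 2 → F) i := fun j i => congrFun (hw j) i
  have huw : ∀ i j, f (u i) (w j : Fin 4 → F) = (Pi.single j (1 : F) : Fin 2 → F) i := fun i j => by
    rw [hfu.herm, hwu]; rcases eq_or_ne i j with rfl | hij <;> simp [*]
  obtain ⟨b, hb⟩ : ∃ b : Fin 4 → Fin 4 → F, b = ![u 0, u 1, (w 0 : Fin 4 → F), (w 1 : Fin 4 → F)] := ⟨_, rfl⟩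
  have huD : ∀ i, u i ∈ D 0 := fun i => (bu i).2
  obtain ⟨K, hK⟩ : ∃ K : Matrix (Fin 4) (Fin 4) F, K = !![0, 0, 1, 0; 0, 0, 0, 1; 1, 0, 0, 0; 0, 1, 0, 0] := ⟨_, rfl⟩
  have hgram : ∀ i j, f (b i) (b j) = K i j := fun i j => by
    rw [hb, hK]
    fin_cases i <;> fin_cases j <;>
      simp [hwu, huw, hts 0 _ (huD _) _ (huD _), hts 1 _ (w _).2 _ (w _).2]
  obtain ⟨B, hB⟩ : ∃ B : Matrix (Fin 4) (Fin 4) F, ∀ k i, B k i = b i k := ⟨fun k i => b i k, fun _ _ => rfl⟩
  have hBsum : ∀ v, B *ᵥ v = ∑ j, v j • b j := fun v => funext fun k => by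
    simp [Matrix.mulVec, dotProduct, hB, mul_comm, Finset.sum_apply]
  have hform : ∀ x y, f (B *ᵥ x) (B *ᵥ y) = x ⬝ᵥ (K *ᵥ ((σ : F → F) ∘ y)) := fun x y => by
    rw [hBsum, hBsum, hf.sum_left]
    simp only [hf.semi.smul_left, hsr, hf.semi.smul_right, hgram, dotProduct, Matrix.mulVec, Function.comp_apply]
    exact Finset.sum_congr rfl fun i _ => congrArg _ (Finset.sum_congr rfl fun j _ => mul_comm _ _)
  have hBdet : B.det ≠ 0 := fun h0 => by
    obtain ⟨v, hv0, hv⟩ := Matrix.exists_mulVec_eq_zero_iff.mpr h0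
    apply hv0
    have e : ∀ y, v ⬝ᵥ (K *ᵥ ((σ : F → F) ∘ y)) = 0 := fun y => by rw [← hform, hv, hf.zero_left]
    funext i
    fin_cases i
    · simpa [hK, dotProduct, Fin.sum_univ_four, Matrix.mulVec] using e (Pi.single 2 1)
    · simpa [hK, dotProduct, Fin.sum_univ_four, Matrix.mulVec] using e (Pi.single 3 1)
    · simpa [hK, dotProduct, Fin.sum_univ_four, Matrix.mulVec] using e (Pi.single 0 1)
    · simpa [hK, dotProduct, Fin.sum_univ_four, Matrix.mulVec] using e (Pi.single 1 1)
  let Bg : GL (Fin 4) F := Matrix.GeneralLinearGroup.mkOfDetNeZero B hBdet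
  -- the real structure
  obtain ⟨μ, hμ⟩ : ∃ μ, σ μ ≠ μ := by
    by_contra h'
    push Not at h'
    exact hσ.ne_refl (RingEquiv.ext h')
  obtain ⟨E, hE⟩ : ∃ E : Matrix (Fin 4) (Fin 4) F,
      E = !![1, μ, 0, 0; 0, 0, 1, μ; 0, 0, 1, σ μ; -1, -σ μ, 0, 0] := ⟨_, rfl⟩
  obtain ⟨J, hJ⟩ : ∃ J : Matrix (Fin 4) (Fin 4) F, J = !![0, 0, 0, -1; 0, 0, 1, 0; 0, 1, 0, 0; -1, 0, 0, 0] := ⟨_, rfl⟩
  have hEσ : E.map σ = J * E := by
    rw [hE, hJ]
    ext i j
    fin_cases i <;> fin_cases j <;> simp [Matrix.mul_apply, Fin.sum_univ_four, hσσ]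
  have hEdet : E.det ≠ 0 := fun h0 => by
    obtain ⟨v, hv0, hv⟩ := Matrix.exists_mulVec_eq_zero_iff.mpr h0
    apply hv0
    have e0 := congrFun hv 0
    have e1 := congrFun hv 1
    have e2 := congrFun hv 2
    have e3 := congrFun hv 3
    simp [hE, Matrix.mulVec, dotProduct, Fin.sum_univ_four] at e0 e1 e2 e3
    have hne : μ - σ μ ≠ 0 := sub_ne_zero.mpr hμ.symm
    have h1 : v 1 = 0 := (mul_eq_zero.mp (show (μ - σ μ) * v 1 = 0 by linear_combination e0 + e3)).resolve_left hne
    have h3 : v 3 = 0 := (mul_eq_zero.mp (show (μ - σ μ) * v 3 = 0 by linear_combination e1 - e2)).resolve_left hne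
    funext i
    fin_cases i
    · simpa [h1] using e0
    · exact h1
    · simpa [h3] using e1
    · exact h3
  let Eg : GL (Fin 4) F := Matrix.GeneralLinearGroup.mkOfDetNeZero E hEdet
  refine ⟨fixedField σ, Bg * Eg, c, hσ.card_fixed_sq, hc0, by rw [← hσ.apply_eq]; exact hc, fun x y hx hy => ?_, fun x hx => ?_,
    eq_inf_of_maximal' hH (fun g hg => ?_) (hσ.not_su_le_subfield_three (by norm_num) Nat.prime_two hσ.card_fixed_sq _)⟩
  · rw [Units.val_mul, ← Matrix.mulVec_mulVec, ← Matrix.mulVec_mulVec]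
    change c * f (B *ᵥ (E *ᵥ x)) (B *ᵥ (E *ᵥ y)) ∈ _
    rw [hform, mem_fixedField, hE, hK]
    have hx' : ∀ i, σ (x i) = x i := hx
    have hy' : ∀ i, σ (y i) = y i := hy
    simp [Matrix.mulVec, dotProduct, Fin.sum_univ_four, hx', hy', hσσ, hcs]
    ring
  · rw [Units.val_mul, ← Matrix.mulVec_mulVec]
    change f (B *ᵥ (E *ᵥ x)) (B *ᵥ (E *ᵥ x)) = 0
    rw [hform, hE, hK]
    have hx' : ∀ i, σ (x i) = x i := hx
    simp [Matrix.mulVec, dotProduct, Fin.sum_univ_four, hx', hσσ]
    ring
  · have hg' : g ∈ decompositionStabilizer D ⊓ suGL 4 F q := h ▸ hg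
    obtain ⟨π, hπ⟩ := hg'.1
    obtain ⟨G, hG⟩ : ∃ G, G = ((Bg⁻¹ * g * Bg : GL (Fin 4) F) : Matrix (Fin 4) (Fin 4) F) := ⟨_, rfl⟩
    have hBG : B * G = (g : Matrix (Fin 4) (Fin 4) F) * B := by
      rw [hG, show B = (Bg : Matrix (Fin 4) (Fin 4) F) from rfl, ← Units.val_mul, ← Units.val_mul]
      congr 1; group
    have hgU := mem_GU_iff.mp hg'.2.1
    have hiso : Gᵀ * K * G.map σ = K := by
      ext i j
      have e := hgU (B *ᵥ Pi.single i 1) (B *ᵥ Pi.single j 1)
      rw [← hfdef, Matrix.mulVec_mulVec, Matrix.mulVec_mulVec, ← hBG, ← Matrix.mulVec_mulVec, ← Matrix.mulVec_mulVec,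
        hform, hform] at e
      have e1 : (σ : F → F) ∘ (G *ᵥ Pi.single j 1) = G.map σ *ᵥ Pi.single j 1 := by
        funext r; simp [Matrix.mulVec_single_one]
      have e2 : (σ : F → F) ∘ (Pi.single j (1 : F)) = Pi.single j 1 := by
        funext r; rcases eq_or_ne r j with rfl | hr <;> simp [*]
      rw [e1, e2, Matrix.mulVec_mulVec, ← Matrix.transpose_transpose G, ← Matrix.vecMul_transpose,
        ← Matrix.dotProduct_mulVec, Matrix.mulVec_mulVec, Matrix.transpose_transpose, ← Matrix.mul_assoc] at e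
      simpa [Matrix.mulVec_single_one] using e
    -- the zero pattern
    have hco : ∀ v, B *ᵥ v ∈ D 0 → v 2 = 0 ∧ v 3 = 0 := fun v hv => by
      have h0 := hts 0 _ hv _ (huD 0)
      have h1 := hts 0 _ hv _ (huD 1)
      rw [show u 0 = B *ᵥ Pi.single 0 1 by funext k; simp [Matrix.mulVec_single_one, hB, hb], hform] at h0
      rw [show u 1 = B *ᵥ Pi.single 1 1 by funext k; simp [Matrix.mulVec_single_one, hB, hb], hform] at h1
      simp [hK, Matrix.mulVec, dotProduct, Fin.sum_univ_four] at h0 h1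
      exact ⟨h0, h1⟩
    have hco' : ∀ v, B *ᵥ v ∈ D 1 → v 0 = 0 ∧ v 1 = 0 := fun v hv => by
      have h0 := hts 1 _ hv _ (w 0).2
      have h1 := hts 1 _ hv _ (w 1).2
      rw [show (w 0 : Fin 4 → F) = B *ᵥ Pi.single 2 1 by funext k; simp [Matrix.mulVec_single_one, hB, hb], hform] at h0
      rw [show (w 1 : Fin 4 → F) = B *ᵥ Pi.single 3 1 by funext k; simp [Matrix.mulVec_single_one, hB, hb], hform] at h1
      simp [hK, Matrix.mulVec, dotProduct, Fin.sum_univ_four] at h0 h1
      exact ⟨h0, h1⟩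
    have hcolD : ∀ j : Fin 4, b j ∈ D (if j.val < 2 then 0 else 1) := fun j => by
      rw [hb]; fin_cases j <;> simp [huD, (w _).2]
    have hmove : ∀ j : Fin 4, B *ᵥ (fun i => G i j) ∈ D (π (if j.val < 2 then 0 else 1)) := fun j => by
      rw [← hπ]
      refine ⟨b j, hcolD j, ?_⟩
      rw [Matrix.toLin'_apply, show (fun i => G i j) = G *ᵥ Pi.single j 1 by funext i; simp [Matrix.mulVec_single_one],
        Matrix.mulVec_mulVec, hBG, ← Matrix.mulVec_mulVec]
      congr 1
      funext k; simp [Matrix.mulVec_single_one, hB]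
    have hdetG : G.det = 1 := by
      rw [hG, Units.val_mul, Units.val_mul, Matrix.det_mul_comm, ← Matrix.mul_assoc, Units.mul_inv, Matrix.one_mul]
      exact det_gl_of_mem_specialLinear hg'.2.2
    have hδ : ∃ δ : F, (δ = 1 ∨ δ = -1) ∧ Gᵀ * (K * J) * G = δ • (K * J) := by
      have hiso' := fun i j => congrFun (congrFun hiso i) j
      have hpm : ∀ d d' : F, d * d' = 1 → d * σ d' = 1 → (d = 1 ∨ d = -1) ∧ d' = d := fun d d' e e' => by
        have hd0 : d ≠ 0 := left_ne_zero_of_mul_eq_one e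
        have hd' : σ d' = d' := mul_left_cancel₀ hd0 (e'.trans e.symm)
        have hd'' : d' * d' = 1 := by
          have h2q := hσ.two_le
          have hd'0 : d' ≠ 0 := right_ne_zero_of_mul_eq_one e
          have hpow : d' ^ q = d' := by rw [← hσ.apply_eq, hd']
          obtain rfl | rfl : q = 2 ∨ q = 3 := by omega
          · rw [mul_left_cancel₀ hd'0 (show d' * d' = d' * 1 by rw [mul_one, ← sq, hpow]), mul_one]
          · exact mul_left_cancel₀ hd'0 (show d' * (d' * d') = d' * 1 by rw [mul_one]; linear_combination hpow)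
        have hdd : d' = d := by linear_combination d * hd'' - d' * e
        exact ⟨mul_self_eq_one_iff.mp (hdd ▸ hd''), hdd⟩
      by_cases hp : π 0 = 0
      · have hp1 : π 1 = 1 := by
          rcases Fin.exists_fin_two.mp ⟨π 1, rfl⟩ with h' | h'
          · exact absurd (π.injective (hp.trans h'.symm)) (by decide)
          · exact h'
        obtain ⟨a20, a30⟩ := hco _ (by simpa [hp] using hmove 0)
        obtain ⟨a21, a31⟩ := hco _ (by simpa [hp] using hmove 1)
        obtain ⟨a02, a12⟩ := hco' _ (by simpa [hp1] using hmove 2)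
        obtain ⟨a03, a13⟩ := hco' _ (by simpa [hp1] using hmove 3)
        have e02 := hiso' 0 2
        have e03 := hiso' 0 3
        have e12 := hiso' 1 2
        have e13 := hiso' 1 3
        simp [hK, Matrix.mul_apply, Fin.sum_univ_four, a20, a30, a21, a31, a02, a12, a03, a13] at e02 e03 e12 e13
        obtain ⟨hd, hdd⟩ := hpm (G 0 0 * G 1 1 - G 0 1 * G 1 0) (G 2 2 * G 3 3 - G 2 3 * G 3 2)
          (by
            rw [← hdetG, Matrix.det_succ_row_zero]
            simp [Fin.sum_univ_succ, Matrix.det_fin_three, Fin.succAbove, a20, a30, a21, a31, a02, a12, a03, a13]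
            ring)
          (by
            rw [map_sub, map_mul, map_mul]
            linear_combination (G 1 1 * σ (G 3 3) + G 0 1 * σ (G 2 3)) * e02 - (G 1 1 * σ (G 3 2) + G 0 1 * σ (G 2 2)) * e03 + e13)
        refine ⟨_, hd, ?_⟩
        ext i j
        fin_cases i <;> fin_cases j <;>
          simp [hK, hJ, Matrix.mul_apply, Fin.sum_univ_four, a20, a30, a21, a31, a02, a12, a03, a13] <;>
          first | ring1 | linear_combination hdd | linear_combination -hdd
      · have hp0 : π 0 = 1 := by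
          rcases Fin.exists_fin_two.mp ⟨π 0, rfl⟩ with h' | h'
          · exact absurd h' hp
          · exact h'
        have hp1 : π 1 = 0 := by
          rcases Fin.exists_fin_two.mp ⟨π 1, rfl⟩ with h' | h'
          · exact h'
          · exact absurd (π.injective (hp0.trans h'.symm)) (by decide)
        obtain ⟨a00, a10⟩ := hco' _ (by simpa [hp0] using hmove 0)
        obtain ⟨a01, a11⟩ := hco' _ (by simpa [hp0] using hmove 1)
        obtain ⟨a22, a32⟩ := hco _ (by simpa [hp1] using hmove 2)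
        obtain ⟨a23, a33⟩ := hco _ (by simpa [hp1] using hmove 3)
        have e02 := hiso' 0 2
        have e03 := hiso' 0 3
        have e12 := hiso' 1 2
        have e13 := hiso' 1 3
        simp [hK, Matrix.mul_apply, Fin.sum_univ_four, a00, a10, a01, a11, a22, a32, a23, a33] at e02 e03 e12 e13
        obtain ⟨hd, hdd⟩ := hpm (G 2 0 * G 3 1 - G 2 1 * G 3 0) (G 0 2 * G 1 3 - G 0 3 * G 1 2)
          (by
            rw [← hdetG, Matrix.det_succ_row_zero]
            simp [Fin.sum_univ_succ, Matrix.det_fin_three, Fin.succAbove, a00, a10, a01, a11, a22, a32, a23, a33]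
            ring)
          (by
            rw [map_sub, map_mul, map_mul]
            linear_combination (G 3 1 * σ (G 1 3) + G 2 1 * σ (G 0 3)) * e02 - (G 3 1 * σ (G 1 2) + G 2 1 * σ (G 0 2)) * e03 + e13)
        refine ⟨-(G 2 0 * G 3 1 - G 2 1 * G 3 0), by rcases hd with e | e <;> rw [e] <;> simp, ?_⟩
        ext i j
        fin_cases i <;> fin_cases j <;>
          simp [hK, hJ, Matrix.mul_apply, Fin.sum_univ_four, a00, a10, a01, a11, a22, a32, a23, a33] <;>
          first | ring1 | linear_combination hdd | linear_combination -hdd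
    obtain ⟨δ, hδ1, hGJ⟩ := hδ
    have hKK : K * K = 1 := by
      rw [hK]; ext i j; fin_cases i <;> fin_cases j <;> simp [Matrix.mul_apply, Fin.sum_univ_four]
    have hGu : IsUnit Gᵀ := (Matrix.isUnit_iff_isUnit_det _).mpr (by rw [Matrix.det_transpose, hdetG]; exact isUnit_one)
    have hKu : IsUnit K := IsUnit.of_mul_eq_one _ hKK
    have hJG : J * G = δ • (G.map σ * J) := by
      refine (hGu.mul hKu).mul_left_cancel ?_
      calc Gᵀ * K * (J * G) = Gᵀ * (K * J) * G := by simp only [Matrix.mul_assoc]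
        _ = δ • (K * J) := hGJ
        _ = Gᵀ * K * (δ • (G.map σ * J)) := by
          rw [Matrix.mul_smul, ← Matrix.mul_assoc, hiso]
    obtain ⟨X, hX⟩ : ∃ X, X = (((Bg * Eg)⁻¹ * g * (Bg * Eg) : GL (Fin 4) F) : Matrix (Fin 4) (Fin 4) F) := ⟨_, rfl⟩
    have hEX : E * X = G * E := by
      rw [hX, hG, show E = (Eg : Matrix (Fin 4) (Fin 4) F) from rfl, ← Units.val_mul, ← Units.val_mul]
      congr 1; group
    have hXσ : X = δ • X.map σ := by
      have e1 : J * (E * (δ • X.map σ)) = J * (E * X) := by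
        calc J * (E * (δ • X.map σ)) = δ • (E.map σ * X.map σ) := by
              rw [hEσ, Matrix.mul_smul, Matrix.mul_smul, Matrix.mul_assoc]
          _ = δ • (G.map σ * (J * E)) := by rw [← Matrix.map_mul, hEX, Matrix.map_mul, hEσ]
          _ = (δ • (G.map σ * J)) * E := by rw [Matrix.smul_mul, Matrix.mul_assoc]
          _ = J * (E * X) := by rw [← hJG, Matrix.mul_assoc, hEX]
      have hJu : IsUnit J := IsUnit.of_mul_eq_one J (by
        rw [hJ]; ext i j; fin_cases i <;> fin_cases j <;> simp [Matrix.mul_apply, Fin.sum_univ_four])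
      exact ((Eg.isUnit).mul_left_cancel (hJu.mul_left_cancel e1)).symm
    obtain ⟨ν, hν0, hν⟩ : ∃ ν : F, ν ≠ 0 ∧ σ ν = δ * ν := by
      rcases hδ1 with rfl | rfl
      · exact ⟨1, one_ne_zero, by simp⟩
      · exact ⟨c, hc0, by rw [hcs, neg_one_mul]⟩
    refine mem_subfieldSubgroup_of_scaled hν0 fun i j => ?_
    rw [← hX, mem_fixedField, map_mul, hν]
    conv_rhs => rw [hXσ, Matrix.smul_apply, Matrix.map_apply, smul_eq_mul]
    ring

/-- Addition of indices. -/
theorem four_shift_facts : (∀ a b, fourAdd a b = fourAdd b a) ∧ (∀ a b c, fourAdd (fourAdd a b) c = fourAdd a (fourAdd b c)) ∧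
    (∀ a, fourAdd a 0 = a) ∧ (∀ a, fourAdd a a = 0) ∧
    ∀ (π : Equiv.Perm (Fin 4)) (v : Fin 4), ∃ w, ∀ j, π (fourAdd j v) = fourAdd (π j) w := by
  refine ⟨by decide, by decide, by decide, by decide, by decide +kernel⟩

/-- The shift as a permutation. -/
def shiftPermFinFour (v : Fin 4) : Equiv.Perm (Fin 4) :=
  ⟨fun j => fourAdd j v, fun j => fourAdd j v, fun j => by revert j v; decide, fun j => by revert j v; decide⟩

/-- The monomial matrix with entries `a` and shift `v`. -/
def shiftMat (v : Fin 4) (a : Fin 4 → F) : Matrix (Fin 4) (Fin 4) F :=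
  Matrix.of fun i j => if i = fourAdd j v then a j else 0

/-- Fourth roots of unity with equal squares and product one. -/
def EvenRoots (a : Fin 4 → F) : Prop := (∀ j, a j ^ 4 = 1) ∧ (∀ j, a j * a j = a 0 * a 0) ∧ ∏ j, a j = 1

theorem evenRoots_pair {a : Fin 4 → F} (ha : EvenRoots a) (v : Fin 4) :
    ∃ s : F, (s = 1 ∨ s = -1) ∧ ∀ j, a j * a (fourAdd j v) = s := by
  obtain ⟨h4, hs, hp⟩ := ha
  rw [Fin.prod_univ_four] at hp
  have hss : (a 0 * a 0) * (a 0 * a 0) = 1 := by linear_combination h4 0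
  have hsq : ∀ x y : Fin 4, (a x * a y) * (a x * a y) = 1 := fun x y => by
    rw [mul_mul_mul_comm, hs x, hs y]; exact hss
  have hpm := fun x y => mul_self_eq_one_iff.mp (hsq x y)
  fin_cases v
  · refine ⟨a 0 * a 0, hpm 0 0, fun j => ?_⟩
    have : fourAdd j 0 = j := (four_shift_facts.2.2.1 j)
    simp only [Fin.zero_eta, this]; exact hs j
  · refine ⟨a 0 * a 1, hpm 0 1, fun j => ?_⟩
    fin_cases j <;> simp [fourAdd] <;>
      first
        | ring1
        | linear_combination (a 0 * a 1) * hp - (a 2 * a 3) * hsq 0 1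
  · refine ⟨a 0 * a 2, hpm 0 2, fun j => ?_⟩
    fin_cases j <;> simp [fourAdd] <;>
      first
        | ring1
        | linear_combination (a 0 * a 2) * hp - (a 1 * a 3) * hsq 0 2
  · refine ⟨a 0 * a 3, hpm 0 3, fun j => ?_⟩
    fin_cases j <;> simp [fourAdd] <;>
      first
        | ring1
        | linear_combination (a 0 * a 3) * hp - (a 1 * a 2) * hsq 0 3

/-- A frame over nine elements: its stabiliser normalises a group of symplectic type. -/
theorem four_frame_normalizer {σ : F ≃+* F} (hσ : IsUSigma 3 σ) {H : Subgroup (GL (Fin 4) F)}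
    (hH : IsMaximalIn (suGL 4 F 3) H) {D : Fin 4 → Submodule F (Fin 4 → F)}
    (hD : IsNondegenerateMDecomposition (hermForm 4 F 3) 1 D) (h : H = decompositionStabilizer D ⊓ suGL 4 F 3) :
    ∃ R : Subgroup (GL (Fin 4) F), IsSymplecticTypeGroup 2 R ∧ ActsAbsolutelyIrreducibly (matrixSet R) ∧
      R ≤ similarityGroup (hermForm 4 F 3) ∧ Nat.card R = 64 ∧ Nat.card (Subgroup.center R) = 4 ∧
      H = subgroupNormalizer R ⊓ suGL 4 F 3 := by
  classical
  haveI : Nonempty (Fin 4) := ⟨0⟩
  have hfu := hσ.isUnitaryForm (n := 4)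
  have hf := reflexForm_of_unitary hfu
  set f := hermForm 4 F 3 with hfdef
  have h2 : (2 : F) ≠ 0 := hσ.odd_iff.mp (by decide)
  have h8 : ∀ x : F, x ≠ 0 → x ^ 8 = 1 := fun x hx => by
    have := FiniteField.pow_card_sub_one_eq_one x hx
    rwa [hσ.card] at this
  obtain ⟨c, hc0, hcskew⟩ := hσ.exists_skew
  obtain ⟨ζ, hζ, -, hζ2, -⟩ := hσ.exists_norm_one
  have hζ4 : ζ ^ 4 = 1 := by rw [hσ.apply_eq] at hζ; rw [pow_succ']; exact hζ
  have hi : ζ * ζ = -1 := by
    rcases mul_self_eq_one_iff.mp (show (ζ * ζ) * (ζ * ζ) = 1 by linear_combination hζ4) with e | e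
    · exact absurd (by rw [sq]; exact e) hζ2
    · exact e
  obtain ⟨hac, hassoc, hzero, hself, haff⟩ := four_shift_facts
  have hsr : ∀ (z : Fin 4 → F) {κ : Type} [Fintype κ] (x : κ → Fin 4 → F), f z (∑ i, x i) = ∑ i, f z (x i) := fun z {κ} _ x => by
    rw [hfu.herm, hf.sum_left, map_sum]
    exact Finset.sum_congr rfl fun i _ => (hfu.herm _ _).symm
  -- an orthonormal basis
  have hb : ∀ i, ∃ b ∈ D i, f b b = 1 ∧ ∀ v ∈ D i, ∃ a : F, v = a • b := fun i => by
    obtain ⟨v, hv, hv0⟩ := Submodule.exists_mem_ne_zero_of_ne_bot (p := D i) fun e => by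
      have := hD.decomp.finrank_eq i
      rw [e, finrank_bot] at this
      exact zero_ne_one this
    have hall : ∀ z ∈ D i, ∃ a : F, z = a • v := fun z hz => by
      obtain ⟨a, ha⟩ := exists_smul_eq_of_finrank_eq_one (hD.decomp.finrank_eq i) (x := (⟨v, hv⟩ : D i))
        (fun e => hv0 (congrArg Subtype.val e)) ⟨z, hz⟩
      exact ⟨a, (congrArg Subtype.val ha).symm⟩
    have hvv : f v v ≠ 0 := fun e => by
      obtain ⟨⟨z, hz, hne⟩, -⟩ := hD.nondegenerate i v hv hv0
      obtain ⟨a, rfl⟩ := hall z hz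
      exact hne (by rw [hf.semi.smul_left, e, mul_zero])
    obtain ⟨s, hs0, hs⟩ := hσ.norm_surjective hvv (hfu.herm v v).symm
    refine ⟨s⁻¹ • v, (D i).smul_mem _ hv, ?_, fun z hz => ?_⟩
    · rw [hf.semi.smul_left, hf.semi.smul_right, map_inv₀, ← hs]
      field_simp [(map_ne_zero σ).mpr hs0]
    · obtain ⟨a, rfl⟩ := hall z hz
      exact ⟨a * s, by rw [smul_smul, mul_assoc, mul_inv_cancel₀ hs0, mul_one]⟩
  choose b hbD hbb hbspan using hb
  have hgram : ∀ i j, f (b i) (b j) = if i = j then 1 else 0 := fun i j => by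
    split_ifs with hij
    · rw [hij, hbb]
    · exact hD.orthogonal i j hij _ (hbD i) _ (hbD j)
  obtain ⟨B, hB⟩ : ∃ B : Matrix (Fin 4) (Fin 4) F, ∀ k i, B k i = b i k := ⟨fun k i => b i k, fun _ _ => rfl⟩
  have hBcol : ∀ i, B *ᵥ Pi.single i 1 = b i := fun i => funext fun k => by
    rw [Matrix.mulVec_single_one]; exact hB k i
  have hBsum : ∀ v, B *ᵥ v = ∑ j, v j • b j := fun v => funext fun k => by
    simp [Matrix.mulVec, dotProduct, hB, mul_comm, Finset.sum_apply]
  have hBform : ∀ x y, f (B *ᵥ x) (B *ᵥ y) = f x y := fun x y => by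
    rw [hBsum, hBsum, hf.sum_left, hfdef, hσ.hermForm_eq x y]
    refine Finset.sum_congr rfl fun i _ => ?_
    rw [← hfdef, hf.semi.smul_left, hsr]
    simp only [hf.semi.smul_right, hgram, mul_ite, mul_one, mul_zero, Finset.sum_ite_eq, Finset.mem_univ, if_true]
  have hBdet : B.det ≠ 0 := fun h0 => by
    obtain ⟨v, hv0, hv⟩ := Matrix.exists_mulVec_eq_zero_iff.mpr h0
    obtain ⟨u, hu⟩ := (hfu.nondegenerate v hv0).1
    exact hu (by rw [← hBform, hv, hf.zero_right])
  let Bg : GL (Fin 4) F := Matrix.GeneralLinearGroup.mkOfDetNeZero B hBdet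
  have hBgU : Bg ∈ GU 4 F 3 := mem_GU_iff.mpr hBform
  -- the model group
  have hmulS : ∀ (v w : Fin 4) (a a' : Fin 4 → F), shiftMat v a * shiftMat w a' = shiftMat (fourAdd v w) fun j => a (fourAdd j w) * a' j := by
    intro v w a a'
    ext i j
    rw [Matrix.mul_apply, Finset.sum_eq_single (fourAdd j w) (fun k _ hk => by simp [shiftMat, hk]) (by simp)]
    simp only [shiftMat, Matrix.of_apply, if_true]
    rw [hassoc, hac w v]
    split_ifs <;> simp
  have honeS : shiftMat 0 (fun _ => (1 : F)) = 1 := by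
    ext i j; simp [shiftMat, hzero, Matrix.one_apply]
  have hEmul : ∀ {a a' : Fin 4 → F} (w : Fin 4), EvenRoots a → EvenRoots a' → EvenRoots fun j => a (fourAdd j w) * a' j := by
    intro a a' w ha ha'
    refine ⟨fun j => by rw [mul_pow, ha.1, ha'.1, one_mul], fun j => ?_, ?_⟩
    · linear_combination (a' j * a' j) * ha.2.1 (fourAdd j w) - (a' 0 * a' 0) * ha.2.1 (fourAdd 0 w) +
        (a 0 * a 0) * ha'.2.1 j
    · let e : Equiv.Perm (Fin 4) := shiftPermFinFour w
      rw [Finset.prod_mul_distrib, show ∏ j, a (fourAdd j w) = ∏ j, a j from Equiv.prod_comp e a, ha.2.2, ha'.2.2, one_mul]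
  let S : Submonoid (GL (Fin 4) F) :=
    { carrier := {g | ∃ v a, EvenRoots a ∧ (g : Matrix (Fin 4) (Fin 4) F) = shiftMat v a}
      one_mem' := ⟨0, fun _ => 1, ⟨fun _ => by simp, fun _ => rfl, by simp⟩, by rw [honeS, Units.val_one]⟩
      mul_mem' := fun {g g'} ⟨v, a, ha, hg⟩ ⟨w, a', ha', hg'⟩ =>
        ⟨_, _, hEmul w ha ha', by rw [Units.val_mul, hg, hg', hmulS]⟩ }
  let R₀ : Subgroup (GL (Fin 4) F) :=
    { S with
      inv_mem' := fun {g} hg => by
        have : g⁻¹ = g ^ (orderOf g - 1) := inv_eq_of_mul_eq_one_left (by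
          rw [← pow_succ, Nat.sub_add_cancel (orderOf_pos g), pow_orderOf_eq_one])
        rw [this]
        exact S.pow_mem hg _ }
  have hmemR : ∀ {g : GL (Fin 4) F}, g ∈ R₀ ↔ ∃ v a, EvenRoots a ∧ (g : Matrix (Fin 4) (Fin 4) F) = shiftMat v a :=
    Iff.rfl
  let R := R₀.map (MulAut.conj Bg).toMonoidHom
  have hlift : ∀ v a, EvenRoots a → ∃ g ∈ R₀, (g : Matrix (Fin 4) (Fin 4) F) = shiftMat v a := fun v a ha => by
    have hinv : shiftMat v a * shiftMat v (fun j => (a (fourAdd j v))⁻¹) = 1 := by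
      rw [hmulS, hself, ← honeS]
      congr 1
      funext j
      exact mul_inv_cancel₀ fun e => by
        have := ha.1 (fourAdd j v); rw [e] at this; simp at this
    exact ⟨⟨_, _, hinv, mul_eq_one_comm.mp hinv⟩, ⟨v, a, ha, rfl⟩, rfl⟩
  have hU₀ : ∀ g ∈ R₀, g ∈ GU 4 F 3 := fun g hgR => mem_GU_iff.mpr fun x y => by
    obtain ⟨v, a, ha, hg⟩ := hgR
    let e : Equiv.Perm (Fin 4) := shiftPermFinFour v
    have hmv : ∀ x : Fin 4 → F, ∀ j, (shiftMat v a *ᵥ x) (e j) = a j * x j := fun x j => by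
      rw [Matrix.mulVec, dotProduct, Finset.sum_eq_single j (fun k _ hk => by
        simp [shiftMat, show e j ≠ fourAdd k v from fun h => hk (e.injective h).symm]) (by simp)]
      simp [shiftMat, show e j = fourAdd j v from rfl]
    rw [hg, hσ.hermForm_eq, hσ.hermForm_eq, ← Equiv.sum_comp e]
    refine Finset.sum_congr rfl fun j _ => ?_
    rw [hmv, hmv, map_mul, hσ.apply_eq (a j)]
    linear_combination x j * σ (y j) * ha.1 j
  have hsq₀ : ∀ x ∈ R₀, (x : Matrix (Fin 4) (Fin 4) F) * x = 1 ∨ (x : Matrix (Fin 4) (Fin 4) F) * x = -1 := by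
    rintro x ⟨v, a, ha, hx⟩
    obtain ⟨s, hs1, hs⟩ := evenRoots_pair ha v
    have : (x : Matrix (Fin 4) (Fin 4) F) * x = s • 1 := by
      rw [hx, hmulS, hself]
      ext i j
      simp [shiftMat, hzero, Matrix.one_apply, mul_comm (a (fourAdd j v)), hs]
    rcases hs1 with rfl | rfl
    · left; rw [this, one_smul]
    · right; rw [this, neg_one_smul]
  have hsign₀ : ∀ x ∈ R₀, ∀ y ∈ R₀, (x : Matrix (Fin 4) (Fin 4) F) * y = (y : Matrix (Fin 4) (Fin 4) F) * x ∨
      (x : Matrix (Fin 4) (Fin 4) F) * y = -((y : Matrix (Fin 4) (Fin 4) F) * x) := by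
    rintro x ⟨v, a, ha, hx⟩ y ⟨w, a', ha', hy⟩
    obtain ⟨s, hs1, hs⟩ := evenRoots_pair ha w
    obtain ⟨s', hs1', hs'⟩ := evenRoots_pair ha' v
    obtain ⟨ε, hε1, hε⟩ : ∃ ε : F, (ε = 1 ∨ ε = -1) ∧ ∀ j, a (fourAdd j w) * a' j = ε * (a' (fourAdd j v) * a j) := by
      have hz : ∀ {b : Fin 4 → F}, EvenRoots b → ∀ j, b j ≠ 0 := fun hb j e => by
        have := hb.1 j; rw [e] at this; simp at this
      set A := a 0 * a 0
      set A' := a' 0 * a' 0
      have hA : A * A = 1 := by linear_combination ha.1 0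
      have hA' : A' * A' = 1 := by linear_combination ha'.1 0
      refine ⟨s * s' * A * A', ?_, fun j => ?_⟩
      · refine mul_self_eq_one_iff.mp ?_
        rcases hs1 with rfl | rfl <;> rcases hs1' with rfl | rfl <;> linear_combination A * A * hA' + hA
      · refine mul_left_cancel₀ (mul_ne_zero (hz ha j) (hz ha' j)) ?_
        have e1 : a j * a j = A := ha.2.1 j
        have e2 : a' j * a' j = A' := ha'.2.1 j
        have hs2' : s' * s' = 1 := by rcases hs1' with rfl | rfl <;> ring
        calc a j * a' j * (a (fourAdd j w) * a' j) = (a j * a (fourAdd j w)) * (a' j * a' j) := by ring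
          _ = s * A' := by rw [hs j, e2]
          _ = s * A' * ((s' * s') * (A * A)) := by rw [hs2', hA]; ring
          _ = (s * s' * A * A') * ((a j * a j) * (a' j * a' (fourAdd j v))) := by rw [e1, hs' j]; ring
          _ = a j * a' j * (s * s' * A * A' * (a' (fourAdd j v) * a j)) := by ring
    have : (x : Matrix (Fin 4) (Fin 4) F) * y = ε • ((y : Matrix (Fin 4) (Fin 4) F) * x) := by
      rw [hx, hy, hmulS, hmulS, hac w v]
      ext i j
      simp only [shiftMat, Matrix.smul_apply, Matrix.of_apply, smul_eq_mul, mul_ite, mul_zero, hε j]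
    rcases hε1 with rfl | rfl
    · left; rw [this, one_smul]
    · right; rw [this, neg_one_smul]
  have hconj : ∀ g ∈ R, ∃ x ∈ R₀, (g : Matrix (Fin 4) (Fin 4) F) = B * x * ((Bg⁻¹ : GL (Fin 4) F) : Matrix (Fin 4) (Fin 4) F) := by
    rintro g ⟨x, hx, rfl⟩
    exact ⟨x, hx, rfl⟩
  have hconj2 : ∀ X Y : Matrix (Fin 4) (Fin 4) F, (B * X * ((Bg⁻¹ : GL (Fin 4) F) : Matrix (Fin 4) (Fin 4) F)) *
      (B * Y * ((Bg⁻¹ : GL (Fin 4) F) : Matrix (Fin 4) (Fin 4) F)) = B * (X * Y) * ((Bg⁻¹ : GL (Fin 4) F) : Matrix (Fin 4) (Fin 4) F) := by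
    intro X Y
    rw [show B = (Bg : Matrix (Fin 4) (Fin 4) F) from rfl]
    simp [Matrix.mul_assoc]
  have hconj1 : B * ((Bg⁻¹ : GL (Fin 4) F) : Matrix (Fin 4) (Fin 4) F) = 1 := Bg.mul_inv
  -- irreducibility
  have habs : ActsAbsolutelyIrreducibly (matrixSet R) := by
    refine absIrr_of_adjoin_eq_top ?_
    set A := Algebra.adjoin F (matrixSet R)
    have hin : ∀ v a, EvenRoots a → B * shiftMat v a * ((Bg⁻¹ : GL (Fin 4) F) : Matrix (Fin 4) (Fin 4) F) ∈ A := fun v a ha => by
      obtain ⟨g, hg, hgm⟩ := hlift v a ha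
      refine Algebra.subset_adjoin ⟨_, ⟨g, hg, rfl⟩, ?_⟩
      rw [← hgm]; rfl
    have hunit : ∀ i j, B * Matrix.single i j (1 : F) * ((Bg⁻¹ : GL (Fin 4) F) : Matrix (Fin 4) (Fin 4) F) ∈ A := by
      intro i j
      have h4 : (4 : F) ≠ 0 := by rw [show (4 : F) = 2 * 2 by norm_num]; exact mul_ne_zero h2 h2
      let T : Fin 4 → Fin 4 → F := ![![1, 1, 1, 1], ![1, 1, -1, -1], ![1, -1, 1, -1], ![1, -1, -1, 1]]
      have hT : ∀ k, EvenRoots (T k) := fun k => by
        refine ⟨fun l => ?_, fun l => ?_, ?_⟩ <;> fin_cases k <;> (try fin_cases l) <;>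
          simp [T, Fin.prod_univ_four] <;> norm_num
      have e : (4 : F) • Matrix.single i j (1 : F) = ∑ k, T k j • shiftMat (fourAdd j i) (T k) := by
        ext r s
        rw [Matrix.smul_apply, Matrix.sum_apply]
        simp only [Matrix.smul_apply, shiftMat, Matrix.of_apply, smul_eq_mul, mul_ite, mul_zero]
        rcases eq_or_ne s j with rfl | hs
        · rw [← hassoc, hself, hac 0 i, hzero]
          rcases eq_or_ne r i with rfl | hr
          · fin_cases s <;> simp [T, Fin.sum_univ_four, Matrix.single] <;> norm_num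
          · simp [hr, Ne.symm hr, Matrix.single]
        · have hk : ∑ k, T k j * T k s = 0 := by
            revert hs
            fin_cases s <;> fin_cases j <;> simp [T, Fin.sum_univ_four]
          by_cases hr : r = fourAdd s (fourAdd j i)
          · simp [hr, hk, Matrix.single, hs.symm]
          · simp [hr, Matrix.single, hs.symm]
      rw [show Matrix.single i j (1 : F) = (4 : F)⁻¹ • ∑ k, T k j • shiftMat (fourAdd j i) (T k) by
        rw [← e, inv_smul_smul₀ h4]]
      simp only [Matrix.mul_smul, Matrix.smul_mul, Matrix.mul_sum, Matrix.sum_mul]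
      exact A.smul_mem (A.sum_mem fun k _ => A.smul_mem (hin _ _ (hT k)) _) _
    refine eq_top_iff.mpr fun M _ => ?_
    have e : M = B * (((Bg⁻¹ : GL (Fin 4) F) : Matrix (Fin 4) (Fin 4) F) * M * B) *
        ((Bg⁻¹ : GL (Fin 4) F) : Matrix (Fin 4) (Fin 4) F) := by
      rw [show B = (Bg : Matrix (Fin 4) (Fin 4) F) from rfl]; simp [Matrix.mul_assoc]
    rw [e, Matrix.matrix_eq_sum_single (((Bg⁻¹ : GL (Fin 4) F) : Matrix (Fin 4) (Fin 4) F) * M * B)]
    simp only [Matrix.mul_sum, Matrix.sum_mul]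
    refine A.sum_mem fun i _ => A.sum_mem fun j _ => ?_
    rw [show ∀ x : F, Matrix.single i j x = x • Matrix.single i j (1 : F) from fun x => by
      rw [Matrix.smul_single, smul_eq_mul, mul_one], Matrix.mul_smul, Matrix.smul_mul]
    exact A.smul_mem (hunit i j) _
  obtain ⟨z₀, hz₀, hz₀m⟩ := hlift 0 (fun _ => ζ) ⟨fun _ => hζ4, fun _ => rfl, by rw [Fin.prod_univ_four]; linear_combination hζ4⟩
  have hzm : ((MulAut.conj Bg z₀ : GL (Fin 4) F) : Matrix (Fin 4) (Fin 4) F) = ζ • 1 := by
    change B * (z₀ : Matrix (Fin 4) (Fin 4) F) * ((Bg⁻¹ : GL (Fin 4) F) : Matrix (Fin 4) (Fin 4) F) = _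
    rw [hz₀m, show shiftMat 0 (fun _ => ζ) = ζ • (1 : Matrix (Fin 4) (Fin 4) F) by
      ext i j; simp [shiftMat, hzero, Matrix.one_apply], Matrix.mul_smul, Matrix.smul_mul, Matrix.mul_one, hconj1]
  obtain ⟨htype, hcen, hcomm⟩ := symplecticType_of_signs h2 hi (R := R) ⟨z₀, hz₀, rfl⟩ hzm
    (fun x hx => by
      obtain ⟨y, hy, e⟩ := hconj x hx
      rw [e, hconj2]
      rcases hsq₀ y hy with e' | e' <;> rw [e']
      · left; rw [Matrix.mul_one, hconj1]
      · right; rw [Matrix.mul_neg, Matrix.neg_mul, Matrix.mul_one, hconj1])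
    (fun x hx x' hx' => by
      obtain ⟨y, hy, e⟩ := hconj x hx
      obtain ⟨y', hy', e'⟩ := hconj x' hx'
      rw [e, e', hconj2, hconj2]
      rcases hsign₀ y hy y' hy' with e'' | e'' <;> rw [e''] <;> simp)
    habs
  have hRU : R ≤ GU 4 F 3 := by
    rintro _ ⟨x, hx, rfl⟩
    exact (GU 4 F 3).mul_mem ((GU 4 F 3).mul_mem hBgU (hU₀ x hx)) ((GU 4 F 3).inv_mem hBgU)
  have hsim : R ≤ similarityGroup f := fun g hg => ⟨1, fun x y => by rw [Units.val_one, one_mul]; exact mem_GU_iff.mp (hRU hg) x y⟩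
  refine ⟨R, htype, habs, hsim, ?_, hcen,
    eq_inf_of_maximal' hH (fun g hg => ?_) (hσ.not_su_le_normalizer_three (by norm_num) (by norm_num) habs hsim hcomm)⟩
  · rw [← card_sq_of_scalar_commutators habs hcomm, hcen]; rfl
  refine Subgroup.mem_normalizer_fintype fun x hx => ?_
  have hg' : g ∈ decompositionStabilizer D ⊓ suGL 4 F 3 := h ▸ hg
  obtain ⟨π, hπ⟩ := hg'.1
  have hgU := mem_GU_iff.mp hg'.2.1
  choose d hd using fun i => hbspan (π i) ((g : Matrix (Fin 4) (Fin 4) F) *ᵥ b i) (by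
    rw [← hπ i]; exact Submodule.mem_map_of_mem (f := Matrix.toLin' (g : Matrix (Fin 4) (Fin 4) F)) (hbD i))
  have hdn : ∀ i, d i ^ 4 = 1 := fun i => by
    have e := hgU (b i) (b i)
    rw [← hfdef, hd, hf.semi.smul_left, hf.semi.smul_right, hgram, hgram, if_pos rfl, if_pos rfl, mul_one,
      hσ.apply_eq] at e
    rw [pow_succ']; exact e
  obtain ⟨G, hG⟩ : ∃ G : Matrix (Fin 4) (Fin 4) F, G = Matrix.of fun i j => if i = π j then d j else 0 := ⟨_, rfl⟩
  have hgB : (g : Matrix (Fin 4) (Fin 4) F) * B = B * G := by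
    refine Matrix.ext_of_mulVec_single fun j => ?_
    rw [← Matrix.mulVec_mulVec, hBcol, hd, ← Matrix.mulVec_mulVec,
      show G *ᵥ Pi.single j 1 = d j • Pi.single (π j) (1 : F) by
        funext i; simp [hG, Matrix.mulVec_single_one, Pi.single_apply],
      Matrix.mulVec_smul, hBcol]
  have hprod : ∏ i, d i = 1 ∨ ∏ i, d i = -1 := by
    have e := congrArg Matrix.det hgB
    rw [Matrix.det_mul, Matrix.det_mul, det_gl_of_mem_specialLinear hg'.2.2, one_mul] at e
    have hGd : G = (1 : Matrix (Fin 4) (Fin 4) F).submatrix π.symm id * Matrix.diagonal d := by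
      ext i j
      simp only [hG, Matrix.of_apply, Matrix.mul_diagonal, Matrix.submatrix_apply, id, Matrix.one_apply, Equiv.symm_apply_eq,
        ite_mul, one_mul, zero_mul]
    rw [hGd, Matrix.det_mul, Matrix.det_permute, Matrix.det_one, Matrix.det_diagonal, mul_one] at e
    have e' := (mul_eq_left₀ hBdet).mp e.symm
    rcases Int.units_eq_one_or (Equiv.Perm.sign π.symm) with hs | hs <;> rw [hs] at e' <;> simp at e'
    · exact Or.inl e'
    · exact Or.inr (by linear_combination -e')
  obtain ⟨y, ⟨v, a, ha, hy⟩, rfl⟩ := hx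
  obtain ⟨w, hw⟩ := haff π v
  -- the conjugate
  obtain ⟨a', ha'd⟩ : ∃ a' : Fin 4 → F, ∀ j, a' (π j) = d (fourAdd j v) * a j * d j ^ 3 :=
    ⟨fun k => d (fourAdd (π.symm k) v) * a (π.symm k) * d (π.symm k) ^ 3, fun j => by simp⟩
  have hEd : EvenRoots fun j => d j * d j := by
    refine ⟨fun j => by rw [mul_pow, hdn, one_mul], fun j => ?_, ?_⟩
    · rw [show d j * d j * (d j * d j) = d j ^ 4 by ring, hdn, show d 0 * d 0 * (d 0 * d 0) = d 0 ^ 4 by ring, hdn]
    · rw [Finset.prod_mul_distrib]; rcases hprod with e | e <;> rw [e] <;> ring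
  obtain ⟨s, hs1, hs⟩ := evenRoots_pair hEd v
  have ha'E : EvenRoots a' := by
    have hsqd : ∀ j, a' (π j) * a' (π j) = s * (a 0 * a 0) := fun j => by
      rw [ha'd]
      have := hs j
      calc d (fourAdd j v) * a j * d j ^ 3 * (d (fourAdd j v) * a j * d j ^ 3) =
          (d j * d j * (d (fourAdd j v) * d (fourAdd j v))) * (a j * a j) * d j ^ 4 := by ring
        _ = s * (a 0 * a 0) := by rw [hs j, ha.2.1 j, hdn, mul_one]
    refine ⟨fun k => ?_, fun k => ?_, ?_⟩
    · obtain ⟨j, rfl⟩ := π.surjective k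
      rw [ha'd, mul_pow, mul_pow, hdn, ha.1, ← pow_mul, mul_comm 3 4, pow_mul, hdn, one_pow, one_mul, one_mul]
    · obtain ⟨j, rfl⟩ := π.surjective k
      obtain ⟨j₀, hj₀⟩ := π.surjective 0
      have := hsqd j₀
      rw [hj₀] at this
      rw [hsqd, this]
    · let e : Equiv.Perm (Fin 4) := shiftPermFinFour v
      rw [← Equiv.prod_comp π, Finset.prod_congr rfl fun j _ => ha'd j, Finset.prod_mul_distrib, Finset.prod_mul_distrib,
        show ∏ j, d (fourAdd j v) = ∏ j, d j from Equiv.prod_comp e d, ha.2.2, mul_one, ← Finset.prod_mul_distrib]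
      exact Finset.prod_eq_one fun j _ => by rw [← pow_succ', hdn]
  have hkey : G * shiftMat v a = shiftMat w a' * G := by
    ext i j
    rw [Matrix.mul_apply, Matrix.mul_apply, Finset.sum_eq_single (fourAdd j v) (fun k _ hk => by simp [shiftMat, hk]) (by simp),
      Finset.sum_eq_single (π j) (fun k _ hk => by simp [hG, hk]) (by simp)]
    simp only [hG, shiftMat, Matrix.of_apply, if_true, ha'd, hw]
    split_ifs
    · linear_combination -(d (fourAdd j v) * a j) * hdn j
    · simp
  obtain ⟨y', hy', hy'm⟩ := hlift w a' ha'E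
  refine ⟨y', hy', mul_right_cancel (b := g) (Units.ext ?_)⟩
  simp only [MulEquiv.coe_toMonoidHom, MulAut.conj_apply, inv_mul_cancel_right, Units.val_mul, hy'm, hy]
  change B * shiftMat w a' * ((Bg⁻¹ : GL (Fin 4) F) : Matrix (Fin 4) (Fin 4) F) * (g : Matrix (Fin 4) (Fin 4) F) =
    (g : Matrix (Fin 4) (Fin 4) F) * (B * shiftMat v a * ((Bg⁻¹ : GL (Fin 4) F) : Matrix (Fin 4) (Fin 4) F))
  rw [← Matrix.mul_assoc (g : Matrix (Fin 4) (Fin 4) F), ← Matrix.mul_assoc (g : Matrix (Fin 4) (Fin 4) F), hgB,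
    Matrix.mul_assoc B G, hkey]
  have hBi : ((Bg⁻¹ : GL (Fin 4) F) : Matrix (Fin 4) (Fin 4) F) * (g : Matrix (Fin 4) (Fin 4) F) =
      G * ((Bg⁻¹ : GL (Fin 4) F) : Matrix (Fin 4) (Fin 4) F) := by
    refine Bg.isUnit.mul_left_cancel ?_
    change B * _ = B * _
    rw [← Matrix.mul_assoc, hconj1, Matrix.one_mul, ← Matrix.mul_assoc, ← hgB, Matrix.mul_assoc, hconj1, Matrix.mul_one]
  simp only [Matrix.mul_assoc, hBi]

end Cfsg.Agent.Classical
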