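/-
A cubic field normaliser in the six dimensional unitary group over the field with four elements preserves a
symplectic structure over the prime field up to scalars.
-/
import Cfsg.Agent.Lib.Classical.FormUSmall
import Cfsg.Agent.Lib.Classical.FormTensorQuad
import Cfsg.Agent.Lib.Classical.GaloisDescent
import Cfsg.Agent.Lib.Classical.SymplecticType

set_option autoImplicit false
set_option linter.style.haveILetI false
set_option linter.unusedSectionVars false

namespace Cfsg.Agent.Classical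

open Matrix Cfsg.Geo
open scoped Kronecker

theorem sixty_three : ∀ a b : Fin 63, (a : ℕ) * a % 63 = 1 → 3 * (b : ℕ) % 63 = 0 → (b : ℕ) ≠ 0 →
    (a : ℕ) * b % 63 = 2 * (b : ℕ) % 63 → (a : ℕ) = 8 ∨ (a : ℕ) = 62 := by
  decide +kernel

variable {F : Type*} [Field F]

/-- A cube root of a nontrivial scalar in a cubic field has nontrivial determinant. -/
theorem det_cube_root {K : Subalgebra F (Matrix (Fin 6) (Fin 6) F)} (hK : IsFieldSubalgebra 3 K) {v w : Fin 6 → F}
    (hvw : ∀ k ∈ K, ∀ l ∈ K, k *ᵥ v + l *ᵥ w = 0 → k = 0 ∧ l = 0)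
    (hu3 : ∀ a : F, a ≠ 0 → a * a * a = 1)
    {k : Matrix (Fin 6) (Fin 6) F} (hk : k ∈ K) {c : F} (hc : c ≠ 1) (hc0 : c ≠ 0)
    (hk3 : k * k * k = c • 1) : k.det ≠ 1 := by
  classical
  have hone : ∀ x : F, x • (1 : Matrix (Fin 6) (Fin 6) F) = 0 → x = 0 := fun x h => by
    simpa using congrFun (congrFun h 0) 0
  have hns : ∀ a : F, k ≠ a • 1 := fun a e => by
    rw [e] at hk3
    simp only [Matrix.smul_mul, Matrix.mul_smul, Matrix.one_mul, smul_smul] at hk3
    have h1' : a * (a * a) = c := sub_eq_zero.mp (hone _ (by rw [sub_smul, hk3, sub_self]))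
    have h1 : a * a * a = c := (mul_assoc a a a).trans h1'
    rcases eq_or_ne a 0 with rfl | ha
    · exact hc0 (by simpa using h1.symm)
    · exact hc (h1.symm.trans (hu3 a ha))
  have hind : ∀ a b d : F, a • (1 : Matrix (Fin 6) (Fin 6) F) + b • k + d • (k * k) = 0 → a = 0 ∧ b = 0 ∧ d = 0 := by
    intro a b d h
    rcases eq_or_ne d 0 with rfl | hd
    · rw [zero_smul, add_zero] at h
      rcases eq_or_ne b 0 with rfl | hb
      · rw [zero_smul, add_zero] at h
        exact ⟨hone a h, rfl, rfl⟩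
      · exfalso
        apply hns (-b⁻¹ * a)
        have := congrArg (fun X => b⁻¹ • X) (eq_neg_of_add_eq_zero_right h)
        simp only [smul_smul, inv_mul_cancel₀ hb, one_smul, smul_neg] at this
        rw [this, ← neg_smul, neg_mul]
    · exfalso
      have hkk : k * k = (-d⁻¹ * a) • (1 : Matrix (Fin 6) (Fin 6) F) + (-d⁻¹ * b) • k := by
        have := congrArg (fun X => d⁻¹ • X) (eq_neg_of_add_eq_zero_right h)
        simp only [smul_smul, inv_mul_cancel₀ hd, one_smul, smul_neg, smul_add] at this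
        rw [this, neg_add, ← neg_smul, ← neg_smul, neg_mul, neg_mul]
      generalize -d⁻¹ * a = α at hkk
      generalize -d⁻¹ * b = β at hkk
      have h3 : c • (1 : Matrix (Fin 6) (Fin 6) F) = (α * β) • 1 + (α + β * β) • k := by
        rw [← hk3, hkk, Matrix.add_mul, Matrix.smul_mul, Matrix.one_mul, Matrix.smul_mul, hkk, smul_add, smul_smul,
          smul_smul, add_smul, mul_comm α β]
        abel
      by_cases hb : α + β * β = 0
      · rw [hb, zero_smul, add_zero] at h3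
        have h1 : c = α * β := sub_eq_zero.mp (hone _ (by rw [sub_smul, h3, sub_self]))
        have hb3 : -β * -β * -β = c := by rw [h1, eq_neg_of_add_eq_zero_left hb]; ring
        exact hc (hb3.symm.trans (hu3 (-β) fun e => hc0 (by rw [← hb3, e, mul_zero])))
      · apply hns ((α + β * β)⁻¹ * (c - α * β))
        have := congrArg (fun X => (α + β * β)⁻¹ • X) (eq_sub_of_add_eq' h3.symm)
        simp only [smul_smul, inv_mul_cancel₀ hb, one_smul, ← sub_smul] at this
        exact this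
  let z : Fin 2 → Fin 6 → F := ![v, w]
  let e : Fin 2 × Fin 3 ≃ Fin 6 := finProdFinEquiv
  let col : Fin 2 × Fin 3 → Fin 6 → F := fun x => (k ^ (x.2 : ℕ)) *ᵥ z x.1
  obtain ⟨P, hP⟩ : ∃ P : Matrix (Fin 6) (Fin 6) F, ∀ r x, P r (e x) = col x r :=
    ⟨fun r j => col (e.symm j) r, fun r x => by simp⟩
  have hPdet : P.det ≠ 0 := fun h0 => by
    obtain ⟨a, ha0, ha⟩ := Matrix.exists_mulVec_eq_zero_iff.mpr h0
    apply ha0
    have hsum : ∀ r, (∑ x, a (e x) * col x r) = 0 := fun r => by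
      rw [show (0 : F) = (P *ᵥ a) r from (congrFun ha r).symm, Matrix.mulVec, dotProduct, ← e.sum_comp]
      exact Finset.sum_congr rfl fun x _ => by rw [hP, mul_comm]
    set A := fun s : Fin 2 => a (e (s, 0)) • (1 : Matrix (Fin 6) (Fin 6) F) + a (e (s, 1)) • k + a (e (s, 2)) • (k * k) with hA
    have hAK : ∀ s, A s ∈ K := fun s =>
      K.add_mem (K.add_mem (K.smul_mem K.one_mem _) (K.smul_mem hk _)) (K.smul_mem (K.mul_mem hk hk) _)
    have h0' : A 0 *ᵥ v + A 1 *ᵥ w = 0 := funext fun r => by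
      rw [Pi.zero_apply, ← hsum r, Fintype.sum_prod_type, Fin.sum_univ_two]
      simp [hA, col, z, Fin.sum_univ_three, Matrix.add_mulVec, Matrix.smul_mulVec, Matrix.one_mulVec, pow_two,
        Matrix.mulVec_mulVec, add_assoc]
    obtain ⟨e0, e1⟩ := hvw _ (hAK 0) _ (hAK 1) h0'
    funext j
    obtain ⟨⟨s, i⟩, rfl⟩ := e.surjective j
    fin_cases s
    · obtain ⟨x0, x1, x2⟩ := hind _ _ _ e0
      fin_cases i <;> assumption
    · obtain ⟨x0, x1, x2⟩ := hind _ _ _ e1
      fin_cases i <;> assumption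
  obtain ⟨C3, hC3⟩ : ∃ C3 : Matrix (Fin 3) (Fin 3) F, C3 = !![0, 0, c; 1, 0, 0; 0, 1, 0] := ⟨_, rfl⟩
  obtain ⟨C, hC⟩ : ∃ C : Matrix (Fin 6) (Fin 6) F, C = ((1 : Matrix (Fin 2) (Fin 2) F) ⊗ₖ C3).submatrix e.symm e.symm := ⟨_, rfl⟩
  have hkP : k * P = P * C := by
    ext r j
    obtain ⟨⟨s, i⟩, rfl⟩ := e.surjective j
    have hl : (k * P) r (e (s, i)) = (k *ᵥ col (s, i)) r := by
      simp only [Matrix.mul_apply, Matrix.mulVec, dotProduct, hP]
    rw [hl, Matrix.mul_apply, ← e.sum_comp, Fintype.sum_prod_type, Finset.sum_eq_single s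
      (fun s' _ hs => Finset.sum_eq_zero fun i' _ => by simp [hC, hs]) (fun h => absurd (Finset.mem_univ _) h)]
    simp only [col, Matrix.mulVec_mulVec, hP, hC, Matrix.submatrix_apply, Equiv.symm_apply_apply, Matrix.kronecker_apply,
      Matrix.one_apply_eq, one_mul, Fin.sum_univ_three, hC3]
    fin_cases i
    · simp
    · simp [pow_two]
    · simp [pow_two, ← Matrix.mul_assoc, hk3, Matrix.smul_mulVec, mul_comm]
  have hdet := congrArg Matrix.det hkP
  rw [Matrix.det_mul, Matrix.det_mul, mul_comm P.det, hC, Matrix.det_submatrix_equiv_self, Matrix.det_kronecker,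
    Matrix.det_one, one_pow, one_mul, hC3, Matrix.det_fin_three] at hdet
  have h := mul_right_cancel₀ hPdet hdet
  intro h1
  apply hc
  rw [h1] at h
  simp at h
  linear_combination c * h + hu3 c hc0

/-- A maximal cubic field normaliser over four elements is the stabiliser of a symplectic structure over the prime
field. -/
theorem six_field_subfield [Fintype F] {σ : F ≃+* F} (hσ : IsUSigma 2 σ) {H : Subgroup (GL (Fin 6) F)}
    (hH : IsMaximalIn (suGL 6 F 2) H) {K : Subalgebra F (Matrix (Fin 6) (Fin 6) F)} (hK : IsFieldSubalgebra 3 K)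
    (hadj : IsAdjointClosedFor (hermForm 6 F 2) K) (h : H = subalgebraNormalizer K ⊓ suGL 6 F 2) :
    ∃ (F₀ : Subfield F) (P : GL (Fin 6) F) (ζ : F), Fintype.card F = Nat.card F₀ ^ 2 ∧ ζ ≠ 0 ∧ ζ + ζ ^ 2 = 0 ∧
      IsFormRationalStructure (hermForm 6 F 2) F₀ ζ P ∧
      (∀ u : Fin 6 → F, (∀ i, u i ∈ F₀) →
        hermForm 6 F 2 ((P : Matrix (Fin 6) (Fin 6) F) *ᵥ u) ((P : Matrix (Fin 6) (Fin 6) F) *ᵥ u) = 0) ∧
      H = subfieldSubgroup F₀ P ⊓ suGL 6 F 2 := by
  classical
  obtain ⟨h2, hu⟩ := unit_four hσ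
  have hσσ : ∀ a, σ (σ a) = a := hσ.involutive
  have hσ2 : ∀ x : F, σ x = x * x := fun x => by rw [hσ.apply_eq, sq]
  have hmm : ∀ A : Matrix (Fin 6) (Fin 6) F, (A.map σ).map σ = A := fun A => by ext i j; simp [hσσ]
  have hmapmul : ∀ A B : Matrix (Fin 6) (Fin 6) F, (A * B).map σ = A.map σ * B.map σ := fun A B => Matrix.map_mul
  have hmap1 : (1 : Matrix (Fin 6) (Fin 6) F).map σ = 1 := Matrix.map_one σ (map_zero σ) (map_one σ)
  have hfdot : ∀ u v, hermForm 6 F 2 u v = u ⬝ᵥ ((σ : F → F) ∘ v) := fun u v => by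
    rw [hσ.hermForm_eq]; rfl
  have halt : ∀ {N : Matrix (Fin 6) (Fin 6) F}, Nᵀ = N → (∀ i, N i i = 0) → ∀ u, u ⬝ᵥ (N *ᵥ u) = 0 :=
    fun {N} hN hd u => alternating_dot h2 (fun a b => (congrFun (congrFun hN a) b : N b a = N a b)) hd u
  -- adjoints
  let τa : Matrix (Fin 6) (Fin 6) F → Matrix (Fin 6) (Fin 6) F := fun A => Aᵀ.map σ
  have hKadj : ∀ k ∈ K, τa k ∈ K := fun k hk => by
    obtain ⟨k', hk', e⟩ := hadj k hk
    suffices τa k = k' from this ▸ hk'
    ext i j
    have h' := e (Pi.single i 1) (Pi.single j 1)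
    simp only [hfdot, Matrix.mulVec_single_one] at h'
    simp only [τa, Matrix.map_apply, Matrix.transpose_apply]
    have : k j i = σ (k' i j) := by simpa [dotProduct, Pi.single_apply, apply_ite σ, Matrix.col_apply] using h'
    rw [this, hσσ]
  have hτmul : ∀ A B, τa (A * B) = τa B * τa A := fun A B => by
    simp only [τa, Matrix.transpose_mul, hmapmul]
  have hτpow : ∀ A (i : ℕ), τa (A ^ i) = τa A ^ i := fun A i => by
    induction i with
    | zero => simp only [pow_zero, τa, Matrix.transpose_one, hmap1]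
    | succ i ih => rw [pow_succ', hτmul, ih, ← pow_succ]
  have hττ : ∀ A, τa (τa A) = A := fun A => by
    simp only [τa, ← Matrix.transpose_map, Matrix.transpose_transpose, hmm]
  haveI : Nonempty (Fin 6) := ⟨0⟩
  obtain ⟨w, hw, hw0, hgen, hord⟩ := exists_generator_fieldSubalgebra hK
  have hq : Nat.card F ^ 3 - 1 = 63 := by rw [Nat.card_eq_fintype_card, hσ.card]; rfl
  simp only [hq] at hord
  have hpow : ∀ i, w ^ i = w ^ (i % 63) := fun i => by
    conv_lhs => rw [← Nat.div_add_mod i 63, pow_add, pow_mul, (hord 63).mpr dvd_rfl, one_pow, one_mul]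
  have hwinj : ∀ i j, w ^ i = w ^ j → i % 63 = j % 63 := fun i j e => by
    rw [hpow i, hpow j] at e
    have hi := Nat.mod_lt i (show 63 > 0 by norm_num)
    have hj := Nat.mod_lt j (show 63 > 0 by norm_num)
    rcases le_total (i % 63) (j % 63) with hle | hle
    · have : w ^ (63 - i % 63 + j % 63) = 1 := by
        rw [pow_add, ← e, ← pow_add, Nat.sub_add_cancel hi.le, (hord 63).mpr dvd_rfl]
      obtain ⟨d, hd⟩ := (hord _).mp this
      omega
    · have : w ^ (63 - j % 63 + i % 63) = 1 := by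
        rw [pow_add, e, ← pow_add, Nat.sub_add_cancel hj.le, (hord 63).mpr dvd_rfl]
      obtain ⟨d, hd⟩ := (hord _).mp this
      omega
  -- the adjoint is the eighth power
  have hτw : τa w = w ^ 8 := by
    have hτ0 : τa w ≠ 0 := fun e => hw0 (by rw [← hττ w, e]; simp [τa])
    obtain ⟨a, ha⟩ := hgen _ (hKadj w hw) hτ0
    obtain ⟨z, hz0, hz1⟩ : ∃ z : F, z ≠ 0 ∧ z ≠ 1 := by
      obtain ⟨z, -, hz⟩ := Finset.exists_mem_notMem_of_card_lt_card (s := ({0, 1} : Finset F)) (t := Finset.univ)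
        ((Finset.card_le_two).trans_lt (by rw [Finset.card_univ, hσ.card]; norm_num))
      simp only [Finset.mem_insert, Finset.mem_singleton, not_or] at hz
      exact ⟨z, hz⟩
    have hz1' : z • (1 : Matrix (Fin 6) (Fin 6) F) ≠ 0 := fun e => hz0 (by simpa using congrFun (congrFun e 0) 0)
    obtain ⟨b, hb⟩ := hgen _ (K.smul_mem K.one_mem z) hz1'
    have hb3 : (b % 63) * 3 % 63 = 0 := by
      have : w ^ (b * 3) = 1 := by
        rw [pow_mul, ← hb, smul_pow, one_pow, show z ^ 3 = 1 by linear_combination (hu z hz0).2, one_smul]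
      obtain ⟨d, hd⟩ := (hord _).mp this
      omega
    have hb0 : b % 63 ≠ 0 := fun e => hz1 (by
      rw [hpow b, e, pow_zero] at hb
      simpa using congrFun (congrFun hb 0) 0)
    have hab : a * b % 63 = 2 * b % 63 := hwinj _ _ (by
      rw [pow_mul, ← ha, ← hτpow, ← hb, mul_comm 2 b, pow_mul, ← hb]
      simp only [τa, Matrix.transpose_smul, Matrix.transpose_one, Matrix.map_smul' σ z 1 (map_mul σ), hmap1, hσ2]
      rw [smul_pow, one_pow, sq])
    have haa : a * a % 63 = 1 := by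
      have := hwinj (a * a) 1 (by rw [pow_mul, ← ha, ← hτpow, ← ha, hττ, pow_one])
      simpa using this
    rcases sixty_three ⟨a % 63, Nat.mod_lt _ (by norm_num)⟩ ⟨b % 63, Nat.mod_lt _ (by norm_num)⟩
      (by simpa [Nat.mul_mod, Nat.mod_mod] using haa) (by simp only; omega) hb0
      (by simpa [Nat.mul_mod, Nat.mod_mod] using hab) with h8 | h62
    · simp only at h8
      rw [ha, hpow a, h8]
    · exfalso
      simp only at h62
      have hinv : ∀ x ∈ K, x ≠ 0 → τa x * x = 1 := fun x hx hx0 => by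
        obtain ⟨i, rfl⟩ := hgen x hx hx0
        rw [hτpow, ha, hpow a, h62, ← pow_mul, ← pow_add, hord]
        exact ⟨i, by ring⟩
      have hne : 1 + w ≠ 0 := fun e => by
        have e1 : w ^ 1 = w ^ 0 := by
          rw [pow_one, pow_zero, ← sub_eq_zero, ← e, sub_eq_add_neg, add_comm, ← neg_one_smul F (1 : Matrix (Fin 6) (Fin 6) F),
            show (-1 : F) = 1 by linear_combination -h2, one_smul]
        exact absurd (hwinj _ _ e1) (by norm_num)
      have h1 := hinv _ (K.add_mem K.one_mem hw) hne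
      simp only [τa, Matrix.transpose_add, Matrix.transpose_one, Matrix.map_add σ (map_add σ), hmap1] at h1
      change (1 + τa w) * (1 + w) = 1 at h1
      rw [Matrix.add_mul, Matrix.one_mul, Matrix.mul_add, Matrix.mul_one, hinv w hw hw0] at h1
      have h11 : (1 : Matrix (Fin 6) (Fin 6) F) + 1 = 0 := by
        rw [← two_smul F, h2, zero_smul]
      have h3 : w * w = 1 + w := by
        have h4 : w + τa w = 1 := by
          have : (1 : Matrix (Fin 6) (Fin 6) F) + w + (τa w + 1) = (1 + 1) + (w + τa w) := by abel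
          rw [this, h11, zero_add] at h1
          exact h1
        have h5 := congrArg (fun X => X * w) h4
        simp only [Matrix.add_mul, hinv w hw hw0, Matrix.one_mul] at h5
        calc w * w = w * w + (1 + 1) := by rw [h11, add_zero]
          _ = (w * w + 1) + 1 := by abel
          _ = 1 + w := by rw [h5]; abel
      have h6 : w ^ 3 = 1 := by
        rw [pow_succ, pow_two, h3, Matrix.add_mul, Matrix.one_mul, h3]
        calc w + (1 + w) = 1 + (w + w) := by abel
          _ = 1 := by rw [← two_smul F, h2, zero_smul, add_zero]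
      obtain ⟨d, hd⟩ := (hord 3).mp h6
      omega
  have h63 : ∀ x ∈ K, x ≠ 0 → x ^ 63 = 1 := fun x hx hx0 => by
    obtain ⟨i, rfl⟩ := hgen x hx hx0
    rw [← pow_mul, hord]
    exact ⟨i, mul_comm _ _⟩
  have hsq : ∀ x ∈ K, ∃ y ∈ K, x = y * y := fun x hx => by
    refine ⟨x ^ 32, K.pow_mem hx 32, ?_⟩
    rcases eq_or_ne x 0 with rfl | hx0
    · simp
    · rw [← pow_add, show 32 + 32 = 63 + 1 by rfl, pow_succ, h63 x hx hx0, Matrix.one_mul]
  have hτ8 : ∀ x ∈ K, τa x = x ^ 8 := fun x hx => by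
    rcases eq_or_ne x 0 with rfl | hx0
    · simp [τa]
    obtain ⟨i, rfl⟩ := hgen x hx hx0
    rw [hτpow, hτw, ← pow_mul, ← pow_mul, mul_comm]
  -- two vectors
  let Lv : (Fin 6 → F) → (K →ₗ[F] (Fin 6 → F)) := fun v =>
    { toFun := fun k => (k : Matrix (Fin 6) (Fin 6) F) *ᵥ v
      map_add' := fun a b => by simp [Matrix.add_mulVec]
      map_smul' := fun c a => by simp [Matrix.smul_mulVec] }
  obtain ⟨v, hv⟩ : ∃ v : Fin 6 → F, v = Pi.single 0 1 := ⟨_, rfl⟩
  have hv0 : v ≠ 0 := by rw [hv]; simp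
  obtain ⟨v', hv'⟩ : ∃ v', v' ∉ LinearMap.range (Lv v) := by
    by_contra hcon
    push Not at hcon
    have := LinearMap.finrank_range_le (Lv v)
    rw [Submodule.eq_top_iff'.mpr hcon, finrank_top, Module.finrank_fin_fun, hK.finrank_eq] at this
    omega
  have hvw : ∀ k ∈ K, ∀ l ∈ K, k *ᵥ v + l *ᵥ v' = 0 → k = 0 ∧ l = 0 := by
    intro k hk l hl e
    rcases eq_or_ne l 0 with rfl | hl0
    · refine ⟨?_, rfl⟩
      by_contra hk0
      obtain ⟨y, hy, hky⟩ := hK.inv k hk hk0
      apply hv0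
      rw [Matrix.zero_mulVec, add_zero] at e
      have := congrArg (fun x => y *ᵥ x) e
      rwa [Matrix.mulVec_zero, Matrix.mulVec_mulVec, ← hK.comm k hk y hy, hky, Matrix.one_mulVec] at this
    · exfalso
      obtain ⟨y, hy, hly⟩ := hK.inv l hl hl0
      apply hv'
      refine ⟨⟨-(y * k), K.neg_mem (K.mul_mem hy hk)⟩, ?_⟩
      change (-(y * k)) *ᵥ v = v'
      have := congrArg (fun x => y *ᵥ x) e
      simp only [Matrix.mulVec_add, Matrix.mulVec_mulVec, Matrix.mulVec_zero] at this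
      rw [← hK.comm l hl y hy, hly, Matrix.one_mulVec] at this
      rw [Matrix.neg_mulVec]
      exact (eq_neg_of_add_eq_zero_right this).symm
  let E : (K × K) →ₗ[F] (Fin 6 → F) := LinearMap.coprod (Lv v) (Lv v')
  have hEinj : Function.Injective E := by
    rw [← LinearMap.ker_eq_bot, LinearMap.ker_eq_bot']
    rintro ⟨k, l⟩ e
    obtain ⟨e1, e2⟩ := hvw k k.2 l l.2 e
    exact Prod.ext (Subtype.ext e1) (Subtype.ext e2)
  let Ee : (K × K) ≃ₗ[F] (Fin 6 → F) := LinearEquiv.ofInjectiveOfFinrankEq E hEinj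
    (by rw [Module.finrank_prod, hK.finrank_eq, Module.finrank_fin_fun])
  have hEe : ∀ p, Ee p = (p.1 : Matrix (Fin 6) (Fin 6) F) *ᵥ v + (p.2 : Matrix (Fin 6) (Fin 6) F) *ᵥ v' := fun p => rfl
  let L := Ee.symm
  have hLk : ∀ (k : K) u, L ((k : Matrix (Fin 6) (Fin 6) F) *ᵥ u) = (k * (L u).1, k * (L u).2) := fun k u => by
    apply Ee.injective
    rw [Ee.apply_symm_apply, hEe]
    conv_lhs => rw [← Ee.apply_symm_apply u, hEe]
    simp [Matrix.mulVec_add, Matrix.mulVec_mulVec, L]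
  -- the first alternating form
  let τ : Matrix (Fin 6) (Fin 6) F → F := fun X => X 0 0
  let β : (Fin 6 → F) → (Fin 6 → F) → F := fun u u' =>
    τ ((L u).1 * (L u').2 : K) + τ ((L u).2 * (L u').1 : K)
  have hβb : IsBilinearForm β := by
    constructor <;> intros <;> simp [β, τ, Matrix.add_mul, Matrix.mul_add, mul_add] <;> ring
  obtain ⟨M, hM⟩ : ∃ M, M = gramMatrix β := ⟨_, rfl⟩
  have hMapp : ∀ u u', β u u' = u ⬝ᵥ (M *ᵥ u') := fun u u' => by
    rw [hM]
    exact semiForm_apply (RingEquiv.refl F) (semiForm_of_bilinear hβb) u u'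
  have hmove : ∀ (N A : Matrix (Fin 6) (Fin 6) F) (u u' : Fin 6 → F), (A *ᵥ u) ⬝ᵥ (N *ᵥ u') = u ⬝ᵥ ((Aᵀ * N) *ᵥ u') :=
    fun N A u u' => by
      rw [← Matrix.mulVec_mulVec, Matrix.dotProduct_mulVec u Aᵀ, Matrix.vecMul_transpose]
  have hmext : ∀ A B : Matrix (Fin 6) (Fin 6) F, (∀ u u', u ⬝ᵥ (A *ᵥ u') = u ⬝ᵥ (B *ᵥ u')) → A = B := fun A B e => by
    ext i j; simpa [dotProduct, Pi.single_apply, Matrix.mulVec_single_one, Matrix.col_apply] using e (Pi.single i 1) (Pi.single j 1)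
  have hMk : ∀ k ∈ K, kᵀ * M = M * k := fun k hk => by
    refine hmext _ _ fun u u' => ?_
    rw [← hmove, ← Matrix.mulVec_mulVec, ← hMapp, ← hMapp]
    simp only [β, hLk ⟨k, hk⟩]
    congr 1
    · exact congrArg (fun x : K => τ x) (Subtype.ext (by
        simp only [MulMemClass.coe_mul]
        rw [← Matrix.mul_assoc, hK.comm k hk _ (L u).1.2]))
    · exact congrArg (fun x : K => τ x) (Subtype.ext (by
        simp only [MulMemClass.coe_mul]
        rw [← Matrix.mul_assoc, hK.comm k hk _ (L u).2.2]))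
  have hβsymm : ∀ u u', β u' u = β u u' := fun u u' => by
    simp only [β, MulMemClass.coe_mul]
    rw [hK.comm _ (L u').1.2 _ (L u).2.2, hK.comm _ (L u').2.2 _ (L u).1.2, add_comm]
  have hMt : Mᵀ = M := by rw [hM]; ext i j; exact hβsymm _ _
  have hMd : ∀ i, M i i = 0 := fun i => by
    rw [hM]
    change β _ _ = 0
    simp only [β, MulMemClass.coe_mul]
    rw [hK.comm _ (L (Pi.single i 1)).2.2 _ (L (Pi.single i 1)).1.2]
    linear_combination (τ (((L (Pi.single i 1)).1 : Matrix (Fin 6) (Fin 6) F) * ((L (Pi.single i 1)).2 : Matrix (Fin 6) (Fin 6) F))) * h2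
  have hτ1 : τ 1 = 1 := by simp [τ]
  have hβnd : ∀ k ∈ K, ∀ l ∈ K, k ≠ 0 ∨ l ≠ 0 → ∃ u, β u (k *ᵥ v + l *ᵥ v') ≠ 0 := fun k hk l hl hne => by
    have hL : L (k *ᵥ v + l *ᵥ v') = (⟨k, hk⟩, ⟨l, hl⟩) := by rw [← hEe (⟨k, hk⟩, ⟨l, hl⟩), Ee.symm_apply_apply]
    by_cases hk0 : k = 0
    · obtain ⟨y, hy, hly⟩ := hK.inv l hl (hne.resolve_left (not_not.mpr hk0))
      refine ⟨Ee (⟨y, hy⟩, 0), ?_⟩
      simp only [β, hL, L, Ee.symm_apply_apply, MulMemClass.coe_mul, ZeroMemClass.coe_zero, Matrix.zero_mul]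
      rw [hK.comm y hy l hl, hly, hτ1]
      simp [τ]
    · obtain ⟨y, hy, hky⟩ := hK.inv k hk hk0
      refine ⟨Ee (0, ⟨y, hy⟩), ?_⟩
      simp only [β, hL, L, Ee.symm_apply_apply, MulMemClass.coe_mul, ZeroMemClass.coe_zero, Matrix.zero_mul]
      rw [hK.comm y hy k hk, hky, hτ1]
      simp [τ]
  have hMdet : M.det ≠ 0 := fun e0 => by
    obtain ⟨x, hx0, hx⟩ := Matrix.exists_mulVec_eq_zero_iff.mpr e0
    have e := (Ee.apply_symm_apply x).symm.trans (hEe _)
    have hne : ((L x).1 : Matrix (Fin 6) (Fin 6) F) ≠ 0 ∨ ((L x).2 : Matrix (Fin 6) (Fin 6) F) ≠ 0 := by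
      by_contra hcon
      push Not at hcon
      exact hx0 (by rw [e]; simp [L] at hcon ⊢; simp [hcon])
    obtain ⟨u, hu'⟩ := hβnd _ (L x).1.2 _ (L x).2.2 hne
    exact hu' (by rw [hMapp, ← e, hx, dotProduct_zero])
  -- all such forms
  let InA : Matrix (Fin 6) (Fin 6) F → Prop := fun N => (∀ k ∈ K, kᵀ * N = N * k) ∧ Nᵀ = N ∧ ∀ i, N i i = 0
  have hAmul : ∀ {N}, InA N → ∀ m ∈ K, InA (N * m) := fun {N} hN m hm => by
    refine ⟨fun k hk => ?_, ?_, fun i => ?_⟩
    · rw [← Matrix.mul_assoc, hN.1 k hk, Matrix.mul_assoc, hK.comm k hk m hm, ← Matrix.mul_assoc]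
    · rw [Matrix.transpose_mul, hN.2.1, hN.1 m hm]
    · obtain ⟨y, hy, rfl⟩ := hsq m hm
      rw [← Matrix.mul_assoc, ← hN.1 y hy, Matrix.mul_assoc]
      have e1 := hmove (N * 1) y (Pi.single i 1) (y *ᵥ Pi.single i 1)
      rw [Matrix.mul_one] at e1
      rw [halt hN.2.1 hN.2.2, Matrix.mulVec_mulVec] at e1
      simpa [dotProduct, Pi.single_apply, Matrix.mulVec_single_one, Matrix.col_apply, Matrix.mul_assoc] using e1.symm
  have hval : ∀ {N}, InA N → ∀ p p' : K × K, Ee p ⬝ᵥ (N *ᵥ Ee p') =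
      v ⬝ᵥ ((N * ((p.1 * p'.2 + p.2 * p'.1 : K) : Matrix (Fin 6) (Fin 6) F)) *ᵥ v') := fun {N} hN p p' => by
    have hsame : ∀ (z : Fin 6 → F) (x : Matrix (Fin 6) (Fin 6) F), x ∈ K → z ⬝ᵥ ((N * x) *ᵥ z) = 0 := fun z x hx =>
      halt (hAmul hN x hx).2.1 (hAmul hN x hx).2.2 z
    have hpair : ∀ (a b : K) (z z' : Fin 6 → F), ((a : Matrix (Fin 6) (Fin 6) F) *ᵥ z) ⬝ᵥ (N *ᵥ ((b : Matrix (Fin 6) (Fin 6) F) *ᵥ z')) =
        z ⬝ᵥ ((N * ((a * b : K) : Matrix (Fin 6) (Fin 6) F)) *ᵥ z') := fun a b z z' => by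
      rw [Matrix.mulVec_mulVec, hmove, ← Matrix.mul_assoc, hN.1 _ a.2, Matrix.mul_assoc, MulMemClass.coe_mul]
    have hswap : ∀ x : K, v' ⬝ᵥ ((N * (x : Matrix (Fin 6) (Fin 6) F)) *ᵥ v) = v ⬝ᵥ ((N * (x : Matrix (Fin 6) (Fin 6) F)) *ᵥ v') := fun x => by
      rw [Matrix.dotProduct_mulVec, dotProduct_comm, ← Matrix.mulVec_transpose, (hAmul hN _ x.2).2.1]
    rw [hEe, hEe, Matrix.mulVec_add, add_dotProduct, dotProduct_add, dotProduct_add, hpair, hpair, hpair, hpair,
      hsame _ _ (p.1 * p'.1).2, hsame _ _ (p.2 * p'.2).2, hswap, zero_add, add_zero, ← dotProduct_add, ← Matrix.add_mulVec,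
      ← Matrix.mul_add]
    rfl
  have huniq : ∀ {N}, InA N → ∃ m ∈ K, N = M * m := fun {N} hN => by
    let Φ : K →ₗ[F] Module.Dual F K :=
      LinearMap.mk₂ F (fun m x : K => τ ((m * x : K) : Matrix (Fin 6) (Fin 6) F))
        (fun a b x => by simp [τ, Matrix.add_mul]) (fun c a x => by simp [τ, Matrix.smul_mul])
        (fun a x y => by simp [τ, Matrix.mul_add]) (fun c a x => by simp [τ, Matrix.mul_smul])
    have hΦ : Function.Injective Φ := by
      rw [← LinearMap.ker_eq_bot, LinearMap.ker_eq_bot']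
      intro m hm
      by_contra hm0
      obtain ⟨y, hy, hmy⟩ := hK.inv m m.2 (fun e => hm0 (Subtype.ext e))
      have := LinearMap.congr_fun hm ⟨y, hy⟩
      simp only [Φ, LinearMap.mk₂_apply, MulMemClass.coe_mul, hmy, hτ1, LinearMap.zero_apply] at this
      exact one_ne_zero this
    let lam : Module.Dual F K :=
      { toFun := fun x => v ⬝ᵥ ((N * (x : Matrix (Fin 6) (Fin 6) F)) *ᵥ v')
        map_add' := fun a b => by simp [Matrix.mul_add, Matrix.add_mulVec, dotProduct_add]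
        map_smul' := fun c a => by simp [Matrix.mul_smul, Matrix.smul_mulVec, dotProduct_smul] }
    obtain ⟨m, hm⟩ := (LinearMap.injective_iff_surjective_of_finrank_eq_finrank
      (by rw [Subspace.dual_finrank_eq])).mp hΦ lam
    refine ⟨m, m.2, hmext _ _ fun u u' => ?_⟩
    rw [← Ee.apply_symm_apply u, ← Ee.apply_symm_apply u', hval hN,
      hval (hAmul ⟨hMk, hMt, hMd⟩ _ m.2)]
    have hkey : ∀ x : K, v ⬝ᵥ ((M * (m : Matrix (Fin 6) (Fin 6) F) * (x : Matrix (Fin 6) (Fin 6) F)) *ᵥ v') =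
        v ⬝ᵥ ((N * (x : Matrix (Fin 6) (Fin 6) F)) *ᵥ v') := fun x => by
      rw [Matrix.mul_assoc, ← Matrix.mulVec_mulVec, ← hMapp]
      have e1 : v = Ee (1, 0) := by rw [hEe]; simp
      have e2 : ((m : Matrix (Fin 6) (Fin 6) F) * (x : Matrix (Fin 6) (Fin 6) F)) *ᵥ v' = Ee (0, m * x) := by rw [hEe]; simp
      rw [e2]
      conv_lhs => rw [e1]
      simp only [β, L, Ee.symm_apply_apply]
      have := LinearMap.congr_fun hm x
      simp only [Φ, LinearMap.mk₂_apply] at this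
      simp only [τ] at this ⊢
      simpa [lam] using this
    exact (hkey _).symm
  -- normalisation
  have hMu : IsUnit (M.map σ).det := by
    rw [show (M.map σ).det = σ M.det from (RingHom.map_det (σ : F →+* F) M).symm]
    exact isUnit_iff_ne_zero.mpr ((map_ne_zero σ).mpr hMdet)
  have hσK : ∀ {N : Matrix (Fin 6) (Fin 6) F}, (∀ k ∈ K, kᵀ * N = N * k) → ∀ k ∈ K, k * N.map σ = N.map σ * kᵀ :=
    fun {N} hN k hk => by
      have := congrArg (fun X : Matrix (Fin 6) (Fin 6) F => X.map σ) (hN _ (hKadj k hk))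
      simp only [hmapmul, τa, ← Matrix.transpose_map, Matrix.transpose_transpose, hmm] at this
      exact this
  have hM' : InA (M.map σ)⁻¹ := by
    set S := M.map σ with hS
    have hSt : Sᵀ = S := by rw [hS, ← Matrix.transpose_map, hMt]
    refine ⟨fun k hk => ?_, by rw [Matrix.transpose_nonsing_inv, hSt], fun i => ?_⟩
    · calc kᵀ * S⁻¹ = S⁻¹ * (S * kᵀ) * S⁻¹ := by rw [← Matrix.mul_assoc, Matrix.nonsing_inv_mul _ hMu, Matrix.one_mul]
        _ = S⁻¹ * (k * S) * S⁻¹ := by rw [hσK hMk k hk]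
        _ = S⁻¹ * k := by rw [Matrix.mul_assoc, Matrix.mul_assoc, Matrix.mul_nonsing_inv _ hMu, Matrix.mul_one]
    · have hd : ∀ i, S i i = 0 := fun i => by simp [hS, hMd i]
      have e1 := halt hSt hd (S⁻¹ *ᵥ Pi.single i 1)
      rw [hmove, ← Matrix.mulVec_mulVec, Matrix.mulVec_mulVec (Pi.single i 1) S, Matrix.mul_nonsing_inv _ hMu,
        Matrix.one_mulVec, Matrix.transpose_nonsing_inv, hSt] at e1
      simpa [dotProduct, Pi.single_apply, Matrix.mulVec_single_one, Matrix.col_apply] using e1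
  obtain ⟨m, hm, hmeq⟩ := huniq hM'
  have hMm : M * m * M.map σ = 1 := by rw [← hmeq, Matrix.nonsing_inv_mul _ hMu]
  have hmreal : τa m = m := by
    have e1 : M.map σ * (M * m) = 1 := mul_eq_one_comm.mp hMm
    have e2 := congrArg (fun X : Matrix (Fin 6) (Fin 6) F => X.map σ) hMm
    simp only [hmapmul, hmm, hmap1] at e2
    have e3 : m.map σ * M = M * m := by
      calc m.map σ * M = (M * m * M.map σ) * (m.map σ * M) := by rw [hMm, Matrix.one_mul]
        _ = M * m * (M.map σ * m.map σ * M) := by simp only [Matrix.mul_assoc]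
        _ = M * m := by rw [e2, Matrix.mul_one]
    rw [← hMk m hm] at e3
    have e4 : m.map σ = mᵀ :=
      ((Matrix.isUnit_iff_isUnit_det _).mpr (isUnit_iff_ne_zero.mpr hMdet)).mul_right_cancel e3
    simp only [τa, ← e4, hmm]
  obtain ⟨a, haK, haa, hareal⟩ : ∃ a ∈ K, a * a = m ∧ τa a = a := by
    obtain ⟨y, hy, e⟩ := hsq m hm
    refine ⟨m ^ 32, K.pow_mem hm 32, ?_, by rw [hτpow, hmreal]⟩
    rcases eq_or_ne m 0 with rfl | hm0
    · simp
    · rw [← pow_add, show 32 + 32 = 63 + 1 by rfl, pow_succ, h63 m hm hm0, Matrix.one_mul]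
  obtain ⟨M1, hM1⟩ : ∃ M1, M1 = M * a := ⟨_, rfl⟩
  have hM1A : InA M1 := hM1 ▸ hAmul ⟨hMk, hMt, hMd⟩ a haK
  have hM11 : M1 * M1.map σ = 1 := by
    have e1 : a.map σ = aᵀ := by
      conv_lhs => rw [← hareal]
      exact hmm _
    rw [hM1, hmapmul, e1, ← hσK hMk a haK, ← Matrix.mul_assoc, Matrix.mul_assoc M, haa, hMm]
  -- every element fixes the form up to a scalar
  have hscal : ∀ g ∈ H, ∃ c : F, c ≠ 0 ∧ (g : Matrix (Fin 6) (Fin 6) F)ᵀ * M1 * (g : Matrix (Fin 6) (Fin 6) F) = c • M1 := by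
    intro g hg
    have hg' := h ▸ hg
    set gm := (g : Matrix (Fin 6) (Fin 6) F) with hgm
    have hiso : gmᵀ * gm.map σ = 1 := by
      ext i j
      have e := mem_GU_iff.mp hg'.2.1 (Pi.single i 1) (Pi.single j 1)
      simp only [hfdot, ← hgm, Matrix.mulVec_single_one] at e
      simp only [Matrix.mul_apply, Matrix.transpose_apply, Matrix.map_apply]
      simpa [dotProduct, Pi.single_apply, apply_ite σ, Matrix.one_apply, Matrix.col_apply, eq_comm] using e
    have hNA : InA (gmᵀ * M1 * gm) := by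
      refine ⟨fun k hk => ?_, by simp [Matrix.transpose_mul, hM1A.2.1, Matrix.mul_assoc], fun i => ?_⟩
      · have hk' := (hg'.1 k).mp hk
        calc kᵀ * (gmᵀ * M1 * gm) = (gm * k)ᵀ * M1 * gm := by simp [Matrix.transpose_mul, Matrix.mul_assoc]
          _ = gmᵀ * ((gm * k * ((g⁻¹ : GL (Fin 6) F) : Matrix (Fin 6) (Fin 6) F))ᵀ * M1) * gm := by
            rw [← Matrix.mul_assoc gmᵀ, ← Matrix.transpose_mul, Matrix.mul_assoc (gm * k), hgm, Units.inv_mul, Matrix.mul_one]
          _ = gmᵀ * (M1 * (gm * k * ((g⁻¹ : GL (Fin 6) F) : Matrix (Fin 6) (Fin 6) F))) * gm := by rw [hM1A.1 _ hk']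
          _ = gmᵀ * M1 * gm * k := by
            simp only [Matrix.mul_assoc, hgm, Units.inv_mul, Matrix.mul_one]
      · have e1 := halt hM1A.2.1 hM1A.2.2 (gm *ᵥ Pi.single i 1)
        rw [hmove, Matrix.mulVec_mulVec] at e1
        simpa [dotProduct, Pi.single_apply, Matrix.mulVec_single_one, Matrix.col_apply] using e1
    obtain ⟨y, hy, hye⟩ := huniq hNA
    obtain ⟨a', ha', haa'⟩ := hK.inv a haK (fun e0 => by
      rw [e0, Matrix.mul_zero] at hM1
      rw [hM1, Matrix.zero_mul] at hM11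
      exact zero_ne_one hM11)
    set k := a' * y with hk
    have hkK : k ∈ K := K.mul_mem ha' hy
    have hMk1 : gmᵀ * M1 * gm = M1 * k := by
      rw [hye, hM1, hk, ← Matrix.mul_assoc (M * a), Matrix.mul_assoc M, haa', Matrix.mul_one]
    have hk9 : k * τa k = 1 := by
      have hσh : gm * (gmᵀ).map σ = 1 := by
        have := congrArg (fun X : Matrix (Fin 6) (Fin 6) F => X.map σ) (mul_eq_one_comm.mp hiso)
        simpa only [hmapmul, hmm, hmap1] using this
      have e1 : (gmᵀ * M1 * gm) * (gmᵀ * M1 * gm).map σ = 1 := by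
        rw [hmapmul, hmapmul]
        calc gmᵀ * M1 * gm * (gmᵀ.map σ * M1.map σ * gm.map σ) = gmᵀ * M1 * (gm * gmᵀ.map σ) * (M1.map σ * gm.map σ) := by
              simp only [Matrix.mul_assoc]
          _ = gmᵀ * (M1 * M1.map σ) * gm.map σ := by rw [hσh, Matrix.mul_one]; simp only [Matrix.mul_assoc]
          _ = 1 := by rw [hM11, Matrix.mul_one, hiso]
      rw [hMk1, hmapmul, ← hM1A.1 k hkK] at e1
      have e2 : kᵀ * k.map σ = 1 := by
        rw [Matrix.mul_assoc, ← Matrix.mul_assoc M1, hM11, Matrix.one_mul] at e1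
        exact e1
      have := congrArg (fun X : Matrix (Fin 6) (Fin 6) F => X.map σ) e2
      simp only [hmapmul, hmm, hmap1] at this
      change τa k * k = 1 at this
      rwa [hK.comm _ hkK _ (hKadj k hkK)]
    rw [hτ8 k hkK] at hk9
    have hM1det : M1.det ≠ 0 := fun e => by
      have := congrArg Matrix.det hM11
      rw [Matrix.det_mul, e, zero_mul, Matrix.det_one] at this
      exact zero_ne_one this
    have hdk : k.det = 1 := by
      have e := congrArg Matrix.det hMk1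
      rw [Matrix.det_mul, Matrix.det_mul, Matrix.det_transpose, det_gl_of_mem_specialLinear hg'.2.2, one_mul, mul_one,
        Matrix.det_mul] at e
      exact (mul_eq_left₀ hM1det).mp e.symm
    -- the cube is a scalar
    have hroots : ∀ y ∈ K, y * y * y = 1 → ∃ c : F, y = c • 1 := fun y hy e => by
      by_contra hcon
      push Not at hcon
      obtain ⟨z, hz0, hz1⟩ : ∃ z : F, z ≠ 0 ∧ z ≠ 1 := by
        obtain ⟨z, -, hz⟩ := Finset.exists_mem_notMem_of_card_lt_card (s := ({0, 1} : Finset F)) (t := Finset.univ)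
          ((Finset.card_le_two).trans_lt (by rw [Finset.card_univ, hσ.card]; norm_num))
        simp only [Finset.mem_insert, Finset.mem_singleton, not_or] at hz
        exact ⟨z, hz⟩
      have hzq : z * z + z + 1 = 0 := (mul_eq_zero.mp (show (z - 1) * (z * z + z + 1) = 0 by
        linear_combination (hu z hz0).2)).resolve_left (sub_ne_zero.mpr hz1)
      have hy1 : y - (1 : F) • 1 ≠ 0 := sub_ne_zero.mpr (hcon 1)
      have e1 : (y - z • 1) * (y - (z * z) • 1) = y * y + y + 1 := by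
        simp only [Matrix.sub_mul, Matrix.mul_sub, Matrix.smul_mul, Matrix.mul_smul, Matrix.one_mul, Matrix.mul_one,
          smul_sub, smul_smul]
        match_scalars <;>
          first
            | ring1
            | linear_combination -hzq
            | linear_combination hzq
            | linear_combination (hu z hz0).2
            | linear_combination -(hu z hz0).2
      have key : (y - (1 : F) • 1) * ((y - z • 1) * (y - (z * z) • 1)) = 0 := by
        rw [e1, one_smul, Matrix.sub_mul, Matrix.one_mul, Matrix.mul_add, Matrix.mul_add, Matrix.mul_one,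
          ← Matrix.mul_assoc, e]
        abel
      rcases fieldSubalgebra_mul_eq_zero hK (K.sub_mem hy (K.smul_mem K.one_mem _)) key with h' | h'
      · exact hy1 h'
      · rcases fieldSubalgebra_mul_eq_zero hK (K.sub_mem hy (K.smul_mem K.one_mem _)) h' with h'' | h''
        · exact hcon z (sub_eq_zero.mp h'')
        · exact hcon (z * z) (sub_eq_zero.mp h'')
    have hk9' : k ^ 9 = 1 := by rw [pow_succ']; exact hk9
    obtain ⟨c, hc⟩ := hroots (k * k * k) (K.mul_mem (K.mul_mem hkK hkK) hkK) (by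
      rw [← hk9']; simp only [pow_succ, pow_zero, Matrix.one_mul, Matrix.mul_assoc])
    have hc0 : c ≠ 0 := fun e => by
      rw [e, zero_smul] at hc
      have : k ^ 9 = 0 := by rw [show k ^ 9 = (k * k * k) ^ 3 by simp only [pow_succ, pow_zero, Matrix.one_mul, Matrix.mul_assoc], hc, zero_pow (by norm_num)]
      rw [hk9'] at this
      exact one_ne_zero this
    have hc1 : c = 1 := by
      by_contra hne
      exact det_cube_root hK hvw (fun x hx => (hu x hx).2) hkK hne hc0 hc hdk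
    obtain ⟨d, hd⟩ := hroots k hkK (by rw [hc, hc1, one_smul])
    refine ⟨d, fun e => ?_, by rw [hMk1, hd, Matrix.mul_smul, Matrix.mul_one]⟩
    rw [hd, e, zero_smul, Matrix.zero_mul] at hk9
    exact zero_ne_one hk9
  -- descent
  have hσM : M1.map σ * M1 = 1 := mul_eq_one_comm.mp hM11
  obtain ⟨B, hB⟩ := exists_descent (C := M1.map σ) hσσ hσ.ne_refl (by rw [hmm]; exact hσM)
  set Bm := (B : Matrix (Fin 6) (Fin 6) F) with hBm
  have hσB : Bm.map σ = M1 * Bm := by
    conv_rhs => rw [← hB, ← Matrix.mul_assoc, hM11, Matrix.one_mul]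
  obtain ⟨G0, hG0⟩ : ∃ G0, G0 = Bmᵀ * M1 * Bm := ⟨_, rfl⟩
  have hG0f : ∀ i j, G0 i j ∈ fixedField σ := fun i j => by
    have e : G0.map σ = G0 := by
      have e1 : G0 = Bmᵀ * Bm.map σ := by rw [hG0, hσB, Matrix.mul_assoc]
      conv_lhs => rw [e1, hmapmul, hmm, Matrix.transpose_map, hσB, Matrix.transpose_mul, hM1A.2.1]
      rw [hG0]
    rw [mem_fixedField]
    exact congrFun (congrFun e i) j
  have hform : ∀ u u' : Fin 6 → F, (∀ i, u' i ∈ fixedField σ) →
      hermForm 6 F 2 (Bm *ᵥ u) (Bm *ᵥ u') = (Bm *ᵥ u) ⬝ᵥ (M1 *ᵥ (Bm *ᵥ u')) := fun u u' hu' => by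
    rw [hfdot, Matrix.mulVec_mulVec, ← hσB]
    congr 1
    funext i
    have : (σ : F →+* F) ∘ u' = u' := funext fun l => hu' l
    exact (RingHom.map_mulVec (σ : F →+* F) Bm u' i).trans (by rw [this]; rfl)
  refine ⟨fixedField σ, B, 1, hσ.card_fixed_sq, one_ne_zero, by linear_combination h2, fun u u' hu1 hu' => ?_,
    fun u hu1 => ?_, eq_inf_of_maximal' hH (fun g hg => ?_) (hσ.not_su_le_subfield (by norm_num) Nat.prime_two hσ.card_fixed_sq B)⟩
  · rw [one_mul, ← hBm, hform u u' hu', hmove, Matrix.mulVec_mulVec, ← hG0]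
    simp only [dotProduct, Matrix.mulVec]
    exact sum_mem fun i _ => mul_mem (hu1 i) (sum_mem fun j _ => mul_mem (hG0f i j) (hu' j))
  · rw [← hBm, hform u u hu1]
    exact halt hM1A.2.1 hM1A.2.2 _
  obtain ⟨c, hc0, hc⟩ := hscal g hg
  set gm := (g : Matrix (Fin 6) (Fin 6) F) with hgm
  have hiso : gmᵀ * gm.map σ = 1 := by
    ext i j
    have e := mem_GU_iff.mp (h ▸ hg : g ∈ subalgebraNormalizer K ⊓ suGL 6 F 2).2.1 (Pi.single i 1) (Pi.single j 1)
    simp only [hfdot, ← hgm, Matrix.mulVec_single_one] at e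
    simp only [Matrix.mul_apply, Matrix.transpose_apply, Matrix.map_apply]
    simpa [dotProduct, Pi.single_apply, apply_ite σ, Matrix.one_apply, Matrix.col_apply, eq_comm] using e
  have h1 : M1 * gm = c • (gm.map σ * M1) := by
    calc M1 * gm = gm.map σ * (gmᵀ * M1 * gm) := by
          rw [← Matrix.mul_assoc, ← Matrix.mul_assoc, mul_eq_one_comm.mp hiso, Matrix.one_mul]
      _ = c • (gm.map σ * M1) := by rw [hc, Matrix.mul_smul]
  obtain ⟨X, hX⟩ : ∃ X : Matrix (Fin 6) (Fin 6) F, X = ((B⁻¹ * g * B : GL (Fin 6) F) : Matrix (Fin 6) (Fin 6) F) := ⟨_, rfl⟩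
  have hBX : Bm * X = gm * Bm := by
    rw [hX, hBm, ← Units.val_mul, ← Units.val_mul, ← _root_.mul_assoc, mul_inv_cancel_left]
  have hXσ : X = c • X.map σ := by
    have e1 : gm.map σ * (M1 * Bm) = (M1 * Bm) * X.map σ := by
      rw [← hσB, ← hmapmul, ← hmapmul, hBX]
    have e2 : M1 * (Bm * X) = M1 * (Bm * (c • X.map σ)) := by
      rw [hBX, ← Matrix.mul_assoc, h1, Matrix.smul_mul, Matrix.mul_assoc, e1, Matrix.mul_smul, Matrix.mul_smul,
        Matrix.mul_assoc]
    exact B.isUnit.mul_left_cancel ((IsUnit.of_mul_eq_one _ hM11).mul_left_cancel e2)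
  have hc1 := (hu c hc0).2
  have hY : ∀ i j, (c • X) i j ∈ fixedField σ := fun i j => by
    rw [mem_fixedField, Matrix.smul_apply, smul_eq_mul, map_mul, hσ2 c]
    conv_rhs => rw [hXσ]
    rw [Matrix.smul_apply, Matrix.map_apply, smul_eq_mul]
    ring
  obtain ⟨Z, hZdef⟩ : ∃ Z : GL (Fin 6) F, Z = scalarGL (Fin 6) F (Units.mk0 c hc0) * (B⁻¹ * g * B) := ⟨_, rfl⟩
  have hZ : (Z : Matrix (Fin 6) (Fin 6) F) = c • X := by
    rw [hZdef, Units.val_mul, scalarGL_coe, ← hX, Matrix.smul_mul, Matrix.one_mul]; rfl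
  rw [mem_subfieldSubgroup, show B⁻¹ * g * B = (scalarGL (Fin 6) F (Units.mk0 c hc0))⁻¹ * Z by rw [hZdef, inv_mul_cancel_left]]
  exact mul_mem (Subgroup.mem_sup_right (inv_mem (scalarGL_mem _)))
    (Subgroup.mem_sup_left (mem_range_map_subfield fun i j => by rw [hZ]; exact hY i j))

end Cfsg.Agent.Classical
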