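/-
The largest order of an isometry of a non-degenerate bilinear form, modulo signs, over a finite field.
-/
import Mathlib

set_option autoImplicit false
set_option linter.unusedSectionVars false
set_option linter.style.haveILetI false

namespace Cfsg.Agent.Classical.OrderBound

open Polynomial UniqueFactorizationMonoid

theorem telescope (q : ℕ) (hq : 1 ≤ q) :
    ∀ K : ℕ, (q - 1) * ∏ v ∈ Finset.range K, (q ^ 2 ^ v + 1) + 1 = q ^ 2 ^ K := by
  intro K
  induction K with
  | zero => simp only [Finset.range_zero, Finset.prod_empty, mul_one, pow_zero, pow_one]; omega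
  | succ K ih =>
    rw [Finset.prod_range_succ, pow_succ 2 K, pow_mul, ← ih]
    ring

theorem sum_two_pow : ∀ K : ℕ, (∑ v ∈ Finset.range K, 2 ^ v) + 1 = 2 ^ K := by
  intro K
  induction K with
  | zero => simp
  | succ K ih => rw [Finset.sum_range_succ, pow_succ]; omega

theorem prod_two_powers {q : ℕ} (hq : 2 ≤ q) (A : Finset ℕ) (hA : ∀ a ∈ A, ∃ v, a = 2 ^ v) :
    (q - 1) * ∏ a ∈ A, (q ^ a + 1) ≤ q ^ ((∑ a ∈ A, a) + 1) := by
  classical
  obtain ⟨K, hK⟩ : ∃ K, ∀ a ∈ A, a < K := ⟨A.sup id + 1, fun a ha => Nat.lt_succ_of_le (Finset.le_sup (f := id) ha)⟩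
  let U := (Finset.range K).image (fun v => 2 ^ v)
  have hinj : Set.InjOn (fun v => 2 ^ v) (Finset.range K : Set ℕ) := fun a _ b _ h => Nat.pow_right_injective le_rfl h
  have hsub : A ⊆ U := fun a ha => by
    obtain ⟨v, rfl⟩ := hA a ha
    exact Finset.mem_image.mpr ⟨v, Finset.mem_range.mpr (Nat.lt_two_pow_self.trans (hK _ ha)), rfl⟩
  have hprod : ∏ a ∈ U, (q ^ a + 1) = ∏ v ∈ Finset.range K, (q ^ 2 ^ v + 1) := Finset.prod_image hinj
  have hsum : (∑ a ∈ U, a) + 1 = 2 ^ K := by rw [Finset.sum_image hinj]; exact sum_two_pow K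
  have h1 : q ^ (∑ a ∈ U \ A, a) * ∏ a ∈ A, (q ^ a + 1) ≤ ∏ a ∈ U, (q ^ a + 1) := by
    rw [← Finset.prod_sdiff hsub, ← Finset.prod_pow_eq_pow_sum]
    exact Nat.mul_le_mul_right _ (Finset.prod_le_prod' fun a _ => Nat.le_succ _)
  have h2 : q ^ (∑ a ∈ U \ A, a) * ((q - 1) * ∏ a ∈ A, (q ^ a + 1)) ≤ q ^ (∑ a ∈ U \ A, a) * q ^ ((∑ a ∈ A, a) + 1) := by
    rw [← pow_add, ← add_assoc, Finset.sum_sdiff hsub, hsum]
    calc q ^ (∑ a ∈ U \ A, a) * ((q - 1) * ∏ a ∈ A, (q ^ a + 1))
        = (q - 1) * (q ^ (∑ a ∈ U \ A, a) * ∏ a ∈ A, (q ^ a + 1)) := by ring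
      _ ≤ (q - 1) * ∏ v ∈ Finset.range K, (q ^ 2 ^ v + 1) := Nat.mul_le_mul_left _ (h1.trans hprod.le)
      _ ≤ q ^ 2 ^ K := by rw [← telescope q (by omega) K]; exact Nat.le_succ _
  exact Nat.le_of_mul_le_mul_left h2 (pow_pos (by omega) _)

/-- The two-part of a number. -/
def two_part (d : ℕ) : ℕ := 2 ^ d.factorization 2

theorem two_part_le {d : ℕ} (hd : 0 < d) : two_part d ≤ d := Nat.le_of_dvd hd (Nat.ordProj_dvd d 2)

theorem pow_add_one_dvd (q : ℕ) {d : ℕ} (hd : 0 < d) : q ^ two_part d + 1 ∣ q ^ d + 1 := by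
  have hodd : Odd (d / 2 ^ d.factorization 2) := by
    rw [← Nat.not_even_iff_odd, even_iff_two_dvd]
    exact Nat.not_dvd_ordCompl Nat.prime_two hd.ne'
  have h := hodd.nat_add_dvd_pow_add_pow (x := q ^ two_part d) (y := 1)
  rwa [one_pow, ← pow_mul, two_part, Nat.ordProj_mul_ordCompl_eq_self] at h

theorem lcm_plus_bound {q : ℕ} (hq : 2 ≤ q) (S : Finset ℕ) (hS : ∀ d ∈ S, 0 < d) :
    (S.lcm fun d => q ^ d + 1) * q ^ (∑ a ∈ S.image two_part, a) ≤
      q ^ (∑ d ∈ S, d) * ∏ a ∈ S.image two_part, (q ^ a + 1) := by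
  classical
  induction S using Finset.induction with
  | empty => simp
  | insert d S hd ih =>
    have ih := ih fun x hx => hS x (Finset.mem_insert_of_mem hx)
    have hd0 := hS d (Finset.mem_insert_self _ _)
    set a := two_part d with ha
    have hq1 : 1 ≤ q ^ d := Nat.one_le_pow _ _ (by omega)
    rw [Finset.lcm_insert, Finset.sum_insert hd, Finset.image_insert, ← ha]
    set L := S.lcm fun d => q ^ d + 1 with hL
    have hLdef : GCDMonoid.lcm (q ^ d + 1) L = Nat.lcm (q ^ d + 1) L := rfl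
    rw [hLdef, pow_add]
    by_cases hmem : a ∈ S.image two_part
    · rw [Finset.insert_eq_of_mem hmem]
      obtain ⟨d', hd', hda⟩ := Finset.mem_image.mp hmem
      have hgL : q ^ a + 1 ∣ L := by
        rw [← hda]
        exact (pow_add_one_dvd q (hS d' (Finset.mem_insert_of_mem hd'))).trans (Finset.dvd_lcm hd')
      have hg : q ^ a + 1 ∣ Nat.gcd (q ^ d + 1) L := Nat.dvd_gcd (pow_add_one_dvd q hd0) hgL
      have hgle : q ^ a + 1 ≤ Nat.gcd (q ^ d + 1) L :=
        Nat.le_of_dvd (Nat.gcd_pos_of_pos_left _ (by omega)) hg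
      have h1 : (q ^ a + 1) * Nat.lcm (q ^ d + 1) L ≤ (q ^ d + 1) * L :=
        (Nat.mul_le_mul_right _ hgle).trans (Nat.gcd_mul_lcm _ _).le
      have h2 : q ^ d + 1 ≤ (q ^ a + 1) * q ^ d := by
        have : 1 ≤ q ^ a * q ^ d := Nat.one_le_iff_ne_zero.mpr (by positivity)
        rw [add_mul, one_mul]; omega
      refine Nat.le_of_mul_le_mul_left ?_ (show 0 < q ^ a + 1 by positivity)
      calc (q ^ a + 1) * (Nat.lcm (q ^ d + 1) L * q ^ (∑ a ∈ S.image two_part, a))
          = (q ^ a + 1) * Nat.lcm (q ^ d + 1) L * q ^ (∑ a ∈ S.image two_part, a) := by ring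
        _ ≤ (q ^ d + 1) * L * q ^ (∑ a ∈ S.image two_part, a) := Nat.mul_le_mul_right _ h1
        _ = (q ^ d + 1) * (L * q ^ (∑ a ∈ S.image two_part, a)) := by ring
        _ ≤ (q ^ a + 1) * q ^ d * (q ^ (∑ d ∈ S, d) * ∏ a ∈ S.image two_part, (q ^ a + 1)) := Nat.mul_le_mul h2 ih
        _ = _ := by ring
    · rw [Finset.sum_insert hmem, Finset.prod_insert hmem, pow_add]
      have hL0 : 0 < L := Nat.pos_of_ne_zero fun h => by
        rw [hL, Finset.lcm_eq_zero_iff] at h
        obtain ⟨x, -, hx⟩ := h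
        simp at hx
      have h1 : Nat.lcm (q ^ d + 1) L ≤ (q ^ d + 1) * L :=
        Nat.le_of_dvd (by positivity) (Nat.lcm_dvd_mul _ _)
      have h2 : (q ^ d + 1) * q ^ a ≤ (q ^ a + 1) * q ^ d := by
        have : q ^ a ≤ q ^ d := Nat.pow_le_pow_right (by omega) (two_part_le hd0)
        rw [add_mul, add_mul, one_mul, one_mul, mul_comm (q ^ a)]; omega
      calc Nat.lcm (q ^ d + 1) L * (q ^ a * q ^ (∑ a ∈ S.image two_part, a))
          ≤ (q ^ d + 1) * L * (q ^ a * q ^ (∑ a ∈ S.image two_part, a)) := Nat.mul_le_mul_right _ h1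
        _ = (q ^ d + 1) * q ^ a * (L * q ^ (∑ a ∈ S.image two_part, a)) := by ring
        _ ≤ (q ^ a + 1) * q ^ d * (q ^ (∑ d ∈ S, d) * ∏ a ∈ S.image two_part, (q ^ a + 1)) := Nat.mul_le_mul h2 ih
        _ = _ := by ring

theorem lcm_bound {q : ℕ} (hq : 2 ≤ q) (A B : Finset ℕ) (hA : ∀ d ∈ A, 0 < d) (hB : ∀ d ∈ B, 0 < d) :
    (q - 1) * Nat.lcm (A.lcm fun d => q ^ d + 1) (B.lcm fun d => q ^ d - 1) ≤
      q ^ ((∑ d ∈ A, d) + (∑ d ∈ B, d) + 1) := by
  classical
  set L₁ := A.lcm fun d => q ^ d + 1 with h₁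
  set L₂ := B.lcm fun d => q ^ d - 1 with h₂
  have hL₂ : L₂ ≤ q ^ (∑ d ∈ B, d) := by
    have hpos : 0 < ∏ d ∈ B, (q ^ d - 1) := Finset.prod_pos fun d hd => by
      have := Nat.one_lt_pow (hB d hd).ne' (show 1 < q by omega)
      omega
    refine (Nat.le_of_dvd hpos (Finset.lcm_dvd fun d hd => Finset.dvd_prod_of_mem _ hd)).trans ?_
    rw [← Finset.prod_pow_eq_pow_sum]
    exact Finset.prod_le_prod' fun d _ => Nat.sub_le _ _
  have h0 : L₁ ≠ 0 := fun h => by
    rw [h₁, Finset.lcm_eq_zero_iff] at h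
    obtain ⟨x, -, hx⟩ := h
    simp at hx
  have h20 : L₂ ≠ 0 := fun h => by
    rw [h₂, Finset.lcm_eq_zero_iff] at h
    obtain ⟨x, hx', hx⟩ := h
    have := Nat.one_lt_pow (hB x hx').ne' (show 1 < q by omega)
    omega
  set W := A.image two_part
  have hL₁ : (q - 1) * L₁ ≤ q ^ ((∑ d ∈ A, d) + 1) := by
    have e1 := lcm_plus_bound hq A hA
    have e2 := prod_two_powers hq W (fun a ha => by
      obtain ⟨d, -, rfl⟩ := Finset.mem_image.mp ha
      exact ⟨_, rfl⟩)
    refine Nat.le_of_mul_le_mul_right ?_ (pow_pos (show 0 < q by omega) (∑ a ∈ W, a))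
    calc (q - 1) * L₁ * q ^ (∑ a ∈ W, a) = (q - 1) * (L₁ * q ^ (∑ a ∈ W, a)) := by ring
      _ ≤ (q - 1) * (q ^ (∑ d ∈ A, d) * ∏ a ∈ W, (q ^ a + 1)) := Nat.mul_le_mul_left _ e1
      _ = q ^ (∑ d ∈ A, d) * ((q - 1) * ∏ a ∈ W, (q ^ a + 1)) := by ring
      _ ≤ q ^ (∑ d ∈ A, d) * q ^ ((∑ a ∈ W, a) + 1) := Nat.mul_le_mul_left _ e2
      _ = _ := by ring
  calc (q - 1) * Nat.lcm L₁ L₂ ≤ (q - 1) * (L₁ * L₂) :=
        Nat.mul_le_mul_left _ (Nat.le_of_dvd (Nat.pos_of_ne_zero (mul_ne_zero h0 h20)) (Nat.lcm_dvd_mul _ _))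
    _ = (q - 1) * L₁ * L₂ := by ring
    _ ≤ q ^ ((∑ d ∈ A, d) + 1) * q ^ (∑ d ∈ B, d) := Nat.mul_le_mul hL₁ hL₂
    _ = _ := by ring

theorem growth_two : ∀ s : ℕ, 2 * s ≤ 2 ^ (s - 1) + 2 := by
  intro s
  rcases Nat.lt_or_ge s 3 with h | h
  · interval_cases s <;> norm_num
  induction s, h using Nat.le_induction with
  | base => norm_num
  | succ s hs ih =>
    obtain ⟨r, rfl⟩ : ∃ r, s = r + 1 := ⟨s - 1, by omega⟩
    simp only [Nat.add_sub_cancel] at ih ⊢
    rw [pow_succ]
    have : 4 ≤ 2 ^ r := le_trans (show 4 ≤ 2 ^ 2 by norm_num) (Nat.pow_le_pow_right (by norm_num) (by omega))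
    omega

theorem growth_odd {p : ℕ} (hp : 3 ≤ p) : ∀ r : ℕ, 2 * r + 1 ≤ p ^ r ∧ (2 ≤ r → 2 * r + 3 ≤ p ^ r) := by
  intro r
  induction r with
  | zero => simp
  | succ r ih =>
    rw [pow_succ]
    have h := Nat.mul_le_mul ih.1 hp
    exact ⟨by omega, fun h2 => by omega⟩

variable {F : Type*} [Field F] [Fintype F]

theorem aeval_reverse {A : Type*} [Ring A] [Algebra F A] {a b : A} (hab : a * b = 1) (hba : b * a = 1) (P : F[X]) :
    aeval a P.reverse = a ^ P.natDegree * aeval b P := by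
  set N := P.natDegree
  rw [aeval_eq_sum_range' (Nat.lt_succ_of_le (Polynomial.reverse_natDegree_le P)) a, aeval_eq_sum_range b,
    Finset.mul_sum, ← Finset.sum_range_reflect]
  refine Finset.sum_congr rfl fun i hi => ?_
  have hi' : i ≤ N := by simpa [N, Nat.lt_succ_iff] using hi
  rw [show P.natDegree + 1 - 1 - i = N - i by omega, Polynomial.coeff_reverse, Polynomial.revAt_le (by omega),
    show N - (N - i) = i by omega, mul_smul_comm]
  congr 1
  have hc : Commute a b := hab.trans hba.symm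
  calc a ^ (N - i) = a ^ (N - i) * (a * b) ^ i := by rw [hab, one_pow, mul_one]
    _ = a ^ N * b ^ i := by rw [hc.mul_pow, ← mul_assoc, ← pow_add, show N - i + i = N by omega]

theorem reverse_pow (f : F[X]) : ∀ n : ℕ, (f ^ n).reverse = f.reverse ^ n := by
  intro n
  induction n with
  | zero => rw [pow_zero, pow_zero, ← C_1, Polynomial.reverse_C]
  | succ n ih => rw [pow_succ, pow_succ, Polynomial.reverse_mul_of_domain, ih]

theorem X_pow_sub_one_dvd {a b : ℕ} (h : a ∣ b) : (X : F[X]) ^ a - 1 ∣ X ^ b - 1 := by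
  obtain ⟨c, rfl⟩ := h
  rw [pow_mul]
  exact sub_one_dvd_pow_sub_one _ _

/-- The finite field facts about an irreducible factor. -/
theorem factor_facts {f : F[X]} (hm : f.Monic) (hi : Irreducible f) (hX : ¬ f = X) (hu : ¬ (f = X - 1 ∨ f = X + 1)) :
    f ∣ X ^ (Fintype.card F ^ f.natDegree - 1) - 1 ∧
    ((f ∣ f.reverse ∧ ∃ d, 0 < d ∧ f.natDegree = 2 * d ∧ f ∣ X ^ (Fintype.card F ^ d + 1) - 1) ∨
      (¬ f ∣ f.reverse ∧ ∃ f' : F[X], f'.Monic ∧ Irreducible f' ∧ f' ≠ f ∧ f'.natDegree = f.natDegree ∧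
        ¬ (f' = X - 1 ∨ f' = X + 1) ∧ ¬ f' ∣ f'.reverse ∧ ∃ c : F, c ≠ 0 ∧ f.reverse = C c * f')) := by
  classical
  haveI : Fact (Irreducible f) := ⟨hi⟩
  haveI : Module.Finite F (AdjoinRoot f) := (AdjoinRoot.powerBasis hi.ne_zero).finite
  haveI : Finite (AdjoinRoot f) := Module.finite_of_finite F
  letI := Fintype.ofFinite (AdjoinRoot f)
  set L := AdjoinRoot f
  set α : L := AdjoinRoot.root f with hα
  have hker : ∀ P : F[X], aeval α P = 0 ↔ f ∣ P := fun P => by rw [hα, AdjoinRoot.aeval_eq, AdjoinRoot.mk_eq_zero]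
  have hfr : Module.finrank F L = f.natDegree := by
    rw [(AdjoinRoot.powerBasis hi.ne_zero).finrank, AdjoinRoot.powerBasis_dim]
  have hα0 : α ≠ 0 := fun h => hX (by
    have h1 : f ∣ X := (hker X).mp (by rw [aeval_X]; exact h)
    exact eq_of_monic_of_associated hm monic_X (hi.associated_of_dvd irreducible_X h1))
  have hsmall : ∀ c : F, α = algebraMap F L c → f = X - C c := fun c h => by
    have h1 : f ∣ X - C c := (hker _).mp (by rw [map_sub, aeval_X, aeval_C, h, sub_self])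
    exact eq_of_monic_of_associated hm (monic_X_sub_C c) (hi.associated_of_dvd (irreducible_X_sub_C c) h1)
  have hαinv : α⁻¹ ≠ α := fun h => by
    have h1 : α * α = 1 := by nth_rewrite 1 [← h]; exact inv_mul_cancel₀ hα0
    rcases mul_self_eq_one_iff.mp h1 with h2 | h2
    · exact hu (Or.inl (by rw [hsmall 1 (by rw [h2, map_one]), C_1]))
    · exact hu (Or.inr (by rw [hsmall (-1) (by rw [h2, map_neg, map_one]), map_neg, C_1, sub_neg_eq_add]))
  have hrev : ∀ P : F[X], aeval α P.reverse = 0 ↔ aeval α⁻¹ P = 0 := fun P => by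
    rw [aeval_reverse (mul_inv_cancel₀ hα0) (inv_mul_cancel₀ hα0), mul_eq_zero, or_iff_right (pow_ne_zero _ hα0)]
  have hcard : Fintype.card L = Fintype.card F ^ f.natDegree := by rw [Module.card_eq_pow_finrank (K := F), hfr]
  refine ⟨(hker _).mp ?_, ?_⟩
  · rw [map_sub, map_pow, aeval_X, map_one, ← hcard, FiniteField.pow_card_sub_one_eq_one α hα0, sub_self]
  by_cases hself : f ∣ f.reverse
  · refine Or.inl ⟨hself, ?_⟩
    have hroot : aeval α⁻¹ f = 0 := (hrev f).mp ((hker _).mpr hself)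
    let σh : L →ₐ[F] L := AdjoinRoot.liftAlgHom f (Algebra.ofId F L) α⁻¹ (by simpa [aeval_def] using hroot)
    have hσα : σh α = α⁻¹ := AdjoinRoot.liftAlgHom_root _ _ _ _
    let σ : L ≃ₐ[F] L := AlgEquiv.ofBijective σh
      ⟨RingHom.injective σh.toRingHom, Finite.injective_iff_surjective.mp (RingHom.injective σh.toRingHom)⟩
    set φ := FiniteField.frobeniusAlgEquivOfAlgebraic F L with hφ
    have hpow : ∀ (n : ℕ) (x : L), (φ ^ n) x = x ^ (Fintype.card F ^ n) := by
      intro n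
      induction n with
      | zero => intro x; simp
      | succ n ih => intro x; rw [pow_succ, AlgEquiv.mul_apply, ih, hφ, FiniteField.coe_frobeniusAlgEquivOfAlgebraic,
          ← pow_mul, ← pow_succ']
    have hb := FiniteField.bijective_frobeniusAlgEquivOfAlgebraic_pow F L
    obtain ⟨⟨j, hj⟩, hj'⟩ := hb.2 σ
    simp only at hj'
    have hjα : α ^ (Fintype.card F ^ j) = α⁻¹ := by
      rw [← hpow j α, hφ, hj']; exact hσα
    have h2j : φ ^ (2 * j) = 1 := by
      refine AlgEquiv.coe_algHom_injective (AdjoinRoot.algHom_ext ?_)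
      change (φ ^ (2 * j)) α = α
      rw [two_mul, hpow, pow_add, pow_mul, hjα, inv_pow, hjα, inv_inv]
    have hD : φ ^ f.natDegree = 1 := by
      ext x
      rw [hpow, ← hcard, FiniteField.pow_card]; rfl
    have hj0 : j ≠ 0 := fun h => by
      subst h
      rw [pow_zero, pow_one] at hjα
      exact hαinv hjα.symm
    rw [hfr] at hj
    have h2 : 2 * j = f.natDegree := by
      rcases Nat.lt_trichotomy (2 * j) f.natDegree with h | h | h
      · have := hb.1 (a₁ := ⟨2 * j, by omega⟩) (a₂ := ⟨0, by omega⟩) (by simp only [pow_zero]; rw [← hφ]; exact h2j)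
        simp only [Fin.mk.injEq] at this
        omega
      · exact h
      · have e : φ ^ (2 * j - f.natDegree) = 1 := by
          rw [← h2j]
          conv_rhs => rw [show 2 * j = 2 * j - f.natDegree + f.natDegree by omega, pow_add, hD, mul_one]
        have := hb.1 (a₁ := ⟨2 * j - f.natDegree, by omega⟩) (a₂ := ⟨0, by omega⟩)
          (by simp only [pow_zero]; rw [← hφ]; exact e)
        simp only [Fin.mk.injEq] at this
        omega
    refine ⟨j, Nat.pos_of_ne_zero hj0, h2.symm, (hker _).mp ?_⟩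
    rw [map_sub, map_pow, aeval_X, map_one, pow_succ, hjα, inv_mul_cancel₀ hα0, sub_self]
  · refine Or.inr ⟨hself, minpoly F α⁻¹, ?_⟩
    have hint : IsIntegral F α⁻¹ := IsIntegral.of_finite F _
    have hdeg : (minpoly F α⁻¹).natDegree = f.natDegree := by
      have hadj : IntermediateField.adjoin F {α⁻¹} = IntermediateField.adjoin F {α} := by
        refine le_antisymm ?_ ?_ <;> rw [IntermediateField.adjoin_simple_le_iff]
        · exact inv_mem (IntermediateField.mem_adjoin_simple_self F α)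
        · have := inv_mem (IntermediateField.mem_adjoin_simple_self F α⁻¹)
          rwa [inv_inv] at this
      rw [← IntermediateField.adjoin.finrank hint, hadj, IntermediateField.adjoin.finrank (IsIntegral.of_finite F α),
        hα, AdjoinRoot.minpoly_root hi.ne_zero, hm.leadingCoeff, inv_one, C_1, mul_one]
    have hroot' : aeval α⁻¹ f.reverse = 0 := by
      rw [aeval_reverse (inv_mul_cancel₀ hα0) (mul_inv_cancel₀ hα0), (hker f).mpr dvd_rfl, mul_zero]
    have hdvd : minpoly F α⁻¹ ∣ f.reverse := minpoly.dvd F _ hroot'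
    have hne : minpoly F α⁻¹ ≠ f := fun e => hself ((hker _).mp ((hrev f).mpr (by
      have h := minpoly.aeval F α⁻¹
      rwa [e] at h)))
    refine ⟨minpoly.monic hint, minpoly.irreducible hint, hne, hdeg, ?_, ?_, ⟨f.reverse.leadingCoeff, ?_, ?_⟩⟩
    · rintro (e | e)
      · have h1 := minpoly.aeval F α⁻¹
        rw [e, map_sub, aeval_X, map_one, sub_eq_zero, inv_eq_one] at h1
        exact hu (Or.inl (by rw [hsmall 1 (by rw [h1, map_one]), C_1]))
      · have h1 := minpoly.aeval F α⁻¹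
        rw [e, map_add, aeval_X, map_one, add_eq_zero_iff_eq_neg, inv_eq_iff_eq_inv, inv_neg, inv_one] at h1
        exact hu (Or.inr (by rw [hsmall (-1) (by rw [h1, map_neg, map_one]), map_neg, C_1, sub_neg_eq_add]))
    · intro hs
      have h1 : aeval α⁻¹ (minpoly F α⁻¹).reverse = 0 := by
        obtain ⟨r, hr⟩ := hs
        rw [hr, map_mul, minpoly.aeval, zero_mul]
      rw [aeval_reverse (inv_mul_cancel₀ hα0) (mul_inv_cancel₀ hα0), mul_eq_zero,
        or_iff_right (pow_ne_zero _ (inv_ne_zero hα0)), hker] at h1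
      exact hne (eq_of_monic_of_associated (minpoly.monic hint) hm
        (hi.associated_of_dvd (minpoly.irreducible hint) h1).symm)
    · exact leadingCoeff_ne_zero.mpr fun h => hi.ne_zero (Polynomial.reverse_eq_zero.mp h)
    · exact Polynomial.eq_leadingCoeff_mul_of_monic_of_dvd_of_natDegree_le (minpoly.monic hint) hdvd
        ((Polynomial.reverse_natDegree_le f).trans hdeg.ge)

theorem sum_image_bound {ι : Type*} (S : Finset ι) (D : ι → ℕ) (k : ℕ)
    (h : ∀ d ∈ S.image D, k ≤ (S.filter fun i => D i = d).card) :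
    k * ∑ d ∈ S.image D, d ≤ ∑ i ∈ S, D i := by
  rw [show ∑ i ∈ S, D i = _ from Finset.sum_comp id D, Finset.mul_sum]
  exact Finset.sum_le_sum fun d hd => by rw [smul_eq_mul]; exact Nat.mul_le_mul_right _ (h d hd)

variable {V : Type*} [AddCommGroup V] [Module F V] [FiniteDimensional F V]

/-- The data attached to the minimal polynomial of an isometry. -/
theorem minpoly_data (B : V →ₗ[F] V →ₗ[F] F) (hB : ∀ w, (∀ u, B u w = 0) → w = 0) (g : Module.End F V)
    (hg : ∀ u v, B (g u) (g v) = B u v) :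
    (minpoly F g).coeff 0 ≠ 0 ∧ ∃ c : F, c ≠ 0 ∧ (minpoly F g).reverse = C c * minpoly F g := by
  have hinj : Function.Injective g := by
    rw [← LinearMap.ker_eq_bot, LinearMap.ker_eq_bot']
    exact fun w hw => hB w fun u => by rw [← hg u w, hw, map_zero]
  have hu : IsUnit g := (Module.End.isUnit_iff g).mpr ⟨hinj, LinearMap.injective_iff_surjective.mp hinj⟩
  obtain ⟨u, hu'⟩ := hu
  set h : Module.End F V := ((u⁻¹ : (Module.End F V)ˣ) : Module.End F V)
  have hgh : g * h = 1 := by rw [← hu']; exact u.mul_inv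
  have hhg : h * g = 1 := by rw [← hu']; exact u.inv_mul
  have hpow : ∀ (i : ℕ) (v w : V), B ((g ^ i) v) w = B v ((h ^ i) w) := by
    intro i
    induction i with
    | zero => intro v w; simp
    | succ i ih =>
      intro v w
      have e : B (g ((g ^ i) v)) w = B ((g ^ i) v) (h w) := by
        conv_lhs => rw [show w = g (h w) by rw [← Module.End.mul_apply, hgh, Module.End.one_apply]]
        exact hg _ _
      rw [pow_succ', pow_succ, Module.End.mul_apply, Module.End.mul_apply, e, ih]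
  have hadj : ∀ (P : F[X]) (v w : V), B (aeval g P v) w = B v (aeval h P w) := by
    intro P
    induction P using Polynomial.induction_on' with
    | add a b ha hb => intro v w; simp [ha, hb]
    | monomial i a =>
      intro v w
      simp [aeval_monomial, Module.algebraMap_end_apply, hpow]
  set μ := minpoly F g with hμ
  have hint : IsIntegral F g := IsIntegral.of_finite F g
  have h1 : aeval h μ = 0 := LinearMap.ext fun w => hB _ fun v => by
    rw [← hadj, hμ, minpoly.aeval]; simp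
  have h2 : μ ∣ μ.reverse := minpoly.dvd F g (by rw [aeval_reverse hgh hhg, h1, mul_zero])
  have h0 : μ.coeff 0 ≠ 0 := fun hc => by
    obtain ⟨r, hr⟩ := X_dvd_iff.mpr hc
    have hr0 : r ≠ 0 := fun e => minpoly.ne_zero hint (by rw [← hμ, hr, e, mul_zero])
    have hg0 : g * aeval g r = 0 := by
      have := minpoly.aeval F g
      rwa [← hμ, hr, map_mul, aeval_X] at this
    have hzero : aeval g r = 0 := by
      calc aeval g r = h * (g * aeval g r) := by rw [← mul_assoc, hhg, one_mul]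
        _ = 0 := by rw [hg0, mul_zero]
    have hd := natDegree_le_of_dvd (minpoly.dvd F g hzero) hr0
    rw [← hμ, hr, natDegree_mul X_ne_zero hr0, natDegree_X] at hd
    omega
  refine ⟨h0, μ.reverse.leadingCoeff, ?_, ?_⟩
  · exact leadingCoeff_ne_zero.mpr fun e => minpoly.ne_zero hint (Polynomial.reverse_eq_zero.mp e)
  · exact Polynomial.eq_leadingCoeff_mul_of_monic_of_dvd_of_natDegree_le (minpoly.monic hint) h2
      (Polynomial.reverse_natDegree_le μ)

/-- The bound on the order of an isometry modulo signs. -/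
theorem order_bound {p : ℕ} [Fact p.Prime] [CharP F p] {m : ℕ}
    (B : V →ₗ[F] V →ₗ[F] F) (hB : ∀ w, (∀ u, B u w = 0) → w = 0) (g : Module.End F V)
    (hg : ∀ u v, B (g u) (g v) = B u v)
    (hdim : Module.finrank F V ≤ 2 * m ∨ (3 ≤ m ∧ (2 : F) ≠ 0 ∧ Module.finrank F V ≤ 2 * m + 1)) :
    ∃ N, 0 < N ∧ (Fintype.card F - 1) * N ≤ Fintype.card F ^ (m + 1) ∧ (g ^ N = 1 ∨ g ^ N = -1) := by
  classical
  set q := Fintype.card F with hqdef
  have hq : 2 ≤ q := Fintype.one_lt_card
  have hp : p.Prime := Fact.out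
  obtain ⟨⟨n', hn'⟩, hnp, hqp⟩ := FiniteField.card F p
  have hpq : p ≤ q := by rw [hqdef, hqp]; exact Nat.le_self_pow (by simp only [PNat.mk_coe]; omega) p
  obtain ⟨hc0, c, hc, hrev⟩ := minpoly_data B hB g hg
  set μ := minpoly F g with hμdef
  have hμm : μ.Monic := minpoly.monic (IsIntegral.of_finite F g)
  have hμ0 : μ ≠ 0 := hμm.ne_zero
  have hdeg : μ.natDegree ≤ Module.finrank F V := by
    rw [← LinearMap.charpoly_natDegree g]
    exact natDegree_le_of_dvd (LinearMap.minpoly_dvd_charpoly g) g.charpoly_monic.ne_zero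
  set M := normalizedFactors μ with hM
  set S := M.toFinset with hS
  set e : F[X] → ℕ := fun f => M.count f with he
  have hSi : ∀ f ∈ S, Irreducible f := fun f hf => irreducible_of_normalized_factor f (Multiset.mem_toFinset.mp hf)
  have hSm : ∀ f ∈ S, f.Monic := fun f hf => by
    rw [← normalize_normalized_factor f (Multiset.mem_toFinset.mp hf)]
    exact Polynomial.monic_normalize (hSi f hf).ne_zero
  have hSX : ∀ f ∈ S, ¬ f = X := fun f hf h => hc0 (X_dvd_iff.mp (h ▸ dvd_of_mem_normalizedFactors (Multiset.mem_toFinset.mp hf)))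
  have hμprod : μ = ∏ f ∈ S, f ^ e f := by
    have h1 : Associated M.prod μ := prod_normalizedFactors hμ0
    rw [Finset.prod_multiset_count] at h1
    exact (eq_of_monic_of_associated (monic_prod_of_monic _ _ fun f hf => (hSm f hf).pow _) hμm h1).symm
  have he1 : ∀ f ∈ S, 1 ≤ e f := fun f hf => Multiset.one_le_count_iff_mem.mpr (Multiset.mem_toFinset.mp hf)
  have hdsum : ∑ f ∈ S, e f * f.natDegree ≤ Module.finrank F V := by
    refine le_trans (le_of_eq ?_) hdeg
    conv_rhs => rw [hμprod]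
    rw [natDegree_prod_of_monic _ _ fun f hf => (hSm f hf).pow _]
    exact Finset.sum_congr rfl fun f hf => by rw [(hSm f hf).natDegree_pow]
  -- the partner of a factor
  have hpartner : ∀ f ∈ S, ∀ f' : F[X], f'.Monic → Irreducible f' → (∃ a : F, a ≠ 0 ∧ f.reverse = C a * f') →
      f' ∈ S ∧ e f ≤ e f' := by
    rintro f hf f' hm' hi' ⟨a, ha, hff⟩
    have h1 : f ^ e f ∣ μ := by rw [hμprod]; exact Finset.dvd_prod_of_mem _ hf
    have h2 : f' ^ e f ∣ μ := by
      obtain ⟨r, hr⟩ := h1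
      have h3 : f.reverse ^ e f ∣ μ.reverse := ⟨r.reverse, by rw [hr, Polynomial.reverse_mul_of_domain, reverse_pow]⟩
      rw [hrev, hff, mul_pow] at h3
      exact (IsUnit.dvd_mul_left (isUnit_C.mpr hc.isUnit)).mp (dvd_of_mul_left_dvd h3)
    have h4 := (dvd_iff_normalizedFactors_le_normalizedFactors (pow_ne_zero _ hi'.ne_zero) hμ0).mp h2
    rw [normalizedFactors_pow, normalizedFactors_irreducible hi', hm'.normalize_eq_self, Multiset.nsmul_singleton] at h4
    have h5 := Multiset.count_le_of_le f' h4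
    rw [Multiset.count_replicate_self] at h5
    exact ⟨Multiset.mem_toFinset.mpr (Multiset.one_le_count_iff_mem.mp ((he1 f hf).trans h5)), h5⟩
  -- the three kinds of factors
  set U := S.filter fun f => f = X - 1 ∨ f = X + 1 with hUdef
  set R := S.filter fun f => ¬ (f = X - 1 ∨ f = X + 1) with hRdef
  set Ss := R.filter fun f => f ∣ f.reverse with hSsdef
  set Sp := R.filter fun f => ¬ f ∣ f.reverse with hSpdef
  set A := Ss.image (fun f => f.natDegree / 2) with hAdef
  set B' := Sp.image (fun f => f.natDegree) with hBdef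
  have hR : ∀ f ∈ R, f ∈ S ∧ ¬ (f = X - 1 ∨ f = X + 1) := fun f hf => Finset.mem_filter.mp hf
  have hfacts := fun f (hf : f ∈ R) => factor_facts (hSm f (hR f hf).1) (hSi f (hR f hf).1) (hSX f (hR f hf).1) (hR f hf).2
  have hself : ∀ f ∈ Ss, ∃ d, 0 < d ∧ f.natDegree = 2 * d ∧ f ∣ X ^ (q ^ d + 1) - 1 := fun f hf => by
    obtain ⟨hfR, hs⟩ := Finset.mem_filter.mp hf
    rcases (hfacts f hfR).2 with ⟨-, h⟩ | ⟨h, -⟩
    · exact h
    · exact absurd hs h
  have hpair : ∀ f ∈ Sp, ∃ f' ∈ Sp, f' ≠ f ∧ f'.natDegree = f.natDegree ∧ e f ≤ e f' := fun f hf => by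
    obtain ⟨hfR, hs⟩ := Finset.mem_filter.mp hf
    rcases (hfacts f hfR).2 with ⟨h, -⟩ | ⟨-, f', hm', hi', hne, hd, hu', hs', hc'⟩
    · exact absurd h hs
    · obtain ⟨hmem, hle⟩ := hpartner f (hR f hfR).1 f' hm' hi' hc'
      exact ⟨f', Finset.mem_filter.mpr ⟨Finset.mem_filter.mpr ⟨hmem, hu'⟩, hs'⟩, hne, hd, hle⟩
  have hA : ∀ d ∈ A, 0 < d := fun d hd => by
    obtain ⟨f, hf, rfl⟩ := Finset.mem_image.mp hd
    obtain ⟨d', h1, h2, -⟩ := hself f hf
    omega
  have hB' : ∀ d ∈ B', 0 < d := fun d hd => by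
    obtain ⟨f, hf, rfl⟩ := Finset.mem_image.mp hd
    exact (hSi f (hR f (Finset.mem_filter.mp hf).1).1).natDegree_pos
  set σ := (∑ d ∈ A, d) + ∑ d ∈ B', d with hσ
  have hsumA : 2 * ∑ d ∈ A, d ≤ ∑ f ∈ Ss, f.natDegree := by
    have h1 := sum_image_bound Ss (fun f => f.natDegree / 2) 1 (fun d hd => by
      obtain ⟨f, hf, hfd⟩ := Finset.mem_image.mp hd
      exact Finset.card_pos.mpr ⟨f, Finset.mem_filter.mpr ⟨hf, hfd⟩⟩)
    rw [one_mul] at h1
    refine (Nat.mul_le_mul_left 2 h1).trans ?_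
    rw [Finset.mul_sum]
    exact Finset.sum_le_sum fun f _ => Nat.mul_div_le _ _
  have hsumB : 2 * ∑ d ∈ B', d ≤ ∑ f ∈ Sp, f.natDegree := sum_image_bound Sp _ 2 (fun d hd => by
    obtain ⟨f, hf, hfd⟩ := Finset.mem_image.mp hd
    obtain ⟨f', hf', hne, hd', -⟩ := hpair f hf
    exact Finset.one_lt_card.mpr ⟨f, Finset.mem_filter.mpr ⟨hf, hfd⟩, f', Finset.mem_filter.mpr ⟨hf', hd'.trans hfd⟩, hne.symm⟩)
  have hUcard : ∑ f ∈ U, f.natDegree = U.card := by
    rw [Finset.card_eq_sum_ones]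
    refine Finset.sum_congr rfl fun f hf => ?_
    rcases (Finset.mem_filter.mp hf).2 with rfl | rfl
    · rw [← C_1, natDegree_X_sub_C]
    · rw [← C_1, natDegree_X_add_C]
  have hsplit : ∑ f ∈ U, f.natDegree + (∑ f ∈ Ss, f.natDegree + ∑ f ∈ Sp, f.natDegree) = ∑ f ∈ S, f.natDegree := by
    rw [hSsdef, hSpdef, Finset.sum_filter_add_sum_filter_not, hUdef, hRdef, Finset.sum_filter_add_sum_filter_not]
  -- the largest multiplicity
  set E := S.sup e with hE
  set X' := ∑ f ∈ S, (e f - 1) * f.natDegree with hX'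
  have hbudget : U.card + 2 * σ + X' ≤ Module.finrank F V := by
    have h1 : ∑ f ∈ S, e f * f.natDegree = ∑ f ∈ S, f.natDegree + X' := by
      rw [hX', ← Finset.sum_add_distrib]
      refine Finset.sum_congr rfl fun f hf => ?_
      obtain ⟨r, hr⟩ : ∃ r, e f = r + 1 := ⟨e f - 1, by have := he1 f hf; omega⟩
      rw [hr, Nat.add_sub_cancel]; ring
    omega
  have hextra : E ≤ 1 ∨ ((1 ≤ U.card ∧ E - 1 ≤ X') ∨ 2 * (E - 1) ≤ X') := by
    by_cases hne : S.Nonempty
    · obtain ⟨f, hf, hfE⟩ := Finset.exists_mem_eq_sup S hne e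
      right
      by_cases hu : f = X - 1 ∨ f = X + 1
      · refine Or.inl ⟨Finset.card_pos.mpr ⟨f, Finset.mem_filter.mpr ⟨hf, hu⟩⟩, ?_⟩
        refine le_trans ?_ (Finset.single_le_sum (fun x _ => Nat.zero_le _) hf)
        rw [hE, hfE]
        exact Nat.le_mul_of_pos_right _ (hSi f hf).natDegree_pos
      · right
        have hfR : f ∈ R := Finset.mem_filter.mpr ⟨hf, hu⟩
        by_cases hs : f ∣ f.reverse
        · obtain ⟨d, hd, hfd, -⟩ := hself f (Finset.mem_filter.mpr ⟨hfR, hs⟩)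
          refine le_trans ?_ (Finset.single_le_sum (fun x _ => Nat.zero_le _) hf)
          rw [hE, hfE, hfd, mul_comm 2]
          exact Nat.mul_le_mul_left _ (by omega)
        · obtain ⟨f', hf', hne', hd', hle⟩ := hpair f (Finset.mem_filter.mpr ⟨hfR, hs⟩)
          have hf'S := (hR f' (Finset.mem_filter.mp hf').1).1
          have hsub : ({f, f'} : Finset F[X]) ⊆ S := by
            intro x hx
            rcases Finset.mem_insert.mp hx with rfl | hx
            · exact hf
            · rw [Finset.mem_singleton.mp hx]; exact hf'S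
          refine le_trans ?_ (Finset.sum_le_sum_of_subset hsub)
          rw [Finset.sum_pair hne'.symm, hE, hfE, hd']
          have h1 := (hSi f hf).natDegree_pos
          have h2 : e f - 1 ≤ (e f - 1) * f.natDegree := Nat.le_mul_of_pos_right _ h1
          have h3 : e f' - 1 ≤ (e f' - 1) * f.natDegree := Nat.le_mul_of_pos_right _ h1
          omega
    · left; rw [hE, Finset.not_nonempty_iff_eq_empty.mp hne]; simp
  set s := Nat.clog p E with hs
  have hEs : E ≤ p ^ s := Nat.le_pow_clog hp.one_lt E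
  have hsE : 1 ≤ s → p ^ (s - 1) < E := fun h => by
    have hE1 : 1 < E := by
      by_contra hle
      push Not at hle
      rw [hs, Nat.clog_of_right_le_one hle] at h
      omega
    have := Nat.pow_pred_clog_lt_self hp.one_lt hE1
    rwa [Nat.pred_eq_sub_one, ← hs] at this
  have hp2 : p = 2 → (2 : F) = 0 := fun h => by
    have := CharP.cast_eq_zero F p
    rw [h] at this
    exact_mod_cast this
  -- the exponent fits in the remaining dimension
  have hst : σ + s ≤ m := by
    rcases Nat.eq_zero_or_pos s with h | h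
    · rcases hdim with hd | ⟨-, -, hd⟩ <;> omega
    have hP := hsE h
    have h2 := growth_two s
    rcases Nat.lt_or_ge p 3 with hp3 | hp3
    · have hp' : p = 2 := by have := hp.two_le; omega
      subst hp'
      have := Nat.one_le_two_pow (n := s - 1)
      rcases hdim with hd | ⟨-, h2', -⟩
      · omega
      · exact absurd (hp2 rfl) h2'
    · have h3 := (growth_odd hp3 (s - 1)).1
      rcases hdim with hd | ⟨-, -, hd⟩ <;> omega
  set L := Nat.lcm (A.lcm fun d => q ^ d + 1) (B'.lcm fun d => q ^ d - 1) with hLdef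
  have hL : (q - 1) * L ≤ q ^ (σ + 1) := lcm_bound hq A B' hA hB'
  have hL0 : 0 < L := by
    rw [hLdef]
    refine Nat.pos_of_ne_zero (Nat.lcm_ne_zero ?_ ?_)
    · intro h; rw [Finset.lcm_eq_zero_iff] at h; obtain ⟨x, -, hx⟩ := h; simp at hx
    · intro h; rw [Finset.lcm_eq_zero_iff] at h; obtain ⟨x, hx', hx⟩ := h
      have := Nat.one_lt_pow (hB' x hx').ne' (show 1 < q by omega)
      omega
  have hbound : (q - 1) * (L * p ^ s) ≤ q ^ (m + 1) := by
    calc (q - 1) * (L * p ^ s) = (q - 1) * L * p ^ s := by ring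
      _ ≤ q ^ (σ + 1) * q ^ s := Nat.mul_le_mul hL (Nat.pow_le_pow_left hpq s)
      _ = q ^ (σ + 1 + s) := (pow_add _ _ _).symm
      _ ≤ _ := Nat.pow_le_pow_right (by omega) (by omega)
  have hRdvd : ∀ f ∈ R, f ∣ X ^ L - 1 := fun f hf => by
    by_cases hs' : f ∣ f.reverse
    · have hfS : f ∈ Ss := Finset.mem_filter.mpr ⟨hf, hs'⟩
      obtain ⟨d, hd, hfd, hdvd⟩ := hself f hfS
      refine hdvd.trans (X_pow_sub_one_dvd ((Finset.dvd_lcm (f := fun d => q ^ d + 1) ?_).trans (Nat.dvd_lcm_left _ _)))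
      exact Finset.mem_image.mpr ⟨f, hfS, by omega⟩
    · refine (hfacts f hf).1.trans (X_pow_sub_one_dvd ((Finset.dvd_lcm (f := fun d => q ^ d - 1) ?_).trans
        (Nat.dvd_lcm_right _ _)))
      exact Finset.mem_image.mpr ⟨f, Finset.mem_filter.mpr ⟨hf, hs'⟩, rfl⟩
  have hcop : (S : Set F[X]).Pairwise (fun a b => IsCoprime (a ^ e a) (b ^ e b)) := fun a ha b hb hab => by
    refine IsCoprime.pow ((hSi a ha).coprime_iff_not_dvd.mpr fun h => hab ?_)
    exact eq_of_monic_of_associated (hSm a ha) (hSm b hb) ((hSi a ha).associated_of_dvd (hSi b hb) h)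
  have hkill : ∀ P : F[X], (∀ f ∈ S, f ∣ P) → aeval g (P ^ p ^ s) = 0 := fun P hP => by
    obtain ⟨r, hr⟩ : μ ∣ P ^ p ^ s := by
      rw [hμprod]
      exact Finset.prod_dvd_of_coprime hcop fun f hf =>
        (pow_dvd_pow_of_dvd (hP f hf) _).trans (pow_dvd_pow _ ((Finset.le_sup hf).trans hEs))
    rw [hr, map_mul, hμdef, minpoly.aeval, zero_mul]
  have hone : ∀ N : ℕ, (∀ f ∈ S, f ∣ X ^ N - 1) → g ^ (N * p ^ s) = 1 := fun N hN => by
    have h1 := hkill _ hN
    rw [sub_pow_char_pow, one_pow, map_sub, map_pow, map_pow, aeval_X, map_one, ← pow_mul] at h1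
    exact sub_eq_zero.mp h1
  have hUdvd : ∀ N : ℕ, (Even N ∨ (2 : F) = 0) → ∀ f ∈ U, f ∣ X ^ N - 1 := fun N hN f hf => by
    rcases (Finset.mem_filter.mp hf).2 with rfl | rfl
    · exact sub_one_dvd_pow_sub_one _ _
    · rcases hN with hev | h2
      · have e1 : (X + 1 : F[X]) = X - C (-1) := by rw [map_neg, C_1, sub_neg_eq_add]
        rw [e1, dvd_iff_isRoot]
        simp [hev.neg_one_pow]
      · have e1 : (X + 1 : F[X]) = X - 1 := by
          have : (1 : F[X]) + 1 = 0 := by rw [← C_1, ← C_add, one_add_one_eq_two, h2, map_zero]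
          linear_combination this
        rw [e1]
        exact sub_one_dvd_pow_sub_one _ _
  have hSsplit : ∀ f ∈ S, f ∈ U ∨ f ∈ R := fun f hf => by
    by_cases h : f = X - 1 ∨ f = X + 1
    · exact Or.inl (Finset.mem_filter.mpr ⟨hf, h⟩)
    · exact Or.inr (Finset.mem_filter.mpr ⟨hf, h⟩)
  by_cases hgood : X + 1 ∉ S ∨ Even L ∨ (2 : F) = 0
  · refine ⟨L * p ^ s, Nat.mul_pos hL0 (pow_pos hp.pos _), hbound, Or.inl (hone L fun f hf => ?_)⟩
    rcases hSsplit f hf with h | h
    · rcases hgood with hg' | hg'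
      · rcases (Finset.mem_filter.mp h).2 with rfl | rfl
        · exact sub_one_dvd_pow_sub_one _ _
        · exact absurd hf hg'
      · exact hUdvd L hg' f h
    · exact hRdvd f h
  push Not at hgood
  obtain ⟨hmem, hodd, h2⟩ := hgood
  have hqodd : Odd q := by
    rw [hqdef, hqp]
    exact Odd.pow (hp.eq_two_or_odd'.resolve_left fun h => h2 (hp2 h))
  have hAe : A = ∅ := Finset.eq_empty_of_forall_notMem fun d hd => hodd <| even_iff_two_dvd.mpr <|
    ((Odd.pow hqodd).add_odd odd_one).two_dvd.trans ((Finset.dvd_lcm hd).trans (Nat.dvd_lcm_left _ _))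
  have hBe : B' = ∅ := Finset.eq_empty_of_forall_notMem fun d hd => hodd <| even_iff_two_dvd.mpr <|
    (Nat.Odd.sub_odd (Odd.pow hqodd) odd_one).two_dvd.trans
      ((Finset.dvd_lcm (f := fun d => q ^ d - 1) hd).trans (Nat.dvd_lcm_right _ _))
  have hRe : R = ∅ := Finset.eq_empty_of_forall_notMem fun f hf => by
    by_cases hs' : f ∣ f.reverse
    · have h := Finset.mem_image_of_mem (fun f => f.natDegree / 2) (show f ∈ Ss from Finset.mem_filter.mpr ⟨hf, hs'⟩)
      rw [← hAdef, hAe] at h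
      exact Finset.notMem_empty _ h
    · have h := Finset.mem_image_of_mem (fun f : F[X] => f.natDegree) (show f ∈ Sp from Finset.mem_filter.mpr ⟨hf, hs'⟩)
      rw [← hBdef, hBe] at h
      exact Finset.notMem_empty _ h
  have hσ0 : σ = 0 := by rw [hσ, hAe, hBe]; simp
  have hU : ∀ f ∈ S, f ∈ U := fun f hf => (hSsplit f hf).resolve_right (by rw [hRe]; simp)
  by_cases hmem1 : X - 1 ∈ S
  · refine ⟨2 * p ^ s, Nat.mul_pos two_pos (pow_pos hp.pos _), ?_, Or.inl (hone 2 fun f hf => hUdvd 2 (Or.inl even_two) f (hU f hf))⟩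
    have hm1 : X - 1 ≠ (X + 1 : F[X]) := fun h => by
      have := congrArg (fun P : F[X] => P.coeff 0) h
      simp at this
      exact h2 (by linear_combination -this)
    have hUc : 2 ≤ U.card := Finset.one_lt_card.mpr ⟨_, hU _ hmem1, _, hU _ hmem, hm1⟩
    have hp3 : 3 ≤ p := by
      have := hp.two_le
      rcases Nat.lt_or_ge p 3 with h | h
      · exact absurd (hp2 (by omega)) h2
      · exact h
    have hm' : s + 1 ≤ m ∨ s = 0 := by
      rcases Nat.eq_zero_or_pos s with h | h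
      · exact Or.inr h
      refine Or.inl ?_
      have hP := hsE h
      have h3 := growth_odd hp3 (s - 1)
      rcases hdim with hd | ⟨hm3, -, hd⟩
      · omega
      · rcases Nat.lt_or_ge s 3 with h4 | h4
        · omega
        · have := h3.2 (by omega); omega
    rcases hm' with hm' | hs0
    · calc (q - 1) * (2 * p ^ s) ≤ q * (q * q ^ s) :=
            Nat.mul_le_mul (Nat.sub_le _ _) (Nat.mul_le_mul hq (Nat.pow_le_pow_left hpq s))
        _ = q ^ (s + 1 + 1) := by ring
        _ ≤ _ := Nat.pow_le_pow_right (by omega) (by omega)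
    · have : 1 ≤ m := by omega
      rw [hs0, pow_zero, mul_one]
      calc (q - 1) * 2 ≤ q * q := Nat.mul_le_mul (Nat.sub_le _ _) hq
        _ = q ^ 2 := (sq q).symm
        _ ≤ _ := Nat.pow_le_pow_right (by omega) (by omega)
  · refine ⟨p ^ s, pow_pos hp.pos _, ?_, Or.inr ?_⟩
    · exact le_trans (Nat.mul_le_mul_left _ (Nat.le_mul_of_pos_left _ hL0)) hbound
    · have h1 := hkill (X + 1) fun f hf => by
        rcases (Finset.mem_filter.mp (hU f hf)).2 with rfl | rfl
        · exact absurd hf hmem1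
        · exact dvd_rfl
      rw [add_pow_char_pow, one_pow, map_add, map_pow, aeval_X, map_one] at h1
      exact add_eq_zero_iff_eq_neg.mp h1

end Cfsg.Agent.Classical.OrderBound
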