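import Cfsg.Agent.Lib.Classical.KleinPSL
import Cfsg.Agent.Lib.Small.SL2.Orders

/-!
# `PΩ₃ ≅ PSL₂` and `PΩ⁺₄ ≅ PSL₂ × PSL₂`

`SL₂` acts by conjugation on trace-zero matrices, and `SL₂ × SL₂` by `X ↦ g X hᵀ` on all of them;
in both cases the determinant is the quadratic form.
-/

set_option autoImplicit false
set_option linter.unusedSectionVars false

namespace Cfsg.Agent.Classical.SmallIso

open Module Matrix QuadraticMap ORefl OOmega

variable {F : Type*} [Field F]

local notation "SL2" => Matrix.SpecialLinearGroup (Fin 2) F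

/-- The upper transvection. -/
def up (c : F) : SL2 := ⟨!![1, c; 0, 1], by simp [Matrix.det_fin_two]⟩

/-- The lower transvection. -/
def lo (c : F) : SL2 := ⟨!![1, 0; c, 1], by simp [Matrix.det_fin_two]⟩

theorem up_val (c : F) : (up c).1 = !![1, c; 0, 1] := rfl

theorem lo_val (c : F) : (lo c).1 = !![1, 0; c, 1] := rfl

/-- The diagonal matrices. -/
def dg {a : F} (ha : a ≠ 0) : SL2 := ⟨!![a, 0; 0, a⁻¹], by simp [Matrix.det_fin_two, ha]⟩

theorem dg_val {a : F} (ha : a ≠ 0) : (dg ha).1 = !![a, 0; 0, a⁻¹] := rfl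

theorem gen_eq : Subgroup.closure (Set.range (up (F := F)) ∪ Set.range (lo (F := F))) = ⊤ := by
  rw [eq_top_iff, ← Cfsg.Agent.Classical.sl_closure_transvections (F := F) (ι := Fin 2)]
  refine Subgroup.closure_mono ?_
  rintro g ⟨i, j, hij, c, rfl⟩
  fin_cases i <;> fin_cases j <;> first
    | exact absurd rfl hij
    | (refine Or.inl ⟨c, Subtype.ext ?_⟩
       ext a b
       fin_cases a <;> fin_cases b <;>
         simp [up, Matrix.SpecialLinearGroup.transvection_coe, Matrix.single, Matrix.one_apply]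
       done)
    | (refine Or.inr ⟨c, Subtype.ext ?_⟩
       ext a b
       fin_cases a <;> fin_cases b <;>
         simp [lo, Matrix.SpecialLinearGroup.transvection_coe, Matrix.single, Matrix.one_apply])

theorem up_mul (c d : F) : up c * up d = up (c + d) := Subtype.ext (by
  ext a b; fin_cases a <;> fin_cases b <;> simp [Matrix.SpecialLinearGroup.coe_mul, up_val, Matrix.mul_apply, Fin.sum_univ_two, add_comm])

theorem lo_mul (c d : F) : lo c * lo d = lo (c + d) := Subtype.ext (by
  ext a b; fin_cases a <;> fin_cases b <;> simp [Matrix.SpecialLinearGroup.coe_mul, lo_val, Matrix.mul_apply, Fin.sum_univ_two, add_comm])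

theorem up_zero : up (0 : F) = 1 := Subtype.ext (by ext a b; fin_cases a <;> fin_cases b <;> simp [up])

theorem lo_zero : lo (0 : F) = 1 := Subtype.ext (by ext a b; fin_cases a <;> fin_cases b <;> simp [lo])

theorem conj_up {a : F} (ha : a ≠ 0) (c : F) : dg ha * up c = up (a * a * c) * dg ha := Subtype.ext (by
  ext i j; fin_cases i <;> fin_cases j <;> simp [Matrix.SpecialLinearGroup.coe_mul, up_val, dg_val, Matrix.mul_apply, Fin.sum_univ_two]
  field_simp)

theorem conj_lo {a : F} (ha : a ≠ 0) (c : F) : lo c * dg ha = dg ha * lo (a * a * c) := Subtype.ext (by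
  ext i j; fin_cases i <;> fin_cases j <;> simp [Matrix.SpecialLinearGroup.coe_mul, lo_val, dg_val, Matrix.mul_apply, Fin.sum_univ_two]
  field_simp)

/-- A homomorphism of `SL₂` into a commutative group with squares trivial is trivial, `q ≥ 3`. -/
theorem hom_eq_one [Fintype F] (hq : 3 ≤ Fintype.card F) {M : Type*} [CommGroup M] (f : SL2 →* M)
    (h2 : ∀ x : SL2, f x * f x = 1) (g : SL2) : f g = 1 := by
  classical
  have hu : ∀ c, f (up c) = 1 ∧ f (lo c) = 1 := by
    by_cases h : ∃ a : F, a ≠ 0 ∧ a * a ≠ 1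
    · obtain ⟨a, ha, ha2⟩ := h
      intro c
      have hne : a * a - 1 ≠ 0 := sub_ne_zero.mpr ha2
      constructor
      · have e := congrArg f (conj_up ha (c / (a * a - 1)))
        rw [map_mul, map_mul, mul_comm (f (dg ha)) (f (up (c / (a * a - 1))))] at e
        have e' := mul_right_cancel e
        rw [show a * a * (c / (a * a - 1)) = c + c / (a * a - 1) by linear_combination div_mul_cancel₀ c hne, ← up_mul, map_mul] at e'
        exact mul_right_cancel (e'.symm.trans (one_mul _).symm)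
      · have e := congrArg f (conj_lo ha (c / (a * a - 1)))
        rw [map_mul, map_mul, mul_comm (f (dg ha))] at e
        have e' := mul_right_cancel e
        rw [show a * a * (c / (a * a - 1)) = c + c / (a * a - 1) by linear_combination div_mul_cancel₀ c hne, ← lo_mul, map_mul] at e'
        exact mul_right_cancel (e'.symm.trans (one_mul _).symm)
    · push Not at h
      have h3 : Fintype.card F = 3 := by
        refine le_antisymm ?_ hq
        rw [← Finset.card_univ]
        refine le_trans (Finset.card_le_card (t := ({0, 1, -1} : Finset F)) fun a _ => ?_) Finset.card_le_three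
        by_cases ha : a = 0
        · simp [ha]
        · rcases mul_self_eq_one_iff.mp (h a ha) with e | e <;> simp [e]
      have h30 : (3 : F) = 0 := by
        have := FiniteField.cast_card_eq_zero F
        rw [h3] at this
        exact_mod_cast this
      intro c
      have hc : c + c + c = 0 := by linear_combination c * h30
      constructor
      · have := congrArg f (show up c * up c * up c = 1 by rw [up_mul, up_mul, hc, up_zero (F := F)])
        rwa [map_mul, map_mul, h2, one_mul, map_one] at this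
      · have := congrArg f (show lo c * lo c * lo c = 1 by rw [lo_mul, lo_mul, hc, lo_zero (F := F)])
        rwa [map_mul, map_mul, h2, one_mul, map_one] at this
  have hg : g ∈ Subgroup.closure (Set.range (up (F := F)) ∪ Set.range (lo (F := F))) := (gen_eq (F := F)).symm ▸ Subgroup.mem_top g
  induction hg using Subgroup.closure_induction with
  | mem x hx =>
    rcases hx with ⟨c, rfl⟩ | ⟨c, rfl⟩
    · exact (hu c).1
    · exact (hu c).2
  | one => exact map_one f
  | mul x y _ _ ihx ihy => rw [map_mul, ihx, ihy, one_mul]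
  | inv x _ ihx => rw [map_inv, ihx, inv_one]

/-- Everything has order at most two in the abelianisation of an orthogonal group. -/
theorem abelianization_sq {V : Type*} [AddCommGroup V] [Module F V] [FiniteDimensional F V] [Fintype F]
    {Q : QuadraticForm F V} (hQ : OCount.PND Q) (h : Nat.card F ≠ 2 ∨ finrank F V ≠ 4) (g : ↥(Iso Q)) :
    Abelianization.of g * Abelianization.of g = 1 := by
  refine induction_on (motive := fun g => Abelianization.of g * Abelianization.of g = 1) hQ h g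
    (by rw [map_one, one_mul]) fun v g hv ih => ?_
  rw [map_mul, mul_mul_mul_comm, ← map_mul, rf_mul_self, map_one, one_mul, ih]

theorem scalar_of_commute {g : SL2} (h1 : g * up 1 = up 1 * g) (h2 : g * lo 1 = lo 1 * g) :
    g.1 = 1 ∨ g.1 = -1 := by
  have a1 := congrFun (congrFun (congrArg Subtype.val h1) 0) 0
  have a2 := congrFun (congrFun (congrArg Subtype.val h1) 0) 1
  have a3 := congrFun (congrFun (congrArg Subtype.val h2) 0) 0
  simp [Matrix.SpecialLinearGroup.coe_mul, up_val, lo_val, Matrix.mul_apply, Fin.sum_univ_two] at a1 a2 a3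
  have hd := g.2
  rw [Matrix.det_fin_two] at hd
  rw [a1, mul_zero, sub_zero] at hd
  have e11 : g.1 1 1 = g.1 0 0 := by linear_combination -a2
  rw [e11] at hd
  rcases mul_self_eq_one_iff.mp hd with e | e
  · left; ext i j; fin_cases i <;> fin_cases j <;> simp [e, a1, a3, e11]
  · right; ext i j; fin_cases i <;> fin_cases j <;> simp [e, a1, a3, e11]

theorem pm_central {g : SL2} (h : g.1 = 1 ∨ g.1 = -1) : g ∈ Subgroup.center SL2 := by
  rw [Subgroup.mem_center_iff]
  intro y
  refine Subtype.ext ?_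
  rw [Matrix.SpecialLinearGroup.coe_mul, Matrix.SpecialLinearGroup.coe_mul]
  rcases h with h | h <;> rw [h] <;> simp

theorem central_iff {g : SL2} : g ∈ Subgroup.center SL2 ↔ g.1 = 1 ∨ g.1 = -1 := by
  refine ⟨fun h => scalar_of_commute (Subgroup.mem_center_iff.mp h _).symm
    (Subgroup.mem_center_iff.mp h _).symm, pm_central⟩

/-- An element central modulo the centre is central. -/
theorem central_step {g : SL2} (h : ∀ y : SL2, (g * y)⁻¹ * (y * g) ∈ Subgroup.center SL2) :
    g ∈ Subgroup.center SL2 := by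
  have key : ∀ t : SL2, t.1.trace = 2 → g * t = t * g := by
    intro t ht
    rcases central_iff.mp (h t) with e | e
    · exact eq_of_inv_mul_eq_one (Subtype.ext e)
    · have e' : (t * g).1 = -(g * t).1 := by
        have := congrArg (fun M => (g * t).1 * M) e
        simp only [← Matrix.SpecialLinearGroup.coe_mul, mul_inv_cancel_left, Matrix.mul_neg, Matrix.mul_one] at this
        exact this
      by_cases h2' : (2 : F) = 0
      · refine Subtype.ext ?_
        rw [e']
        ext i j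
        simp only [Matrix.neg_apply]
        linear_combination (g * t).1 i j * h2'
      · exfalso
        have e2 : (g * t * g⁻¹).1.trace = 2 := by
          rw [Matrix.SpecialLinearGroup.coe_mul, Matrix.SpecialLinearGroup.coe_mul, Matrix.trace_mul_comm,
            ← Matrix.mul_assoc, ← Matrix.SpecialLinearGroup.coe_mul, inv_mul_cancel,
            Matrix.SpecialLinearGroup.coe_one, Matrix.one_mul, ht]
        have e3 : (g * t * g⁻¹).1 = -t.1 := by
          rw [Matrix.SpecialLinearGroup.coe_mul, show (g * t).1 = -(t * g).1 by rw [e', neg_neg], Matrix.neg_mul,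
            ← Matrix.SpecialLinearGroup.coe_mul, mul_inv_cancel_right]
        rw [e3, Matrix.trace_neg, ht] at e2
        exact mul_ne_zero h2' h2' (by linear_combination -e2)
  refine central_iff.mpr (scalar_of_commute (key _ ?_) (key _ ?_))
  · simp [up, Matrix.trace_fin_two]; norm_num
  · simp [lo, Matrix.trace_fin_two]; norm_num

theorem center_bot_of_step {H : Type*} [Group H]
    (step : ∀ g : H, (∀ y, (g * y)⁻¹ * (y * g) ∈ Subgroup.center H) → g ∈ Subgroup.center H) :
    Subgroup.center (H ⧸ Subgroup.center H) = ⊥ := by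
  rw [Subgroup.eq_bot_iff_forall]
  intro x hx
  obtain ⟨g, rfl⟩ := QuotientGroup.mk'_surjective _ x
  rw [QuotientGroup.mk'_apply, QuotientGroup.eq_one_iff]
  refine step g fun y => ?_
  rw [← QuotientGroup.eq]
  exact (Subgroup.mem_center_iff.mp hx (QuotientGroup.mk' _ y)).symm

/-! ### Three variables -/

variable (F) in
/-- The form in three variables. -/
noncomputable abbrev Q3 : QuadraticForm F (Unit ⊕ (Fin 1 ⊕ Fin 1) → F) :=
  formOf 1 (Equiv.sumComm Unit (Fin 1 ⊕ Fin 1)) (OCount.lineForm F)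

/-- A trace-zero matrix. -/
def mat3 (x : Unit ⊕ (Fin 1 ⊕ Fin 1) → F) : Matrix (Fin 2) (Fin 2) F :=
  !![x (.inl ()), x (.inr (.inl 0)); x (.inr (.inr 0)), -x (.inl ())]

/-- Its coordinates. -/
def crd3 (M : Matrix (Fin 2) (Fin 2) F) : Unit ⊕ (Fin 1 ⊕ Fin 1) → F :=
  Sum.elim (fun _ => M 0 0) (Sum.elim (fun _ => M 0 1) fun _ => M 1 0)

theorem crd_mat3 (x : Unit ⊕ (Fin 1 ⊕ Fin 1) → F) : crd3 (mat3 x) = x := by
  funext k
  rcases k with k | (k | k)
  · rfl
  all_goals rw [Subsingleton.elim k 0]; rfl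

theorem mat_crd3 {M : Matrix (Fin 2) (Fin 2) F} (h : M.trace = 0) : mat3 (crd3 M) = M := by
  rw [Matrix.trace_fin_two] at h
  ext i j
  fin_cases i <;> fin_cases j <;> simp [mat3, crd3]
  linear_combination -h

theorem quad3 (x : Unit ⊕ (Fin 1 ⊕ Fin 1) → F) : Q3 F x = -(mat3 x).det := by
  rw [congrFun (coe_odd (F := F) 1), Matrix.det_fin_two]
  simp [Cfsg.quadFormOdd, mat3]; ring

theorem trace_conj (g : SL2) (x : Unit ⊕ (Fin 1 ⊕ Fin 1) → F) : (g.1 * mat3 x * (g⁻¹).1).trace = 0 := by
  rw [Matrix.trace_mul_comm, ← Matrix.mul_assoc, ← Matrix.SpecialLinearGroup.coe_mul, inv_mul_cancel,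
    Matrix.SpecialLinearGroup.coe_one, Matrix.one_mul]
  simp [mat3, Matrix.trace_fin_two]

/-- Conjugation on trace-zero matrices. -/
def act3 (g : SL2) : (Unit ⊕ (Fin 1 ⊕ Fin 1) → F) →ₗ[F] Unit ⊕ (Fin 1 ⊕ Fin 1) → F where
  toFun x := crd3 (g.1 * mat3 x * (g⁻¹).1)
  map_add' x y := by
    funext k
    rcases k with k | (k | k) <;>
      simp [crd3, mat3, Matrix.mul_apply, Fin.sum_univ_two] <;> ring
  map_smul' c x := by
    funext k
    rcases k with k | (k | k) <;>
      simp [crd3, mat3, Matrix.mul_apply, Fin.sum_univ_two] <;> ring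

theorem act3_mul (g h : SL2) (x : Unit ⊕ (Fin 1 ⊕ Fin 1) → F) : act3 (g * h) x = act3 g (act3 h x) := by
  change crd3 ((g * h).1 * mat3 x * ((g * h)⁻¹).1) = crd3 (g.1 * mat3 (crd3 (h.1 * mat3 x * (h⁻¹).1)) * (g⁻¹).1)
  rw [mat_crd3 (trace_conj h x), _root_.mul_inv_rev, Matrix.SpecialLinearGroup.coe_mul,
    Matrix.SpecialLinearGroup.coe_mul]
  simp [Matrix.mul_assoc]

theorem act3_one (x : Unit ⊕ (Fin 1 ⊕ Fin 1) → F) : act3 1 x = x := by
  change crd3 ((1 : SL2).1 * mat3 x * ((1 : SL2)⁻¹).1) = x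
  rw [inv_one, Matrix.SpecialLinearGroup.coe_one, Matrix.one_mul, Matrix.mul_one, crd_mat3]

/-- The isometry. -/
noncomputable def iso3 (g : SL2) : ↥(Iso (Q3 F)) :=
  ⟨LinearEquiv.ofLinear (act3 g) (act3 g⁻¹)
    (LinearMap.ext fun x => by rw [LinearMap.comp_apply, ← act3_mul, mul_inv_cancel, act3_one, LinearMap.id_apply])
    (LinearMap.ext fun x => by rw [LinearMap.comp_apply, ← act3_mul, inv_mul_cancel, act3_one, LinearMap.id_apply]),
  fun x => by
    change Q3 F (act3 g x) = Q3 F x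
    rw [quad3, quad3, show mat3 (act3 g x) = g.1 * mat3 x * (g⁻¹).1 from mat_crd3 (trace_conj g x),
      Matrix.det_mul, Matrix.det_mul, g.2, (g⁻¹).2, one_mul, mul_one]⟩

variable (F) in
/-- `SL₂ → O₃`. -/
noncomputable def hom3 : SL2 →* ↥(Iso (Q3 F)) :=
  MonoidHom.mk' iso3 fun g h => Subtype.ext (LinearEquiv.ext (act3_mul g h))

theorem hom3_ker {g : SL2} (h : hom3 F g = 1) : g.1 = 1 ∨ g.1 = -1 := by
  have key : ∀ x, g.1 * mat3 x = mat3 x * g.1 := fun x => by
    have e : act3 g x = x := LinearEquiv.congr_fun (congrArg Subtype.val h) x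
    have e' := congrArg mat3 e
    change mat3 (crd3 (g.1 * mat3 x * (g⁻¹).1)) = mat3 x at e'
    rw [mat_crd3 (trace_conj g x)] at e'
    conv_rhs => rw [← e', Matrix.mul_assoc, ← Matrix.SpecialLinearGroup.coe_mul, inv_mul_cancel,
      Matrix.SpecialLinearGroup.coe_one, Matrix.mul_one]
  refine scalar_of_commute (Subtype.ext ?_) (Subtype.ext ?_) <;>
    rw [Matrix.SpecialLinearGroup.coe_mul, Matrix.SpecialLinearGroup.coe_mul]
  · rw [show (up (1 : F)).1 = 1 + mat3 (Pi.single (.inr (.inl 0)) 1) by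
      ext i j; fin_cases i <;> fin_cases j <;> simp [up, mat3], Matrix.mul_add, Matrix.add_mul, key]
    simp
  · rw [show (lo (1 : F)).1 = 1 + mat3 (Pi.single (.inr (.inr 0)) 1) by
      ext i j; fin_cases i <;> fin_cases j <;> simp [lo, mat3], Matrix.mul_add, Matrix.add_mul, key]
    simp

variable [Fintype F]

theorem card_ker_le {H K : Type*} [Group H] [Group K] (φ : H →* K) (f : H → Prop)
    (h : ∀ a b : H, φ a = 1 → φ b = 1 → (f a ↔ f b) → a = b) : Nat.card φ.ker ≤ 2 := by
  classical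
  refine (Nat.card_le_card_of_injective (β := Bool) (fun a => decide (f a.1)) fun a b e => ?_).trans_eq (by simp)
  exact Subtype.ext (h a.1 b.1 a.2 b.2 (by simpa [decide_eq_decide] using e))

theorem pm_inj {a b : SL2} (ha : a.1 = 1 ∨ a.1 = -1) (hb : b.1 = 1 ∨ b.1 = -1) (e : a.1 = 1 ↔ b.1 = 1) : a = b := by
  refine Subtype.ext ?_
  rcases ha with h | h <;> rcases hb with h' | h'
  · rw [h, h']
  · rw [h, e.mp h]
  · rw [h', e.mpr h']
  · rw [h, h']

theorem card_omega_eq {ι : Type} [Fintype ι] [DecidableEq ι] (Q : QuadraticForm F (ι → F)) :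
    Nat.card ↥(Cfsg.Omega F ⇑Q) = Nat.card ↥(commutator ↥(Iso Q)) := by
  rw [omega_eq_map]
  exact (Nat.card_congr ((commutator ↥(Iso Q)).equivMapOfInjective _ (toMat Q).injective).toEquiv).symm

/-- `PΩ₃ ≅ PSL₂`. -/
theorem pOmega_three (hodd : Odd (Fintype.card F)) :
    Nonempty (Cfsg.POmega F (Cfsg.quadFormOdd 1 F) ≃* Matrix.ProjectiveSpecialLinearGroup (Fin 2) F) := by
  classical
  have h2 := two_ne_of_odd hodd
  have h3 : 3 ≤ Fintype.card F := by
    have := Fintype.one_lt_card (α := F); rw [Nat.odd_iff] at hodd; omega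
  have hP : OCount.PND (Q3 F) := formOf_pnd (pnd_line h2)
  have hle : ∀ g, hom3 F g ∈ commutator ↥(Iso (Q3 F)) := fun g => by
    rw [← Abelianization.ker_of, MonoidHom.mem_ker]
    exact hom_eq_one h3 (Abelianization.of.comp (hom3 F))
      (fun x => abelianization_sq hP (two_ne h2) (hom3 F x)) g
  haveI : Finite ↥(Iso (Q3 F)) := Finite.of_injective (fun g => (⇑g.1 : (Unit ⊕ (Fin 1 ⊕ Fin 1) → F) → _))
    fun g g' e => Subtype.ext (LinearEquiv.ext (congrFun e))
  have hrange : (hom3 F).range = commutator ↥(Iso (Q3 F)) := by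
    refine Subgroup.eq_of_le_of_card_ge (by rintro _ ⟨g, rfl⟩; exact hle g) ?_
    have hO := OCount.card_GO_odd h2 1 (F := F)
    rw [← coe_odd 1] at hO
    have hidx := Subgroup.card_mul_index (Cfsg.Omega F ⇑(Q3 F))
    rw [hO, card_omega_eq, index_omega_odd h2 hP (by simp)] at hidx
    have hker := Subgroup.card_mul_index (hom3 F).ker
    rw [Subgroup.index_ker, Cfsg.Agent.Small.SL2C.card_SL2] at hker
    have hk2 := card_ker_le (hom3 F) (fun a => a.1 = 1) fun a b ha hb => pm_inj (hom3_ker ha) (hom3_ker hb)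
    have hle2 := Nat.mul_le_mul_right (Nat.card ↥(hom3 F).range) hk2
    rw [hker] at hle2
    simp only [one_pow, pow_one, Finset.prod_range_one, zero_add, mul_one] at hidx
    rw [mul_assoc 2] at hidx
    omega
  rw [← coe_odd 1]
  let φ : SL2 →* ↥(commutator ↥(Iso (Q3 F))) := (hom3 F).codRestrict _ hle
  have hs : Function.Surjective φ := fun x => by
    obtain ⟨g, hg⟩ : x.1 ∈ (hom3 F).range := hrange.symm ▸ x.2
    exact ⟨g, Subtype.ext hg⟩
  obtain ⟨e⟩ := Klein.center_quot_equiv φ hs (fun g hg => pm_central (hom3_ker (congrArg Subtype.val hg)))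
    (center_bot_of_step fun g h => central_step h)
  exact ⟨(pOmegaEquiv (Q3 F)).symm.trans e.symm⟩

/-! ### Four variables -/

variable (F) in
/-- The hyperbolic form in four variables. -/
noncomputable abbrev Q4 : QuadraticForm F (Fin 2 ⊕ Fin 2 → F) :=
  formOf 2 (Equiv.sumEmpty (Fin 2 ⊕ Fin 2) Empty).symm (0 : QuadraticForm F (Empty → F))

/-- A matrix from four coordinates. -/
def mat4 (x : Fin 2 ⊕ Fin 2 → F) : Matrix (Fin 2) (Fin 2) F :=
  !![x (.inl 0), x (.inl 1); -x (.inr 1), x (.inr 0)]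

/-- Its coordinates. -/
def crd4 (M : Matrix (Fin 2) (Fin 2) F) : Fin 2 ⊕ Fin 2 → F :=
  Sum.elim ![M 0 0, M 0 1] ![M 1 1, -M 1 0]

theorem crd_mat4 (x : Fin 2 ⊕ Fin 2 → F) : crd4 (mat4 x) = x := by
  funext k; rcases k with k | k <;> fin_cases k <;> simp [crd4, mat4]

theorem mat_crd4 (M : Matrix (Fin 2) (Fin 2) F) : mat4 (crd4 M) = M := by
  ext i j; fin_cases i <;> fin_cases j <;> simp [crd4, mat4]

theorem quad4 (x : Fin 2 ⊕ Fin 2 → F) : Q4 F x = (mat4 x).det := by
  rw [congrFun (coe_plus (F := F) 2), Matrix.det_fin_two]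
  simp [Cfsg.quadFormPlus, mat4, Fin.sum_univ_two]

/-- `X ↦ g X hᵀ`. -/
def act4 (p : SL2 × SL2) : (Fin 2 ⊕ Fin 2 → F) →ₗ[F] Fin 2 ⊕ Fin 2 → F where
  toFun x := crd4 (p.1.1 * mat4 x * p.2.1ᵀ)
  map_add' x y := by
    funext k
    rcases k with k | k <;> fin_cases k <;> simp [crd4, mat4, Matrix.mul_apply, Fin.sum_univ_two] <;> ring
  map_smul' c x := by
    funext k
    rcases k with k | k <;> fin_cases k <;> simp [crd4, mat4, Matrix.mul_apply, Fin.sum_univ_two] <;> ring

theorem act4_mul (p r : SL2 × SL2) (x : Fin 2 ⊕ Fin 2 → F) : act4 (p * r) x = act4 p (act4 r x) := by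
  change crd4 ((p.1 * r.1).1 * mat4 x * (p.2 * r.2).1ᵀ) = crd4 (p.1.1 * mat4 (crd4 (r.1.1 * mat4 x * r.2.1ᵀ)) * p.2.1ᵀ)
  rw [mat_crd4, Matrix.SpecialLinearGroup.coe_mul, Matrix.SpecialLinearGroup.coe_mul, Matrix.transpose_mul]
  simp [Matrix.mul_assoc]

theorem act4_one (x : Fin 2 ⊕ Fin 2 → F) : act4 (1 : SL2 × SL2) x = x := by
  change crd4 ((1 : SL2).1 * mat4 x * (1 : SL2).1ᵀ) = x
  rw [Matrix.SpecialLinearGroup.coe_one, Matrix.transpose_one, Matrix.one_mul, Matrix.mul_one, crd_mat4]

/-- The isometry. -/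
noncomputable def iso4 (p : SL2 × SL2) : ↥(Iso (Q4 F)) :=
  ⟨LinearEquiv.ofLinear (act4 p) (act4 p⁻¹)
    (LinearMap.ext fun x => by rw [LinearMap.comp_apply, ← act4_mul, mul_inv_cancel, act4_one, LinearMap.id_apply])
    (LinearMap.ext fun x => by rw [LinearMap.comp_apply, ← act4_mul, inv_mul_cancel, act4_one, LinearMap.id_apply]),
  fun x => by
    change Q4 F (act4 p x) = Q4 F x
    rw [quad4, quad4, show mat4 (act4 p x) = p.1.1 * mat4 x * p.2.1ᵀ from mat_crd4 _,
      Matrix.det_mul, Matrix.det_mul, Matrix.det_transpose, p.1.2, p.2.2, one_mul, mul_one]⟩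

variable (F) in
/-- `SL₂ × SL₂ → O⁺₄`. -/
noncomputable def hom4 : SL2 × SL2 →* ↥(Iso (Q4 F)) :=
  MonoidHom.mk' iso4 fun g h => Subtype.ext (LinearEquiv.ext (act4_mul g h))

theorem hom4_ker {p : SL2 × SL2} (h : hom4 F p = 1) : (p.1.1 = 1 ∨ p.1.1 = -1) ∧ p.2.1 = p.1.1 := by
  have e : ∀ X, p.1.1 * X * p.2.1ᵀ = X := fun X => by
    have e' := congrArg mat4 (LinearEquiv.congr_fun (congrArg Subtype.val h) (crd4 X))
    change mat4 (crd4 (p.1.1 * mat4 (crd4 X) * p.2.1ᵀ)) = mat4 (crd4 X) at e'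
    rwa [mat_crd4, mat_crd4] at e'
  have h1 := e 1
  rw [Matrix.mul_one] at h1
  have hinv : p.2.1ᵀ = (p.1⁻¹).1 := by
    have := congrArg (fun M => (p.1⁻¹).1 * M) h1
    simp only [← Matrix.mul_assoc] at this
    rwa [← Matrix.SpecialLinearGroup.coe_mul, inv_mul_cancel, Matrix.SpecialLinearGroup.coe_one, Matrix.one_mul,
      Matrix.mul_one] at this
  have hc : ∀ y : SL2, p.1 * y = y * p.1 := fun y => Subtype.ext (by
    rw [Matrix.SpecialLinearGroup.coe_mul, Matrix.SpecialLinearGroup.coe_mul]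
    have := e y.1
    rw [hinv] at this
    conv_rhs => rw [← this, Matrix.mul_assoc _ (p.1⁻¹).1, ← Matrix.SpecialLinearGroup.coe_mul (p.1⁻¹) p.1,
      inv_mul_cancel, Matrix.SpecialLinearGroup.coe_one, Matrix.mul_one])
  have hs := scalar_of_commute (hc (up 1)) (hc (lo 1))
  refine ⟨hs, ?_⟩
  have hsq : p.1⁻¹ = p.1 := inv_eq_of_mul_eq_one_left (Subtype.ext (by
    rw [Matrix.SpecialLinearGroup.coe_mul, Matrix.SpecialLinearGroup.coe_one]
    rcases hs with h | h <;> rw [h] <;> simp))
  rw [← Matrix.transpose_transpose p.2.1, hinv, hsq]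
  rcases hs with h | h <;> rw [h] <;> simp

/-- `PΩ⁺₄ ≅ PSL₂ × PSL₂`. -/
theorem pOmega_four (hq : 3 ≤ Fintype.card F) :
    Nonempty (Cfsg.POmega F (Cfsg.quadFormPlus 2 F) ≃*
      Matrix.ProjectiveSpecialLinearGroup (Fin 2) F × Matrix.ProjectiveSpecialLinearGroup (Fin 2) F) := by
  classical
  have hP : OCount.PND (Q4 F) := formOf_pnd pnd_empty
  have hne : Nat.card F ≠ 2 := by rw [Nat.card_eq_fintype_card]; omega
  have hle : ∀ p, hom4 F p ∈ commutator ↥(Iso (Q4 F)) := fun p => by
    rw [← Abelianization.ker_of, MonoidHom.mem_ker,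
      show p = (p.1, 1) * (1, p.2) by simp, map_mul, map_mul]
    have h1 := hom_eq_one hq ((Abelianization.of.comp (hom4 F)).comp (MonoidHom.inl SL2 SL2))
      (fun x => abelianization_sq hP (Or.inl hne) _) p.1
    have h2 := hom_eq_one hq ((Abelianization.of.comp (hom4 F)).comp (MonoidHom.inr SL2 SL2))
      (fun x => abelianization_sq hP (Or.inl hne) _) p.2
    simp only [MonoidHom.comp_apply, MonoidHom.inl_apply, MonoidHom.inr_apply] at h1 h2
    rw [h1, h2, one_mul]
  haveI : Finite ↥(Iso (Q4 F)) := Finite.of_injective (fun g => (⇑g.1 : (Fin 2 ⊕ Fin 2 → F) → _))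
    fun g g' e => Subtype.ext (LinearEquiv.ext (congrFun e))
  have hrange : (hom4 F).range = commutator ↥(Iso (Q4 F)) := by
    refine Subgroup.eq_of_le_of_card_ge (by rintro _ ⟨g, rfl⟩; exact hle g) ?_
    have hO := OCount.card_GO_plus 1 (F := F)
    rw [← coe_plus 2] at hO
    have hidx := Subgroup.card_mul_index (Cfsg.Omega F ⇑(Q4 F))
    rw [hO, card_omega_eq] at hidx
    have hker := Subgroup.card_mul_index (hom4 F).ker
    rw [Subgroup.index_ker, Nat.card_prod, Cfsg.Agent.Small.SL2C.card_SL2] at hker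
    obtain ⟨q, hq'⟩ : ∃ q, q = Fintype.card F := ⟨_, rfl⟩
    rw [← hq'] at hidx hker
    simp only [Finset.prod_range_one, zero_add, mul_one, Nat.reduceAdd, Nat.reduceMul] at hidx
    rw [show q * (q ^ 2 - 1) * (q * (q ^ 2 - 1)) = q ^ 2 * (q ^ 2 - 1) * (q ^ 2 - 1) by ring] at hker
    rw [show 2 * q ^ 2 * (q ^ 2 - 1) * (q ^ 2 - 1) = 2 * (q ^ 2 * (q ^ 2 - 1) * (q ^ 2 - 1)) by ring] at hidx
    by_cases h2 : (2 : F) = 0
    · haveI : CharP F 2 := CharTwo.of_one_ne_zero_of_two_eq_zero one_ne_zero h2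
      rw [index_omega_two hP (by simp) (Or.inl hne)] at hidx
      have hk1 : Nat.card ↥(hom4 F).ker = 1 := by
        rw [Subgroup.card_eq_one, Subgroup.eq_bot_iff_forall]
        intro p hp
        obtain ⟨ha, hb⟩ := hom4_ker (MonoidHom.mem_ker.mp hp)
        have hone : (-1 : Matrix (Fin 2) (Fin 2) F) = 1 := by
          ext i j; simp only [Matrix.neg_apply]
          linear_combination -((1 : Matrix (Fin 2) (Fin 2) F) i j) * h2
        rw [hone, or_self] at ha
        exact Prod.ext (Subtype.ext ha) (Subtype.ext (hb.trans ha))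
      rw [hk1, one_mul] at hker
      omega
    · rw [index_omega_odd h2 hP (by simp)] at hidx
      have hk2 := card_ker_le (hom4 F) (fun p => p.1.1 = 1) fun a b ha hb e => by
        have e1 := pm_inj (hom4_ker ha).1 (hom4_ker hb).1 e
        exact Prod.ext e1 (Subtype.ext (by rw [(hom4_ker ha).2, (hom4_ker hb).2, e1]))
      have hle2 := Nat.mul_le_mul_right (Nat.card ↥(hom4 F).range) hk2
      rw [hker] at hle2
      omega
  rw [← coe_plus 2]
  let φ : SL2 × SL2 →* ↥(commutator ↥(Iso (Q4 F))) := (hom4 F).codRestrict _ hle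
  have hs : Function.Surjective φ := fun x => by
    obtain ⟨g, hg⟩ : x.1 ∈ (hom4 F).range := hrange.symm ▸ x.2
    exact ⟨g, Subtype.ext hg⟩
  have hZ : ∀ p : SL2 × SL2, p ∈ Subgroup.center (SL2 × SL2) ↔
      p.1 ∈ Subgroup.center SL2 ∧ p.2 ∈ Subgroup.center SL2 := fun p => by
    simp only [Subgroup.mem_center_iff]
    exact ⟨fun h => ⟨fun y => congrArg Prod.fst (h (y, 1)), fun y => congrArg Prod.snd (h (1, y))⟩,
      fun h y => Prod.ext (h.1 y.1) (h.2 y.2)⟩
  have hk : φ.ker ≤ Subgroup.center _ := fun p hp => by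
    obtain ⟨ha, hb⟩ := hom4_ker (congrArg Subtype.val hp)
    exact (hZ p).mpr ⟨pm_central ha, pm_central (by rw [hb]; exact ha)⟩
  obtain ⟨e⟩ := Klein.center_quot_equiv φ hs hk (center_bot_of_step fun g h => (hZ g).mpr
    ⟨central_step (fun y => ((hZ _).mp (h (y, 1))).1),
      central_step (fun y => ((hZ _).mp (h (1, y))).2)⟩)
  let ψ : SL2 × SL2 →* (SL2 ⧸ Subgroup.center SL2) × (SL2 ⧸ Subgroup.center SL2) :=
    (QuotientGroup.mk' _).prodMap (QuotientGroup.mk' _)
  have hψ : ψ.ker = Subgroup.center (SL2 × SL2) := by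
    ext p
    rw [MonoidHom.mem_ker, hZ]
    simp [ψ, Prod.ext_iff, QuotientGroup.eq_one_iff]
  have hψs : Function.Surjective ψ := (QuotientGroup.mk'_surjective _).prodMap (QuotientGroup.mk'_surjective _)
  exact ⟨((pOmegaEquiv (Q4 F)).symm.trans e.symm).trans
    ((QuotientGroup.quotientMulEquivOfEq hψ.symm).trans (QuotientGroup.quotientKerEquivOfSurjective ψ hψs))⟩

end Cfsg.Agent.Classical.SmallIso
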