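/-
`PΩ⁻₄(q) ≅ PSL₂(q²)`: `SL₂` of the quadratic extension acts on the Hermitian two by two matrices by
`X ↦ g X ḡᵀ`, and the determinant is the negative of the quadratic form.
-/
import Cfsg.Agent.Lib.Classical.OrthSmallIso
import Cfsg.Agent.Lib.Classical.OrthPOmega

set_option autoImplicit false
set_option linter.unusedSectionVars false

namespace Cfsg.Agent.Classical.SmallIso

open Module Matrix QuadraticMap ORefl OOmega Polynomial

universe u

/-- A homomorphism of `SL₂` into a commutative group is trivial, `q ≥ 4`. -/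
theorem hom_trivial {F : Type*} [Field F] [Fintype F] (hq : 4 ≤ Fintype.card F) {M : Type*} [CommGroup M]
    (f : Matrix.SpecialLinearGroup (Fin 2) F →* M) (g : Matrix.SpecialLinearGroup (Fin 2) F) : f g = 1 := by
  classical
  obtain ⟨a, ha, ha2⟩ : ∃ a : F, a ≠ 0 ∧ a * a ≠ 1 := by
    by_contra h
    push Not at h
    have := (Finset.card_le_card (s := (Finset.univ : Finset F)) (t := ({0, 1, -1} : Finset F)) fun a _ => by
      by_cases ha : a = 0
      · simp [ha]
      · rcases mul_self_eq_one_iff.mp (h a ha) with e | e <;> simp [e]).trans Finset.card_le_three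
    rw [Finset.card_univ] at this
    omega
  have hne : a * a - 1 ≠ 0 := sub_ne_zero.mpr ha2
  have hu : ∀ c, f (up c) = 1 ∧ f (lo c) = 1 := by
    intro c
    constructor
    · have e := congrArg f (conj_up ha (c / (a * a - 1)))
      rw [map_mul, map_mul, mul_comm (f (dg ha)) (f (up (c / (a * a - 1))))] at e
      have e' := mul_right_cancel e
      rw [show a * a * (c / (a * a - 1)) = c + c / (a * a - 1) by linear_combination div_mul_cancel₀ c hne, ← up_mul, map_mul] at e'
      exact mul_right_cancel (e'.symm.trans (one_mul _).symm)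
    · have e := congrArg f (conj_lo ha (c / (a * a - 1)))
      rw [map_mul, map_mul, mul_comm (f (dg ha))] at e
      have e' := mul_right_cancel e
      rw [show a * a * (c / (a * a - 1)) = c + c / (a * a - 1) by linear_combination div_mul_cancel₀ c hne, ← lo_mul, map_mul] at e'
      exact mul_right_cancel (e'.symm.trans (one_mul _).symm)
  have hg : g ∈ Subgroup.closure (Set.range (up (F := F)) ∪ Set.range (lo (F := F))) :=
    (gen_eq (F := F)).symm ▸ Subgroup.mem_top g
  induction hg using Subgroup.closure_induction with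
  | mem x hx =>
    rcases hx with ⟨c, rfl⟩ | ⟨c, rfl⟩
    · exact (hu c).1
    · exact (hu c).2
  | one => exact map_one f
  | mul x y _ _ ihx ihy => rw [map_mul, ihx, ihy, one_mul]
  | inv x _ ihx => rw [map_inv, ihx, inv_one]

/-- A quadratic extension adapted to an anisotropic binary form. -/
theorem exists_model {F : Type u} [Field F] [Fintype F] {a b : F}
    (hab : ∀ z₁ z₂ : F, z₁ ^ 2 + a * z₁ * z₂ + b * z₂ ^ 2 = 0 → z₁ = 0 ∧ z₂ = 0) :
    ∃ (E : Type u) (_ : Field E) (_ : Fintype E) (_ : Algebra F E) (σ : E ≃ₐ[F] E) (ω : E),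
      Fintype.card E = Fintype.card F ^ 2 ∧ (∀ x, σ (σ x) = x) ∧
      (∀ x, σ x = x → ∃ c, algebraMap F E c = x) ∧
      (∀ x, ∃ z₀ z₁, x = algebraMap F E z₀ - algebraMap F E z₁ * ω) ∧
      ω + σ ω = -algebraMap F E a ∧ ω * σ ω = algebraMap F E b := by
  classical
  obtain ⟨f, hf⟩ : ∃ f : F[X], f = X ^ 2 + C a * X + C b := ⟨_, rfl⟩
  have hdeg : f.natDegree = 2 := by rw [hf]; compute_degree!
  have hf0 : f ≠ 0 := fun e => by rw [e, natDegree_zero] at hdeg; omega
  haveI : Fact (Irreducible f) := ⟨by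
    rw [Polynomial.irreducible_iff_roots_eq_zero_of_degree_le_three (by omega) (by omega)]
    refine Multiset.eq_zero_of_forall_notMem fun x hx => ?_
    rw [Polynomial.mem_roots hf0, IsRoot, hf] at hx
    simp only [eval_add, eval_pow, eval_mul, eval_X, eval_C] at hx
    exact one_ne_zero (hab x 1 (by linear_combination hx)).2⟩
  haveI : Module.Finite F (AdjoinRoot f) := (AdjoinRoot.powerBasis hf0).finite
  haveI : Finite (AdjoinRoot f) := Module.finite_of_finite F
  letI : Fintype (AdjoinRoot f) := Fintype.ofFinite _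
  have hrank : finrank F (AdjoinRoot f) = 2 := by
    rw [(AdjoinRoot.powerBasis hf0).finrank, AdjoinRoot.powerBasis_dim, hdeg]
  have hcard : Fintype.card (AdjoinRoot f) = Fintype.card F ^ 2 := by
    rw [Module.card_eq_pow_finrank (K := F), hrank]
  obtain ⟨σ, hσ⟩ : ∃ σ : AdjoinRoot f ≃ₐ[F] AdjoinRoot f, ∀ x, σ x = x ^ Fintype.card F :=
    ⟨FiniteField.frobeniusAlgEquivOfAlgebraic F (AdjoinRoot f), fun _ => rfl⟩
  have hq2 : 2 ≤ Fintype.card F := Fintype.one_lt_card
  have hinv : ∀ x : AdjoinRoot f, σ (σ x) = x := fun x => by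
    rw [hσ, hσ, ← pow_mul, ← pow_two, ← hcard, FiniteField.pow_card]
  -- the fixed field
  have hfix : ∀ x : AdjoinRoot f, σ x = x → ∃ c, algebraMap F _ c = x := by
    intro x hx
    by_contra hc
    push Not at hc
    obtain ⟨P, hP⟩ : ∃ P : (AdjoinRoot f)[X], P = X ^ Fintype.card F - X := ⟨_, rfl⟩
    have hP0 : P ≠ 0 := hP ▸ FiniteField.X_pow_card_sub_X_ne_zero _ (by omega)
    have hPd : P.natDegree = Fintype.card F := hP ▸ FiniteField.X_pow_card_sub_X_natDegree_eq _ (by omega)
    have hsub : insert x (Finset.univ.image (algebraMap F (AdjoinRoot f))) ⊆ P.roots.toFinset := by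
      intro y hy
      rw [Multiset.mem_toFinset, Polynomial.mem_roots hP0, IsRoot, hP, eval_sub, eval_pow, eval_X, sub_eq_zero]
      rcases Finset.mem_insert.mp hy with rfl | hy
      · rw [← hσ]; exact hx
      · obtain ⟨c, -, rfl⟩ := Finset.mem_image.mp hy
        rw [← map_pow, FiniteField.pow_card]
    have h1 := (Finset.card_le_card hsub).trans ((Multiset.toFinset_card_le _).trans (Polynomial.card_roots' _))
    rw [Finset.card_insert_of_notMem (by simpa using hc),
      Finset.card_image_of_injective _ (algebraMap F (AdjoinRoot f)).injective, Finset.card_univ, hPd] at h1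
    omega
  obtain ⟨ω, hω⟩ : ∃ ω, ω = AdjoinRoot.root f := ⟨_, rfl⟩
  have hroot : ω ^ 2 + algebraMap F _ a * ω + algebraMap F _ b = 0 := by
    have h := AdjoinRoot.eval₂_root f
    simp only [hf, eval₂_add, eval₂_pow, eval₂_mul, eval₂_X, eval₂_C] at h
    rw [hω, AdjoinRoot.algebraMap_eq]
    subst hf
    exact h
  have hnF : ∀ c, algebraMap F (AdjoinRoot f) c ≠ ω := fun c e => by
    rw [← e] at hroot
    have h0 : c ^ 2 + a * c + b = 0 := (algebraMap F (AdjoinRoot f)).injective (by
      rw [map_zero, map_add, map_add, map_pow, map_mul]; exact hroot)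
    exact one_ne_zero (hab c 1 (by linear_combination h0)).2
  have hσω : σ ω ≠ ω := fun e => by
    obtain ⟨c, hc⟩ := hfix ω e
    exact hnF c hc
  have hsum : ω + σ ω = -algebraMap F _ a := by
    have h2 := congrArg σ hroot
    simp only [map_add, map_pow, map_mul, AlgEquiv.commutes, map_zero] at h2
    refine mul_left_cancel₀ (sub_ne_zero.mpr hσω) ?_
    linear_combination h2 - hroot
  refine ⟨AdjoinRoot f, inferInstance, inferInstance, inferInstance, σ, ω, hcard, hinv, hfix, fun x => ?_, hsum, ?_⟩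
  · have hi : Function.Injective fun z : F × F => algebraMap F (AdjoinRoot f) z.1 - algebraMap F _ z.2 * ω := by
      rintro ⟨u₀, u₁⟩ ⟨v₀, v₁⟩ h
      simp only at h
      have h1 : u₁ = v₁ := by
        by_contra hne
        have hne' : algebraMap F (AdjoinRoot f) (u₁ - v₁) ≠ 0 := fun e =>
          hne (sub_eq_zero.mp ((algebraMap F (AdjoinRoot f)).injective (by rw [e, map_zero])))
        refine hnF ((u₀ - v₀) / (u₁ - v₁)) ?_
        rw [map_div₀, div_eq_iff hne', map_sub, map_sub]
        linear_combination h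
      subst h1
      exact Prod.ext ((algebraMap F (AdjoinRoot f)).injective (by simpa using h)) rfl
    obtain ⟨z, hz⟩ := ((Fintype.bijective_iff_injective_and_card _).mpr ⟨hi, by
      rw [Fintype.card_prod, hcard, _root_.sq]⟩).2 x
    exact ⟨z.1, z.2, hz.symm⟩
  · linear_combination ω * hsum - hroot

section Model

variable {F : Type u} [Field F] {E : Type u} [Field E] [Algebra F E] {σ : E ≃ₐ[F] E}

/-- The Hermitian matrix of four coordinates. -/
def herm (σ : E ≃ₐ[F] E) (ω : E) (v : (Fin 1 ⊕ Fin 1) ⊕ Fin 2 → F) : Matrix (Fin 2) (Fin 2) E :=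
  !![algebraMap F E (v (.inl (.inl 0))), algebraMap F E (v (.inr 0)) - algebraMap F E (v (.inr 1)) * ω;
    σ (algebraMap F E (v (.inr 0)) - algebraMap F E (v (.inr 1)) * ω), -algebraMap F E (v (.inl (.inr 0)))]

/-- The Hermitian matrix, as a linear map. -/
def hermLM (σ : E ≃ₐ[F] E) (ω : E) : ((Fin 1 ⊕ Fin 1) ⊕ Fin 2 → F) →ₗ[F] Matrix (Fin 2) (Fin 2) E where
  toFun := herm σ ω
  map_add' u v := by
    ext i j; fin_cases i <;> fin_cases j <;> simp [herm] <;> ring
  map_smul' c v := by
    ext i j; fin_cases i <;> fin_cases j <;> simp [herm, Algebra.smul_def] <;> ring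

end Model

/-- `PΩ⁻₄(q) ≅ PSL₂(q²)`. -/
theorem pOmega_four_minus {F : Type u} [Field F] [Fintype F] {a b : F}
    (hab : ∀ z₁ z₂ : F, z₁ ^ 2 + a * z₁ * z₂ + b * z₂ ^ 2 = 0 → z₁ = 0 ∧ z₂ = 0) :
    ∃ (E : Type u) (_ : Field E) (_ : Fintype E), Fintype.card E = Fintype.card F ^ 2 ∧
      Nonempty (Cfsg.POmega F (Cfsg.quadFormMinus 1 F a b) ≃* Matrix.ProjectiveSpecialLinearGroup (Fin 2) E) := by
  classical
  obtain ⟨E, fE, ftE, alg, σ, ω, hcard, hinv, hfix, hspan, hsum, hprod⟩ := exists_model hab
  refine ⟨E, fE, ftE, hcard, ?_⟩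
  have hq2 : 2 ≤ Fintype.card F := Fintype.one_lt_card
  let Qm : QuadraticForm F ((Fin 1 ⊕ Fin 1) ⊕ Fin 2 → F) :=
    formOf 1 (Equiv.refl ((Fin 1 ⊕ Fin 1) ⊕ Fin 2)) (OCount.planeForm a b)
  have hP : OCount.PND Qm := formOf_pnd (pnd_plane hab)
  have hQ : ∀ v, (herm σ ω v).det = -algebraMap F E (Qm v) := fun v => by
    rw [show Qm v = Cfsg.quadFormMinus 1 F a b v from congrFun (coe_minus 1 a b) v, Matrix.det_fin_two]
    simp [herm, Cfsg.quadFormMinus]
    linear_combination (algebraMap F E (v (.inr 0)) * algebraMap F E (v (.inr 1))) * hsum -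
      (algebraMap F E (v (.inr 1))) ^ 2 * hprod
  have hψinj : Function.Injective (hermLM σ ω) := fun u v h => by
    have e := fun i j => congrFun (congrFun h i) j
    have e00 := e 0 0
    have e01 := e 0 1
    have e11 := e 1 1
    simp [hermLM, herm] at e00 e01 e11
    have h1 : u (.inr 1) = v (.inr 1) := by
      by_contra hne
      have hω : σ ω = ω := by
        have : ω = algebraMap F E ((u (.inr 0) - v (.inr 0)) / (u (.inr 1) - v (.inr 1))) := by
          rw [map_div₀, eq_div_iff (by simpa [sub_eq_zero] using hne), map_sub, map_sub]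
          linear_combination -e01
        rw [this, AlgEquiv.commutes]
      obtain ⟨c, hc⟩ := hfix ω hω
      rw [← hc, AlgEquiv.commutes, ← map_add, ← map_neg, (algebraMap F E).injective.eq_iff] at hsum
      rw [← hc, AlgEquiv.commutes, ← map_mul, (algebraMap F E).injective.eq_iff] at hprod
      exact one_ne_zero (hab c 1 (by linear_combination c * hsum - hprod)).2
    have h0 : u (.inr 0) = v (.inr 0) := by
      rw [h1] at e01
      exact (algebraMap F E).injective (by linear_combination e01)
    funext k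
    rcases k with (k | k) | k <;> fin_cases k
    · exact e00
    · exact e11
    · exact h0
    · exact h1
  let star : Matrix (Fin 2) (Fin 2) E → Matrix (Fin 2) (Fin 2) E := fun M => M.transpose.map σ
  have star_mul : ∀ M N, star (M * N) = star N * star M := fun M N => by
    ext i j; simp [star, Matrix.mul_apply, map_sum, mul_comm]
  have star_star : ∀ M, star (star M) = M := fun M => by ext i j; simp [star, hinv]
  have hstar : ∀ v, star (herm σ ω v) = herm σ ω v := fun v => by
    ext i j; fin_cases i <;> fin_cases j <;> simp [star, herm, hinv]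
  have hrange : ∀ M, star M = M → M ∈ LinearMap.range (hermLM σ ω) := fun M hM => by
    have e := fun i j => congrFun (congrFun hM i) j
    obtain ⟨x, hx⟩ := hfix (M 0 0) (e 0 0)
    obtain ⟨y, hy⟩ := hfix (M 1 1) (e 1 1)
    obtain ⟨z₀, z₁, hz⟩ := hspan (M 0 1)
    refine ⟨Sum.elim (Sum.elim ![x] ![-y]) ![z₀, z₁], ?_⟩
    have e10 : σ (M 0 1) = M 1 0 := e 1 0
    rw [hz, map_sub, map_mul, AlgEquiv.commutes, AlgEquiv.commutes] at e10
    ext i j; fin_cases i <;> fin_cases j <;> simp [hermLM, herm, hx, hy, hz, e10]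
  let A : Matrix.SpecialLinearGroup (Fin 2) E → Matrix (Fin 2) (Fin 2) E →ₗ[F] Matrix (Fin 2) (Fin 2) E := fun g =>
    { toFun := fun M => g.1 * M * star g.1
      map_add' := fun M N => by rw [Matrix.mul_add, Matrix.add_mul]
      map_smul' := fun c M => by simp }
  let ψ := LinearEquiv.ofInjective (hermLM σ ω) hψinj
  have hmem : ∀ g v, A g (hermLM σ ω v) ∈ LinearMap.range (hermLM σ ω) := fun g v => hrange _ (by
    show star (g.1 * herm σ ω v * star g.1) = g.1 * herm σ ω v * star g.1
    rw [star_mul, star_mul, star_star, hstar, Matrix.mul_assoc])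
  let act : Matrix.SpecialLinearGroup (Fin 2) E → ((Fin 1 ⊕ Fin 1) ⊕ Fin 2 → F) →ₗ[F] ((Fin 1 ⊕ Fin 1) ⊕ Fin 2 → F) :=
    fun g => ψ.symm.toLinearMap.comp (LinearMap.codRestrict _ ((A g).comp (hermLM σ ω)) (hmem g))
  have hact : ∀ g v, herm σ ω (act g v) = g.1 * herm σ ω v * star g.1 := fun g v => by
    have h := congrArg Subtype.val (ψ.apply_symm_apply ⟨A g (hermLM σ ω v), hmem g v⟩)
    rwa [LinearEquiv.ofInjective_apply] at h
  have hmul : ∀ g h v, act (g * h) v = act g (act h v) := fun g h v => hψinj (by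
    show herm σ ω _ = herm σ ω _
    rw [hact, hact, hact, Matrix.SpecialLinearGroup.coe_mul, star_mul]
    simp [Matrix.mul_assoc])
  have hone : ∀ v, act 1 v = v := fun v => hψinj (by
    show herm σ ω _ = herm σ ω _
    rw [hact, Matrix.SpecialLinearGroup.coe_one, show star (1 : Matrix (Fin 2) (Fin 2) E) = 1 by
      ext i j; fin_cases i <;> fin_cases j <;> simp [star], Matrix.one_mul, Matrix.mul_one])
  have hdet : ∀ M, (star M).det = σ M.det := fun M => by
    simp [star, Matrix.det_fin_two, mul_comm]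
  let iso : Matrix.SpecialLinearGroup (Fin 2) E → ↥(Iso Qm) := fun g =>
    ⟨LinearEquiv.ofLinear (act g) (act g⁻¹)
      (LinearMap.ext fun x => by rw [LinearMap.comp_apply, ← hmul, mul_inv_cancel, hone, LinearMap.id_apply])
      (LinearMap.ext fun x => by rw [LinearMap.comp_apply, ← hmul, inv_mul_cancel, hone, LinearMap.id_apply]),
    fun x => by
      change Qm (act g x) = Qm x
      refine (algebraMap F E).injective (neg_inj.mp ?_)
      rw [← hQ, ← hQ, hact, Matrix.det_mul, Matrix.det_mul, hdet, g.2, map_one, one_mul, mul_one]⟩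
  let hom : Matrix.SpecialLinearGroup (Fin 2) E →* ↥(Iso Qm) :=
    MonoidHom.mk' iso fun g h => Subtype.ext (LinearEquiv.ext (hmul g h))
  have hker : ∀ g, hom g = 1 → g.1 = 1 ∨ g.1 = -1 := by
    intro g hg
    have e : ∀ M, star M = M → g.1 * M * star g.1 = M := fun M hM => by
      obtain ⟨v, rfl⟩ := hrange M hM
      have e' : act g v = v := LinearEquiv.congr_fun (congrArg Subtype.val hg) v
      show g.1 * herm σ ω v * star g.1 = herm σ ω v
      rw [← hact, e']
    have h1 := e 1 (by ext i j; fin_cases i <;> fin_cases j <;> simp [star])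
    rw [Matrix.mul_one] at h1
    have hinv' : (g⁻¹).1 = star g.1 := by
      calc (g⁻¹).1 = (g⁻¹).1 * (g.1 * star g.1) := by rw [h1, Matrix.mul_one]
        _ = star g.1 := by
          rw [← Matrix.mul_assoc, ← Matrix.SpecialLinearGroup.coe_mul, inv_mul_cancel,
            Matrix.SpecialLinearGroup.coe_one, Matrix.one_mul]
    have hc : ∀ M, star M = M → g.1 * M = M * g.1 := fun M hM => by
      conv_rhs => rw [← e M hM, Matrix.mul_assoc _ (star g.1), ← hinv', ← Matrix.SpecialLinearGroup.coe_mul,
        inv_mul_cancel, Matrix.SpecialLinearGroup.coe_one, Matrix.mul_one]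
    have c1 := hc !![1, 0; 0, 0] (by ext i j; fin_cases i <;> fin_cases j <;> simp [star])
    have c2 := hc !![0, 1; 1, 0] (by ext i j; fin_cases i <;> fin_cases j <;> simp [star])
    have a1 := congrFun (congrFun c1 0) 1
    have a2 := congrFun (congrFun c1 1) 0
    have a3 := congrFun (congrFun c2 0) 1
    simp [Matrix.mul_apply, Fin.sum_univ_two] at a1 a2 a3
    have hd := g.2
    rw [Matrix.det_fin_two, a2, mul_zero, sub_zero, ← a3] at hd
    rcases mul_self_eq_one_iff.mp hd with e' | e'
    · left; ext i j; fin_cases i <;> fin_cases j <;> simp [e', a1, a2, ← a3]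
    · right; ext i j; fin_cases i <;> fin_cases j <;> simp [e', a2, ← a3, ← a1]
  have hE4 : 4 ≤ Fintype.card E := by rw [hcard]; exact (Nat.pow_le_pow_left hq2 2 : 2 ^ 2 ≤ _)
  have hle : ∀ g, hom g ∈ commutator ↥(Iso Qm) := fun g => by
    rw [← Abelianization.ker_of, MonoidHom.mem_ker]
    exact hom_trivial hE4 (Abelianization.of.comp hom) g
  haveI : Finite ↥(Iso Qm) := Finite.of_injective (fun g => (⇑g.1 : ((Fin 1 ⊕ Fin 1) ⊕ Fin 2 → F) → _))
    fun g g' e => Subtype.ext (LinearEquiv.ext (congrFun e))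
  have hrange' : hom.range = commutator ↥(Iso Qm) := by
    refine Subgroup.eq_of_le_of_card_ge (by rintro _ ⟨g, rfl⟩; exact hle g) ?_
    have hO := OCount.card_minus 1 a b hab
    rw [← coe_minus 1 a b] at hO
    have hker' := Subgroup.card_mul_index hom.ker
    rw [Subgroup.index_ker, Cfsg.Agent.Small.SL2C.card_SL2, hcard] at hker'
    obtain ⟨q, hq'⟩ : ∃ q, q = Fintype.card F := ⟨_, rfl⟩
    rw [← hq'] at hO hker' hq2
    have hO' : Nat.card ↥(Cfsg.isometryGroup F ⇑Qm) = 2 * (q ^ 2 * ((q ^ 2) ^ 2 - 1)) := by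
      rw [show Nat.card ↥(Cfsg.isometryGroup F ⇑Qm) = _ from hO, Finset.prod_range_one]
      simp only [OCount.valNum]
      obtain ⟨k, rfl⟩ : ∃ k, q = k + 2 := ⟨q - 2, by omega⟩
      norm_num
      have h2 : ((k + 2) ^ 2) ^ 2 - 1 = (k + 1) * (k + 3) * ((k + 2) ^ 2 + 1) := by
        have : (k + 1) * (k + 3) * ((k + 2) ^ 2 + 1) + 1 = ((k + 2) ^ 2) ^ 2 := by ring
        omega
      rw [h2]
      ring
    obtain ⟨X, hX⟩ : ∃ X, X = q ^ 2 * ((q ^ 2) ^ 2 - 1) := ⟨_, rfl⟩
    rw [← hX] at hO' hker'
    by_cases h2 : (2 : F) = 0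
    · haveI : CharP F 2 := CharTwo.of_one_ne_zero_of_two_eq_zero one_ne_zero h2
      have hk1 : Nat.card ↥hom.ker = 1 := by
        rw [Subgroup.card_eq_one, Subgroup.eq_bot_iff_forall]
        intro p hp
        have h2E : (2 : E) = 0 := by rw [← map_ofNat (algebraMap F E) 2, h2, map_zero]
        have hone : (-1 : Matrix (Fin 2) (Fin 2) E) = 1 := by
          ext i j; simp only [Matrix.neg_apply]
          linear_combination -((1 : Matrix (Fin 2) (Fin 2) E) i j) * h2E
        have := hker p (MonoidHom.mem_ker.mp hp)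
        rw [hone, or_self] at this
        exact Subtype.ext this
      rw [hk1, one_mul] at hker'
      obtain ⟨D, hD⟩ := exists_dickson (Q := Qm) hP
      obtain ⟨v, hv⟩ : ∃ v, Qm v ≠ 0 := exists_nonsing' hP (by simp)
      have hlt : commutator ↥(Iso Qm) ≠ ⊤ := fun htop => by
        have := Abelianization.commutator_subset_ker D (htop ▸ Subgroup.mem_top (rf Qm v))
        rw [MonoidHom.mem_ker, hD v hv, ← ofAdd_zero] at this
        exact one_ne_zero (Multiplicative.ofAdd.injective this)
      have hidx := Subgroup.card_mul_index (commutator ↥(Iso Qm))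
      have h2i : 2 ≤ (commutator ↥(Iso Qm)).index := by
        have h0 : (commutator ↥(Iso Qm)).index ≠ 0 := Subgroup.index_ne_zero_of_finite
        have h1 : (commutator ↥(Iso Qm)).index ≠ 1 := fun e => hlt (Subgroup.index_eq_one.mp e)
        omega
      have := Nat.mul_le_mul_left (Nat.card ↥(commutator ↥(Iso Qm))) h2i
      rw [hidx, Nat.card_congr (toMat Qm).toEquiv, hO'] at this
      omega
    · have hidx := Subgroup.card_mul_index (Cfsg.Omega F ⇑Qm)
      rw [hO', card_omega_eq, index_omega_odd h2 hP (by simp)] at hidx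
      have hk2 := card_ker_le hom (fun p => p.1 = 1) fun p p' hp hp' e => pm_inj (hker p hp) (hker p' hp') e
      have hle2 := Nat.mul_le_mul_right (Nat.card ↥hom.range) hk2
      rw [hker'] at hle2
      omega
  rw [← coe_minus 1 a b]
  let φ : Matrix.SpecialLinearGroup (Fin 2) E →* ↥(commutator ↥(Iso Qm)) := hom.codRestrict _ hle
  have hs : Function.Surjective φ := fun x => by
    obtain ⟨g, hg⟩ : x.1 ∈ hom.range := hrange'.symm ▸ x.2
    exact ⟨g, Subtype.ext hg⟩
  obtain ⟨e⟩ := Klein.center_quot_equiv φ hs (fun g hg => pm_central (hker g (congrArg Subtype.val hg)))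
    (center_bot_of_step fun g h => central_step h)
  exact ⟨(pOmegaEquiv Qm).symm.trans e.symm⟩

/-- Isomorphic fields have isomorphic projective special linear groups. -/
theorem psl_two_congr {E K : Type*} [Field E] [Field K] (e : E ≃+* K) :
    Nonempty (Matrix.ProjectiveSpecialLinearGroup (Fin 2) E ≃* Matrix.ProjectiveSpecialLinearGroup (Fin 2) K) := by
  let f : Matrix.SpecialLinearGroup (Fin 2) E ≃* Matrix.SpecialLinearGroup (Fin 2) K :=
    MonoidHom.toMulEquiv (Matrix.SpecialLinearGroup.map e.toRingHom) (Matrix.SpecialLinearGroup.map e.symm.toRingHom)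
      (MonoidHom.ext fun g => Subtype.ext (by ext i j; simp)) (MonoidHom.ext fun g => Subtype.ext (by ext i j; simp))
  refine ⟨QuotientGroup.congr _ _ f ?_⟩
  refine le_antisymm ?_ fun x hx => ⟨f.symm x, ?_, f.apply_symm_apply x⟩
  · rintro _ ⟨x, hx, rfl⟩
    rw [Subgroup.mem_center_iff]
    intro y
    have := Subgroup.mem_center_iff.mp hx (f.symm y)
    show y * f x = f x * y
    rw [← f.apply_symm_apply y, ← map_mul, ← map_mul, this]
  · rw [SetLike.mem_coe, Subgroup.mem_center_iff]
    intro y
    apply f.injective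
    rw [map_mul, map_mul, MulEquiv.apply_symm_apply]
    exact Subgroup.mem_center_iff.mp hx (f y)

end Cfsg.Agent.Classical.SmallIso
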