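import Cfsg.Agent.Lib.Classical.KleinPSL
import Cfsg.Agent.Lib.Classical.OrthFourMinus
import Cfsg.Agent.Lib.Classical.OrthClosed
import Cfsg.Agent.Lib.Classical.UnitaryOrders
import Cfsg.Agent.Lib.Small.Unitary.Simple

/-!
# `PΩ⁻₆(q) ≅ PSU₄(q)`

The Klein representation of `SU₄` commutes with the semilinear involution that exchanges
complementary Plücker coordinates and conjugates them; on its fixed points the Pfaffian is a sum of
three norms.
-/

set_option autoImplicit false
set_option linter.unusedSectionVars false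

namespace Cfsg.Agent.Classical.KleinHerm

open Module Matrix QuadraticMap ORefl OOmega

universe u v

/-- A quadratic extension adapted to an anisotropic binary form, inside a given field. -/
theorem model_in {F : Type u} {K : Type v} [Field F] [Fintype F] [Field K] [Fintype K] {q : ℕ}
    (hF : Fintype.card F = q) (hK : Fintype.card K = q ^ 2) {a b : F}
    (hab : ∀ z₁ z₂ : F, z₁ ^ 2 + a * z₁ * z₂ + b * z₂ ^ 2 = 0 → z₁ = 0 ∧ z₂ = 0) :
    ∃ (ι : F →+* K) (σ : K ≃+* K) (ω : K), IsUSigma q σ ∧ (∀ x, σ (ι x) = ι x) ∧ σ ω ≠ ω ∧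
      ω + σ ω = -ι a ∧ ω * σ ω = ι b := by
  obtain ⟨E, fE, ftE, alg, σ₀, ω, hcard, -, -, hspan, hsum, hprod⟩ := SmallIso.exists_model hab
  obtain ⟨-, -, σ, -, -, -, -, hσ⟩ := exists_usigma hK
  let e : E ≃+* K := FiniteField.ringEquivOfCardEq (by rw [hcard, hF, hK])
  let ι : F →+* K := e.toRingHom.comp (algebraMap F E)
  have hι : ∀ x, σ (ι x) = ι x := fun x => by rw [hσ.apply_eq, ← map_pow, ← hF, FiniteField.pow_card]
  have hs : e ω + e (σ₀ ω) = -ι a := by rw [← map_add, hsum, map_neg]; rfl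
  have hp : e ω * e (σ₀ ω) = ι b := by rw [← map_mul, hprod]; rfl
  have hne : σ (e ω) ≠ e ω := fun h => hσ.ne_refl (RingEquiv.ext fun x => by
    obtain ⟨y, rfl⟩ := e.surjective x
    obtain ⟨z₀, z₁, rfl⟩ := hspan y
    rw [map_sub, map_mul, map_sub, map_mul]
    show σ (ι z₀) - σ (ι z₁) * σ (e ω) = _
    rw [hι, hι, h]
    rfl)
  have hroot : e ω ^ 2 + ι a * e ω + ι b = 0 := by linear_combination (e ω) * hs - hp
  have h2 := congrArg σ hroot
  simp only [map_add, map_pow, map_mul, map_zero, hι] at h2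
  have hsum' : e ω + σ (e ω) = -ι a := by
    refine mul_left_cancel₀ (sub_ne_zero.mpr hne) ?_
    linear_combination h2 - hroot
  exact ⟨ι, σ, e ω, hσ, hι, hne, hsum', by linear_combination e ω * hsum' - hroot⟩

section Semilinear

variable {K : Type*} [Field K] (σ : K ≃+* K)

/-- The semilinear involution on the six coordinates. -/
def tau (x : Fin 3 ⊕ Fin 3 → K) : Fin 3 ⊕ Fin 3 → K := fun k => σ (x k.swap)

theorem tau_tau (hinv : ∀ x, σ (σ x) = x) (x : Fin 3 ⊕ Fin 3 → K) : tau σ (tau σ x) = x :=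
  funext fun k => by simp [tau, hinv]

theorem tau_add (x y : Fin 3 ⊕ Fin 3 → K) : tau σ (x + y) = tau σ x + tau σ y :=
  funext fun k => by simp [tau]

theorem tau_smul (c : K) (x : Fin 3 ⊕ Fin 3 → K) : tau σ (c • x) = σ c • tau σ x :=
  funext fun k => by simp [tau]

theorem act_map (g : Matrix (Fin 4) (Fin 4) K) (x : Fin 3 ⊕ Fin 3 → K) :
    Klein.act (g.map σ) (fun k => σ (x k)) = fun k => σ (Klein.act g x k) := by
  have h1 : Klein.alt (fun k => σ (x k)) = (Klein.alt x).map σ := by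
    ext i j
    fin_cases i <;> fin_cases j <;> simp [Klein.alt]
  have h2 : ∀ M : Matrix (Fin 4) (Fin 4) K, Klein.coords (M.map σ) = fun k => σ (Klein.coords M k) := fun M => by
    funext k
    rcases k with k | k <;> fin_cases k <;> simp [Klein.coords]
  rw [Klein.act_apply, Klein.act_apply, h1, ← h2, Matrix.map_mul, Matrix.map_mul, Matrix.transpose_map]

theorem dot_act (g : Matrix (Fin 4) (Fin 4) K) (x y : Fin 3 ⊕ Fin 3 → K) :
    Klein.act gᵀ x ⬝ᵥ y = x ⬝ᵥ Klein.act g y := by
  simp only [dotProduct, Fintype.sum_sum_type, Fin.sum_univ_three, Klein.act_apply, Klein.coords, Klein.alt,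
    Matrix.mul_apply, Fin.sum_univ_four, Matrix.transpose_apply, Sum.elim_inl, Sum.elim_inr, Matrix.of_apply,
    Matrix.cons_val]
  ring

theorem swap_act {g : Matrix (Fin 4) (Fin 4) K} (hg : g.det = 1) (x : Fin 3 ⊕ Fin 3 → K) :
    Klein.act gᵀ (fun k => Klein.act g x k.swap) = fun k => x k.swap := by
  refine dotProduct_eq _ _ fun y => ?_
  rw [dot_act]
  have hB : ∀ u w : Fin 3 ⊕ Fin 3 → K,
      (fun k => u k.swap) ⬝ᵥ w = Cfsg.quadFormPlus 3 K (u + w) - Cfsg.quadFormPlus 3 K u - Cfsg.quadFormPlus 3 K w := by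
    intro u w
    simp only [dotProduct, Fintype.sum_sum_type, Fin.sum_univ_three, Cfsg.quadFormPlus, Pi.add_apply, Sum.swap_inl,
      Sum.swap_inr]
    ring
  have hQ : ∀ u, Cfsg.quadFormPlus 3 K (Klein.act g u) = Cfsg.quadFormPlus 3 K u := fun u => by
    rw [Klein.quad_act (by rw [hg]; exact one_ne_zero), hg, one_mul]
  rw [hB, hB, ← map_add, hQ, hQ, hQ]

theorem tau_act (hinv : ∀ x, σ (σ x) = x) {g : Matrix (Fin 4) (Fin 4) K} (hg : g.det = 1)
    (hu : gᵀ * g.map σ = 1) (x : Fin 3 ⊕ Fin 3 → K) : tau σ (Klein.act g x) = Klein.act g (tau σ x) := by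
  have e := congrArg (Klein.act (g.map σ)) (swap_act hg x)
  rw [← Klein.act_mul, mul_eq_one_comm.mp hu, Klein.act_one] at e
  have h2 := act_map σ (g.map σ) fun k => x k.swap
  rw [← e] at h2
  rw [show (g.map σ).map σ = g from by ext i j; simp [hinv]] at h2
  exact h2.symm

end Semilinear

variable {F : Type u} {K : Type v} [Field F] [Fintype F] [Field K] [Fintype K]

/-- `PΩ⁻₆(q) ≅ PSU₄(q)`. -/
theorem pOmega_six_minus {q : ℕ} (hF : Fintype.card F = q) (hK : Fintype.card K = q ^ 2) (a b : F)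
    (hab : ∀ z₁ z₂ : F, z₁ ^ 2 + a * z₁ * z₂ + b * z₂ ^ 2 = 0 → z₁ = 0 ∧ z₂ = 0) :
    Nonempty (Cfsg.POmega F (Cfsg.quadFormMinus 2 F a b) ≃* Cfsg.PSU 4 K q) := by
  classical
  obtain ⟨ι, σ, ω, hσ, hι, hω, hsum, hprod⟩ := model_in (K := K) hF hK hab
  letI : Algebra F K := ι.toAlgebra
  have hsmul : ∀ (c : F) (x : K), c • x = ι c * x := fun c x => rfl
  letI : StarRing K := Cfsg.Agent.Small.Hermitian.starRingOfInvolution σ.toRingHom hσ.involutive
  have hstar : ∀ x : K, star x = x ^ q := hσ.apply_eq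
  -- two norms `-1`
  obtain ⟨ξ, -, hξ⟩ := hσ.norm_surjective (t := (-1 : K)) (neg_ne_zero.mpr one_ne_zero) (by simp)
  obtain ⟨ζ, hζ, hζ1, -, -⟩ := hσ.exists_norm_one
  obtain ⟨η, hη⟩ : ∃ η, η = ξ * ζ := ⟨_, rfl⟩
  have hNη : η * σ η = -1 := by rw [hη, map_mul]; linear_combination (ξ * σ ξ) * hζ + hξ
  have hc : 1 + ξ * σ η ≠ 0 := fun h => hζ1 (by
    rw [hη, map_mul] at h
    have h1 : σ ζ = 1 := by linear_combination -h + σ ζ * hξ
    rw [← hσ.involutive ζ, h1, map_one])
  have hδ : ω - σ ω ≠ 0 := sub_ne_zero.mpr hω.symm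
  -- the coordinates
  let α : ((Fin 2 ⊕ Fin 2) ⊕ Fin 2 → F) → K := fun v => ι (v (.inl (.inl 0))) + ι (v (.inl (.inl 1))) * ω
  let β : ((Fin 2 ⊕ Fin 2) ⊕ Fin 2 → F) → K := fun v =>
    σ ((ι (v (.inl (.inr 1))) - ι (v (.inl (.inr 0))) * σ ω) / ((ω - σ ω) * (1 + ξ * σ η)))
  let h : ((Fin 2 ⊕ Fin 2) ⊕ Fin 2 → F) → Fin 3 → K := fun v =>
    ![α v + β v, α v * ξ + β v * η, ι (v (.inr 0)) - ι (v (.inr 1)) * ω]
  let Ψ : ((Fin 2 ⊕ Fin 2) ⊕ Fin 2 → F) →ₗ[F] (Fin 3 ⊕ Fin 3 → K) :=
    { toFun := fun v => Sum.elim (h v) (fun i => σ (h v i))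
      map_add' := fun v w => by
        funext k
        rcases k with k | k <;> fin_cases k <;> simp [h, α, β, hι, hσ.involutive] <;> ring
      map_smul' := fun c v => by
        funext k
        rcases k with k | k <;> fin_cases k <;> simp [h, α, β, hsmul, hι, hσ.involutive] <;> ring }
  -- uniqueness of coordinates
  have hind : ∀ x y : F, ι x + ι y * ω = 0 → x = 0 ∧ y = 0 := by
    intro x y e
    have e' := congrArg σ e
    rw [map_add, map_mul, hι, hι, map_zero] at e'
    have hy : y = 0 := ι.injective (by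
      rw [map_zero]
      refine (mul_eq_zero.mp (show ι y * (ω - σ ω) = 0 by linear_combination e - e')).resolve_right hδ)
    rw [hy, map_zero, zero_mul, add_zero, ← map_zero ι] at e
    exact ⟨ι.injective e, hy⟩
  have hh : Function.Injective h := by
    suffices h0 : ∀ v, h v = 0 → v = 0 by
      intro v w e
      refine sub_eq_zero.mp (h0 _ (funext fun i => ?_))
      have e1 : Ψ (v - w) (Sum.inl i) = Ψ v (Sum.inl i) - Ψ w (Sum.inl i) := by rw [map_sub, Pi.sub_apply]
      exact e1.trans (sub_eq_zero.mpr (congrFun e i))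
    intro v hv
    have e0 : α v + β v = 0 := congrFun hv 0
    have e1 : α v * ξ + β v * η = 0 := congrFun hv 1
    have e2 : ι (v (.inr 0)) - ι (v (.inr 1)) * ω = 0 := congrFun hv 2
    have hne : ξ - η ≠ 0 := fun e => hc (by rw [← sub_eq_zero.mp e]; linear_combination hξ)
    have hα : α v = 0 := (mul_eq_zero.mp (show α v * (ξ - η) = 0 by linear_combination e1 - η * e0)).resolve_right hne
    have hβ : β v = 0 := by linear_combination e0 - hα
    have hy := congrArg σ hβ
    simp only [β, hσ.involutive, map_zero, div_eq_zero_iff, mul_eq_zero, hδ, hc, or_self, or_false] at hy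
    obtain ⟨x0, x1⟩ := hind _ _ hα
    obtain ⟨y1, y0⟩ := hind (v (.inl (.inr 1))) (-v (.inl (.inr 0))) (by
      have e' := congrArg σ hy
      rw [map_sub, map_mul, hι, hι, hσ.involutive, map_zero] at e'
      rw [map_neg]; linear_combination e')
    obtain ⟨z0, z1⟩ := hind (v (.inr 0)) (-v (.inr 1)) (by rw [map_neg]; linear_combination e2)
    funext k
    rcases k with (k | k) | k <;> fin_cases k
    exacts [x0, x1, neg_eq_zero.mp y0, y1, z0, neg_eq_zero.mp z1]
  have hΨinj : Function.Injective Ψ := fun v w e => hh (funext fun i => congrFun e (.inl i))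
  have hbij : Function.Bijective h := (Fintype.bijective_iff_injective_and_card _).mpr ⟨hh, by
    rw [Fintype.card_fun, Fintype.card_fun, hF, hK]; simp [← pow_mul]⟩
  have hfix : ∀ v, tau σ (Ψ v) = Ψ v := fun v => by
    funext k
    rcases k with k | k
    · exact hσ.involutive (h v k)
    · rfl
  have hrange : ∀ x, tau σ x = x → x ∈ LinearMap.range Ψ := fun x hx => by
    obtain ⟨v, hv⟩ := hbij.2 fun i => x (.inl i)
    refine ⟨v, funext fun k => ?_⟩
    rcases k with k | k
    · exact congrFun hv k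
    · show σ (h v k) = x (.inr k)
      rw [hv]
      exact congrFun hx (.inr k)
  have hQ : ∀ v, Cfsg.quadFormPlus 3 K (Ψ v) = ι (Cfsg.quadFormMinus 2 F a b v) := by
    intro v
    have hA : α v * σ (β v) * (1 + ξ * σ η) * (ω - σ ω) =
        α v * (ι (v (.inl (.inr 1))) - ι (v (.inl (.inr 0))) * σ ω) := by
      simp only [β, hσ.involutive]
      field_simp
    have hB : σ (α v) * β v * (1 + σ ξ * η) * (σ ω - ω) =
        σ (α v) * (ι (v (.inl (.inr 1))) - ι (v (.inl (.inr 0))) * ω) := by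
      have := congrArg σ hA
      simp only [map_mul, map_sub, map_add, map_one, hι, hσ.involutive] at this
      exact this
    have hAB : α v * σ (β v) * (1 + ξ * σ η) + σ (α v) * β v * (1 + σ ξ * η) =
        ι (v (.inl (.inl 0))) * ι (v (.inl (.inr 0))) + ι (v (.inl (.inl 1))) * ι (v (.inl (.inr 1))) := by
      refine mul_right_cancel₀ hδ ?_
      simp only [α, map_add, map_mul, hι] at hA hB ⊢
      linear_combination hA - hB
    show ∑ i, Sum.elim (h v) (fun i => σ (h v i)) (.inl i) * Sum.elim (h v) (fun i => σ (h v i)) (.inr i) = _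
    simp only [Fin.sum_univ_three, Sum.elim_inl, Sum.elim_inr, h, Matrix.cons_val, map_add, map_sub, map_mul, hι,
      Cfsg.quadFormMinus, Fin.sum_univ_two, map_pow]
    linear_combination hAB + (α v * σ (α v)) * hξ + (β v * σ (β v)) * hNη +
      (ι (v (.inr 1))) ^ 2 * hprod - (ι (v (.inr 0)) * ι (v (.inr 1))) * hsum
  -- the action
  have hunit : ∀ g : Cfsg.SU 4 K q, g.1.1ᵀ * g.1.1.map σ = 1 := fun g => by
    have e := congrArg Matrix.transpose (Cfsg.Agent.Small.Unitary.conjTranspose_mul_self hstar g)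
    rw [Matrix.transpose_mul, Matrix.transpose_one] at e
    exact e
  let A : Cfsg.SU 4 K q → (Fin 3 ⊕ Fin 3 → K) →ₗ[F] (Fin 3 ⊕ Fin 3 → K) := fun g => (Klein.act g.1.1).restrictScalars F
  let ψ := LinearEquiv.ofInjective Ψ hΨinj
  have hmem : ∀ g v, A g (Ψ v) ∈ LinearMap.range Ψ := fun g v => hrange _ (by
    show tau σ (Klein.act g.1.1 (Ψ v)) = Klein.act g.1.1 (Ψ v)
    rw [tau_act σ hσ.involutive g.1.2 (hunit g), hfix])
  let act : Cfsg.SU 4 K q → ((Fin 2 ⊕ Fin 2) ⊕ Fin 2 → F) →ₗ[F] ((Fin 2 ⊕ Fin 2) ⊕ Fin 2 → F) := fun g =>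
    ψ.symm.toLinearMap.comp (LinearMap.codRestrict _ ((A g).comp Ψ) (hmem g))
  have hact : ∀ g v, Ψ (act g v) = Klein.act g.1.1 (Ψ v) := fun g v => by
    have e := congrArg Subtype.val (ψ.apply_symm_apply ⟨A g (Ψ v), hmem g v⟩)
    rwa [LinearEquiv.ofInjective_apply] at e
  have hmul : ∀ g g' v, act (g * g') v = act g (act g' v) := fun g g' v => hΨinj (by
    rw [hact, hact, hact, ← Klein.act_mul]
    rfl)
  have hone : ∀ v, act 1 v = v := fun v => hΨinj (by
    rw [hact]
    exact Klein.act_one _)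
  let Qm : QuadraticForm F ((Fin 2 ⊕ Fin 2) ⊕ Fin 2 → F) :=
    formOf 2 (Equiv.refl ((Fin 2 ⊕ Fin 2) ⊕ Fin 2)) (OCount.planeForm a b)
  have hP : OCount.PND Qm := formOf_pnd (pnd_plane hab)
  let iso : Cfsg.SU 4 K q → ↥(Iso Qm) := fun g =>
    ⟨LinearEquiv.ofLinear (act g) (act g⁻¹)
      (LinearMap.ext fun x => by rw [LinearMap.comp_apply, ← hmul, mul_inv_cancel, hone, LinearMap.id_apply])
      (LinearMap.ext fun x => by rw [LinearMap.comp_apply, ← hmul, inv_mul_cancel, hone, LinearMap.id_apply]),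
    fun x => by
      change Qm (act g x) = Qm x
      have hc := congrFun (coe_minus (F := F) 2 a b)
      refine ι.injective ?_
      rw [show Qm (act g x) = _ from hc _, show Qm x = _ from hc _, ← hQ, ← hQ, hact,
        Klein.quad_act (by rw [g.1.2]; exact one_ne_zero), g.1.2, one_mul]⟩
  let hom : Cfsg.SU 4 K q →* ↥(Iso Qm) := MonoidHom.mk' iso fun g g' => Subtype.ext (LinearEquiv.ext (hmul g g'))
  have hperf := Cfsg.Agent.Small.Unitary.commutator_eq_top (n := 4) hstar hK (by norm_num) (by omega)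
  have hle : hom.range ≤ commutator ↥(Iso Qm) := by
    rw [MonoidHom.range_eq_map, ← hperf, commutator_def, Subgroup.map_commutator, commutator_def]
    exact Subgroup.commutator_mono le_top le_top
  -- the kernel
  have hker : ∀ g, hom g = 1 → g.1.1 = 1 ∨ g.1.1 = -1 := by
    intro g hg
    have e : ∀ x, tau σ x = x → Klein.act g.1.1 x = x := fun x hx => by
      obtain ⟨v, rfl⟩ := hrange x hx
      rw [← hact, show act g v = v from LinearEquiv.congr_fun (congrArg Subtype.val hg) v]
    have hall : ∀ x, Klein.act g.1.1 x = x := fun x => by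
      have e1 := e (x + tau σ x) (by rw [tau_add, tau_tau σ hσ.involutive, add_comm])
      have e2 := e (ω • x + σ ω • tau σ x) (by
        rw [tau_add, tau_smul, tau_smul, tau_tau σ hσ.involutive, hσ.involutive, add_comm])
      rw [map_add] at e1
      rw [map_add, map_smul, map_smul] at e2
      refine smul_right_injective _ hδ ?_
      show (ω - σ ω) • Klein.act g.1.1 x = (ω - σ ω) • x
      calc (ω - σ ω) • Klein.act g.1.1 x
          = (ω • Klein.act g.1.1 x + σ ω • Klein.act g.1.1 (tau σ x)) -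
              σ ω • (Klein.act g.1.1 x + Klein.act g.1.1 (tau σ x)) := by module
        _ = (ω - σ ω) • x := by rw [e1, e2]; module
    exact Klein.mem_ker_iff.mp (MonoidHom.mem_ker.mpr (Subtype.ext (LinearEquiv.ext hall)))
  have hkerc : ∀ g, hom g = 1 → g ∈ Subgroup.center (Cfsg.SU 4 K q) := fun g hg => by
    rw [Subgroup.mem_center_iff]
    intro x
    refine Subtype.ext (Subtype.ext ?_)
    show x.1.1 * g.1.1 = g.1.1 * x.1.1
    rcases hker g hg with e | e <;> rw [e] <;> simp
  -- the image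
  haveI : Finite ↥(Iso Qm) := Finite.of_injective (fun g => (⇑g.1 : ((Fin 2 ⊕ Fin 2) ⊕ Fin 2 → F) → _))
    fun g g' e => Subtype.ext (LinearEquiv.ext (congrFun e))
  have hrange' : hom.range = commutator ↥(Iso Qm) := by
    refine Subgroup.eq_of_le_of_card_ge hle ?_
    have hO := OCount.card_GO_minus 2 a b hab
    rw [← coe_minus 2 a b, hF, Finset.prod_range_succ, Finset.prod_range_one] at hO
    simp only [zero_add, Nat.reduceAdd, Nat.reduceMul, mul_one] at hO
    have hq2 : 2 ≤ q := hF ▸ Fintype.one_lt_card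
    have hSU : Nat.card (Cfsg.SU 4 K q) = q ^ 6 * (q ^ 3 + 1) * ((q ^ 2 - 1) * (q ^ 4 - 1)) := by
      have h1 := UCount.card_SU hσ (n := 4) (by norm_num)
      rw [UCount.card_GU hσ 4] at h1
      simp only [Finset.prod_range_succ, Finset.prod_range_zero, one_mul, Nat.even_add_one, Even.zero, not_true,
        not_false_iff, if_true, if_false, zero_add, pow_one, Nat.reduceAdd, Nat.reduceMul, Nat.reduceSub,
        Nat.reduceDiv] at h1
      refine Nat.eq_of_mul_eq_mul_left (show 0 < q + 1 by omega) (h1.trans ?_)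
      ring
    have hcl : hom.ker ≤ Subgroup.center (Cfsg.SU 4 K q) := fun g hg => hkerc g hg
    have hidx := Subgroup.card_mul_index (Cfsg.Omega F ⇑Qm)
    have hker' := Subgroup.card_mul_index hom.ker
    rw [Subgroup.index_ker, hSU] at hker'
    rw [hO, SmallIso.card_omega_eq] at hidx
    have hinjv : Function.Injective fun g : Cfsg.SU 4 K q => g.1.1 := fun g g' e => Subtype.ext (Subtype.ext e)
    obtain ⟨X, hX⟩ : ∃ X, X = q ^ 6 * (q ^ 3 + 1) * ((q ^ 2 - 1) * (q ^ 4 - 1)) := ⟨_, rfl⟩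
    have hidx' : Nat.card ↥(commutator ↥(Iso Qm)) * (Cfsg.Omega F ⇑Qm).index = 2 * X := by
      rw [hidx, hX]; ring
    rw [← hX] at hker'
    by_cases h2 : (2 : F) = 0
    · haveI : CharP F 2 := CharTwo.of_one_ne_zero_of_two_eq_zero one_ne_zero h2
      rw [index_omega_two hP (by simp) (Or.inr (by simp))] at hidx'
      have hk1 : Nat.card ↥hom.ker = 1 := by
        rw [Subgroup.card_eq_one, Subgroup.eq_bot_iff_forall]
        intro p hp
        have h2K : (2 : K) = 0 := by rw [← map_ofNat ι 2, h2, map_zero]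
        have hone : (-1 : Matrix (Fin 4) (Fin 4) K) = 1 := by
          ext i j
          simp only [Matrix.neg_apply]
          linear_combination -((1 : Matrix (Fin 4) (Fin 4) K) i j) * h2K
        have := hker p (MonoidHom.mem_ker.mp hp)
        rw [hone, or_self] at this
        exact hinjv this
      rw [hk1, one_mul] at hker'
      omega
    · rw [index_omega_odd h2 hP (by simp)] at hidx'
      have hk2 := SmallIso.card_ker_le hom (fun p => p.1.1 = 1) fun p p' hp hp' e => by
        rcases hker p hp with e1 | e1 <;> rcases hker p' hp' with e2 | e2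
        · exact hinjv (e1.trans e2.symm)
        · exact hinjv (e1.trans (e.mp e1 : p'.1.1 = 1).symm)
        · exact hinjv ((e.mpr e2 : p.1.1 = 1).trans e2.symm)
        · exact hinjv (e1.trans e2.symm)
      have hle2 := Nat.mul_le_mul_right (Nat.card ↥hom.range) hk2
      rw [hker'] at hle2
      omega
  -- conclusion
  rw [← coe_minus 2 a b]
  let φ : Cfsg.SU 4 K q →* ↥(commutator ↥(Iso Qm)) := hom.codRestrict _ fun g => hle ⟨g, rfl⟩
  have hs : Function.Surjective φ := fun x => by
    obtain ⟨g, hg⟩ : x.1 ∈ hom.range := hrange'.symm ▸ x.2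
    exact ⟨g, Subtype.ext hg⟩
  have hcb : Subgroup.center (Cfsg.SU 4 K q ⧸ Subgroup.center (Cfsg.SU 4 K q)) = ⊥ := by
    haveI : IsSimpleGroup (Cfsg.SU 4 K q ⧸ Subgroup.center (Cfsg.SU 4 K q)) :=
      Cfsg.Agent.Small.Unitary.psu_simple (n := 4) hstar hK (by norm_num) (by omega)
    refine (IsSimpleGroup.eq_bot_or_eq_top_of_normal _ inferInstance).resolve_right fun htop => ?_
    have h1 := congrArg (Subgroup.map (QuotientGroup.mk' (Subgroup.center (Cfsg.SU 4 K q)))) hperf
    rw [commutator_def, Subgroup.map_commutator, Subgroup.map_top_of_surjective _ (QuotientGroup.mk'_surjective _),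
      ← commutator_def] at h1
    have h2 : commutator (Cfsg.SU 4 K q ⧸ Subgroup.center (Cfsg.SU 4 K q)) = ⊥ := by
      rw [commutator_eq_bot_iff_center_eq_top, htop]
    exact top_ne_bot (h1.symm.trans h2)
  obtain ⟨e⟩ := Klein.center_quot_equiv φ hs (fun g hg => hkerc g (congrArg Subtype.val hg)) hcb
  exact ⟨(pOmegaEquiv Qm).symm.trans e.symm⟩

end Cfsg.Agent.Classical.KleinHerm
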