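import Cfsg.Agent.Lib.Classical.OrthPOmega
import Cfsg.Agent.Lib.Small.PSLn.Simple
import Cfsg.Agent.Lib.Lead.GLBasic

/-!
# The Klein correspondence `SL₄ → O⁺₆`

An alternating `4 × 4` matrix has six coordinates, its Pfaffian is the hyperbolic form in them, and
`g` acts by `A ↦ g A gᵀ`, multiplying the Pfaffian by the determinant.
-/

set_option autoImplicit false
set_option linter.unusedSectionVars false

namespace Cfsg.Agent.Classical.Klein

open Module Matrix QuadraticMap ORefl OOmega

variable {F : Type*} [Field F]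

/-- The alternating matrix with given coordinates. -/
def alt (x : Fin 3 ⊕ Fin 3 → F) : Matrix (Fin 4) (Fin 4) F :=
  !![0, x (.inl 0), x (.inl 1), x (.inl 2);
     -x (.inl 0), 0, x (.inr 2), -x (.inr 1);
     -x (.inl 1), -x (.inr 2), 0, x (.inr 0);
     -x (.inl 2), x (.inr 1), -x (.inr 0), 0]

/-- The coordinates of a matrix. -/
def coords (M : Matrix (Fin 4) (Fin 4) F) : Fin 3 ⊕ Fin 3 → F :=
  Sum.elim ![M 0 1, M 0 2, M 0 3] ![M 2 3, -(M 1 3), M 1 2]

theorem coords_alt (x : Fin 3 ⊕ Fin 3 → F) : coords (alt x) = x := by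
  funext k
  rcases k with k | k <;> fin_cases k <;> simp [coords, alt]

theorem alt_coords {M : Matrix (Fin 4) (Fin 4) F} (h0 : ∀ i, M i i = 0) (hs : Mᵀ = -M) : alt (coords M) = M := by
  have h : ∀ i j, M j i = -(M i j) := fun i j => congrFun (congrFun hs i) j
  ext i j
  fin_cases i <;> fin_cases j <;> simp [coords, alt, h0, h 0 1, h 0 2, h 0 3, h 1 2, h 1 3, h 2 3]

theorem alt_transpose (x : Fin 3 ⊕ Fin 3 → F) : (alt x)ᵀ = -alt x := by
  ext i j
  fin_cases i <;> fin_cases j <;> simp [alt]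

theorem alt_add (x y : Fin 3 ⊕ Fin 3 → F) : alt (x + y) = alt x + alt y := by
  ext i j
  fin_cases i <;> fin_cases j <;> simp [alt] <;> ring

theorem alt_smul (c : F) (x : Fin 3 ⊕ Fin 3 → F) : alt (c • x) = c • alt x := by
  ext i j
  fin_cases i <;> fin_cases j <;> simp [alt]

theorem conj_alt_diag (g : Matrix (Fin 4) (Fin 4) F) (x : Fin 3 ⊕ Fin 3 → F) (i : Fin 4) :
    (g * alt x * gᵀ) i i = 0 := by
  simp only [Matrix.mul_apply, Matrix.transpose_apply, Fin.sum_univ_four, alt, Matrix.of_apply, Matrix.cons_val]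
  ring

/-- `x ↦ g A(x) gᵀ` in coordinates. -/
def act (g : Matrix (Fin 4) (Fin 4) F) : (Fin 3 ⊕ Fin 3 → F) →ₗ[F] Fin 3 ⊕ Fin 3 → F where
  toFun x := coords (g * alt x * gᵀ)
  map_add' x y := by
    rw [alt_add, Matrix.mul_add, Matrix.add_mul]
    funext k
    rcases k with k | k <;> fin_cases k <;> simp [coords] <;> ring
  map_smul' c x := by
    rw [alt_smul, Matrix.mul_smul, Matrix.smul_mul]
    funext k
    rcases k with k | k <;> fin_cases k <;> simp [coords]

theorem act_apply (g : Matrix (Fin 4) (Fin 4) F) (x : Fin 3 ⊕ Fin 3 → F) :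
    act g x = coords (g * alt x * gᵀ) := rfl

theorem act_mul (g h : Matrix (Fin 4) (Fin 4) F) (x : Fin 3 ⊕ Fin 3 → F) : act (g * h) x = act g (act h x) := by
  rw [act_apply, act_apply, act_apply, alt_coords (conj_alt_diag h x), Matrix.transpose_mul]
  · simp [Matrix.mul_assoc]
  · rw [Matrix.transpose_mul, Matrix.transpose_mul, Matrix.transpose_transpose, alt_transpose, Matrix.neg_mul,
      Matrix.mul_neg, Matrix.mul_assoc]

theorem act_one (x : Fin 3 ⊕ Fin 3 → F) : act 1 x = x := by
  rw [act_apply, Matrix.transpose_one, Matrix.one_mul, Matrix.mul_one, coords_alt]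

theorem quad_act {g : Matrix (Fin 4) (Fin 4) F} (hg : g.det ≠ 0) (x : Fin 3 ⊕ Fin 3 → F) :
    Cfsg.quadFormPlus 3 F (act g x) = g.det * Cfsg.quadFormPlus 3 F x := by
  revert x
  refine Matrix.diagonal_transvection_induction_of_det_ne_zero
    (fun g => ∀ x, Cfsg.quadFormPlus 3 F (act g x) = g.det * Cfsg.quadFormPlus 3 F x) g hg ?_ ?_ ?_
  · intro D _ x
    rw [Matrix.det_diagonal, act_apply]
    simp [Cfsg.quadFormPlus, coords, alt, Fin.sum_univ_three, Fin.prod_univ_four, Matrix.mul_apply,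
      Matrix.diagonal, Fin.sum_univ_four]
    ring
  · rintro ⟨i, j, hij, c⟩ x
    rw [Matrix.TransvectionStruct.det, one_mul, act_apply, Matrix.TransvectionStruct.toMatrix_mk]
    fin_cases i <;> fin_cases j <;> first
      | exact absurd rfl hij
      | (simp [Cfsg.quadFormPlus, coords, alt, Fin.sum_univ_three, Fin.sum_univ_four, Matrix.mul_apply,
          Matrix.transvection, Matrix.single, Matrix.one_apply]
         try ring)
  · intro A B _ _ hA hB x
    rw [act_mul, hA, hB, Matrix.det_mul]; ring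

variable (F) in
/-- The hyperbolic form in six variables. -/
noncomputable abbrev Q6 : QuadraticForm F (Fin 3 ⊕ Fin 3 → F) :=
  formOf 3 (Equiv.sumEmpty (Fin 3 ⊕ Fin 3) Empty).symm (0 : QuadraticForm F (Empty → F))

/-- The isometry of a unimodular matrix. -/
noncomputable def isoOf (g : Matrix.SpecialLinearGroup (Fin 4) F) : ↥(Iso (Q6 F)) :=
  ⟨LinearEquiv.ofLinear (act g.1) (act (g⁻¹).1)
    (LinearMap.ext fun x => by
      rw [LinearMap.comp_apply, ← act_mul, ← Matrix.SpecialLinearGroup.coe_mul, mul_inv_cancel,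
        Matrix.SpecialLinearGroup.coe_one, act_one, LinearMap.id_apply])
    (LinearMap.ext fun x => by
      rw [LinearMap.comp_apply, ← act_mul, ← Matrix.SpecialLinearGroup.coe_mul, inv_mul_cancel,
        Matrix.SpecialLinearGroup.coe_one, act_one, LinearMap.id_apply]),
  fun x => by
    change Q6 F (act g.1 x) = Q6 F x
    have h := congrFun (coe_plus (F := F) 3)
    rw [h, h, quad_act (by rw [g.2]; exact one_ne_zero), g.2, one_mul]⟩

variable (F) in
/-- The homomorphism. -/
noncomputable def hom : Matrix.SpecialLinearGroup (Fin 4) F →* ↥(Iso (Q6 F)) :=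
  MonoidHom.mk' isoOf fun g h => Subtype.ext (LinearEquiv.ext fun x => act_mul g.1 h.1 x)

theorem hom_range_le : (hom F).range ≤ commutator ↥(Iso (Q6 F)) := by
  rw [MonoidHom.range_eq_map, ← Cfsg.Agent.Classical.sl_commutator_eq_top (F := F) (ι := Fin 4) (by simp),
    commutator_def, Subgroup.map_commutator, commutator_def]
  exact Subgroup.commutator_mono le_top le_top

theorem hom_ker_le : (hom F).ker ≤ Subgroup.center (Matrix.SpecialLinearGroup (Fin 4) F) := by
  haveI := Cfsg.Agent.Small.PSLn.psl_simple (F := F) (n := 4) (by norm_num)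
  haveI : ((hom F).ker.map (QuotientGroup.mk' (Subgroup.center (Matrix.SpecialLinearGroup (Fin 4) F)))).Normal :=
    Subgroup.Normal.map inferInstance _ (QuotientGroup.mk'_surjective _)
  rcases IsSimpleGroup.eq_bot_or_eq_top_of_normal
    ((hom F).ker.map (QuotientGroup.mk' (Subgroup.center (Matrix.SpecialLinearGroup (Fin 4) F)))) this with h | h
  · rwa [Subgroup.map_eq_bot_iff, QuotientGroup.ker_mk'] at h
  · exfalso
    obtain ⟨t, ht⟩ : ∃ t : Matrix.SpecialLinearGroup (Fin 4) F, t.1 = Matrix.transvection 0 1 (1 : F) :=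
      ⟨⟨_, Matrix.det_transvection_of_ne 0 1 (by decide) (1 : F)⟩, rfl⟩
    obtain ⟨k, hk, hkt⟩ := (h ▸ Subgroup.mem_top _ : QuotientGroup.mk' _ t ∈
      (hom F).ker.map (QuotientGroup.mk' (Subgroup.center (Matrix.SpecialLinearGroup (Fin 4) F))))
    obtain ⟨z, hz, rfl⟩ : ∃ z ∈ Subgroup.center (Matrix.SpecialLinearGroup (Fin 4) F), t = k * z :=
      ⟨k⁻¹ * t, QuotientGroup.eq.mp hkt, by rw [mul_inv_cancel_left]⟩
    obtain ⟨r, -, hr⟩ := Matrix.SpecialLinearGroup.mem_center_iff.mp hz
    have e := congrArg (fun g : ↥(Iso (Q6 F)) => g.1 (Pi.single (Sum.inr 2) 1))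
      (show hom F (k * z) = hom F z by rw [map_mul, MonoidHom.mem_ker.mp hk, one_mul])
    change act (k * z).1 _ = act z.1 _ at e
    rw [ht, ← hr, act_apply, act_apply] at e
    have e1 := congrFun e (Sum.inl 1)
    simp [coords, alt, Matrix.mul_apply, Fin.sum_univ_four, Matrix.transvection, Matrix.single,
      Matrix.one_apply, Matrix.scalar_apply, Matrix.diagonal] at e1

variable [Fintype F]

/-- The kernel is `±1`. -/
theorem mem_ker_iff {g : Matrix.SpecialLinearGroup (Fin 4) F} :
    g ∈ (hom F).ker ↔ g.1 = 1 ∨ g.1 = -1 := by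
  constructor
  · intro hg
    obtain ⟨r, -, hr⟩ := Matrix.SpecialLinearGroup.mem_center_iff.mp (hom_ker_le hg)
    have e : act g.1 (Pi.single (Sum.inl 0) 1) (Sum.inl 0) = 1 := by
      have h := congrArg (fun k : ↥(Iso (Q6 F)) => k.1 (Pi.single (Sum.inl 0) 1)) (MonoidHom.mem_ker.mp hg)
      change act g.1 (Pi.single (Sum.inl 0) 1) = Pi.single (Sum.inl 0) 1 at h
      rw [h, Pi.single_eq_same]
    rw [← hr, act_apply] at e
    simp [coords, alt, Matrix.scalar_apply, Matrix.mul_apply, Fin.sum_univ_four, Matrix.diagonal] at e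
    rcases mul_self_eq_one_iff.mp e with rfl | rfl
    · exact Or.inl (hr.symm.trans (map_one (Matrix.scalar (Fin 4))))
    · exact Or.inr (hr.symm.trans (by rw [map_neg, map_one]))
  · intro h
    refine MonoidHom.mem_ker.mpr (Subtype.ext (LinearEquiv.ext fun x => ?_))
    change act g.1 x = x
    rcases h with h | h <;> rw [h]
    · exact act_one x
    · rw [act_apply, Matrix.transpose_neg, Matrix.transpose_one, Matrix.neg_mul, Matrix.one_mul, Matrix.mul_neg,
        Matrix.mul_one, neg_neg, coords_alt]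

open scoped _root_.Classical in
theorem card_ker : Nat.card ↥(hom F).ker = if (2 : F) = 0 then 1 else 2 := by
  obtain ⟨m, hm⟩ : ∃ m : Matrix.SpecialLinearGroup (Fin 4) F, m.1 = -1 :=
    ⟨⟨-1, by rw [Matrix.det_neg, Matrix.det_one]; simp; norm_num⟩, rfl⟩
  by_cases h2 : (2 : F) = 0
  · rw [if_pos h2, Subgroup.card_eq_one, Subgroup.eq_bot_iff_forall]
    intro g hg
    rcases mem_ker_iff.mp hg with h | h
    · exact Subtype.ext h
    · refine Subtype.ext (h.trans ?_)
      ext i j
      rw [Matrix.neg_apply, neg_eq_iff_add_eq_zero]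
      simp only [Matrix.SpecialLinearGroup.coe_one]
      linear_combination (1 : Matrix (Fin 4) (Fin 4) F) i j * h2
  · rw [if_neg h2, Nat.card_eq_two_iff]
    refine ⟨⟨1, one_mem _⟩, ⟨m, mem_ker_iff.mpr (Or.inr hm)⟩, fun e => h2 ?_, Set.eq_univ_of_forall fun g => ?_⟩
    · have := congrFun (congrFun (congrArg (fun g : ↥(hom F).ker => g.1.1) e) 0) 0
      simp [hm] at this
      linear_combination this
    · rcases mem_ker_iff.mp g.2 with h | h
      · exact Or.inl (Subtype.ext (Subtype.ext h))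
      · exact Or.inr (Subtype.ext (Subtype.ext (h.trans hm.symm)))

/-- The image is the derived group. -/
theorem hom_range : (hom F).range = commutator ↥(Iso (Q6 F)) := by
  classical
  haveI : Finite ↥(Iso (Q6 F)) := Finite.of_injective (fun g => (⇑g.1 : (Fin 3 ⊕ Fin 3 → F) → _))
    fun g g' e => Subtype.ext (LinearEquiv.ext (congrFun e))
  refine Subgroup.eq_of_le_of_card_ge hom_range_le ?_
  have hSL := Cfsg.Agent.Lead.GLBasic.card_GL_eq (F := F) 4
  rw [Matrix.card_GL_field, Fin.prod_univ_four] at hSL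
  have hO := OCount.card_GO_plus 2 (F := F)
  rw [← coe_plus 3] at hO
  have hidx := Subgroup.card_mul_index (Cfsg.Omega F ⇑(Q6 F))
  have hΩ : Nat.card ↥(Cfsg.Omega F ⇑(Q6 F)) = Nat.card ↥(commutator ↥(Iso (Q6 F))) := by
    rw [omega_eq_map]
    exact (Nat.card_congr ((commutator ↥(Iso (Q6 F))).equivMapOfInjective _ (toMat (Q6 F)).injective).toEquiv).symm
  rw [hO, hΩ] at hidx
  have hker := Subgroup.card_mul_index (hom F).ker
  rw [Subgroup.index_ker, card_ker] at hker
  obtain ⟨q, hq⟩ : ∃ q, q = Fintype.card F := ⟨_, rfl⟩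
  have hq2 : 2 ≤ q := hq ▸ Fintype.one_lt_card
  rw [← hq] at hSL hidx
  have hfac : Nat.card (Matrix.SpecialLinearGroup (Fin 4) F) =
      q ^ 6 * (q ^ 3 - 1) * ((q ^ 2 - 1) * (q ^ 4 - 1)) := by
    refine Nat.eq_of_mul_eq_mul_left (show 0 < q - 1 by omega) (hSL.symm.trans ?_)
    simp only [Fin.val_zero, Fin.val_one, pow_zero, pow_one, Fin.val_two, show ((3 : Fin 4) : ℕ) = 3 from rfl]
    rw [show q ^ 4 - q = q * (q ^ 3 - 1) by rw [Nat.mul_sub, mul_one, ← pow_succ'],
      show q ^ 4 - q ^ 2 = q ^ 2 * (q ^ 2 - 1) by rw [Nat.mul_sub, mul_one, ← pow_add],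
      show q ^ 4 - q ^ 3 = q ^ 3 * (q - 1) by rw [Nat.mul_sub, mul_one, ← pow_succ]]
    ring
  rw [hfac] at hker
  simp only [Finset.prod_range_succ, Finset.prod_range_zero, one_mul, Nat.reduceAdd, Nat.reduceMul, mul_one] at hidx
  rw [mul_assoc 2, mul_assoc 2] at hidx
  by_cases h2 : (2 : F) = 0
  · haveI : CharP F 2 := CharTwo.of_one_ne_zero_of_two_eq_zero one_ne_zero h2
    rw [index_omega_two (formOf_pnd pnd_empty) (by simp) (Or.inr (by simp))] at hidx
    rw [if_pos h2] at hker
    omega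
  · rw [index_omega_odd h2 (formOf_pnd pnd_empty) (by simp)] at hidx
    rw [if_neg h2] at hker
    omega

end Cfsg.Agent.Classical.Klein
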