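import Cfsg.Agent.Lib.Classical.KleinPSL
import Cfsg.Agent.Lib.Classical.SymplecticCount
import Cfsg.Agent.Lib.Small.PSpn.Simple

/-!
# `PΩ₅ ≅ PSp₄`

The Klein action of `Sp₄` fixes the alternating matrix of the symplectic form, so restricts to
its orthogonal complement.
-/

set_option autoImplicit false
set_option linter.unusedSectionVars false
set_option maxHeartbeats 400000

namespace Cfsg.Agent.Classical.Klein

open Module Matrix QuadraticMap ORefl OOmega

variable {F : Type*} [Field F]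

variable (F) in
/-- The form `x₀² + x₁y₁ + x₂y₂`. -/
noncomputable abbrev Q5 : QuadraticForm F (Unit ⊕ (Fin 2 ⊕ Fin 2) → F) :=
  formOf 2 (Equiv.sumComm Unit (Fin 2 ⊕ Fin 2)) (OCount.lineForm F)

/-- The inclusion of the hyperplane `l₁ = r₁`. -/
def inc : (Unit ⊕ (Fin 2 ⊕ Fin 2) → F) →ₗ[F] Fin 3 ⊕ Fin 3 → F where
  toFun v := Sum.elim ![v (.inr (.inl 0)), v (.inl ()), v (.inr (.inl 1))] ![v (.inr (.inr 0)), v (.inl ()), v (.inr (.inr 1))]
  map_add' u v := by funext k; rcases k with k | k <;> fin_cases k <;> simp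
  map_smul' c v := by funext k; rcases k with k | k <;> fin_cases k <;> simp

/-- A retraction. -/
def ret : (Fin 3 ⊕ Fin 3 → F) →ₗ[F] Unit ⊕ (Fin 2 ⊕ Fin 2) → F where
  toFun x := Sum.elim (fun _ => x (.inl 1)) (Sum.elim ![x (.inl 0), x (.inl 2)] ![x (.inr 0), x (.inr 2)])
  map_add' u v := by funext k; rcases k with k | (k | k) <;> first | (fin_cases k <;> simp) | simp
  map_smul' c v := by funext k; rcases k with k | (k | k) <;> first | (fin_cases k <;> simp) | simp

theorem ret_inc (v : Unit ⊕ (Fin 2 ⊕ Fin 2) → F) : ret (inc v) = v := by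
  funext k
  rcases k with k | (k | k)
  · rfl
  · fin_cases k <;> rfl
  · fin_cases k <;> rfl

theorem inc_ret {x : Fin 3 ⊕ Fin 3 → F} (h : x (.inl 1) = x (.inr 1)) : inc (ret x) = x := by
  funext k
  rcases k with k | k <;> fin_cases k
  · rfl
  · rfl
  · rfl
  · rfl
  · exact h
  · rfl

theorem quad_inc (v : Unit ⊕ (Fin 2 ⊕ Fin 2) → F) : Q6 F (inc v) = Q5 F v := by
  rw [congrFun (coe_plus (F := F) 3), congrFun (coe_odd (F := F) 2)]
  simp [Cfsg.quadFormPlus, Cfsg.quadFormOdd, inc, Fin.sum_univ_three, Fin.sum_univ_two]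
  ring

variable (F) in
/-- The coordinates of the symplectic form. -/
def omega : Fin 3 ⊕ Fin 3 → F := Sum.elim ![0, -1, 0] ![0, 1, 0]

theorem polar_omega (x : Fin 3 ⊕ Fin 3 → F) : polar (Q6 F) x (omega F) = x (.inl 1) - x (.inr 1) := by
  simp only [polar]
  rw [congrFun (coe_plus (F := F) 3), congrFun (coe_plus (F := F) 3), congrFun (coe_plus (F := F) 3)]
  simp [Cfsg.quadFormPlus, omega, Fin.sum_univ_three]
  ring

/-- Four coordinates as two pairs. -/
def e4 : Fin 4 ≃ Fin 2 ⊕ Fin 2 := (finSumFinEquiv (m := 2) (n := 2)).symm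

/-- Reindexing into four coordinates. -/
def toFour (A : Matrix (Fin 2 ⊕ Fin 2) (Fin 2 ⊕ Fin 2) F) : Matrix (Fin 4) (Fin 4) F :=
  A.submatrix e4 e4

theorem alt_omega : alt (omega F) = toFour (Matrix.J (Fin 2) F) := by
  have h0 : e4 (0 : Fin 4) = .inl 0 := rfl
  have h1 : e4 (1 : Fin 4) = .inl 1 := rfl
  have h2 : e4 (2 : Fin 4) = .inr 0 := rfl
  have h3 : e4 (3 : Fin 4) = .inr 1 := rfl
  ext i j
  fin_cases i <;> fin_cases j <;> simp [alt, omega, toFour, Matrix.J, h0, h1, h2, h3]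

variable [Fintype F]

theorem det_eq_one (h3 : 3 ≤ Fintype.card F) (A : Matrix.symplecticGroup (Fin 2) F) : (A.1).det = 1 := by
  let d : Matrix.symplecticGroup (Fin 2) F →* F :=
    { toFun := fun A => A.1.det
      map_one' := Matrix.det_one
      map_mul' := fun A B => Matrix.det_mul _ _ }
  have hA : A ∈ commutator (Matrix.symplecticGroup (Fin 2) F) := by
    rw [Cfsg.Agent.Small.PSpn.sp_commutator_eq_top le_rfl fun _ => h3]; trivial
  exact congrArg Units.val (MonoidHom.mem_ker.mp (Abelianization.commutator_subset_ker d.toHomUnits hA))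

/-- `Sp₄ → SL₄`. -/
noncomputable def toSL (h3 : 3 ≤ Fintype.card F) :
    Matrix.symplecticGroup (Fin 2) F →* Matrix.SpecialLinearGroup (Fin 4) F :=
  MonoidHom.mk' (fun A => ⟨toFour A.1, by rw [toFour, Matrix.det_submatrix_equiv_self, det_eq_one h3]⟩)
    fun A B => Subtype.ext (by
      show toFour (A.1 * B.1) = toFour A.1 * toFour B.1
      rw [toFour, toFour, toFour, Matrix.submatrix_mul_equiv])

theorem toSL_val (h3 : 3 ≤ Fintype.card F) (A : Matrix.symplecticGroup (Fin 2) F) :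
    (toSL h3 A).1 = toFour A.1 := rfl

theorem toSL_injective (h3 : 3 ≤ Fintype.card F) : Function.Injective (toSL (F := F) h3) := fun A B e => by
  refine Subtype.ext ?_
  have h : toFour A.1 = toFour B.1 := congrArg Subtype.val e
  ext i j
  have := congrFun (congrFun h (e4.symm i)) (e4.symm j)
  simpa [toFour] using this

theorem act_omega (h3 : 3 ≤ Fintype.card F) (A : Matrix.symplecticGroup (Fin 2) F) :
    (hom F (toSL h3 A)).1 (omega F) = omega F := by
  change act (toFour A.1) (omega F) = omega F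
  rw [act_apply, alt_omega]
  simp only [toFour, Matrix.transpose_submatrix, Matrix.submatrix_mul_equiv]
  rw [SymplecticGroup.mem_iff.mp A.2]
  exact (congrArg coords (alt_omega (F := F)).symm).trans (coords_alt _)

theorem mem_hyper (h3 : 3 ≤ Fintype.card F) (A : Matrix.symplecticGroup (Fin 2) F) {x : Fin 3 ⊕ Fin 3 → F}
    (hx : x (.inl 1) = x (.inr 1)) :
    (hom F (toSL h3 A)).1 x (.inl 1) = (hom F (toSL h3 A)).1 x (.inr 1) := by
  rw [← sub_eq_zero, ← polar_omega, ← act_omega h3 A, polar_iso (hom F (toSL h3 A)).2, polar_omega, hx, sub_self]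

/-- The restriction as a linear map. -/
noncomputable def restr (h3 : 3 ≤ Fintype.card F) (A : Matrix.symplecticGroup (Fin 2) F) :
    (Unit ⊕ (Fin 2 ⊕ Fin 2) → F) →ₗ[F] Unit ⊕ (Fin 2 ⊕ Fin 2) → F :=
  ret ∘ₗ ((hom F (toSL h3 A)).1 : (Fin 3 ⊕ Fin 3 → F) →ₗ[F] Fin 3 ⊕ Fin 3 → F) ∘ₗ inc

theorem inc_restr (h3 : 3 ≤ Fintype.card F) (A : Matrix.symplecticGroup (Fin 2) F)
    (v : Unit ⊕ (Fin 2 ⊕ Fin 2) → F) : inc (restr h3 A v) = (hom F (toSL h3 A)).1 (inc v) :=
  inc_ret (mem_hyper h3 A rfl)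

theorem restr_mul (h3 : 3 ≤ Fintype.card F) (A B : Matrix.symplecticGroup (Fin 2) F)
    (v : Unit ⊕ (Fin 2 ⊕ Fin 2) → F) : restr h3 (A * B) v = restr h3 A (restr h3 B v) := by
  conv_rhs => rw [restr, LinearMap.comp_apply, LinearMap.comp_apply, inc_restr]
  rw [restr, LinearMap.comp_apply, LinearMap.comp_apply, map_mul, map_mul]
  rfl

theorem restr_one (h3 : 3 ≤ Fintype.card F) (v : Unit ⊕ (Fin 2 ⊕ Fin 2) → F) : restr h3 1 v = v := by
  rw [restr, LinearMap.comp_apply, LinearMap.comp_apply, map_one, map_one]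
  exact ret_inc v

/-- An element of `Sp₄` as an isometry in five variables. -/
noncomputable def isoFive (h3 : 3 ≤ Fintype.card F) (A : Matrix.symplecticGroup (Fin 2) F) : ↥(Iso (Q5 F)) where
  val := LinearEquiv.ofLinear (restr h3 A) (restr h3 A⁻¹)
    (LinearMap.ext fun v => by rw [LinearMap.comp_apply, ← restr_mul, mul_inv_cancel, restr_one, LinearMap.id_apply])
    (LinearMap.ext fun v => by rw [LinearMap.comp_apply, ← restr_mul, inv_mul_cancel, restr_one, LinearMap.id_apply])
  property := by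
    intro v
    show Q5 F (restr h3 A v) = Q5 F v
    have h : Q6 F ((hom F (toSL h3 A)).1 (inc v)) = Q6 F (inc v) := (hom F (toSL h3 A)).2 (inc v)
    rw [← quad_inc, inc_restr, h, quad_inc]

/-- `Sp₄ → O₅`. -/
noncomputable def homFive (h3 : 3 ≤ Fintype.card F) : Matrix.symplecticGroup (Fin 2) F →* ↥(Iso (Q5 F)) :=
  MonoidHom.mk' (isoFive h3) fun A B => Subtype.ext (LinearEquiv.ext fun v => restr_mul h3 A B v)

theorem homFive_range_le (h3 : 3 ≤ Fintype.card F) : (homFive (F := F) h3).range ≤ commutator ↥(Iso (Q5 F)) := by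
  rw [MonoidHom.range_eq_map, ← Cfsg.Agent.Small.PSpn.sp_commutator_eq_top (F := F) (m := 2) le_rfl fun _ => h3,
    commutator_def, Subgroup.map_commutator, commutator_def]
  exact Subgroup.commutator_mono le_top le_top

theorem homFive_ker (h2 : (2 : F) ≠ 0) (h3 : 3 ≤ Fintype.card F) {A : Matrix.symplecticGroup (Fin 2) F}
    (hA : homFive h3 A = 1) : A.1 = 1 ∨ A.1 = -1 := by
  have hfix : ∀ x, (hom F (toSL h3 A)).1 x = x := by
    intro x
    obtain ⟨c, hc⟩ : ∃ c, c = (x (.inl 1) - x (.inr 1)) / 2 := ⟨_, rfl⟩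
    obtain ⟨y, hy⟩ : ∃ y, y = x + c • omega F := ⟨_, rfl⟩
    have hy1 : y (.inl 1) = y (.inr 1) := by
      rw [hy, hc]; simp [omega]; field_simp; ring
    have h1 : (hom F (toSL h3 A)).1 y = y := by
      rw [← inc_ret hy1, ← inc_restr]
      exact congrArg inc (LinearEquiv.congr_fun (congrArg Subtype.val hA) (ret y))
    rw [hy, map_add, map_smul, act_omega] at h1
    exact add_right_cancel h1
  rcases mem_ker_iff.mp (MonoidHom.mem_ker.mpr (Subtype.ext (LinearEquiv.ext hfix)) : toSL h3 A ∈ (hom F).ker)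
    with h | h
  · refine Or.inl (Matrix.ext fun i j => ?_)
    have := congrFun (congrFun h (e4.symm i)) (e4.symm j)
    simpa [toSL_val, toFour, Matrix.one_apply] using this
  · refine Or.inr (Matrix.ext fun i j => ?_)
    have := congrFun (congrFun h (e4.symm i)) (e4.symm j)
    simpa [toSL_val, toFour, Matrix.one_apply] using this

theorem homFive_surj (hodd : Odd (Fintype.card F)) (h3 : 3 ≤ Fintype.card F) :
    (homFive (F := F) h3).range = commutator ↥(Iso (Q5 F)) := by
  classical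
  have h2 := two_ne_of_odd hodd
  haveI : Finite ↥(Iso (Q5 F)) := Finite.of_injective (fun g => (⇑g.1 : (Unit ⊕ (Fin 2 ⊕ Fin 2) → F) → _))
    fun g g' e => Subtype.ext (LinearEquiv.ext (congrFun e))
  refine Subgroup.eq_of_le_of_card_ge (homFive_range_le h3) ?_
  have hO := OCount.card_GO_odd h2 2 (F := F)
  rw [← coe_odd 2] at hO
  have hidx := Subgroup.card_mul_index (Cfsg.Omega F ⇑(Q5 F))
  have hΩ : Nat.card ↥(Cfsg.Omega F ⇑(Q5 F)) = Nat.card ↥(commutator ↥(Iso (Q5 F))) := by
    rw [omega_eq_map]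
    exact (Nat.card_congr ((commutator ↥(Iso (Q5 F))).equivMapOfInjective _ (toMat (Q5 F)).injective).toEquiv).symm
  rw [hO, hΩ, index_omega_odd h2 (formOf_pnd (pnd_line h2)) (by simp)] at hidx
  have hker := Subgroup.card_mul_index (homFive (F := F) h3).ker
  rw [Subgroup.index_ker, SpCount.card_symplecticGroup] at hker
  have hk2 : Nat.card ↥(homFive (F := F) h3).ker ≤ 2 := by
    refine (Nat.card_le_card_of_injective (β := Bool) (fun A => decide (A.1.1 = 1)) fun A B e => ?_).trans_eq (by simp)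
    have e' : (A.1.1 = 1) ↔ (B.1.1 = 1) := by simpa [decide_eq_decide] using e
    refine Subtype.ext (Subtype.ext ?_)
    rcases homFive_ker h2 h3 A.2 with h | h <;> rcases homFive_ker h2 h3 B.2 with h' | h'
    · rw [h, h']
    · rw [h, e'.mp h]
    · rw [h', e'.mpr h']
    · rw [h, h']
  have hle := Nat.mul_le_mul_right (Nat.card ↥(homFive (F := F) h3).range) hk2
  rw [hker] at hle
  rw [mul_assoc 2] at hidx
  omega

/-- `PΩ₅ ≅ PSp₄`. -/
theorem pOmega_five (hodd : Odd (Fintype.card F)) :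
    Nonempty (Cfsg.POmega F (Cfsg.quadFormOdd 2 F) ≃* Cfsg.PSp 2 F) := by
  have h3 : 3 ≤ Fintype.card F := by
    have := Fintype.one_lt_card (α := F); rw [Nat.odd_iff] at hodd; omega
  have h2 := two_ne_of_odd hodd
  rw [← coe_odd 2]
  let φ : Matrix.symplecticGroup (Fin 2) F →* ↥(commutator ↥(Iso (Q5 F))) :=
    (homFive h3).codRestrict _ fun g => homFive_range_le h3 ⟨g, rfl⟩
  have hs : Function.Surjective φ := fun x => by
    obtain ⟨g, hg⟩ : x.1 ∈ (homFive (F := F) h3).range := (homFive_surj hodd h3).symm ▸ x.2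
    exact ⟨g, Subtype.ext hg⟩
  have hk : φ.ker ≤ Subgroup.center _ := fun A hA => by
    rw [Subgroup.mem_center_iff]
    intro B
    refine Subtype.ext ?_
    change B.1 * A.1 = A.1 * B.1
    rcases homFive_ker h2 h3 (congrArg Subtype.val hA) with h | h <;> rw [h] <;> simp
  haveI : IsSimpleGroup (Matrix.symplecticGroup (Fin 2) F ⧸ Subgroup.center (Matrix.symplecticGroup (Fin 2) F)) :=
    Cfsg.Agent.Small.PSpn.psp_simple le_rfl fun _ => h3
  have hc : Subgroup.center (Matrix.symplecticGroup (Fin 2) F ⧸ Subgroup.center (Matrix.symplecticGroup (Fin 2) F)) = ⊥ := by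
    refine (IsSimpleGroup.eq_bot_or_eq_top_of_normal _ inferInstance).resolve_right fun h => ?_
    have h1 : commutator (Matrix.symplecticGroup (Fin 2) F) ≤ Subgroup.center (Matrix.symplecticGroup (Fin 2) F) := by
      rw [commutator_def, Subgroup.commutator_le]
      intro x _ y _
      rw [← QuotientGroup.eq_one_iff, ← QuotientGroup.mk'_apply, map_commutatorElement]
      refine commutatorElement_eq_one_iff_mul_comm.mpr ?_
      exact (Subgroup.mem_center_iff.mp (h ▸ Subgroup.mem_top _) _).symm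
    rw [Cfsg.Agent.Small.PSpn.sp_commutator_eq_top (F := F) (m := 2) le_rfl fun _ => h3] at h1
    obtain ⟨x, hx⟩ := exists_ne (1 : Matrix.symplecticGroup (Fin 2) F ⧸ Subgroup.center (Matrix.symplecticGroup (Fin 2) F))
    obtain ⟨y, rfl⟩ := QuotientGroup.mk'_surjective _ x
    exact hx (by rw [QuotientGroup.mk'_apply, QuotientGroup.eq_one_iff]; exact h1 (Subgroup.mem_top y))
  obtain ⟨e⟩ := center_quot_equiv φ hs hk hc
  exact ⟨(pOmegaEquiv (Q5 F)).symm.trans e.symm⟩

end Cfsg.Agent.Classical.Klein
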