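/-
Monomial overgroups: an element fixing a coordinate line gives an elementary transvection.
-/
import Cfsg.Agent.Lib.Classical.LinMonomialBase

set_option autoImplicit false
set_option linter.unusedSectionVars false

namespace Cfsg.Agent.Classical.LMon

open Matrix Module Cfsg.Geo
open Cfsg.Agent.Classical

variable {ι : Type} [Fintype ι] [DecidableEq ι] {F : Type*} [Field F] [Fintype F] {G : Subgroup (GL ι F)}

theorem exists_mon (D : Data G) (σ : Equiv.Perm ι) : ∃ m ∈ G, ∃ a : ι → F, (∀ i, a i ≠ 0) ∧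
    (∀ v i, ((m : Matrix ι ι F) *ᵥ v) (σ i) = a i * v i) ∧
    ∀ (x : Matrix ι ι F) i j, ((m : Matrix ι ι F) * x * ((m⁻¹ : GL ι F) : Matrix ι ι F)) (σ i) (σ j) =
      a i * x i j * (a j)⁻¹ := by
  classical
  have hcard := D.card
  obtain ⟨p⟩ : Nonempty ι := Fintype.card_pos_iff.mp (by omega)
  obtain ⟨M₀, hM₀⟩ : ∃ M₀ : Matrix ι ι F, M₀ = Matrix.of fun k i => if k = σ i then 1 else 0 := ⟨_, rfl⟩
  have hd0 : M₀.det ≠ 0 := fun h => by
    obtain ⟨v, hv0, hv⟩ := Matrix.exists_mulVec_eq_zero_iff.mpr h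
    refine hv0 (funext fun i => ?_)
    have := congrFun hv (σ i)
    rw [hM₀, mulVec, dotProduct, Finset.sum_eq_single i (fun j _ hj => by simp [σ.injective.eq_iff, Ne.symm hj])
      (fun h => absurd (Finset.mem_univ i) h)] at this
    simpa using this
  obtain ⟨a, ha⟩ : ∃ a : ι → F, a = fun i => if i = p then M₀.det⁻¹ else 1 := ⟨_, rfl⟩
  have ha0 : ∀ i, a i ≠ 0 := fun i => by
    rw [ha]
    dsimp only
    split_ifs
    exacts [inv_ne_zero hd0, one_ne_zero]
  have hdet : (M₀ * diagonal a).det = 1 := by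
    rw [det_mul, det_diagonal, ha, Finset.prod_ite_eq' Finset.univ p fun _ => M₀.det⁻¹, if_pos (Finset.mem_univ p),
      mul_inv_cancel₀ hd0]
  obtain ⟨m, hm⟩ : ∃ m : GL ι F, m = GeneralLinearGroup.mkOfDetNeZero (M₀ * diagonal a)
      (by rw [hdet]; exact one_ne_zero) := ⟨_, rfl⟩
  have hval : (m : Matrix ι ι F) = M₀ * diagonal a := by rw [hm]; rfl
  have happ : ∀ v i, ((m : Matrix ι ι F) *ᵥ v) (σ i) = a i * v i := fun v i => by
    rw [hval, ← mulVec_mulVec, hM₀, mulVec, dotProduct,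
      Finset.sum_eq_single i (fun j _ hj => by simp [σ.injective.eq_iff, Ne.symm hj])
      (fun h => absurd (Finset.mem_univ i) h)]
    simp [mulVec_diagonal]
  refine ⟨m, D.mon m (mem_specialLinear_iff.mpr (by rw [hval, hdet])) fun j => ⟨σ j, fun i hi => ?_⟩, a, ha0, happ,
    fun x i j => ?_⟩
  · rw [hval, mul_diagonal, hM₀]
    simp [hi]
  · have h1 : ((m⁻¹ : GL ι F) : Matrix ι ι F) *ᵥ Pi.single (σ j) 1 = (a j)⁻¹ • Pi.single j 1 := by
      refine gl_mulVec_injective m ?_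
      dsimp only
      rw [gl_mulVec_inv_cancel]
      funext k
      obtain ⟨k, rfl⟩ := σ.surjective k
      rw [happ]
      by_cases hk : k = j
      · subst hk; simp [ha0 k]
      · simp [hk]
    have h2 : ((m : Matrix ι ι F) * x * ((m⁻¹ : GL ι F) : Matrix ι ι F)) (σ i) (σ j) =
        (((m : Matrix ι ι F) * x * ((m⁻¹ : GL ι F) : Matrix ι ι F)) *ᵥ Pi.single (σ j) 1) (σ i) := by
      rw [mulVec_single_one, col_apply]
    rw [h2, ← mulVec_mulVec, h1, mulVec_smul, ← mulVec_mulVec, Pi.smul_apply, happ, mulVec_single_one, col_apply,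
      smul_eq_mul]
    ring

variable (D : Data G) (hne : ¬ Elem G)

include D hne

theorem pat {l a b : ι} {y : GL ι F} (hy : y ∈ G) (hfl : Fl l y) (ha : a ≠ l) (hb : b ≠ l) :
    (y : Matrix ι ι F) a b = 0 ↔ ((y⁻¹ : GL ι F) : Matrix ι ι F) b a = 0 := by
  refine ⟨fun h => ?_, fun h => ?_⟩ <;> by_contra h'
  · exact hne (elem_of_pattern D hy hfl hb ha h h')
  · exact hne (elem_of_pattern D (inv_mem hy) (fl_inv hfl).1 ha hb h (by rwa [inv_inv]))

theorem value {l i r : ι} {y : GL ι F} (hy : y ∈ G) (hfl : Fl l y) (hi : i ≠ l) (hr : r ≠ l) {c : F}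
    (hc : c = (y : Matrix ι ι F) r i * ((y⁻¹ : GL ι F) : Matrix ι ι F) i r) (hc0 : c ≠ 0) : c = 1 ∨ 2 * c = 1 := by
  by_contra hcon
  push Not at hcon
  obtain ⟨h1, h2⟩ := hcon
  obtain ⟨a, ha⟩ : ∃ a, a = 1 - c⁻¹ := ⟨_, rfl⟩
  have ha0 : a ≠ 0 := ha ▸ sub_ne_zero.mpr (fun e => h1 (inv_eq_one.mp e.symm))
  obtain ⟨x, hx, hxl, hxe, hxe'⟩ := exists_x D hy hfl hi ha0
  have hrr : (x : Matrix ι ι F) r r = 0 := by
    rw [hxe r r hr, if_pos rfl, ← hc, ha]
    field_simp
    ring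
  have hrr' := (pat D hne hx hxl hr hr).mp hrr
  rw [hxe' r r hr, if_pos rfl, ← hc] at hrr'
  have e : a⁻¹ = a := by
    have : a⁻¹ * c = (1 - c⁻¹) * c := by
      rw [sub_mul, one_mul, inv_mul_cancel₀ hc0]; linear_combination hrr'
    rw [mul_right_cancel₀ hc0 this, ← ha]
  have e2 : (a - 1) * (a + 1) = 0 := by
    have := mul_inv_cancel₀ ha0
    rw [e] at this
    linear_combination this
  rcases mul_eq_zero.mp e2 with h | h
  · exact hc0 (by
      rw [ha] at h
      exact inv_eq_zero.mp (by linear_combination -h))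
  · refine h2 ?_
    rw [ha] at h
    have : (2 - c⁻¹) * c = 0 := by rw [show (2 : F) - c⁻¹ = 1 - c⁻¹ + 1 by ring, h, zero_mul]
    rw [sub_mul, inv_mul_cancel₀ hc0] at this
    exact sub_eq_zero.mp this

/-- The products attached to the conjugate of a torus element. -/
theorem derived {l i r t : ι} {y : GL ι F} (hy : y ∈ G) (hfl : Fl l y) (hi : i ≠ l) (hr : r ≠ l) (ht : t ≠ l)
    (hrt : r ≠ t) (hr0 : (y : Matrix ι ι F) r i ≠ 0) (ht0 : (y : Matrix ι ι F) t i ≠ 0) {a : F} (ha : a ≠ 0)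
    (ha1 : a ≠ 1) : ∃ x ∈ G, Fl l x ∧ (x : Matrix ι ι F) t r ≠ 0 ∧
      (x : Matrix ι ι F) t r * ((x⁻¹ : GL ι F) : Matrix ι ι F) r t =
        (a - 1) * (a⁻¹ - 1) * (((y : Matrix ι ι F) r i * ((y⁻¹ : GL ι F) : Matrix ι ι F) i r) *
          ((y : Matrix ι ι F) t i * ((y⁻¹ : GL ι F) : Matrix ι ι F) i t)) ∧
      (x : Matrix ι ι F) r r = 1 + (a - 1) * ((y : Matrix ι ι F) r i * ((y⁻¹ : GL ι F) : Matrix ι ι F) i r) ∧
      ∀ k j, k ≠ l → (x : Matrix ι ι F) k j =
        (if k = j then 1 else 0) + (a - 1) * ((y : Matrix ι ι F) k i * ((y⁻¹ : GL ι F) : Matrix ι ι F) i j) := by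
  obtain ⟨x, hx, hxl, hxe, hxe'⟩ := exists_x D hy hfl hi ha
  refine ⟨x, hx, hxl, ?_, ?_, by rw [hxe r r hr, if_pos rfl], hxe⟩
  · rw [hxe t r ht, if_neg hrt.symm, zero_add]
    exact mul_ne_zero (sub_ne_zero.mpr ha1)
      (mul_ne_zero ht0 fun h => hr0 ((pat D hne hy hfl hr hi).mpr h))
  · rw [hxe t r ht, hxe' r t hr, if_neg hrt.symm, if_neg hrt]
    ring

/-- The condition on two entries of a column. -/
theorem pair {l i r t : ι} {y : GL ι F} (hy : y ∈ G) (hfl : Fl l y) (hi : i ≠ l) (hr : r ≠ l) (ht : t ≠ l)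
    (hrt : r ≠ t) (hr0 : (y : Matrix ι ι F) r i ≠ 0) (ht0 : (y : Matrix ι ι F) t i ≠ 0) {a : F} (ha : a ≠ 0)
    (ha1 : a ≠ 1) {K : F} (hK : K = ((y : Matrix ι ι F) r i * ((y⁻¹ : GL ι F) : Matrix ι ι F) i r) *
      ((y : Matrix ι ι F) t i * ((y⁻¹ : GL ι F) : Matrix ι ι F) i t)) :
    (a - 1) * (a⁻¹ - 1) * K = 1 ∨ 2 * ((a - 1) * (a⁻¹ - 1) * K) = 1 := by
  obtain ⟨x, hx, hxl, -, hxv, -, -⟩ := derived D hne hy hfl hi hr ht hrt hr0 ht0 ha ha1
  rw [← hK] at hxv
  have hK0 : K ≠ 0 := hK ▸ mul_ne_zero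
    (mul_ne_zero hr0 fun h => hr0 ((pat D hne hy hfl hr hi).mpr h))
    (mul_ne_zero ht0 fun h => ht0 ((pat D hne hy hfl ht hi).mpr h))
  exact value D hne hx hxl hr ht hxv.symm
    (mul_ne_zero (mul_ne_zero (sub_ne_zero.mpr ha1) (sub_ne_zero.mpr (inv_ne_one.mpr ha1))) hK0)

/-- Columns with two entries force the field with five elements. -/
theorem card_five {l i r t : ι} {y : GL ι F} (hy : y ∈ G) (hfl : Fl l y) (hi : i ≠ l) (hr : r ≠ l) (ht : t ≠ l)
    (hrt : r ≠ t) (hr0 : (y : Matrix ι ι F) r i ≠ 0) (ht0 : (y : Matrix ι ι F) t i ≠ 0) : Fintype.card F = 5 := by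
  classical
  by_contra hq
  have hfive := D.field
  have h6 : Fintype.card F ≠ 6 := fun e => by
    have h := FiniteField.isPrimePow_card F
    rw [e, isPrimePow_nat_iff_bounded] at h
    revert h
    decide
  obtain ⟨K, hK⟩ : ∃ K, K = ((y : Matrix ι ι F) r i * ((y⁻¹ : GL ι F) : Matrix ι ι F) i r) *
      ((y : Matrix ι ι F) t i * ((y⁻¹ : GL ι F) : Matrix ι ι F) i t) := ⟨_, rfl⟩
  let A : Finset F := (Finset.univ.erase 0).erase 1
  have hA : 5 ≤ A.card := by
    rw [Finset.card_erase_of_mem (by simp), Finset.card_erase_of_mem (Finset.mem_univ _), Finset.card_univ]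
    omega
  let P : F → Prop := fun a => (a - 1) * (a⁻¹ - 1) * K = 1
  have hsum := Finset.card_filter_add_card_filter_not (s := A) P
  have key : ∀ s ⊆ A, ∀ T : F, (∀ a ∈ s, (a - 1) * (a⁻¹ - 1) * K = T) → T ≠ 0 → s.card ≤ 2 := by
    intro s hs T hT hT0
    by_contra hlt
    obtain ⟨a, b, c, ha, hb, hc, hab, hac, hbc⟩ := Finset.two_lt_card_iff.mp (by omega : 2 < s.card)
    have eqn : ∀ {a b}, a ∈ s → b ∈ s → a ≠ b → a * b = 1 := by
      intro a b ha hb hab
      have ha0 : a ≠ 0 := by have := hs ha; simp [A] at this; exact this.2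
      have hb0 : b ≠ 0 := by have := hs hb; simp [A] at this; exact this.2
      have e : (a - 1) * (a⁻¹ - 1) = (b - 1) * (b⁻¹ - 1) := mul_right_cancel₀
        (fun h : K = 0 => hT0 (by rw [← hT a ha, h, mul_zero])) ((hT a ha).trans (hT b hb).symm)
      field_simp at e
      have : (a - b) * (a * b - 1) = 0 := by linear_combination -e
      exact sub_eq_zero.mp ((mul_eq_zero.mp this).resolve_left (sub_ne_zero.mpr hab))
    have h1 := eqn ha hb hab
    have h2 := eqn ha hc hac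
    exact hbc (mul_left_cancel₀ (left_ne_zero_of_mul_eq_one h1) (h1.trans h2.symm))
  have h1 := key (A.filter P) (Finset.filter_subset _ _) 1 (fun a ha => (Finset.mem_filter.mp ha).2) one_ne_zero
  have h2 : (A.filter fun a => ¬ P a).card ≤ 2 := by
    by_cases h2 : (2 : F) = 0
    · rw [Finset.card_eq_zero.mpr (Finset.filter_eq_empty_iff.mpr fun a ha hna => ?_)]
      · omega
      · simp [A] at ha
        rcases pair D hne hy hfl hi hr ht hrt hr0 ht0 ha.2 ha.1 hK with h | h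
        · exact hna h
        · rw [h2, zero_mul] at h; exact zero_ne_one h
    · refine key _ (Finset.filter_subset _ _) 2⁻¹ (fun a ha => ?_) (inv_ne_zero h2)
      obtain ⟨ha, hna⟩ := Finset.mem_filter.mp ha
      simp [A] at ha
      rcases pair D hne hy hfl hi hr ht hrt hr0 ht0 ha.2 ha.1 hK with h | h
      · exact absurd h hna
      · exact eq_inv_of_mul_eq_one_right h
  omega

/-- No column has two entries. -/
theorem no_two {l i r t : ι} {y : GL ι F} (hy : y ∈ G) (hfl : Fl l y) (hi : i ≠ l) (hr : r ≠ l) (ht : t ≠ l)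
    (hrt : r ≠ t) (hr0 : (y : Matrix ι ι F) r i ≠ 0) (ht0 : (y : Matrix ι ι F) t i ≠ 0) : False := by
  classical
  have hq := card_five D hne hy hfl hi hr ht hrt hr0 ht0
  have h5 : (5 : F) = 0 := by
    have := FiniteField.cast_card_eq_zero F
    rw [hq] at this
    exact_mod_cast this
  have h2 : (2 : F) ≠ 0 := fun h => one_ne_zero (α := F) (by linear_combination h5 - 2 * h)
  have h3 : (3 : F) ≠ 0 := fun h => one_ne_zero (α := F) (by linear_combination 2 * h - h5)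
  have i2 : (2 : F)⁻¹ = 3 := inv_eq_of_mul_eq_one_right (by linear_combination h5)
  have i4 : (4 : F)⁻¹ = 4 := inv_eq_of_mul_eq_one_right (by linear_combination 3 * h5)
  have h40 : (4 : F) ≠ 0 := fun h => one_ne_zero (α := F) (by linear_combination h5 - h)
  have h41 : (4 : F) ≠ 1 := fun h => h3 (by linear_combination h)
  have h21 : (2 : F) ≠ 1 := fun h => one_ne_zero (α := F) (by linear_combination h)
  -- every value on such a column is one half
  have half : ∀ {i r t : ι} {y : GL ι F}, y ∈ G → Fl l y → i ≠ l → r ≠ l → t ≠ l → r ≠ t →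
      (y : Matrix ι ι F) r i ≠ 0 → (y : Matrix ι ι F) t i ≠ 0 →
      (y : Matrix ι ι F) r i * ((y⁻¹ : GL ι F) : Matrix ι ι F) i r = 3 := by
    intro i r t y hy hfl hi hr ht hrt hr0 ht0
    have hc0 : (y : Matrix ι ι F) r i * ((y⁻¹ : GL ι F) : Matrix ι ι F) i r ≠ 0 :=
      mul_ne_zero hr0 fun h => hr0 ((pat D hne hy hfl hr hi).mpr h)
    have hd0 : (y : Matrix ι ι F) t i * ((y⁻¹ : GL ι F) : Matrix ι ι F) i t ≠ 0 :=
      mul_ne_zero ht0 fun h => ht0 ((pat D hne hy hfl ht hi).mpr h)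
    rcases value D hne hy hfl hi hr rfl hc0 with hc | hc
    swap
    · linear_combination 3 * hc - ((y : Matrix ι ι F) r i * ((y⁻¹ : GL ι F) : Matrix ι ι F) i r) * h5
    exfalso
    rcases value D hne hy hfl hi ht rfl hd0 with hd | hd
    · have := pair D hne hy hfl hi hr ht hrt hr0 ht0 h2 h21 rfl
      rw [hc, hd, i2] at this
      rcases this with h | h
      · exact one_ne_zero (α := F) (by linear_combination h)
      · exact h3 (by linear_combination h)
    · have hd3 : (y : Matrix ι ι F) t i * ((y⁻¹ : GL ι F) : Matrix ι ι F) i t = 3 := by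
        linear_combination 3 * hd - ((y : Matrix ι ι F) t i * ((y⁻¹ : GL ι F) : Matrix ι ι F) i t) * h5
      have := pair D hne hy hfl hi hr ht hrt hr0 ht0 h40 h41 rfl
      rw [hc, hd3, i4] at this
      rcases this with h | h
      · exact one_ne_zero (α := F) (by linear_combination h - 5 * h5)
      · exact h3 (by linear_combination h - 10 * h5)
  -- three entries are impossible
  have three : ∀ {i r t t' : ι} {y : GL ι F}, y ∈ G → Fl l y → i ≠ l → r ≠ l → t ≠ l → t' ≠ l → r ≠ t → r ≠ t' →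
      t ≠ t' → (y : Matrix ι ι F) r i ≠ 0 → (y : Matrix ι ι F) t i ≠ 0 → (y : Matrix ι ι F) t' i ≠ 0 → False := by
    intro i r t t' y hy hfl hi hr ht ht' hrt hrt' htt' hr0 ht0 ht'0
    have c1 := half hy hfl hi hr ht hrt hr0 ht0
    have c2 := half hy hfl hi ht hr hrt.symm ht0 hr0
    have c3 := half hy hfl hi ht' hr hrt'.symm ht'0 hr0
    obtain ⟨x, hx, hxl, hxt, hxv, -, hxe⟩ := derived D hne hy hfl hi hr ht hrt hr0 ht0 h40 h41
    have hxt' : (x : Matrix ι ι F) t' r ≠ 0 := by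
      rw [hxe t' r ht', if_neg hrt'.symm, zero_add]
      exact mul_ne_zero (sub_ne_zero.mpr h41)
        (mul_ne_zero ht'0 fun h => hr0 ((pat D hne hy hfl hr hi).mpr h))
    have e := half hx hxl hr ht ht' htt' hxt hxt'
    rw [hxv, c1, c2, i4] at e
    exact h2 (by linear_combination -e + 16 * h5)
  have hsupp : ∀ p, p ≠ l → p ≠ r → p ≠ t → (y : Matrix ι ι F) p i = 0 := fun p hpl hpr hpt => by
    by_contra hp
    exact three hy hfl hi hr ht hpl hrt (Ne.symm hpr) (Ne.symm hpt) hr0 ht0 hp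
  obtain ⟨p, hp⟩ := exists_out (s := {l, r, t}) (by
    have := Finset.card_le_three (a := l) (b := r) (c := t)
    have := D.card
    omega)
  simp only [Finset.mem_insert, Finset.mem_singleton, not_or] at hp
  obtain ⟨hpl, hpr, hpt⟩ := hp
  have hyp : (y : Matrix ι ι F) p i = 0 := hsupp p hpl hpr hpt
  have hyp' : ((y⁻¹ : GL ι F) : Matrix ι ι F) i p = 0 := (pat D hne hy hfl hpl hi).mp hyp
  have hci : (y : Matrix ι ι F) t i * ((y⁻¹ : GL ι F) : Matrix ι ι F) i t = 3 := half hy hfl hi ht hr hrt.symm ht0 hr0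
  obtain ⟨x, hx, hxl, -, -, hxrr, hxe⟩ := derived D hne hy hfl hi hr ht hrt hr0 ht0 h2 h21
  obtain ⟨σ, hσl, hσr, hσt⟩ : ∃ σ : Equiv.Perm ι, σ l = l ∧ σ r = t ∧ σ t = p := by
    refine ⟨Equiv.swap r p * Equiv.swap r t, ?_, ?_, ?_⟩
    · rw [Equiv.Perm.mul_apply, Equiv.swap_apply_of_ne_of_ne (Ne.symm hr) (Ne.symm ht),
        Equiv.swap_apply_of_ne_of_ne (Ne.symm hr) (Ne.symm hpl)]
    · rw [Equiv.Perm.mul_apply, Equiv.swap_apply_left, Equiv.swap_apply_of_ne_of_ne (Ne.symm hrt) (Ne.symm hpt)]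
    · rw [Equiv.Perm.mul_apply, Equiv.swap_apply_right, Equiv.swap_apply_left]
  obtain ⟨m, hm, a, ha0, -, hconj⟩ := exists_mon D σ
  obtain ⟨x', hx'⟩ : ∃ x', x' = m * x * m⁻¹ := ⟨_, rfl⟩
  have hxG : x' ∈ G := hx' ▸ mul_mem (mul_mem hm hx) (inv_mem hm)
  have he : ∀ u v, (x' : Matrix ι ι F) (σ u) (σ v) = a u * (x : Matrix ι ι F) u v * (a v)⁻¹ := fun u v => by
    rw [hx', Units.val_mul, Units.val_mul, hconj]
  have hx'l : Fl l x' := fun u hu => by
    obtain ⟨u, rfl⟩ := σ.surjective u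
    have hu' : u ≠ l := fun e => hu (by rw [e, hσl])
    have := he u l
    rw [hσl, hxl u hu', mul_zero, zero_mul] at this
    exact this
  -- the column of the product
  obtain ⟨g, hg⟩ : ∃ g, g = x * x' := ⟨_, rfl⟩
  have hgG : g ∈ G := hg ▸ mul_mem hx hxG
  have hgl : Fl l g := hg ▸ (fl_mul hxl hx'l).1
  have hxtr : (x : Matrix ι ι F) r t ≠ 0 := by
    rw [hxe r t hr, if_neg hrt, zero_add]
    exact mul_ne_zero (sub_ne_zero.mpr h21) (mul_ne_zero hr0 fun h => ht0 ((pat D hne hy hfl ht hi).mpr h))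
  have hxtt : (x : Matrix ι ι F) t t = 4 := by
    rw [hxe t t ht, if_pos rfl, hci]; ring
  have htp : (x' : Matrix ι ι F) t p ≠ 0 := by
    rw [← hσr, ← hσt, he]
    exact mul_ne_zero (mul_ne_zero (ha0 _) hxtr) (inv_ne_zero (ha0 _))
  have hpp : (x' : Matrix ι ι F) p p = 4 := by
    have := he t t
    rw [hσt, hxtt] at this
    rw [this, mul_comm (a t), mul_assoc, mul_inv_cancel₀ (ha0 t), mul_one]
  have hoff : ∀ q, q ≠ l → q ≠ t → q ≠ p → (x' : Matrix ι ι F) q p = 0 := fun q hql hqt hqp => by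
    obtain ⟨u, rfl⟩ := σ.surjective q
    have := he u t
    rw [hσt] at this
    rw [this, hxe u t (fun e => hql (by rw [e, hσl])), if_neg (fun e => hqp (by rw [e, hσt])),
      hsupp u (fun e => hql (by rw [e, hσl])) (fun e => hqt (by rw [e, hσr])) (fun e => hqp (by rw [e, hσt])),
      zero_mul, mul_zero, add_zero, mul_zero, zero_mul]
  have hgcol : ∀ k, k ≠ l → (g : Matrix ι ι F) k p =
      (x : Matrix ι ι F) k t * (x' : Matrix ι ι F) t p + (x : Matrix ι ι F) k p * (x' : Matrix ι ι F) p p := fun k hk => by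
    rw [hg, Units.val_mul, mul_apply, ← Finset.sum_subset (Finset.subset_univ {t, p}) fun q _ hq => ?_,
      Finset.sum_pair (Ne.symm hpt)]
    simp only [Finset.mem_insert, Finset.mem_singleton, not_or] at hq
    by_cases hql : q = l
    · rw [hql, hxl k hk, zero_mul]
    · rw [hoff q hql hq.1 hq.2, mul_zero]
  have hxp : ∀ k, k ≠ l → (x : Matrix ι ι F) k p = if k = p then 1 else 0 := fun k hk => by
    rw [hxe k p hk, hyp', mul_zero, mul_zero, add_zero]
  refine three hgG hgl hpl hr ht hpl hrt (Ne.symm hpr) (Ne.symm hpt) ?_ ?_ ?_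
  · rw [hgcol r hr, hxp r hr, if_neg (Ne.symm hpr), zero_mul, add_zero]
    exact mul_ne_zero hxtr htp
  · rw [hgcol t ht, hxp t ht, if_neg (Ne.symm hpt), zero_mul, add_zero, hxtt]
    exact mul_ne_zero h40 htp
  · rw [hgcol p hpl, hxp p hpl, if_pos rfl, one_mul, hpp, hxe p t hpl, if_neg hpt, hyp, zero_mul, mul_zero, add_zero,
      zero_mul, zero_add]
    exact h40

omit hne

/-- An element fixing a coordinate line. -/
theorem elem_of_fix {l : ι} {y : GL ι F} (hy : y ∈ G) (hfl : Fl l y) (hnm : ¬ IsMon (y : Matrix ι ι F)) : Elem G := by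
  classical
  by_contra hne
  have hblock : ∀ j, j ≠ l → ∃ p, ∀ i, i ≠ l → i ≠ p → (y : Matrix ι ι F) i j = 0 := fun j hj => by
    by_cases h : ∃ r, r ≠ l ∧ (y : Matrix ι ι F) r j ≠ 0
    · obtain ⟨r, hr, hr0⟩ := h
      exact ⟨r, fun t ht htr => by_contra fun ht0 => no_two D hne hy hfl hj hr ht (Ne.symm htr) hr0 ht0⟩
    · push Not at h
      exact ⟨l, fun i hi _ => h i hi⟩
  obtain ⟨M, hM⟩ : ∃ M : Matrix ι ι F, M = Matrix.of fun i j => if i = l ∧ j ≠ l then 0 else (y : Matrix ι ι F) i j :=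
    ⟨_, rfl⟩
  have hll : (y : Matrix ι ι F) l l ≠ 0 := left_ne_zero_of_mul_eq_one (fl_inv hfl).2
  obtain ⟨ρ, hρ⟩ : ∃ ρ : ι → F, ρ = fun j => if j = l then 0 else (y : Matrix ι ι F) l j / (y : Matrix ι ι F) l l :=
    ⟨_, rfl⟩
  have hρl : ρ l = 0 := by simp [hρ]
  have hMy : (y : Matrix ι ι F) = M * (1 + vecMulVec (Pi.single l 1) ρ) := by
    rw [Matrix.mul_add, Matrix.mul_one, mul_vecMulVec, mulVec_single_one]
    ext i j
    rw [Matrix.add_apply, vecMulVec_apply, col_apply, hM, of_apply, of_apply, if_neg (show ¬ (i = l ∧ l ≠ l) from fun h => h.2 rfl), hρ]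
    by_cases hj : j = l
    · simp [hj]
    by_cases hi : i = l
    · subst hi; simp [hj, mul_div_cancel₀ _ hll]
    · simp [hi, hj, hfl i hi]
  have hdet : M.det = 1 := by
    have h := mem_specialLinear_iff.mp (D.sl hy)
    rwa [hMy, det_mul, vecMulVec_eq Unit, det_one_add_replicateCol_mul_replicateRow, dotProduct_single, hρl, zero_mul,
      add_zero, mul_one] at h
  have hMmon : IsMon M := fun j => by
    by_cases hj : j = l
    · exact ⟨l, fun i hi => by rw [hM, of_apply, if_neg (fun h => h.2 hj), hj, hfl i hi]⟩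
    · obtain ⟨p, hp⟩ := hblock j hj
      refine ⟨p, fun i hi => ?_⟩
      rw [hM, of_apply]
      split_ifs with h
      · rfl
      · exact hp i (fun e => h ⟨e, hj⟩) hi
  obtain ⟨m, hm⟩ : ∃ m : GL ι F, (m : Matrix ι ι F) = M :=
    ⟨GeneralLinearGroup.mkOfDetNeZero M (by rw [hdet]; exact one_ne_zero), rfl⟩
  have hmG : m ∈ G := D.mon m (mem_specialLinear_iff.mpr (by rw [hm, hdet])) (hm ▸ hMmon)
  refine hne (elem_of_tr D hρl (fun h => hnm ?_) ⟨m⁻¹ * y, mul_mem (inv_mem hmG) hy, fun v => ?_⟩)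
  · rw [hMy, h, vecMulVec_zero, add_zero, Matrix.mul_one]
    exact hMmon
  · rw [gl_mul_mulVec, hMy, ← mulVec_mulVec, ← hm, gl_inv_mulVec_cancel, add_mulVec, one_mulVec, vecMulVec_mulVec,
      op_smul_eq_smul, ← Pi.single_smul, smul_eq_mul, mul_one]

end Cfsg.Agent.Classical.LMon
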