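/-
A subgroup of the special linear group containing the monomial elements and one more is the whole group.
-/
import Cfsg.Agent.Lib.Classical.LinMonomialFix

set_option autoImplicit false
set_option linter.unusedSectionVars false

namespace Cfsg.Agent.Classical.LMon

open Matrix Module Cfsg.Geo
open Cfsg.Agent.Classical

variable {ι : Type} [Fintype ι] [DecidableEq ι] {F : Type*} [Field F] [Fintype F] {G : Subgroup (GL ι F)}

theorem isMon_mul {A B : Matrix ι ι F} (hA : IsMon A) (hB : IsMon B) : IsMon (A * B) := fun j => by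
  obtain ⟨p, hp⟩ := hB j
  obtain ⟨q, hq⟩ := hA p
  refine ⟨q, fun i hi => ?_⟩
  rw [mul_apply, Finset.sum_eq_single p (fun b _ hb => by rw [hp b hb, mul_zero])
    (fun h => absurd (Finset.mem_univ p) h), hq i hi, zero_mul]

/-- The permutation of an invertible monomial matrix. -/
theorem mon_perm {g : GL ι F} (hg : IsMon (g : Matrix ι ι F)) : ∃ σ : Equiv.Perm ι, ∀ j,
    (g : Matrix ι ι F) (σ j) j ≠ 0 ∧ ∀ i, i ≠ σ j →
      (g : Matrix ι ι F) i j = 0 ∧ ((g⁻¹ : GL ι F) : Matrix ι ι F) j i = 0 := by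
  classical
  choose p hp using hg
  have hcol : ∀ j, (g : Matrix ι ι F) *ᵥ Pi.single j 1 = Pi.single (p j) ((g : Matrix ι ι F) (p j) j) := fun j => by
    funext i
    rw [mulVec_single_one, col_apply]
    by_cases hi : i = p j
    · rw [hi, Pi.single_eq_same]
    · rw [Pi.single_eq_of_ne hi, hp j i hi]
  have hne : ∀ j, (g : Matrix ι ι F) (p j) j ≠ 0 := fun j h => by
    have := hcol j
    rw [h, Pi.single_zero, ← mulVec_zero (g : Matrix ι ι F)] at this
    simpa using congrFun (gl_mulVec_injective g this) j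
  have hpinj : Function.Injective p := fun a b hab => by
    by_contra hne'
    have h1 : (g : Matrix ι ι F) *ᵥ Pi.single a 1 = (g : Matrix ι ι F) *ᵥ
        (((g : Matrix ι ι F) (p a) a / (g : Matrix ι ι F) (p b) b) • Pi.single b 1) := by
      rw [mulVec_smul, hcol, hcol, ← hab, ← Pi.single_smul, smul_eq_mul, div_mul_cancel₀]
      rw [hab]; exact hne b
    simpa [hne'] using congrFun (gl_mulVec_injective g h1) a
  refine ⟨Equiv.ofBijective p (Finite.injective_iff_bijective.mp hpinj), fun j => ⟨hne j, fun i hi => ?_⟩⟩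
  refine ⟨hp j i hi, ?_⟩
  obtain ⟨b, rfl⟩ := (Finite.injective_iff_bijective.mp hpinj).2 i
  have h2 : ((g⁻¹ : GL ι F) : Matrix ι ι F) *ᵥ Pi.single (p b) 1 = ((g : Matrix ι ι F) (p b) b)⁻¹ • Pi.single b 1 := by
    refine gl_mulVec_injective g ?_
    dsimp only
    rw [gl_mulVec_inv_cancel, mulVec_smul, hcol, ← Pi.single_smul, smul_eq_mul, inv_mul_cancel₀ (hne b)]
  have := congrFun h2 j
  rw [mulVec_single_one, col_apply] at this
  rw [this, Pi.smul_apply, Pi.single_eq_of_ne (fun e => hi (by rw [e]; rfl)), smul_zero]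

theorem isMon_inv {g : GL ι F} (hg : IsMon (g : Matrix ι ι F)) : IsMon ((g⁻¹ : GL ι F) : Matrix ι ι F) := fun i => by
  obtain ⟨σ, hσ⟩ := mon_perm hg
  exact ⟨σ.symm i, fun j hj => ((hσ j).2 i (fun e => hj (by rw [e, Equiv.symm_apply_apply]))).2⟩

theorem isMon_inv_transpose {g : GL ι F} (hg : IsMon (g : Matrix ι ι F)) :
    IsMon ((g⁻¹ : GL ι F) : Matrix ι ι F)ᵀ := fun j => by
  obtain ⟨σ, hσ⟩ := mon_perm hg
  exact ⟨σ j, fun i hi => ((hσ j).2 i hi).2⟩

/-- Inverse transpose. -/
def trInv : GL ι F →* GL ι F where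
  toFun g := ⟨((g⁻¹ : GL ι F) : Matrix ι ι F)ᵀ, (g : Matrix ι ι F)ᵀ,
    by rw [← transpose_mul, ← Units.val_mul, mul_inv_cancel, Units.val_one, transpose_one],
    by rw [← transpose_mul, ← Units.val_mul, inv_mul_cancel, Units.val_one, transpose_one]⟩
  map_one' := Units.ext (by simp)
  map_mul' g h := Units.ext (by simp [_root_.mul_inv_rev, transpose_mul])

theorem trInv_coe (g : GL ι F) : (trInv g : Matrix ι ι F) = ((g⁻¹ : GL ι F) : Matrix ι ι F)ᵀ := rfl

theorem trInv_trInv (g : GL ι F) : trInv (trInv g) = g := Units.ext (by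
  rw [trInv_coe]
  show ((g : Matrix ι ι F)ᵀ)ᵀ = _
  rw [transpose_transpose])

theorem data_comap (D : Data G) : Data (G.comap trInv) where
  card := D.card
  field := D.field
  sl g hg := by
    have h := mem_specialLinear_iff.mp (D.sl hg)
    rw [trInv_coe, det_transpose] at h
    have h2 := congrArg det (g.mul_inv)
    rw [det_mul, det_one, h, mul_one] at h2
    exact mem_specialLinear_iff.mpr h2
  mon g hg hm := D.mon _ (mem_specialLinear_iff.mpr (by
    rw [trInv_coe, det_transpose]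
    have h2 := congrArg det (g.inv_mul)
    rwa [det_mul, det_one, mem_specialLinear_iff.mp hg, mul_one] at h2)) (by
      rw [trInv_coe]; exact isMon_inv_transpose hm)

theorem elem_of_comap (h : Elem (G.comap trInv)) : Elem G := by
  obtain ⟨i, j, hij, c, hc, hmem⟩ := h
  refine ⟨j, i, hij.symm, -c, neg_ne_zero.mpr hc, ?_⟩
  have e : trInv (transGL hij c) = transGL hij.symm (-c) := Units.ext (by
    rw [trInv_coe, transGL_coe]
    have h1 : ((transGL hij c)⁻¹ : GL ι F) = transGL hij (-c) := inv_eq_of_mul_eq_one_right (gl_ext_mulVec fun v => by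
      rw [gl_mul_mulVec, transGL_mulVec, transGL_mulVec, Units.val_one, one_mulVec, Pi.add_apply,
        Pi.single_eq_of_ne hij.symm, add_zero, add_assoc, ← Pi.single_add, neg_mul, neg_add_cancel, Pi.single_zero,
        add_zero])
    rw [h1, transGL_coe, transvection, transvection, transpose_add, transpose_one, transpose_single])
  rw [← e]
  exact hmem

/-- A conjugate of a two-entry torus element that is monomial moves only two coordinates. -/
theorem mon_conj {h y : GL ι F} {k k' : ι} (hk : k ≠ k') {x : F} (hx0 : x ≠ 0) (hx2 : x * x ≠ 1)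
    (hx3 : x * x * x ≠ 1) (hy : (y : Matrix ι ι F) = (h : Matrix ι ι F) * diagonal (dd k k' x) *
      ((h⁻¹ : GL ι F) : Matrix ι ι F)) (hmon : IsMon (y : Matrix ι ι F)) :
    ∃ S : Finset ι, S.card ≤ 2 ∧ ∀ i, i ∉ S → (h : Matrix ι ι F) i k = 0 ∧ (h : Matrix ι ι F) i k' = 0 := by
  classical
  obtain ⟨σ, hσ⟩ := mon_perm hmon
  obtain ⟨c, hc⟩ : ∃ c : ι → F, c = fun p => (y : Matrix ι ι F) (σ p) p := ⟨_, rfl⟩
  have hcol : ∀ p (r : F), (y : Matrix ι ι F) *ᵥ Pi.single p r = Pi.single (σ p) (r * c p) := fun p r => by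
    funext i
    rw [mulVec_single, Pi.smul_apply, op_smul_eq_mul, col_apply]
    by_cases hi : i = σ p
    · rw [hi, Pi.single_eq_same, hc, mul_comm]
    · rw [Pi.single_eq_of_ne hi, ((hσ p).2 i hi).1, zero_mul]
  have hyw : ∀ w, (y : Matrix ι ι F) *ᵥ ((h : Matrix ι ι F) *ᵥ w) =
      (h : Matrix ι ι F) *ᵥ fun p => dd k k' x p * w p := fun w => by
    rw [hy, ← mulVec_mulVec, gl_inv_mulVec_cancel, ← mulVec_mulVec]
    congr 1
    funext p
    rw [mulVec_diagonal]
  obtain ⟨s, hs⟩ : ∃ s, s = 1 + x + x⁻¹ := ⟨_, rfl⟩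
  have hx1 : x ≠ 1 := fun e => hx2 (by rw [e, one_mul])
  have hcub : ∀ v, (y : Matrix ι ι F) *ᵥ ((y : Matrix ι ι F) *ᵥ ((y : Matrix ι ι F) *ᵥ v)) -
      s • ((y : Matrix ι ι F) *ᵥ ((y : Matrix ι ι F) *ᵥ v)) + s • ((y : Matrix ι ι F) *ᵥ v) - v = 0 := fun v => by
    obtain ⟨w, rfl⟩ : ∃ w, v = (h : Matrix ι ι F) *ᵥ w := ⟨_, (gl_mulVec_inv_cancel h v).symm⟩
    rw [hyw, hyw, hyw, ← mulVec_smul, ← mulVec_smul, ← mulVec_sub, ← mulVec_add, ← mulVec_sub,
      ← mulVec_zero (h : Matrix ι ι F)]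
    congr 1
    funext p
    simp only [Pi.sub_apply, Pi.add_apply, Pi.smul_apply, smul_eq_mul, Pi.zero_apply, dd, hs]
    split_ifs
    · field_simp; ring
    · field_simp; ring
    · ring
  have two : ∀ p, σ p ≠ p → σ (σ p) = p ∧ c (σ p) * c p = -1 ∧ (2 : F) ≠ 0 := by
    intro p hp
    have h0 := hcub (Pi.single p 1)
    simp only [hcol, one_mul] at h0
    have hq : σ (σ p) ≠ σ p := fun e => hp (σ.injective e)
    by_cases h2 : σ (σ p) = p
    swap
    · exfalso
      have e1 := congrFun h0 p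
      simp only [Pi.sub_apply, Pi.add_apply, Pi.smul_apply, Pi.single_eq_of_ne (Ne.symm h2), Pi.single_eq_of_ne (Ne.symm hp),
        smul_zero, sub_zero, add_zero, Pi.single_eq_same, Pi.zero_apply] at e1
      have h3 : σ (σ (σ p)) = p := by
        by_contra h3
        rw [Pi.single_eq_of_ne (Ne.symm h3), zero_sub, neg_eq_zero] at e1
        exact one_ne_zero e1
      have e2 := congrFun h0 (σ p)
      simp only [Pi.sub_apply, Pi.add_apply, Pi.smul_apply, h3, Pi.single_eq_of_ne hp, Pi.single_eq_of_ne (Ne.symm hq),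
        smul_zero, mul_zero, sub_zero, zero_add, Pi.single_eq_same, Pi.zero_apply, smul_eq_mul] at e2
      have hs0 : s = 0 := (mul_eq_zero.mp e2).resolve_right (by rw [hc]; exact (hσ p).1)
      apply hx3
      rw [hs] at hs0
      field_simp at hs0
      linear_combination (x - 1) * hs0
    simp only [h2] at h0
    have e1 := congrFun h0 p
    have e2 := congrFun h0 (σ p)
    simp only [Pi.sub_apply, Pi.add_apply, Pi.smul_apply, Pi.single_eq_of_ne (Ne.symm hp), Pi.single_eq_of_ne hp,
      smul_zero, sub_zero, zero_sub, add_zero, Pi.single_eq_same, Pi.zero_apply, smul_eq_mul] at e1 e2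
    have hc0 : c p ≠ 0 := by rw [hc]; exact (hσ p).1
    have hk2 : c (σ p) * c p = -s := by
      have : (c (σ p) * c p + s) * c p = 0 := by linear_combination e2
      linear_combination (mul_eq_zero.mp this).resolve_right hc0
    have hs2 : (s - 1) * (s + 1) = 0 := by linear_combination e1 + s * hk2
    have hs1 : s = 1 := by
      rcases mul_eq_zero.mp hs2 with h | h
      · exact sub_eq_zero.mp h
      · exfalso
        rw [hs] at h
        field_simp at h
        have : (x + 1) * (x + 1) = 0 := by linear_combination h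
        have hm := mul_self_eq_zero.mp this
        exact hx2 (by linear_combination (x - 1) * hm)
    refine ⟨h2, by rw [hk2, hs1], fun h2' => hx2 ?_⟩
    rw [hs] at hs1
    field_simp at hs1
    linear_combination hs1 - h2'
  obtain ⟨S, hS⟩ : ∃ S : Finset ι, S = Finset.univ.filter fun p => σ p ≠ p ∨ c p ≠ 1 := ⟨_, rfl⟩
  have hfix : ∀ i, i ∉ S → σ i = i ∧ c i = 1 := fun i hi => by
    simpa [hS, not_or] using hi
  refine ⟨S, ?_, fun i hi => ?_⟩
  · have hspan : ∀ p ∈ S, (Pi.single p 1 : ι → F) ∈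
        Submodule.span F {(h : Matrix ι ι F) *ᵥ Pi.single k 1, (h : Matrix ι ι F) *ᵥ Pi.single k' 1} := by
      have him : ∀ v, (y : Matrix ι ι F) *ᵥ v - v ∈
          Submodule.span F {(h : Matrix ι ι F) *ᵥ Pi.single k 1, (h : Matrix ι ι F) *ᵥ Pi.single k' 1} := fun v => by
        obtain ⟨w, rfl⟩ : ∃ w, v = (h : Matrix ι ι F) *ᵥ w := ⟨_, (gl_mulVec_inv_cancel h v).symm⟩
        refine Submodule.mem_span_pair.mpr ⟨(x - 1) * w k, (x⁻¹ - 1) * w k', ?_⟩
        rw [hyw, ← mulVec_sub, ← mulVec_smul, ← mulVec_smul, ← mulVec_add]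
        congr 1
        funext p
        simp only [Pi.add_apply, Pi.smul_apply, Pi.sub_apply, smul_eq_mul, dd, Pi.single_apply]
        split_ifs with h1 h2
        · exact absurd (h1.symm.trans h2) hk
        · subst h1; ring
        · rename_i h2; subst h2; ring
        · ring
      intro p hp
      simp only [hS, Finset.mem_filter, Finset.mem_univ, true_and] at hp
      by_cases hσp : σ p = p
      · have hcp : c p - 1 ≠ 0 := sub_ne_zero.mpr (hp.resolve_left (not_not.mpr hσp))
        have := him (Pi.single p 1)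
        rw [hcol, hσp, one_mul, ← Pi.single_sub] at this
        have := Submodule.smul_mem _ (c p - 1)⁻¹ this
        rwa [← Pi.single_smul, smul_eq_mul, inv_mul_cancel₀ hcp] at this
      · obtain ⟨h2, hk2, htwo⟩ := two p hσp
        have := him (Pi.single p 1 + (y : Matrix ι ι F) *ᵥ Pi.single p 1)
        rw [mulVec_add, hcol, hcol, h2, one_mul, mul_comm (c p) (c (σ p)), hk2,
          show Pi.single (σ p) (c p) + Pi.single p (-1 : F) - (Pi.single p 1 + Pi.single (σ p) (c p)) =
            (-2 : F) • Pi.single p (1 : F) by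
            funext i
            simp only [Pi.sub_apply, Pi.add_apply, Pi.smul_apply, smul_eq_mul, Pi.single_apply]
            split_ifs <;> ring] at this
        exact (Submodule.smul_mem_iff _ (neg_ne_zero.mpr htwo)).mp this
    have hli : LinearIndependent F fun p : {p // p ∈ S} => (Pi.single (p : ι) 1 : ι → F) := by
      have := (Pi.basisFun F ι).linearIndependent.comp (fun p : {p // p ∈ S} => (p : ι)) Subtype.val_injective
      simpa [Function.comp_def] using this
    have h1 := finrank_span_eq_card hli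
    have h2 := Submodule.finrank_mono (Submodule.span_le.mpr (by rintro _ ⟨p, rfl⟩; exact hspan p p.2) :
      Submodule.span F (Set.range fun p : {p // p ∈ S} => (Pi.single (p : ι) 1 : ι → F)) ≤
        Submodule.span F {(h : Matrix ι ι F) *ᵥ Pi.single k 1, (h : Matrix ι ι F) *ᵥ Pi.single k' 1})
    have h3 : finrank F (Submodule.span F {(h : Matrix ι ι F) *ᵥ Pi.single k 1, (h : Matrix ι ι F) *ᵥ Pi.single k' 1}) ≤ 2 := by
      have h4 := finrank_span_finset_le_card (R := F)
        ({(h : Matrix ι ι F) *ᵥ Pi.single k 1, (h : Matrix ι ι F) *ᵥ Pi.single k' 1} : Finset (ι → F))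
      rw [Finset.coe_insert, Finset.coe_singleton] at h4
      exact h4.trans Finset.card_le_two
    rw [h1, Fintype.card_coe] at h2
    omega
  · obtain ⟨hi1, hi2⟩ := hfix i hi
    have row : ∀ v : ι → F, ((y : Matrix ι ι F) *ᵥ v) i = v i := fun v => by
      rw [mulVec, dotProduct, Finset.sum_eq_single i (fun q _ hq => ?_) (fun h => absurd (Finset.mem_univ i) h)]
      · have : (y : Matrix ι ι F) i i = c i := by
          rw [hc]
          show _ = (y : Matrix ι ι F) (σ i) i
          rw [hi1]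
        rw [this, hi2, one_mul]
      · rw [((hσ q).2 i fun e => hq (σ.injective (e.symm.trans hi1.symm))).1, zero_mul]
    have eig : ∀ q, (dd k k' x q - 1) * (h : Matrix ι ι F) i q = 0 := fun q => by
      have e := row ((h : Matrix ι ι F) *ᵥ Pi.single q 1)
      rw [hyw, show (fun p => dd k k' x p * (Pi.single q 1 : ι → F) p) = dd k k' x q • Pi.single q 1 by
        funext p
        by_cases hp : p = q
        · subst hp; simp
        · simp [hp], mulVec_smul, mulVec_single_one, Pi.smul_apply, col_apply, smul_eq_mul] at e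
      linear_combination e
    refine ⟨(mul_eq_zero.mp (eig k)).resolve_left ?_, (mul_eq_zero.mp (eig k')).resolve_left ?_⟩
    · rw [dd_left]; exact sub_ne_zero.mpr hx1
    · rw [dd_right hk]; exact sub_ne_zero.mpr (inv_ne_one.mpr hx1)

/-- A vector off several hyperplanes with all coordinates non-zero. -/
theorem avoid (T : Finset ι) : ∀ L : List (ι → F), L.length + 2 ≤ Fintype.card F →
    (∀ c ∈ L, ∃ f ∈ T, c f ≠ 0) → ∃ z : ι → F, (∀ i, z i ≠ 0) ∧ ∀ c ∈ L, ∑ f ∈ T, c f * z f ≠ 0 := by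
  classical
  intro L
  induction L with
  | nil => exact fun _ _ => ⟨fun _ => 1, fun _ => one_ne_zero, fun c hc => absurd hc List.not_mem_nil⟩
  | cons d L ih =>
    intro hlen hne
    simp only [List.length_cons] at hlen
    obtain ⟨z, hz, hzL⟩ := ih (by omega) fun c hc => hne c (List.mem_cons_of_mem _ hc)
    by_cases hd : ∑ f ∈ T, d f * z f = 0
    swap
    · exact ⟨z, hz, fun c hc => (List.mem_cons.mp hc).elim (fun e => e ▸ hd) (hzL c)⟩
    obtain ⟨f, hf, hdf⟩ := hne d List.mem_cons_self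
    let bad : Finset F := insert 0 (insert (z f) (L.map fun c => z f - (∑ p ∈ T, c p * z p) / c f).toFinset)
    have hbad : bad.card < Fintype.card F := by
      have h1 := Finset.card_insert_le (0 : F) (insert (z f) (L.map fun c => z f - (∑ p ∈ T, c p * z p) / c f).toFinset)
      have h2 := Finset.card_insert_le (z f) (L.map fun c => z f - (∑ p ∈ T, c p * z p) / c f).toFinset
      have h3 := List.toFinset_card_le (L.map fun c => z f - (∑ p ∈ T, c p * z p) / c f)
      rw [List.length_map] at h3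
      show (insert 0 _ : Finset F).card < _
      omega
    obtain ⟨v, hv⟩ : ∃ v, v ∉ bad := by
      by_contra hcon
      push Not at hcon
      rw [Finset.eq_univ_of_forall hcon, Finset.card_univ] at hbad
      omega
    simp only [bad, Finset.mem_insert, List.mem_toFinset, List.mem_map, not_or, not_exists, not_and] at hv
    have hsum : ∀ c : ι → F, ∑ p ∈ T, c p * Function.update z f v p = (∑ p ∈ T, c p * z p) + c f * (v - z f) := fun c => by
      rw [← Finset.add_sum_erase _ _ hf, ← Finset.add_sum_erase _ (fun p => c p * z p) hf, Function.update_self,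
        Finset.sum_congr rfl fun p hp => by rw [Function.update_of_ne (Finset.ne_of_mem_erase hp)]]
      ring
    refine ⟨Function.update z f v, fun i => ?_, fun c hc => ?_⟩
    · by_cases hi : i = f
      · subst hi; rw [Function.update_self]; exact hv.1
      · rw [Function.update_of_ne hi]; exact hz i
    rw [hsum]
    rcases List.mem_cons.mp hc with rfl | hc
    · rw [hd, zero_add]; exact mul_ne_zero hdf (sub_ne_zero.mpr hv.2.1)
    · intro e
      by_cases hcf : c f = 0
      · rw [hcf, zero_mul, add_zero] at e; exact hzL c hc e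
      · refine hv.2.2 c hc ?_
        field_simp
        linear_combination -e

variable (D : Data G)

include D

/-- Two zeros in a column of the inverse. -/
theorem elem_of_two_zeros {h : GL ι F} (hh : h ∈ G) (hnm : ¬ IsMon (h : Matrix ι ι F)) {k k' l : ι} (hk : k ≠ k')
    (h0 : ((h⁻¹ : GL ι F) : Matrix ι ι F) k l = 0) (h0' : ((h⁻¹ : GL ι F) : Matrix ι ι F) k' l = 0) : Elem G := by
  classical
  have hcard := D.card
  obtain ⟨x, hx0, hx2, hx3, -⟩ := exists_scalar D.field
  have conjFl : ∀ (h : GL ι F) (k k' l : ι), h ∈ G → k ≠ k' → ((h⁻¹ : GL ι F) : Matrix ι ι F) k l = 0 →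
      ((h⁻¹ : GL ι F) : Matrix ι ι F) k' l = 0 → ¬ Elem G →
      ∃ S : Finset ι, S.card ≤ 2 ∧ ∀ i, i ∉ S → (h : Matrix ι ι F) i k = 0 ∧ (h : Matrix ι ι F) i k' = 0 := by
    intro h k k' l hh hk h0 h0' hne
    obtain ⟨t, ht, htm, -⟩ := exists_dd D hk hx0
    have hval : ((h * t * h⁻¹ : GL ι F) : Matrix ι ι F) =
        (h : Matrix ι ι F) * diagonal (dd k k' x) * ((h⁻¹ : GL ι F) : Matrix ι ι F) := by
      rw [Units.val_mul, Units.val_mul, htm]
    have hfl : Fl l (h * t * h⁻¹) := fun i hi => by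
      rw [hval, conj_apply, if_neg hi, zero_add]
      refine Finset.sum_eq_zero fun p _ => ?_
      by_cases hp : p = k
      · rw [hp, h0, mul_zero, mul_zero]
      by_cases hp' : p = k'
      · rw [hp', h0', mul_zero, mul_zero]
      rw [dd_other hp hp', sub_self, zero_mul]
    refine mon_conj hk hx0 hx2 hx3 hval ?_
    by_contra hm
    exact hne (elem_of_fix D (mul_mem (mul_mem hh ht) (inv_mem hh)) hfl hm)
  by_contra hne
  obtain ⟨S, hS, hSz⟩ := conjFl h k k' l hh hk h0 h0' hne
  obtain ⟨r₁, hr₁⟩ := exists_out (s := S) (by omega)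
  obtain ⟨r₂, hr₂⟩ := exists_out (s := insert r₁ S) (by have := Finset.card_insert_le r₁ S; omega)
  obtain ⟨r₃, hr₃⟩ := exists_out (s := insert r₂ (insert r₁ S)) (by
    have := Finset.card_insert_le r₁ S
    have := Finset.card_insert_le r₂ (insert r₁ S)
    omega)
  simp only [Finset.mem_insert, not_or] at hr₂ hr₃
  obtain ⟨h', hh'⟩ : ∃ h', h' = h⁻¹ := ⟨_, rfl⟩
  have hz : ∀ r, r ∉ S → (((h'⁻¹ : GL ι F)) : Matrix ι ι F) r k = 0 := fun r hr => by
    rw [hh', inv_inv]; exact (hSz r hr).1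
  obtain ⟨S₁, hS₁, hz₁⟩ := conjFl h' r₁ r₂ k (hh' ▸ inv_mem hh) (Ne.symm hr₂.1) (hz _ hr₁) (hz _ hr₂.2) hne
  obtain ⟨S₂, hS₂, hz₂⟩ := conjFl h' r₁ r₃ k (hh' ▸ inv_mem hh) (Ne.symm hr₃.2.1) (hz _ hr₁) (hz _ hr₃.2.2) hne
  -- a column with a single entry gives an element fixing a line
  have single : ∀ r p, (∀ i, i ≠ p → (h' : Matrix ι ι F) i r = 0) → False := by
    intro r p hp
    obtain ⟨m, hm, a, ha0, happ, -⟩ := exists_mon D (Equiv.swap r p)
    have hcol : (h' : Matrix ι ι F) *ᵥ Pi.single r 1 = Pi.single p ((h' : Matrix ι ι F) p r) := by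
      funext i
      rw [mulVec_single_one, col_apply]
      by_cases hi : i = p
      · rw [hi, Pi.single_eq_same]
      · rw [Pi.single_eq_of_ne hi, hp i hi]
    refine hne (elem_of_fix D (l := p) (mul_mem hm hh) (fun i hi => ?_) fun hmm => hnm ?_)
    · obtain ⟨j, rfl⟩ := (Equiv.swap r p).surjective i
      have hj : j ≠ r := fun e => hi (by rw [e, Equiv.swap_apply_left])
      have e1 : ((h : Matrix ι ι F) *ᵥ Pi.single p 1) j = 0 := by
        have e2 := congrArg (fun v => (h : Matrix ι ι F) *ᵥ v) hcol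
        simp only [hh', gl_mulVec_inv_cancel] at e2
        rw [show (Pi.single p (((h⁻¹ : GL ι F) : Matrix ι ι F) p r) : ι → F) =
          ((h⁻¹ : GL ι F) : Matrix ι ι F) p r • Pi.single p 1 by rw [← Pi.single_smul, smul_eq_mul, mul_one],
          mulVec_smul] at e2
        have e3 := congrFun e2 j
        rw [Pi.single_eq_of_ne hj, Pi.smul_apply, smul_eq_mul] at e3
        refine (mul_eq_zero.mp e3.symm).resolve_left fun e4 => ?_
        rw [e4, zero_smul] at e2
        simpa using congrFun e2 r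
      have e4 := happ ((h : Matrix ι ι F) *ᵥ Pi.single p 1) j
      rw [e1, mul_zero, ← gl_mul_mulVec, mulVec_single_one, col_apply] at e4
      exact e4
    · have h1 := isMon_mul (isMon_inv (g := m) ?_) hmm
      · rwa [← Units.val_mul, inv_mul_cancel_left] at h1
      · intro j
        refine ⟨Equiv.swap r p j, fun i hi => ?_⟩
        obtain ⟨b, rfl⟩ := (Equiv.swap r p).surjective i
        have e := happ (Pi.single j 1) b
        rw [mulVec_single_one, col_apply, Pi.single_eq_of_ne (fun e : b = j => hi (by rw [e])), mul_zero] at e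
        exact e
  have hne0 : ∀ r, ∃ p, (h' : Matrix ι ι F) p r ≠ 0 := fun r => by
    by_contra hcon
    push Not at hcon
    have : (h' : Matrix ι ι F) *ᵥ Pi.single r 1 = (h' : Matrix ι ι F) *ᵥ 0 := by
      rw [mulVec_zero, mulVec_single_one]; funext i; exact hcon i
    simpa using congrFun (gl_mulVec_injective h' this) r
  -- every one of the three columns has two entries
  have supp : ∀ r, (∀ i, i ∉ S₁ → (h' : Matrix ι ι F) i r = 0) → ∀ p ∈ S₁, (h' : Matrix ι ι F) p r ≠ 0 := by
    intro r hr p hp hp0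
    obtain ⟨q, hq⟩ := hne0 r
    refine single r q fun i hi => by_contra fun hi0 => ?_
    have h3 : ({p, q, i} : Finset ι).card = 3 := by
      rw [Finset.card_insert_of_notMem, Finset.card_pair (Ne.symm hi)]
      simp only [Finset.mem_insert, Finset.mem_singleton, not_or]
      exact ⟨fun e => hq (e ▸ hp0), fun e => hi0 (e ▸ hp0)⟩
    have h4 : ({p, q, i} : Finset ι) ⊆ S₁ := by
      intro a ha
      simp only [Finset.mem_insert, Finset.mem_singleton] at ha
      rcases ha with rfl | rfl | rfl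
      · exact hp
      · by_contra h; exact hq (hr _ h)
      · by_contra h; exact hi0 (hr _ h)
    have := Finset.card_le_card h4
    omega
  have hin : ∀ i ∈ S₁, i ∈ S₂ := fun i hi => by
    by_contra h
    exact supp r₁ (fun i hi => (hz₁ i hi).1) i hi (hz₂ i h).1
  have hS₁2 : S₁.card = 2 := by
    by_contra hc
    obtain ⟨q, hq⟩ := hne0 r₁
    refine single r₁ q fun i hi => by_contra fun hi0 => ?_
    have h4 : ({q, i} : Finset ι) ⊆ S₁ := by
      intro a ha
      simp only [Finset.mem_insert, Finset.mem_singleton] at ha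
      rcases ha with rfl | rfl
      · by_contra h; exact hq (hz₁ _ h).1
      · by_contra h; exact hi0 (hz₁ _ h).1
    have := Finset.card_le_card h4
    rw [Finset.card_pair (Ne.symm hi)] at this
    omega
  have hS12 : S₁ = S₂ := Finset.eq_of_subset_of_card_le hin (by omega)
  have hli : LinearIndependent F fun r : ({r₁, r₂, r₃} : Finset ι) => (h' : Matrix ι ι F).col r := by
    have := (Matrix.linearIndependent_cols_iff_isUnit.mpr h'.isUnit).comp
      (fun r : ({r₁, r₂, r₃} : Finset ι) => (r : ι)) Subtype.val_injective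
    exact this
  have h1 := finrank_span_eq_card hli
  rw [Fintype.card_coe, Finset.card_insert_of_notMem (by simp [Ne.symm hr₂.1, Ne.symm hr₃.2.1]),
    Finset.card_pair (Ne.symm hr₃.1)] at h1
  have h2 : Submodule.span F (Set.range fun r : ({r₁, r₂, r₃} : Finset ι) => (h' : Matrix ι ι F).col r) ≤
      Submodule.span F (↑(S₁.image fun p => (Pi.single p 1 : ι → F)) : Set (ι → F)) := by
    rw [Submodule.span_le]
    rintro _ ⟨⟨r, hr⟩, rfl⟩
    have hr0 : ∀ i, i ∉ S₁ → (h' : Matrix ι ι F) i r = 0 := fun i hi => by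
      simp only [Finset.mem_insert, Finset.mem_singleton] at hr
      rcases hr with rfl | rfl | rfl
      · exact (hz₁ i hi).1
      · exact (hz₁ i hi).2
      · exact (hz₂ i (hS12 ▸ hi)).2
    have e : (h' : Matrix ι ι F).col r = ∑ p ∈ S₁, (h' : Matrix ι ι F) p r • (Pi.single p 1 : ι → F) := by
      funext i
      rw [col_apply, Finset.sum_apply]
      simp only [Pi.smul_apply, Pi.single_apply, smul_eq_mul, mul_ite, mul_one, mul_zero, Finset.sum_ite_eq]
      split_ifs with hi
      · rfl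
      · exact hr0 i hi
    show (h' : Matrix ι ι F).col r ∈ _
    rw [e]
    exact Submodule.sum_mem _ fun p hp => Submodule.smul_mem _ _ (Submodule.subset_span (by
      simp only [Finset.coe_image]; exact ⟨p, hp, rfl⟩))
  have h3 := Submodule.finrank_mono h2
  have h4 := finrank_span_finset_le_card (R := F) (S₁.image fun p => (Pi.single p 1 : ι → F))
  have h4' : finrank F (Submodule.span F (↑(S₁.image fun p => (Pi.single p 1 : ι → F)) : Set (ι → F))) ≤
      (S₁.image fun p => (Pi.single p 1 : ι → F)).card := h4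
  have h5 := Finset.card_image_le (s := S₁) (f := fun p => (Pi.single p 1 : ι → F))
  omega

/-- One zero in the inverse. -/
theorem elem_of_zero {g : GL ι F} (hg : g ∈ G) (hnm : ¬ IsMon (g : Matrix ι ι F)) {j l : ι}
    (h0 : ((g⁻¹ : GL ι F) : Matrix ι ι F) j l = 0) : Elem G := by
  classical
  by_contra hne
  have hcard := D.card
  obtain ⟨X, hX⟩ : ∃ X, X = ((g⁻¹ : GL ι F) : Matrix ι ι F) := ⟨_, rfl⟩
  rw [← hX] at h0
  have hcolz : ∀ p, p ≠ j → X p l ≠ 0 := fun p hp h =>
    hne (elem_of_two_zeros D hg hnm hp (by rw [← hX]; exact h) (by rw [← hX]; exact h0))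
  have hrowz : ∀ q, q ≠ l → X j q ≠ 0 := fun q hq h => by
    refine hne (elem_of_comap (elem_of_two_zeros (data_comap D) (h := trInv g⁻¹)
      (by rw [Subgroup.mem_comap, trInv_trInv]; exact inv_mem hg) (fun hm => hnm ?_) hq (k' := l) (l := j) ?_ ?_))
    · rw [trInv_coe, inv_inv] at hm
      have h1 : IsMon ((trInv g⁻¹ : GL ι F) : Matrix ι ι F) := by rwa [trInv_coe, inv_inv]
      have h2 := isMon_inv_transpose h1
      rw [← trInv_coe, trInv_trInv] at h2
      have h3 := isMon_inv h2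
      rwa [inv_inv] at h3
    · show ((trInv g⁻¹)⁻¹ : GL ι F).1 q j = 0
      rw [← map_inv, inv_inv, trInv_coe, transpose_apply, ← hX]
      exact h
    · show ((trInv g⁻¹)⁻¹ : GL ι F).1 l j = 0
      rw [← map_inv, inv_inv, trInv_coe, transpose_apply, ← hX]
      exact h0
  have hgX : ∀ a b, ∑ p, (g : Matrix ι ι F) a p * X p b = if a = b then 1 else 0 := fun a b => by
    rw [hX, ← mul_apply, ← Units.val_mul, mul_inv_cancel, Units.val_one, one_apply]
  obtain ⟨k, hk⟩ := exists_out (s := ({l} : Finset ι)) (by simp; omega)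
  obtain ⟨k', hk'⟩ := exists_out (s := ({l, k} : Finset ι)) (by
    have := Finset.card_le_two (a := l) (b := k); omega)
  simp only [Finset.mem_insert, Finset.mem_singleton, not_or] at hk hk'
  obtain ⟨q, hq⟩ := exists_out (s := ({l, k, k'} : Finset ι)) (by
    have := Finset.card_le_three (a := l) (b := k) (c := k'); omega)
  simp only [Finset.mem_insert, Finset.mem_singleton, not_or] at hq
  -- a combination of the two rows vanishing off one place
  have comb : ∀ (s s' t : F) (p₀ : ι), (∀ p, p ≠ p₀ → p ≠ j → s * (g : Matrix ι ι F) k p + s' * (g : Matrix ι ι F) k' p = 0) →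
      t = s * (g : Matrix ι ι F) k p₀ + s' * (g : Matrix ι ι F) k' p₀ → p₀ ≠ j → t = 0 ∧ s' = 0 := by
    intro s s' t p₀ hz ht hp₀
    have key : ∀ b, s * (if k = b then 1 else 0) + s' * (if k' = b then 1 else 0) =
        t * X p₀ b + (s * (g : Matrix ι ι F) k j + s' * (g : Matrix ι ι F) k' j) * X j b := fun b => by
      rw [← hgX k b, ← hgX k' b, Finset.mul_sum, Finset.mul_sum, ← Finset.sum_add_distrib,
        ← Finset.sum_subset (Finset.subset_univ {p₀, j}) fun p _ hp => ?_, Finset.sum_pair hp₀, ht]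
      · ring
      · simp only [Finset.mem_insert, Finset.mem_singleton, not_or] at hp
        linear_combination X p b * hz p hp.1 hp.2
    have e1 := key l
    rw [if_neg hk, if_neg hk'.1, mul_zero, mul_zero, add_zero, h0, mul_zero, add_zero] at e1
    have ht0 : t = 0 := (mul_eq_zero.mp e1.symm).resolve_right (hcolz p₀ hp₀)
    have e2 := key q
    rw [if_neg (Ne.symm hq.2.1), if_neg (Ne.symm hq.2.2), mul_zero, mul_zero, add_zero, ht0, zero_mul, zero_add] at e2
    have e3 := key k'
    rw [if_neg (Ne.symm hk'.2), if_pos rfl, mul_zero, zero_add, mul_one, ht0, zero_mul, zero_add,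
      (mul_eq_zero.mp e2.symm).resolve_right (hrowz q hq.1), zero_mul] at e3
    exact ⟨ht0, e3⟩
  obtain ⟨p₁, hp₁j, hp₁⟩ : ∃ p, p ≠ j ∧ (g : Matrix ι ι F) k p ≠ 0 := by
    by_contra hcon
    push Not at hcon
    have key : ∀ b, (if k = b then (1 : F) else 0) = (g : Matrix ι ι F) k j * X j b := fun b => by
      rw [← hgX k b, Finset.sum_eq_single j (fun p _ hp => by rw [hcon p hp, zero_mul])
        (fun h => absurd (Finset.mem_univ j) h)]
    have e1 := key q
    rw [if_neg (Ne.symm hq.2.1)] at e1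
    have e2 := key k
    rw [if_pos rfl, (mul_eq_zero.mp e1.symm).resolve_right (hrowz q hq.1), zero_mul] at e2
    exact one_ne_zero e2
  obtain ⟨p₂, hp₂j, hΔ⟩ : ∃ p, p ≠ j ∧
      (g : Matrix ι ι F) k p₁ * (g : Matrix ι ι F) k' p - (g : Matrix ι ι F) k p * (g : Matrix ι ι F) k' p₁ ≠ 0 := by
    by_contra hcon
    push Not at hcon
    exact hp₁ (comb (-(g : Matrix ι ι F) k' p₁) ((g : Matrix ι ι F) k p₁) _ p₁
      (fun p _ hp => by linear_combination hcon p hp) rfl hp₁j).2
  have hp12 : p₁ ≠ p₂ := fun e => hΔ (by rw [← e]; ring)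
  obtain ⟨T, hT⟩ : ∃ T : Finset ι, T = ((Finset.univ.erase j).erase p₁).erase p₂ := ⟨_, rfl⟩
  have hTmem : ∀ p, p ∈ T ↔ p ≠ p₂ ∧ p ≠ p₁ ∧ p ≠ j := fun p => by simp [hT]
  obtain ⟨Δ, hΔdef⟩ : ∃ Δ, Δ = (g : Matrix ι ι F) k p₁ * (g : Matrix ι ι F) k' p₂ -
      (g : Matrix ι ι F) k p₂ * (g : Matrix ι ι F) k' p₁ := ⟨_, rfl⟩
  rw [← hΔdef] at hΔ
  obtain ⟨A, hA⟩ : ∃ A : ι → F, A = fun f => ((g : Matrix ι ι F) k p₂ * (g : Matrix ι ι F) k' f -
      (g : Matrix ι ι F) k' p₂ * (g : Matrix ι ι F) k f) / Δ := ⟨_, rfl⟩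
  obtain ⟨B, hB⟩ : ∃ B : ι → F, B = fun f => ((g : Matrix ι ι F) k' p₁ * (g : Matrix ι ι F) k f -
      (g : Matrix ι ι F) k p₁ * (g : Matrix ι ι F) k' f) / Δ := ⟨_, rfl⟩
  have hA0 : ∃ f ∈ T, A f ≠ 0 := by
    by_contra hcon
    push Not at hcon
    have := (comb (-(g : Matrix ι ι F) k' p₂) ((g : Matrix ι ι F) k p₂) (-Δ) p₁ (fun p hp hpj => ?_)
      (by rw [hΔdef]; ring) hp₁j).1
    · exact hΔ (neg_eq_zero.mp this)
    · by_cases hp2 : p = p₂
      · rw [hp2]; ring
      · have := hcon p ((hTmem p).mpr ⟨hp2, hp, hpj⟩)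
        rw [hA] at this
        have := (div_eq_zero_iff.mp this).resolve_right hΔ
        linear_combination this
  have hB0 : ∃ f ∈ T, B f ≠ 0 := by
    by_contra hcon
    push Not at hcon
    have := (comb (-(g : Matrix ι ι F) k' p₁) ((g : Matrix ι ι F) k p₁) Δ p₂ (fun p hp hpj => ?_)
      (by rw [hΔdef]; ring) hp₂j).1
    · exact hΔ this
    · by_cases hp1 : p = p₁
      · rw [hp1]; ring
      · have := hcon p ((hTmem p).mpr ⟨hp, hp1, hpj⟩)
        rw [hB] at this
        have := (div_eq_zero_iff.mp this).resolve_right hΔ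
        linear_combination -this
  obtain ⟨f₀, hf₀⟩ := exists_out (s := ({j, p₁, p₂} : Finset ι)) (by
    have := Finset.card_le_three (a := j) (b := p₁) (c := p₂); omega)
  obtain ⟨f₁, hf₁⟩ := exists_out (s := ({j, p₁, p₂, f₀} : Finset ι)) (by
    have := Finset.card_le_four (a := j) (b := p₁) (c := p₂) (d := f₀); omega)
  simp only [Finset.mem_insert, Finset.mem_singleton, not_or] at hf₀ hf₁
  have hf₀T : f₀ ∈ T := (hTmem _).mpr ⟨hf₀.2.2, hf₀.2.1, hf₀.1⟩
  have hf₁T : f₁ ∈ T := (hTmem _).mpr ⟨hf₁.2.2.1, hf₁.2.1, hf₁.1⟩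
  obtain ⟨C, hC⟩ : ∃ C : ι → F, C = fun f => if f = f₀ then X f₁ l else if f = f₁ then -X f₀ l else 0 := ⟨_, rfl⟩
  have hC0 : ∃ f ∈ T, C f ≠ 0 := ⟨f₀, hf₀T, by rw [hC]; simpa using hcolz f₁ hf₁.1⟩
  obtain ⟨w, hw, hwL⟩ := avoid T [A, B, C] (by have := D.field; simp; omega) (fun c hc => by
    simp only [List.mem_cons, List.not_mem_nil, or_false] at hc
    rcases hc with rfl | rfl | rfl
    exacts [hA0, hB0, hC0])
  obtain ⟨z, hz⟩ : ∃ z : ι → F, z = fun p => if p = j then 0 else if p = p₁ then ∑ f ∈ T, A f * w f else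
      if p = p₂ then ∑ f ∈ T, B f * w f else w p := ⟨_, rfl⟩
  have hzj : z j = 0 := by simp [hz]
  have hz1 : z p₁ = ∑ f ∈ T, A f * w f := by simp [hz, hp₁j]
  have hz2 : z p₂ = ∑ f ∈ T, B f * w f := by simp [hz, hp₂j, hp12.symm]
  have hzT : ∀ f ∈ T, z f = w f := fun f hf => by
    obtain ⟨a, b, c⟩ := (hTmem f).mp hf; simp [hz, a, b, c]
  have hz0 : ∀ p, p ≠ j → z p ≠ 0 := fun p hp => by
    by_cases h1 : p = p₁
    · rw [h1, hz1]; exact hwL A (by simp)
    by_cases h2 : p = p₂
    · rw [h2, hz2]; exact hwL B (by simp)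
    rw [hzT p ((hTmem p).mpr ⟨h2, h1, hp⟩)]; exact hw p
  have hrow : ∀ r, r = k ∨ r = k' → ((g : Matrix ι ι F) *ᵥ z) r = 0 := by
    intro r hr
    have e : ((g : Matrix ι ι F) *ᵥ z) r = (g : Matrix ι ι F) r p₁ * z p₁ + (g : Matrix ι ι F) r p₂ * z p₂ +
        ∑ f ∈ T, (g : Matrix ι ι F) r f * z f := by
      rw [mulVec, dotProduct, ← Finset.add_sum_erase _ _ (Finset.mem_univ j), hzj, mul_zero, zero_add,
        ← Finset.add_sum_erase _ _ (by simp [hp₁j] : p₁ ∈ Finset.univ.erase j),
        ← Finset.add_sum_erase _ _ (by simp [hp₂j, hp12.symm] : p₂ ∈ (Finset.univ.erase j).erase p₁), ← hT, add_assoc]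
    rw [e, hz1, hz2, Finset.mul_sum, Finset.mul_sum, ← Finset.sum_add_distrib, ← Finset.sum_add_distrib]
    refine Finset.sum_eq_zero fun f hf => ?_
    rw [hzT f hf, hA, hB]
    rcases hr with rfl | rfl
    · field_simp
      rw [hΔdef]; ring
    · field_simp
      rw [hΔdef]; ring
  obtain ⟨a, ha⟩ : ∃ a : ι → F, a = fun p => if p = j then (∏ i ∈ Finset.univ.erase j, z i / X i l)⁻¹ else z p / X p l :=
    ⟨_, rfl⟩
  have hpne : (∏ i ∈ Finset.univ.erase j, z i / X i l) ≠ 0 := Finset.prod_ne_zero_iff.mpr fun i hi =>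
    div_ne_zero (hz0 i (Finset.ne_of_mem_erase hi)) (hcolz i (Finset.ne_of_mem_erase hi))
  have ha0 : ∀ p, a p ≠ 0 := fun p => by
    rw [ha]
    dsimp only
    split_ifs with h
    exacts [inv_ne_zero hpne, div_ne_zero (hz0 p h) (hcolz p h)]
  have hap : ∏ p, a p = 1 := by
    rw [← Finset.mul_prod_erase _ _ (Finset.mem_univ j), show a j = (∏ i ∈ Finset.univ.erase j, z i / X i l)⁻¹ by
      simp [ha], Finset.prod_congr rfl fun p hp => show a p = z p / X p l by simp [ha, Finset.ne_of_mem_erase hp],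
      inv_mul_cancel₀ hpne]
  obtain ⟨t, ht, htm, -⟩ := exists_tor D ha0 hap
  have haz : ∀ p, a p * X p l = z p := fun p => by
    by_cases hp : p = j
    · rw [hp, h0, hzj, mul_zero]
    · simp [ha, hp, div_mul_cancel₀ _ (hcolz p hp)]
  have hcol : ((g * t * g⁻¹ : GL ι F) : Matrix ι ι F) *ᵥ Pi.single l 1 = (g : Matrix ι ι F) *ᵥ z := by
    rw [gl_mul_mulVec, gl_mul_mulVec, htm]
    congr 1
    funext p
    rw [mulVec_diagonal, mulVec_single_one, col_apply, ← hX, haz]
  have hnm' : ¬ IsMon ((g * t * g⁻¹ : GL ι F) : Matrix ι ι F) := by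
    intro hm
    obtain ⟨m, hm⟩ := hm l
    have e1 : (g : Matrix ι ι F) *ᵥ z = ((g : Matrix ι ι F) *ᵥ z) m • Pi.single m 1 := by
      funext i
      by_cases hi : i = m
      · rw [hi, Pi.smul_apply, Pi.single_eq_same, smul_eq_mul, mul_one]
      · have := hm i hi
        rw [← col_apply (A := ((g * t * g⁻¹ : GL ι F) : Matrix ι ι F)) l i, ← mulVec_single_one, hcol] at this
        rw [this, Pi.smul_apply, Pi.single_eq_of_ne hi, smul_zero]
    have e2 := congrArg (fun v => ((g⁻¹ : GL ι F) : Matrix ι ι F) *ᵥ v) e1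
    simp only [gl_inv_mulVec_cancel] at e2
    simp only [mulVec_smul, mulVec_single_one, ← hX] at e2
    obtain ⟨c, hc⟩ : ∃ c, c = ((g : Matrix ι ι F) *ᵥ z) m := ⟨_, rfl⟩
    rw [← hc] at e2
    have ej := congrFun e2 j
    rw [hzj, Pi.smul_apply, col_apply, smul_eq_mul] at ej
    have hc0 : c ≠ 0 := fun h => hz0 f₀ hf₀.1 (by rw [e2, h, zero_smul]; rfl)
    have hml : m = l := by_contra fun h => hrowz m h ((mul_eq_zero.mp ej.symm).resolve_left hc0)
    refine hwL C (by simp) ?_
    rw [← Finset.sum_subset (s₁ := {f₀, f₁}) (by intro f hf; simp at hf; rcases hf with rfl | rfl <;> assumption)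
      (fun f _ hf => by simp at hf; simp [hC, hf.1, hf.2]), Finset.sum_pair (Ne.symm hf₁.2.2.2), hC, ← hzT f₀ hf₀T,
      ← hzT f₁ hf₁T, e2, hml]
    simp only [Pi.smul_apply, col_apply, smul_eq_mul, if_true, hf₁.2.2.2, if_false]
    ring
  have hzero : ∀ r, r = k ∨ r = k' → ((g * t * g⁻¹ : GL ι F) : Matrix ι ι F) r l = 0 := fun r hr => by
    rw [← col_apply (A := ((g * t * g⁻¹ : GL ι F) : Matrix ι ι F)) l r, ← mulVec_single_one, hcol, hrow r hr]
  refine hne (elem_of_two_zeros D (h := (g * t * g⁻¹)⁻¹) (inv_mem (mul_mem (mul_mem hg ht) (inv_mem hg)))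
    (fun hm => hnm' ?_) (Ne.symm hk'.2) (l := l) ?_ ?_)
  · have := isMon_inv hm
    rwa [inv_inv] at this
  · rw [inv_inv]; exact hzero k (Or.inl rfl)
  · rw [inv_inv]; exact hzero k' (Or.inr rfl)

/-- A non-monomial element gives an elementary transvection. -/
theorem elem_of_nonmon {g : GL ι F} (hg : g ∈ G) (hnm : ¬ IsMon (g : Matrix ι ι F)) : Elem G := by
  classical
  have hcard := D.card
  by_cases hz : ∃ j l, ((g⁻¹ : GL ι F) : Matrix ι ι F) j l = 0
  · obtain ⟨j, l, h⟩ := hz; exact elem_of_zero D hg hnm h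
  by_cases hz' : ∃ j l, (g : Matrix ι ι F) j l = 0
  · obtain ⟨j, l, h⟩ := hz'
    exact elem_of_zero D (inv_mem hg) (fun hm => hnm (by have := isMon_inv hm; rwa [inv_inv] at this))
      (j := j) (l := l) (by rwa [inv_inv])
  push Not at hz hz'
  obtain ⟨i, j, hij⟩ := Fintype.one_lt_card_iff.mp (show 1 < Fintype.card ι by omega)
  obtain ⟨X, hX⟩ : ∃ X, X = ((g⁻¹ : GL ι F) : Matrix ι ι F) := ⟨_, rfl⟩
  rw [← hX] at hz
  have indep : ¬ ∀ k k', (g : Matrix ι ι F) k j * (g : Matrix ι ι F) k' i = (g : Matrix ι ι F) k i * (g : Matrix ι ι F) k' j := by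
    intro hall
    have h1 : (g : Matrix ι ι F) *ᵥ ((g : Matrix ι ι F) i i • Pi.single j 1) =
        (g : Matrix ι ι F) *ᵥ ((g : Matrix ι ι F) i j • Pi.single i 1) := by
      funext k
      rw [mulVec_smul, mulVec_smul, mulVec_single_one, mulVec_single_one, Pi.smul_apply, Pi.smul_apply, col_apply,
        col_apply, smul_eq_mul, smul_eq_mul]
      linear_combination hall k i
    have := congrFun (gl_mulVec_injective g h1) j
    simp [hij.symm] at this
    exact hz' _ _ this
  obtain ⟨k, l, hkl, hR⟩ : ∃ k l, k ≠ l ∧ (g : Matrix ι ι F) k j * X j l ≠ (g : Matrix ι ι F) k i * X i l := by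
    by_contra hcon
    push Not at hcon
    refine indep fun k k' => ?_
    obtain ⟨l, hl⟩ := exists_out (s := ({k, k'} : Finset ι)) (by have := Finset.card_le_two (a := k) (b := k'); omega)
    simp only [Finset.mem_insert, Finset.mem_singleton, not_or] at hl
    have e1 := hcon k l (Ne.symm hl.1)
    have e2 := hcon k' l (Ne.symm hl.2)
    have : ((g : Matrix ι ι F) k j * (g : Matrix ι ι F) k' i - (g : Matrix ι ι F) k i * (g : Matrix ι ι F) k' j) *
        X j l = 0 := by linear_combination (g : Matrix ι ι F) k' i * e1 - (g : Matrix ι ι F) k i * e2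
    exact sub_eq_zero.mp ((mul_eq_zero.mp this).resolve_right (hz _ _))
  obtain ⟨a, ha⟩ : ∃ a, a = (g : Matrix ι ι F) k j * X j l / ((g : Matrix ι ι F) k i * X i l) := ⟨_, rfl⟩
  have ha0 : a ≠ 0 := ha ▸ div_ne_zero (mul_ne_zero (hz' _ _) (hz _ _)) (mul_ne_zero (hz' _ _) (hz _ _))
  have ha1 : a ≠ 1 := fun e => hR ((div_eq_one_iff_eq (mul_ne_zero (hz' _ _) (hz _ _))).mp (ha ▸ e))
  obtain ⟨t, ht, htm, -⟩ := exists_dd D hij ha0
  have hent : ∀ p m, p ≠ m → ((g * t * g⁻¹ : GL ι F) : Matrix ι ι F) p m =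
      (a⁻¹ - 1) * ((g : Matrix ι ι F) p j * X j m - a * ((g : Matrix ι ι F) p i * X i m)) := fun p m hpm => by
    rw [Units.val_mul, Units.val_mul, htm, conj_apply, if_neg hpm, zero_add,
      ← Finset.sum_subset (Finset.subset_univ {i, j}) fun q _ hq => ?_, Finset.sum_pair hij, dd_left, dd_right hij, ← hX]
    · field_simp
      ring
    · simp only [Finset.mem_insert, Finset.mem_singleton, not_or] at hq
      rw [dd_other hq.1 hq.2, sub_self, zero_mul]
  refine elem_of_zero D (inv_mem (mul_mem (mul_mem hg ht) (inv_mem hg))) (fun hm => ?_) (j := k) (l := l) ?_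
  · have hm' := isMon_inv hm
    rw [inv_inv] at hm'
    obtain ⟨σ, hσ⟩ := mon_perm hm'
    refine indep fun p p' => ?_
    obtain ⟨m, hm⟩ := exists_out (s := ({p, p', σ.symm p, σ.symm p'} : Finset ι)) (by
      have := Finset.card_le_four (a := p) (b := p') (c := σ.symm p) (d := σ.symm p'); omega)
    simp only [Finset.mem_insert, Finset.mem_singleton, not_or] at hm
    have eqn : ∀ p, m ≠ p → m ≠ σ.symm p → (g : Matrix ι ι F) p j * X j m = a * ((g : Matrix ι ι F) p i * X i m) := by
      intro p h1 h2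
      have := ((hσ m).2 p fun e => h2 (by rw [e, Equiv.symm_apply_apply])).1
      rw [hent p m (Ne.symm h1)] at this
      exact sub_eq_zero.mp ((mul_eq_zero.mp this).resolve_left (sub_ne_zero.mpr (inv_ne_one.mpr ha1)))
    have e1 := eqn p hm.1 hm.2.2.1
    have e2 := eqn p' hm.2.1 hm.2.2.2
    have : ((g : Matrix ι ι F) p j * (g : Matrix ι ι F) p' i - (g : Matrix ι ι F) p i * (g : Matrix ι ι F) p' j) *
        X j m = 0 := by linear_combination (g : Matrix ι ι F) p' i * e1 - (g : Matrix ι ι F) p i * e2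
    exact sub_eq_zero.mp ((mul_eq_zero.mp this).resolve_right (hz _ _))
  · rw [inv_inv, hent k l hkl, ha, div_mul_cancel₀ _ (mul_ne_zero (hz' _ _) (hz _ _)), sub_self, mul_zero]

/-- The monomial group is a maximal subgroup. -/
theorem sl_le {g : GL ι F} (hg : g ∈ G) (hnm : ¬ IsMon (g : Matrix ι ι F)) : specialLinear ι F ≤ G := by
  classical
  have hcard := D.card
  haveI : Nontrivial ι := Fintype.one_lt_card_iff_nontrivial.mp (by omega)
  obtain ⟨i, j, hij, c, hc, hmem⟩ := elem_of_nonmon D hg hnm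
  refine (specialLinear_le_iff G).mpr fun u v huv d => ?_
  have move : ∀ (σ : Equiv.Perm ι) (u v : ι) (huv : u ≠ v) (c : F), c ≠ 0 → transGL huv c ∈ G →
      ∃ c', c' ≠ 0 ∧ transGL (σ.injective.ne huv) c' ∈ G := by
    intro σ u v huv c hc hmem
    obtain ⟨m, hm, a, ha0, -, hconj⟩ := exists_mon D σ
    refine ⟨a u * c * (a v)⁻¹, mul_ne_zero (mul_ne_zero (ha0 u) hc) (inv_ne_zero (ha0 v)), ?_⟩
    convert mul_mem (mul_mem hm hmem) (inv_mem hm)
    refine Units.ext (Matrix.ext fun p q => ?_)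
    obtain ⟨p, rfl⟩ := σ.surjective p
    obtain ⟨q, rfl⟩ := σ.surjective q
    rw [Units.val_mul, Units.val_mul, hconj, transGL_coe, transGL_coe]
    simp only [transvection, Matrix.add_apply, Matrix.one_apply, Matrix.single_apply, σ.injective.eq_iff]
    split_ifs with h1 h2 <;> first
      | exact absurd (h2.1.trans (h1.trans h2.2.symm)) huv
      | simp_all [mul_assoc]
  by_cases hd : d = 0
  · convert one_mem G
    exact gl_ext_mulVec fun w => by rw [transGL_mulVec, hd, zero_mul, Pi.single_zero, add_zero, Units.val_one, one_mulVec]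
  obtain ⟨σ, hσi, hσj⟩ : ∃ σ : Equiv.Perm ι, σ i = u ∧ σ j = v := by
    refine ⟨(Equiv.swap i u).trans (Equiv.swap (Equiv.swap i u j) v), ?_, ?_⟩
    · rw [Equiv.trans_apply, Equiv.swap_apply_left, Equiv.swap_apply_of_ne_of_ne ?_ huv]
      intro e
      exact hij ((Equiv.swap i u).injective ((Equiv.swap_apply_left i u).trans e))
    · rw [Equiv.trans_apply, Equiv.swap_apply_left]
  obtain ⟨c', hc', hmem'⟩ := move σ i j hij c hc hmem
  subst hσi hσj
  obtain ⟨w, hw⟩ := exists_out (s := ({σ i, σ j} : Finset ι)) (by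
    have := Finset.card_le_two (a := σ i) (b := σ j); omega)
  simp only [Finset.mem_insert, Finset.mem_singleton, not_or] at hw
  obtain ⟨t, ht, htm, htm'⟩ := exists_dd D (Ne.symm hw.1) (div_ne_zero hd hc')
  convert mul_mem (mul_mem ht hmem') (inv_mem ht)
  refine gl_ext_mulVec fun x => ?_
  rw [gl_mul_mulVec, gl_mul_mulVec, htm, htm', transGL_mulVec, transGL_mulVec]
  funext p
  simp only [mulVec_diagonal, Pi.add_apply]
  by_cases hp : p = σ i
  · subst hp
    rw [Pi.single_eq_same, Pi.single_eq_same, dd_left, dd_other huv.symm (Ne.symm hw.2)]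
    field_simp
  · rw [Pi.single_eq_of_ne hp, Pi.single_eq_of_ne hp, add_zero, add_zero,
      mul_inv_cancel_left₀ (dd_ne (div_ne_zero hd hc') p)]

end Cfsg.Agent.Classical.LMon
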