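/-
Members of the classes for the special linear group which fail to be maximal over small fields.
-/
import Cfsg.Agent.Lib.Classical.LinMaximalGeneral

set_option autoImplicit false
set_option linter.style.haveILetI false

namespace Cfsg.Agent.Classical

open Matrix Cfsg.Geo
open scoped Kronecker

variable {ι : Type} [Fintype ι] [DecidableEq ι] {F : Type*} [Field F]

theorem dotProduct_mulVec_self_eq_zero {κ : Type} [Fintype κ] [DecidableEq κ] {J : Matrix κ κ F}
    (hJ : ∀ x y, J y x = -J x y) (hd : ∀ x, J x x = 0) (w : κ → F) : w ⬝ᵥ (J *ᵥ w) = 0 := by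
  simp only [dotProduct, Matrix.mulVec, Finset.mul_sum]
  rw [← Fintype.sum_prod_type']
  refine Finset.sum_ninvolution Prod.swap (fun x => ?_) (fun x hx e' => hx ?_) (fun x => Finset.mem_univ _) Prod.swap_swap
  · simp only [Prod.fst_swap, Prod.snd_swap]
    rw [hJ x.1 x.2]
    ring
  · have : x.2 = x.1 := congrArg Prod.fst e'
    rw [this, hd]
    ring

/-- An invertible alternating Gram matrix in coordinates gives a symplectic form. -/
theorem exists_symplectic_of_gram {κ : Type} [Fintype κ] [DecidableEq κ] (e : ι ≃ κ) (P : GL ι F) {J : Matrix κ κ F}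
    (hJ : ∀ x y, J y x = -J x y) (hd : ∀ x, J x x = 0) (hu : IsUnit J) :
    ∃ f : (ι → F) → (ι → F) → F, IsSymplecticForm f ∧ ∀ g : GL ι F,
      (∃ c : F, c ≠ 0 ∧ (matCoord e P (g : Matrix ι ι F))ᵀ * J * matCoord e P (g : Matrix ι ι F) = c • J) →
        g ∈ similarityGroup f := by
  set Pi' := ((P⁻¹ : GL ι F) : Matrix ι ι F) with hPi
  set Js : Matrix ι ι F := J.submatrix e e with hJs
  set S := Pi'ᵀ * Js * Pi' with hS
  let f : (ι → F) → (ι → F) → F := fun u v => u ⬝ᵥ (S *ᵥ v)
  have hb : IsBilinearForm f :=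
    ⟨fun x y v => by simp [f, add_dotProduct], fun c x v => by simp [f, smul_dotProduct],
      fun v x y => by simp [f, Matrix.mulVec_add, dotProduct_add], fun c v x => by simp [f, Matrix.mulVec_smul, dotProduct_smul]⟩
  have hform : ∀ (M : Matrix ι ι F) (u v : ι → F), (Pi' *ᵥ u) ⬝ᵥ (M *ᵥ (Pi' *ᵥ v)) = u ⬝ᵥ ((Pi'ᵀ * M * Pi') *ᵥ v) := by
    intro M u v
    rw [Matrix.dotProduct_mulVec u, ← Matrix.vecMul_vecMul, ← Matrix.vecMul_vecMul, ← Matrix.dotProduct_mulVec,
      ← Matrix.dotProduct_mulVec, Matrix.vecMul_transpose]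
  have halt : ∀ v, f v v = 0 := fun v => by
    simp only [f, hS, ← hform]
    exact dotProduct_mulVec_self_eq_zero (fun x y => hJ _ _) (fun x => hd _) _
  have hskew : ∀ v w, f v w = -f w v := fun v w => by
    have := halt (v + w)
    simp only [hb.add_left, hb.add_right, halt] at this
    linear_combination this
  have hSu : IsUnit S := by
    have h1 : IsUnit Js := by
      rw [Matrix.isUnit_iff_isUnit_det, hJs, Matrix.det_submatrix_equiv_self]
      exact (Matrix.isUnit_iff_isUnit_det _).mp hu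
    refine ((?_ : IsUnit Pi'ᵀ).mul h1).mul (P⁻¹).isUnit
    rw [Matrix.isUnit_iff_isUnit_det, Matrix.det_transpose, ← Matrix.isUnit_iff_isUnit_det]
    exact (P⁻¹).isUnit
  have hnd : IsNondegenerateForm f := by
    intro v hv
    have hw : S *ᵥ v ≠ 0 := fun h0 => hv (Matrix.mulVec_injective_iff_isUnit.mpr hSu (h0.trans (Matrix.mulVec_zero _).symm))
    obtain ⟨k, hk⟩ := Function.ne_iff.mp hw
    have h1 : f (Pi.single k 1) v ≠ 0 := by simpa [f, single_one_dotProduct] using hk
    exact ⟨⟨_, h1⟩, Pi.single k 1, by rw [hskew]; exact neg_ne_zero.mpr h1⟩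
  refine ⟨f, ⟨hb, hskew, halt, hnd⟩, ?_⟩
  rintro g ⟨c, hc, hcg⟩
  refine ⟨Units.mk0 c hc, fun u v => ?_⟩
  have h1 := congrArg (fun M : Matrix κ κ F => M.submatrix e e) hcg
  have hC : (matCoord e P (g : Matrix ι ι F)).submatrix e e = Pi' * (g : Matrix ι ι F) * (P : Matrix ι ι F) := by
    rw [matCoord, Matrix.submatrix_submatrix, Equiv.symm_comp_self, Matrix.submatrix_id_id]
  simp only [← Matrix.submatrix_mul_equiv _ _ _ e _, ← Matrix.transpose_submatrix, hC] at h1
  have h2 : (g : Matrix ι ι F)ᵀ * S * (g : Matrix ι ι F) = c • S := by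
    have h3 := congrArg (fun M : Matrix ι ι F => Pi'ᵀ * M * Pi') h1
    have hPP : (P : Matrix ι ι F) * Pi' = 1 := P.mul_inv
    have hPPt : Pi'ᵀ * (P : Matrix ι ι F)ᵀ = 1 := by rw [← Matrix.transpose_mul, hPP, Matrix.transpose_one]
    calc (g : Matrix ι ι F)ᵀ * S * (g : Matrix ι ι F)
        = (Pi'ᵀ * (P : Matrix ι ι F)ᵀ) * ((g : Matrix ι ι F)ᵀ * Pi'ᵀ * Js * Pi' * (g : Matrix ι ι F)) *
            ((P : Matrix ι ι F) * Pi') := by
          rw [hPP, hPPt, Matrix.one_mul, Matrix.mul_one, hS]
          simp only [Matrix.mul_assoc]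
      _ = Pi'ᵀ * ((Pi' * (g : Matrix ι ι F) * (P : Matrix ι ι F))ᵀ * Js * (Pi' * (g : Matrix ι ι F) * (P : Matrix ι ι F))) * Pi' := by
          simp only [Matrix.transpose_mul, Matrix.mul_assoc]
      _ = c • S := by rw [hJs, h3.trans (by rfl), hS, hJs, Matrix.submatrix_smul]; simp [Matrix.mul_smul, Matrix.smul_mul]
  simp only [f, Units.val_mk0]
  rw [← Matrix.vecMul_transpose, ← Matrix.dotProduct_mulVec, Matrix.mulVec_mulVec, Matrix.mulVec_mulVec,
    h2, Matrix.smul_mulVec, dotProduct_smul, smul_eq_mul]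

/-- Coordinates adapted to a decomposition into blocks. -/
theorem exists_block_coords {t m : ℕ} {D : Fin t → Submodule F (ι → F)} (hD : IsMDecomposition m D) :
    ∃ (e : ι ≃ Fin t × Fin m) (P : GL ι F), ∀ g ∈ decompositionStabilizer D,
      ∃ (σ : Equiv.Perm (Fin t)) (A : Fin t → Matrix (Fin m) (Fin m) F), (∀ i, (A i).det ≠ 0) ∧
        matCoord e P (g : Matrix ι ι F) = Matrix.of fun x y => if x.1 = σ y.1 then A y.1 x.2 y.2 else 0 := by
  classical
  let bas : ∀ i, Module.Basis (Fin m) F (D i) := fun i => Module.finBasisOfFinrankEq F (D i) (hD.finrank_eq i)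
  let v : Fin t × Fin m → (ι → F) := fun x => (bas x.1 x.2 : ι → F)
  have hcard : Fintype.card ι = Fintype.card (Fin t × Fin m) := by simp [IsMDecomposition.card_eq hD]
  have hspan : ⊤ ≤ Submodule.span F (Set.range v) := by
    rw [← hD.iSup_eq_top, iSup_le_iff]
    intro i w hw
    have hsum := (bas i).sum_repr ⟨w, hw⟩
    have : w = ∑ a, (bas i).repr ⟨w, hw⟩ a • v (i, a) := by
      have h1 := congrArg (Subtype.val : D i → ι → F) hsum
      simp only [Submodule.coe_sum, Submodule.coe_smul] at h1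
      exact h1.symm
    rw [this]
    exact Submodule.sum_mem _ fun a _ => Submodule.smul_mem _ _ (Submodule.subset_span ⟨_, rfl⟩)
  have hli : LinearIndependent F v := linearIndependent_of_top_le_span_of_card_eq_finrank hspan (by
    rw [Module.finrank_fintype_fun_eq_card, hcard])
  let e : ι ≃ Fin t × Fin m := Fintype.equivOfCardEq hcard
  let V : Matrix ι ι F := fun s r => v (e r) s
  have hV : IsUnit V := Matrix.linearIndependent_cols_iff_isUnit.mp (hli.comp e e.injective)
  refine ⟨e, hV.unit, fun g hg => ?_⟩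
  obtain ⟨σ, hσ⟩ := hg
  have hmem : ∀ i a, (g : Matrix ι ι F) *ᵥ v (i, a) ∈ D (σ i) := fun i a => by
    rw [← hσ i]
    exact ⟨v (i, a), (bas i a).2, by rw [Matrix.toLin'_apply]⟩
  let A : Fin t → Matrix (Fin m) (Fin m) F := fun i => Matrix.of fun c a => (bas (σ i)).repr ⟨_, hmem i a⟩ c
  let M : Matrix (Fin t × Fin m) (Fin t × Fin m) F := Matrix.of fun x y => if x.1 = σ y.1 then A y.1 x.2 y.2 else 0
  have hexp : ∀ y, (g : Matrix ι ι F) *ᵥ v y = ∑ x, M x y • v x := by
    rintro ⟨i, a⟩
    have hsum := congrArg (Subtype.val : D (σ i) → ι → F) ((bas (σ i)).sum_repr ⟨_, hmem i a⟩)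
    rw [Fintype.sum_prod_type]
    rw [Finset.sum_eq_single (σ i) (fun k _ hk => by simp [M, hk]) (fun h => absurd (Finset.mem_univ _) h)]
    simp only [Submodule.coe_sum, Submodule.coe_smul] at hsum
    simp only [M, Matrix.of_apply, if_true]
    exact hsum.symm
  have hM : matCoord e hV.unit (g : Matrix ι ι F) = M := by
    have hmul : (g : Matrix ι ι F) * V = V * M.submatrix e e := by
      ext s r
      have h1 := congrFun (hexp (e r)) s
      rw [Finset.sum_apply, ← Equiv.sum_comp e] at h1
      rw [Matrix.mul_apply, Matrix.mul_apply]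
      simpa [V, Matrix.mulVec, dotProduct, mul_comm] using h1
    rw [matCoord, Matrix.mul_assoc, IsUnit.unit_spec, hmul, ← Matrix.mul_assoc, IsUnit.val_inv_mul, Matrix.one_mul,
      Matrix.submatrix_submatrix, Equiv.self_comp_symm, Matrix.submatrix_id_id]
  refine ⟨σ, A, fun i h0 => ?_, hM⟩
  obtain ⟨u, hu0, hu⟩ := Matrix.exists_mulVec_eq_zero_iff.mpr h0
  let w : Fin t × Fin m → F := fun y => if y.1 = i then u y.2 else 0
  have hw : M *ᵥ w = 0 := by
    funext x
    rw [Matrix.mulVec, dotProduct, Fintype.sum_prod_type,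
      Finset.sum_eq_single i (fun k _ hk => by simp [w, hk]) (fun h => absurd (Finset.mem_univ _) h)]
    by_cases hx : x.1 = σ i
    · simpa [M, w, hx, Matrix.mulVec, dotProduct] using congrFun hu x.2
    · simp [M, hx]
  obtain ⟨a, ha⟩ := Function.ne_iff.mp hu0
  have hMu : IsUnit M := hM ▸ matCoord_isUnit e hV.unit g
  have := Matrix.mulVec_injective_iff_isUnit.mpr hMu (hw.trans (Matrix.mulVec_zero _).symm)
  exact ha (by simpa [w] using congrFun this (i, a))

theorem matLift_add {κ : Type} (e : ι ≃ κ) (P : GL ι F) (M N : Matrix κ κ F) :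
    matLift e P (M + N) = matLift e P M + matLift e P N := by
  rw [matLift, matLift, matLift, Matrix.submatrix_add]
  exact (congrArg (· * _) (Matrix.mul_add _ _ _)).trans (Matrix.add_mul _ _ _)

theorem matLift_smul {κ : Type} (e : ι ≃ κ) (P : GL ι F) (c : F) (M : Matrix κ κ F) :
    matLift e P (c • M) = c • matLift e P M := by
  simp [matLift, Matrix.submatrix_smul]

/-- The two element field. -/
theorem eq_zero_or_one_of_card_two [Fintype F] (hq : Fintype.card F = 2) (x : F) : x = 0 ∨ x = 1 := by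
  by_contra h
  rw [not_or] at h
  have := FiniteField.pow_card_sub_one_eq_one x h.1
  rw [hq, pow_one] at this
  exact h.2 this

/-- The stabiliser of a decomposition into planes over a tiny field preserves a symplectic form. -/
theorem planes_small [Fintype F] {t : ℕ} {D : Fin t → Submodule F (ι → F)} (hD : IsMDecomposition 2 D)
    (hq : Fintype.card F = 2 ∨ (Fintype.card F = 3 ∧ t = 2)) :
    ∃ f : (ι → F) → (ι → F) → F, IsSymplecticForm f ∧ decompositionStabilizer D ⊓ specialLinear ι F ≤ similarityGroup f := by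
  classical
  obtain ⟨e, P, hP⟩ := exists_block_coords hD
  obtain ⟨f, hf, hle⟩ := exists_symplectic_of_gram e P (J := (1 : Matrix (Fin t) (Fin t) F) ⊗ₖ planeJ F)
    (fun x y => by
      rw [Matrix.kronecker_apply, Matrix.kronecker_apply, planeJ_apply_swap x.2 y.2]
      by_cases h : x.1 = y.1
      · rw [h]; ring
      · rw [Matrix.one_apply_ne h, Matrix.one_apply_ne (Ne.symm h)]; ring)
    (fun x => by
      rw [Matrix.kronecker_apply]
      generalize x.2 = a
      fin_cases a <;> simp [planeJ])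
    (IsUnit.of_mul_eq_one ((1 : Matrix (Fin t) (Fin t) F) ⊗ₖ (-planeJ F))
      (by rw [← Matrix.mul_kronecker_mul, Matrix.mul_one, planeJ_unit, Matrix.one_kronecker_one]))
  refine ⟨f, hf, fun g hg => hle g ?_⟩
  obtain ⟨σ, A, hA0, hA⟩ := hP g hg.1
  obtain ⟨c, hc0, hc⟩ : ∃ c : F, c ≠ 0 ∧ ∀ i, (A i).det = c := by
    rcases hq with h2 | ⟨h3, rfl⟩
    · exact ⟨1, one_ne_zero, fun i => (eq_zero_or_one_of_card_two h2 _).resolve_left (hA0 i)⟩
    · have hdet : (matCoord e P (g : Matrix ι ι F)).det = 1 := by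
        rw [matCoord, Matrix.det_submatrix_equiv_self, Matrix.det_mul, Matrix.det_mul, det_gl_of_mem_specialLinear hg.2,
          mul_one, ← Matrix.det_mul, Units.inv_mul, Matrix.det_one]
      have hperm : ((matCoord e P (g : Matrix ι ι F)).submatrix (σ.prodCongr (Equiv.refl (Fin 2))) id).submatrix
          (Equiv.prodComm (Fin 2) (Fin 2)) (Equiv.prodComm (Fin 2) (Fin 2)) = Matrix.blockDiagonal A := by
        ext ⟨c, k⟩ ⟨a, i⟩
        simp only [Matrix.submatrix_apply, hA, Matrix.of_apply, Matrix.blockDiagonal_apply, Equiv.prodComm_apply,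
          Prod.swap_prod_mk, Equiv.prodCongr_apply, Prod.map_apply, Equiv.refl_apply, id, σ.injective.eq_iff]
        split_ifs with h
        · rw [h]
        · rfl
      have hsign : ∀ τ : Equiv.Perm (Fin 2), Equiv.Perm.sign (τ.prodCongr (Equiv.refl (Fin 2))) = 1 := by decide
      have hprod : (A 0).det * (A 1).det = 1 := by
        have h1 := congrArg Matrix.det hperm
        rw [Matrix.det_submatrix_equiv_self, Matrix.det_permute, hsign, hdet, Matrix.det_blockDiagonal, Fin.prod_univ_two] at h1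
        simpa using h1.symm
      have hsq : (A 0).det * (A 0).det = 1 := by
        have := FiniteField.pow_card_sub_one_eq_one _ (hA0 0)
        rw [h3] at this
        simpa [sq] using this
      have h01 : (A 1).det = (A 0).det := mul_left_cancel₀ (hA0 0) (hprod.trans hsq.symm)
      exact ⟨(A 0).det, hA0 0, fun i => by fin_cases i <;> simp [h01]⟩
  refine ⟨c, hc0, ?_⟩
  rw [hA]
  ext ⟨i, a⟩ ⟨j, b⟩
  simp only [Matrix.mul_apply, Matrix.transpose_apply, Matrix.of_apply, Matrix.smul_apply, Matrix.kronecker_apply,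
    Fintype.sum_prod_type, Matrix.one_apply, ite_mul, mul_ite, mul_zero, zero_mul, one_mul, smul_eq_mul]
  by_cases hij : i = j
  · subst hij
    rw [if_pos rfl, ← hc i]
    have := congrFun (congrFun (planeJ_congr (A i)) a) b
    simpa [Matrix.mul_apply, Finset.sum_ite_eq', Finset.sum_ite_eq] using this
  · rw [if_neg hij]
    simp [hij, σ.injective.eq_iff, Finset.sum_ite_eq', Finset.sum_ite_eq, Ne.symm hij]

/-- A tensor product with a plane over the field of two elements normalises a quadratic extension. -/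
theorem tensor_two_small_strong [Fintype F] (hq : Fintype.card F = 2) {k : ℕ} (hk : 0 < k) (e : ι ≃ Fin 2 × Fin k) (P : GL ι F) :
    ∃ K : Subalgebra F (Matrix ι ι F), IsFieldSubalgebra 2 K ∧ tensorProductSubgroup 2 k e P ≤ subalgebraNormalizer K ∧
      ∀ M : Matrix ι ι F, Commute M (matLift e P (!![(0 : F), 1; 1, 1] ⊗ₖ (1 : Matrix (Fin k) (Fin k) F))) →
        ∀ x ∈ K, Commute M x := by
  classical
  have h01 := eq_zero_or_one_of_card_two hq
  have h2 : (2 : F) = 0 := by
    have := FiniteField.cast_card_eq_zero F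
    rw [hq] at this; exact_mod_cast this
  let A : Matrix (Fin 2) (Fin 2) F := !![0, 1; 1, 1]
  have hA2 : A * A = 1 + A := by
    ext i j
    fin_cases i <;> fin_cases j <;> simp [A, Matrix.mul_apply, Fin.sum_univ_two] <;> linear_combination h2
  haveI : Nonempty (Fin k) := ⟨⟨0, hk⟩⟩
  let φ : F → F → Matrix (Fin 2) (Fin 2) F := fun x y => x • (1 : Matrix (Fin 2) (Fin 2) F) + y • A
  let ψ : F → F → Matrix ι ι F := fun x y => matLift e P (φ x y ⊗ₖ (1 : Matrix (Fin k) (Fin k) F))
  have hmul : ∀ x y z w, ψ x y * ψ z w = ψ (x * z + y * w) (x * w + y * z + y * w) := fun x y z w => by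
    simp only [ψ, ← matLift_mul, ← Matrix.mul_kronecker_mul, Matrix.mul_one]
    congr 2
    simp only [φ, Matrix.add_mul, Matrix.mul_add, Matrix.smul_mul, Matrix.mul_smul, Matrix.one_mul, Matrix.mul_one, hA2,
      smul_smul]
    module
  have hinj : ∀ x y z w, ψ x y = ψ z w → x = z ∧ y = w := fun x y z w h => by
    have h1 := congrArg (matCoord e P) h
    simp only [ψ, matCoord_matLift] at h1
    have ha := congrFun (congrFun h1 (0, ⟨0, hk⟩)) (0, ⟨0, hk⟩)
    have hb := congrFun (congrFun h1 (0, ⟨0, hk⟩)) (1, ⟨0, hk⟩)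
    simp [φ, A] at ha hb
    exact ⟨ha, hb⟩
  have hone : ψ 1 0 = 1 := by simp [ψ, φ, matLift_one]
  have hadd : ∀ x y z w, ψ x y + ψ z w = ψ (x + z) (y + w) := fun x y z w => by
    simp only [ψ, ← matLift_add, ← Matrix.add_kronecker]
    congr 2
    simp only [φ]; module
  have hsmul : ∀ c x y, c • ψ x y = ψ (c * x) (c * y) := fun c x y => by
    simp only [ψ, ← matLift_smul, ← Matrix.smul_kronecker]
    congr 2
    simp only [φ]; module
  let K : Subalgebra F (Matrix ι ι F) :=
    { carrier := {M | ∃ x y, M = ψ x y}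
      mul_mem' := by rintro _ _ ⟨x, y, rfl⟩ ⟨z, w, rfl⟩; exact ⟨_, _, hmul x y z w⟩
      one_mem' := ⟨1, 0, hone.symm⟩
      add_mem' := by rintro _ _ ⟨x, y, rfl⟩ ⟨z, w, rfl⟩; exact ⟨_, _, hadd x y z w⟩
      zero_mem' := ⟨0, 0, by have := hsmul 0 0 0; simpa using this⟩
      algebraMap_mem' := fun c => ⟨c, 0, by rw [Algebra.algebraMap_eq_smul_one, ← hone, hsmul]; simp⟩ }
  refine ⟨K, ⟨?_, ?_, ?_⟩, fun g hg => ?_, ?_⟩
  rotate_right
  · rintro M hM _ ⟨x, y, rfl⟩
    have e1 : ψ x y = x • (1 : Matrix ι ι F) + y • matLift e P (A ⊗ₖ (1 : Matrix (Fin k) (Fin k) F)) := by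
      simp only [ψ, φ, Matrix.add_kronecker, Matrix.smul_kronecker, Matrix.one_kronecker_one, matLift_add,
        matLift_smul, matLift_one]
    rw [e1]
    exact ((Commute.one_right M).smul_right x).add_right (hM.smul_right y)
  · rintro _ ⟨x, y, rfl⟩ _ ⟨z, w, rfl⟩
    rw [hmul, hmul]
    congr 1 <;> ring
  · rintro _ ⟨x, y, rfl⟩ hne
    rcases h01 x with rfl | rfl <;> rcases h01 y with rfl | rfl
    · exact absurd (by have := hsmul 0 0 0; simpa using this.symm) hne
    · exact ⟨ψ 1 1, ⟨1, 1, rfl⟩, by rw [hmul, ← hone]; congr 1 <;> first | linear_combination (0 : F) * h2 | linear_combination h2⟩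
    · exact ⟨ψ 1 0, ⟨1, 0, rfl⟩, by rw [hone, Matrix.mul_one]⟩
    · exact ⟨ψ 0 1, ⟨0, 1, rfl⟩, by rw [hmul, ← hone]; congr 1 <;> first | linear_combination (0 : F) * h2 | linear_combination h2⟩
  · let ev : F × F → K := fun p => ⟨ψ p.1 p.2, p.1, p.2, rfl⟩
    have hev : Function.Bijective ev := ⟨fun p p' h => by
      obtain ⟨h1, h2⟩ := hinj _ _ _ _ (congrArg Subtype.val h)
      exact Prod.ext h1 h2, fun ⟨M, x, y, hM⟩ => ⟨(x, y), Subtype.ext hM.symm⟩⟩
    have h4 : Nat.card K = 2 ^ 2 := by
      rw [← Nat.card_eq_of_bijective ev hev, Nat.card_prod, Nat.card_eq_fintype_card, hq]; rfl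
    rw [Module.natCard_eq_pow_finrank (K := F) (V := K), Nat.card_eq_fintype_card, hq] at h4
    exact Nat.pow_right_injective le_rfl h4
  · rw [tensorProductSubgroup, mem_conj_reindex_iff] at hg
    obtain ⟨a, b, hab⟩ := hg
    rw [coe_glReindex_conj] at hab
    obtain ⟨s, hs⟩ : ∃ s : F, (a : Matrix (Fin 2) (Fin 2) F) * A = (s • (1 : Matrix (Fin 2) (Fin 2) F) + A) * a := by
      have hdet := ((Matrix.isUnit_iff_isUnit_det _).mp a.isUnit).ne_zero
      rw [Matrix.det_fin_two] at hdet
      generalize (a : Matrix (Fin 2) (Fin 2) F) = M at hdet ⊢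
      have hex : ∀ s : F, (M 0 1 = s * M 0 0 + M 1 0 ∧ M 0 0 + M 0 1 = s * M 0 1 + M 1 1 ∧
            M 1 1 = M 0 0 + (s + 1) * M 1 0 ∧ M 1 0 + M 1 1 = M 0 1 + (s + 1) * M 1 1) →
          M * A = (s • (1 : Matrix (Fin 2) (Fin 2) F) + A) * M := fun s ⟨e1, e2, e3, e4⟩ => by
        ext i j
        fin_cases i <;> fin_cases j <;> simp [A, Matrix.mul_apply, Fin.sum_univ_two] <;> assumption
      rcases h01 (M 0 0) with h00 | h00 <;> rcases h01 (M 0 1) with h0 | h0 <;> rcases h01 (M 1 0) with h10 | h10 <;>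
        rcases h01 (M 1 1) with h11 | h11 <;> simp only [h00, h0, h10, h11] at hdet hex <;>
        first
          | (exfalso; apply hdet; linear_combination (0 : F) * h2)
          | (refine ⟨0, hex 0 ⟨?_, ?_, ?_, ?_⟩⟩ <;> first | linear_combination (0 : F) * h2 | linear_combination h2 | linear_combination -h2)
          | (refine ⟨1, hex 1 ⟨?_, ?_, ?_, ?_⟩⟩ <;> first | linear_combination (0 : F) * h2 | linear_combination h2 | linear_combination -h2)
    have hfwd : ∀ x y, (g : Matrix ι ι F) * ψ x y = ψ (x + y * s) y * (g : Matrix ι ι F) := fun x y => by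
      refine matCoord_injective e P ?_
      simp only [ψ, matCoord_mul, matCoord_matLift, hab, ← Matrix.mul_kronecker_mul, Matrix.mul_one, Matrix.one_mul]
      congr 1
      simp only [φ, Matrix.mul_add, Matrix.mul_smul, Matrix.mul_one, hs, Matrix.add_mul, Matrix.smul_mul, Matrix.one_mul]
      module
    intro M
    constructor
    · rintro ⟨x, y, rfl⟩
      exact ⟨x + y * s, y, by rw [hfwd, Matrix.mul_assoc, Units.mul_inv, Matrix.mul_one]⟩
    · rintro ⟨x, y, hxy⟩
      refine ⟨x - y * s, y, ?_⟩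
      have h1 := hfwd (x - y * s) y
      rw [sub_add_cancel, ← hxy, Matrix.mul_assoc _ ((g⁻¹ : GL ι F) : Matrix ι ι F), Units.inv_mul, Matrix.mul_one] at h1
      exact (Units.mul_right_inj g).mp h1.symm

/-- A tensor product with a plane over the field of two elements normalises a quadratic extension. -/
theorem tensor_two_small [Fintype F] (hq : Fintype.card F = 2) {k : ℕ} (hk : 0 < k) (e : ι ≃ Fin 2 × Fin k) (P : GL ι F) :
    ∃ K : Subalgebra F (Matrix ι ι F), IsFieldSubalgebra 2 K ∧ tensorProductSubgroup 2 k e P ≤ subalgebraNormalizer K := by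
  obtain ⟨K, h1, h2, -⟩ := tensor_two_small_strong hq hk e P
  exact ⟨K, h1, h2⟩

/-! ### Four lines over the field of five elements -/

/-- A generalised permutation matrix. -/
def monM {κ : Type} [DecidableEq κ] (a : κ → F) (π : Equiv.Perm κ) : Matrix κ κ F :=
  Matrix.of fun x y => if y = π x then a x else 0

theorem monM_mul_apply {κ : Type} [Fintype κ] [DecidableEq κ] (a : κ → F) (π : Equiv.Perm κ) (G : Matrix κ κ F) (x z : κ) :
    (monM a π * G) x z = a x * G (π x) z := by
  rw [Matrix.mul_apply, Finset.sum_eq_single (π x) (fun j _ hj => by simp [monM, hj]) (by simp)]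
  simp [monM]

theorem mul_monM_apply {κ : Type} [Fintype κ] [DecidableEq κ] (G : Matrix κ κ F) (a : κ → F) (π : Equiv.Perm κ) (x z : κ) :
    (G * monM a π) x z = G x (π.symm z) * a (π.symm z) := by
  rw [Matrix.mul_apply, Finset.sum_eq_single (π.symm z) (fun j _ hj => ?_) (by simp)]
  · simp [monM]
  · have : z ≠ π j := fun e => hj (by rw [e, Equiv.symm_apply_apply])
    simp [monM, this]

theorem monM_mul {κ : Type} [Fintype κ] [DecidableEq κ] (a b : κ → F) (π τ : Equiv.Perm κ) :
    monM a π * monM b τ = monM (fun x => a x * b (π x)) (π.trans τ) := by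
  ext x z
  rw [monM_mul_apply]
  simp only [monM, Matrix.of_apply, mul_ite, mul_zero]
  rfl

abbrev K4 := Fin 2 × Fin 2

/-- The translation by `v`. -/
def shiftPerm (v : K4) : Equiv.Perm K4 := Equiv.addRight v

theorem k4_two (v x : K4) : x + v + v = x := by revert v x; decide

theorem k4_neg (x : K4) : -x = x := by revert x; decide

theorem k4_add_self (x : K4) : x + x = 0 := by revert x; decide

theorem k4_add_ne_zero (x z : K4) (h : x ≠ z) : x + z ≠ 0 := by revert x z; decide

theorem k4_affine (σ : Equiv.Perm K4) (v : K4) : ∃ w, ∀ x, σ (x + w) = σ x + v := by revert σ v; decide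

/-- The product of the Pauli groups in monomial form. -/
def IsPauli (M : Matrix K4 K4 F) : Prop :=
  ∃ (a : K4 → F) (v : K4), M = monM a (shiftPerm v) ∧ (∀ x y, a x * a x = a y * a y) ∧ ∏ x, a x = 1

theorem IsPauli.mul {M N : Matrix K4 K4 F} (hM : IsPauli M) (hN : IsPauli N) : IsPauli (M * N) := by
  obtain ⟨a, v, rfl, ha, ha'⟩ := hM
  obtain ⟨b, w, rfl, hb, hb'⟩ := hN
  refine ⟨fun x => a x * b (x + v), v + w, ?_, fun x y => ?_, ?_⟩
  · rw [monM_mul]
    congr 1
    ext x : 1
    simp [shiftPerm, add_assoc]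
  · linear_combination b (x + v) * b (x + v) * ha x y + a y * a y * hb (x + v) (y + v)
  · rw [Finset.prod_mul_distrib, ha', one_mul, ← hb']
    exact Equiv.prod_comp (shiftPerm v) b

theorem monM_one {κ : Type} [Fintype κ] [DecidableEq κ] : monM (fun _ => (1 : F)) (1 : Equiv.Perm κ) = 1 := by
  ext x y
  simp [monM, Matrix.one_apply, eq_comm]

/-- The Pauli group. -/
def pauliGroup (F : Type*) [Field F] : Subgroup (GL K4 F) where
  carrier := {g | IsPauli (g : Matrix K4 K4 F)}
  mul_mem' {g h} hg hh := by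
    change IsPauli _
    rw [Units.val_mul]; exact hg.mul hh
  one_mem' := ⟨fun _ => 1, 0, by
    rw [Units.val_one, ← monM_one (F := F) (κ := K4)]
    congr 1
    ext x : 1
    simp [shiftPerm], fun _ _ => rfl, Finset.prod_const_one⟩
  inv_mem' {g} hg := by
    obtain ⟨a, v, hM, ha, ha'⟩ := hg
    have h0 : ∀ x, a x ≠ 0 := fun x h => by
      rw [Finset.prod_eq_zero (Finset.mem_univ x) h] at ha'
      exact zero_ne_one ha'
    refine ⟨fun x => (a (x + v))⁻¹, v, Units.inv_eq_of_mul_eq_one_right ?_, fun x y => ?_, ?_⟩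
    · rw [hM, monM_mul, ← monM_one (F := F) (κ := K4)]
      congr 1
      · funext x
        simp [shiftPerm, k4_two, h0 x]
      · ext x : 1
        simp [shiftPerm, k4_two]
    · rw [← mul_inv, ← mul_inv, ha]
    · rw [Finset.prod_inv_distrib, show ∏ x, a (x + v) = ∏ x, a x from Equiv.prod_comp (shiftPerm v) a, ha', inv_one]

theorem card_pauliGroup_le [Fintype F] (hq : Fintype.card F = 5) : Nat.card (pauliGroup F) ≤ 320 := by
  classical
  let cand : F × (K4 → Bool) × K4 → Matrix K4 K4 F := fun p =>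
    monM (fun x => if p.2.1 x then p.1 else -p.1) (shiftPerm p.2.2)
  have hsub : Set.range (fun g : pauliGroup F => ((g : GL K4 F) : Matrix K4 K4 F)) ⊆ Set.range cand := by
    rintro _ ⟨gg, rfl⟩
    obtain ⟨a, v, hM, ha, -⟩ := gg.2
    refine ⟨(a 0, fun x => decide (a x = a 0), v), ?_⟩
    change _ = ((gg : GL K4 F) : Matrix K4 K4 F)
    rw [hM]
    simp only [cand]
    congr 1
    funext x
    by_cases h : a x = a 0
    · simp [h]
    · simpa [h] using ((mul_self_eq_mul_self_iff.mp (ha x 0)).resolve_left h).symm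
  have hinj : Function.Injective (fun g : pauliGroup F => ((g : GL K4 F) : Matrix K4 K4 F)) :=
    Units.val_injective.comp Subtype.val_injective
  calc Nat.card (pauliGroup F) = (Set.range (fun g : pauliGroup F => ((g : GL K4 F) : Matrix K4 K4 F))).ncard :=
        (Set.ncard_range_of_injective hinj).symm
    _ ≤ (Set.range cand).ncard := Set.ncard_le_ncard hsub (Set.toFinite _)
    _ ≤ Nat.card (F × (K4 → Bool) × K4) := by rw [← Nat.card_coe_set_eq]; exact Finite.card_range_le cand
    _ = 320 := by simp [Nat.card_eq_fintype_card, hq]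

/-- The sign character of the pairing. -/
def k4sign (F : Type*) [Field F] (x y : K4) : F := if x.1 * y.1 + x.2 * y.2 = 0 then 1 else -1

theorem k4sign_sq (x y : K4) : k4sign F x y * k4sign F x y = 1 := by
  unfold k4sign; split_ifs <;> ring

theorem k4sign_add_left (x x' y : K4) : k4sign F (x + x') y = k4sign F x y * k4sign F x' y := by
  have : ∀ a b c : K4, ((a + b).1 * c.1 + (a + b).2 * c.2 = 0) ↔
      ((a.1 * c.1 + a.2 * c.2 = 0) ↔ (b.1 * c.1 + b.2 * c.2 = 0)) := by decide
  unfold k4sign
  rw [if_congr (this x x' y) rfl rfl]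
  by_cases h1 : x.1 * y.1 + x.2 * y.2 = 0 <;> by_cases h2 : x'.1 * y.1 + x'.2 * y.2 = 0 <;>
    simp [h1, h2]

theorem k4sign_comm (x y : K4) : k4sign F x y = k4sign F y x := by
  have : ∀ a c : K4, (a.1 * c.1 + a.2 * c.2) = (c.1 * a.1 + c.2 * a.2) := by decide
  unfold k4sign; rw [this]

theorem k4sign_prod (x : K4) : ∏ y, k4sign F x y = 1 := by
  rw [Fintype.prod_prod_type]
  fin_cases x <;> simp [k4sign, Fin.prod_univ_two]

theorem k4sign_sum (x : K4) (hx : x ≠ 0) : ∑ y, k4sign F x y = 0 := by
  rw [Fintype.sum_prod_type]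
  fin_cases x <;> simp [k4sign, Fin.sum_univ_two] at hx ⊢

/-- Even sign patterns are characters. -/
theorem k4_character (ε : K4 → Bool) (h : (Finset.univ.filter fun x => ε x = false).card % 2 = 0) :
    ∃ w : K4, ∃ c : Bool, ∀ x, (ε x == c) = decide (w.1 * x.1 + w.2 * x.2 = 0) := by
  revert ε; decide

/-- The stabiliser of four lines over the field of five elements is not maximal in the special linear group. -/
theorem monomial_five_not_maximal [Fintype F] (hq : Fintype.card F = 5) (h4 : Fintype.card ι = 4)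
    {D : Fin 4 → Submodule F (ι → F)} (hD : IsMDecomposition 1 D) :
    ¬ IsMaximalIn (specialLinear ι F) (decompositionStabilizer D ⊓ specialLinear ι F) := by
  classical
  intro hH
  have h5 : (5 : F) = 0 := by
    have := FiniteField.cast_card_eq_zero F
    rw [hq] at this; exact_mod_cast this
  have h2 : (2 : F) ≠ 0 := two_ne_zero_of_odd_card (by rw [hq]; decide)
  have hpm : ∀ y : F, y ≠ 0 → y * y = 1 ∨ y * y = -1 := fun y hy => by
    have := FiniteField.pow_card_sub_one_eq_one y hy
    rw [hq] at this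
    exact mul_self_eq_one_iff.mp (by linear_combination this)
  obtain ⟨e, P, hP⟩ := exists_block_coords hD
  let e₁ : ι ≃ K4 := (e.trans (Equiv.prodUnique (Fin 4) (Fin 1))).trans (Fintype.equivOfCardEq (by simp))
  let ec : Fin 4 ≃ K4 := Fintype.equivOfCardEq (by simp)
  have he₁ : ∀ x, e₁.symm x = e.symm (ec.symm x, 0) := fun x => by simp [e₁, ec]
  have hmono : ∀ g ∈ decompositionStabilizer D, ∃ (σ : Equiv.Perm K4) (d : K4 → F),
      matCoord e₁ P (g : Matrix ι ι F) = monM d σ ∧ ∀ x, d x ≠ 0 := by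
    intro g hg
    obtain ⟨σ, A, hA0, hA⟩ := hP g hg
    refine ⟨((ec.symm.trans σ.symm).trans ec), fun x => A (σ.symm (ec.symm x)) 0 0, ?_, fun x => ?_⟩
    · ext x y
      have h0 := congrFun (congrFun hA (ec.symm x, 0)) (ec.symm y, 0)
      have hxy : matCoord e₁ P (g : Matrix ι ι F) x y =
          matCoord e P (g : Matrix ι ι F) (ec.symm x, 0) (ec.symm y, 0) := by
        simp only [matCoord, Matrix.submatrix_apply, he₁]
      rw [hxy, h0]
      simp only [monM, Matrix.of_apply]
      have hiff : ec.symm x = σ (ec.symm y) ↔ y = ((ec.symm.trans σ.symm).trans ec) x := by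
        rw [Equiv.trans_apply, Equiv.trans_apply, ← Equiv.symm_apply_eq ec, Equiv.eq_symm_apply, eq_comm]
      by_cases h : ec.symm x = σ (ec.symm y)
      · refine (if_pos h).trans (Eq.trans ?_ (if_pos (hiff.mp h)).symm)
        rw [h, Equiv.symm_apply_apply]
      · exact (if_neg h).trans (if_neg (fun h' => h (hiff.mpr h'))).symm
    · have := hA0 (σ.symm (ec.symm x))
      rwa [Matrix.det_fin_one] at this
  let R : Subgroup (GL ι F) := ((pauliGroup F).map (glReindex e₁.symm).toMonoidHom).map (MulAut.conj P).toMonoidHom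
  have hR : ∀ g, g ∈ R ↔ IsPauli (matCoord e₁ P (g : Matrix ι ι F)) := fun g => by
    rw [mem_conj_reindex_iff]; exact Iff.rfl
  haveI : Finite R := inferInstance
  have hnorm : ∀ g : GL ι F, (∀ r, IsPauli r → ∃ r', IsPauli r' ∧
      matCoord e₁ P (g : Matrix ι ι F) * r = r' * matCoord e₁ P (g : Matrix ι ι F)) → g ∈ subgroupNormalizer R := by
    intro g hg
    refine Subgroup.mem_normalizer_iff.mpr ?_
    have hle : R.map (MulAut.conj g).toMonoidHom ≤ R := by
      rintro _ ⟨x, hx, rfl⟩
      obtain ⟨r', hr', he⟩ := hg _ ((hR x).mp hx)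
      rw [hR, MulEquiv.coe_toMonoidHom, MulAut.conj_apply, Units.val_mul, Units.val_mul, matCoord_mul, matCoord_mul, he,
        Matrix.mul_assoc, ← matCoord_mul, Units.mul_inv, matCoord_one, Matrix.mul_one]
      exact hr'
    have heq := Subgroup.eq_of_le_of_card_ge hle
      (le_of_eq (Subgroup.card_map_of_injective (MulAut.conj g).injective).symm)
    intro x
    constructor
    · intro hx; exact hle ⟨x, hx, rfl⟩
    · intro hx
      rw [← heq] at hx
      obtain ⟨y, hy, hyx⟩ := hx
      obtain rfl : y = x := (MulAut.conj g).injective hyx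
      exact hy
  -- the monomial group normalises R
  have hle : decompositionStabilizer D ⊓ specialLinear ι F ≤ subgroupNormalizer R := by
    intro g hg
    obtain ⟨σ, d, hd, hd0⟩ := hmono g hg.1
    refine hnorm g ?_
    rintro _ ⟨a, v, rfl, ha, ha'⟩
    obtain ⟨w, hw⟩ := k4_affine σ v
    have hdet : (monM d σ).det = 1 := by
      rw [← hd, matCoord, Matrix.det_submatrix_equiv_self, Matrix.det_mul, Matrix.det_mul, det_gl_of_mem_specialLinear hg.2,
        mul_one, ← Matrix.det_mul, Units.inv_mul, Matrix.det_one]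
    have hprod : (∏ x, d x) * (∏ x, d x) = 1 := by
      have e1 : monM d σ = Matrix.of fun x y => d x * (σ.toPEquiv.toMatrix : Matrix K4 K4 F) x y := by
        ext x y; simp [monM, PEquiv.toMatrix_apply, eq_comm]
      rw [e1, Matrix.det_mul_column, Matrix.det_permutation] at hdet
      rcases Int.units_eq_one_or (Equiv.Perm.sign σ) with h | h <;> rw [h] at hdet <;> simp at hdet
      · rw [hdet, one_mul]
      · rw [show ∏ x, d x = -1 by linear_combination -hdet]; ring
    have h41 : ∀ y : F, y ≠ 0 → y * y * (y * y) = 1 := fun y hy => by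
      rcases hpm y hy with h | h <;> rw [h] <;> ring
    have hpair : ∀ x y : K4, d x * d (x + w) * (d x * d (x + w)) = d y * d (y + w) * (d y * d (y + w)) := by
      intro x y
      by_cases hw0 : w = 0
      · rw [hw0, add_zero, add_zero, h41 _ (hd0 x), h41 _ (hd0 y)]
      by_cases hy : y = x ∨ y = x + w
      · rcases hy with rfl | rfl
        · rfl
        · rw [k4_two]; ring
      rw [not_or] at hy
      have huniv : ∀ x y w : K4, w ≠ 0 → y ≠ x → y ≠ x + w → Finset.univ.val = ({x, x + w, y, y + w} : Multiset K4) := by decide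
      have hp : ∏ z, d z = d x * d (x + w) * (d y * d (y + w)) := by
        rw [Finset.prod, huniv x y w hw0 hy.1 hy.2]
        simp [mul_assoc]
      rw [hp] at hprod
      have hY := h41 _ (mul_ne_zero (hd0 y) (hd0 (y + w)))
      linear_combination (d y * d (y + w) * (d y * d (y + w))) * hprod - (d x * d (x + w) * (d x * d (x + w))) * hY
    refine ⟨monM (fun x => d x * a (σ x) / d (x + w)) (shiftPerm w), ⟨_, w, rfl, fun x y => ?_, ?_⟩, ?_⟩
    · have key : ∀ z, d z * a (σ z) / d (z + w) * (d z * a (σ z) / d (z + w)) =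
          d z * d (z + w) * (d z * d (z + w)) * (a (σ z) * a (σ z)) := fun z => by
        rw [div_mul_div_comm, div_eq_iff (mul_ne_zero (hd0 _) (hd0 _))]
        linear_combination (-(d z * a (σ z) * (d z * a (σ z)))) * h41 _ (hd0 (z + w))
      rw [key, key, hpair x y, ha (σ x) (σ y)]
    · rw [Finset.prod_div_distrib, Finset.prod_mul_distrib, Equiv.prod_comp σ a, ha', mul_one,
        show ∏ x, d (x + w) = ∏ x, d x from Equiv.prod_comp (shiftPerm w) d, div_self]
      exact Finset.prod_ne_zero_iff.mpr fun x _ => hd0 x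
    · rw [hd, monM_mul, monM_mul]
      congr 1
      · funext x
        simp [shiftPerm, div_mul_cancel₀ _ (hd0 (x + w))]
      · ext x : 1
        simp [shiftPerm, hw]
  -- R is small
  have hnot : ¬ specialLinear ι F ≤ subgroupNormalizer R := by
    refine not_specialLinear_le_normalizer (by omega) ?_ ?_
    · let v₀ : K4 := (1, 0)
      have hsq : monM (fun _ => (1 : F)) (shiftPerm v₀) * monM (fun _ => (1 : F)) (shiftPerm v₀) = 1 := by
        rw [monM_mul, ← monM_one (F := F) (κ := K4)]
        congr 1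
        · funext x; simp
        · ext x : 1; simp [shiftPerm, k4_two]
      let X : GL K4 F := ⟨monM (fun _ => (1 : F)) (shiftPerm v₀), monM (fun _ => (1 : F)) (shiftPerm v₀), hsq, hsq⟩
      refine ⟨P * glReindex e₁.symm X * P⁻¹, ?_, fun hs => ?_⟩
      · exact ⟨glReindex e₁.symm X, ⟨X, ⟨fun _ => 1, v₀, rfl, fun _ _ => rfl, Finset.prod_const_one⟩, rfl⟩, rfl⟩
      · have h1 := (inferInstance : (scalars ι F).Normal).conj_mem _ hs P⁻¹
        rw [show P⁻¹ * (P * glReindex e₁.symm X * P⁻¹) * P⁻¹⁻¹ = glReindex e₁.symm X by group] at h1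
        obtain ⟨c, hc⟩ := (mem_scalars_iff _).mp h1
        have := congrFun (congrFun hc (e₁.symm 0)) (e₁.symm v₀)
        rw [Matrix.smul_apply, Matrix.one_apply_ne (e₁.symm.injective.ne (by decide)), smul_zero] at this
        simp [glReindex, X, monM, shiftPerm, v₀] at this
    · have : Nat.card R = Nat.card (pauliGroup F) := by
        exact (Subgroup.card_map_of_injective (MulAut.conj P).injective).trans
          (Subgroup.card_map_of_injective (glReindex e₁.symm).injective)
      rw [this, hq, h4]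
      have := card_pauliGroup_le hq
      omega
  -- an element outside
  have hsqH : (Matrix.of (k4sign F)) * Matrix.of (k4sign F) = (4 : F) • (1 : Matrix K4 K4 F) := by
    ext x z
    have e1 : (Matrix.of (k4sign F) * Matrix.of (k4sign F)) x z = ∑ y, k4sign F (x + z) y := by
      rw [Matrix.mul_apply]
      refine Finset.sum_congr rfl fun y _ => ?_
      rw [Matrix.of_apply, Matrix.of_apply, k4sign_add_left, k4sign_comm y z]
    rw [e1]
    by_cases hxz : x = z
    · subst hxz
      rw [k4_add_self, Fintype.sum_prod_type]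
      simp [k4sign]
      norm_num
    · rw [Matrix.smul_apply, Matrix.one_apply_ne hxz, smul_zero, k4sign_sum _ (k4_add_ne_zero x z hxz)]
  have hdetH : (Matrix.of (k4sign F)).det = 1 := by
    have e1 : Matrix.of (k4sign F) = (!![1, 1; 1, -1] : Matrix (Fin 2) (Fin 2) F) ⊗ₖ (!![1, 1; 1, -1] : Matrix (Fin 2) (Fin 2) F) := by
      ext ⟨a, b⟩ ⟨c, d⟩
      fin_cases a <;> fin_cases b <;> fin_cases c <;> fin_cases d <;> simp [k4sign]
    have e2 : (!![1, 1; 1, -1] : Matrix (Fin 2) (Fin 2) F).det = -2 := by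
      rw [Matrix.det_fin_two]
      simp; ring
    rw [e1, Matrix.det_kronecker, e2, Fintype.card_fin]
    linear_combination 3 * h5
  let uK : GL K4 F := Matrix.GeneralLinearGroup.mkOfDetNeZero (Matrix.of (k4sign F)) (by rw [hdetH]; exact one_ne_zero)
  let u : GL ι F := P * glReindex e₁.symm uK * P⁻¹
  have huc : matCoord e₁ P (u : Matrix ι ι F) = Matrix.of (k4sign F) := by
    rw [← coe_glReindex_conj, show P⁻¹ * u * P = glReindex e₁.symm uK by simp only [u]; group]
    ext a b
    simp [glReindex, uK]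
  have huSL : u ∈ specialLinear ι F := conj_reindex_mem_specialLinear e₁.symm P (mem_specialLinear_iff.mpr hdetH)
  have huN : u ∈ subgroupNormalizer R := by
    refine hnorm u ?_
    rintro _ ⟨a, v, rfl, ha, ha'⟩
    rw [huc]
    have h0 : ∀ x, a x ≠ 0 := fun x h => by
      rw [Finset.prod_eq_zero (Finset.mem_univ x) h] at ha'
      exact zero_ne_one ha'
    let ε : K4 → Bool := fun x => decide (a x = a 0)
    have hε : ∀ x, a x = if ε x then a 0 else -a 0 := fun x => by
      by_cases h : a x = a 0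
      · simp [ε, h]
      · simpa [ε, h] using (mul_self_eq_mul_self_iff.mp (ha x 0)).resolve_left h
    have heven : (Finset.univ.filter fun x => ε x = false).card % 2 = 0 := by
      have h1 : ∏ x, a x = a 0 ^ 4 * (-1) ^ (Finset.univ.filter fun x => ε x = false).card := by
        rw [← Finset.prod_const, Finset.prod_filter, show a 0 ^ 4 = ∏ _x : K4, a 0 by simp, ← Finset.prod_mul_distrib]
        refine Finset.prod_congr rfl fun x _ => ?_
        rw [hε x]
        cases ε x <;> simp
      have h2' := FiniteField.pow_card_sub_one_eq_one _ (h0 0)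
      rw [hq] at h2'
      rw [ha', h2', one_mul] at h1
      rcases Nat.even_or_odd (Finset.univ.filter fun x => ε x = false).card with he | ho
      · exact Nat.even_iff.mp he
      · exact absurd (by rw [ho.neg_one_pow] at h1; linear_combination h1 : (2 : F) = 0) h2
    obtain ⟨w, c, hwc⟩ := k4_character ε heven
    obtain ⟨c₀, hc₀, hac⟩ : ∃ c₀ : F, c₀ ≠ 0 ∧ ∀ x, a x = c₀ * k4sign F w x := by
      refine ⟨if c then a 0 else -a 0, by cases c <;> simp [h0 0], fun x => ?_⟩
      have := hwc x
      rw [hε x, k4sign]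
      by_cases hz : w.1 * x.1 + w.2 * x.2 = 0 <;> cases c <;> cases hx : ε x <;> simp [hz, hx] at this ⊢
    refine ⟨monM (fun x => c₀ * k4sign F (x + w) v) (shiftPerm w), ⟨_, w, rfl, fun x y => ?_, ?_⟩, ?_⟩
    · linear_combination (c₀ * c₀) * k4sign_sq (F := F) (x + w) v - (c₀ * c₀) * k4sign_sq (F := F) (y + w) v
    · rw [Finset.prod_mul_distrib, Finset.prod_const, Finset.card_univ, show Fintype.card K4 = 4 from by simp,
        show ∏ x, k4sign F (x + w) v = ∏ x, k4sign F v x from
          (Equiv.prod_comp (shiftPerm w) fun x => k4sign F x v).trans (Finset.prod_congr rfl fun x _ => k4sign_comm x v),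
        k4sign_prod, mul_one]
      have := FiniteField.pow_card_sub_one_eq_one _ hc₀
      rw [hq] at this
      exact this
    · ext x z
      rw [monM_mul_apply, mul_monM_apply]
      simp only [Matrix.of_apply, shiftPerm, Equiv.coe_addRight, Equiv.addRight_symm, k4_neg]
      rw [hac]
      simp only [k4sign_add_left, k4sign_comm x (z + v), k4sign_comm w (z + v)]
      rw [k4sign_comm z x, k4sign_comm v x, k4sign_comm z w, k4sign_comm v w]
      ring
  rcases hH.2 (subgroupNormalizer R ⊓ specialLinear ι F) (le_inf hle inf_le_right) inf_le_right with h | h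
  · have : u ∈ decompositionStabilizer D ⊓ specialLinear ι F := h ▸ ⟨huN, huSL⟩
    obtain ⟨σ, d, hd, -⟩ := hmono u this.1
    rw [huc] at hd
    have hne : ∀ z : K4, ∃ y, y ≠ z := by decide
    obtain ⟨y, hy⟩ := hne (σ 0)
    have e1 := congrFun (congrFun hd 0) y
    rw [monM, Matrix.of_apply, Matrix.of_apply, if_neg hy, k4sign] at e1
    split_ifs at e1 <;> simp at e1
  · exact hnot (h ▸ inf_le_left)

end Cfsg.Agent.Classical
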