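/-
Maximal subgroups of the special linear group in small composite dimensions.
-/
import Cfsg.Agent.Lib.Classical.LinSmallField

set_option autoImplicit false
set_option linter.style.haveILetI false

namespace Cfsg.Agent.Classical

open Matrix Cfsg.Geo

variable {ι : Type} [Fintype ι] [DecidableEq ι] {F : Type*} [Field F] [Fintype F]

theorem sl_monomial_case (h3 : 3 ≤ Fintype.card ι) {H : Subgroup (GL ι F)} (hH : IsMaximalIn (specialLinear ι F) H)
    {n : ℕ} (hn : Fintype.card ι = n) {D : Fin n → Submodule F (ι → F)} (hD : IsMDecomposition 1 D)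
    (h : H = decompositionStabilizer D ⊓ specialLinear ι F) (hq : Fintype.card F < 5) :
    (∃ W : Submodule F (ι → F), W ≠ ⊥ ∧ W ≠ ⊤ ∧ H = subspaceStabilizer W ⊓ specialLinear ι F) ∨
    (Odd (Fintype.card F) ∧ ∃ Q : (ι → F) → F, IsNondegenerateQuadraticForm Q ∧
      H = quadSimilarityGroup Q ⊓ specialLinear ι F) ∨
    (∃ (σ : F ≃+* F) (f : (ι → F) → (ι → F) → F), IsUnitaryForm σ f ∧ H = similarityGroup f ⊓ specialLinear ι F) := by
  haveI : Nontrivial ι := Fintype.one_lt_card_iff_nontrivial.mp (by omega)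
  subst hn
  have hle : H ≤ decompositionStabilizer D := h.le.trans inf_le_left
  rcases monomial_small h3 hq hD with ⟨W, h0, h1, hW⟩ | ⟨ho, Q, hQ, hQle⟩ | ⟨σ, f, hf, hfle⟩
  · exact Or.inl ⟨W, h0, h1, eq_inf_of_maximal hH (hle.trans hW) (not_specialLinear_le_subspaceStabilizer h0 h1)⟩
  · exact Or.inr (Or.inl ⟨ho, Q, hQ, eq_inf_of_maximal hH (hle.trans hQle)
      (not_specialLinear_le_quadSimilarityGroup h3 hQ)⟩)
  · exact Or.inr (Or.inr ⟨σ, f, hf, eq_inf_of_maximal hH (hle.trans hfle)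
      (not_specialLinear_le_similarityGroup h3 σ (semiForm_of_unitary hf) hf.nondegenerate)⟩)

theorem sl_planes_case (h3 : 3 ≤ Fintype.card ι) {H : Subgroup (GL ι F)} (hH : IsMaximalIn (specialLinear ι F) H)
    {t : ℕ} {D : Fin t → Submodule F (ι → F)} (hD : IsMDecomposition 2 D)
    (h : H = decompositionStabilizer D ⊓ specialLinear ι F)
    (hq : Fintype.card F = 2 ∨ (Fintype.card F = 3 ∧ t = 2)) :
    ∃ f : (ι → F) → (ι → F) → F, IsSymplecticForm f ∧ H = similarityGroup f ⊓ specialLinear ι F := by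
  obtain ⟨f, hf, hle⟩ := planes_small hD hq
  exact ⟨f, hf, eq_inf_of_maximal hH (h.le.trans hle)
    (not_specialLinear_le_similarityGroup h3 (RingEquiv.refl F) (semiForm_of_bilinear hf.bilinear) hf.nondegenerate)⟩

theorem sl_tensor_two_case (h3 : 3 ≤ Fintype.card ι) {H : Subgroup (GL ι F)} (hH : IsMaximalIn (specialLinear ι F) H)
    {k : ℕ} (hk : 0 < k) (e : ι ≃ Fin 2 × Fin k) (P : GL ι F)
    (h : H = tensorProductSubgroup 2 k e P ⊓ specialLinear ι F) (hq : Fintype.card F = 2) :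
    ∃ K : Subalgebra F (Matrix ι ι F), IsFieldSubalgebra 2 K ∧ H = subalgebraNormalizer K ⊓ specialLinear ι F := by
  obtain ⟨K, hK, hle⟩ := tensor_two_small hq hk e P
  exact ⟨K, hK, eq_inf_of_maximal hH (h.le.trans (inf_le_left.trans hle))
    (not_specialLinear_le_subalgebraNormalizer h3 one_lt_two hK)⟩

theorem sl_monomial_five {H : Subgroup (GL ι F)} (hH : IsMaximalIn (specialLinear ι F) H) (h4 : Fintype.card ι = 4)
    {D : Fin 4 → Submodule F (ι → F)} (hD : IsMDecomposition 1 D)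
    (h : H = decompositionStabilizer D ⊓ specialLinear ι F) : Fintype.card F ≠ 5 := fun hq =>
  monomial_five_not_maximal hq h4 hD (h ▸ hH)

theorem not_card_six : Fintype.card F ≠ 6 := by
  intro h
  obtain ⟨p, hp⟩ := CharP.exists F
  obtain ⟨e, hpp, hc⟩ := FiniteField.card F p
  rw [h] at hc
  have h2 : 2 ∣ p ^ (e : ℕ) := by rw [← hc]; norm_num
  have h3 : 3 ∣ p ^ (e : ℕ) := by rw [← hc]; norm_num
  have e2 := (Nat.prime_dvd_prime_iff_eq Nat.prime_two hpp).mp (Nat.prime_two.dvd_of_dvd_pow h2)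
  have e3 := (Nat.prime_dvd_prime_iff_eq Nat.prime_three hpp).mp (Nat.prime_three.dvd_of_dvd_pow h3)
  omega

theorem symplecticType_two (h3 : 3 ≤ Fintype.card ι) {R : Subgroup (GL ι F)} (hR : IsLinearSymplecticTypeData 2 R) :
    ∃ p : ℕ, p.Prime ∧ Fintype.card F = p ∧ p % 4 = 1 := by
  obtain ⟨p, e, hp, hc, hdvd, -, -, -, hz⟩ := symplecticData_center hR h3
  rcases hz with ⟨ho, -⟩ | ⟨-, rfl, hz⟩
  · exact absurd ho (by decide)
  · rw [pow_one] at hc
    rw [hz, hc] at hdvd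
    exact ⟨p, hp, hc, by have := hp.two_le; omega⟩

theorem symplecticType_three (h3 : 3 ≤ Fintype.card ι) {R : Subgroup (GL ι F)} (hR : IsLinearSymplecticTypeData 3 R) :
    ∃ p : ℕ, p.Prime ∧ Fintype.card F = p ∧ p % 3 = 1 := by
  obtain ⟨p, e, hp, hc, hdvd, -, hodd, hmin, hz⟩ := symplecticData_center hR h3
  rcases hz with ⟨-, hz⟩ | ⟨h, -⟩
  · rw [hz, hc] at hdvd
    rw [hz] at hmin
    obtain ⟨hlt, h1, -⟩ := minimal_exponent_facts Nat.prime_three hp hodd hdvd hmin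
    obtain rfl : e = 1 := by obtain ⟨k, hk⟩ := hodd; omega
    rw [pow_one] at h1 hc
    exact ⟨p, hp, hc, by omega⟩
  · exact absurd h (by decide)

theorem eq_of_prime_pow_eq {p r k j : ℕ} (hp : p.Prime) (hr : r.Prime) (hk : 0 < j) (h : r ^ k = p ^ j) : r = p :=
  ((Nat.prime_dvd_prime_iff_eq hp hr).mp (hp.dvd_of_dvd_pow (h ▸ dvd_pow_self p hk.ne'))).symm

theorem not_prime_pow_of_two_primes {n p q r k : ℕ} (hp : p.Prime) (hq : q.Prime) (hpq : p ≠ q) (hr : r.Prime)
    (hpn : p ∣ n) (hqn : q ∣ n) (h : n = r ^ k) : False := by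
  subst h
  exact hpq (((Nat.prime_dvd_prime_iff_eq hp hr).mp (hp.dvd_of_dvd_pow hpn)).trans
    ((Nat.prime_dvd_prime_iff_eq hq hr).mp (hq.dvd_of_dvd_pow hqn)).symm)

end Cfsg.Agent.Classical

namespace Cfsg.Agent.Classical

theorem wreath_small {m t n : ℕ} (hm : 3 ≤ m) (ht : 2 ≤ t) (hn : m ^ t = n) (h : n ≤ 12) : m = 3 ∧ t = 2 ∧ n = 9 := by
  have h2 : m ^ 2 ≤ n := hn ▸ Nat.pow_le_pow_right (by omega) ht
  have hm3 : m = 3 := by nlinarith
  subst hm3
  have ht2 : t = 2 := by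
    by_contra hne
    have h3 : 3 ^ 3 ≤ 3 ^ t := Nat.pow_le_pow_right (by omega) (by omega)
    omega
  subst ht2
  omega

end Cfsg.Agent.Classical
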