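/-
The unitary similitudes of determinant one form a maximal subgroup of the special linear group.
-/
import Cfsg.Agent.Lib.Classical.LinMaximal
import Cfsg.Agent.Lib.Classical.Forms
import Cfsg.Agent.Lib.Classical.HermWitt
import Cfsg.Agent.Lib.Classical.GaloisDescent

set_option autoImplicit false
set_option linter.unusedSectionVars false
set_option linter.style.haveILetI false

namespace Cfsg.Agent.Classical.UMaxSL

open Matrix Cfsg.Geo
open Cfsg.Agent.Classical

variable {ι : Type} [Fintype ι] [DecidableEq ι] {F : Type*} [Field F] [Fintype F] {σ : F ≃+* F}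
  {f : (ι → F) → (ι → F) → F}

/-- `g` translates `x` along `v` by `c * f x u`. -/
def Tv (f : (ι → F) → (ι → F) → F) (g : GL ι F) (v u : ι → F) (c : F) : Prop :=
  ∀ x, (g : Matrix ι ι F) *ᵥ x = x + (c * f x u) • v

/-- Every element is a sum of two squares. -/
theorem exists_two_sq {K : Type*} [Field K] [Finite K] (c : K) : ∃ s r : K, c = s ^ 2 + r ^ 2 := by
  haveI := Fintype.ofFinite K
  by_cases h2 : ringChar K = 2
  · obtain ⟨s, hs⟩ := FiniteField.isSquare_of_char_two h2 c
    exact ⟨s, 0, by rw [hs]; ring⟩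
  · obtain ⟨s, r, h⟩ := FiniteField.exists_root_sum_quadratic (R := K)
      (f := Polynomial.X ^ 2) (g := Polynomial.X ^ 2 + Polynomial.C (-c)) (Polynomial.degree_X_pow 2)
      (by rw [Polynomial.degree_add_C (by rw [Polynomial.degree_X_pow]; norm_num), Polynomial.degree_X_pow]; rfl)
      (FiniteField.odd_card_of_char_ne_two h2)
    simp only [Polynomial.eval_pow, Polynomial.eval_X, Polynomial.eval_add, Polynomial.eval_C] at h
    exact ⟨s, r, by linear_combination -h⟩

variable (hf : IsUnitaryForm σ f)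

include hf

theorem gram_unit : IsUnit (gramMatrix f).det :=
  isUnit_iff_ne_zero.mpr (det_gram_ne_zero σ (semiForm_of_unitary hf) hf.nondegenerate)

theorem exists_rep (r : ι → F) : ∃ u, ∀ x, f x u = x ⬝ᵥ r :=
  ⟨(σ.symm : F → F) ∘ ((gramMatrix f)⁻¹ *ᵥ r), fun x => by
    rw [semiForm_apply σ (semiForm_of_unitary hf), show (σ : F → F) ∘ ((σ.symm : F → F) ∘ ((gramMatrix f)⁻¹ *ᵥ r)) =
      (gramMatrix f)⁻¹ *ᵥ r from funext fun i => σ.apply_symm_apply _, Matrix.mulVec_mulVec,
      Matrix.mul_nonsing_inv _ (gram_unit hf), Matrix.one_mulVec]⟩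

theorem exists_map (v u : ι → F) (c : F) (h : 1 + c * f v u ≠ 0) :
    ∃ g : GL ι F, (g : Matrix ι ι F).det = 1 + c * f v u ∧ Tv f g v u c := by
  let w : ι → F := gramMatrix f *ᵥ ((σ : F → F) ∘ u)
  have hw : ∀ x, f x u = x ⬝ᵥ w := fun x => semiForm_apply σ (semiForm_of_unitary hf) x u
  let M : Matrix ι ι F := 1 + Matrix.replicateCol Unit v * Matrix.replicateRow Unit (c • w)
  have hd : M.det = 1 + c * f v u := by
    rw [Matrix.det_one_add_replicateCol_mul_replicateRow, smul_dotProduct, dotProduct_comm, ← hw, smul_eq_mul]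
  refine ⟨Matrix.GeneralLinearGroup.mkOfDetNeZero M (by rw [hd]; exact h), by
    rw [Matrix.GeneralLinearGroup.val_mkOfDetNeZero]; exact hd, fun x => ?_⟩
  rw [Matrix.GeneralLinearGroup.val_mkOfDetNeZero, hw]
  simp only [M]
  rw [Matrix.add_mulVec, Matrix.one_mulVec, ← Matrix.mulVec_mulVec]
  congr 1
  funext i
  simp [Matrix.mulVec, dotProduct, Matrix.replicateCol_apply, Matrix.replicateRow_apply, Finset.mul_sum,
    Finset.sum_mul, mul_assoc, mul_comm, mul_left_comm]

theorem exists_tv {v u : ι → F} (h : f v u = 0) (c : F) : ∃ g ∈ specialLinear ι F, Tv f g v u c := by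
  obtain ⟨g, hd, hg⟩ := exists_map hf v u c (by simp [h])
  exact ⟨g, mem_specialLinear_iff.mpr (by rw [hd, h, mul_zero, add_zero]), hg⟩

theorem tv_unique {g h : GL ι F} {v u : ι → F} {c : F} (hg : Tv f g v u c) (hh : Tv f h v u c) : g = h :=
  gl_ext_mulVec fun x => by rw [hg, hh]

theorem tv_isometry {g : GL ι F} {v : ι → F} {c : F} (hg : Tv f g v v c)
    (hc : c + σ c + c * σ c * f v v = 0) (x y : ι → F) :
    f ((g : Matrix ι ι F) *ᵥ x) ((g : Matrix ι ι F) *ᵥ y) = f x y := by
  have hs := semiForm_of_unitary hf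
  rw [hg, hg, hs.add_left, hs.add_right, hs.add_right, hs.smul_left, hs.smul_left, hs.smul_right, hs.smul_right,
    map_mul σ, ← hf.herm v y]
  linear_combination (f x v * f v y) * hc

theorem tv_mem {g : GL ι F} {v : ι → F} {c : F} (hg : Tv f g v v c) (hv : f v v = 0) (hc : c + σ c = 0) :
    g ∈ similarityGroup f ⊓ specialLinear ι F := by
  obtain ⟨g', hg', h'⟩ := exists_tv hf hv c
  refine ⟨⟨1, fun x y => ?_⟩, tv_unique hf hg h' ▸ hg'⟩
  rw [Units.val_one, one_mul]
  exact tv_isometry hf hg (by rw [hv, mul_zero, add_zero, hc]) x y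

theorem exists_trace {b : F} (hb : σ b = b) : ∃ s : F, s ≠ 0 ∧ s + σ s + b = 0 := by
  let H : Small.Forms.Herm F (ι → F) :=
    { σ := σ
      B := fun u v => f v u
      add_right := fun u v w => (semiForm_of_unitary hf).add_left v w u
      smul_right := fun c u v => (semiForm_of_unitary hf).smul_left c v u
      symm := fun u v => (hf.herm u v).symm
      invol := hf.involutive
      nondeg := fun u hu => (hf.nondegenerate u hu).1 }
  exact HermWitt.exists_trace H (fun e => hf.ne_refl (RingEquiv.ext fun x => RingHom.congr_fun e x)) hb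

/-- The same, as a Hermitian form. -/
def herm : Small.Forms.Herm F (ι → F) where
  σ := σ
  B u v := f v u
  add_right u v w := (semiForm_of_unitary hf).add_left v w u
  smul_right c u v := (semiForm_of_unitary hf).smul_left c v u
  symm u v := (hf.herm u v).symm
  invol := hf.involutive
  nondeg u hu := (hf.nondegenerate u hu).1

theorem sigma_ne : (herm hf).σ ≠ RingHom.id F := fun e => hf.ne_refl (RingEquiv.ext fun x => RingHom.congr_fun e x)

/-- Isotropic vectors span the perpendicular of any non-zero vector. -/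
theorem perp_induction (h4 : 4 ≤ Fintype.card ι) {w : ι → F} (hw : w ≠ 0) {P : (ι → F) → Prop}
    (hiso : ∀ e, f e w = 0 → f e e = 0 → P e) (hadd : ∀ a b, f a w = 0 → f b w = 0 → P a → P b → P (a + b))
    {v : ι → F} (hv : f v w = 0) : P v := by
  have hs := semiForm_of_unitary hf
  obtain ⟨q, hσ⟩ := exists_isUSigma_of_involutive (σ := σ) hf.involutive hf.ne_refl
  let φ : (ι → F) →ₗ[F] F :=
    { toFun := fun x => f x w, map_add' := fun a b => hs.add_left a b w, map_smul' := fun c a => hs.smul_left c a w }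
  have big : ∀ a : ι → F, ∃ b, f b w = 0 ∧ f b a = 0 ∧ b ∉ (F ∙ w) := fun a => by
    let ψ : (ι → F) →ₗ[F] F :=
      { toFun := fun x => f x a, map_add' := fun a' b => hs.add_left a' b a, map_smul' := fun c a' => hs.smul_left c a' a }
    by_contra hcon
    push Not at hcon
    have h1 := Submodule.finrank_mono (show LinearMap.ker (φ.prod ψ) ≤ F ∙ w from fun b hb => by
      rw [LinearMap.mem_ker, LinearMap.prod_apply, Prod.mk_eq_zero] at hb
      exact hcon b hb.1 hb.2)
    have h2 := (φ.prod ψ).finrank_range_add_finrank_ker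
    have h3 := Submodule.finrank_le (LinearMap.range (φ.prod ψ))
    rw [Module.finrank_prod, Module.finrank_self] at h3
    rw [Module.finrank_fintype_fun_eq_card] at h2
    rw [finrank_span_singleton hw] at h1
    omega
  -- an isotropic vector
  obtain ⟨e, hew, hee, henw⟩ : ∃ e, f e w = 0 ∧ f e e = 0 ∧ e ∉ (F ∙ w) := by
    obtain ⟨a, haw, -, han⟩ := big w
    by_cases haa : f a a = 0
    · exact ⟨a, haw, haa, han⟩
    obtain ⟨b, hbw, hba, hbn⟩ := big a
    by_cases hbb : f b b = 0
    · exact ⟨b, hbw, hbb, hbn⟩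
    obtain ⟨t, -, ht⟩ := hσ.norm_surjective (t := -(f a a / f b b)) (neg_ne_zero.mpr (div_ne_zero haa hbb))
      (by rw [map_neg, map_div₀, ← hf.herm, ← hf.herm])
    have hab : f a b = 0 := by rw [hf.herm, hba, map_zero]
    refine ⟨a + t • b, by rw [hs.add_left, hs.smul_left, haw, hbw, mul_zero, add_zero], ?_, fun h => haa ?_⟩
    · rw [hs.add_left, hs.add_right, hs.add_right, hs.smul_left, hs.smul_left, hs.smul_right, hs.smul_right, hab,
        hba, mul_zero, mul_zero, add_zero, zero_add, ← mul_assoc, ht, neg_mul, div_mul_cancel₀ _ hbb, add_neg_cancel]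
    · obtain ⟨s, hst⟩ := Submodule.mem_span_singleton.mp h
      have e1 : f a (a + t • b) = f a a := by rw [hs.add_right, hs.smul_right, hab, mul_zero, add_zero]
      rw [← e1, ← hst, hs.smul_right, haw, mul_zero]
  have hmain : ∀ y, f y w = 0 → f y e ≠ 0 → P y := fun y hy hye => by
    obtain ⟨s, hs0, hss⟩ := exists_trace hf (b := f y y) (hf.herm y y).symm
    obtain ⟨t, ht⟩ : ∃ t, t = σ (s / f y e) := ⟨_, rfl⟩
    have hσt : σ t * f y e = s := by rw [ht, hf.involutive, div_mul_cancel₀ _ hye]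
    have hz : f (y + t • e) (y + t • e) = 0 := by
      rw [hs.add_left, hs.add_right, hs.add_right, hs.smul_left, hs.smul_left, hs.smul_right, hs.smul_right, hee,
        hf.herm e y]
      have e2 : t * σ (f y e) = σ s := by rw [← hσt, map_mul, hf.involutive]
      linear_combination hσt + e2 + hss
    have hyz : f (y + t • e) w = 0 := by rw [hs.add_left, hs.smul_left, hy, hew, mul_zero, add_zero]
    have hmz : f (-t • e) w = 0 := by rw [hs.smul_left, hew, mul_zero]
    have := hadd _ _ hyz hmz (hiso _ hyz hz) (hiso _ hmz (by rw [hs.smul_left, hs.smul_right, hee, mul_zero, mul_zero]))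
    rwa [neg_smul, add_neg_cancel_right] at this
  by_cases hve : f v e = 0
  swap
  · exact hmain v hv hve
  obtain ⟨y, hyw, hye⟩ := HermWitt.exists_orth (herm hf) henw
  have hyw' : f y w = 0 := hyw w (Submodule.mem_span_singleton_self w)
  have hye' : f y e ≠ 0 := hye
  have hny : f (-y) w = 0 := by rw [← neg_one_smul F y, hs.smul_left, hyw', mul_zero]
  have := hadd _ _ (show f (v + y) w = 0 by rw [hs.add_left, hv, hyw', add_zero]) hny
    (hmain _ (by rw [hs.add_left, hv, hyw', add_zero]) (by rw [hs.add_left, hve, zero_add]; exact hye'))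
    (hmain _ hny (by rw [← neg_one_smul F y, hs.smul_left]; simpa using hye'))
  rwa [add_neg_cancel_right] at this

/-- A group containing the similitudes moves totally isotropic pairs. -/
theorem exists_move_pair (h4 : 6 ≤ Fintype.card ι) {K : Subgroup (GL ι F)}
    (hK : similarityGroup f ⊓ specialLinear ι F ≤ K) {v u v' u' : ι → F} (hv : v ≠ 0) (hv' : v' ≠ 0)
    (hu : ∀ k : F, k • v ≠ u) (hu' : ∀ k : F, k • v' ≠ u') (h1 : f v v = 0) (h2 : f u u = 0) (h3 : f v u = 0)
    (h1' : f v' v' = 0) (h2' : f u' u' = 0) (h3' : f v' u' = 0) :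
    ∃ g ∈ K, (∀ x y, f ((g : Matrix ι ι F) *ᵥ x) ((g : Matrix ι ι F) *ᵥ y) = f x y) ∧
      (g : Matrix ι ι F) *ᵥ v = v' ∧ (g : Matrix ι ι F) *ᵥ u = u' := by
  have hs := semiForm_of_unitary hf
  obtain ⟨γ₁, hγ₁, -, hγv⟩ := HermWitt.exists_move (herm hf) (sigma_ne hf) (W := ⊥) (x := v) (y := v')
    (by simpa using hv) (by simpa using hv') (by change f v' v' = f v v; rw [h1, h1']) (by
      intro h hh
      rw [(Submodule.mem_bot F).mp hh, (herm hf).zero_right, (herm hf).zero_right])
  have hi₁ : ∀ x y, f (γ₁ x) (γ₁ y) = f x y := fun x y => hγ₁ y x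
  obtain ⟨γ₂, hγ₂, hfix, hγu⟩ := HermWitt.exists_move (herm hf) (sigma_ne hf) (W := F ∙ v') (x := γ₁ u) (y := u')
    (fun h => by
      obtain ⟨k, hk⟩ := Submodule.mem_span_singleton.mp h
      exact hu k (γ₁.injective (by rw [map_smul, hγv, hk])))
    (fun h => by
      obtain ⟨k, hk⟩ := Submodule.mem_span_singleton.mp h
      exact hu' k hk)
    (by change f u' u' = f (γ₁ u) (γ₁ u); rw [hi₁, h2, h2'])
    (fun h hh => by
      obtain ⟨k, rfl⟩ := Submodule.mem_span_singleton.mp hh
      change f (k • v') u' = f (k • v') (γ₁ u)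
      rw [hs.smul_left, hs.smul_left, h3', ← hγv, hi₁, h3])
  obtain ⟨γ, hγ⟩ : ∃ γ, γ = γ₂ * γ₁ := ⟨_, rfl⟩
  obtain ⟨g, hg⟩ : ∃ g : GL ι F, ∀ x, (g : Matrix ι ι F) *ᵥ x = γ x := by
    refine ⟨Matrix.GeneralLinearGroup.toLin.symm (LinearMap.GeneralLinearGroup.ofLinearEquiv γ), fun x => ?_⟩
    rw [← Matrix.toLin'_apply]
    change (Matrix.GeneralLinearGroup.toLin (Matrix.GeneralLinearGroup.toLin.symm
      (LinearMap.GeneralLinearGroup.ofLinearEquiv γ)) : (ι → F) →ₗ[F] (ι → F)) x = γ x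
    rw [MulEquiv.apply_symm_apply]
    rfl
  have hgi : ∀ x y, f ((g : Matrix ι ι F) *ᵥ x) ((g : Matrix ι ι F) *ᵥ y) = f x y := fun x y => by
    rw [hg, hg, hγ, LinearEquiv.mul_apply, LinearEquiv.mul_apply]
    exact (hγ₂ (γ₁ y) (γ₁ x)).trans (hi₁ x y)
  have hgv : (g : Matrix ι ι F) *ᵥ v = v' := by
    rw [hg, hγ, LinearEquiv.mul_apply, hγv, hfix v' (Submodule.mem_span_singleton_self v')]
  have hgu : (g : Matrix ι ι F) *ᵥ u = u' := by rw [hg, hγ, LinearEquiv.mul_apply, hγu]
  -- correct the determinant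
  have hd0 : (g : Matrix ι ι F).det ≠ 0 := ((Matrix.isUnit_iff_isUnit_det _).mp g.isUnit).ne_zero
  have hN : (g : Matrix ι ι F).det * σ (g : Matrix ι ι F).det = 1 := by
    have e := congrArg Matrix.det (gram_comp σ hs (g : Matrix ι ι F))
    rw [show (fun x y => f ((g : Matrix ι ι F) *ᵥ x) ((g : Matrix ι ι F) *ᵥ y)) = f from funext fun x => funext (hgi x),
      Matrix.det_mul, Matrix.det_mul, Matrix.det_transpose] at e
    have e' : ((g : Matrix ι ι F).map σ).det = σ (g : Matrix ι ι F).det := (σ.toRingHom.map_det _).symm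
    rw [e'] at e
    exact mul_left_cancel₀ (gram_unit hf).ne_zero (by rw [mul_one]; linear_combination -e)
  obtain ⟨a, hav, hau, haa⟩ : ∃ a, f a v' = 0 ∧ f a u' = 0 ∧ f a a ≠ 0 := by
    by_contra hcon
    push Not at hcon
    let φ : (ι → F) →ₗ[F] F × F :=
      { toFun := fun x => (f x v', f x u')
        map_add' := fun x y => by simp [hs.add_left]
        map_smul' := fun c x => by simp [hs.smul_left] }
    obtain ⟨b, hbk, hbn⟩ : ∃ b ∈ LinearMap.ker φ, b ∉ Submodule.span F ({v', u'} : Set (ι → F)) := by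
      by_contra hc
      push Not at hc
      have e1 := Submodule.finrank_mono (show LinearMap.ker φ ≤ _ from hc)
      have e2 := φ.finrank_range_add_finrank_ker
      have e3 := Submodule.finrank_le (LinearMap.range φ)
      rw [Module.finrank_prod, Module.finrank_self] at e3
      rw [Module.finrank_fintype_fun_eq_card] at e2
      classical
      have e4 := finrank_span_finset_le_card (R := F) ({v', u'} : Finset (ι → F))
      rw [Set.finrank, Finset.coe_insert, Finset.coe_singleton] at e4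
      have e5 := Finset.card_le_two (a := v') (b := u')
      omega
    rw [LinearMap.mem_ker, LinearMap.coe_mk, AddHom.coe_mk, Prod.mk_eq_zero] at hbk
    obtain ⟨z, hz, hbz⟩ := HermWitt.exists_orth (herm hf) hbn
    have hzv : f z v' = 0 := hz v' (Submodule.subset_span (by simp))
    have hzu : f z u' = 0 := hz u' (Submodule.subset_span (by simp))
    have hbz' : f z b ≠ 0 := hbz
    refine hf.ne_refl (RingEquiv.ext fun c => ?_)
    have e : ∀ t : F, f (b + t • z) (b + t • z) = 0 := fun t => hcon _ (by rw [hs.add_left, hs.smul_left, hbk.1, hzv, mul_zero, add_zero])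
      (by rw [hs.add_left, hs.smul_left, hbk.2, hzu, mul_zero, add_zero])
    have e' : ∀ t : F, t * f z b + σ (t * f z b) = 0 := fun t => by
      have := e t
      rw [hs.add_left, hs.add_right, hs.add_right, hs.smul_left, hs.smul_left, hs.smul_right, hs.smul_right,
        hcon b hbk.1 hbk.2, hcon z hzv hzu, hf.herm b z] at this
      rw [map_mul]
      linear_combination this
    have k1 := e' (f z b)⁻¹
    have k2 := e' (c * (f z b)⁻¹)
    rw [inv_mul_cancel₀ hbz', map_one] at k1
    rw [inv_mul_cancel_right₀ hbz'] at k2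
    change σ c = c
    linear_combination k2 - c * k1
  obtain ⟨l, hl⟩ : ∃ l, l = ((g : Matrix ι ι F).det)⁻¹ := ⟨_, rfl⟩
  have hlσ : l * σ l = 1 := by rw [hl, map_inv₀, ← mul_inv, hN, inv_one]
  obtain ⟨k, hk⟩ : ∃ k, k = (l - 1) / f a a := ⟨_, rfl⟩
  have hka : k * f a a = l - 1 := by rw [hk, div_mul_cancel₀ _ haa]
  have hl0 : l ≠ 0 := by rw [hl]; exact inv_ne_zero hd0
  obtain ⟨s, hsd, hst⟩ := exists_map hf a a k (by rw [hka, add_sub_cancel]; exact hl0)
  have hsi : ∀ x y, f ((s : Matrix ι ι F) *ᵥ x) ((s : Matrix ι ι F) *ᵥ y) = f x y := tv_isometry hf hst (by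
    have e1 : σ k * f a a = σ l - 1 := by rw [hk, map_div₀, map_sub, map_one, ← hf.herm, div_mul_cancel₀ _ haa]
    refine mul_right_cancel₀ haa ?_
    linear_combination hka + e1 + σ k * f a a * hka + (l - 1) * e1 + hlσ)
  have hfixa : ∀ z, f z a = 0 → (s : Matrix ι ι F) *ᵥ z = z := fun z hz => by rw [hst, hz, mul_zero, zero_smul, add_zero]
  refine ⟨s * g, hK ⟨⟨1, fun x y => ?_⟩, mem_specialLinear_iff.mpr ?_⟩, fun x y => ?_, ?_, ?_⟩
  · rw [gl_mul_mulVec, gl_mul_mulVec, hsi, hgi, Units.val_one, one_mul]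
  · rw [Units.val_mul, Matrix.det_mul, hsd, hka, add_sub_cancel, hl, inv_mul_cancel₀ hd0]
  · rw [gl_mul_mulVec, gl_mul_mulVec, hsi, hgi]
  · rw [gl_mul_mulVec, hgv, hfixa _ (by rw [hf.herm, hav, map_zero])]
  · rw [gl_mul_mulVec, hgu, hfixa _ (by rw [hf.herm, hau, map_zero])]

/-- An isotropic partner of an isotropic vector, perpendicular to another one. -/
theorem exists_partner {v u : ι → F} (hv : f v v = 0) (hvu : f v u = 0) (hn : ∀ k : F, k • u ≠ v) :
    ∃ w, f v w = 1 ∧ f w w = 0 ∧ f w u = 0 := by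
  have hs := semiForm_of_unitary hf
  obtain ⟨z, hzu, hzv⟩ := HermWitt.exists_orth (herm hf) (W := F ∙ u) (x := v) fun h => by
    obtain ⟨k, hk⟩ := Submodule.mem_span_singleton.mp h
    exact hn k hk
  have hzu' : f z u = 0 := hzu u (Submodule.mem_span_singleton_self u)
  have hzv' : f z v ≠ 0 := hzv
  obtain ⟨y, hy⟩ : ∃ y, y = (f z v)⁻¹ • z := ⟨_, rfl⟩
  have hyv : f y v = 1 := by rw [hy, hs.smul_left, inv_mul_cancel₀ hzv']
  have hyu : f y u = 0 := by rw [hy, hs.smul_left, hzu', mul_zero]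
  obtain ⟨r, -, hr⟩ := exists_trace hf (b := f y y) (hf.herm y y).symm
  refine ⟨y + r • v, by rw [hs.add_right, hs.smul_right, hv, hf.herm v y, hyv, map_one, mul_zero, add_zero], ?_,
    by rw [hs.add_left, hs.smul_left, hyu, hvu, mul_zero, add_zero]⟩
  rw [hs.add_left, hs.add_right, hs.add_right, hs.smul_left, hs.smul_left, hs.smul_right, hs.smul_right, hv, hyv,
    hf.herm v y, hyv, map_one]
  linear_combination hr

/-- The torus of a hyperbolic pair. -/
theorem exists_pair_torus {v w : ι → F} (hv : f v v = 0) (hw : f w w = 0) (hvw : f v w = 1) {x : F} (hx : x ≠ 0) :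
    ∃ g : GL ι F, (g : Matrix ι ι F).det = x / σ x ∧
      (∀ a b, f ((g : Matrix ι ι F) *ᵥ a) ((g : Matrix ι ι F) *ᵥ b) = f a b) ∧ (g : Matrix ι ι F) *ᵥ v = x • v ∧
      ∀ a, f a v = 0 → f a w = 0 → (g : Matrix ι ι F) *ᵥ a = a := by
  have hs := semiForm_of_unitary hf
  have hwv : f w v = 1 := by rw [hf.herm, hvw, map_one]
  have hσx : σ x ≠ 0 := fun e => hx (σ.map_eq_zero_iff.mp e)
  obtain ⟨g₁, hd₁, h₁⟩ := exists_map hf v w (x - 1) (by rw [hvw, mul_one, add_sub_cancel]; exact hx)
  obtain ⟨g₂, hd₂, h₂⟩ := exists_map hf w v ((σ x)⁻¹ - 1) (by rw [hwv, mul_one, add_sub_cancel]; exact inv_ne_zero hσx)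
  have hval : ∀ a, ((g₁ * g₂ : GL ι F) : Matrix ι ι F) *ᵥ a =
      a + ((x - 1) * f a w) • v + (((σ x)⁻¹ - 1) * f a v) • w := fun a => by
    rw [gl_mul_mulVec, h₂, h₁, hs.add_left, hs.smul_left, hw, mul_zero, add_zero]
    abel
  refine ⟨g₁ * g₂, ?_, fun a b => ?_, ?_, fun a hav haw => by rw [hval, hav, haw]; simp⟩
  · rw [Units.val_mul, Matrix.det_mul, hd₁, hd₂, hvw, hwv, mul_one, mul_one, add_sub_cancel, add_sub_cancel,
      div_eq_mul_inv]
  · rw [hval, hval]
    simp only [hs.add_left, hs.add_right, hs.smul_left, hs.smul_right, map_mul σ, map_sub σ, map_one σ, map_inv₀ σ,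
      hf.involutive x, hv, hw, hvw, hwv, ← hf.herm v b, ← hf.herm w b]
    field_simp
    ring
  · rw [hval, hvw, hv]
    module

/-- A group containing the similitudes moves totally isotropic pairs, up to squares. -/
theorem exists_move_scaled {K : Subgroup (GL ι F)} (hK : similarityGroup f ⊓ specialLinear ι F ≤ K)
    {v u v' u' : ι → F} (hv : v ≠ 0) (hv' : v' ≠ 0) (hu : ∀ k : F, k • v ≠ u) (hu' : ∀ k : F, k • v' ≠ u')
    (h1 : f v v = 0) (h2 : f u u = 0) (h3 : f v u = 0) (h1' : f v' v' = 0) (h2' : f u' u' = 0) (h3' : f v' u' = 0) :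
    ∃ r : F, r ≠ 0 ∧ ∀ s : F, s ≠ 0 → ∃ g ∈ K,
      (∀ a b, f ((g : Matrix ι ι F) *ᵥ a) ((g : Matrix ι ι F) *ᵥ b) = f a b) ∧
      ∃ x y : F, x * σ y = r * s ^ 2 ∧ (g : Matrix ι ι F) *ᵥ v = x • v' ∧ (g : Matrix ι ι F) *ᵥ u = y • u' := by
  have hs := semiForm_of_unitary hf
  obtain ⟨γ₁, hγ₁, -, hγv⟩ := HermWitt.exists_move (herm hf) (sigma_ne hf) (W := ⊥) (x := v) (y := v')
    (by simpa using hv) (by simpa using hv') (by change f v' v' = f v v; rw [h1, h1']) (by
      intro h hh
      rw [(Submodule.mem_bot F).mp hh, (herm hf).zero_right, (herm hf).zero_right])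
  have hi₁ : ∀ x y, f (γ₁ x) (γ₁ y) = f x y := fun x y => hγ₁ y x
  obtain ⟨γ₂, hγ₂, hfix, hγu⟩ := HermWitt.exists_move (herm hf) (sigma_ne hf) (W := F ∙ v') (x := γ₁ u) (y := u')
    (fun h => by
      obtain ⟨k, hk⟩ := Submodule.mem_span_singleton.mp h
      exact hu k (γ₁.injective (by rw [map_smul, hγv, hk])))
    (fun h => by
      obtain ⟨k, hk⟩ := Submodule.mem_span_singleton.mp h
      exact hu' k hk)
    (by change f u' u' = f (γ₁ u) (γ₁ u); rw [hi₁, h2, h2'])
    (fun h hh => by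
      obtain ⟨k, rfl⟩ := Submodule.mem_span_singleton.mp hh
      change f (k • v') u' = f (k • v') (γ₁ u)
      rw [hs.smul_left, hs.smul_left, h3', ← hγv, hi₁, h3])
  obtain ⟨γ, hγ⟩ : ∃ γ, γ = γ₂ * γ₁ := ⟨_, rfl⟩
  obtain ⟨g, hg⟩ : ∃ g : GL ι F, ∀ x, (g : Matrix ι ι F) *ᵥ x = γ x := by
    refine ⟨Matrix.GeneralLinearGroup.toLin.symm (LinearMap.GeneralLinearGroup.ofLinearEquiv γ), fun x => ?_⟩
    rw [← Matrix.toLin'_apply]
    change (Matrix.GeneralLinearGroup.toLin (Matrix.GeneralLinearGroup.toLin.symm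
      (LinearMap.GeneralLinearGroup.ofLinearEquiv γ)) : (ι → F) →ₗ[F] (ι → F)) x = γ x
    rw [MulEquiv.apply_symm_apply]
    rfl
  have hgi : ∀ x y, f ((g : Matrix ι ι F) *ᵥ x) ((g : Matrix ι ι F) *ᵥ y) = f x y := fun x y => by
    rw [hg, hg, hγ, LinearEquiv.mul_apply, LinearEquiv.mul_apply]
    exact (hγ₂ (γ₁ y) (γ₁ x)).trans (hi₁ x y)
  have hgv : (g : Matrix ι ι F) *ᵥ v = v' := by
    rw [hg, hγ, LinearEquiv.mul_apply, hγv, hfix v' (Submodule.mem_span_singleton_self v')]
  have hgu : (g : Matrix ι ι F) *ᵥ u = u' := by rw [hg, hγ, LinearEquiv.mul_apply, hγu]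
  -- the determinant is a quotient of conjugates
  have hd0 : (g : Matrix ι ι F).det ≠ 0 := ((Matrix.isUnit_iff_isUnit_det _).mp g.isUnit).ne_zero
  have hN : (g : Matrix ι ι F).det * σ (g : Matrix ι ι F).det = 1 := by
    have e := congrArg Matrix.det (gram_comp σ hs (g : Matrix ι ι F))
    rw [show (fun x y => f ((g : Matrix ι ι F) *ᵥ x) ((g : Matrix ι ι F) *ᵥ y)) = f from funext fun x => funext (hgi x),
      Matrix.det_mul, Matrix.det_mul, Matrix.det_transpose] at e
    have e' : ((g : Matrix ι ι F).map σ).det = σ (g : Matrix ι ι F).det := (σ.toRingHom.map_det _).symm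
    rw [e'] at e
    exact mul_left_cancel₀ (gram_unit hf).ne_zero (by rw [mul_one]; linear_combination -e)
  obtain ⟨D, hD⟩ : ∃ D, D = (g : Matrix ι ι F).det := ⟨_, rfl⟩
  rw [← hD] at hd0 hN
  obtain ⟨d, hd', hdD⟩ : ∃ d : F, d ≠ 0 ∧ d = D * σ d := by
    by_cases hm : 1 + D = 0
    · obtain ⟨s, hs0, hss⟩ := exists_trace hf (b := 0) (map_zero σ)
      exact ⟨s, hs0, by rw [eq_neg_of_add_eq_zero_right hm]; linear_combination hss⟩
    · exact ⟨1 + D, hm, by rw [map_add, map_one]; linear_combination -hN⟩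
  have hu0' : u' ≠ 0 := fun e => hu' 0 (by rw [zero_smul, e])
  have hvu' : ∀ k : F, k • u' ≠ v' := fun k e => by
    by_cases hk : k = 0
    · exact hv' (by rw [← e, hk, zero_smul])
    · exact hu' k⁻¹ (by rw [← e, smul_smul, inv_mul_cancel₀ hk, one_smul])
  obtain ⟨a, hva, haa, hau⟩ := exists_partner hf h1' h3' hvu'
  obtain ⟨b, hub, hbb, hbv⟩ := exists_partner hf h2' (by rw [hf.herm, h3', map_zero]) hu'
  refine ⟨d⁻¹, inv_ne_zero hd', fun s hs0 => ?_⟩
  have hσs : σ s ≠ 0 := fun e => hs0 (σ.map_eq_zero_iff.mp e)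
  obtain ⟨x, hx⟩ : ∃ x, x = d⁻¹ * s ^ 2 * σ s := ⟨_, rfl⟩
  have hx0 : x ≠ 0 := by rw [hx]; exact mul_ne_zero (mul_ne_zero (inv_ne_zero hd') (pow_ne_zero _ hs0)) hσs
  obtain ⟨T₁, hT₁d, hT₁i, hT₁v, hT₁f⟩ := exists_pair_torus hf h1' haa hva hx0
  obtain ⟨T₂, hT₂d, hT₂i, hT₂v, hT₂f⟩ := exists_pair_torus hf h2' hbb hub (x := s⁻¹) (inv_ne_zero hs0)
  have hsd : σ d ≠ 0 := fun e => hd' (σ.map_eq_zero_iff.mp e)
  refine ⟨T₂ * (T₁ * g), hK ⟨⟨1, fun a b => ?_⟩, mem_specialLinear_iff.mpr ?_⟩, fun a b => ?_, x, s⁻¹, ?_, ?_, ?_⟩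
  · rw [gl_mul_mulVec, gl_mul_mulVec, gl_mul_mulVec, gl_mul_mulVec, hT₂i, hT₁i, hgi, Units.val_one, one_mul]
  · rw [Units.val_mul, Units.val_mul, Matrix.det_mul, Matrix.det_mul, hT₂d, hT₁d, ← hD, hx]
    simp only [map_mul σ, map_inv₀ σ, map_pow σ, hf.involutive s]
    field_simp
    linear_combination -hdD
  · rw [gl_mul_mulVec, gl_mul_mulVec, gl_mul_mulVec, gl_mul_mulVec, hT₂i, hT₁i, hgi]
  · rw [hx, map_inv₀]
    field_simp
  · rw [gl_mul_mulVec, gl_mul_mulVec, hgv, hT₁v, Matrix.mulVec_smul, hT₂f v' h3' (by rw [hf.herm, hbv, map_zero])]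
  · rw [gl_mul_mulVec, gl_mul_mulVec, hgu, hT₁f u' (by rw [hf.herm, h3', map_zero]) (by rw [hf.herm, hau, map_zero]),
      hT₂v]

/-- The similitudes are maximal. -/
theorem isMaximal_four (h6 : 4 ≤ Fintype.card ι) :
    IsMaximalIn (specialLinear ι F) (similarityGroup f ⊓ specialLinear ι F) := by
  classical
  have hs := semiForm_of_unitary hf
  refine ⟨lt_of_le_of_ne inf_le_right fun e => not_specialLinear_le_similarityGroup (by omega) σ hs
    hf.nondegenerate (inf_eq_right.mp e), fun K hK hKS => or_iff_not_imp_left.mpr fun hne => le_antisymm hKS ?_⟩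
  haveI : Nonempty ι := Fintype.card_pos_iff.mp (by omega)
  have hsymm : ∀ {a b}, f a b = 0 → f b a = 0 := fun {a b} h => by rw [hf.herm, h, map_zero]
  obtain ⟨g, hg, hgs⟩ : ∃ g ∈ K, g ∉ similarityGroup f := by
    by_contra hcon
    push Not at hcon
    exact hne (le_antisymm (le_inf hcon hKS) hK)
  obtain ⟨d, hd0, hd⟩ : ∃ d : F, d ≠ 0 ∧ d + σ d = 0 := by
    obtain ⟨s, hs0, hss⟩ := exists_trace hf (b := 0) (map_zero σ)
    exact ⟨s, hs0, by rw [← hss, add_zero]⟩
  have htr : ∀ {v} (_ : f v v = 0), ∃ t ∈ K, Tv f t v v d := fun {v} hv => by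
    obtain ⟨t, -, ht⟩ := exists_tv hf hv d
    exact ⟨t, hK (tv_mem hf ht hv hd), ht⟩
  -- functionals transported by `g`
  choose u hu using fun v => exists_rep hf (((g⁻¹ : GL ι F) : Matrix ι ι F)ᵀ *ᵥ (gramMatrix f *ᵥ ((σ : F → F) ∘ v)))
  have huf : ∀ v x, f x (u v) = f (((g⁻¹ : GL ι F) : Matrix ι ι F) *ᵥ x) v := fun v x => by
    rw [hu, semiForm_apply σ hs (((g⁻¹ : GL ι F) : Matrix ι ι F) *ᵥ x) v, Matrix.dotProduct_mulVec x,
      Matrix.vecMul_transpose]
  have hinj : ∀ a b, (∀ x, f x a = f x b) → a = b := fun a b h => by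
    by_contra hne
    obtain ⟨x, hx⟩ := (hf.nondegenerate (a - b) (sub_ne_zero.mpr hne)).1
    refine hx ?_
    rw [sub_eq_add_neg, ← neg_one_smul F b, hs.add_right, hs.smul_right, h]
    simp
  obtain ⟨p, r, hp0, hpr, hindep, c, hc0, T, hTK, hT⟩ : ∃ p r, p ≠ 0 ∧ f p r = 0 ∧ (∀ k : F, k • p ≠ r) ∧
      ∃ c : F, c ≠ 0 ∧ ∃ t ∈ K, Tv f t p r c := by
    obtain ⟨v, hv0, hvv, hind⟩ : ∃ v, v ≠ 0 ∧ f v v = 0 ∧ ∀ k : F, k • ((g : Matrix ι ι F) *ᵥ v) ≠ u v := by
      by_contra hcon
      push Not at hcon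
      apply hgs
      -- the linear map with every isotropic vector as eigenvector
      let B : (ι → F) → (ι → F) := fun v => ((g⁻¹ : GL ι F) : Matrix ι ι F) *ᵥ u v
      have hBadd : ∀ a b, B (a + b) = B a + B b := fun a b => by
        simp only [B, ← Matrix.mulVec_add]
        congr 1
        exact hinj _ _ fun x => by rw [hs.add_right, huf, huf, huf, hs.add_right]
      have hBsmul : ∀ (t : F) a, B (t • a) = t • B a := fun t a => by
        simp only [B, ← Matrix.mulVec_smul]
        congr 1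
        exact hinj _ _ fun x => by rw [hs.smul_right, huf, huf, hs.smul_right]
      have heig : ∀ v, v ≠ 0 → f v v = 0 → ∃ k : F, B v = k • v := fun v h1 h2 => by
        obtain ⟨k, hk⟩ := hcon v h1 h2
        exact ⟨k, by simp only [B, ← hk, Matrix.mulVec_smul, gl_inv_mulVec_cancel]⟩
      -- independent isotropic vectors share their eigenvalue
      have hcom : ∀ a b : ι → F, f a a = 0 → f b b = 0 → (∀ k : F, k • a ≠ b) → a ≠ 0 → ∀ k l : F,
          B a = k • a → B b = l • b → k = l := by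
        intro a b haa hbb hab ha k l hk hl
        obtain ⟨t, ht0, ht⟩ : ∃ t : F, t ≠ 0 ∧ f (a + t • b) (a + t • b) = 0 := by
          by_cases h : f b a = 0
          · exact ⟨1, one_ne_zero, by
              rw [hs.add_left, hs.add_right, hs.add_right, hs.smul_left, hs.smul_left, hs.smul_right, hs.smul_right,
                haa, hbb, h, hsymm h]; ring⟩
          refine ⟨d / f b a, div_ne_zero hd0 h, ?_⟩
          rw [hs.add_left, hs.add_right, hs.add_right, hs.smul_left, hs.smul_left, hs.smul_right, hs.smul_right,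
            haa, hbb, hf.herm a b, ← map_mul, div_mul_cancel₀ _ h]
          linear_combination hd
        have hne0 : a + t • b ≠ 0 := fun e => hab (-t⁻¹) (by
          rw [eq_neg_of_add_eq_zero_left e, smul_neg, smul_smul, neg_mul, inv_mul_cancel₀ ht0, neg_smul, one_smul,
            neg_neg])
        obtain ⟨j, hj⟩ := heig _ hne0 ht
        rw [hBadd, hBsmul, hk, hl, smul_add, smul_smul, smul_smul] at hj
        have hj1 : (k - j) • a = (j * t - t * l) • b := by
          rw [sub_smul, sub_smul, sub_eq_sub_iff_add_eq_add, hj]; abel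
        have hjl : j * t - t * l = 0 := by
          by_contra h0
          exact hab ((j * t - t * l)⁻¹ * (k - j)) (by rw [mul_smul, hj1, smul_smul, inv_mul_cancel₀ h0, one_smul])
        rw [hjl, zero_smul, smul_eq_zero, sub_eq_zero] at hj1
        rw [hj1.resolve_right ha]
        exact mul_left_cancel₀ ht0 (by linear_combination hjl)
      obtain ⟨w₀, hw₀⟩ : ∃ w : ι → F, w ≠ 0 := ⟨fun _ => 1, fun e => one_ne_zero (congrFun e (Classical.arbitrary ι))⟩
      have hex : ∀ z, z ≠ 0 → ∃ e, f e z = 0 ∧ f e e = 0 ∧ e ≠ 0 := fun z hz => by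
        by_contra hc
        push Not at hc
        obtain ⟨b, hbz, hb0⟩ : ∃ b, f b z = 0 ∧ b ≠ 0 := by
          by_cases hzz : f z z = 0
          · exact ⟨z, hzz, hz⟩
          obtain ⟨x, hx⟩ : ∃ x, x ∉ F ∙ z := by
            by_contra hc'
            push Not at hc'
            have := Submodule.finrank_mono (show (⊤ : Submodule F (ι → F)) ≤ F ∙ z from fun x _ => hc' x)
            rw [finrank_top, Module.finrank_fintype_fun_eq_card, finrank_span_singleton hz] at this
            omega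
          refine ⟨x + (-(f x z / f z z)) • z, by rw [hs.add_left, hs.smul_left, neg_mul, div_mul_cancel₀ _ hzz,
            add_neg_cancel], fun e => hx (Submodule.mem_span_singleton.mpr ⟨f x z / f z z, ?_⟩)⟩
          rw [neg_smul, add_neg_eq_zero] at e
          exact e.symm
        exact hb0 (perp_induction hf (by omega) hz (P := fun x => x = 0) hc
          (fun a b _ _ ha hb => by rw [ha, hb, add_zero]) hbz)
      obtain ⟨e₁, -, he₁, he₁0⟩ := hex w₀ hw₀
      obtain ⟨k, hk⟩ := heig e₁ he₁0 he₁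
      have hall : ∀ x, B x = k • x := fun x => by
        obtain ⟨z, hz0, hxz⟩ : ∃ z, z ≠ 0 ∧ f x z = 0 := by
          by_cases hx : x = 0
          · exact ⟨w₀, hw₀, by rw [hx, show (0 : ι → F) = (0 : F) • w₀ from (zero_smul _ _).symm, hs.smul_left, zero_mul]⟩
          obtain ⟨e, he, -, he0⟩ := hex x hx
          exact ⟨e, he0, hsymm he⟩
        refine perp_induction hf (by omega) hz0 (P := fun y => B y = k • y) (fun e _ hee => ?_)
          (fun a b _ _ ha hb => by rw [hBadd, ha, hb, smul_add]) hxz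
        by_cases he : e = 0
        · rw [he, ← zero_smul F (0 : ι → F), hBsmul, zero_smul, zero_smul, smul_zero]
        by_cases hd' : ∃ t : F, t • e₁ = e
        · obtain ⟨t, rfl⟩ := hd'
          rw [hBsmul, hk, smul_comm]
        push Not at hd'
        obtain ⟨l, hl⟩ := heig e he hee
        rw [hl, hcom e₁ e he₁ hee hd' he₁0 k l hk hl]
      have hgi : ∀ x v, σ k * f x ((g : Matrix ι ι F) *ᵥ v) = f (((g⁻¹ : GL ι F) : Matrix ι ι F) *ᵥ x) v := fun x v => by
        rw [← huf, ← hs.smul_right, ← Matrix.mulVec_smul, ← hall v]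
        simp only [B, gl_mulVec_inv_cancel]
      have hk0 : σ k ≠ 0 := fun e => by
        obtain ⟨z, hz⟩ := (hf.nondegenerate w₀ hw₀).1
        have := hgi ((g : Matrix ι ι F) *ᵥ z) w₀
        rw [e, zero_mul, gl_inv_mulVec_cancel] at this
        exact hz this.symm
      refine ⟨(Units.mk0 (σ k) hk0)⁻¹, fun x v => ?_⟩
      have := hgi ((g : Matrix ι ι F) *ᵥ x) v
      rw [gl_inv_mulVec_cancel] at this
      rw [← this, Units.val_inv_eq_inv_val, Units.val_mk0, inv_mul_cancel_left₀ hk0]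
    refine ⟨_, u v, fun e => hv0 (gl_mulVec_injective g (e.trans (Matrix.mulVec_zero _).symm)),
      by rw [huf, gl_inv_mulVec_cancel]; exact hvv, hind, d, hd0, ?_⟩
    obtain ⟨t, htK, ht⟩ := htr hvv
    refine ⟨g * t * g⁻¹, mul_mem (mul_mem hg htK) (inv_mem hg), fun x => ?_⟩
    rw [gl_mul_mulVec, gl_mul_mulVec, ht, Matrix.mulVec_add, gl_mulVec_inv_cancel, Matrix.mulVec_smul, huf]
  -- commutators
  have comm : ∀ {v u r w : ι → F} {a b : F} {t s : GL ι F}, t ∈ K → s ∈ K → Tv f t v u a → Tv f s r w b →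
      f v w = 0 → f r w = 0 → ∃ k ∈ K, Tv f k v w (a * b * f r u) := by
    intro v u r w a b t s htK hsK ht hst hvw hrw
    refine ⟨t * s * t⁻¹ * s⁻¹, mul_mem (mul_mem (mul_mem htK hsK) (inv_mem htK)) (inv_mem hsK), fun x => ?_⟩
    set y := ((s⁻¹ : GL ι F) : Matrix ι ι F) *ᵥ x with hy
    set z := ((t⁻¹ : GL ι F) : Matrix ι ι F) *ᵥ y with hz
    have hxy : x = y + (b * f y w) • r := by rw [← hst, hy, gl_mulVec_inv_cancel]
    have hyz : y = z + (a * f z u) • v := by rw [← ht, hz, gl_mulVec_inv_cancel]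
    have hfy : f x w = f y w := by rw [hxy, hs.add_left, hs.smul_left, hrw, mul_zero, add_zero]
    have hfz : f z w = f y w := by rw [hyz, hs.add_left, hs.smul_left, hvw, mul_zero, add_zero]
    rw [gl_mul_mulVec, gl_mul_mulVec, gl_mul_mulVec, ← hy, ← hz, hst, Matrix.mulVec_add, Matrix.mulVec_smul,
      ht z, ← hyz, ht r, hfy, hfz, hxy]
    module
  -- a transvection on a totally isotropic plane
  obtain ⟨e₁, e₂, c₀, he₁, hi₁, hi₂, h12, he12, hc₀, T₀, hT₀K, hT₀⟩ : ∃ (e₁ e₂ : ι → F) (c : F), e₁ ≠ 0 ∧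
      f e₁ e₁ = 0 ∧ f e₂ e₂ = 0 ∧ f e₁ e₂ = 0 ∧ (∀ k : F, k • e₁ ≠ e₂) ∧ c ≠ 0 ∧ ∃ t ∈ K, Tv f t e₁ e₂ c := by
    obtain ⟨e, hep, hee, her⟩ : ∃ e, f e p = 0 ∧ f e e = 0 ∧ f e r ≠ 0 := by
      by_contra hcon
      push Not at hcon
      obtain ⟨z, hzp, hzr⟩ := HermWitt.exists_orth (herm hf) (W := F ∙ p) (x := r) (fun h => by
        obtain ⟨k, hk⟩ := Submodule.mem_span_singleton.mp h
        exact hindep k hk)
      exact hzr (perp_induction hf (by omega) hp0 (P := fun x => f x r = 0) hcon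
        (fun a b _ _ ha hb => by rw [hs.add_left, ha, hb, add_zero]) (hzp p (Submodule.mem_span_singleton_self p)))
    obtain ⟨t, htK, ht⟩ := htr hee
    obtain ⟨t₁, ht₁K, ht₁⟩ := comm hTK htK hT ht (hsymm hep) hee
    have hep' : ∀ k : F, k • e ≠ p := fun k hk => her (by
      have h' : f (k • e) r = 0 := by rw [hk]; exact hpr
      rw [hs.smul_left, mul_eq_zero] at h'
      exact h'.resolve_left fun h0 => hp0 (by rw [← hk, h0, zero_smul]))
    have he0 : e ≠ 0 := fun h => her (by rw [h, ← zero_smul F p, hs.smul_left, zero_mul])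
    obtain ⟨e', he'e, he'', he'p⟩ : ∃ e', f e' e = 0 ∧ f e' e' = 0 ∧ f e' p ≠ 0 := by
      by_contra hcon
      push Not at hcon
      obtain ⟨z, hze, hzp⟩ := HermWitt.exists_orth (herm hf) (W := F ∙ e) (x := p) (fun h => by
        obtain ⟨k, hk⟩ := Submodule.mem_span_singleton.mp h
        exact hep' k hk)
      exact hzp (perp_induction hf (by omega) he0 (P := fun x => f x p = 0) hcon
        (fun a b _ _ ha hb => by rw [hs.add_left, ha, hb, add_zero]) (hze e (Submodule.mem_span_singleton_self e)))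
    obtain ⟨t', ht'K, ht'⟩ := htr he''
    obtain ⟨t₂, ht₂K, ht₂⟩ := comm ht'K ht₁K ht' ht₁ he'e (hsymm hep)
    refine ⟨e', e, _, fun h => he'p (by rw [h, ← zero_smul F p, hs.smul_left, zero_mul]), he'', hee, he'e,
      fun k hk => he'p ?_, ?_, t₂, ht₂K, ht₂⟩
    · have h' : f (k • e') p = 0 := by rw [hk]; exact hep
      rw [hs.smul_left, mul_eq_zero] at h'
      exact h'.resolve_left fun h0 => he0 (by rw [← hk, h0, zero_smul])
    · exact mul_ne_zero (mul_ne_zero hd0 (mul_ne_zero (mul_ne_zero hc0 hd0) her)) fun h => he'p (hsymm h)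
  -- every such transvection
  have hplane : ∀ (v w : ι → F) (c : F) (t : GL ι F), v ≠ 0 → (∀ k : F, k • v ≠ w) → f v v = 0 → f w w = 0 →
      f v w = 0 → Tv f t v w c → t ∈ K := by
    intro v w c t hv hvw h1 h2 h3 ht
    by_cases hc : c = 0
    · rw [show t = 1 from gl_ext_mulVec fun x => by
        rw [ht, hc, zero_mul, zero_smul, add_zero, Units.val_one, Matrix.one_mulVec]]
      exact one_mem K
    obtain ⟨r, hr0, hmove⟩ := exists_move_scaled hf hK (v := e₁) (u := e₂) (v' := v) (u' := w) he₁ hv he12 hvw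
      hi₁ hi₂ h12 h1 h2 h3
    have hsq : ∀ (s : F) (k : GL ι F), Tv f k v w (c₀ * r * s ^ 2) → k ∈ K := fun s k hk => by
      by_cases hs0 : s = 0
      · rw [show k = 1 from gl_ext_mulVec fun x => by
          rw [hk, hs0, zero_pow two_ne_zero, mul_zero, zero_mul, zero_smul, add_zero, Units.val_one, Matrix.one_mulVec]]
        exact one_mem K
      obtain ⟨h, hh, hhi, x, y, hxy, hhv, hhw⟩ := hmove s hs0
      have e : k = h * T₀ * h⁻¹ := gl_ext_mulVec fun a => by
        rw [gl_mul_mulVec, gl_mul_mulVec, hT₀, Matrix.mulVec_add, gl_mulVec_inv_cancel, Matrix.mulVec_smul, hhv,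
          ← hhi (((h⁻¹ : GL ι F) : Matrix ι ι F) *ᵥ a) e₂, gl_mulVec_inv_cancel, hhw, hk, smul_smul, hs.smul_right]
        congr 2
        linear_combination (-(c₀ * f a w)) * hxy
      rw [e]
      exact mul_mem (mul_mem hh hT₀K) (inv_mem hh)
    obtain ⟨s₁, s₂, hs12⟩ := exists_two_sq (c / (c₀ * r))
    obtain ⟨k₁, -, hk₁⟩ := exists_tv hf h3 (c₀ * r * s₁ ^ 2)
    obtain ⟨k₂, -, hk₂⟩ := exists_tv hf h3 (c₀ * r * s₂ ^ 2)
    have e : t = k₁ * k₂ := gl_ext_mulVec fun x => by
      rw [gl_mul_mulVec, hk₂, hk₁, ht, hs.add_left, hs.smul_left, h3, mul_zero, add_zero, add_assoc, ← add_smul]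
      congr 2
      rw [div_eq_iff (mul_ne_zero hc₀ hr0)] at hs12
      linear_combination f x w * hs12
    rw [e]
    exact mul_mem (hsq _ _ hk₁) (hsq _ _ hk₂)
  have haxis : ∀ {v} (_ : v ≠ 0) (_ : f v v = 0) (w : ι → F), f w v = 0 → ∀ c t, Tv f t v w c → t ∈ K := by
    intro v hv hvv w hwv
    refine perp_induction hf (by omega) hv (P := fun w => ∀ c t, Tv f t v w c → t ∈ K) (fun e hev hee => ?_)
      (fun a b hav hbv iha ihb c t ht => ?_) hwv
    · intro c t ht
      by_cases hd' : ∀ k : F, k • v ≠ e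
      · exact hplane v e c t hv hd' hvv hee (hsymm hev) ht
      push Not at hd'
      obtain ⟨k, rfl⟩ := hd'
      obtain ⟨w', hw'v, hw'w', hindw⟩ : ∃ w', f w' v = 0 ∧ f w' w' = 0 ∧ ∀ j : F, j • v ≠ w' := by
        by_contra hcon
        push Not at hcon
        let φ : (ι → F) →ₗ[F] F :=
          { toFun := fun x => f x v, map_add' := fun a b => hs.add_left a b v,
            map_smul' := fun c a => hs.smul_left c a v }
        have e1 := Submodule.finrank_mono (show LinearMap.ker φ ≤ F ∙ v from fun x hx =>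
          perp_induction hf (by omega) hv (P := fun y => y ∈ F ∙ v)
            (fun y hy hyy => by
              obtain ⟨j, hj⟩ := hcon y hy hyy
              exact Submodule.mem_span_singleton.mpr ⟨j, hj⟩)
            (fun a b _ _ ha hb => add_mem ha hb) hx)
        have e2 := φ.finrank_range_add_finrank_ker
        have e3 := Submodule.finrank_le (LinearMap.range φ)
        rw [Module.finrank_self] at e3
        rw [Module.finrank_fintype_fun_eq_card] at e2
        rw [finrank_span_singleton hv] at e1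
        omega
      -- split the centre's multiple
      have hvw' : f v w' = 0 := hsymm hw'v
      have hkv : f (k • v) v = 0 := by rw [hs.smul_left, hvv, mul_zero]
      obtain ⟨a, -, ha⟩ := exists_tv hf (show f v (k • v + w') = 0 by rw [hs.add_right, hs.smul_right, hvv, hvw', mul_zero, add_zero]) c
      obtain ⟨b, -, hb⟩ := exists_tv hf (show f v (-w') = 0 by rw [← neg_one_smul F w', hs.smul_right, hvw', mul_zero]) c
      have e : t = a * b := gl_ext_mulVec fun x => by
        rw [gl_mul_mulVec, hb, ha, ht, hs.add_left, hs.smul_left,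
          show f v (k • v + w') = 0 by rw [hs.add_right, hs.smul_right, hvv, hvw', mul_zero, add_zero],
          mul_zero, add_zero, hs.add_right, ← neg_one_smul F w', hs.smul_right, hs.smul_right, map_neg, map_one]
        module
      rw [e]
      refine mul_mem (hplane v _ c a hv (fun j hj => hindw (j - k) (by rw [sub_smul, hj, add_sub_cancel_left])) hvv ?_ ?_ ha)
        (hplane v _ c b hv (fun j hj => hindw (-j) (by rw [neg_smul, hj, neg_neg])) hvv ?_ ?_ hb)
      · rw [hs.add_left, hs.add_right, hs.add_right, hs.smul_left, hs.smul_right, hs.smul_left, hs.smul_right,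
          hvv, hvw', hw'v, hw'w']
        ring
      · rw [hs.add_right, hs.smul_right, hvv, hvw', mul_zero, add_zero]
      · rw [← neg_one_smul F w', hs.smul_left, hs.smul_right, hw'w', mul_zero, mul_zero]
      · rw [← neg_one_smul F w', hs.smul_right, hvw', mul_zero]
    · obtain ⟨a', -, ha⟩ := exists_tv hf (hsymm hav) c
      obtain ⟨b', -, hb⟩ := exists_tv hf (hsymm hbv) c
      have e : t = a' * b' := gl_ext_mulVec fun x => by
        rw [gl_mul_mulVec, hb, ha, ht, hs.add_left, hs.smul_left, hsymm hav, mul_zero, add_zero, hs.add_right]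
        module
      rw [e]
      exact mul_mem (iha c a' ha) (ihb c b' hb)
  have hall : ∀ (v w : ι → F) (c : F), f v w = 0 → ∀ t, Tv f t v w c → t ∈ K := by
    intro v w c hvw
    by_cases hw : w = 0
    · intro t ht
      rw [show t = 1 from gl_ext_mulVec fun x => by
        rw [ht, hw, ← zero_smul F w, hs.smul_right, map_zero, zero_mul, mul_zero, zero_smul, add_zero, Units.val_one,
          Matrix.one_mulVec]]
      exact one_mem K
    refine perp_induction hf (by omega) hw (P := fun v => ∀ t, Tv f t v w c → t ∈ K) (fun e hew hee t ht => ?_)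
      (fun a b haw hbw iha ihb t ht => ?_) hvw
    · by_cases he : e = 0
      · rw [show t = 1 from gl_ext_mulVec fun x => by
          rw [ht, he, smul_zero, add_zero, Units.val_one, Matrix.one_mulVec]]
        exact one_mem K
      exact haxis he hee w (hsymm hew) c t ht
    · obtain ⟨a', -, ha⟩ := exists_tv hf haw c
      obtain ⟨b', -, hb⟩ := exists_tv hf hbw c
      have e : t = a' * b' := gl_ext_mulVec fun x => by
        rw [gl_mul_mulVec, hb, ha, ht, hs.add_left, hs.smul_left, hbw, mul_zero, add_zero, smul_add]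
        module
      rw [e]
      exact mul_mem (iha a' ha) (ihb b' hb)
  haveI : Nontrivial ι := Fintype.one_lt_card_iff_nontrivial.mp (by omega)
  intro x hx
  have hle : (⊤ : Subgroup (SpecialLinearGroup ι F)) ≤ K.comap Matrix.SpecialLinearGroup.toGL := by
    rw [← sl_closure_transvections, Subgroup.closure_le]
    rintro _ ⟨i, j, hij, c, rfl⟩
    obtain ⟨u', hu'⟩ := exists_rep hf (Pi.single j 1)
    refine hall (Pi.single i 1) u' c (by rw [hu']; simp [hij]) (transGL hij c) fun y => ?_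
    rw [transGL_mulVec, hu', dotProduct_single, mul_one, ← Pi.single_smul', smul_eq_mul, mul_one]
  let X : SpecialLinearGroup ι F := ⟨(x : Matrix ι ι F), mem_specialLinear_iff.mp hx⟩
  have h := hle (Subgroup.mem_top X)
  rw [Subgroup.mem_comap, show Matrix.SpecialLinearGroup.toGL X = x from Units.ext rfl] at h
  exact h

/-- The similitudes are maximal. -/
theorem isMaximal (h6 : 6 ≤ Fintype.card ι) :
    IsMaximalIn (specialLinear ι F) (similarityGroup f ⊓ specialLinear ι F) :=
  isMaximal_four hf (by omega)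

end Cfsg.Agent.Classical.UMaxSL
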