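import Cfsg.Agent.Lib.Classical.OrthOmega

/-!
# The subgroup generated by the reflections of one square class has index two
-/

set_option autoImplicit false
set_option linter.unusedSectionVars false

namespace Cfsg.Agent.Classical.OOmega

open Module QuadraticMap OCount ORefl

variable {F : Type*} [Field F] {V : Type*} [AddCommGroup V] [Module F V] {Q : QuadraticForm F V}

variable (Q) in
/-- The subgroup generated by the reflections of the class of `c`. -/
noncomputable def classGroup (c : F) : Subgroup ↥(Iso Q) :=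
  Subgroup.closure {g | ∃ v, Q v ≠ 0 ∧ IsSquare (Q v / c) ∧ g = rf Q v}

theorem rf_mem_class {c : F} {v : V} (hv : Q v ≠ 0) (h : IsSquare (Q v / c)) : rf Q v ∈ classGroup Q c :=
  Subgroup.subset_closure ⟨v, hv, h, rfl⟩

theorem class_conj {c : F} {h : ↥(Iso Q)} (hh : h ∈ classGroup Q c) (g : ↥(Iso Q)) :
    g * h * g⁻¹ ∈ classGroup Q c := by
  have : classGroup Q c ≤ (classGroup Q c).comap (MulAut.conj g).toMonoidHom := by
    refine (Subgroup.closure_le _).mpr ?_
    rintro x ⟨v, hv, hs, rfl⟩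
    change g * rf Q v * g⁻¹ ∈ classGroup Q c
    rw [conj_rf]
    exact rf_mem_class (by rw [g.2 v]; exact hv) (by rw [g.2 v]; exact hs)
  exact this hh

/-- An isometry in the class group moving `u` to `v` identifies their reflections. -/
theorem class_move {c : F} {h : ↥(Iso Q)} (hh : h ∈ classGroup Q c) {u v : V} (e : h.1 u = v) :
    rf Q u * rf Q v ∈ classGroup Q c := by
  have h1 : rf Q u * (h * rf Q u * h⁻¹) = (rf Q u * h * (rf Q u)⁻¹) * h⁻¹ := by
    rw [rf_inv]; group
  rw [← e, ← conj_rf, h1]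
  exact mul_mem (class_conj hh _) (inv_mem hh)

theorem expand (p s : F) (u v : V) :
    Q (p • u + s • v) = p * p * Q u + p * s * polar Q u v + s * s * Q v := by
  rw [show Q (p • u + s • v) = Q (p • u) + Q (s • v) + polar Q (p • u) (s • v) from QuadraticMap.map_add Q _ _,
    QuadraticMap.map_smul, QuadraticMap.map_smul, polar_smul_left, polar_smul_right]
  simp only [smul_eq_mul]
  ring

section Odd

variable [Finite F] [FiniteDimensional F V] (h2 : (2 : F) ≠ 0)
include h2

/-- Two vectors of equal value spanning a non-degenerate plane. -/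
theorem class_pair_nd {c d : F} (hc : c ≠ 0) (hd : d ≠ 0) (hdc : ¬ IsSquare (d / c)) {u v : V}
    (hu : Q u = d) (hv : Q v = d) (hnd : 4 * d ^ 2 - polar Q u v ^ 2 ≠ 0) :
    rf Q u * rf Q v ∈ classGroup Q c := by
  obtain ⟨β, hβ⟩ : ∃ β, β = polar Q u v := ⟨_, rfl⟩
  rw [← hβ] at hnd
  have hp : 2 * d + β ≠ 0 := fun e => hnd (by linear_combination (2 * d - β) * e)
  have hm : 2 * d - β ≠ 0 := fun e => hnd (by linear_combination (2 * d + β) * e)
  have hQp : Q (u + v) = 2 * d + β := by
    rw [show Q (u + v) = Q u + Q v + polar Q u v from QuadraticMap.map_add Q _ _, hu, hv, ← hβ]; ring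
  have hQm : Q (u - v) = 2 * d - β := by rw [map_sub_two, hu, hv, ← hβ]; ring
  have hrm : ∀ w, rf Q (-w) = rf Q w := fun w => by
    rw [← neg_one_smul F w]; exact rf_smul (neg_ne_zero.mpr one_ne_zero) w
  -- a class vector sends `u` to `±v`
  have plus : ∀ (h : ↥(Iso Q)), h ∈ classGroup Q c → ∀ u', h.1 u = u' → Q (u' + v) ≠ 0 →
      IsSquare (Q (u' + v) / c) → rf Q u * rf Q v ∈ classGroup Q c := by
    intro h hh u' hu' h0 hs
    have hQu' : Q u' = d := by rw [← hu', h.2 u, hu]
    have e1 : refl Q (u' + v) u' = -v := by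
      have := refl_sub_apply (Q := Q) (x := -v) (y := u') (by rw [QuadraticMap.map_neg, hQu', hv]) (by rwa [sub_neg_eq_add])
      rwa [sub_neg_eq_add] at this
    have := class_move (mul_mem (rf_mem_class h0 hs) hh) (u := u) (v := -v) (by
      change refl Q (u' + v) (h.1 u) = -v
      rw [hu', e1])
    rwa [hrm] at this
  by_cases hs : IsSquare (Q (u + v) / c)
  · exact plus 1 (one_mem _) u rfl (hQp ▸ hp) hs
  by_cases hs' : IsSquare (Q (u - v) / c)
  · refine class_move (rf_mem_class (hQm ▸ hm) hs') ?_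
    exact refl_sub_apply (by rw [hu, hv]) (hQm ▸ hm)
  -- otherwise `4d² - β²` is a square; use an auxiliary vector of the plane
  have hsq : IsSquare ((2 * d + β) * (2 * d - β)) := by
    have h0 : IsSquare (((2 * d + β) / c) * ((2 * d - β) / c)) :=
      (isSquare_iff_mul h2 (div_ne_zero hp hc) (div_ne_zero hm hc)).mpr
        (iff_of_false (hQp ▸ hs) (hQm ▸ hs'))
    have := h0.mul (IsSquare.mul_self c)
    rwa [show (2 * d + β) / c * ((2 * d - β) / c) * (c * c) = (2 * d + β) * (2 * d - β) by field_simp] at this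
  obtain ⟨x, y, hxy⟩ := exists_rep h2 (p := d) (d := (4 * d ^ 2 - β ^ 2) / (4 * d)) hd
    (div_ne_zero hnd (mul_ne_zero (by
      rw [show (4 : F) = 2 * 2 by norm_num]; exact mul_ne_zero h2 h2) hd)) c
  obtain ⟨p, hp'⟩ : ∃ p, p = x - β * y / (2 * d) := ⟨_, rfl⟩
  obtain ⟨a, ha⟩ : ∃ a, a = p • u + y • v := ⟨_, rfl⟩
  have hA : p * p * d + p * y * β + y * y * d = c := by
    have h4 : (4 : F) ≠ 0 := by rw [show (4 : F) = 2 * 2 by norm_num]; exact mul_ne_zero h2 h2
    rw [hp', ← hxy]; field_simp; ring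
  have hQa : Q a = c := by rw [ha, expand, hu, hv, ← hβ, hA]
  have hra := rf_mem_class (Q := Q) (c := c) (v := a) (hQa ▸ hc) (by rw [hQa, div_self hc]; exact IsSquare.one)
  obtain ⟨u', hu'⟩ : ∃ u', u' = refl Q a u := ⟨_, rfl⟩
  have key : (2 * d + β) * Q (u' + v) * c = d * ((2 * d + β) * (2 * d - β)) * (p - y) ^ 2 := by
    have e : Q u' = d := by rw [hu', refl_mem a u, hu]
    rw [show Q (u' + v) = Q u' + Q v + polar Q u' v from QuadraticMap.map_add Q _ _, e, hv, hu', refl_apply, hQa,
      polar_sub_left, polar_smul_left, smul_eq_mul, ← hβ, ha, polar_add_left, polar_smul_left, polar_smul_left,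
      polar_add_left, polar_smul_left, polar_smul_left, polar_self_two, polar_self_two, polar_comm Q v u, hu, hv,
      ← hβ]
    simp only [smul_eq_mul]
    field_simp
    linear_combination (-(2 * d + β)) * hA
  have hpy : p - y ≠ 0 := by
    intro e
    rw [sub_eq_zero] at e
    refine hs ?_
    have hy : y ≠ 0 := fun e0 => hc (by rw [← hA, e, e0]; ring)
    exact ⟨1 / y, by
      rw [hQp, ← hA, e, show y * y * d + y * y * β + y * y * d = y * y * (2 * d + β) by ring]
      field_simp⟩
  have h0 : Q (u' + v) ≠ 0 := fun e => by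
    rw [e, mul_zero, zero_mul] at key
    exact mul_ne_zero (mul_ne_zero hd (mul_ne_zero hp hm)) (pow_ne_zero 2 hpy) key.symm
  refine plus _ hra u' hu'.symm h0 ?_
  obtain ⟨r, hr⟩ := hsq
  have hcp : ¬ IsSquare ((2 * d + β) / c) := hQp ▸ hs
  have h1 : IsSquare ((d / c) * ((2 * d + β) / c)) :=
    (isSquare_iff_mul h2 (div_ne_zero hd hc) (div_ne_zero hp hc)).mpr (iff_of_false hdc hcp)
  have he : Q (u' + v) / c = (d / c) * ((2 * d + β) / c) * ((r * (p - y) / (2 * d + β)) * (r * (p - y) / (2 * d + β))) := by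
    rw [show Q (u' + v) = d * (r * r) * (p - y) ^ 2 / ((2 * d + β) * c) by
      rw [eq_div_iff (mul_ne_zero hp hc), ← hr]; linear_combination key]
    field_simp
  rw [he]
  exact h1.mul (IsSquare.mul_self _)

theorem exists_in_sub (hnd : 2 ≤ finrank F V) (hQ : PND Q) {u a b : V} (d : F)
    (h7 : 5 ≤ finrank F V) (hu : Q u ≠ 0) (hua : polar Q u a = 0) (hab : polar Q a b = 1) (hub : polar Q u b = 0)
    (ha : Q a = 0) (hb : Q b = 0) : ∃ w, Q w = d ∧ polar Q u w = 0 ∧ polar Q a w = 0 := by
  obtain ⟨K, hK⟩ : ∃ K, K = LinearMap.ker (Q.polarBilin u) ⊓ LinearMap.ker (Q.polarBilin a) ⊓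
      LinearMap.ker (Q.polarBilin b) := ⟨_, rfl⟩
  have hd : ∀ φ : V →ₗ[F] F, ∀ W : Submodule F V, finrank F W ≤ finrank F ↥(W ⊓ LinearMap.ker φ) + 1 := by
    intro φ W
    have h1 := Submodule.finrank_sup_add_finrank_inf_eq W (LinearMap.ker φ)
    have h3 := φ.finrank_range_add_finrank_ker
    have h4 := Submodule.finrank_le (LinearMap.range φ)
    have h5 := Submodule.finrank_le (W ⊔ LinearMap.ker φ)
    rw [finrank_self] at h4
    omega
  have hK2 : 2 ≤ finrank F K := by
    have h0 := (Q.polarBilin u).finrank_range_add_finrank_ker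
    have h4 := Submodule.finrank_le (LinearMap.range (Q.polarBilin u))
    have h1 := hd (Q.polarBilin a) (LinearMap.ker (Q.polarBilin u))
    have h2' := hd (Q.polarBilin b) (LinearMap.ker (Q.polarBilin u) ⊓ LinearMap.ker (Q.polarBilin a))
    rw [finrank_self] at h4
    rw [hK]; omega
  have hmem : ∀ z, z ∈ K ↔ polar Q u z = 0 ∧ polar Q a z = 0 ∧ polar Q b z = 0 := fun z => by
    simp [hK, Submodule.mem_inf, and_assoc]
  have hKnd : PND (Q.comp K.subtype) := by
    intro z hz
    refine Subtype.ext (hQ z.1 fun w => ?_)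
    obtain ⟨z1, z2, z3⟩ := (hmem _).mp z.2
    obtain ⟨k, hk⟩ : ∃ k, k = w - (polar Q u w / (2 * Q u)) • u - polar Q b w • a - polar Q a w • b := ⟨_, rfl⟩
    have hkK : k ∈ K := by
      rw [hmem, hk]
      simp only [polar_sub_right, polar_smul_right, smul_eq_mul, polar_self_two, hua, hub, hab, ha, hb,
        polar_comm Q a u, polar_comm Q b u, polar_comm Q b a]
      refine ⟨?_, by ring, by ring⟩
      field_simp
      ring
    have h := hz ⟨k, hkK⟩
    change polar (⇑Q ∘ K.subtype) z ⟨k, hkK⟩ = 0 at h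
    have h' : polar Q (z : V) k = 0 := h
    rw [hk, polar_sub_right, polar_sub_right, polar_sub_right, polar_smul_right, polar_smul_right, polar_smul_right,
      polar_comm Q (z : V) u, polar_comm Q (z : V) a, polar_comm Q (z : V) b, z1, z2, z3] at h'
    simpa using h'
  obtain ⟨w, hw⟩ := exists_value h2 hKnd hK2 d
  exact ⟨w.1, hw, ((hmem _).mp w.2).1, ((hmem _).mp w.2).2.1⟩

/-- Any two vectors of equal value. -/
theorem class_pair (hQ : PND Q) (hn : finrank F V = 2 ∨ 5 ≤ finrank F V ∨ 5 ≤ Nat.card F) {c d : F} (hc : c ≠ 0)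
    (hd : d ≠ 0) (hdc : ¬ IsSquare (d / c)) {u v : V}
    (hu : Q u = d) (hv : Q v = d) : rf Q u * rf Q v ∈ classGroup Q c := by
  by_cases hnd : 4 * d ^ 2 - polar Q u v ^ 2 = 0
  swap
  · exact class_pair_nd h2 hc hd hdc hu hv hnd
  -- replace `v` so that the polar value is `2d`
  obtain ⟨v', hv'Q, hv'r, hv'B⟩ : ∃ v', Q v' = d ∧ rf Q v' = rf Q v ∧ polar Q u v' = 2 * d := by
    rcases eq_or_ne (polar Q u v) (2 * d) with e | e
    · exact ⟨v, hv, rfl, e⟩
    · refine ⟨-v, by rw [QuadraticMap.map_neg, hv], by rw [← neg_one_smul F v]; exact rf_smul (neg_ne_zero.mpr one_ne_zero) v, ?_⟩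
      have : (2 * d - polar Q u v) * (2 * d + polar Q u v) = 0 := by linear_combination hnd
      rcases mul_eq_zero.mp this with h | h
      · exact absurd (sub_eq_zero.mp h).symm e
      · rw [polar_neg_right]; linear_combination -h
  rw [← hv'r]
  clear hnd hv hv'r v
  obtain ⟨z, hz⟩ : ∃ z, z = v' - u := ⟨_, rfl⟩
  have hz0 : Q z = 0 := by rw [hz, map_sub_two, hv'Q, hu, polar_comm Q v' u, hv'B]; ring
  have hzu : polar Q u z = 0 := by rw [hz, polar_sub_right, hv'B, polar_self_two, hu]; ring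
  have hv'e : v' = u + z := by rw [hz]; abel
  by_cases hzz : z = 0
  · rw [hv'e, hzz, add_zero, rf_mul_self]; exact one_mem _
  have hu0 : Q u ≠ 0 := hu ▸ hd
  -- a partner of `z` orthogonal to `u`
  obtain ⟨f, hf⟩ : ∃ f, polar Q z f = 1 ∧ polar Q u f = 0 ∧ Q f = 0 := by
    have hex : ∃ g, polar Q z g ≠ 0 := by
      by_contra hcon
      push Not at hcon
      exact hzz (hQ z hcon)
    obtain ⟨g, hg⟩ := hex
    obtain ⟨f0, hf0⟩ : ∃ f0, f0 = (polar Q z g)⁻¹ • (g - (polar Q u g / (2 * d)) • u) := ⟨_, rfl⟩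
    have h1 : polar Q z f0 = 1 := by
      rw [hf0, polar_smul_right, polar_sub_right, polar_smul_right, polar_comm Q z u, hzu]
      simp [hg]
    have h3 : polar Q u f0 = 0 := by
      rw [hf0, polar_smul_right, polar_sub_right, polar_smul_right, polar_self_two, hu]
      simp only [smul_eq_mul]
      field_simp
      ring
    refine ⟨f0 - Q f0 • z, ?_, ?_, ?_⟩
    · rw [polar_sub_right, polar_smul_right, polar_self_two, hz0, h1]; simp
    · rw [polar_sub_right, polar_smul_right, hzu, h3]; simp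
    · rw [map_sub_two, QuadraticMap.map_smul, polar_smul_right, hz0, polar_comm Q f0 z, h1]; simp
  obtain ⟨hzf, huf, hf0⟩ := hf
  obtain ⟨w, hwQ, hwu, hwv⟩ : ∃ w, Q w = d ∧ 4 * d ^ 2 - polar Q u w ^ 2 ≠ 0 ∧ 4 * d ^ 2 - polar Q w v' ^ 2 ≠ 0 := by
    have h4 : (4 : F) * d ^ 2 ≠ 0 := by
      rw [show (4 : F) = 2 * 2 by norm_num]; exact mul_ne_zero (mul_ne_zero h2 h2) (pow_ne_zero 2 hd)
    rcases hn with hn | hn | hn
    · exfalso
      have hli : LinearIndependent F ![u, z] := LinearIndependent.pair_iff.mpr fun s t hst => by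
        have h1 := congrArg (polar Q u) hst
        rw [polar_add_right, polar_smul_right, polar_smul_right, polar_self_two, hu, hzu, polar_zero_right] at h1
        have hs : s = 0 := by simpa [hd, h2] using h1
        refine ⟨hs, ?_⟩
        rw [hs, zero_smul, zero_add] at hst
        exact (smul_eq_zero.mp hst).resolve_right hzz
      have htop : Submodule.span F (Set.range ![u, z]) = ⊤ :=
        Submodule.eq_top_of_finrank_eq (by rw [finrank_span_eq_card hli, hn, Fintype.card_fin])
      refine hzz (hQ z fun w => ?_)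
      obtain ⟨k, hk⟩ := (Submodule.mem_span_range_iff_exists_fun F).mp (htop ▸ Submodule.mem_top : w ∈ Submodule.span F (Set.range ![u, z]))
      rw [← hk, Fin.sum_univ_two]
      simp [polar_comm Q z u, hzu, hz0, polar_add_right, polar_smul_right, polar_self_two]
    · obtain ⟨w, hwQ, hwu, hwz⟩ := exists_in_sub h2 (by omega) hQ d hn hu0 hzu hzf huf hz0 hf0
      refine ⟨w, hwQ, ?_, ?_⟩
      · rw [hwu]; simpa using h4
      · rw [hv'e, polar_add_right, polar_comm Q w u, hwu, polar_comm Q w z, hwz]; simpa using h4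
    · haveI := Fintype.ofFinite F
      classical
      obtain ⟨t, ht0, ht1, ht2⟩ : ∃ t : F, t ≠ 0 ∧ t ≠ 2 * d ∧ t ≠ -(2 * d) := by
        by_contra hcon
        push Not at hcon
        have : Finset.univ ⊆ ({0, 2 * d, -(2 * d)} : Finset F) := fun t _ => by
          by_cases h0 : t = 0
          · simp [h0]
          · by_cases h1 : t = 2 * d
            · simp [h1]
            · simp [hcon t h0 h1]
        have h5 := Finset.card_le_card this
        rw [Finset.card_univ, ← Nat.card_eq_fintype_card] at h5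
        have := Finset.card_le_three (a := (0 : F)) (b := 2 * d) (c := -(2 * d))
        omega
      refine ⟨(d / t) • z + t • f, ?_, ?_, ?_⟩
      · rw [expand, hz0, hf0, hzf]; field_simp; ring
      · rw [polar_add_right, polar_smul_right, polar_smul_right, hzu, huf]; simpa using h4
      · rw [hv'e, polar_add_left, polar_smul_left, polar_smul_left, polar_add_right, polar_add_right,
          polar_comm Q z u, hzu, polar_comm Q f u, huf, polar_self_two, hz0, polar_comm Q f z, hzf]
        simp only [smul_eq_mul]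
        intro e
        have : (2 * d - t) * (2 * d + t) = 0 := by linear_combination e
        rcases mul_eq_zero.mp this with h | h
        · exact ht1 (sub_eq_zero.mp h).symm
        · exact ht2 (by linear_combination h)
  have h1 := class_pair_nd h2 hc hd hdc hu hwQ hwu
  have h3 := class_pair_nd h2 hc hd hdc hwQ hv'Q hwv
  have := mul_mem h1 h3
  rwa [mul_assoc, ← mul_assoc (rf Q w), rf_mul_self, one_mul] at this

theorem index_classGroup (hQ : PND Q) (hn2 : 2 ≤ finrank F V)
    (hn : finrank F V = 2 ∨ 5 ≤ finrank F V ∨ 5 ≤ Nat.card F) {c : F} (hc : c ≠ 0) :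
    (classGroup Q c).index = 2 := by
  classical
  haveI := Fintype.ofFinite F
  obtain ⟨ν, hν⟩ := FiniteField.exists_nonsquare (F := F) fun h => h2 (by
    haveI := ringChar.of_eq h
    exact CharTwo.two_eq_zero)
  have hν0 : ν ≠ 0 := fun e => hν (e ▸ IsSquare.zero)
  obtain ⟨u, hu⟩ := exists_value h2 hQ hn2 (c * ν)
  have hu0 : Q u ≠ 0 := hu ▸ mul_ne_zero hc hν0
  have hdc : ¬ IsSquare (Q u / c) := by rw [hu, mul_div_cancel_left₀ _ hc]; exact hν
  have hpair : ∀ v, Q v ≠ 0 → ¬ IsSquare (Q v / c) → rf Q v * rf Q u ∈ classGroup Q c := by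
    intro v hv hns
    obtain ⟨r, hr⟩ : IsSquare ((Q u / c) / (Q v / c)) := by
      rw [div_eq_mul_inv, isSquare_iff_mul h2 (div_ne_zero hu0 hc) (inv_ne_zero (div_ne_zero hv hc)), isSquare_inv]
      exact iff_of_false hdc hns
    have hr0 : r ≠ 0 := fun e => by
      rw [e, mul_zero] at hr; exact div_ne_zero (div_ne_zero hu0 hc) (div_ne_zero hv hc) hr
    rw [← rf_smul hr0 v]
    refine class_pair h2 hQ hn hc hu0 hdc ?_ rfl
    rw [QuadraticMap.map_smul, smul_eq_mul, ← hr]
    field_simp
  obtain ⟨χ, hχ⟩ : ∃ χ : ↥(Iso Q) →* ℤˣ, ∀ v, Q v ≠ 0 → (χ (rf Q v) = 1 ↔ IsSquare (Q v / c)) := by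
    by_cases hs : IsSquare c
    · refine ⟨spinor Q, fun v hv => ?_⟩
      rw [spinor_rf h2 hQ hn2 hv, div_eq_mul_inv, isSquare_iff_mul h2 hv (inv_ne_zero hc), isSquare_inv]
      simp [hs]
    · refine ⟨spinor Q * dsign h2 hQ, fun v hv => ?_⟩
      rw [MonoidHom.mul_apply, dsign_rf h2 hQ hv, div_eq_mul_inv, isSquare_iff_mul h2 hv (inv_ne_zero hc),
        isSquare_inv, ← spinor_rf h2 hQ hn2 hv]
      rcases Int.units_eq_one_or (spinor Q (rf Q v)) with e | e <;> rw [e] <;> simp [hs]
  have hker : classGroup Q c ≤ χ.ker := (Subgroup.closure_le _).mpr (by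
    rintro x ⟨v, hv, hs, rfl⟩
    exact (hχ v hv).mpr hs)
  have hχu : χ (rf Q u) ≠ 1 := fun e => hdc ((hχ u hu0).mp e)
  rw [Subgroup.index_eq_two_iff]
  refine ⟨rf Q u, fun g => ?_⟩
  have hor : g ∈ classGroup Q c ∨ g * rf Q u ∈ classGroup Q c := by
    refine induction_on (motive := fun g => g ∈ classGroup Q c ∨ g * rf Q u ∈ classGroup Q c) hQ (two_ne h2) g
      (Or.inl (one_mem _)) fun v g hv ih => ?_
    by_cases hs : IsSquare (Q v / c)
    · have hm := rf_mem_class hv hs
      exact ih.imp (fun h => mul_mem hm h) fun h => by rw [mul_assoc]; exact mul_mem hm h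
    · have hp := hpair v hv hs
      rcases ih with h | h
      · refine Or.inr ?_
        have := mul_mem (class_conj h (rf Q v)) hp
        rwa [rf_inv, show rf Q v * g * rf Q v * (rf Q v * rf Q u) = rf Q v * g * (rf Q v * rf Q v) * rf Q u by group,
          rf_mul_self, mul_one] at this
      · refine Or.inl ?_
        have := mul_mem (class_conj h (rf Q v)) hp
        rwa [rf_inv, show rf Q v * (g * rf Q u) * rf Q v * (rf Q v * rf Q u) =
            rf Q v * g * (rf Q u * (rf Q v * rf Q v) * rf Q u) by group, rf_mul_self, mul_one, rf_mul_self, mul_one] at this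
  rcases hor with h | h
  · refine Or.inr ⟨h, fun h' => hχu ?_⟩
    have := hker (mul_mem (inv_mem h) h')
    rwa [inv_mul_cancel_left] at this
  · refine Or.inl ⟨h, fun h' => hχu ?_⟩
    have := hker (mul_mem (inv_mem h') h)
    rwa [inv_mul_cancel_left] at this

end Odd

end Cfsg.Agent.Classical.OOmega
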