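import Cfsg.Agent.Lib.Char.SylowTwoMonomial
import Cfsg.Agent.S2233
import Cfsg.Prelude.Def_Transfer

/-!
# The normal two-rank of general linear groups in odd characteristic
-/

set_option autoImplicit false
set_option linter.unusedSectionVars false
set_option linter.style.haveILetI false

namespace Cfsg.Agent.Classical.NormalRank

open Cfsg.Agent.Char.TwoWreath Matrix

/-- `E` is a normal elementary abelian two-subgroup of `W`. -/
structure Good {X : Type*} [Group X] (W E : Subgroup X) : Prop where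
  le : E ≤ W
  normal : ∀ g ∈ W, ∀ e ∈ E, g * e * g⁻¹ ∈ E
  comm : ∀ a ∈ E, ∀ b ∈ E, a * b = b * a
  sq : ∀ a ∈ E, a * a = 1

/-- The normal two-rank of `W` is `N`. -/
def Best {X : Type*} [Group X] (W : Subgroup X) (N : ℕ) : Prop :=
  (∃ E, Good W E ∧ 2 ^ N ≤ Nat.card E) ∧ ∀ E, Good W E → Nat.card E ≤ 2 ^ N

theorem Good.map {X Y : Type*} [Group X] [Group Y] (f : X →* Y) {W E : Subgroup X} (h : Good W E) :
    Good (W.map f) (E.map f) where
  le := Subgroup.map_mono h.le
  normal := by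
    rintro _ ⟨g, hg, rfl⟩ _ ⟨e, he, rfl⟩
    exact ⟨g * e * g⁻¹, h.normal g hg e he, by simp⟩
  comm := by
    rintro _ ⟨a, ha, rfl⟩ _ ⟨b, hb, rfl⟩
    rw [← map_mul, h.comm a ha b hb, map_mul]
  sq := by
    rintro _ ⟨a, ha, rfl⟩
    rw [← map_mul, h.sq a ha, map_one]

theorem Good.comap {X Y : Type*} [Group X] [Group Y] (f : X →* Y) (hf : Function.Injective f) {W : Subgroup X}
    {E : Subgroup Y} (h : Good (W.map f) E) : Good W (E.comap f) where
  le := fun x hx => (Subgroup.mem_map_iff_mem hf).1 (h.le hx)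
  normal := fun g hg e he => by
    show f (g * e * g⁻¹) ∈ E
    rw [map_mul, map_mul, map_inv]
    exact h.normal _ ⟨g, hg, rfl⟩ _ he
  comm := fun a ha b hb => hf (by rw [map_mul, map_mul]; exact h.comm _ ha _ hb)
  sq := fun a ha => hf (by rw [map_mul, map_one]; exact h.sq _ ha)

theorem Best.map {X Y : Type*} [Group X] [Group Y] (f : X →* Y) (hf : Function.Injective f) {W : Subgroup X}
    {N : ℕ} (h : Best W N) : Best (W.map f) N := by
  obtain ⟨⟨E, hE, hc⟩, hle⟩ := h
  refine ⟨⟨E.map f, hE.map f, by rwa [Subgroup.card_map_of_injective hf]⟩, fun E' hE' => ?_⟩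
  have h1 := hle _ (hE'.comap f hf)
  have h2 : (E'.comap f).map f = E' :=
    Subgroup.map_comap_eq_self (hE'.le.trans (Subgroup.map_le_range f W))
  rw [← h2, Subgroup.card_map_of_injective hf]
  exact h1

/-- Passing to any Sylow subgroup. -/
theorem sylow {X : Type*} [Group X] [Finite X] (W : Subgroup X)
    (hW : Nat.card W = 2 ^ (Nat.card X).factorization 2) {N : ℕ} (hB : Best W N) (S : Sylow 2 X) :
    (∃ E : Subgroup ↥(S : Subgroup X), E.Normal ∧ Cfsg.IsElementaryAbelian 2 E ∧ 2 ^ N ≤ Nat.card ↥E) ∧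
      ∀ E : Subgroup ↥(S : Subgroup X), E.Normal → Cfsg.IsElementaryAbelian 2 E → Nat.card ↥E ≤ 2 ^ N := by
  haveI : Fact (Nat.Prime 2) := ⟨Nat.prime_two⟩
  obtain ⟨g, hg⟩ := MulAction.exists_smul_eq X (Sylow.ofCard W hW) S
  have hS : W.map (MulAut.conj g).toMonoidHom = (S : Subgroup X) := by rw [← hg]; rfl
  obtain ⟨⟨E, hE, hc⟩, hle⟩ := hS ▸ hB.map _ (MulAut.conj g).injective
  refine ⟨⟨E.subgroupOf (S : Subgroup X), ⟨fun e he x => hE.normal x x.2 e he⟩, ⟨⟨⟨fun a b => ?_⟩⟩, ?_⟩, ?_⟩,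
    fun E hn hab => ?_⟩
  · exact Subtype.ext (Subtype.ext (hE.comm _ a.2 _ b.2))
  · intro a ha
    rw [pow_two]
    exact Subtype.ext (hE.sq _ ha)
  · rwa [Nat.card_congr (Subgroup.subgroupOfEquivOfLe hE.le).toEquiv]
  · have hG : Good (S : Subgroup X) (E.map (S : Subgroup X).subtype) := by
      refine ⟨Subgroup.map_subtype_le E, ?_, ?_, ?_⟩
      · rintro x hx _ ⟨e, he, rfl⟩
        exact ⟨_, hn.conj_mem e he ⟨x, hx⟩, rfl⟩
      · rintro _ ⟨a, ha, rfl⟩ _ ⟨b, hb, rfl⟩
        haveI := hab.1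
        rw [← map_mul, ← map_mul]
        exact congrArg _ (congrArg Subtype.val (mul_comm' (⟨a, ha⟩ : E) ⟨b, hb⟩))
      · rintro _ ⟨a, ha, rfl⟩
        rw [← map_mul, ← pow_two, hab.2 a ha, map_one]
    have := hle _ hG
    rwa [Subgroup.card_map_of_injective Subtype.val_injective] at this

section wreath
variable {n : ℕ} {K X : Type*} [Group K] [Group X] [Finite K]
  (φ : (Fin n → K) →* X) (ψ : Equiv.Perm (Fin n) →* X)
  (hc : ∀ (h : Equiv.Perm (Fin n)) (v : Fin n → K), φ v * ψ h = ψ h * φ (v ∘ h))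

theorem phi_inj (hinj : ∀ h v, ψ h * φ v = 1 → h = 1 ∧ v = 1) : Function.Injective φ := fun a b h =>
  mul_inv_eq_one.1 (hinj 1 (a * b⁻¹) (by rw [map_one, one_mul, map_mul, map_inv, h, mul_inv_cancel])).2

/-- Central involutions in all coordinates. -/
theorem wr_lower (hinj : ∀ h v, ψ h * φ v = 1 → h = 1 ∧ v = 1) (S : Subgroup K) (T : Subgroup (Equiv.Perm (Fin n)))
    (z : K) (hz : z ∈ S) (hz1 : z ≠ 1) (hz2 : z * z = 1) (hzc : ∀ x ∈ S, z * x = x * z) :
    ∃ E, Good (wr φ ψ hc S T) E ∧ 2 ^ n ≤ Nat.card E := by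
  classical
  let Z : Subgroup K := Subgroup.zpowers z
  have hmemZ : ∀ x ∈ Z, x = 1 ∨ x = z := by
    rintro x ⟨i, rfl⟩
    rcases Int.even_or_odd i with ⟨k, rfl⟩ | ⟨k, rfl⟩
    · left
      show z ^ (k + k) = 1
      rw [← two_mul, _root_.zpow_mul, zpow_two, hz2, _root_.one_zpow]
    · right
      show z ^ (2 * k + 1) = z
      rw [_root_.zpow_add_one, _root_.zpow_mul, zpow_two, hz2, _root_.one_zpow, one_mul]
  refine ⟨(Subgroup.pi Set.univ fun _ : Fin n => Z).map φ, ⟨?_, ?_, ?_, ?_⟩, ?_⟩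
  · rintro _ ⟨v, hv, rfl⟩
    exact ⟨1, one_mem _, v, fun i => Subgroup.zpowers_le.2 hz (hv i trivial), by rw [map_one, one_mul]⟩
  · rintro _ ⟨h, -, v, hv, rfl⟩ _ ⟨u, hu, rfl⟩
    refine ⟨u ∘ ⇑h⁻¹, fun i _ => hu _ trivial, ?_⟩
    have e1 : φ v * φ u = φ u * φ v := by
      rw [← map_mul, ← map_mul]
      refine congrArg φ (funext fun i => ?_)
      show v i * u i = u i * v i
      rcases hmemZ _ (hu i trivial) with e | e <;> rw [e]
      · rw [mul_one, one_mul]
      · exact (hzc _ (hv i)).symm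
    have e2 : ψ h * φ u = φ (u ∘ ⇑h⁻¹) * ψ h := by
      rw [hc h (u ∘ ⇑h⁻¹)]
      exact congrArg (fun w => ψ h * φ w) (funext fun i => by simp)
    rw [show ψ h * φ v * φ u * (ψ h * φ v)⁻¹ = ψ h * (φ v * φ u) * (φ v)⁻¹ * (ψ h)⁻¹ by group, e1,
      ← mul_assoc (ψ h), mul_inv_cancel_right, e2, mul_inv_cancel_right]
  · rintro _ ⟨a, ha, rfl⟩ _ ⟨b, hb, rfl⟩
    rw [← map_mul, ← map_mul]
    refine congrArg φ (funext fun i => ?_)
    show a i * b i = b i * a i
    rcases hmemZ _ (ha i trivial) with e | e <;> rcases hmemZ _ (hb i trivial) with e' | e' <;>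
      simp [e, e']
  · rintro _ ⟨a, ha, rfl⟩
    rw [← map_mul, ← map_one φ]
    refine congrArg φ (funext fun i => ?_)
    show a i * a i = 1
    rcases hmemZ _ (ha i trivial) with e | e <;> simp [e, hz2]
  · rw [Subgroup.card_map_of_injective (phi_inj φ ψ hinj)]
    have hinj' : Function.Injective (fun f : Fin n → Bool =>
        (⟨fun i => if f i then z else 1, fun i _ => by
          show (if f i then z else 1) ∈ Z
          split_ifs
          exacts [Subgroup.mem_zpowers z, one_mem _]⟩ : ↥(Subgroup.pi Set.univ fun _ : Fin n => Z))) :=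
      fun f f' h => funext fun i => by
        have h' := congrFun (congrArg Subtype.val h) i
        dsimp only at h'
        revert h'
        cases f i <;> cases f' i <;> simp [hz1, Ne.symm hz1]
    have h := Nat.card_le_card_of_injective _ hinj'
    rwa [Nat.card_fun, Nat.card_fin, Nat.card_eq_fintype_card, Fintype.card_bool] at h

/-- Normal elementary abelian subgroups lie in the central involutions of the base. -/
theorem wr_upper (hinj : ∀ h v, ψ h * φ v = 1 → h = 1 ∧ v = 1) (S : Subgroup K) (T : Subgroup (Equiv.Perm (Fin n)))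
    (z : K) (hbig : ∃ x ∈ S, x ≠ 1 ∧ x ≠ z) (hS : ∀ A, Good S A → ∀ a ∈ A, a = 1 ∨ a = z)
    (E : Subgroup X) (hE : Good (wr φ ψ hc S T) E) : Nat.card E ≤ 2 ^ n := by
  classical
  have hφ := phi_inj φ ψ hinj
  have hbase : ∀ v : Fin n → K, (∀ i, v i ∈ S) → φ v ∈ wr φ ψ hc S T := fun v hv =>
    ⟨1, one_mem _, v, hv, by rw [map_one, one_mul]⟩
  have hproj : ∀ v, φ v ∈ E → ∀ i, v i = 1 ∨ v i = z := by
    intro v hv i
    refine hS ((E.comap φ).map (Pi.evalMonoidHom (fun _ => K) i)) ?_ (v i) ⟨v, hv, rfl⟩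
    have hmem : ∀ w, φ w ∈ E → ∀ j, w j ∈ S := by
      intro w hw j
      obtain ⟨h, -, u, hu, e⟩ := hE.le hw
      obtain ⟨h1, h2⟩ := hinj h (u * w⁻¹) (by rw [map_mul, map_inv, ← mul_assoc, ← e, mul_inv_cancel])
      rw [← mul_inv_eq_one.1 h2]
      exact hu j
    refine ⟨?_, ?_, ?_, ?_⟩
    · rintro _ ⟨w, hw, rfl⟩
      exact hmem w hw i
    · rintro x hx _ ⟨w, hw, rfl⟩
      refine ⟨Pi.mulSingle i x * w * (Pi.mulSingle i x)⁻¹, ?_, by simp⟩
      show φ _ ∈ E
      rw [map_mul, map_mul, map_inv]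
      refine hE.normal _ (hbase _ fun j => ?_) _ hw
      by_cases hj : j = i
      · subst hj; rwa [Pi.mulSingle_eq_same]
      · rw [Pi.mulSingle_eq_of_ne hj]; exact one_mem _
    · rintro _ ⟨a, ha, rfl⟩ _ ⟨b, hb, rfl⟩
      show a i * b i = b i * a i
      exact congrFun (hφ (by rw [map_mul, map_mul]; exact hE.comm _ ha _ hb) : a * b = b * a) i
    · rintro _ ⟨a, ha, rfl⟩
      show a i * a i = 1
      exact congrFun (hφ (by rw [map_mul, map_one]; exact hE.sq _ ha) : a * a = 1) i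
  have hin : ∀ e ∈ E, ∃ v, φ v = e ∧ ∀ i, v i = 1 ∨ v i = z := by
    intro e he
    obtain ⟨h, hh, v, hv, rfl⟩ := hE.le he
    have h1 : h = 1 := by
      by_contra hne
      obtain ⟨i, hi⟩ : ∃ i, h i ≠ i := by
        by_contra hh
        push Not at hh
        exact hne (Equiv.ext hh)
      obtain ⟨x, hxS, hx1, hxz⟩ := hbig
      set u : Fin n → K := Pi.mulSingle (h i) x
      have huS : ∀ j, u j ∈ S := fun j => by
        by_cases hj : j = h i
        · subst hj; simp only [u, Pi.mulSingle_eq_same]; exact hxS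
        · simp only [u, Pi.mulSingle_eq_of_ne hj]; exact one_mem _
      have hmem : φ u * (ψ h * φ v) * (φ u)⁻¹ * (ψ h * φ v)⁻¹ ∈ E :=
        E.mul_mem (hE.normal _ (hbase u huS) _ he) (E.inv_mem he)
      have key : φ u * (ψ h * φ v) * (φ u)⁻¹ * (ψ h * φ v)⁻¹ = φ (u * ((v * u⁻¹ * v⁻¹) ∘ ⇑h⁻¹)) := by
        have e2 : ∀ y : Fin n → K, ψ h * φ y = φ (y ∘ ⇑h⁻¹) * ψ h := fun y => by
          rw [hc h (y ∘ ⇑h⁻¹)]
          exact congrArg (fun w => ψ h * φ w) (funext fun i => by simp)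
        rw [show φ u * (ψ h * φ v) * (φ u)⁻¹ * (ψ h * φ v)⁻¹ = φ u * (ψ h * (φ v * (φ u)⁻¹ * (φ v)⁻¹)) * (ψ h)⁻¹ by group,
          ← map_inv, ← map_inv, ← map_mul, ← map_mul, e2, ← mul_assoc, mul_inv_cancel_right, ← map_mul]
      rw [key] at hmem
      have hval := hproj _ hmem (h i)
      have hval' : (u * ((v * u⁻¹ * v⁻¹) ∘ ⇑h⁻¹)) (h i) = x := by
        simp [u, Pi.mulSingle_eq_of_ne (fun e => hi e.symm)]
      rw [hval'] at hval
      exact hval.elim hx1 hxz
    subst h1
    rw [map_one, one_mul] at he ⊢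
    exact ⟨v, rfl, hproj v he⟩
  choose f hf hfz using hin
  have hinj' : Function.Injective (fun e : E => fun i => decide (f e.1 e.2 i = 1)) := by
    intro a b hab
    apply Subtype.ext
    rw [← hf a.1 a.2, ← hf b.1 b.2]
    refine congrArg φ (funext fun i => ?_)
    have h := congrFun hab i
    simp only [decide_eq_decide] at h
    by_cases ha1 : f a.1 a.2 i = 1
    · rw [ha1, h.1 ha1]
    · rw [(hfz a.1 a.2 i).resolve_left ha1, (hfz b.1 b.2 i).resolve_left fun e => ha1 (h.2 e)]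
  have h := Nat.card_le_card_of_injective _ hinj'
  rwa [Nat.card_fun, Nat.card_fin, Nat.card_eq_fintype_card (α := Bool), Fintype.card_bool] at h

end wreath

/-- A direct factor of order two. -/
theorem best_prod {X Y : Type*} [Group X] [Group Y] [Finite X] {W : Subgroup X} {N : ℕ} (hB : Best W N) (y : Y)
    (hy1 : y ≠ 1) (hy2 : y * y = 1) (C : Subgroup Y) (hC : ∀ c, c ∈ C ↔ c = 1 ∨ c = y) :
    Best (W.prod C) (N + 1) := by
  obtain ⟨⟨E, hE, hc⟩, hle⟩ := hB
  have hC2 : Nat.card C = 2 := by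
    rw [Nat.card_eq_two_iff]
    refine ⟨⟨1, C.one_mem⟩, ⟨y, (hC y).2 (Or.inr rfl)⟩, fun h => hy1 (congrArg Subtype.val h).symm,
      Set.eq_univ_of_forall fun c => ?_⟩
    rcases (hC c.1).1 c.2 with h | h
    · exact Or.inl (Subtype.ext h)
    · exact Or.inr (Subtype.ext h)
  have hCc : ∀ a ∈ C, ∀ b ∈ C, a * b = b * a := by
    intro a ha b hb
    rcases (hC a).1 ha with e | e <;> rcases (hC b).1 hb with e' | e' <;> simp [e, e']
  refine ⟨⟨E.prod C, ⟨?_, ?_, ?_, ?_⟩, ?_⟩, fun E' hE' => ?_⟩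
  · rintro ⟨a, b⟩ ⟨ha, hb⟩; exact ⟨hE.le ha, hb⟩
  · rintro ⟨g, d⟩ ⟨hg, hd⟩ ⟨e, c⟩ ⟨he, hc'⟩
    refine ⟨hE.normal g hg e he, ?_⟩
    show d * c * d⁻¹ ∈ C
    rw [hCc d hd c hc', mul_inv_cancel_right]
    exact hc'
  · rintro ⟨a, b⟩ ⟨ha, hb⟩ ⟨a', b'⟩ ⟨ha', hb'⟩
    exact Prod.ext (hE.comm a ha a' ha') (hCc b hb b' hb')
  · rintro ⟨a, b⟩ ⟨ha, hb⟩
    refine Prod.ext (hE.sq a ha) ?_
    rcases (hC b).1 hb with e | e <;> simp [e, hy2]
  · rw [Nat.card_congr (E.prodEquiv C).toEquiv, Nat.card_prod, hC2, pow_succ]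
    exact Nat.mul_le_mul_right 2 hc
  · have hG : Good W (E'.map (MonoidHom.fst X Y)) := by
      refine ⟨?_, ?_, ?_, ?_⟩
      · rintro _ ⟨e, he, rfl⟩; exact (hE'.le he).1
      · rintro g hg _ ⟨e, he, rfl⟩
        exact ⟨(g, 1) * e * (g, 1)⁻¹, hE'.normal _ ⟨hg, C.one_mem⟩ e he, rfl⟩
      · rintro _ ⟨a, ha, rfl⟩ _ ⟨b, hb, rfl⟩
        rw [← map_mul, hE'.comm a ha b hb, map_mul]
      · rintro _ ⟨a, ha, rfl⟩
        rw [← map_mul, hE'.sq a ha, map_one]
    have hsub : Nat.card E' ≤ Nat.card ((E'.map (MonoidHom.fst X Y)).prod C) := by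
      haveI : Finite C := Nat.finite_of_card_ne_zero (by rw [hC2]; norm_num)
      haveI : Finite ((E'.map (MonoidHom.fst X Y)).prod C) := Finite.of_equiv _ (Subgroup.prodEquiv _ C).symm.toEquiv
      exact Subgroup.card_le_of_le fun e he => ⟨⟨e, he, rfl⟩, (hE'.le he).2⟩
    rw [Nat.card_congr (Subgroup.prodEquiv _ C).toEquiv, Nat.card_prod, hC2] at hsub
    rw [pow_succ]
    exact hsub.trans (Nat.mul_le_mul_right 2 (hle _ hG))

variable {F : Type*} [Field F] [Fintype F]

theorem negOne_ne (h2 : (2 : F) ≠ 0) : (-1 : F) ≠ 1 := fun h => h2 (by linear_combination -h)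

/-- In a Sylow subgroup of `GL₂`, `q ≡ 3 (mod 4)`, normal elementary abelian subgroups are scalar. -/
theorem sd_scalar (hF : Odd (Fintype.card F)) (hq : 4 ∣ Fintype.card F + 1) (P : Subgroup (GL (Fin 2) F))
    (hP : Nat.card P = 2 ^ (Nat.card (GL (Fin 2) F)).factorization 2) (A : Subgroup (GL (Fin 2) F))
    (hA : Good P A) : ∀ a ∈ A, a = 1 ∨ a = -1 := by
  classical
  haveI : Fact (Nat.Prime 2) := ⟨Nat.prime_two⟩
  have h2 : (2 : F) ≠ 0 := Classical.SL2Four.two_ne_zero_of_odd rfl hF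
  intro a ha
  by_contra hcon
  push Not at hcon
  set M := (a : Matrix (Fin 2) (Fin 2) F) with hM
  have hMM : M * M = 1 := congrArg Units.val (hA.sq a ha)
  -- eigenvectors
  obtain ⟨v, hv, hv0⟩ : ∃ v, M *ᵥ v = v ∧ v ≠ 0 := by
    by_contra hno
    push Not at hno
    apply hcon.2
    apply Units.ext
    show M = ((-1 : GL (Fin 2) F) : Matrix (Fin 2) (Fin 2) F)
    rw [Units.val_neg, Units.val_one]
    refine Matrix.toLin'.injective (LinearMap.ext fun x => ?_)
    simp only [Matrix.toLin'_apply, Matrix.neg_mulVec, Matrix.one_mulVec]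
    have := hno (M *ᵥ x + x) (by rw [Matrix.mulVec_add, Matrix.mulVec_mulVec, hMM, Matrix.one_mulVec, add_comm])
    exact eq_neg_of_add_eq_zero_left this
  obtain ⟨w, hw, hw0⟩ : ∃ w, M *ᵥ w = -w ∧ w ≠ 0 := by
    by_contra hno
    push Not at hno
    apply hcon.1
    apply Units.ext
    show M = 1
    refine Matrix.toLin'.injective (LinearMap.ext fun x => ?_)
    simp only [Matrix.toLin'_apply, Matrix.one_mulVec]
    have := hno (x - M *ᵥ x) (by rw [Matrix.mulVec_sub, Matrix.mulVec_mulVec, hMM, Matrix.one_mulVec, neg_sub])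
    exact (sub_eq_zero.1 this).symm
  have li : LinearIndependent F ![v, w] := by
    rw [LinearIndependent.pair_iff]
    intro s t hst
    have h1 := congrArg (fun y => M *ᵥ y) hst
    simp only [Matrix.mulVec_add, Matrix.mulVec_smul, hv, hw, Matrix.mulVec_zero, smul_neg] at h1
    have h3 : (2 * s) • v = 0 := by linear_combination (norm := module) hst + h1
    have hs : s = 0 := (mul_eq_zero.1 ((smul_eq_zero.1 h3).resolve_right hv0)).resolve_left h2
    rw [hs, zero_smul, zero_add, smul_eq_zero] at hst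
    exact ⟨hs, hst.resolve_right hw0⟩
  let Q0 : Matrix (Fin 2) (Fin 2) F := Matrix.of fun i j => ![v, w] j i
  have hQ : IsUnit Q0 := Matrix.linearIndependent_cols_iff_isUnit.1 li
  set Q := hQ.unit with hQdef
  have haQ : (a * Q : GL (Fin 2) F).val = Q0 * !![1, 0; 0, -1] := by
    rw [Units.val_mul, hQdef, IsUnit.unit_spec]
    ext i j
    have h1 : (M * Q0) i j = (M *ᵥ (![v, w] j)) i := rfl
    rw [← hM, h1]
    fin_cases j <;> fin_cases i <;> simp [hv, hw, Q0, Matrix.mul_apply, Fin.sum_univ_two]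
  obtain ⟨d, hd⟩ : ∃ d, d = Q⁻¹ * a * Q := ⟨_, rfl⟩
  have hdval : (d : Matrix (Fin 2) (Fin 2) F) = !![1, 0; 0, -1] := by
    rw [hd, mul_assoc, Units.val_mul, haQ, ← mul_assoc]
    have : ((Q⁻¹ : GL (Fin 2) F) : Matrix (Fin 2) (Fin 2) F) * Q0 = 1 := by
      rw [show Q0 = (Q : Matrix (Fin 2) (Fin 2) F) from hQ.unit_spec.symm, ← Units.val_mul, inv_mul_cancel,
        Units.val_one]
    rw [this, one_mul]
  set P' := P.map (MulAut.conj Q⁻¹).toMonoidHom with hP'
  have hA' := hA.map (MulAut.conj Q⁻¹).toMonoidHom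
  have hdA : d ∈ A.map (MulAut.conj Q⁻¹).toMonoidHom := ⟨a, ha, by simp [hd]⟩
  -- every element of `P'` is monomial
  have hmono : ∀ g ∈ P', ((g : Matrix (Fin 2) (Fin 2) F) 0 1 = 0 ∧ (g : Matrix (Fin 2) (Fin 2) F) 1 0 = 0) ∨
      ((g : Matrix (Fin 2) (Fin 2) F) 0 0 = 0 ∧ (g : Matrix (Fin 2) (Fin 2) F) 1 1 = 0) := by
    intro g hg
    have hc := hA'.normal g hg d hdA
    obtain ⟨c, hcdef⟩ : ∃ c, c = g * d * g⁻¹ := ⟨_, rfl⟩
    rw [← hcdef] at hc
    have hcd := congrArg Units.val (hA'.comm c hc d hdA)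
    have hcc := congrArg Units.val (hA'.sq c hc)
    rw [Units.val_mul, Units.val_mul, hdval] at hcd
    rw [Units.val_mul, Units.val_one] at hcc
    set C := (c : Matrix (Fin 2) (Fin 2) F) with hC
    have e01 := congrFun (congrFun hcd 0) 1
    have e10 := congrFun (congrFun hcd 1) 0
    simp [Matrix.mul_apply, Fin.sum_univ_two] at e01 e10
    have c01 : C 0 1 = 0 := (mul_eq_zero.1 (show (2 : F) * C 0 1 = 0 by linear_combination -e01)).resolve_left h2
    have c10 : C 1 0 = 0 := (mul_eq_zero.1 (show (2 : F) * C 1 0 = 0 by linear_combination e10)).resolve_left h2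
    have e00 := congrFun (congrFun hcc 0) 0
    simp [Matrix.mul_apply, Fin.sum_univ_two, c01] at e00
    have e11 := congrFun (congrFun hcc 1) 1
    simp [Matrix.mul_apply, Fin.sum_univ_two, c10] at e11
    have hgd : (g : Matrix (Fin 2) (Fin 2) F) * !![1, 0; 0, -1] = C * (g : Matrix (Fin 2) (Fin 2) F) := by
      rw [← hdval, hC, ← Units.val_mul, ← Units.val_mul, hcdef, inv_mul_cancel_right]
    have f00 := congrFun (congrFun hgd 0) 0
    have f01 := congrFun (congrFun hgd 0) 1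
    have f10 := congrFun (congrFun hgd 1) 0
    have f11 := congrFun (congrFun hgd 1) 1
    simp [Matrix.mul_apply, Fin.sum_univ_two, c01, c10] at f00 f01 f10 f11
    have hdg : (g : Matrix (Fin 2) (Fin 2) F).det ≠ 0 := by
      rw [← GeneralLinearGroup.val_det_apply]; exact Units.ne_zero _
    rw [Matrix.det_fin_two] at hdg
    rcases mul_self_eq_one_iff.1 e00 with h00 | h00
    · left
      have g01 : (g : Matrix (Fin 2) (Fin 2) F) 0 1 = 0 := by
        rw [h00, one_mul] at f01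
        exact (mul_eq_zero.1 (show (2 : F) * _ = 0 by linear_combination -f01)).resolve_left h2
      refine ⟨g01, ?_⟩
      rw [g01, zero_mul, sub_zero] at hdg
      rcases mul_self_eq_one_iff.1 e11 with h11 | h11
      · rw [h11, one_mul] at f11
        exact absurd ((mul_eq_zero.1 (show (2 : F) * _ = 0 by linear_combination -f11)).resolve_left h2)
          (right_ne_zero_of_mul hdg)
      · rw [h11] at f10
        exact (mul_eq_zero.1 (show (2 : F) * _ = 0 by linear_combination f10)).resolve_left h2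
    · right
      have g00 : (g : Matrix (Fin 2) (Fin 2) F) 0 0 = 0 := by
        rw [h00] at f00
        exact (mul_eq_zero.1 (show (2 : F) * _ = 0 by linear_combination f00)).resolve_left h2
      refine ⟨g00, ?_⟩
      rw [g00, zero_mul, zero_sub, neg_ne_zero] at hdg
      rcases mul_self_eq_one_iff.1 e11 with h11 | h11
      · rw [h11, one_mul] at f11
        exact (mul_eq_zero.1 (show (2 : F) * _ = 0 by linear_combination -f11)).resolve_left h2
      · rw [h11] at f10
        exact absurd ((mul_eq_zero.1 (show (2 : F) * _ = 0 by linear_combination f10)).resolve_left h2)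
          (right_ne_zero_of_mul hdg)
  -- so `P'` has order at most eight
  have hunit : (Fintype.card F - 1).factorization 2 = 1 := by
    have hq1 : 1 < Fintype.card F := Fintype.one_lt_card
    obtain ⟨k, hk⟩ : ∃ k, Fintype.card F - 1 = 2 * k ∧ ¬ 2 ∣ k := ⟨(Fintype.card F - 1) / 2, by omega, by omega⟩
    rw [hk.1, Nat.factorization_mul two_ne_zero (by omega), Finsupp.add_apply,
      Nat.prime_two.factorization_self, Nat.factorization_eq_zero_of_not_dvd hk.2]
  let D : Subgroup P' :=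
    { carrier := {g | (g.1 : Matrix (Fin 2) (Fin 2) F) 0 1 = 0 ∧ (g.1 : Matrix (Fin 2) (Fin 2) F) 1 0 = 0}
      one_mem' := by simp
      mul_mem' := by
        rintro g h ⟨a1, a2⟩ ⟨b1, b2⟩
        simp [Matrix.mul_apply, Fin.sum_univ_two, a1, a2, b1, b2]
      inv_mem' := by
        rintro g ⟨a1, a2⟩
        have e : (g.1 : Matrix (Fin 2) (Fin 2) F) * ((g⁻¹ : P').1 : Matrix (Fin 2) (Fin 2) F) = 1 := by
          rw [← Units.val_mul]; simp
        have hdg : (g.1 : Matrix (Fin 2) (Fin 2) F).det ≠ 0 := by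
          rw [← GeneralLinearGroup.val_det_apply]; exact Units.ne_zero _
        rw [Matrix.det_fin_two, a1, zero_mul, sub_zero] at hdg
        show ((g⁻¹ : P').1 : Matrix (Fin 2) (Fin 2) F) 0 1 = 0 ∧ ((g⁻¹ : P').1 : Matrix (Fin 2) (Fin 2) F) 1 0 = 0
        generalize ((g⁻¹ : P').1 : Matrix (Fin 2) (Fin 2) F) = R at e ⊢
        have e01 := congrFun (congrFun e 0) 1
        have e10 := congrFun (congrFun e 1) 0
        simp [Matrix.mul_apply, Fin.sum_univ_two, a1, a2] at e01 e10
        exact ⟨e01.resolve_left (left_ne_zero_of_mul hdg), e10.resolve_left (right_ne_zero_of_mul hdg)⟩ }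
  have hne : ∀ g : D, (g.1.1 : Matrix (Fin 2) (Fin 2) F) 0 0 ≠ 0 ∧ (g.1.1 : Matrix (Fin 2) (Fin 2) F) 1 1 ≠ 0 := by
    intro g
    have hdg : (g.1.1 : Matrix (Fin 2) (Fin 2) F).det ≠ 0 := by
      rw [← GeneralLinearGroup.val_det_apply]; exact Units.ne_zero _
    rw [Matrix.det_fin_two, g.2.1, zero_mul, sub_zero] at hdg
    exact ⟨left_ne_zero_of_mul hdg, right_ne_zero_of_mul hdg⟩
  let f : D →* Fˣ × Fˣ :=
    { toFun := fun g => (Units.mk0 _ (hne g).1, Units.mk0 _ (hne g).2)
      map_one' := by ext <;> simp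
      map_mul' := fun g h => by
        ext <;> simp [Matrix.mul_apply, Fin.sum_univ_two, g.2.1, g.2.2] }
  have hf : Function.Injective f := by
    intro g h hgh
    have h1 := congrArg (fun p : Fˣ × Fˣ => (p.1 : F)) hgh
    have h2 := congrArg (fun p : Fˣ × Fˣ => (p.2 : F)) hgh
    refine Subtype.ext (Subtype.ext (Units.ext ?_))
    ext i j
    fin_cases i <;> fin_cases j
    · exact h1
    · exact g.2.1.trans h.2.1.symm
    · exact g.2.2.trans h.2.2.symm
    · exact h2
  have hcardP' : Nat.card P' = 2 ^ (Nat.card (GL (Fin 2) F)).factorization 2 := by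
    rw [hP', Subgroup.card_map_of_injective (MulAut.conj Q⁻¹).injective, hP]
  have hD4 : Nat.card D ≤ 4 := by
    obtain ⟨k, hk⟩ := IsPGroup.iff_card.1 ((IsPGroup.of_card hcardP').to_subgroup D)
    have hd' : 2 ^ k ∣ Nat.card (Fˣ × Fˣ) := hk ▸ Subgroup.card_dvd_of_injective f hf
    rw [Nat.card_prod, Nat.card_units, Nat.card_eq_fintype_card] at hd'
    have hq1 : 1 < Fintype.card F := Fintype.one_lt_card
    have hk2 := (Nat.prime_two.pow_dvd_iff_le_factorization (Nat.mul_ne_zero (by omega) (by omega))).1 hd'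
    rw [Nat.factorization_mul (by omega) (by omega), Finsupp.add_apply, hunit] at hk2
    rw [hk]
    exact (Nat.pow_le_pow_right two_pos hk2).trans (by norm_num)
  have hidx : D.index ≤ 2 := by
    by_cases hall : D = ⊤
    · rw [hall, Subgroup.index_top]; omega
    obtain ⟨g₀, hg₀⟩ : ∃ g₀ : P', g₀ ∉ D := by
      by_contra hh; push Not at hh; exact hall ((Subgroup.eq_top_iff' D).2 hh)
    rw [Subgroup.index]
    have hs : Function.Surjective (fun b : Bool => if b then ((1 : P') : P' ⧸ D) else (g₀ : P' ⧸ D)) := by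
      intro x
      induction x using QuotientGroup.induction_on with | H y =>
      by_cases hy : y ∈ D
      · exact ⟨true, QuotientGroup.eq.2 (by simpa using hy)⟩
      · refine ⟨false, QuotientGroup.eq.2 ?_⟩
        have hgy := ((hmono _ y.2).resolve_left hy)
        have hgg := ((hmono _ g₀.2).resolve_left hg₀)
        set Y := (y.1 : Matrix (Fin 2) (Fin 2) F)
        set Gm := (g₀.1 : Matrix (Fin 2) (Fin 2) F)
        set R := ((g₀⁻¹ * y : P').1 : Matrix (Fin 2) (Fin 2) F) with hR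
        have e : Gm * R = Y := by
          rw [hR, ← Units.val_mul]
          simp
          rfl
        have hdg : Gm.det ≠ 0 := by
          rw [← GeneralLinearGroup.val_det_apply]; exact Units.ne_zero _
        rw [Matrix.det_fin_two, hgg.1, zero_mul, zero_sub, neg_ne_zero] at hdg
        have e00 := congrFun (congrFun e 0) 0
        have e11 := congrFun (congrFun e 1) 1
        simp [Matrix.mul_apply, Fin.sum_univ_two, hgg.1, hgg.2, hgy.1, hgy.2] at e00 e11
        exact ⟨e11.resolve_left (right_ne_zero_of_mul hdg), e00.resolve_left (left_ne_zero_of_mul hdg)⟩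
    exact (Nat.card_le_card_of_surjective _ hs).trans (by simp)
  have h8 : Nat.card P' ≤ 8 := by
    rw [← D.card_mul_index]
    exact (Nat.mul_le_mul hD4 hidx).trans (by norm_num)
  have h16 : 16 ≤ Nat.card P' := by
    have h1 := v_GL_even hF 1
    rw [Nat.factorial_one, Nat.factorization_one, one_mul, Finsupp.zero_apply, add_zero, hunit] at h1
    rw [hcardP', h1]
    have h3 : 3 ≤ (Fintype.card F ^ 2 - 1).factorization 2 := by
      have hq1 : 1 < Fintype.card F := Fintype.one_lt_card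
      refine (Nat.prime_two.pow_dvd_iff_le_factorization (by
        have : 1 < Fintype.card F ^ 2 := Nat.one_lt_pow (by omega) hq1
        omega)).1 ?_
      obtain ⟨k, hk⟩ := hq
      refine ⟨k * (2 * k - 1), ?_⟩
      have hk1 : 1 ≤ k := by omega
      obtain ⟨j, rfl⟩ : ∃ j, k = j + 1 := ⟨k - 1, by omega⟩
      rw [show Fintype.card F = 4 * j + 3 by omega, show 2 * (j + 1) - 1 = 2 * j + 1 by omega]
      have : (4 * j + 3) ^ 2 = 2 ^ 3 * ((j + 1) * (2 * j + 1)) + 1 := by ring
      omega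
    exact le_trans (by norm_num) (Nat.pow_le_pow_right two_pos (show 4 ≤ 1 + _ by omega))
  omega

/-- The upper bound when `q ≡ 1 (mod 4)`. -/
theorem rank_GL_le (hF : Odd (Fintype.card F)) (n : ℕ) (hn : 1 ≤ n) (E : Subgroup (GL (Fin n) F))
    (hc : ∀ a ∈ E, ∀ b ∈ E, a * b = b * a) (hs : ∀ a ∈ E, a * a = 1) : Nat.card E ≤ 2 ^ n := by
  classical
  have h2 : (2 : F) ≠ 0 := Classical.SL2Four.two_ne_zero_of_odd rfl hF
  let δ : E →* Fˣ := (GeneralLinearGroup.det : GL (Fin n) F →* Fˣ).comp E.subtype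
  have hker : Nat.card δ.ker ≤ 2 ^ (n - 1) := by
    let B : Subgroup (Matrix.SpecialLinearGroup (Fin n) F) := E.comap SpecialLinearGroup.toGL
    have hB := (Cfsg.Agent.S2233.result hF n hn).2 B
      ⟨⟨fun a b => Subtype.ext (SpecialLinearGroup.toGL_injective (by
        rw [Subgroup.coe_mul, Subgroup.coe_mul, map_mul, map_mul]; exact hc _ a.2 _ b.2))⟩⟩
      (fun a ha => SpecialLinearGroup.toGL_injective (by rw [map_pow, pow_two, map_one]; exact hs _ ha))
    refine le_trans ?_ hB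
    refine Nat.card_le_card_of_injective (fun x : δ.ker =>
      (⟨⟨((x.1.1 : GL (Fin n) F) : Matrix (Fin n) (Fin n) F), congrArg Units.val x.2⟩, ?_⟩ : B)) ?_
    · show SpecialLinearGroup.toGL _ ∈ E
      have e : SpecialLinearGroup.toGL ⟨((x.1.1 : GL (Fin n) F) : Matrix (Fin n) (Fin n) F),
          congrArg Units.val x.2⟩ = x.1.1 := Units.ext rfl
      rw [e]
      exact x.1.2
    · intro x y h
      exact Subtype.ext (Subtype.ext (Units.ext (congrArg (fun z : B => (z.1.1 : Matrix (Fin n) (Fin n) F)) h)))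
  have hrange : Nat.card δ.range ≤ 2 := by
    have hs' : ∀ u ∈ δ.range, u = 1 ∨ u = -1 := by
      rintro _ ⟨x, rfl⟩
      have h1 : δ x * δ x = 1 := by rw [← map_mul, show x * x = 1 from Subtype.ext (hs _ x.2), map_one]
      have h1' : ((δ x : Fˣ) : F) * ((δ x : Fˣ) : F) = 1 := by rw [← Units.val_mul, h1, Units.val_one]
      rcases mul_self_eq_one_iff.1 h1' with h | h
      · exact Or.inl (Units.ext h)
      · exact Or.inr (Units.ext (by rw [h, Units.val_neg, Units.val_one]))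
    have hinj : Function.Injective (fun u : δ.range => decide (u.1 = 1)) := by
      intro u v h
      simp only [decide_eq_decide] at h
      apply Subtype.ext
      by_cases hu : u.1 = 1
      · rw [hu, h.1 hu]
      · rw [(hs' _ u.2).resolve_left hu, (hs' _ v.2).resolve_left fun e => hu (h.2 e)]
    exact (Nat.card_le_card_of_injective _ hinj).trans (by simp)
  rw [← δ.ker.card_mul_index, Subgroup.index_ker]
  obtain ⟨k, rfl⟩ : ∃ k, n = k + 1 := ⟨n - 1, by omega⟩
  rw [pow_succ]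
  exact Nat.mul_le_mul hker hrange

/-- The case `q ≡ 1 (mod 4)`. -/
theorem case_one (hF : Odd (Fintype.card F)) (hq : 4 ∣ Fintype.card F - 1) (n : ℕ) (hn : 1 ≤ n) :
    ∃ W : Subgroup (GL (Fin n) F), Nat.card W = 2 ^ (Nat.card (GL (Fin n) F)).factorization 2 ∧ Best W n := by
  classical
  haveI : Fact (Nat.Prime 2) := ⟨Nat.prime_two⟩
  have h2 : (2 : F) ≠ 0 := Classical.SL2Four.two_ne_zero_of_odd rfl hF
  have hq1 : 1 < Fintype.card F := Fintype.one_lt_card
  obtain ⟨C⟩ : Nonempty (Sylow 2 Fˣ) := inferInstance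
  obtain ⟨T⟩ : Nonempty (Sylow 2 (Equiv.Perm (Fin n))) := inferInstance
  haveI : (C : Subgroup Fˣ).Normal := ⟨fun a ha g => by rw [mul_inv_cancel_comm]; exact ha⟩
  have hm1 : (-1 : Fˣ) ∈ (C : Subgroup Fˣ) := by
    have hp : IsPGroup 2 (Subgroup.zpowers (-1 : Fˣ)) := by
      rintro ⟨x, hx⟩
      obtain ⟨i, rfl⟩ := Subgroup.mem_zpowers_iff.1 hx
      refine ⟨1, Subtype.ext ?_⟩
      show ((-1 : Fˣ) ^ i) ^ 2 = 1
      rw [pow_two, ← Commute.mul_zpow (Commute.refl _), neg_mul_neg, one_mul, _root_.one_zpow]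
    haveI : (Subgroup.zpowers (-1 : Fˣ)).Normal := ⟨fun a ha g => by rw [mul_inv_cancel_comm]; exact ha⟩
    exact hp.le_sylow_of_normal C (Subgroup.mem_zpowers _)
  refine ⟨wr (phiD F n) (psiD F n) phi_psiD (C : Subgroup Fˣ) (T : Subgroup _), ?_, ?_, fun E hE =>
    rank_GL_le hF n hn E hE.comm hE.sq⟩
  · rw [card_wr _ _ _ psi_phiD_inj, C.card_eq_multiplicity, T.card_eq_multiplicity, Nat.card_units,
      Nat.card_perm, Nat.card_fin, Nat.card_eq_fintype_card, ← pow_mul, ← pow_add]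
    congr 1
    clear hn
    induction n with
    | zero => rw [show Nat.card (GL (Fin 0) F) = 1 from by rw [Matrix.card_GL_field]; simp]; simp
    | succ k ih =>
      obtain ⟨T'⟩ : Nonempty (Sylow 2 (Equiv.Perm (Fin k))) := inferInstance
      rw [v_GL_succ hF, ← ih T', Nat.factorial_succ, Nat.factorization_mul (by omega) (Nat.factorial_ne_zero k),
        Finsupp.add_apply]
      have hv : (Fintype.card F ^ (k + 1) - 1).factorization 2 =
          (Fintype.card F - 1).factorization 2 + (k + 1).factorization 2 := by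
        rcases Nat.even_or_odd (k + 1) with ⟨j, hj⟩ | hodd'
        · have e := sq_sub_one hF j (by omega)
          rw [← Nat.factorization_def _ Nat.prime_two, ← Nat.factorization_def _ Nat.prime_two,
            ← Nat.factorization_def _ Nat.prime_two, v_two_mul_succ hq] at e
          rw [show k + 1 = 2 * j by omega, e, Nat.factorization_mul two_ne_zero (by omega), Finsupp.add_apply,
            Nat.prime_two.factorization_self]
          ring
        · rw [v_odd_pow hF hodd', Nat.factorization_eq_zero_of_not_dvd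
            (fun h => Nat.not_even_iff_odd.2 hodd' (even_iff_two_dvd.2 h)), add_zero]
      rw [hv]
      ring
  · exact wr_lower _ _ _ psi_phiD_inj _ _ (-1) hm1 (fun h => negOne_ne h2 (by simpa using congrArg Units.val h))
      (by rw [neg_mul_neg, one_mul]) (fun x _ => mul_comm _ _)

/-- The case `q ≡ 3 (mod 4)`, even dimension. -/
theorem case_three (hF : Odd (Fintype.card F)) (hq : 4 ∣ Fintype.card F + 1) (m : ℕ) :
    ∃ W : Subgroup (GL (Fin (2 * m)) F), Nat.card W = 2 ^ (Nat.card (GL (Fin (2 * m)) F)).factorization 2 ∧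
      Best W m := by
  classical
  haveI : Fact (Nat.Prime 2) := ⟨Nat.prime_two⟩
  have h2 : (2 : F) ≠ 0 := Classical.SL2Four.two_ne_zero_of_odd rfl hF
  obtain ⟨P, hP, hrefl, -, -, -⟩ := exists_P2 hF hq
  obtain ⟨T⟩ : Nonempty (Sylow 2 (Equiv.Perm (Fin m))) := inferInstance
  have hPS : IsPGroup 2 P := IsPGroup.of_card hP
  have hz : (-1 : GL (Fin 2) F) ∈ P := by
    have hp : IsPGroup 2 (Subgroup.zpowers (-1 : GL (Fin 2) F)) := by
      rintro ⟨x, hx⟩
      obtain ⟨i, rfl⟩ := Subgroup.mem_zpowers_iff.1 hx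
      refine ⟨1, Subtype.ext ?_⟩
      show ((-1 : GL (Fin 2) F) ^ i) ^ 2 = 1
      rw [pow_two, ← Commute.mul_zpow (Commute.refl _), neg_mul_neg, one_mul, _root_.one_zpow]
    haveI : (Subgroup.zpowers (-1 : GL (Fin 2) F)).Normal := ⟨fun a ha g => by
      obtain ⟨i, rfl⟩ := Subgroup.mem_zpowers_iff.1 ha
      have hcm : Commute g (-1 : GL (Fin 2) F) := (Commute.one_right g).neg_right
      rw [(hcm.zpow_right i).eq, mul_inv_cancel_right]
      exact ⟨i, rfl⟩⟩
    exact hp.le_sylow_of_normal (Sylow.ofCard P hP) (Subgroup.mem_zpowers _)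
  have hne1 : (-1 : GL (Fin 2) F) ≠ 1 := fun h => negOne_ne h2 (by
    have h' := congrArg (fun M : GL (Fin 2) F => (M : Matrix (Fin 2) (Fin 2) F) 0 0) h
    simpa using h')
  let e : GL (Fin m ⊕ Fin m) F ≃* GL (Fin (2 * m)) F := Units.mapEquiv (Matrix.reindexAlgEquiv F F
    (finSumFinEquiv.trans (finCongr (two_mul m).symm))).toRingEquiv.toMulEquiv
  refine ⟨(wr (phiGL F m) (psiGL F m) phi_psiGL P (T : Subgroup _)).map e.toMonoidHom, ?_, ?_⟩
  · rw [Subgroup.card_map_of_injective (f := e.toMonoidHom) e.injective, card_wr_GL hF hP (by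
      rw [T.card_eq_multiplicity, Nat.card_perm, Nat.card_fin])]
  · refine Best.map _ e.injective ⟨wr_lower _ _ _ psi_phiGL_inj _ _ (-1) hz hne1 (by rw [neg_mul_neg, one_mul])
      (fun x _ => by rw [neg_mul, mul_neg, one_mul, mul_one]), fun E hE => ?_⟩
    refine wr_upper _ _ _ psi_phiGL_inj P _ (-1) ⟨refl2 F, hrefl, ?_, ?_⟩ (sd_scalar hF hq P hP) E hE
    · intro h
      have h' := congrArg (fun M : GL (Fin 2) F => (M : Matrix (Fin 2) (Fin 2) F) 0 0) h
      simp [refl2] at h'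
      exact negOne_ne h2 h'
    · intro h
      have h' := congrArg (fun M : GL (Fin 2) F => (M : Matrix (Fin 2) (Fin 2) F) 1 1) h
      simp [refl2] at h'
      exact negOne_ne h2 h'.symm

/-- One dimension more. -/
theorem case_three_odd (hF : Odd (Fintype.card F)) (hq : 4 ∣ Fintype.card F + 1) (m : ℕ) :
    ∃ W : Subgroup (GL (Fin (2 * m + 1)) F),
      Nat.card W = 2 ^ (Nat.card (GL (Fin (2 * m + 1)) F)).factorization 2 ∧ Best W (m + 1) := by
  classical
  obtain ⟨W, hW, hB⟩ := case_three hF hq m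
  have h2 : (2 : F) ≠ 0 := Classical.SL2Four.two_ne_zero_of_odd rfl hF
  let f : GL (Fin (2 * m)) F × Fˣ →* GL (Fin (2 * m + 1)) F := MonoidHom.toHomUnits
    { toFun := fun x => (Matrix.fromBlocks (x.1 : Matrix (Fin (2 * m)) (Fin (2 * m)) F) 0 0
        ((x.2 : F) • (1 : Matrix (Fin 1) (Fin 1) F))).submatrix finSumFinEquiv.symm finSumFinEquiv.symm
      map_one' := by simp [Matrix.fromBlocks_one, Matrix.submatrix_one_equiv]
      map_mul' := fun x y => by
        rw [Matrix.submatrix_mul_equiv, Matrix.fromBlocks_multiply]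
        simp [smul_smul, mul_comm] }
  have hf : Function.Injective f := by
    intro x y h
    have h1 := congrArg Units.val h
    have h2' : Matrix.fromBlocks (x.1 : Matrix (Fin (2 * m)) (Fin (2 * m)) F) 0 0
        ((x.2 : F) • (1 : Matrix (Fin 1) (Fin 1) F)) = Matrix.fromBlocks (y.1 : Matrix (Fin (2 * m)) (Fin (2 * m)) F) 0 0
        ((y.2 : F) • (1 : Matrix (Fin 1) (Fin 1) F)) := by
      ext i j
      have := congrFun (congrFun h1 (finSumFinEquiv i)) (finSumFinEquiv j)
      simpa [f] using this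
    rw [Matrix.fromBlocks_inj] at h2'
    refine Prod.ext (Units.ext h2'.1) (Units.ext ?_)
    simpa using congrFun (congrFun h2'.2.2.2 0) 0
  let C : Subgroup Fˣ :=
    { carrier := {c | c = 1 ∨ c = -1}
      one_mem' := Or.inl rfl
      mul_mem' := by rintro a b (rfl | rfl) (rfl | rfl) <;> simp
      inv_mem' := by rintro a (rfl | rfl) <;> simp }
  have hne : (-1 : Fˣ) ≠ 1 := fun h => negOne_ne h2 (by simpa using congrArg Units.val h)
  refine ⟨(W.prod C).map f, ?_, (best_prod hB (-1) hne (by simp) C fun c => Iff.rfl).map f hf⟩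
  have hC : Nat.card C = 2 := by
    rw [Nat.card_eq_two_iff]
    refine ⟨⟨1, Or.inl rfl⟩, ⟨-1, Or.inr rfl⟩, fun h => hne (congrArg Subtype.val h).symm,
      Set.eq_univ_of_forall fun c => ?_⟩
    rcases c.2 with h | h
    · exact Or.inl (Subtype.ext h)
    · exact Or.inr (Subtype.ext h)
  rw [Subgroup.card_map_of_injective hf, Nat.card_congr (W.prodEquiv C).toEquiv, Nat.card_prod, hW, hC,
    v_GL_succ hF, v_odd_pow hF ⟨m, rfl⟩]
  have hunit : (Fintype.card F - 1).factorization 2 = 1 := by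
    have hq1 : 1 < Fintype.card F := Fintype.one_lt_card
    obtain ⟨k, hk⟩ : ∃ k, Fintype.card F - 1 = 2 * k ∧ ¬ 2 ∣ k := ⟨(Fintype.card F - 1) / 2, by omega, by omega⟩
    rw [hk.1, Nat.factorization_mul two_ne_zero (by omega), Finsupp.add_apply,
      Nat.prime_two.factorization_self, Nat.factorization_eq_zero_of_not_dvd hk.2]
  rw [hunit, Nat.add_comm, pow_succ]

end Cfsg.Agent.Classical.NormalRank
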