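/-
Stabilisers of totally singular subspaces are maximal: the argument through unipotent radicals of point stabilisers.
-/
import Cfsg.Agent.Lib.Classical.LinBasic
import Cfsg.Agent.Lib.Classical.LinMaximal

set_option autoImplicit false
set_option linter.unusedSectionVars false

namespace Cfsg.Agent.Classical.Radical

open Matrix Cfsg.Geo
open Cfsg.Agent.Classical

variable {ι : Type} [Fintype ι] [DecidableEq ι] {F : Type*} [Field F]

/-- The setting: for each singular vector a family of elements fixing it, transitive away from its orthogonal. -/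
structure Data (G : Subgroup (GL ι F)) (f : (ι → F) → (ι → F) → F) (Sg : (ι → F) → Prop)
    (U : (ι → F) → GL ι F → Prop) : Prop where
  swap : ∀ x y, f x y = 0 → f y x = 0
  add_left : ∀ x y z, f (x + y) z = f x z + f y z
  add_right : ∀ x y z, f x (y + z) = f x y + f x z
  conj : ∀ g ∈ G, ∀ v h, U v h → U ((g : Matrix ι ι F) *ᵥ v) (g * h * g⁻¹)
  sing : ∀ g ∈ G, ∀ v, Sg v → Sg ((g : Matrix ι ι F) *ᵥ v)
  scale : ∀ (l : F) v h, l ≠ 0 → U v h → U (l • v) h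
  mem : ∀ v h, Sg v → U v h → h ∈ G
  trans : ∀ u v u', Sg u → Sg v → Sg u' → f u v ≠ 0 → f u' v ≠ 0 →
    ∃ (h : GL ι F) (l : F), U v h ∧ l ≠ 0 ∧ (h : Matrix ι ι F) *ᵥ u = l • u'
  add_sing : ∀ x u, Sg x → Sg u → f x u = 0 → Sg (x + u)
  nonorth : ∀ x, Sg x → x ≠ 0 → ∃ z, Sg z ∧ f x z ≠ 0
  gen : ∀ K : Subgroup (GL ι F), (∀ v, Sg v → v ≠ 0 → ∀ h, U v h → h ∈ K) → G ≤ K

variable {G : Subgroup (GL ι F)} {f : (ι → F) → (ι → F) → F} {Sg : (ι → F) → Prop} {U : (ι → F) → GL ι F → Prop}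

theorem f_zero (Δ : Data G f Sg U) (x : ι → F) : f x 0 = 0 := by
  have h := Δ.add_right x 0 0
  rw [add_zero] at h
  exact left_eq_add.mp h

/-- The radical of `v` lies in the group. -/
def Has (Sg : (ι → F) → Prop) (U : (ι → F) → GL ι F → Prop) (K : Subgroup (GL ι F)) (v : ι → F) : Prop :=
  Sg v ∧ ∀ h, U v h → h ∈ K

theorem has_map (Δ : Data G f Sg U) {K : Subgroup (GL ι F)} (hKG : K ≤ G) :
    ∀ k ∈ K, ∀ v, Has Sg U K v → Has Sg U K ((k : Matrix ι ι F) *ᵥ v) := by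
  intro k hk v hv
  refine ⟨Δ.sing k (hKG hk) v hv.1, fun h hh => ?_⟩
  have h1 := Δ.conj k⁻¹ (inv_mem (hKG hk)) _ h hh
  rw [gl_inv_mulVec_cancel, inv_inv] at h1
  have := mul_mem (mul_mem hk (hv.2 _ h1)) (inv_mem hk)
  rwa [show k * (k⁻¹ * h * k) * k⁻¹ = h by group] at this

/-- Two nonorthogonal radicals generate. -/
theorem le_of_pair (Δ : Data G f Sg U) {K : Subgroup (GL ι F)} (hKG : K ≤ G) {u v : ι → F} (hu : Has Sg U K u)
    (hv : Has Sg U K v) (huv : f u v ≠ 0) : G ≤ K := by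
  let P : (ι → F) → Prop := Has Sg U K
  have hPK := has_map Δ hKG
  have step : ∀ v u x, P v → P u → f u v ≠ 0 → Sg x → f x v ≠ 0 → P x := by
    intro v u x hv hu huv hx hxv
    obtain ⟨h, l, hh, hl, hhu⟩ := Δ.trans u v x hu.1 hv.1 hx huv hxv
    have h1 := hPK h (hv.2 h hh) u hu
    rw [hhu] at h1
    exact ⟨hx, fun y hy => h1.2 y (Δ.scale l x y hl hy)⟩
  have hsw : ∀ {x y : ι → F}, f x y ≠ 0 → f y x ≠ 0 := fun h e => h (Δ.swap _ _ e)
  refine Δ.gen K fun x hx hx0 => ?_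
  suffices P x from this.2
  obtain ⟨z, hz, hxz⟩ := Δ.nonorth x hx hx0
  by_cases hxv : f x v = 0
  swap
  · exact step v u x hv hu huv hx hxv
  by_cases hxu : f x u = 0
  swap
  · exact step u v x hu hv (hsw huv) hx hxu
  by_cases hzu : f z u = 0
  swap
  · exact step z u x (step u v z hu hv (hsw huv) hz hzu) hu (hsw hzu) hx hxz
  by_cases hzv : f z v = 0
  swap
  · exact step z v x (step v u z hv hu huv hz hzv) hv (hsw hzv) hx hxz
  have hw : P (x + u) :=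
    step v u _ hv hu huv (Δ.add_sing x u hx hu.1 hxu) (by rw [Δ.add_left, hxv, zero_add]; exact huv)
  have hzw : f z (x + u) ≠ 0 := by rw [Δ.add_right, hzu, add_zero]; exact hsw hxz
  have hvw : f v (x + u) ≠ 0 := by rw [Δ.add_right, Δ.swap _ _ hxv, zero_add]; exact hsw huv
  exact step z (x + u) x (step (x + u) v z hw hv hvw hz hzw) hw (hsw hzw) hx hxz

/-- The stabiliser of a totally singular subspace is maximal. -/
theorem isMaximal (Δ : Data G f Sg U) {W : Submodule F (ι → F)} (hW0 : W ≠ ⊥) (hWs : ∀ w ∈ W, Sg w)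
    (hWo : ∀ w ∈ W, ∀ w' ∈ W, f w w' = 0)
    (hstab : ∀ v ∈ W, ∀ h, U v h → h ∈ subspaceStabilizer W)
    (hmove : ∀ u, Sg u → u ∉ W → (∀ w ∈ W, f u w = 0) →
      ∃ h ∈ subspaceStabilizer W ⊓ G, f ((h : Matrix ι ι F) *ᵥ u) u ≠ 0)
    (hproper : ¬ G ≤ subspaceStabilizer W) :
    IsMaximalIn G (subspaceStabilizer W ⊓ G) := by
  refine ⟨lt_of_le_of_ne inf_le_right fun e => hproper (inf_eq_right.mp e),
    fun K hK hKG => or_iff_not_imp_left.mpr fun hne => le_antisymm hKG ?_⟩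
  obtain ⟨g, hg, hgn⟩ : ∃ g ∈ K, g ∉ subspaceStabilizer W := by
    by_contra hcon
    push Not at hcon
    exact hne (le_antisymm (le_inf hcon hKG) hK)
  let P : (ι → F) → Prop := Has Sg U K
  have hPW : ∀ w ∈ W, P w := fun w hw =>
    ⟨hWs w hw, fun h hh => hK ⟨hstab w hw h hh, Δ.mem w h (hWs w hw) hh⟩⟩
  have hPK := has_map Δ hKG
  obtain ⟨u, v, hu, hv, huv⟩ : ∃ u v, P u ∧ P v ∧ f u v ≠ 0 := by
    rw [mem_subspaceStabilizer_iff] at hgn
    push Not at hgn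
    obtain ⟨w, hw, hgw⟩ := hgn
    have hu := hPK g hg w (hPW w hw)
    by_cases h : ∀ w' ∈ W, f ((g : Matrix ι ι F) *ᵥ w) w' = 0
    · obtain ⟨m, hm, hmu⟩ := hmove _ hu.1 hgw h
      exact ⟨_, _, hPK m (hK hm) _ hu, hu, hmu⟩
    · push Not at h
      obtain ⟨w', hw', hne'⟩ := h
      exact ⟨_, _, hu, hPW w' hw', hne'⟩
  exact le_of_pair Δ hKG hu hv huv

end Cfsg.Agent.Classical.Radical
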