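/-
Stabilisers of totally singular subspaces in orthogonal groups.
-/
import Cfsg.Agent.Lib.Classical.RadicalStab
import Cfsg.Agent.Lib.Classical.OrthEvenBase
import Cfsg.Agent.Lib.Classical.OrthIndex
import Cfsg.Agent.Lib.Classical.SesqForm

set_option autoImplicit false
set_option linter.unusedSectionVars false

namespace Cfsg.Agent.Classical.Radical

open Matrix Module QuadraticMap Cfsg.Geo OCount
open Cfsg.Agent.Classical

variable {ι : Type} [Fintype ι] [DecidableEq ι] {F : Type*} [Field F] [Fintype F] {Q : QuadraticForm F (ι → F)}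

/-- An element of the radical attached to `v`. -/
def UQ (Q : QuadraticForm F (ι → F)) (v : ι → F) (h : GL ι F) : Prop :=
  ∃ y : ι → F, polar Q v y = 0 ∧
    ∀ x, (h : Matrix ι ι F) *ᵥ x = x + polar Q v x • y - (polar Q y x + Q y * polar Q v x) • v

theorem omega_polar {g : GL ι F} (hg : g ∈ omegaGL ⇑Q) (x y : ι → F) :
    polar Q ((g : Matrix ι ι F) *ᵥ x) ((g : Matrix ι ι F) *ᵥ y) = polar Q x y := by
  simp only [polar, ← Matrix.mulVec_add, ONotMax.omega_isometry hg]

/-- The root elements generate, given Witt index at least two. -/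
theorem omega_le_of_siegel (hQ : PND Q) (hn : 7 ≤ Fintype.card ι) {K : Subgroup (GL ι F)}
    (hK : ∀ v, Q v = 0 → v ≠ 0 → ∀ h, UQ Q v h → h ∈ K) : omegaGL ⇑Q ≤ K := by
  obtain ⟨e, f, W, he0, he, hf, hef, -, -, -⟩ := OEven.exists_pair_comp hQ (by omega)
  have hp : OCount.IsHPair Q (e, f) := ⟨he, hf, hef⟩
  have hR := OCount.finrank_comp (p := (e, f)) hp
  rw [Module.finrank_fintype_fun_eq_card] at hR
  have hRQ := OCount.res_pnd (p := (e, f)) hQ hp
  obtain ⟨u₀, -, hu₀, hQu₀⟩ := Cfsg.Agent.Small.QuadBasis.exists_singular (OCount.res Q (e, f))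
    (W := (⊤ : Submodule F ↥(OCount.comp Q (e, f)))) (by rw [finrank_top]; omega)
  obtain ⟨z₀, hp₀⟩ := OOmega.exists_pair hRQ hu₀ hQu₀
  rintro _ ⟨x, hx, rfl⟩
  rw [SetLike.mem_coe, OOmega.omega_eq_map, OOmega.commutator_eq_root_of_pair hQ
    (Or.inr (by rw [Module.finrank_fintype_fun_eq_card]; omega)) hp ⟨(u₀, z₀), hp₀⟩] at hx
  obtain ⟨y, hy, rfl⟩ := hx
  change (ORefl.toMat Q y).1 ∈ K
  induction hy using Subgroup.closure_induction with
  | mem y hy =>
    obtain ⟨a, b, ha, hb, -, hy⟩ := hy
    have happ : ∀ x, ((ORefl.toMat Q y).1 : Matrix ι ι F) *ᵥ x =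
        x + polar Q a x • b - (polar Q b x + Q b * polar Q a x) • a := fun x => by
      rw [ORefl.toMat_apply, hy, ORefl.siegel_apply]
    by_cases ha0 : a = 0
    · convert one_mem K
      refine gl_ext_mulVec fun x => ?_
      rw [happ, ha0, Units.val_one, Matrix.one_mulVec]
      simp
    · exact hK a ha ha0 _ ⟨b, hb, happ⟩
  | one => rw [map_one]; exact one_mem _
  | mul a b _ _ iha ihb => rw [map_mul, Subgroup.coe_mul]; exact mul_mem iha ihb
  | inv a _ iha => rw [map_inv, Subgroup.coe_inv]; exact inv_mem iha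

theorem quad_data (hQ : PND Q) (hn : 7 ≤ Fintype.card ι) :
    Data (omegaGL ⇑Q) (polar ⇑Q) (fun v => Q v = 0) (UQ Q) := by
  refine
    { swap := fun x y h => by rw [polar_comm]; exact h
      add_left := fun x y z => polar_add_left Q x y z
      add_right := fun x y z => polar_add_right Q x y z
      conj := ?_
      sing := fun g hg v hv => (ONotMax.omega_isometry hg v).trans hv
      scale := ?_
      mem := ?_
      trans := ?_
      add_sing := fun x u (hx : Q x = 0) (hu : Q u = 0) hxu => by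
        show Q (x + u) = 0
        rw [QuadraticMap.map_add ⇑Q, hx, hu, hxu, add_zero, add_zero]
      nonorth := ?_
      gen := fun K hK => omega_le_of_siegel hQ hn hK }
  · rintro g hg v h ⟨y, hy, hx⟩
    refine ⟨(g : Matrix ι ι F) *ᵥ y, (omega_polar hg v y).trans hy, fun x => ?_⟩
    obtain ⟨z, rfl⟩ : ∃ z, x = (g : Matrix ι ι F) *ᵥ z := ⟨_, (gl_mulVec_inv_cancel g x).symm⟩
    rw [gl_mul_mulVec, gl_mul_mulVec, gl_inv_mulVec_cancel, hx, omega_polar hg, omega_polar hg,
      ONotMax.omega_isometry hg, Matrix.mulVec_sub, Matrix.mulVec_add, Matrix.mulVec_smul, Matrix.mulVec_smul]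
  · rintro l v h hl ⟨y, hy, hx⟩
    refine ⟨l⁻¹ • y, by rw [polar_smul_left, polar_smul_right, hy, smul_zero, smul_zero], fun x => ?_⟩
    rw [hx, polar_smul_left, polar_smul_left, QuadraticMap.map_smul]
    simp only [smul_eq_mul]
    match_scalars <;> field_simp <;> ring
  · rintro v h hv ⟨y, hy, hx⟩
    obtain ⟨g, hg, hgx⟩ := ONotMax.exists_siegel hQ (by omega) hv hy
    rwa [show h = g from gl_ext_mulVec fun x => by rw [hx, hgx]]
  · intro u v u' (hu : Q u = 0) (hv : Q v = 0) (hu' : Q u' = 0) huv hu'v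
    obtain ⟨β, hβ⟩ : ∃ β, β = polar Q u v := ⟨_, rfl⟩
    obtain ⟨l, hl⟩ : ∃ l, l = β / polar Q u' v := ⟨_, rfl⟩
    obtain ⟨d, hd⟩ : ∃ d, d = l • u' - u := ⟨_, rfl⟩
    rw [← hβ] at huv
    have hdv : polar Q v d = 0 := by
      rw [hd, polar_sub_right, polar_smul_right, polar_comm Q v u', polar_comm Q v u, ← hβ, smul_eq_mul, hl,
        div_mul_cancel₀ _ hu'v, sub_self]
    have hy : polar Q v (β⁻¹ • d) = 0 := by rw [polar_smul_right, hdv, smul_zero]
    obtain ⟨g, hg, hgx⟩ := ONotMax.exists_siegel hQ (by omega) hv hy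
    refine ⟨g, l, ⟨β⁻¹ • d, hy, hgx⟩, by rw [hl]; exact div_ne_zero huv hu'v, ?_⟩
    have hdd : Q (u + d) = 0 := by rw [hd, add_sub_cancel, QuadraticMap.map_smul, hu', smul_zero]
    rw [QuadraticMap.map_add ⇑Q, hu, zero_add] at hdd
    rw [hgx, polar_comm Q v u, ← hβ, QuadraticMap.map_smul, polar_smul_left, polar_comm Q d u]
    simp only [smul_eq_mul]
    rw [show l • u' = u + d by rw [hd]; abel,
      show β⁻¹ * polar Q u d + β⁻¹ * β⁻¹ * Q d * β = β⁻¹ * (Q d + polar Q u d) by field_simp; ring, hdd, mul_zero,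
      zero_smul, sub_zero, smul_smul, mul_inv_cancel₀ huv, one_smul]
  · intro x _ hx0
    obtain ⟨e, he, hne⟩ := OEven.exists_singular_not_perp hQ (by omega) hx0
    exact ⟨e, he, by rw [polar_comm]; exact hne⟩

/-- The stabiliser of a totally singular subspace is maximal. -/
theorem isMaximal_quad (hQ : PND Q) (hn : 7 ≤ Fintype.card ι) {W : Submodule F (ι → F)} (hW0 : W ≠ ⊥)
    (hW : IsTotallySingularQuad ⇑Q W)
    (hbig : ∀ u, Q u = 0 → u ∉ W → (∀ w ∈ W, polar Q u w = 0) → 2 * (finrank F W + 1) < Fintype.card ι) :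
    IsMaximalIn (omegaGL ⇑Q) (subspaceStabilizer W ⊓ omegaGL ⇑Q) := by
  have hWo : ∀ w ∈ W, ∀ w' ∈ W, polar Q w w' = 0 := fun w hw w' hw' => by
    rw [polar, hW _ (add_mem hw hw'), hW w hw, hW w' hw', sub_zero, sub_zero]
  have hf : IsReflexForm (RingEquiv.refl F) 1 (polar ⇑Q) :=
    ⟨⟨fun x y v => polar_add_left Q x y v, fun c x v => polar_smul_left Q c x v, fun v x y => polar_add_right Q v x y,
      fun c v x => polar_smul_right Q c v x⟩, fun u v => by rw [one_mul]; exact polar_comm Q v u, fun x => rfl,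
      fun v hv => by
        obtain ⟨x, hx⟩ : ∃ x, polar Q v x ≠ 0 := by
          by_contra hcon
          push Not at hcon
          exact hv (hQ v hcon)
        exact ⟨⟨x, by rw [polar_comm]; exact hx⟩, ⟨x, hx⟩⟩⟩
  refine isMaximal (quad_data hQ hn) hW0 (fun w hw => hW w hw) hWo (fun v hv h hh => ?_) (fun u hu huW huo => ?_) ?_
  · obtain ⟨y, -, hx⟩ := hh
    refine mem_subspaceStabilizer_iff.mpr fun w hw => ?_
    rw [hx, hWo v hv w hw, zero_smul, add_zero]
    exact sub_mem hw (W.smul_mem _ hv)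
  · obtain ⟨a₀, ha₀, hua⟩ : ∃ a ∈ hf.perp W, polar Q u a ≠ 0 := by
      by_contra hcon
      push Not at hcon
      exact huW (hf.perp_perp W ▸ (show u ∈ hf.perp (hf.perp W) from hcon))
    obtain ⟨a, ha⟩ : ∃ a, a = a₀ + (-Q a₀ / polar Q u a₀) • u := ⟨_, rfl⟩
    have haQ : Q a = 0 := by
      rw [ha, QuadraticMap.map_add ⇑Q, QuadraticMap.map_smul, hu, smul_zero, add_zero, polar_smul_right, polar_comm Q a₀ u,
        smul_eq_mul, div_mul_cancel₀ _ hua, add_neg_cancel]
    have hau : polar Q a u ≠ 0 := by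
      rw [ha, polar_add_left, polar_smul_left, polar_self, hu, smul_zero, smul_zero, add_zero, polar_comm]; exact hua
    have haW : ∀ w ∈ W, polar Q a w = 0 := fun w hw => by
      rw [ha, polar_add_left, polar_smul_left, ha₀ w hw, huo w hw, smul_zero, add_zero]
    -- an anisotropic vector orthogonal to `W`, `a` and `u`
    obtain ⟨y, hy, hQy⟩ : ∃ y ∈ hf.perp (W ⊔ Submodule.span F {a} ⊔ Submodule.span F {u}), Q y ≠ 0 := by
      by_contra hcon
      push Not at hcon
      have hle : hf.perp (W ⊔ Submodule.span F {a} ⊔ Submodule.span F {u}) ≤ W := fun y hy => by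
        rw [← hf.perp_perp W]
        intro z hz
        have hya : polar Q y a = 0 := hy a (Submodule.mem_sup_left (Submodule.mem_sup_right (Submodule.mem_span_singleton_self a)))
        have hyu : polar Q y u = 0 := hy u (Submodule.mem_sup_right (Submodule.mem_span_singleton_self u))
        obtain ⟨z', hz'⟩ : ∃ z', z' = z - (polar Q z u / polar Q a u) • a - (polar Q z a / polar Q u a) • u :=
          ⟨_, rfl⟩
        have hz'p : z' ∈ hf.perp (W ⊔ Submodule.span F {a} ⊔ Submodule.span F {u}) := by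
          intro v hv
          obtain ⟨v', hv', v₂, hv₂, rfl⟩ := Submodule.mem_sup.mp hv
          obtain ⟨w, hw, v₁, hv₁, rfl⟩ := Submodule.mem_sup.mp hv'
          obtain ⟨r, rfl⟩ := Submodule.mem_span_singleton.mp hv₁
          obtain ⟨r', rfl⟩ := Submodule.mem_span_singleton.mp hv₂
          have hua' : polar Q u a ≠ 0 := by rw [polar_comm]; exact hau
          simp only [hz', polar_sub_left, polar_smul_left, polar_add_right, polar_smul_right, hz w hw, haW w hw,
            huo w hw, polar_self, hu, haQ, smul_zero, smul_eq_mul, add_zero, zero_add]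
          field_simp
          ring
        have h1 : Q (y + z') = 0 := hcon _ (add_mem hy hz'p)
        rw [QuadraticMap.map_add ⇑Q, hcon y hy, hcon z' hz'p, zero_add, zero_add] at h1
        rw [show z = z' + (polar Q z u / polar Q a u) • a + (polar Q z a / polar Q u a) • u by rw [hz']; abel,
          polar_add_right, polar_add_right, polar_smul_right, polar_smul_right, h1, hya, hyu, smul_zero, smul_zero,
          add_zero, add_zero]
      have h1 := hf.finrank_perp (W ⊔ Submodule.span F {a} ⊔ Submodule.span F {u})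
      have h2 := Submodule.finrank_mono hle
      have h3 := Submodule.finrank_add_le_finrank_add_finrank (W ⊔ Submodule.span F {a}) (Submodule.span F {u})
      have h4 := Submodule.finrank_add_le_finrank_add_finrank W (Submodule.span F {a})
      rw [finrank_span_singleton (show a ≠ 0 from fun e => hau (by rw [e, polar_zero_left]))] at h4
      rw [finrank_span_singleton (show u ≠ 0 from fun e => huW (e ▸ W.zero_mem))] at h3
      have := hbig u hu huW huo
      omega
    have hay : polar Q a y = 0 := by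
      rw [polar_comm]; exact hy a (Submodule.mem_sup_left (Submodule.mem_sup_right (Submodule.mem_span_singleton_self a)))
    have hyu : polar Q y u = 0 := hy u (Submodule.mem_sup_right (Submodule.mem_span_singleton_self u))
    obtain ⟨g, hg, hgx⟩ := ONotMax.exists_siegel hQ (by omega) haQ hay
    refine ⟨g, ⟨mem_subspaceStabilizer_iff.mpr fun w hw => ?_, hg⟩, ?_⟩
    · rw [hgx, haW w hw, show polar Q y w = 0 from hy w (Submodule.mem_sup_left (Submodule.mem_sup_left hw))]
      simp [hw]
    · rw [hgx, polar_sub_left, polar_add_left, polar_smul_left, polar_smul_left, polar_self, hu, hyu]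
      simp only [smul_zero, zero_add, zero_sub, smul_eq_mul, mul_zero]
      exact neg_ne_zero.mpr (mul_ne_zero (mul_ne_zero hQy hau) hau)
  · intro hle
    rcases OEven.eq_bot_or_top_of_fixCodim hQ (by omega) (W := W)
      (fun g hg _ x hx => mem_subspaceStabilizer_iff.mp (hle hg) x hx) with h | h
    · exact hW0 h
    · obtain ⟨w, hw, hw0⟩ := Submodule.exists_mem_ne_zero_of_ne_bot hW0
      exact hw0 (hQ w fun x => hWo w hw x (h ▸ Submodule.mem_top))

end Cfsg.Agent.Classical.Radical
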