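/-
Orthogonal decompositions into non-degenerate members of dimension at least three: elements of `Ω` inside the
stabiliser, and the parameters available at a singular centre.
-/
import Cfsg.Agent.Lib.Classical.RadicalQuad
import Cfsg.Agent.Lib.Classical.OrthNotMax
import Cfsg.Agent.Lib.Classical.OrthogonalGroup

set_option autoImplicit false
set_option linter.unusedSectionVars false
set_option linter.style.haveILetI false

namespace Cfsg.Agent.Classical.ODecomp

open Matrix Module QuadraticMap Cfsg.Geo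
open Cfsg.Agent.Classical
open Cfsg.Agent.Classical.OCount (PND)

variable {ι : Type} [Fintype ι] [DecidableEq ι] {F : Type*} [Field F] [Fintype F]
  {Q : QuadraticForm F (ι → F)} {t k : ℕ} {D : Fin t → Submodule F (ι → F)} {K : Subgroup (GL ι F)}

local notation "Gl" => GL ι F
local notation "Vn" => ι → F
local notation "⟪" x ", " y "⟫" => QuadraticMap.polar (DFunLike.coe Q) x y
local notation:max g:max " ⬝ₘ " x:max => ((g : Gl) : Matrix ι ι F) *ᵥ x

/-- The setting. -/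
structure Setup (Q : QuadraticForm F (ι → F)) (k : ℕ) (D : Fin t → Submodule F (ι → F))
    (K : Subgroup (GL ι F)) : Prop where
  nd : IsNondegenerateQuadraticForm (⇑Q)
  pnd : PND Q
  two : (2 : F) ≠ 0
  big : 7 ≤ Fintype.card ι
  decomp : IsOrthogonalMDecomposition (⇑Q) k D
  three : 3 ≤ k
  excl : ¬ (Fintype.card F = 3 ∧ k = 3)
  le : decompositionStabilizer D ⊓ omegaGL ⇑Q ≤ K
  le_omega : K ≤ omegaGL ⇑Q

/-- The Eichler element with centre `a` and parameter `y` lies in the group. -/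
def InE (Q : QuadraticForm F (ι → F)) (K : Subgroup (GL ι F)) (a y : ι → F) : Prop :=
  ∃ g ∈ K, ∀ x, (g : Matrix ι ι F) *ᵥ x = eichler (⇑Q) a y x

/-- All multiples of the parameter are available at the centre. -/
def Par (Q : QuadraticForm F (ι → F)) (K : Subgroup (GL ι F)) (v y : ι → F) : Prop :=
  QuadraticMap.polar (⇑Q) v y = 0 ∧ ∀ s : F, InE Q K v (s • y)

/-- The component of a vector in a member. -/
def Comp (Q : QuadraticForm F (ι → F)) (D : Fin t → Submodule F (ι → F)) (i : Fin t) (x c : ι → F) : Prop :=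
  c ∈ D i ∧ ∀ u ∈ D i, QuadraticMap.polar (⇑Q) x u = QuadraticMap.polar (⇑Q) c u

variable (S : Setup Q k D K)

include S

theorem self_eq (x : Vn) : ⟪x, x⟫ = 2 * Q x := by
  rw [QuadraticMap.polar_self, nsmul_eq_mul, Nat.cast_ofNat]

theorem self_zero {x : Vn} (h : Q x = 0) : ⟪x, x⟫ = 0 := by rw [self_eq S, h, mul_zero]

theorem swap0 {x y : Vn} (h : ⟪x, y⟫ = 0) : ⟪y, x⟫ = 0 := by rw [polar_comm]; exact h

theorem orth {i j : Fin t} (h : i ≠ j) {x y : Vn} (hx : x ∈ D i) (hy : y ∈ D j) : ⟪x, y⟫ = 0 :=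
  S.decomp.decomp.orthogonal i j h x hx y hy

theorem nondeg {i : Fin t} {x : Vn} (hx : x ∈ D i) (hx0 : x ≠ 0) : ∃ z ∈ D i, ⟪x, z⟫ ≠ 0 := by
  obtain ⟨z, hz⟩ := (S.decomp.decomp.nondegenerate i x hx hx0).2
  exact ⟨z, hz⟩

theorem eq_of_comp {i : Fin t} {x c c' : Vn} (h : Comp Q D i x c) (h' : Comp Q D i x c') : c = c' := by
  by_contra hne
  obtain ⟨z, hz, hne'⟩ := nondeg S (sub_mem h.1 h'.1) (sub_ne_zero.mpr hne)
  rw [polar_sub_left, ← h.2 z hz, ← h'.2 z hz, sub_self] at hne'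
  exact hne' rfl

theorem components (x : Vn) : ∃ c : Fin t → Vn, (∀ a, c a ∈ D a) ∧ ∑ a, c a = x := by
  classical
  have h : x ∈ ⨆ a, D a := by rw [S.decomp.decomp.decomp.iSup_eq_top]; exact Submodule.mem_top
  obtain ⟨f, hf⟩ := (Submodule.mem_iSup_iff_exists_dfinsupp' D x).mp h
  refine ⟨fun a => f a, fun a => (f a).2, ?_⟩
  rw [← hf, DFinsupp.sum]
  refine (Finset.sum_subset (Finset.subset_univ _) fun a _ ha => ?_).symm
  rw [DFinsupp.notMem_support_iff] at ha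
  rw [ha, Submodule.coe_zero]

theorem polar_sum (s : Finset (Fin t)) (c : Fin t → Vn) (z : Vn) : ⟪∑ a ∈ s, c a, z⟫ = ∑ a ∈ s, ⟪c a, z⟫ := by
  induction s using Finset.cons_induction with
  | empty => simp
  | cons a s ha ih => rw [Finset.sum_cons, polar_add_left, ih, Finset.sum_cons]

theorem comp_sum {c : Fin t → Vn} (hc : ∀ a, c a ∈ D a) (i : Fin t) : Comp Q D i (∑ a, c a) (c i) :=
  ⟨hc i, fun u hu => by
    rw [polar_sum S]
    exact Finset.sum_eq_single i (fun b _ hb => orth S hb (hc b) hu) fun h => absurd (Finset.mem_univ _) h⟩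

theorem exists_comp (i : Fin t) (x : Vn) : ∃ c, Comp Q D i x c := by
  obtain ⟨c, hc, rfl⟩ := components S x
  exact ⟨c i, comp_sum S hc i⟩

theorem comp_self {i : Fin t} {x : Vn} (hx : x ∈ D i) : Comp Q D i x x := ⟨hx, fun _ _ => rfl⟩

theorem comp_other {i j : Fin t} (h : i ≠ j) {x : Vn} (hx : x ∈ D j) : Comp Q D i x 0 :=
  ⟨zero_mem _, fun u hu => by rw [orth S h.symm hx hu, polar_zero_left]⟩

theorem comp_add {i : Fin t} {x y c d : Vn} (hx : Comp Q D i x c) (hy : Comp Q D i y d) :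
    Comp Q D i (x + y) (c + d) :=
  ⟨add_mem hx.1 hy.1, fun u hu => by rw [polar_add_left, polar_add_left, hx.2 u hu, hy.2 u hu]⟩

theorem comp_smul {i : Fin t} {x c : Vn} (r : F) (hx : Comp Q D i x c) : Comp Q D i (r • x) (r • c) :=
  ⟨(D i).smul_mem r hx.1, fun u hu => by rw [polar_smul_left, polar_smul_left, hx.2 u hu]⟩

theorem comp_sub {i : Fin t} {x y c d : Vn} (hx : Comp Q D i x c) (hy : Comp Q D i y d) :
    Comp Q D i (x - y) (c - d) :=
  ⟨sub_mem hx.1 hy.1, fun u hu => by rw [polar_sub_left, polar_sub_left, hx.2 u hu, hy.2 u hu]⟩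

/-- If all components vanish the vector vanishes. -/
theorem eq_zero_of_comp {x : Vn} (h : ∀ i, Comp Q D i x 0) : x = 0 := by
  obtain ⟨c, hc, rfl⟩ := components S x
  exact Finset.sum_eq_zero fun i _ => (eq_of_comp S (comp_sum S hc i) (h i))

theorem mem_of_comp {i : Fin t} {x : Vn} (h : ∀ l, l ≠ i → Comp Q D l x 0) : x ∈ D i := by
  obtain ⟨c, hc⟩ := exists_comp S i x
  have : x - c = 0 := eq_zero_of_comp S fun l => by
    by_cases hl : l = i
    · subst hl; simpa using comp_sub S hc (comp_self S hc.1)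
    · simpa using comp_sub S (h l hl) (comp_other S hl hc.1)
  rw [sub_eq_zero.mp this]
  exact hc.1

/-! ### Inside a member -/

theorem finrank_member (i : Fin t) : finrank F (D i) = k := S.decomp.decomp.decomp.finrank_eq i

theorem ne_span {i : Fin t} (s : Finset Vn) (hs : s.card < k) : ¬ D i ≤ Submodule.span F (s : Set Vn) := fun h => by
  have h1 := Submodule.finrank_mono h
  have h2 := finrank_span_finset_le_card (R := F) s
  rw [Set.finrank] at h2
  rw [finrank_member S] at h1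
  omega

/-- An anisotropic vector of a member. -/
theorem exists_aniso (i : Fin t) : ∃ a ∈ D i, Q a ≠ 0 := by
  by_contra hcon
  push Not at hcon
  have hbot : D i ≠ ⊥ := fun e => by
    have := finrank_member S i; rw [e, finrank_bot] at this; have := S.three; omega
  obtain ⟨x, hx, hx0⟩ := Submodule.exists_mem_ne_zero_of_ne_bot hbot
  obtain ⟨z, hz, hne⟩ := nondeg S hx hx0
  exact hne (by rw [polar, hcon _ (add_mem hx hz), hcon x hx, hcon z hz]; ring)

/-- An anisotropic vector orthogonal to given anisotropic orthogonal vectors. -/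
theorem exists_aniso_perp {i : Fin t} {c : Vn} (hc : c ∈ D i) (hcc : Q c ≠ 0) :
    ∃ a ∈ D i, ⟪c, a⟫ = 0 ∧ Q a ≠ 0 := by
  classical
  obtain ⟨x, hx, hxs⟩ := SetLike.not_le_iff_exists.mp
    (ne_span S (i := i) {c} (by rw [Finset.card_singleton]; have := S.three; omega))
  rw [Finset.coe_singleton] at hxs
  have hp : ∀ y, ⟪c, y - (⟪c, y⟫ / (2 * Q c)) • c⟫ = 0 := fun y => by
    rw [polar_sub_right, polar_smul_right, self_eq S, smul_eq_mul,
      div_mul_cancel₀ _ (mul_ne_zero S.two hcc), sub_self]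
  obtain ⟨p, hp'⟩ : ∃ p, p = x - (⟪c, x⟫ / (2 * Q c)) • c := ⟨_, rfl⟩
  have hpD : p ∈ D i := hp' ▸ sub_mem hx ((D i).smul_mem _ hc)
  have hpc : ⟪c, p⟫ = 0 := hp' ▸ hp x
  have hp0 : p ≠ 0 := fun e => hxs (by
    rw [hp', sub_eq_zero] at e; rw [e]; exact Submodule.smul_mem _ _ (Submodule.mem_span_singleton_self c))
  by_cases hpp : Q p = 0
  swap
  · exact ⟨p, hpD, hpc, hpp⟩
  obtain ⟨z, hz, hne⟩ := nondeg S hpD hp0
  obtain ⟨z', hz'⟩ : ∃ z', z' = z - (⟪c, z⟫ / (2 * Q c)) • c := ⟨_, rfl⟩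
  have hz'D : z' ∈ D i := hz' ▸ sub_mem hz ((D i).smul_mem _ hc)
  have hz'c : ⟪c, z'⟫ = 0 := hz' ▸ hp z
  have hne' : ⟪p, z'⟫ ≠ 0 := by
    rw [hz', polar_sub_right, polar_smul_right, swap0 S hpc, smul_zero, sub_zero]; exact hne
  by_cases hzz : Q z' = 0
  swap
  · exact ⟨z', hz'D, hz'c, hzz⟩
  refine ⟨p + z', add_mem hpD hz'D, by rw [polar_add_right, hpc, hz'c, add_zero], ?_⟩
  rw [QuadraticMap.map_add ⇑Q, hpp, hzz, zero_add, zero_add]
  exact hne'

theorem exists_aniso_perp₂ {i : Fin t} {c a : Vn} (hc : c ∈ D i) (ha : a ∈ D i) (hcc : Q c ≠ 0) (haa : Q a ≠ 0)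
    (hca : ⟪c, a⟫ = 0) : ∃ a' ∈ D i, ⟪c, a'⟫ = 0 ∧ ⟪a, a'⟫ = 0 ∧ Q a' ≠ 0 := by
  classical
  obtain ⟨x, hx, hxs⟩ := SetLike.not_le_iff_exists.mp
    (ne_span S (i := i) {c, a} (Finset.card_le_two.trans_lt (by have := S.three; omega)))
  rw [Finset.coe_insert, Finset.coe_singleton] at hxs
  obtain ⟨P, hP⟩ : ∃ P : Vn → Vn, P = fun y => y - (⟪c, y⟫ / (2 * Q c)) • c - (⟪a, y⟫ / (2 * Q a)) • a := ⟨_, rfl⟩
  have hP1 : ∀ y, ⟪c, P y⟫ = 0 ∧ ⟪a, P y⟫ = 0 := fun y => by
    simp only [hP, polar_sub_right, polar_smul_right, self_eq S, smul_eq_mul, hca, swap0 S hca, mul_zero, sub_zero,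
      div_mul_cancel₀ _ (mul_ne_zero S.two hcc), div_mul_cancel₀ _ (mul_ne_zero S.two haa), sub_self, and_self]
  have hPD : ∀ y ∈ D i, P y ∈ D i := fun y hy => by
    rw [hP]; exact sub_mem (sub_mem hy ((D i).smul_mem _ hc)) ((D i).smul_mem _ ha)
  have hp0 : P x ≠ 0 := fun e => hxs (by
    rw [hP, sub_eq_zero, sub_eq_iff_eq_add] at e
    rw [e]
    exact add_mem (Submodule.smul_mem _ _ (Submodule.subset_span (by simp)))
      (Submodule.smul_mem _ _ (Submodule.subset_span (by simp))))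
  by_cases hpp : Q (P x) = 0
  swap
  · exact ⟨P x, hPD x hx, (hP1 x).1, (hP1 x).2, hpp⟩
  obtain ⟨z, hz, hne⟩ := nondeg S (hPD x hx) hp0
  have hne' : ⟪P x, P z⟫ ≠ 0 := by
    have e : P z = z - (⟪c, z⟫ / (2 * Q c)) • c - (⟪a, z⟫ / (2 * Q a)) • a := by rw [hP]
    rw [e, polar_sub_right, polar_sub_right, polar_smul_right, polar_smul_right, swap0 S (hP1 x).1, swap0 S (hP1 x).2,
      smul_zero, smul_zero, sub_zero, sub_zero]
    exact hne
  by_cases hzz : Q (P z) = 0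
  swap
  · exact ⟨P z, hPD z hz, (hP1 z).1, (hP1 z).2, hzz⟩
  refine ⟨P x + P z, add_mem (hPD x hx) (hPD z hz), by rw [polar_add_right, (hP1 x).1, (hP1 z).1, add_zero],
    by rw [polar_add_right, (hP1 x).2, (hP1 z).2, add_zero], ?_⟩
  rw [QuadraticMap.map_add ⇑Q, hpp, hzz, zero_add, zero_add]
  exact hne'

/-- Every value is taken orthogonally to an anisotropic vector. -/
theorem exists_value_perp {i : Fin t} {c : Vn} (hc : c ∈ D i) (hcc : Q c ≠ 0) (r : F) :
    ∃ p ∈ D i, ⟪c, p⟫ = 0 ∧ Q p = r := by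
  obtain ⟨a, ha, hca, haa⟩ := exists_aniso_perp S hc hcc
  obtain ⟨a', ha', hca', haa', ha'a'⟩ := exists_aniso_perp₂ S hc ha hcc haa hca
  obtain ⟨x, y, hxy⟩ := OOmega.exists_rep S.two haa ha'a' r
  refine ⟨x • a + y • a', add_mem ((D i).smul_mem _ ha) ((D i).smul_mem _ ha'), ?_, ?_⟩
  · rw [polar_add_right, polar_smul_right, polar_smul_right, hca, hca', smul_zero, smul_zero, add_zero]
  · rw [QuadraticMap.map_add ⇑Q, QuadraticMap.map_smul, QuadraticMap.map_smul, polar_smul_left, polar_smul_right,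
      haa', ← hxy]
    simp only [smul_eq_mul, mul_zero, add_zero]
    ring

theorem exists_singular (i : Fin t) : ∃ v ∈ D i, v ≠ 0 ∧ Q v = 0 := by
  obtain ⟨c, hc, hcc⟩ := exists_aniso S i
  obtain ⟨p, hp, hcp, hpp⟩ := exists_value_perp S hc hcc (-Q c)
  refine ⟨c + p, add_mem hc hp, fun e => ?_, ?_⟩
  · have h1 : ⟪c, c + p⟫ = 2 * Q c := by rw [polar_add_right, self_eq S, hcp, add_zero]
    rw [e, polar_zero_right] at h1
    exact mul_ne_zero S.two hcc h1.symm
  · rw [QuadraticMap.map_add ⇑Q, hpp, hcp]; ring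

theorem partner {i : Fin t} {v : Vn} (hv : v ∈ D i) (hv0 : v ≠ 0) (hvv : Q v = 0) :
    ∃ z ∈ D i, Q z = 0 ∧ ⟪v, z⟫ = 1 := by
  obtain ⟨y, hy, hne⟩ := nondeg S hv hv0
  obtain ⟨β, hβ⟩ : ∃ β, β = ⟪v, y⟫ := ⟨_, rfl⟩
  rw [← hβ] at hne
  refine ⟨β⁻¹ • (y - (Q y / β) • v), (D i).smul_mem _ (sub_mem hy ((D i).smul_mem _ hv)), ?_, ?_⟩
  · rw [QuadraticMap.map_smul, sub_eq_add_neg, ← neg_smul, QuadraticMap.map_add ⇑Q, QuadraticMap.map_smul, hvv,
      polar_smul_right, polar_comm (⇑Q) y v, ← hβ]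
    simp only [smul_eq_mul, mul_zero, add_zero]
    field_simp
    ring
  · rw [polar_smul_right, polar_sub_right, polar_smul_right, self_zero S hvv, smul_zero, sub_zero, ← hβ, smul_eq_mul,
      inv_mul_cancel₀ hne]

/-- An anisotropic vector orthogonal to a singular one. -/
theorem exists_aniso_singular {i : Fin t} {v : Vn} (hv : v ∈ D i) (hv0 : v ≠ 0) (hvv : Q v = 0) :
    ∃ y ∈ D i, ⟪v, y⟫ = 0 ∧ Q y ≠ 0 := by
  obtain ⟨z, hz, hzz, hvz⟩ := partner S hv hv0 hvv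
  have hvz' : Q (v + z) = 1 := by rw [QuadraticMap.map_add ⇑Q, hvv, hzz, hvz, zero_add, zero_add]
  have hvz'' : Q (v - z) = -1 := by
    rw [sub_eq_add_neg, QuadraticMap.map_add ⇑Q, QuadraticMap.map_neg, hvv, hzz, polar_neg_right, hvz, zero_add,
      zero_add]
  have h1 : ⟪v + z, v - z⟫ = 0 := by
    rw [polar_add_left, polar_sub_right, polar_sub_right, self_zero S hvv, self_zero S hzz, hvz,
      polar_comm (⇑Q) z v, hvz]
    ring
  obtain ⟨y, hy, hy1, hy2, hyy⟩ := exists_aniso_perp₂ S (add_mem hv hz) (sub_mem hv hz)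
    (by rw [hvz']; exact one_ne_zero) (by rw [hvz'']; exact neg_ne_zero.mpr one_ne_zero) h1
  refine ⟨y, hy, ?_, hyy⟩
  rw [polar_add_left] at hy1
  rw [polar_sub_left] at hy2
  have h2 : 2 * ⟪v, y⟫ = 0 := by linear_combination hy1 + hy2
  exact (mul_eq_zero.mp h2).resolve_left S.two

/-- A singular vector seeing a given one. -/
theorem exists_see {i : Fin t} {p : Vn} (hp : p ∈ D i) (hp0 : p ≠ 0) :
    ∃ v ∈ D i, Q v = 0 ∧ ⟪p, v⟫ ≠ 0 := by
  by_contra hcon
  push Not at hcon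
  obtain ⟨v₀, hv₀, hv0, hvv⟩ := exists_singular S i
  obtain ⟨z, hz, hzz, hvz⟩ := partner S hv₀ hv0 hvv
  obtain ⟨x, hx, hne⟩ := nondeg S hp hp0
  obtain ⟨x', hx'⟩ : ∃ x', x' = x - ⟪x, z⟫ • v₀ - ⟪x, v₀⟫ • z := ⟨_, rfl⟩
  have hx'v : ⟪x', v₀⟫ = 0 ∧ ⟪x', z⟫ = 0 := by
    simp only [hx', polar_sub_left, polar_smul_left, self_zero S hvv, self_zero S hzz, hvz, polar_comm (⇑Q) z v₀,
      smul_eq_mul, mul_zero, mul_one, sub_zero, sub_self, and_self]
  have h1 := hcon (x' - Q x' • v₀ + z) (add_mem (sub_mem (hx' ▸ sub_mem (sub_mem hx ((D i).smul_mem _ hv₀))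
    ((D i).smul_mem _ hz)) ((D i).smul_mem _ hv₀)) hz) (by
      rw [sub_eq_add_neg, ← neg_smul, QuadraticMap.map_add ⇑Q, QuadraticMap.map_add ⇑Q, QuadraticMap.map_smul, hvv,
        hzz, polar_add_left, polar_smul_left, polar_smul_right, hx'v.1, hx'v.2, hvz]
      simp only [smul_eq_mul, mul_zero, mul_one, add_zero, zero_add]
      ring)
  rw [polar_add_right, polar_sub_right, polar_smul_right, hcon v₀ hv₀ hvv, hcon z hz hzz, hx', polar_sub_right,
    polar_sub_right, polar_smul_right, polar_smul_right, hcon v₀ hv₀ hvv, hcon z hz hzz] at h1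
  exact hne (by simpa using h1)

/-! ### Elements of the stabiliser -/

theorem mem_isometry {g : Gl} (hg : g ∈ K) (x : Vn) : Q (g ⬝ₘ x) = Q x := ONotMax.omega_isometry (S.le_omega hg) x

theorem iso_polar {g : Gl} (hg : g ∈ K) (x y : Vn) : ⟪g ⬝ₘ x, g ⬝ₘ y⟫ = ⟪x, y⟫ :=
  Radical.omega_polar (S.le_omega hg) x y

theorem stab_of {g : Gl} (π : Equiv.Perm (Fin t)) (h : ∀ a, ∀ x ∈ D a, g ⬝ₘ x ∈ D (π a)) :
    g ∈ decompositionStabilizer D := by
  refine ⟨π, fun a => Submodule.eq_of_le_of_finrank_eq ?_ ?_⟩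
  · rintro _ ⟨x, hx, rfl⟩
    rw [Matrix.toLin'_apply]
    exact h a x hx
  · rw [← (Submodule.equivMapOfInjective _ (fun x y e => gl_mulVec_injective g (by
      simpa [Matrix.toLin'_apply] using e)) (D a)).finrank_eq, finrank_member S, finrank_member S]

theorem stab_local {g : Gl} {b : Fin t} (h : ∀ a, a ≠ b → ∀ x ∈ D a, g ⬝ₘ x = x)
    (hb : ∀ x ∈ D b, g ⬝ₘ x ∈ D b) : g ∈ decompositionStabilizer D :=
  stab_of S 1 fun a x hx => by
    by_cases hab : a = b
    · subst hab; exact hb x hx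
    · rw [h a hab x hx]; exact hx

/-- An Eichler element of a member. -/
theorem eichler_stab {b : Fin t} {v y : Vn} (hv : v ∈ D b) (hy : y ∈ D b) (hvv : Q v = 0) (hvy : ⟪v, y⟫ = 0) :
    InE Q K v y := by
  obtain ⟨g, hg, hgx⟩ := ONotMax.exists_siegel S.pnd (by have := S.big; omega) hvv hvy
  have hgx' : ∀ x, g ⬝ₘ x = eichler (⇑Q) v y x := fun x => by
    rw [hgx, eichler, polar_comm (⇑Q) v x, polar_comm (⇑Q) y x]
  refine ⟨g, S.le ⟨stab_local S (b := b) (fun a hab x hx => ?_) (fun x hx => ?_), hg⟩, hgx'⟩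
  · rw [hgx', eichler, orth S hab hx hv, orth S hab hx hy]; simp
  · rw [hgx', eichler]; exact sub_mem (add_mem hx ((D b).smul_mem _ hy)) ((D b).smul_mem _ hv)

/-- A product of two reflections of equal value in a member. -/
theorem refl_stab {b : Fin t} {u w : Vn} (hu : u ∈ D b) (hw : w ∈ D b) (huu : Q u ≠ 0) (huw : Q w = Q u) :
    ∃ g ∈ K, (∀ x, g ⬝ₘ x = ORefl.refl Q u (ORefl.refl Q w x)) ∧
      (∀ x, (∀ z ∈ D b, ⟪x, z⟫ = 0) → g ⬝ₘ x = x) := by
  obtain ⟨g, hg, hgx⟩ := ONotMax.exists_refl_pair S.pnd huu huw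
  have hfix : ∀ x, ⟪u, x⟫ = 0 → ⟪w, x⟫ = 0 → g ⬝ₘ x = x := fun x h1 h2 => by
    rw [hgx, ORefl.refl_apply, ORefl.refl_apply, h2, mul_zero, zero_smul, sub_zero, h1, mul_zero, zero_smul, sub_zero]
  refine ⟨g, S.le ⟨stab_local S (b := b) (fun a hab x hx => hfix x (orth S hab.symm hu hx) (orth S hab.symm hw hx))
    (fun x hx => ?_), hg⟩, hgx, fun x hx => hfix x (swap0 S (hx u hu)) (swap0 S (hx w hw))⟩
  rw [hgx, ORefl.refl_apply, ORefl.refl_apply]
  exact sub_mem (sub_mem hx ((D b).smul_mem _ hw)) ((D b).smul_mem _ hu)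

/-! ### Parameters -/

theorem inE_conj {a y : Vn} (h : InE Q K a y) {g : Gl} (hg : g ∈ K) : InE Q K (g ⬝ₘ a) (g ⬝ₘ y) := by
  obtain ⟨e, he, hex⟩ := h
  refine ⟨g * e * g⁻¹, mul_mem (mul_mem hg he) (inv_mem hg), fun x => ?_⟩
  obtain ⟨z, rfl⟩ : ∃ z, x = g ⬝ₘ z := ⟨_, (gl_mulVec_inv_cancel g x).symm⟩
  rw [gl_mul_mulVec, gl_mul_mulVec, gl_inv_mulVec_cancel, hex, eichler, eichler, iso_polar S hg, iso_polar S hg,
    mem_isometry S hg, Matrix.mulVec_sub, Matrix.mulVec_add, Matrix.mulVec_smul, Matrix.mulVec_smul]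

theorem eichler_zero (a x : Vn) : eichler (⇑Q) a 0 x = x := by simp [eichler]

theorem inE_zero (a : Vn) : InE Q K a 0 := ⟨1, one_mem K, fun x => by simp [eichler_zero S]⟩

theorem inE_add {a y y' : Vn} (ha : Q a = 0) (hy : ⟪a, y⟫ = 0) (hy' : ⟪a, y'⟫ = 0) (h : InE Q K a y)
    (h' : InE Q K a y') : InE Q K a (y + y') := by
  obtain ⟨g, hg, hgv⟩ := h
  obtain ⟨g', hg', hgv'⟩ := h'
  exact ⟨g * g', mul_mem hg hg', fun x => by rw [gl_mul_mulVec, hgv', hgv, eichler_comp S.nd ha hy hy']⟩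

theorem inE_scale {a y : Vn} {l : F} (h : InE Q K (l • a) y) : InE Q K a (l • y) := by
  obtain ⟨g, hg, hgv⟩ := h
  refine ⟨g, hg, fun x => ?_⟩
  rw [hgv, eichler, eichler, polar_smul_right, polar_smul_right, QuadraticMap.map_smul, smul_smul, smul_smul]
  simp only [smul_eq_mul]
  congr 1
  · rw [mul_comm]
  · congr 1; ring

theorem inE_unscale {a y : Vn} {l : F} (h : InE Q K a (l • y)) : InE Q K (l • a) y := by
  obtain ⟨g, hg, hgv⟩ := h
  refine ⟨g, hg, fun x => ?_⟩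
  rw [hgv, eichler, eichler, polar_smul_right, polar_smul_right, QuadraticMap.map_smul, smul_smul, smul_smul]
  simp only [smul_eq_mul]
  congr 1
  · rw [mul_comm]
  · congr 1; ring

theorem par_zero {v : Vn} : Par Q K v 0 := ⟨polar_zero_right Q v, fun s => by rw [smul_zero]; exact inE_zero S v⟩

theorem par_add {v y y' : Vn} (hv : Q v = 0) (h : Par Q K v y) (h' : Par Q K v y') : Par Q K v (y + y') := by
  refine ⟨by rw [polar_add_right, h.1, h'.1, add_zero], fun s => ?_⟩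
  rw [smul_add]
  exact inE_add S hv (by rw [polar_smul_right, h.1, smul_zero]) (by rw [polar_smul_right, h'.1, smul_zero]) (h.2 s)
    (h'.2 s)

theorem par_smul {v y : Vn} (r : F) (h : Par Q K v y) : Par Q K v (r • y) :=
  ⟨by rw [polar_smul_right, h.1, smul_zero], fun s => by rw [smul_smul]; exact h.2 _⟩

theorem par_sub {v y y' : Vn} (hv : Q v = 0) (h : Par Q K v y) (h' : Par Q K v y') : Par Q K v (y - y') := by
  have := par_add S hv h (par_smul S (-1) h')
  rwa [neg_one_smul, ← sub_eq_add_neg] at this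

theorem par_self {v : Vn} (hv : Q v = 0) : Par Q K v v := by
  refine ⟨self_zero S hv, fun s => ⟨1, one_mem K, fun x => ?_⟩⟩
  simp only [Units.val_one, Matrix.one_mulVec, eichler, polar_smul_right, QuadraticMap.map_smul, hv, smul_eq_mul,
    mul_zero, zero_mul, add_zero]
  module

theorem par_map {v y : Vn} (h : Par Q K v y) {g : Gl} (hg : g ∈ K) : Par Q K (g ⬝ₘ v) (g ⬝ₘ y) :=
  ⟨by rw [iso_polar S hg]; exact h.1, fun s => by rw [← Matrix.mulVec_smul]; exact inE_conj S (h.2 s) hg⟩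

theorem par_local {b : Fin t} {v y : Vn} (hv : v ∈ D b) (hy : y ∈ D b) (hvv : Q v = 0) (hvy : ⟪v, y⟫ = 0) :
    Par Q K v y :=
  ⟨hvy, fun s => eichler_stab S hv ((D b).smul_mem s hy) hvv (by rw [polar_smul_right, hvy, smul_zero])⟩

theorem par_swap {v y : Vn} (hv : Q v = 0) (hy : Q y = 0) (h : Par Q K v y) : Par Q K y v := by
  refine ⟨swap0 S h.1, fun s => ?_⟩
  obtain ⟨g, hg, hgv⟩ := h.2 (-s)
  refine ⟨g, hg, fun x => ?_⟩
  rw [hgv, eichler, eichler, QuadraticMap.map_smul, QuadraticMap.map_smul, hv, hy, polar_smul_right,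
    polar_smul_right]
  simp only [smul_eq_mul, mul_zero, zero_mul, add_zero]
  module

/-- Splitting a centre. -/
theorem eichler_split {w v z : Vn} (hw : Q w = 0) (hv : Q v = 0) (hwv : ⟪w, v⟫ = 0) (hwz : ⟪w, z⟫ = 0)
    (hvz : ⟪v, z⟫ = 0) (x : Vn) :
    eichler (⇑Q) (w + v) z x = eichler (⇑Q) w z (eichler (⇑Q) v (z + Q z • w) x) := by
  have hQ : Q (z + Q z • w) = Q z := by
    rw [QuadraticMap.map_add ⇑Q, QuadraticMap.map_smul, hw, polar_smul_right, polar_comm (⇑Q) z w, hwz]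
    simp
  simp only [eichler, hQ, polar_add_left, polar_add_right, polar_sub_left, polar_smul_left, polar_smul_right,
    polar_comm (⇑Q) z w, polar_comm (⇑Q) v w, polar_comm (⇑Q) z v, hwv, hwz, hvz, self_zero S hw, self_zero S hv,
    self_eq S z, smul_eq_mul]
  module

end Cfsg.Agent.Classical.ODecomp
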