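/-
Orthogonal decompositions: from a mixed singular centre to a centre inside a member with a parameter outside it.
-/
import Cfsg.Agent.Lib.Classical.ODecompTools

set_option autoImplicit false
set_option linter.unusedSectionVars false
set_option linter.style.haveILetI false

namespace Cfsg.Agent.Classical.ODecomp

open Matrix Module QuadraticMap Cfsg.Geo
open Cfsg.Agent.Classical
open Cfsg.Agent.Classical.OCount (PND)

variable {ι : Type} [Fintype ι] [DecidableEq ι] {F : Type*} [Field F] [Fintype F]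
  {Q : QuadraticForm F (ι → F)} {t k : ℕ} {D : Fin t → Submodule F (ι → F)} {K : Subgroup (GL ι F)}

local notation "Gl" => GL ι F
local notation "Vn" => ι → F
local notation "⟪" x ", " y "⟫" => QuadraticMap.polar (DFunLike.coe Q) x y
local notation:max g:max " ⬝ₘ " x:max => ((g : Gl) : Matrix ι ι F) *ᵥ x

/-- A centre inside a member with a parameter outside it. -/
def Seed (Q : QuadraticForm F (ι → F)) (D : Fin t → Submodule F (ι → F)) (K : Subgroup (GL ι F)) : Prop :=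
  ∃ (b : Fin t) (v y : ι → F), v ∈ D b ∧ v ≠ 0 ∧ Q v = 0 ∧ Par Q K v y ∧ y ∉ D b

/-- The fields have at least five elements when there are few dimensions. -/
theorem exists_scalar {F : Type*} [Field F] [Fintype F] (h : 4 ≤ Fintype.card F) (a b c : F) :
    ∃ s : F, s ≠ a ∧ s ≠ b ∧ s ≠ c := by
  classical
  obtain ⟨s, -, hs⟩ := Finset.exists_mem_notMem_of_card_lt_card (s := {a, b, c}) (t := Finset.univ)
    (Finset.card_le_three.trans_lt (by rw [Finset.card_univ]; omega))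
  simp only [Finset.mem_insert, Finset.mem_singleton, not_or] at hs
  exact ⟨s, hs⟩

variable (S : Setup Q k D K)

include S

/-- Centres with the parameter in the member of a component. -/
theorem seed_of_local {w u : Vn} {i : Fin t} (hw : Q w = 0) (hu : u ∈ D i) (hu0 : u ≠ 0) (huu : Q u = 0)
    (h : Par Q K w u) (hwi : w ∉ D i) : Seed Q D K :=
  ⟨i, u, w, hu, hu0, huu, par_swap S hw huu h, hwi⟩

/-- The transversal lemma. -/
theorem seed_of_perp {w z c v y : Vn} {i : Fin t} (hw : Q w = 0) (hwi : w ∉ D i) (hc : Comp Q D i w c)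
    (hz : Par Q K w z) (hQz : Q z ≠ 0) (hv : v ∈ D i) (hv0 : v ≠ 0) (hvv : Q v = 0) (hcv : ⟪c, v⟫ = 0)
    (hzv : ⟪z, v⟫ = 0) (hy : y ∈ D i) (hvy : ⟪v, y⟫ = 0) (hzy : ⟪z, y⟫ = 0) (hcy : ⟪c, y⟫ ≠ 0) :
    Seed Q D K := by
  obtain ⟨m, hm, hmx⟩ := eichler_stab S hv hy hvv hvy
  have hwv : ⟪w, v⟫ = 0 := by rw [hc.2 v hv, hcv]
  obtain ⟨β, hβ⟩ : ∃ β, β = ⟪c, y⟫ := ⟨_, rfl⟩
  rw [← hβ] at hcy
  have hmw : m ⬝ₘ w = w + (-β) • v := by
    rw [hmx, eichler, hwv, hc.2 y hy, ← hβ]; module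
  have hmz : m ⬝ₘ z = z := by rw [hmx, eichler, hzv, hzy]; simp
  have h1 := par_map S hz hm
  rw [hmw, hmz] at h1
  have hQv : Q ((-β) • v) = 0 := by rw [QuadraticMap.map_smul, hvv, smul_zero]
  have hwβ : ⟪w, (-β) • v⟫ = 0 := by rw [polar_smul_right, hwv, smul_zero]
  have hβz : ⟪(-β) • v, z⟫ = 0 := by rw [polar_smul_left, swap0 S hzv, smul_zero]
  -- splitting off the old centre
  have key : ∀ s : F, InE Q K v ((-β) • (s • z + (s * s * Q z) • w)) := by
    intro s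
    obtain ⟨g, hg, hgx⟩ := h1.2 s
    obtain ⟨e, he, hex⟩ := hz.2 s
    refine inE_scale S ⟨e⁻¹ * g, mul_mem (inv_mem he) hg, fun x => ?_⟩
    rw [gl_mul_mulVec, hgx]
    refine gl_mulVec_injective e ?_
    simp only []
    rw [gl_mulVec_inv_cancel, hex, eichler_split S hw hQv hwβ (by rw [polar_smul_right, hz.1, smul_zero])
      (by rw [polar_smul_right, hβz, smul_zero]), QuadraticMap.map_smul, smul_eq_mul]
  have hperp : ∀ s : F, ⟪v, (-β) • (s • z + (s * s * Q z) • w)⟫ = 0 := fun s => by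
    rw [polar_smul_right, polar_add_right, polar_smul_right, polar_smul_right, swap0 S hwv, swap0 S hzv]
    simp
  have key2 : ∀ s : F, InE Q K v ((-2 * β * Q z * s ^ 2) • w) := fun s => by
    have h := inE_add S hvv (hperp s) (hperp (-s)) (key s) (key (-s))
    convert h using 2
    module
  refine ⟨i, v, w, hv, hv0, hvv, ⟨swap0 S hwv, fun r => ?_⟩, hwi⟩
  have hne : -2 * β * Q z ≠ 0 := mul_ne_zero (mul_ne_zero (neg_ne_zero.mpr S.two) hcy) hQz
  obtain ⟨a, b, hab⟩ := OOmega.exists_rep S.two hne hne r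
  have h2 := inE_add S hvv (by rw [polar_smul_right, swap0 S hwv, smul_zero])
    (by rw [polar_smul_right, swap0 S hwv, smul_zero]) (key2 a) (key2 b)
  rw [← add_smul, hab] at h2
  exact h2

/-- The second difference along a member. -/
theorem par_diff {w z c p v y : Vn} {i : Fin t} (hw : Q w = 0) (hc : Comp Q D i w c) (hz : Par Q K w z)
    (hp : Comp Q D i z p) (hv : v ∈ D i) (hvv : Q v = 0) (hy : y ∈ D i) (hvy : ⟪v, y⟫ = 0) (hcv : ⟪c, v⟫ = 0)
    (hcy : ⟪c, y⟫ = 0) : Par Q K w (⟪p, v⟫ • y - (⟪p, y⟫ + Q y * ⟪p, v⟫) • v) := by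
  obtain ⟨m, hm, hmx⟩ := eichler_stab S hv hy hvv hvy
  have hmw : m ⬝ₘ w = w := by rw [hmx, eichler, hc.2 v hv, hc.2 y hy, hcv, hcy]; simp
  have h1 := par_sub S hw (hmw ▸ par_map S hz hm) hz
  rw [hmx, eichler, hp.2 v hv, hp.2 y hy] at h1
  convert h1 using 1
  module

/-- A parameter moved by the stabiliser of an absent component. -/
theorem local_of_zero {w z p : Vn} {i : Fin t} (hw : Q w = 0) (hc : Comp Q D i w 0) (hz : Par Q K w z)
    (hp : Comp Q D i z p) {v : Vn} (hv : v ∈ D i) (hvv : Q v = 0) (hpv : ⟪p, v⟫ ≠ 0) : Par Q K w v := by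
  have hv0 : v ≠ 0 := fun e => hpv (by rw [e, polar_zero_right])
  obtain ⟨y, hy, hvy, hyy⟩ := exists_aniso_singular S hv hv0 hvv
  have h0 : ∀ x : Vn, ⟪(0 : Vn), x⟫ = 0 := fun x => polar_zero_left Q x
  have h1 := par_diff S hw hc hz hp hv hvv hy hvy (h0 _) (h0 _)
  have h2 := par_diff S hw hc hz hp hv hvv ((D i).neg_mem hy) (by rw [polar_neg_right, hvy, neg_zero]) (h0 _) (h0 _)
  have h3 := par_smul S (-(2 * Q y * ⟪p, v⟫))⁻¹ (par_add S hw h1 h2)
  convert h3 using 1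
  rw [polar_neg_right, QuadraticMap.map_neg]
  have h2' := S.two
  match_scalars <;> field_simp <;> ring

theorem seed_zero {w z p : Vn} {i : Fin t} (hw : Q w = 0) (hwi : w ∉ D i) (hc : Comp Q D i w 0) (hz : Par Q K w z)
    (hp : Comp Q D i z p) (hp0 : p ≠ 0) : Seed Q D K := by
  obtain ⟨v, hv, hvv, hpv⟩ := exists_see S hp.1 hp0
  exact seed_of_local S hw hv (fun e => hpv (by rw [e, polar_zero_right])) hvv (local_of_zero S hw hc hz hp hv hvv hpv) hwi

theorem seed_singular {w z c p : Vn} {i : Fin t} (hw : Q w = 0) (hwi : w ∉ D i) (hc : Comp Q D i w c)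
    (hz : Par Q K w z) (hp : Comp Q D i z p) (hc0 : c ≠ 0) (hcc : Q c = 0)
    (hmov : p ∉ Submodule.span F {c}) : Seed Q D K := by
  refine seed_of_local S hw hc.1 hc0 hcc ?_ hwi
  obtain ⟨e, he, hee, hce⟩ := partner S hc.1 hc0 hcc
  have hcc' := self_zero S hcc
  by_cases hpc : ⟪p, c⟫ = 0
  swap
  · obtain ⟨y, hy, hcy, hyy⟩ := exists_aniso_singular S hc.1 hc0 hcc
    have h1 := par_diff S hw hc hz hp hc.1 hcc hy hcy hcc' hcy
    have h2 := par_diff S hw hc hz hp hc.1 hcc ((D i).neg_mem hy) (by rw [polar_neg_right, hcy, neg_zero]) hcc'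
      (by rw [polar_neg_right, hcy, neg_zero])
    have h3 := par_smul S (-(2 * Q y * ⟪p, c⟫))⁻¹ (par_add S hw h1 h2)
    convert h3 using 1
    rw [polar_neg_right, QuadraticMap.map_neg]
    have h2' := S.two
    match_scalars <;> field_simp <;> ring
  · -- a vector orthogonal to the component seeing the parameter
    obtain ⟨p', hp'⟩ : ∃ p', p' = p - ⟪p, e⟫ • c := ⟨_, rfl⟩
    have hp'D : p' ∈ D i := hp' ▸ sub_mem hp.1 ((D i).smul_mem _ hc.1)
    have hp'0 : p' ≠ 0 := fun h => hmov (by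
      rw [hp', sub_eq_zero] at h
      rw [h]; exact Submodule.smul_mem _ _ (Submodule.mem_span_singleton_self c))
    obtain ⟨x, hx, hne⟩ := nondeg S hp'D hp'0
    obtain ⟨y, hy⟩ : ∃ y, y = x - ⟪c, x⟫ • e := ⟨_, rfl⟩
    have hyD : y ∈ D i := hy ▸ sub_mem hx ((D i).smul_mem _ he)
    have hcy : ⟪c, y⟫ = 0 := by rw [hy, polar_sub_right, polar_smul_right, hce, smul_eq_mul, mul_one, sub_self]
    have hpy : ⟪p, y⟫ ≠ 0 := by
      have e1 : ⟪p', e⟫ = 0 := by
        rw [hp', polar_sub_left, polar_smul_left, hce, smul_eq_mul, mul_one, sub_self]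
      have e2 : ⟪p', y⟫ = ⟪p', x⟫ := by rw [hy, polar_sub_right, polar_smul_right, e1, smul_zero, sub_zero]
      have e3 : ⟪p', y⟫ = ⟪p, y⟫ := by rw [hp', polar_sub_left, polar_smul_left, hcy, smul_zero, sub_zero]
      rw [← e3, e2]; exact hne
    have h1 := par_smul S (-⟪p, y⟫)⁻¹ (par_diff S hw hc hz hp hc.1 hcc hyD hcy hcc' hcy)
    convert h1 using 1
    rw [hpc]
    match_scalars <;> field_simp <;> ring

/-- Members of dimension at least four. -/
theorem seed_aniso_big (hk : 4 ≤ k) {w z c p : Vn} {i : Fin t} (hw : Q w = 0) (hwi : w ∉ D i)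
    (hc : Comp Q D i w c) (hz : Par Q K w z) (hp : Comp Q D i z p) (hcc : Q c ≠ 0)
    (hmov : p ∉ Submodule.span F {c}) : Seed Q D K := by
  classical
  obtain ⟨P, hP⟩ : ∃ P : Vn → Vn, P = fun x => x - (⟪c, x⟫ / (2 * Q c)) • c := ⟨_, rfl⟩
  have hPc : ∀ x, ⟪c, P x⟫ = 0 := fun x => by
    simp only [hP, polar_sub_right, polar_smul_right, self_eq S, smul_eq_mul,
      div_mul_cancel₀ _ (mul_ne_zero S.two hcc), sub_self]
  have hPD : ∀ x ∈ D i, P x ∈ D i := fun x hx => by rw [hP]; exact sub_mem hx ((D i).smul_mem _ hc.1)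
  obtain ⟨p', hp'⟩ : ∃ p', p' = P p := ⟨_, rfl⟩
  have hp'D : p' ∈ D i := hp' ▸ hPD p hp.1
  have hp'c : ⟪c, p'⟫ = 0 := hp' ▸ hPc p
  have hp'0 : p' ≠ 0 := fun h => hmov (by
    rw [hp', hP, sub_eq_zero] at h
    rw [h]; exact Submodule.smul_mem _ _ (Submodule.mem_span_singleton_self c))
  -- a singular vector orthogonal to the component
  have hval : ∀ x ∈ D i, ⟪c, x⟫ = 0 → ⟪p', x⟫ ≠ 0 → Q x ≠ 0 →
      ∃ v ∈ D i, Q v = 0 ∧ ⟪c, v⟫ = 0 ∧ ⟪p', v⟫ ≠ 0 := by
    intro x hx hcx hpx hxx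
    obtain ⟨b, hb, hcb, hxb, hbb⟩ := exists_aniso_perp₂ S hc.1 hx hcc hxx hcx
    obtain ⟨y, hy, hys⟩ := SetLike.not_le_iff_exists.mp
      (ne_span S (i := i) {c, x, b} (Finset.card_le_three.trans_lt (by omega)))
    -- a fourth orthogonal direction
    obtain ⟨R, hR⟩ : ∃ R : Vn → Vn,
        R = fun u => u - (⟪c, u⟫ / (2 * Q c)) • c - (⟪x, u⟫ / (2 * Q x)) • x - (⟪b, u⟫ / (2 * Q b)) • b := ⟨_, rfl⟩
    have hR1 : ∀ u, ⟪c, R u⟫ = 0 ∧ ⟪x, R u⟫ = 0 ∧ ⟪b, R u⟫ = 0 := fun u => by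
      simp only [hR, polar_sub_right, polar_smul_right, self_eq S, smul_eq_mul, hcx, hcb, hxb, swap0 S hcx,
        swap0 S hcb, swap0 S hxb, mul_zero, sub_zero, div_mul_cancel₀ _ (mul_ne_zero S.two hcc),
        div_mul_cancel₀ _ (mul_ne_zero S.two hxx), div_mul_cancel₀ _ (mul_ne_zero S.two hbb), sub_self, and_self]
    have hRD : ∀ u ∈ D i, R u ∈ D i := fun u hu => by
      rw [hR]; exact sub_mem (sub_mem (sub_mem hu ((D i).smul_mem _ hc.1)) ((D i).smul_mem _ hx)) ((D i).smul_mem _ hb)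
    have hy0 : R y ≠ 0 := fun h => hys (by
      rw [hR, sub_eq_zero, sub_eq_iff_eq_add, sub_eq_iff_eq_add] at h
      rw [h, Finset.coe_insert, Finset.coe_insert, Finset.coe_singleton]
      exact add_mem (add_mem (Submodule.smul_mem _ _ (Submodule.subset_span (by simp)))
        (Submodule.smul_mem _ _ (Submodule.subset_span (by simp))))
        (Submodule.smul_mem _ _ (Submodule.subset_span (by simp))))
    obtain ⟨b', hb', hcb', hxb', hbb', hb'b'⟩ : ∃ b' ∈ D i, ⟪c, b'⟫ = 0 ∧ ⟪x, b'⟫ = 0 ∧ ⟪b, b'⟫ = 0 ∧ Q b' ≠ 0 := by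
      by_contra hcon
      push Not at hcon
      obtain ⟨u, hu, hne⟩ := nondeg S (hRD y hy) hy0
      have hne' : ⟪R y, R u⟫ ≠ 0 := by
        have e : R u = u - (⟪c, u⟫ / (2 * Q c)) • c - (⟪x, u⟫ / (2 * Q x)) • x - (⟪b, u⟫ / (2 * Q b)) • b := by rw [hR]
        rw [e, polar_sub_right, polar_sub_right, polar_sub_right, polar_smul_right, polar_smul_right, polar_smul_right,
          swap0 S (hR1 y).1, swap0 S (hR1 y).2.1, swap0 S (hR1 y).2.2, smul_zero, smul_zero, smul_zero, sub_zero,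
          sub_zero, sub_zero]
        exact hne
      have z1 := hcon _ (hRD y hy) (hR1 y).1 (hR1 y).2.1 (hR1 y).2.2
      have z2 := hcon _ (hRD u hu) (hR1 u).1 (hR1 u).2.1 (hR1 u).2.2
      have z3 := hcon _ (add_mem (hRD y hy) (hRD u hu)) (by rw [polar_add_right, (hR1 y).1, (hR1 u).1, add_zero])
        (by rw [polar_add_right, (hR1 y).2.1, (hR1 u).2.1, add_zero])
        (by rw [polar_add_right, (hR1 y).2.2, (hR1 u).2.2, add_zero])
      exact hne' (by rw [polar, z3, z1, z2]; ring)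
    obtain ⟨r, r', hrr⟩ := OOmega.exists_rep S.two hbb hb'b' (-Q x)
    obtain ⟨q, hq⟩ : ∃ q, q = r • b + r' • b' := ⟨_, rfl⟩
    have hqD : q ∈ D i := hq ▸ add_mem ((D i).smul_mem _ hb) ((D i).smul_mem _ hb')
    have hqq : Q q = -Q x := by
      rw [hq, QuadraticMap.map_add ⇑Q, QuadraticMap.map_smul, QuadraticMap.map_smul, polar_smul_left, polar_smul_right,
        hbb', ← hrr]
      simp only [smul_eq_mul, mul_zero, add_zero]
      ring
    have hxq : ⟪x, q⟫ = 0 := by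
      rw [hq, polar_add_right, polar_smul_right, polar_smul_right, hxb, hxb', smul_zero, smul_zero, add_zero]
    have hcq : ⟪c, q⟫ = 0 := by
      rw [hq, polar_add_right, polar_smul_right, polar_smul_right, hcb, hcb', smul_zero, smul_zero, add_zero]
    by_cases hpq : ⟪p', x + q⟫ = 0
    · refine ⟨x - q, sub_mem hx hqD, ?_, by rw [polar_sub_right, hcx, hcq, sub_zero], fun h => hpx ?_⟩
      · rw [sub_eq_add_neg, QuadraticMap.map_add ⇑Q, QuadraticMap.map_neg, hqq, polar_neg_right, hxq]; ring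
      · rw [polar_add_right] at hpq
        rw [polar_sub_right] at h
        have h2 : 2 * ⟪p', x⟫ = 0 := by linear_combination hpq + h
        exact (mul_eq_zero.mp h2).resolve_left S.two
    · exact ⟨x + q, add_mem hx hqD, by rw [QuadraticMap.map_add ⇑Q, hqq, hxq]; ring,
        by rw [polar_add_right, hcx, hcq, add_zero], hpq⟩
  obtain ⟨v, hv, hvv, hcv, hpv'⟩ : ∃ v ∈ D i, Q v = 0 ∧ ⟪c, v⟫ = 0 ∧ ⟪p', v⟫ ≠ 0 := by
    obtain ⟨x, hx, hne⟩ := nondeg S hp'D hp'0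
    have hne' : ⟪p', P x⟫ ≠ 0 := by
      have e : P x = x - (⟪c, x⟫ / (2 * Q c)) • c := by rw [hP]
      rw [e, polar_sub_right, polar_smul_right, swap0 S hp'c, smul_zero, sub_zero]; exact hne
    by_cases hxx : Q (P x) = 0
    · exact ⟨P x, hPD x hx, hxx, hPc x, hne'⟩
    · exact hval _ (hPD x hx) (hPc x) hne' hxx
  have hpv : ⟪p, v⟫ ≠ 0 := by
    have e : p' = p - (⟪c, p⟫ / (2 * Q c)) • c := by rw [hp', hP]
    rw [e, polar_sub_left, polar_smul_left, hcv, smul_zero, sub_zero] at hpv'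
    exact hpv'
  have hv0 : v ≠ 0 := fun e => hpv (by rw [e, polar_zero_right])
  -- an anisotropic vector orthogonal to both
  obtain ⟨y, hy, hcy, hvy, hyy⟩ : ∃ y ∈ D i, ⟪c, y⟫ = 0 ∧ ⟪v, y⟫ = 0 ∧ Q y ≠ 0 := by
    obtain ⟨e, he, hee, hve⟩ := partner S hv hv0 hvv
    obtain ⟨e', he'⟩ : ∃ e', e' = P e := ⟨_, rfl⟩
    have he'D : e' ∈ D i := he' ▸ hPD e he
    have hce' : ⟪c, e'⟫ = 0 := he' ▸ hPc e
    have hve' : ⟪v, e'⟫ = 1 := by
      rw [he', hP, polar_sub_right, polar_smul_right, swap0 S hcv, smul_zero, sub_zero, hve]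
    obtain ⟨f, hf⟩ : ∃ f, f = e' - Q e' • v := ⟨_, rfl⟩
    have hfD : f ∈ D i := hf ▸ sub_mem he'D ((D i).smul_mem _ hv)
    have hcf : ⟪c, f⟫ = 0 := by rw [hf, polar_sub_right, polar_smul_right, hce', hcv, smul_zero, sub_zero]
    have hvf : ⟪v, f⟫ = 1 := by rw [hf, polar_sub_right, polar_smul_right, hve', self_zero S hvv, smul_zero, sub_zero]
    have hff : Q f = 0 := by
      rw [hf, sub_eq_add_neg, ← neg_smul, QuadraticMap.map_add ⇑Q, QuadraticMap.map_smul, hvv, polar_smul_right,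
        polar_comm (⇑Q) e' v, hve']
      simp
    obtain ⟨x, hx, hxs⟩ := SetLike.not_le_iff_exists.mp
      (ne_span S (i := i) {c, v, f} (Finset.card_le_three.trans_lt (by omega)))
    obtain ⟨R, hR⟩ : ∃ R : Vn → Vn, R = fun u => u - (⟪c, u⟫ / (2 * Q c)) • c - ⟪f, u⟫ • v - ⟪v, u⟫ • f := ⟨_, rfl⟩
    have hR1 : ∀ u, ⟪c, R u⟫ = 0 ∧ ⟪v, R u⟫ = 0 ∧ ⟪f, R u⟫ = 0 := fun u => by
      simp only [hR, polar_sub_right, polar_smul_right, self_eq S, self_zero S hvv, self_zero S hff, smul_eq_mul,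
        hcv, hcf, hvf, swap0 S hcv, swap0 S hcf, polar_comm (⇑Q) f v, hvv, hff, mul_zero, mul_one, sub_zero,
        div_mul_cancel₀ _ (mul_ne_zero S.two hcc), sub_self, and_self]
    have hRD : ∀ u ∈ D i, R u ∈ D i := fun u hu => by
      rw [hR]; exact sub_mem (sub_mem (sub_mem hu ((D i).smul_mem _ hc.1)) ((D i).smul_mem _ hv)) ((D i).smul_mem _ hfD)
    have hx0 : R x ≠ 0 := fun h => hxs (by
      rw [hR, sub_eq_zero, sub_eq_iff_eq_add, sub_eq_iff_eq_add] at h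
      rw [h, Finset.coe_insert, Finset.coe_insert, Finset.coe_singleton]
      exact add_mem (add_mem (Submodule.smul_mem _ _ (Submodule.subset_span (by simp)))
        (Submodule.smul_mem _ _ (Submodule.subset_span (by simp))))
        (Submodule.smul_mem _ _ (Submodule.subset_span (by simp))))
    obtain ⟨u, hu, hne⟩ := nondeg S (hRD x hx) hx0
    have hne' : ⟪R x, R u⟫ ≠ 0 := by
      have e : R u = u - (⟪c, u⟫ / (2 * Q c)) • c - ⟪f, u⟫ • v - ⟪v, u⟫ • f := by rw [hR]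
      rw [e, polar_sub_right, polar_sub_right, polar_sub_right, polar_smul_right, polar_smul_right, polar_smul_right,
        swap0 S (hR1 x).1, swap0 S (hR1 x).2.1, swap0 S (hR1 x).2.2, smul_zero, smul_zero, smul_zero, sub_zero,
        sub_zero, sub_zero]
      exact hne
    by_cases h1 : Q (R x) = 0
    swap
    · exact ⟨R x, hRD x hx, (hR1 x).1, (hR1 x).2.1, h1⟩
    by_cases h2 : Q (R u) = 0
    swap
    · exact ⟨R u, hRD u hu, (hR1 u).1, (hR1 u).2.1, h2⟩
    refine ⟨R x + R u, add_mem (hRD x hx) (hRD u hu), by rw [polar_add_right, (hR1 x).1, (hR1 u).1, add_zero],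
      by rw [polar_add_right, (hR1 x).2.1, (hR1 u).2.1, add_zero], ?_⟩
    rw [QuadraticMap.map_add ⇑Q, h1, h2, zero_add, zero_add]
    exact hne'
  refine seed_of_local S hw hv hv0 hvv ?_ hwi
  have h1 := par_diff S hw hc hz hp hv hvv hy hvy hcv hcy
  have h2 := par_diff S hw hc hz hp hv hvv ((D i).neg_mem hy) (by rw [polar_neg_right, hvy, neg_zero]) hcv
    (by rw [polar_neg_right, hcy, neg_zero])
  have h3 := par_smul S (-(2 * Q y * ⟪p, v⟫))⁻¹ (par_add S hw h1 h2)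
  convert h3 using 1
  rw [polar_neg_right, QuadraticMap.map_neg]
  have h2' := S.two
  match_scalars <;> field_simp <;> ring

/-- An element of a member moving an anisotropic component to a prescribed product. -/
theorem exists_move {w c : Vn} {l : Fin t} (hc : Comp Q D l w c) (hcc : Q c ≠ 0) (γ : F) (hγ : γ ≠ 0) :
    ∃ m ∈ K, ∃ δ ∈ D l, m ⬝ₘ w = w + δ ∧ ⟪w, δ⟫ = γ ∧ Q δ = -γ ∧
      (∀ x, (∀ u ∈ D l, ⟪x, u⟫ = 0) → m ⬝ₘ x = x) ∧ (γ ≠ -4 * Q c → δ ∉ Submodule.span F {c}) := by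
  obtain ⟨α, hα⟩ : ∃ α, α = γ / (2 * Q c) := ⟨_, rfl⟩
  obtain ⟨r, hr⟩ : ∃ r, r = -γ - α * α * Q c := ⟨_, rfl⟩
  obtain ⟨p, hp, hcp, hpp⟩ := exists_value_perp S hc.1 hcc r
  obtain ⟨δ, hδ⟩ : ∃ δ, δ = α • c + p := ⟨_, rfl⟩
  have hδD : δ ∈ D l := hδ ▸ add_mem ((D l).smul_mem _ hc.1) hp
  have hcδ : ⟪c, δ⟫ = γ := by
    rw [hδ, polar_add_right, polar_smul_right, self_eq S, hcp, add_zero, hα, smul_eq_mul,
      div_mul_cancel₀ _ (mul_ne_zero S.two hcc)]
  have hδδ : Q δ = -γ := by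
    rw [hδ, QuadraticMap.map_add ⇑Q, QuadraticMap.map_smul, hpp, hr, polar_smul_left, hcp, smul_eq_mul, smul_eq_mul]
    ring
  obtain ⟨a, ha, hca, haa⟩ := exists_value_perp S hc.1 hcc (Q δ)
  obtain ⟨m, hm, hmx, hfix⟩ := refl_stab S hδD ha (by rw [hδδ]; exact neg_ne_zero.mpr hγ) haa
  refine ⟨m, hm, δ, hδD, ?_, (hc.2 δ hδD).trans hcδ, hδδ, hfix, fun hne h => ?_⟩
  · have h1 : ⟪a, w⟫ = 0 := by rw [polar_comm, hc.2 a ha, hca]
    have h2 : ⟪δ, w⟫ = γ := by rw [polar_comm, hc.2 δ hδD, hcδ]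
    rw [hmx, ORefl.refl_apply, ORefl.refl_apply, h1, mul_zero, zero_smul, sub_zero, h2, hδδ]
    match_scalars <;> field_simp
  · obtain ⟨e, he⟩ := Submodule.mem_span_singleton.mp h
    have hp0 : p = (e - α) • c := by rw [sub_smul, he, hδ]; abel
    have h0 : p = 0 := by
      rw [hp0, polar_smul_right, self_eq S, smul_eq_mul] at hcp
      rw [hp0, (mul_eq_zero.mp hcp).resolve_right (mul_ne_zero S.two hcc), zero_smul]
    rw [h0, QuadraticMap.map_zero, hr, hα] at hpp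
    refine hne ?_
    have h2' := S.two
    have h4 : (2 : F) ^ 2 ≠ 0 := pow_ne_zero 2 S.two
    field_simp at hpp
    apply mul_left_cancel₀ hγ
    linear_combination hpp

/-- Rotating the centre by a moved copy. -/
theorem par_rotate {w z δ : Vn} {m : Gl} {γ : F} (hw : Q w = 0) (hz : Par Q K w z) (hm : m ∈ K)
    (hmz : m ⬝ₘ z = z) (hmw : m ⬝ₘ w = w + δ) (hδ : ⟪w, δ⟫ = γ) (s : F) :
    Q (w + (s * γ) • z - (s * s * Q z * γ) • (w + δ)) = 0 ∧
      Par Q K (w + (s * γ) • z - (s * s * Q z * γ) • (w + δ)) (z - (2 * s * Q z) • (w + δ)) := by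
  have h1 := par_map S hz hm
  rw [hmz, hmw] at h1
  obtain ⟨g, hg, hgx⟩ := h1.2 s
  have e1 : g ⬝ₘ w = w + (s * γ) • z - (s * s * Q z * γ) • (w + δ) := by
    rw [hgx, eichler, polar_add_right, self_zero S hw, hδ, zero_add, polar_smul_right, hz.1, smul_zero, zero_add,
      QuadraticMap.map_smul, smul_eq_mul]
    module
  have e2 : g ⬝ₘ z = z - (2 * s * Q z) • (w + δ) := by
    have h0 : ⟪z, w + δ⟫ = 0 := swap0 S h1.1
    rw [hgx, eichler, h0, polar_smul_right, self_eq S]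
    simp only [smul_eq_mul]
    module
  refine ⟨e1 ▸ (mem_isometry S hg w).trans hw, ?_⟩
  rw [← e1, ← e2]
  exact par_map S hz hg

/-! ### Members of dimension three -/

theorem five_le (hk : k = 3) : 5 ≤ Fintype.card F := by
  classical
  have hne : Fintype.card F ≠ 3 := fun h => S.excl ⟨h, hk⟩
  have hodd : Fintype.card F % 2 = 1 :=
    FiniteField.odd_card_of_char_ne_two fun h => S.two (by
      haveI := ringChar.of_eq h
      exact CharTwo.two_eq_zero)
  have := Fintype.one_lt_card (α := F)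
  omega

/-- Coordinates with respect to three orthogonal anisotropic vectors. -/
theorem coords (hk : k = 3) {i : Fin t} {c a b : Vn} (hc : c ∈ D i) (ha : a ∈ D i) (hb : b ∈ D i) (hcc : Q c ≠ 0)
    (haa : Q a ≠ 0) (hbb : Q b ≠ 0) (hca : ⟪c, a⟫ = 0) (hcb : ⟪c, b⟫ = 0) (hab : ⟪a, b⟫ = 0) {x : Vn}
    (hx : x ∈ D i) :
    x = (⟪c, x⟫ / (2 * Q c)) • c + (⟪a, x⟫ / (2 * Q a)) • a + (⟪b, x⟫ / (2 * Q b)) • b := by
  classical
  by_contra hne
  obtain ⟨r, hr⟩ : ∃ r, r = x - ((⟪c, x⟫ / (2 * Q c)) • c + (⟪a, x⟫ / (2 * Q a)) • a + (⟪b, x⟫ / (2 * Q b)) • b) :=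
    ⟨_, rfl⟩
  have hrD : r ∈ D i :=
    hr ▸ sub_mem hx (add_mem (add_mem ((D i).smul_mem _ hc) ((D i).smul_mem _ ha)) ((D i).smul_mem _ hb))
  have hr0 : r ≠ 0 := hr ▸ sub_ne_zero.mpr hne
  have hperp : ⟪c, r⟫ = 0 ∧ ⟪a, r⟫ = 0 ∧ ⟪b, r⟫ = 0 := by
    simp only [hr, polar_sub_right, polar_add_right, polar_smul_right, self_eq S, hca, hcb, hab, swap0 S hca,
      swap0 S hcb, swap0 S hab, smul_eq_mul, mul_zero, add_zero, zero_add,
      div_mul_cancel₀ _ (mul_ne_zero S.two hcc), div_mul_cancel₀ _ (mul_ne_zero S.two haa),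
      div_mul_cancel₀ _ (mul_ne_zero S.two hbb), sub_self, and_self]
  have hind : LinearIndependent F ![c, a, b] := by
    refine Fintype.linearIndependent_iff.2 fun g hg => ?_
    simp only [Fin.sum_univ_three, Matrix.cons_val_zero, Matrix.cons_val_one, Matrix.cons_val_two, Matrix.tail_cons,
      Matrix.head_cons] at hg
    have h0 := congrArg (fun u => ⟪c, u⟫) hg
    have h1 := congrArg (fun u => ⟪a, u⟫) hg
    have h2 := congrArg (fun u => ⟪b, u⟫) hg
    simp only [polar_add_right, polar_smul_right, self_eq S, hca, hcb, hab, swap0 S hca, swap0 S hcb, swap0 S hab,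
      smul_eq_mul, mul_zero, add_zero, zero_add, polar_zero_right, mul_eq_zero, S.two, hcc, haa, hbb, or_false,
      false_or] at h0 h1 h2
    exact fun j => by fin_cases j <;> assumption
  have hspan : Submodule.span F (Set.range ![c, a, b]) = D i :=
    Submodule.eq_of_le_of_finrank_eq (Submodule.span_le.2 (by
      rintro _ ⟨j, rfl⟩; fin_cases j <;> assumption))
      (by rw [finrank_span_eq_card hind, finrank_member S, Fintype.card_fin, hk])
  obtain ⟨u, hu, hne'⟩ := nondeg S hrD hr0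
  rw [← hspan, Submodule.mem_span_range_iff_exists_fun] at hu
  obtain ⟨g, rfl⟩ := hu
  refine hne' ?_
  simp only [Fin.sum_univ_three, Matrix.cons_val_zero, Matrix.cons_val_one, Matrix.cons_val_two, Matrix.tail_cons,
    Matrix.head_cons, polar_add_right, polar_smul_right, swap0 S hperp.1, swap0 S hperp.2.1, swap0 S hperp.2.2,
    smul_zero, add_zero]

omit S in
/-- A slope avoiding a coincidence. -/
theorem exists_slope {F : Type*} [Field F] [Fintype F] (h5 : 5 ≤ Fintype.card F) {κ : F} (hκ : κ ≠ 0)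
    (h : ¬ IsSquare κ ∨ ¬ IsSquare (-κ)) : ∃ μ : F, μ ≠ 0 ∧ μ * μ ≠ κ ∧ μ * μ ≠ -κ := by
  by_contra hcon
  push Not at hcon
  -- all non-zero squares are equal
  have hsq : ∀ μ : F, μ ≠ 0 → μ * μ = 1 := by
    intro μ hμ
    rcases h with h | h
    · have e : ∀ ν : F, ν ≠ 0 → ν * ν = -κ := fun ν hν => hcon ν hν fun e => h ⟨ν, e.symm⟩
      have e1 := e 1 one_ne_zero
      rw [e μ hμ, ← e1, mul_one]
    · have e : ∀ ν : F, ν ≠ 0 → ν * ν = κ := fun ν hν => by
        by_contra e'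
        exact h ⟨ν, (hcon ν hν e').symm⟩
      have e1 := e 1 one_ne_zero
      rw [e μ hμ, ← e1, mul_one]
  obtain ⟨μ, h0, h1, h2⟩ := exists_scalar (by omega : 4 ≤ Fintype.card F) 0 1 (-1)
  rcases mul_self_eq_one_iff.mp (hsq μ h0) with e | e
  · exact h1 e
  · exact h2 e

/-- Rotations fixing the component. -/
theorem exists_rotation {i : Fin t} {c a b : Vn} (hc : c ∈ D i) (ha : a ∈ D i) (hb : b ∈ D i) (haa : Q a ≠ 0)
    (hca : ⟪c, a⟫ = 0) (hcb : ⟪c, b⟫ = 0) (hab : ⟪a, b⟫ = 0) {κ μ : F} (hκ : Q b = κ * Q a) (hμ0 : μ ≠ 0)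
    (hμ1 : μ * μ ≠ κ) (hμ2 : μ * μ ≠ -κ) :
    ∃ r ∈ K, ∃ l m : F, l ≠ 0 ∧ m ≠ 0 ∧ l * l + κ * (m * m) = 1 ∧
      (∀ x, (∀ u ∈ D i, ⟪x, u⟫ = 0) → r ⬝ₘ x = x) ∧ r ⬝ₘ c = c ∧
      ∀ α β : F, r ⬝ₘ (α • a + β • b) - (α • a + β • b) =
        (-2 * m * (κ * m * α + κ * l * β)) • a + (2 * m * (l * α - κ * m * β)) • b := by
  have hd1 : κ - μ * μ ≠ 0 := sub_ne_zero.mpr hμ1.symm
  have hd2 : κ + μ * μ ≠ 0 := fun e => hμ2 (by linear_combination e)
  obtain ⟨l, hl⟩ : ∃ l, l = (κ - μ * μ) / (κ + μ * μ) := ⟨_, rfl⟩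
  obtain ⟨m, hm⟩ : ∃ m, m = 2 * μ / (κ + μ * μ) := ⟨_, rfl⟩
  have hlm : l * l + κ * (m * m) = 1 := by
    rw [hl, hm, div_mul_div_comm, div_mul_div_comm, mul_div_assoc', ← add_div, div_eq_one_iff_eq (mul_ne_zero hd2 hd2)]
    ring
  obtain ⟨b', hb'⟩ : ∃ b', b' = l • a + m • b := ⟨_, rfl⟩
  have hb'D : b' ∈ D i := hb' ▸ add_mem ((D i).smul_mem _ ha) ((D i).smul_mem _ hb)
  have hQb' : Q b' = Q a := by
    rw [hb', QuadraticMap.map_add ⇑Q, QuadraticMap.map_smul, QuadraticMap.map_smul, polar_smul_left, polar_smul_right,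
      hab, hκ]
    simp only [smul_eq_mul, mul_zero, add_zero]
    linear_combination Q a * hlm
  obtain ⟨r, hr, hrx, hfix⟩ := refl_stab S hb'D ha (by rw [hQb']; exact haa) hQb'.symm
  refine ⟨r, hr, l, m, hl ▸ div_ne_zero hd1 hd2, hm ▸ div_ne_zero (mul_ne_zero S.two hμ0) hd2, hlm, hfix, ?_,
    fun α β => ?_⟩
  · have e1 : ⟪b', c⟫ = 0 := by
      rw [hb', polar_add_left, polar_smul_left, polar_smul_left, swap0 S hca, swap0 S hcb, smul_zero, smul_zero,
        add_zero]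
    rw [hrx, ORefl.refl_apply, ORefl.refl_apply, swap0 S hca, mul_zero, zero_smul, sub_zero, e1, mul_zero, zero_smul,
      sub_zero]
  · have e1 : ⟪a, α • a + β • b⟫ = 2 * α * Q a := by
      rw [polar_add_right, polar_smul_right, polar_smul_right, self_eq S, hab, smul_zero, add_zero, smul_eq_mul]; ring
    have e2 : ORefl.refl Q a (α • a + β • b) = (-α) • a + β • b := by
      rw [ORefl.refl_apply, e1]
      match_scalars <;> field_simp <;> ring
    have e3 : ⟪b', (-α) • a + β • b⟫ = 2 * Q a * (-(α * l) + κ * m * β) := by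
      rw [hb']
      simp only [polar_add_left, polar_add_right, polar_smul_left, polar_smul_right, self_eq S, hab, swap0 S hab, hκ,
        smul_eq_mul]
      ring
    rw [hrx, e2, ORefl.refl_apply, e3, hQb', hb']
    match_scalars <;> field_simp
    · linear_combination (2 * α) * hlm
    · ring

end Cfsg.Agent.Classical.ODecomp
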