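/-
Orthogonal decompositions: the case analysis leading to a seed.
-/
import Cfsg.Agent.Lib.Classical.ODecompSeed

set_option autoImplicit false
set_option linter.unusedSectionVars false
set_option linter.style.haveILetI false

namespace Cfsg.Agent.Classical.ODecomp

open Matrix Module QuadraticMap Cfsg.Geo
open Cfsg.Agent.Classical
open Cfsg.Agent.Classical.OCount (PND)

variable {ι : Type} [Fintype ι] [DecidableEq ι] {F : Type*} [Field F] [Fintype F]
  {Q : QuadraticForm F (ι → F)} {t k : ℕ} {D : Fin t → Submodule F (ι → F)} {K : Subgroup (GL ι F)}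

local notation "Gl" => GL ι F
local notation "Vn" => ι → F
local notation "⟪" x ", " y "⟫" => QuadraticMap.polar (DFunLike.coe Q) x y
local notation:max g:max " ⬝ₘ " x:max => ((g : Gl) : Matrix ι ι F) *ᵥ x

/-- The orthogonal plane of the vector inside its member has no singular vectors. -/
def Bad (Q : QuadraticForm F (ι → F)) (D : Fin t → Submodule F (ι → F)) (i : Fin t) (c : ι → F) : Prop :=
  ∀ v ∈ D i, QuadraticMap.polar (⇑Q) c v = 0 → Q v = 0 → v = 0

/-- A scalar making a form take a non-square value. -/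
theorem exists_tau {F : Type*} [Field F] [Fintype F] (h2 : (2 : F) ≠ 0) (h5 : 5 ≤ Fintype.card F) {κ : F}
    (hκ : κ ≠ 0) : ∃ τ : F, τ ≠ 0 ∧ ¬ IsSquare (1 + κ * (τ * τ)) := by
  obtain ⟨ν, hν⟩ := FiniteField.exists_nonsquare (F := F) fun h => h2 (by
    haveI := ringChar.of_eq h
    exact CharTwo.two_eq_zero)
  obtain ⟨a, b, hab⟩ := OOmega.exists_rep h2 one_ne_zero hκ ν
  by_cases ha : a = 0
  swap
  · refine ⟨b / a, fun hb => hν ?_, ?_⟩
    · have hb0 : b = 0 := by simpa [ha] using hb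
      exact ⟨a, by rw [← hab, hb0]; ring⟩
    · rintro ⟨r, hr⟩
      refine hν ⟨a * r, ?_⟩
      rw [← hab, show a * r * (a * r) = a * a * (r * r) by ring, ← hr]
      field_simp
  have hκns : ¬ IsSquare κ := fun ⟨r, hr⟩ => hν ⟨r * b, by rw [← hab, ha, hr]; ring⟩
  obtain ⟨m, hm0, hm1⟩ : ∃ m : F, m ≠ 0 ∧ 1 + κ * (m * m) ≠ 0 := by
    by_cases h1 : 1 + κ = 0
    · obtain ⟨m, m0, m1, m2⟩ := exists_scalar (by omega : 4 ≤ Fintype.card F) 0 1 (-1)
      refine ⟨m, m0, fun e => ?_⟩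
      have : m * m = 1 := by linear_combination (m * m) * h1 - e
      rcases mul_self_eq_one_iff.mp this with e' | e'
      · exact m1 e'
      · exact m2 e'
    · exact ⟨1, one_ne_zero, by rwa [mul_one, mul_one]⟩
  obtain ⟨s, hs⟩ : ∃ s, s = -2 * κ * m / (1 + κ * (m * m)) := ⟨_, rfl⟩
  obtain ⟨τ, hτ⟩ : ∃ τ, τ = (1 - κ * (m * m)) / (1 + κ * (m * m)) := ⟨_, rfl⟩
  have hs0 : s ≠ 0 := hs ▸ div_ne_zero (mul_ne_zero (mul_ne_zero (neg_ne_zero.mpr h2) hκ) hm0) hm1
  have hτ0 : τ ≠ 0 := hτ ▸ div_ne_zero (fun e => hκns ⟨m⁻¹, by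
    rw [← mul_inv]; exact eq_inv_of_mul_eq_one_left (by linear_combination -e)⟩) hm1
  have hid : s * s + κ * (τ * τ) = κ := by
    rw [hs, hτ, div_mul_div_comm, div_mul_div_comm, mul_div_assoc', ← add_div,
      div_eq_iff (mul_ne_zero hm1 hm1)]
    ring
  refine ⟨τ / s, div_ne_zero hτ0 hs0, ?_⟩
  rintro ⟨r, hr⟩
  refine hκns ⟨r * s, ?_⟩
  rw [show r * s * (r * s) = r * r * (s * s) by ring, ← hr]
  field_simp
  linear_combination -hid

variable (S : Setup Q k D K)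

include S

theorem polar_sum_right (s : Finset (Fin t)) (c : Fin t → Vn) (z : Vn) : ⟪z, ∑ a ∈ s, c a⟫ = ∑ a ∈ s, ⟪z, c a⟫ := by
  rw [polar_comm, polar_sum S]
  simp only [polar_comm]

theorem quad_sum {c : Fin t → Vn} (hc : ∀ a, c a ∈ D a) (s : Finset (Fin t)) : Q (∑ a ∈ s, c a) = ∑ a ∈ s, Q (c a) := by
  induction s using Finset.cons_induction with
  | empty => simp
  | cons a s ha ih =>
    rw [Finset.sum_cons, Finset.sum_cons, QuadraticMap.map_add ⇑Q, ih, polar_sum_right S,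
      Finset.sum_eq_zero (fun b hb => orth S (fun e : a = b => ha (e ▸ hb)) (hc a) (hc b)), add_zero]

/-- A second anisotropic component. -/
theorem exists_other_aniso {w c : Vn} {i : Fin t} (hw : Q w = 0) (hc : Comp Q D i w c) (hcc : Q c ≠ 0) :
    ∃ l, l ≠ i ∧ ∃ c', Comp Q D l w c' ∧ Q c' ≠ 0 := by
  classical
  by_contra hcon
  push Not at hcon
  obtain ⟨cs, hcs, rfl⟩ := components S w
  rw [quad_sum S hcs, Finset.sum_eq_single i (fun b _ hb => hcon b hb _ (comp_sum S hcs b))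
    (fun h => absurd (Finset.mem_univ _) h), ← eq_of_comp S hc (comp_sum S hcs i)] at hw
  exact hcc hw

/-- A fixing element of the stabiliser gives a local parameter. -/
theorem par_of_fix {w z c p : Vn} {i : Fin t} (hw : Q w = 0) (hc : Comp Q D i w c) (hz : Par Q K w z)
    (hp : Comp Q D i z p) {r : Gl} (hr : r ∈ K) (hfix : ∀ x, (∀ u ∈ D i, ⟪x, u⟫ = 0) → r ⬝ₘ x = x)
    (hrc : r ⬝ₘ c = c) : Par Q K w (r ⬝ₘ p - p) := by
  have h1 : r ⬝ₘ (w - c) = w - c := hfix _ fun u hu => by rw [polar_sub_left, hc.2 u hu, sub_self]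
  have h2 : r ⬝ₘ (z - p) = z - p := hfix _ fun u hu => by rw [polar_sub_left, hp.2 u hu, sub_self]
  rw [Matrix.mulVec_sub, hrc, sub_left_inj] at h1
  have h3 := par_sub S hw (h1 ▸ par_map S hz hr) hz
  rw [Matrix.mulVec_sub, sub_eq_iff_eq_add] at h2
  rw [h2] at h3
  convert h3 using 1
  abel

/-- A local parameter at a moved component, in dimension three. -/
theorem get_local (hk : k = 3) {w z c p : Vn} {i : Fin t} (hw : Q w = 0) (hc : Comp Q D i w c) (hz : Par Q K w z)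
    (hp : Comp Q D i z p) (hcc : Q c ≠ 0) (hmov : p ∉ Submodule.span F {c}) :
    ∃ d ∈ D i, ⟪c, d⟫ = 0 ∧ d ≠ 0 ∧ Par Q K w d := by
  obtain ⟨a, ha, hca, haa⟩ := exists_aniso_perp S hc.1 hcc
  obtain ⟨b, hb, hcb, hab, hbb⟩ := exists_aniso_perp₂ S hc.1 ha hcc haa hca
  obtain ⟨κ, hκ⟩ : ∃ κ, κ = Q b / Q a := ⟨_, rfl⟩
  have hκb : Q b = κ * Q a := by rw [hκ, div_mul_cancel₀ _ haa]
  have hκ0 : κ ≠ 0 := hκ ▸ div_ne_zero hbb haa
  have hx := coords S hk hc.1 ha hb hcc haa hbb hca hcb hab hp.1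
  obtain ⟨α, hα⟩ : ∃ α, α = ⟪a, p⟫ / (2 * Q a) := ⟨_, rfl⟩
  obtain ⟨β, hβ⟩ : ∃ β, β = ⟪b, p⟫ / (2 * Q b) := ⟨_, rfl⟩
  obtain ⟨ρ, hρ⟩ : ∃ ρ, ρ = ⟪c, p⟫ / (2 * Q c) := ⟨_, rfl⟩
  rw [← hα, ← hβ, ← hρ] at hx
  have hαβ : ¬ (α = 0 ∧ β = 0) := fun ⟨e1, e2⟩ => hmov (by
    rw [hx, e1, e2, zero_smul, zero_smul, add_zero, add_zero]
    exact Submodule.smul_mem _ _ (Submodule.mem_span_singleton_self c))
  by_cases hsq : IsSquare κ
  · obtain ⟨r₀, hr₀⟩ := hsq
    have hr₀0 : r₀ ≠ 0 := fun e => hκ0 (by rw [hr₀, e, mul_zero])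
    obtain ⟨g, hg, hgx, hfix⟩ := refl_stab S hb ((D i).smul_mem r₀ ha) hbb (by
      rw [QuadraticMap.map_smul, hκb, hr₀, smul_eq_mul])
    have hgc : g ⬝ₘ c = c := by
      rw [hgx, ORefl.refl_smul hr₀0, ORefl.refl_apply, ORefl.refl_apply, swap0 S hca, mul_zero, zero_smul, sub_zero,
        swap0 S hcb, mul_zero, zero_smul, sub_zero]
    have hga : g ⬝ₘ a = -a := by
      rw [hgx, ORefl.refl_smul hr₀0, ORefl.refl_self haa, map_neg, ORefl.refl_apply, swap0 S hab, mul_zero, zero_smul,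
        sub_zero]
    have hgb : g ⬝ₘ b = -b := by
      rw [hgx, ORefl.refl_smul hr₀0, ORefl.refl_apply a b, hab, mul_zero, zero_smul, sub_zero,
        ORefl.refl_self hbb]
    have h1 := par_of_fix S hw hc hz hp hg hfix hgc
    rw [hx, Matrix.mulVec_add, Matrix.mulVec_add, Matrix.mulVec_smul, Matrix.mulVec_smul, Matrix.mulVec_smul, hgc,
      hga, hgb] at h1
    refine ⟨α • a + β • b, add_mem ((D i).smul_mem _ ha) ((D i).smul_mem _ hb), ?_, fun e => hαβ ⟨?_, ?_⟩, ?_⟩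
    · rw [polar_add_right, polar_smul_right, polar_smul_right, hca, hcb, smul_zero, smul_zero, add_zero]
    · have := congrArg (fun u => ⟪a, u⟫) e
      simpa [polar_add_right, polar_smul_right, self_eq S, hab, haa, S.two] using this
    · have := congrArg (fun u => ⟪b, u⟫) e
      simpa [polar_add_right, polar_smul_right, self_eq S, swap0 S hab, hbb, S.two] using this
    · have h2 := par_smul S (-(2 : F))⁻¹ h1
      convert h2 using 1
      have h2' := S.two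
      match_scalars <;> field_simp <;> ring
  obtain ⟨μ, hμ0, hμ1, hμ2⟩ := exists_slope (five_le S hk) hκ0 (Or.inl hsq)
  obtain ⟨r, hr, l, m, hl0, hm0, hlm, hfix, hrc, hrx⟩ := exists_rotation S hc.1 ha hb haa hca hcb hab hκb hμ0 hμ1 hμ2
  have h1 := par_of_fix S hw hc hz hp hr hfix hrc
  have e : r ⬝ₘ p - p = r ⬝ₘ (α • a + β • b) - (α • a + β • b) := by
    conv_lhs => rw [hx]
    rw [show ρ • c + α • a + β • b = ρ • c + (α • a + β • b) by abel, Matrix.mulVec_add, Matrix.mulVec_smul, hrc]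
    abel
  rw [e, hrx] at h1
  refine ⟨_, add_mem ((D i).smul_mem _ ha) ((D i).smul_mem _ hb), ?_, fun e => hαβ ?_, h1⟩
  · rw [polar_add_right, polar_smul_right, polar_smul_right, hca, hcb, smul_zero, smul_zero, add_zero]
  · have c1 := congrArg (fun u => ⟪a, u⟫) e
    have c2 := congrArg (fun u => ⟪b, u⟫) e
    simp only [polar_add_right, polar_smul_right, self_eq S, hab, swap0 S hab, smul_eq_mul, mul_zero, add_zero,
      zero_add, polar_zero_right, mul_eq_zero, S.two, haa, hbb, hm0, neg_eq_zero, false_or, or_false] at c1 c2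
    have e1 : m * α + l * β = 0 := mul_left_cancel₀ hκ0 (by linear_combination c1)
    have hβ0 : β = 0 := by
      linear_combination (-β) * hlm + l * e1 - m * c2
    exact ⟨(mul_eq_zero.mp (by linear_combination e1 - l * hβ0)).resolve_left hm0, hβ0⟩

/-- The whole plane is available when it has no singular vectors. -/
theorem plane_full (hk : k = 3) {w z c p : Vn} {i : Fin t} (hw : Q w = 0) (hc : Comp Q D i w c) (hz : Par Q K w z)
    (hp : Comp Q D i z p) (hcc : Q c ≠ 0) (hbad : Bad Q D i c) (hmov : p ∉ Submodule.span F {c}) {x : Vn}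
    (hx : x ∈ D i) (hcx : ⟪c, x⟫ = 0) : Par Q K w x := by
  obtain ⟨d, hd, hcd, hd0, hdP⟩ := get_local S hk hw hc hz hp hcc hmov
  have hdd : Q d ≠ 0 := fun e => hd0 (hbad d hd hcd e)
  obtain ⟨f, hf, hcf, hdf, hff⟩ := exists_aniso_perp₂ S hc.1 hd hcc hdd hcd
  obtain ⟨κ, hκ⟩ : ∃ κ, κ = Q f / Q d := ⟨_, rfl⟩
  have hκf : Q f = κ * Q d := by rw [hκ, div_mul_cancel₀ _ hdd]
  have hκ0 : κ ≠ 0 := hκ ▸ div_ne_zero hff hdd
  have hns : ¬ IsSquare (-κ) := by
    rintro ⟨s, hs⟩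
    have h := hbad (s • d + f) (add_mem ((D i).smul_mem _ hd) hf) (by
      rw [polar_add_right, polar_smul_right, hcd, hcf, smul_zero, add_zero]) (by
      rw [QuadraticMap.map_add ⇑Q, QuadraticMap.map_smul, polar_smul_left, hdf, hκf, smul_zero, add_zero, smul_eq_mul]
      linear_combination (-(Q d)) * hs)
    have h2 := congrArg (fun u => ⟪f, u⟫) h
    simp only [polar_add_right, polar_smul_right, swap0 S hdf, self_eq S, smul_zero, zero_add, polar_zero_right] at h2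
    exact mul_ne_zero S.two hff h2
  obtain ⟨μ, hμ0, hμ1, hμ2⟩ := exists_slope (five_le S hk) hκ0 (Or.inr hns)
  obtain ⟨r, hr, l, m, hl0, hm0, hlm, hfix, hrc, hrx⟩ := exists_rotation S hc.1 hd hf hdd hcd hcf hdf hκf hμ0 hμ1 hμ2
  have h1 := par_of_fix S hw hc hdP (comp_self S hd) hr hfix hrc
  have h2 := hrx 1 0
  rw [one_smul, zero_smul, add_zero] at h2
  rw [h2] at h1
  obtain ⟨β, hβ⟩ : ∃ β, β = ⟪f, x⟫ / (2 * Q f) := ⟨_, rfl⟩
  obtain ⟨α, hα⟩ : ∃ α, α = ⟪d, x⟫ / (2 * Q d) := ⟨_, rfl⟩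
  have hx' := coords S hk hc.1 hd hf hcc hdd hff hcd hcf hdf hx
  rw [hcx, zero_div, zero_smul, zero_add, ← hα, ← hβ] at hx'
  have h3 := par_add S hw (par_smul S (α + β * κ * m / l) hdP) (par_smul S (β / (2 * m * l)) h1)
  rw [hx']
  have h2' := S.two
  convert h3 using 1
  match_scalars <;> field_simp <;> ring

/-- From a plane without singular vectors to a seed. -/
theorem seed_of_plane (hk : k = 3) {w c : Vn} {i : Fin t} (hw : Q w = 0) (hc : Comp Q D i w c) (hcc : Q c ≠ 0)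
    (hbad : Bad Q D i c) (hall : ∀ x ∈ D i, ⟪c, x⟫ = 0 → Par Q K w x) : Seed Q D K := by
  obtain ⟨v, hv, hv0, hvv⟩ := exists_singular S i
  obtain ⟨ρ, hρ⟩ : ∃ ρ, ρ = ⟪c, v⟫ / (2 * Q c) := ⟨_, rfl⟩
  have hcv : ⟪c, v⟫ = 2 * Q c * ρ := by rw [hρ, mul_div_cancel₀ _ (mul_ne_zero S.two hcc)]
  have hρ0 : ρ ≠ 0 := fun e => hv0 (hbad v hv (by rw [hcv, e, mul_zero]) hvv)
  obtain ⟨p, hp⟩ : ∃ p, p = v - ρ • c := ⟨_, rfl⟩
  have hpD : p ∈ D i := hp ▸ sub_mem hv ((D i).smul_mem _ hc.1)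
  have hcp : ⟪c, p⟫ = 0 := by rw [hp, polar_sub_right, polar_smul_right, hcv, self_eq S, smul_eq_mul]; ring
  have hpp : Q p = -(ρ * ρ) * Q c := by
    rw [hp, sub_eq_add_neg, ← neg_smul, QuadraticMap.map_add ⇑Q, QuadraticMap.map_smul, hvv, polar_smul_right,
      polar_comm (⇑Q) v c, hcv, smul_eq_mul, smul_eq_mul]
    ring
  have hpp0 : Q p ≠ 0 := hpp ▸ mul_ne_zero (neg_ne_zero.mpr (mul_ne_zero hρ0 hρ0)) hcc
  obtain ⟨p', hp'D, hcp', hpp', hp'p'⟩ := exists_aniso_perp₂ S hc.1 hpD hcc hpp0 hcp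
  obtain ⟨d, hd⟩ : ∃ d, d = p + p' := ⟨_, rfl⟩
  have hdD : d ∈ D i := hd ▸ add_mem hpD hp'D
  have hcd : ⟪c, d⟫ = 0 := by rw [hd, polar_add_right, hcp, hcp', add_zero]
  have hdQ : Q d = Q p + Q p' := by rw [hd, QuadraticMap.map_add ⇑Q, hpp', add_zero]
  have hdd : Q d ≠ 0 := by
    intro h
    have h1 := congrArg (fun u => ⟪p', u⟫) (hbad d hdD hcd h)
    simp only [hd, polar_add_right, swap0 S hpp', self_eq S, zero_add, polar_zero_right] at h1
    exact mul_ne_zero S.two hp'p' h1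
  have hdv : ⟪d, v⟫ = 2 * Q p := by
    rw [show v = p + ρ • c by rw [hp]; abel, polar_add_right, polar_smul_right, swap0 S hcd, smul_zero, add_zero, hd,
      polar_add_left, swap0 S hpp', self_eq S, add_zero]
  obtain ⟨e, he⟩ : ∃ e, e = c + ρ⁻¹ • d := ⟨_, rfl⟩
  have heD : e ∈ D i := he ▸ add_mem hc.1 ((D i).smul_mem _ hdD)
  have hev : ⟪e, v⟫ = 0 := by
    rw [he, polar_add_left, polar_smul_left, hdv, hcv, hpp, smul_eq_mul]
    field_simp
    ring
  have hee : Q e ≠ 0 := by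
    have h : Q e = ρ⁻¹ * ρ⁻¹ * Q p' := by
      rw [he, QuadraticMap.map_add ⇑Q, QuadraticMap.map_smul, polar_smul_right, hcd, hdQ, hpp, smul_eq_mul, smul_eq_mul]
      field_simp
      ring
    exact h ▸ mul_ne_zero (mul_ne_zero (inv_ne_zero hρ0) (inv_ne_zero hρ0)) hp'p'
  obtain ⟨r, hr⟩ : ∃ r, r = 2 * ρ⁻¹ := ⟨_, rfl⟩
  have hr0 : r ≠ 0 := hr ▸ mul_ne_zero S.two (inv_ne_zero hρ0)
  obtain ⟨γ, hγ⟩ : ∃ γ, γ = -(r * r * Q d) := ⟨_, rfl⟩
  have hγ0 : γ ≠ 0 := hγ ▸ neg_ne_zero.mpr (mul_ne_zero (mul_ne_zero hr0 hr0) hdd)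
  obtain ⟨l, hli, c', hc', hc'c'⟩ := exists_other_aniso S hw hc hcc
  obtain ⟨m, hm, δ, hδD, hmw, hwδ, hδδ, hfix, -⟩ := exists_move S hc' hc'c' γ hγ0
  have hmd : m ⬝ₘ d = d := hfix d fun u hu => orth S hli.symm hdD hu
  obtain ⟨hxx, hzs⟩ := par_rotate S hw (hall d hdD hcd) hm hmd hmw hwδ (r / γ)
  rw [show r / γ * (r / γ) * Q d * γ = -1 by rw [hγ]; field_simp, show r / γ * γ = r from div_mul_cancel₀ _ hγ0,
    show 2 * (r / γ) * Q d = -(2 / r) by rw [hγ]; field_simp] at hzs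
  rw [show r / γ * (r / γ) * Q d * γ = -1 by rw [hγ]; field_simp, show r / γ * γ = r from div_mul_cancel₀ _ hγ0] at hxx
  obtain ⟨x, hx⟩ : ∃ x, x = w + r • d - (-1 : F) • (w + δ) := ⟨_, rfl⟩
  obtain ⟨z₁, hz₁⟩ : ∃ z₁, z₁ = d - (-(2 / r)) • (w + δ) := ⟨_, rfl⟩
  rw [← hx] at hzs hxx
  rw [← hz₁] at hzs
  have hwδc : Comp Q D i (w + δ) c := by simpa using comp_add S hc (comp_other S hli.symm hδD)
  have hxc : Comp Q D i x ((2 : F) • e) := by
    have h := comp_sub S (comp_add S hc (comp_smul S r (comp_self S hdD))) (comp_smul S (-1 : F) hwδc)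
    rw [hx]
    convert h using 1
    rw [he, hr]
    module
  have hz₁c : Comp Q D i z₁ (d - (-(2 / r)) • c) := hz₁ ▸ comp_sub S (comp_self S hdD) (comp_smul S _ hwδc)
  obtain ⟨z₂, hz₂⟩ : ∃ z₂, z₂ = z₁ - r⁻¹ • x := ⟨_, rfl⟩
  have hz₂c : Comp Q D i z₂ 0 := by
    have h := comp_sub S hz₁c (comp_smul S r⁻¹ hxc)
    rw [hz₂]
    convert h using 1
    rw [he, hr]
    have h2' := S.two
    match_scalars <;> field_simp <;> ring
  have hmQ : Q (w + δ) = 0 := hmw ▸ (mem_isometry S hm w).trans hw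
  have hQz₂ : Q z₂ = Q d := by
    have h1 : Q z₁ = Q d := by
      rw [hz₁, sub_eq_add_neg, ← neg_smul, QuadraticMap.map_add ⇑Q, QuadraticMap.map_smul, hmQ, polar_smul_right]
      have : ⟪d, w + δ⟫ = 0 := by
        rw [← hmw, ← hmd, iso_polar S hm]
        exact swap0 S (hall d hdD hcd).1
      rw [this]; simp
    rw [hz₂, sub_eq_add_neg, ← neg_smul, QuadraticMap.map_add ⇑Q, QuadraticMap.map_smul, hxx, polar_smul_right,
      swap0 S hzs.1, h1]
    simp
  have hxD : x ∉ D i := fun h => by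
    rw [eq_of_comp S (comp_self S h) hxc, QuadraticMap.map_smul] at hxx
    exact mul_ne_zero (mul_ne_zero S.two S.two) hee (by simpa [mul_assoc] using hxx)
  have h0 : ∀ u ∈ D i, ⟪z₂, u⟫ = 0 := fun u hu => by rw [hz₂c.2 u hu, polar_zero_left]
  refine seed_of_perp S hxx hxD hxc (hz₂ ▸ par_sub S hxx hzs (par_smul S _ (par_self S hxx)))
    (hQz₂ ▸ hdd) hv hv0 hvv ?_ (h0 v hv) heD (swap0 S hev) (h0 e heD) ?_
  · rw [polar_smul_left, hev, smul_zero]
  · rw [polar_smul_left, self_eq S, smul_eq_mul]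
    exact mul_ne_zero S.two (mul_ne_zero S.two hee)

/-- Dimension three, a plane with singular vectors. -/
theorem seed_of_good (hk : k = 3) {w z c p : Vn} {i : Fin t} (hw : Q w = 0) (hwi : w ∉ D i) (hc : Comp Q D i w c)
    (hz : Par Q K w z) (hp : Comp Q D i z p) (hcc : Q c ≠ 0) (hgood : ¬ Bad Q D i c)
    (hmov : p ∉ Submodule.span F {c}) : Seed Q D K := by
  obtain ⟨d, hd, hcd, hd0, hdP⟩ := get_local S hk hw hc hz hp hcc hmov
  by_cases hdd : Q d = 0
  · exact seed_of_local S hw hd hd0 hdd hdP hwi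
  obtain ⟨f, hf, hcf, hdf, hff⟩ := exists_aniso_perp₂ S hc.1 hd hcc hdd hcd
  simp only [Bad, not_forall] at hgood
  obtain ⟨v, hv, hcv, hvv, hv0⟩ := hgood
  obtain ⟨A, hA⟩ : ∃ A, A = ⟪d, v⟫ / (2 * Q d) := ⟨_, rfl⟩
  obtain ⟨B, hB⟩ : ∃ B, B = ⟪f, v⟫ / (2 * Q f) := ⟨_, rfl⟩
  have hve := coords S hk hc.1 hd hf hcc hdd hff hcd hcf hdf hv
  rw [hcv, zero_div, zero_smul, zero_add, ← hA, ← hB] at hve
  rw [hve, QuadraticMap.map_add ⇑Q, QuadraticMap.map_smul, QuadraticMap.map_smul, polar_smul_left, polar_smul_right,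
    hdf] at hvv
  simp only [smul_eq_mul, mul_zero, add_zero] at hvv
  have hB0 : B ≠ 0 := fun e => by
    rw [e] at hvv
    have hA0 : A = 0 := by simpa [hdd] using hvv
    exact hv0 (by rw [hve, hA0, e, zero_smul, zero_smul, add_zero])
  obtain ⟨h, hh⟩ : ∃ h, h = A / B := ⟨_, rfl⟩
  have hfQ : Q f = -(h * h) * Q d := by
    rw [hh]; field_simp; linear_combination hvv
  have hh0 : h ≠ 0 := fun e => hff (by rw [hfQ, e]; ring)
  obtain ⟨κ, hκ⟩ : ∃ κ, κ = Q d / Q c := ⟨_, rfl⟩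
  have hκd : Q d = κ * Q c := by rw [hκ, div_mul_cancel₀ _ hcc]
  have hκ0 : κ ≠ 0 := hκ ▸ div_ne_zero hdd hcc
  obtain ⟨τ, hτ0, hτns⟩ := exists_tau S.two (five_le S hk) hκ0
  obtain ⟨e, he⟩ : ∃ e, e = c + τ • d := ⟨_, rfl⟩
  have heD : e ∈ D i := he ▸ add_mem hc.1 ((D i).smul_mem _ hd)
  have hee : Q e ≠ 0 := by
    have h1 : Q e = Q c * (1 + κ * (τ * τ)) := by
      rw [he, QuadraticMap.map_add ⇑Q, QuadraticMap.map_smul, polar_smul_right, hcd, hκd, smul_eq_mul, smul_eq_mul]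
      ring
    exact h1 ▸ mul_ne_zero hcc fun e0 => hτns (by rw [e0]; exact IsSquare.zero)
  have hbad : Bad Q D i e := by
    intro u hu heu huu
    obtain ⟨A', hA'⟩ : ∃ A', A' = ⟪c, u⟫ / (2 * Q c) := ⟨_, rfl⟩
    obtain ⟨B', hB'⟩ : ∃ B', B' = ⟪d, u⟫ / (2 * Q d) := ⟨_, rfl⟩
    obtain ⟨G, hG⟩ : ∃ G, G = ⟪f, u⟫ / (2 * Q f) := ⟨_, rfl⟩
    have hue := coords S hk hc.1 hd hf hcc hdd hff hcd hcf hdf hu
    rw [← hA', ← hB', ← hG] at hue
    have hA'e : A' = -(τ * κ * B') := by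
      rw [he, polar_add_left, polar_smul_left, smul_eq_mul] at heu
      rw [hA', hB', hκd]
      have h2' := S.two
      field_simp
      linear_combination heu
    rw [hue, QuadraticMap.map_add ⇑Q, QuadraticMap.map_add ⇑Q, QuadraticMap.map_smul, QuadraticMap.map_smul,
      QuadraticMap.map_smul, polar_add_left, polar_smul_left, polar_smul_left, polar_smul_right, polar_smul_right,
      polar_smul_left, polar_smul_right, hcd, hcf, hdf, hfQ, hκd, hA'e] at huu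
    simp only [smul_eq_mul, mul_zero, add_zero] at huu
    have h3 : B' * B' * (1 + κ * (τ * τ)) = G * h * (G * h) := by
      refine mul_left_cancel₀ (mul_ne_zero hκ0 hcc) ?_
      linear_combination huu
    have hB'0 : B' = 0 := by
      by_contra hne
      refine hτns ⟨G * h / B', ?_⟩
      field_simp
      linear_combination h3
    rw [hB'0] at h3 hA'e
    have hG0 : G = 0 := by
      have : G * h * (G * h) = 0 := by linear_combination -h3
      exact (mul_eq_zero.mp (mul_self_eq_zero.mp this)).resolve_right hh0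
    rw [hue, hA'e, hB'0, hG0]
    simp
  obtain ⟨σ, hσ0, hσ1, hσ2⟩ := exists_scalar (by have := five_le S hk; omega : 4 ≤ Fintype.card F) 0 1 (-1)
  have hσ1' : 1 - σ ≠ 0 := sub_ne_zero.mpr hσ1.symm
  obtain ⟨r, hr⟩ : ∃ r, r = τ * (1 - σ) := ⟨_, rfl⟩
  have hr0 : r ≠ 0 := hr ▸ mul_ne_zero hτ0 hσ1'
  obtain ⟨γ, hγ⟩ : ∃ γ, γ = r * r * Q d / σ := ⟨_, rfl⟩
  have hγ0 : γ ≠ 0 := hγ ▸ div_ne_zero (mul_ne_zero (mul_ne_zero hr0 hr0) hdd) hσ0
  obtain ⟨l, hli, c', hc', hc'c'⟩ := exists_other_aniso S hw hc hcc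
  obtain ⟨m, hm, δ, hδD, hmw, hwδ, hδδ, hfix, -⟩ := exists_move S hc' hc'c' γ hγ0
  have hmd : m ⬝ₘ d = d := hfix d fun u hu => orth S hli.symm hd hu
  obtain ⟨hxx, hzs⟩ := par_rotate S hw hdP hm hmd hmw hwδ (r / γ)
  rw [show r / γ * (r / γ) * Q d * γ = σ by rw [hγ]; field_simp, show r / γ * γ = r from div_mul_cancel₀ _ hγ0] at hzs hxx
  have hwδc : Comp Q D i (w + δ) c := by simpa using comp_add S hc (comp_other S hli.symm hδD)
  have hxc : Comp Q D i (w + r • d - σ • (w + δ)) ((1 - σ) • e) := by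
    have h := comp_sub S (comp_add S hc (comp_smul S r (comp_self S hd))) (comp_smul S σ hwδc)
    convert h using 1
    rw [he, hr]
    module
  have hzc : Comp Q D i (d - (2 * (r / γ) * Q d) • (w + δ)) (d - (2 * (r / γ) * Q d) • c) :=
    comp_sub S (comp_self S hd) (comp_smul S _ hwδc)
  have hee' : Q ((1 - σ) • e) ≠ 0 := by
    rw [QuadraticMap.map_smul, smul_eq_mul]; exact mul_ne_zero (mul_ne_zero hσ1' hσ1') hee
  have hbad' : Bad Q D i ((1 - σ) • e) := fun u hu h1 h2 => hbad u hu (by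
    rw [polar_smul_left, smul_eq_mul] at h1; exact (mul_eq_zero.mp h1).resolve_left hσ1') h2
  have hmov' : d - (2 * (r / γ) * Q d) • c ∉ Submodule.span F {(1 - σ) • e} := by
    intro hmem
    obtain ⟨a, ha⟩ := Submodule.mem_span_singleton.mp hmem
    have c1 := congrArg (fun u => ⟪c, u⟫) ha
    have c2 := congrArg (fun u => ⟪d, u⟫) ha
    simp only [he, polar_smul_right, polar_add_right, polar_sub_right, self_eq S, hcd, swap0 S hcd, smul_eq_mul,
      mul_zero, add_zero, zero_add, sub_zero] at c1 c2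
    have k1 : a * (1 - σ) = -(2 * (r / γ) * Q d) :=
      mul_right_cancel₀ (mul_ne_zero S.two hcc) (by linear_combination c1)
    have k2 : a * (1 - σ) * τ = 1 := mul_right_cancel₀ (mul_ne_zero S.two hdd) (by linear_combination c2)
    rw [k1, hγ] at k2
    refine hσ2 ?_
    rw [hr] at k2
    field_simp at k2
    linear_combination -k2
  exact seed_of_plane S hk hxx hxc hee' hbad' fun x hx hcx => plane_full S hk hxx hxc hzs hzc hee' hbad' hmov' hx hcx

/-- A moved component gives a seed. -/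
theorem seed_of_moved {w z c p : Vn} {i : Fin t} (hw : Q w = 0) (hwi : w ∉ D i) (hc : Comp Q D i w c)
    (hz : Par Q K w z) (hp : Comp Q D i z p) (hmov : p ∉ Submodule.span F {c}) : Seed Q D K := by
  by_cases hc0 : c = 0
  · subst hc0
    exact seed_zero S hw hwi hc hz hp fun e => hmov (by rw [e]; exact Submodule.zero_mem _)
  by_cases hcc : Q c = 0
  · exact seed_singular S hw hwi hc hz hp hc0 hcc hmov
  rcases Nat.lt_or_ge k 4 with hk | hk
  · have hk3 : k = 3 := by have := S.three; omega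
    by_cases hbad : Bad Q D i c
    · exact seed_of_plane S hk3 hw hc hcc hbad fun x hx hcx => plane_full S hk3 hw hc hz hp hcc hbad hmov hx hcx
    · exact seed_of_good S hk3 hw hwi hc hz hp hcc hbad hmov
  · exact seed_aniso_big S hk hw hwi hc hz hp hcc hmov

/-- A singular centre outside the members with a parameter not proportional to it gives a seed. -/
theorem seed_of_mixed {w z : Vn} (hw : Q w = 0) (hmix : ∀ b, w ∉ D b) (hz : Par Q K w z)
    (hzw : z ∉ Submodule.span F {w}) : Seed Q D K := by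
  by_cases hmov : ∃ i c p, Comp Q D i w c ∧ Comp Q D i z p ∧ p ∉ Submodule.span F {c}
  · obtain ⟨i, c, p, hc, hp, h⟩ := hmov
    exact seed_of_moved S hw (hmix i) hc hz hp h
  push Not at hmov
  obtain ⟨cw, hcw, hwe⟩ := components S w
  have hCw : ∀ i, Comp Q D i w (cw i) := fun i => hwe ▸ comp_sum S hcw i
  obtain ⟨cz, hcz, hze⟩ := components S z
  have hCz : ∀ i, Comp Q D i z (cz i) := fun i => hze ▸ comp_sum S hcz i
  have hprop : ∀ i, ∃ a : F, a • cw i = cz i := fun i =>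
    Submodule.mem_span_singleton.mp (hmov i _ _ (hCw i) (hCz i))
  choose a ha using hprop
  -- swapping a singular parameter
  have swap : ∀ i, cw i ≠ 0 → Q (z - a i • w) = 0 → Seed Q D K := by
    intro i hi hq
    have h0 : Comp Q D i (z - a i • w) 0 := by
      simpa [ha i] using comp_sub S (hCz i) (comp_smul S (a i) (hCw i))
    have hne : z - a i • w ∉ D i := fun h => by
      have := eq_of_comp S (comp_self S h) h0
      exact hzw (by rw [sub_eq_zero.mp this]; exact Submodule.smul_mem _ _ (Submodule.mem_span_singleton_self w))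
    exact seed_zero S hq hne h0 (par_swap S hw hq (par_sub S hw hz (par_smul S _ (par_self S hw)))) (hCw i) hi
  have hw0 : ∃ i, cw i ≠ 0 := by
    by_contra hcon
    push Not at hcon
    refine hmix ⟨0, by have := S.decomp.decomp.decomp.two_le; omega⟩ ?_
    rw [← hwe, Finset.sum_eq_zero fun i _ => hcon i]
    exact Submodule.zero_mem _
  by_cases hall : ∀ i, Q (cw i) = 0
  · obtain ⟨i, hi⟩ := hw0
    refine swap i hi ?_
    have hzz : Q z = 0 := by
      rw [← hze, quad_sum S hcz]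
      exact Finset.sum_eq_zero fun j _ => by rw [← ha j, QuadraticMap.map_smul, hall j, smul_zero]
    rw [sub_eq_add_neg, ← neg_smul, QuadraticMap.map_add ⇑Q, QuadraticMap.map_smul, hzz, hw, polar_smul_right,
      swap0 S hz.1]
    simp
  push Not at hall
  obtain ⟨i, hi⟩ := hall
  have hi0 : cw i ≠ 0 := fun e => hi (by rw [e, QuadraticMap.map_zero])
  by_cases hq : Q (z - a i • w) = 0
  · exact swap i hi0 hq
  obtain ⟨z₀, hz₀⟩ : ∃ z₀, z₀ = z - a i • w := ⟨_, rfl⟩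
  rw [← hz₀] at hq
  have hz₀P : Par Q K w z₀ := hz₀ ▸ par_sub S hw hz (par_smul S _ (par_self S hw))
  have hz₀C : Comp Q D i z₀ 0 := by
    have := comp_sub S (hCz i) (comp_smul S (a i) (hCw i))
    rwa [ha i, sub_self, ← hz₀] at this
  have hz₀D : z₀ ∉ D i := fun h => hq (by rw [eq_of_comp S (comp_self S h) hz₀C, QuadraticMap.map_zero])
  obtain ⟨γ, hγ0, hγ1⟩ : ∃ γ : F, γ ≠ 0 ∧ γ ≠ -4 * Q (cw i) := by
    by_cases h : (1 : F) = -4 * Q (cw i)
    · refine ⟨-1, neg_ne_zero.mpr one_ne_zero, fun e => S.two ?_⟩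
      linear_combination h - e
    · exact ⟨1, one_ne_zero, h⟩
  obtain ⟨m, hm, δ, hδD, hmw, hwδ, hδδ, hfix, hδc⟩ := exists_move S (hCw i) hi γ hγ0
  have hmz : m ⬝ₘ z₀ = z₀ := hfix _ fun u hu => by rw [hz₀C.2 u hu, polar_zero_left]
  have hwδc : Comp Q D i (w + δ) (cw i + δ) := comp_add S (hCw i) (comp_self S hδD)
  obtain ⟨s, hs0, hsD⟩ : ∃ s : F, s ≠ 0 ∧ w + (s * γ) • z₀ - (s * s * Q z₀ * γ) • (w + δ) ∉ D i := by
    by_contra hcon
    push Not at hcon
    have h := sub_mem (hcon 1 one_ne_zero) (hcon (-1) (neg_ne_zero.mpr one_ne_zero))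
    have e : w + (1 * γ) • z₀ - (1 * 1 * Q z₀ * γ) • (w + δ) -
        (w + (-1 * γ) • z₀ - (-1 * -1 * Q z₀ * γ) • (w + δ)) = (2 * γ) • z₀ := by module
    rw [e] at h
    exact hz₀D (((D i).smul_mem_iff (mul_ne_zero S.two hγ0)).mp h)
  obtain ⟨hxx, hzs⟩ := par_rotate S hw hz₀P hm hmz hmw hwδ s
  refine seed_of_moved S hxx hsD
    (comp_sub S (comp_add S (hCw i) (comp_smul S _ hz₀C)) (comp_smul S _ hwδc)) hzs
    (comp_sub S hz₀C (comp_smul S _ hwδc)) ?_
  intro hmem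
  obtain ⟨b, hb⟩ := Submodule.mem_span_singleton.mp hmem
  obtain ⟨σ, hσ⟩ : ∃ σ, σ = s * s * Q z₀ * γ := ⟨_, rfl⟩
  obtain ⟨σ', hσ'⟩ : ∃ σ', σ' = 2 * s * Q z₀ := ⟨_, rfl⟩
  rw [smul_zero, add_zero, zero_sub, ← hσ, ← hσ'] at hb
  refine hδc hγ1 ?_
  have h1 : (b * σ - σ') • δ = (b * (1 - σ) + σ') • cw i := by
    rw [← sub_eq_zero]
    have h2 : b • (cw i - σ • (cw i + δ)) - -(σ' • (cw i + δ)) = 0 := sub_eq_zero.mpr hb
    have h3 : (b * σ - σ') • δ - (b * (1 - σ) + σ') • cw i = -(b • (cw i - σ • (cw i + δ)) - -(σ' • (cw i + δ))) := by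
      module
    rw [h3, h2, neg_zero]
  have hne : b * σ - σ' ≠ 0 := by
    intro e
    rw [e, zero_smul, eq_comm, smul_eq_zero] at h1
    have h2 := h1.resolve_right hi0
    have hb0 : b = 0 := by linear_combination h2 + e
    rw [hb0, zero_mul, zero_sub, neg_eq_zero] at e
    exact mul_ne_zero (mul_ne_zero S.two hs0) hq (hσ' ▸ e)
  rw [Submodule.mem_span_singleton]
  exact ⟨(b * (1 - σ) + σ') / (b * σ - σ'), by rw [div_eq_inv_mul, mul_smul, ← h1, inv_smul_smul₀ hne]⟩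

end Cfsg.Agent.Classical.ODecomp
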