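/-
Orthogonal decompositions in characteristic two into members of dimension at least four: elements of `Ω` inside
the stabiliser, and the parameters available at a singular centre.
-/
import Cfsg.Agent.Lib.Classical.RadicalQuad
import Cfsg.Agent.Lib.Classical.OrthNotMax
import Cfsg.Agent.Lib.Classical.OrthogonalGroup

set_option autoImplicit false
set_option linter.unusedSectionVars false
set_option linter.style.haveILetI false

namespace Cfsg.Agent.Classical.ODecompEven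

open Matrix Module QuadraticMap Cfsg.Geo
open Cfsg.Agent.Classical
open Cfsg.Agent.Classical.OCount (PND)

variable {ι : Type} [Fintype ι] [DecidableEq ι] {F : Type*} [Field F] [Fintype F]
  {Q : QuadraticForm F (ι → F)} {t k : ℕ} {D : Fin t → Submodule F (ι → F)} {K : Subgroup (GL ι F)}

local notation "Gl" => GL ι F
local notation "Vn" => ι → F
local notation "⟪" x ", " y "⟫" => QuadraticMap.polar (DFunLike.coe Q) x y
local notation:max g:max " ⬝ₘ " x:max => ((g : Gl) : Matrix ι ι F) *ᵥ x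

/-- The setting. -/
structure Setup (Q : QuadraticForm F (ι → F)) (k : ℕ) (D : Fin t → Submodule F (ι → F))
    (K : Subgroup (GL ι F)) : Prop where
  nd : IsNondegenerateQuadraticForm (⇑Q)
  pnd : PND Q
  two : (2 : F) = 0
  big : 7 ≤ Fintype.card ι
  decomp : IsOrthogonalMDecomposition (⇑Q) k D
  four : 4 ≤ k
  small : Fintype.card F = 2 → k = 4 → ∀ i, ¬ IsPlusTypeOn (⇑Q) (D i)
  le : decompositionStabilizer D ⊓ omegaGL ⇑Q ≤ K
  le_omega : K ≤ omegaGL ⇑Q

/-- The Eichler element with centre `a` and parameter `y` lies in the group. -/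
def InE (Q : QuadraticForm F (ι → F)) (K : Subgroup (GL ι F)) (a y : ι → F) : Prop :=
  ∃ g ∈ K, ∀ x, (g : Matrix ι ι F) *ᵥ x = eichler (⇑Q) a y x

/-- All multiples of the parameter are available at the centre. -/
def Par (Q : QuadraticForm F (ι → F)) (K : Subgroup (GL ι F)) (v y : ι → F) : Prop :=
  QuadraticMap.polar (⇑Q) v y = 0 ∧ ∀ s : F, InE Q K v (s • y)

/-- The component of a vector in a member. -/
def Comp (Q : QuadraticForm F (ι → F)) (D : Fin t → Submodule F (ι → F)) (i : Fin t) (x c : ι → F) : Prop :=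
  c ∈ D i ∧ ∀ u ∈ D i, QuadraticMap.polar (⇑Q) x u = QuadraticMap.polar (⇑Q) c u

variable (S : Setup Q k D K)

include S

theorem self0 (x : Vn) : ⟪x, x⟫ = 0 := by
  rw [QuadraticMap.polar_self, nsmul_eq_mul, Nat.cast_ofNat, S.two, zero_mul]

theorem add_self' (x : Vn) : x + x = 0 := by rw [← two_smul F x, S.two, zero_smul]

theorem neg_self' (a : F) : -a = a := by linear_combination (-a) * S.two

theorem exists_root (a : F) : ∃ r : F, r * r = a := by
  haveI : Finite F := Finite.of_fintype F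
  obtain ⟨r, hr⟩ := FiniteField.isSquare_of_char_two (F := F) (ringChar.eq_iff.mpr (CharTwo.of_one_ne_zero_of_two_eq_zero one_ne_zero S.two)) a
  exact ⟨r, hr.symm⟩

theorem swap0 {x y : Vn} (h : ⟪x, y⟫ = 0) : ⟪y, x⟫ = 0 := by rw [polar_comm]; exact h

theorem orth {i j : Fin t} (h : i ≠ j) {x y : Vn} (hx : x ∈ D i) (hy : y ∈ D j) : ⟪x, y⟫ = 0 :=
  S.decomp.decomp.orthogonal i j h x hx y hy

theorem nondeg {i : Fin t} {x : Vn} (hx : x ∈ D i) (hx0 : x ≠ 0) : ∃ z ∈ D i, ⟪x, z⟫ ≠ 0 := by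
  obtain ⟨z, hz⟩ := (S.decomp.decomp.nondegenerate i x hx hx0).2
  exact ⟨z, hz⟩

theorem eq_of_comp {i : Fin t} {x c c' : Vn} (h : Comp Q D i x c) (h' : Comp Q D i x c') : c = c' := by
  by_contra hne
  obtain ⟨z, hz, hne'⟩ := nondeg S (sub_mem h.1 h'.1) (sub_ne_zero.mpr hne)
  rw [polar_sub_left, ← h.2 z hz, ← h'.2 z hz, sub_self] at hne'
  exact hne' rfl

theorem components (x : Vn) : ∃ c : Fin t → Vn, (∀ a, c a ∈ D a) ∧ ∑ a, c a = x := by
  classical
  have h : x ∈ ⨆ a, D a := by rw [S.decomp.decomp.decomp.iSup_eq_top]; exact Submodule.mem_top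
  obtain ⟨f, hf⟩ := (Submodule.mem_iSup_iff_exists_dfinsupp' D x).mp h
  refine ⟨fun a => f a, fun a => (f a).2, ?_⟩
  rw [← hf, DFinsupp.sum]
  refine (Finset.sum_subset (Finset.subset_univ _) fun a _ ha => ?_).symm
  rw [DFinsupp.notMem_support_iff] at ha
  rw [ha, Submodule.coe_zero]

theorem polar_sum (s : Finset (Fin t)) (c : Fin t → Vn) (z : Vn) : ⟪∑ a ∈ s, c a, z⟫ = ∑ a ∈ s, ⟪c a, z⟫ := by
  induction s using Finset.cons_induction with
  | empty => simp
  | cons a s ha ih => rw [Finset.sum_cons, polar_add_left, ih, Finset.sum_cons]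

theorem comp_sum {c : Fin t → Vn} (hc : ∀ a, c a ∈ D a) (i : Fin t) : Comp Q D i (∑ a, c a) (c i) :=
  ⟨hc i, fun u hu => by
    rw [polar_sum S]
    exact Finset.sum_eq_single i (fun b _ hb => orth S hb (hc b) hu) fun h => absurd (Finset.mem_univ _) h⟩

theorem exists_comp (i : Fin t) (x : Vn) : ∃ c, Comp Q D i x c := by
  obtain ⟨c, hc, rfl⟩ := components S x
  exact ⟨c i, comp_sum S hc i⟩

theorem comp_self {i : Fin t} {x : Vn} (hx : x ∈ D i) : Comp Q D i x x := ⟨hx, fun _ _ => rfl⟩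

theorem comp_other {i j : Fin t} (h : i ≠ j) {x : Vn} (hx : x ∈ D j) : Comp Q D i x 0 :=
  ⟨zero_mem _, fun u hu => by rw [orth S h.symm hx hu, polar_zero_left]⟩

theorem comp_add {i : Fin t} {x y c d : Vn} (hx : Comp Q D i x c) (hy : Comp Q D i y d) :
    Comp Q D i (x + y) (c + d) :=
  ⟨add_mem hx.1 hy.1, fun u hu => by rw [polar_add_left, polar_add_left, hx.2 u hu, hy.2 u hu]⟩

theorem comp_smul {i : Fin t} {x c : Vn} (r : F) (hx : Comp Q D i x c) : Comp Q D i (r • x) (r • c) :=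
  ⟨(D i).smul_mem r hx.1, fun u hu => by rw [polar_smul_left, polar_smul_left, hx.2 u hu]⟩

theorem comp_sub {i : Fin t} {x y c d : Vn} (hx : Comp Q D i x c) (hy : Comp Q D i y d) :
    Comp Q D i (x - y) (c - d) :=
  ⟨sub_mem hx.1 hy.1, fun u hu => by rw [polar_sub_left, polar_sub_left, hx.2 u hu, hy.2 u hu]⟩

/-- If all components vanish the vector vanishes. -/
theorem eq_zero_of_comp {x : Vn} (h : ∀ i, Comp Q D i x 0) : x = 0 := by
  obtain ⟨c, hc, rfl⟩ := components S x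
  exact Finset.sum_eq_zero fun i _ => (eq_of_comp S (comp_sum S hc i) (h i))

theorem mem_of_comp {i : Fin t} {x : Vn} (h : ∀ l, l ≠ i → Comp Q D l x 0) : x ∈ D i := by
  obtain ⟨c, hc⟩ := exists_comp S i x
  have : x - c = 0 := eq_zero_of_comp S fun l => by
    by_cases hl : l = i
    · subst hl; simpa using comp_sub S hc (comp_self S hc.1)
    · simpa using comp_sub S (h l hl) (comp_other S hl hc.1)
  rw [sub_eq_zero.mp this]
  exact hc.1

/-! ### Inside a member -/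

theorem finrank_member (i : Fin t) : finrank F (D i) = k := S.decomp.decomp.decomp.finrank_eq i

theorem ne_span {i : Fin t} (s : Finset Vn) (hs : s.card < k) : ¬ D i ≤ Submodule.span F (s : Set Vn) := fun h => by
  have h1 := Submodule.finrank_mono h
  have h2 := finrank_span_finset_le_card (R := F) s
  rw [Set.finrank] at h2
  rw [finrank_member S] at h1
  omega

theorem nondeg_member (i : Fin t) : Cfsg.Agent.Small.QuadBasis.Nondeg Q (D i) := by
  intro x hx h
  by_contra hx0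
  obtain ⟨z, hz, hne⟩ := nondeg S hx hx0
  exact hne (h z hz)

theorem exists_singular (i : Fin t) : ∃ v ∈ D i, v ≠ 0 ∧ Q v = 0 :=
  Cfsg.Agent.Small.QuadBasis.exists_singular Q (W := D i) (by rw [finrank_member S]; have := S.four; omega)

theorem exists_dual {i : Fin t} {c : Vn} (hc : c ∈ D i) (hc0 : c ≠ 0) : ∃ d ∈ D i, ⟪c, d⟫ = 1 := by
  obtain ⟨y, hy, hne⟩ := nondeg S hc hc0
  exact ⟨⟪c, y⟫⁻¹ • y, (D i).smul_mem _ hy, by rw [polar_smul_right, smul_eq_mul, inv_mul_cancel₀ hne]⟩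

theorem partner {i : Fin t} {v : Vn} (hv : v ∈ D i) (hv0 : v ≠ 0) (hvv : Q v = 0) :
    ∃ z ∈ D i, Q z = 0 ∧ ⟪v, z⟫ = 1 := by
  obtain ⟨f, hf, hff, hvf, -⟩ := Cfsg.Agent.Small.QuadBasis.exists_pair Q (nondeg_member S i) hv hv0 hvv
  exact ⟨f, hf, hff, hvf⟩

/-- The part of a vector of a member orthogonal to a dual pair. -/
theorem proj_perp {c d : Vn} (hcd : ⟪c, d⟫ = 1) (x : Vn) :
    ⟪c, x - ⟪x, d⟫ • c - ⟪x, c⟫ • d⟫ = 0 ∧ ⟪d, x - ⟪x, d⟫ • c - ⟪x, c⟫ • d⟫ = 0 := by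
  simp only [polar_sub_right, polar_smul_right, self0 S, hcd, polar_comm (⇑Q) d c, smul_eq_mul, mul_zero, mul_one,
    polar_comm (⇑Q) x c, polar_comm (⇑Q) x d, sub_zero, sub_self, and_self]

/-- Orthogonally to a dual pair the member is not totally isotropic. -/
theorem exists_pair_perp {i : Fin t} {c d : Vn} (hc : c ∈ D i) (hd : d ∈ D i) (hcd : ⟪c, d⟫ = 1) :
    ∃ x ∈ D i, ∃ y ∈ D i, ⟪c, x⟫ = 0 ∧ ⟪d, x⟫ = 0 ∧ ⟪c, y⟫ = 0 ∧ ⟪d, y⟫ = 0 ∧ ⟪x, y⟫ = 1 := by
  classical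
  obtain ⟨u, hu, hus⟩ := SetLike.not_le_iff_exists.mp
    (ne_span S (i := i) {c, d} (Finset.card_le_two.trans_lt (by have := S.four; omega)))
  rw [Finset.coe_insert, Finset.coe_singleton] at hus
  obtain ⟨x, hx⟩ : ∃ x, x = u - ⟪u, d⟫ • c - ⟪u, c⟫ • d := ⟨_, rfl⟩
  have hxD : x ∈ D i := hx ▸ sub_mem (sub_mem hu ((D i).smul_mem _ hc)) ((D i).smul_mem _ hd)
  have hx0 : x ≠ 0 := fun e => hus (by
    rw [hx, sub_eq_zero, sub_eq_iff_eq_add] at e
    rw [e]
    exact add_mem (Submodule.smul_mem _ _ (Submodule.subset_span (by simp)))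
      (Submodule.smul_mem _ _ (Submodule.subset_span (by simp))))
  obtain ⟨w, hw, hxw⟩ := exists_dual S hxD hx0
  have hp := proj_perp S hcd u
  rw [← hx] at hp
  refine ⟨x, hxD, w - ⟪w, d⟫ • c - ⟪w, c⟫ • d, sub_mem (sub_mem hw ((D i).smul_mem _ hc)) ((D i).smul_mem _ hd),
    hp.1, hp.2, (proj_perp S hcd w).1, (proj_perp S hcd w).2, ?_⟩
  rw [polar_sub_right, polar_sub_right, polar_smul_right, polar_smul_right, swap0 S hp.1, swap0 S hp.2, smul_zero,
    smul_zero, sub_zero, sub_zero, hxw]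

/-- A singular vector orthogonal to an anisotropic one, seeing a given one. -/
theorem exists_see_perp {i : Fin t} {c p : Vn} (hc : c ∈ D i) (hp : p ∈ D i) (hcc : Q c ≠ 0)
    (hpc : p ∉ Submodule.span F {c}) : ∃ v ∈ D i, Q v = 0 ∧ ⟪c, v⟫ = 0 ∧ ⟪p, v⟫ ≠ 0 := by
  have hc0 : c ≠ 0 := fun e => hcc (by rw [e, QuadraticMap.map_zero])
  obtain ⟨d, hd, hcd⟩ := exists_dual S hc hc0
  have sing : ∀ x ∈ D i, ⟪c, x⟫ = 0 → ∃ l : F, l * l * Q c = Q x ∧ x + l • c ∈ D i ∧ Q (x + l • c) = 0 ∧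
      ⟪c, x + l • c⟫ = 0 ∧ ⟪p, x + l • c⟫ = ⟪p, x⟫ + l * ⟪p, c⟫ := by
    intro x hx hcx
    obtain ⟨l, hl⟩ := exists_root S (Q x / Q c)
    have hlc : l * l * Q c = Q x := by rw [hl, div_mul_cancel₀ _ hcc]
    refine ⟨l, hlc, add_mem hx ((D i).smul_mem _ hc), ?_, ?_, ?_⟩
    · rw [QuadraticMap.map_add ⇑Q, QuadraticMap.map_smul, polar_smul_right, swap0 S hcx, smul_eq_mul, hlc]
      linear_combination (Q x) * S.two
    · rw [polar_add_right, polar_smul_right, self0 S, hcx, smul_zero, add_zero]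
    · rw [polar_add_right, polar_smul_right, smul_eq_mul]
  by_contra hcon
  push Not at hcon
  have hzero : ∀ x ∈ D i, ⟪c, x⟫ = 0 → ∀ l : F, l * l * Q c = Q x → ⟪p, x⟫ + l * ⟪p, c⟫ = 0 := by
    intro x hx hcx l hl
    obtain ⟨m, hm, hmD, hm0, hmc, hmp⟩ := sing x hx hcx
    have : m = l := by
      have h1 : (m + l) * (m + l) = 0 := mul_left_cancel₀ hcc (by linear_combination hm + hl + (Q x + l * m * Q c) * S.two)
      have h2 := mul_self_eq_zero.mp h1
      linear_combination h2 - l * S.two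
    rw [← this, ← hmp]
    exact hcon _ hmD hm0 hmc
  by_cases h0 : ⟪p, c⟫ = 0
  · obtain ⟨p', hp'⟩ : ∃ p', p' = p - ⟪p, d⟫ • c - ⟪p, c⟫ • d := ⟨_, rfl⟩
    have hp'0 : p' ≠ 0 := fun e => hpc (by
      rw [hp', h0, zero_smul, sub_zero, sub_eq_zero] at e
      rw [e]; exact Submodule.smul_mem _ _ (Submodule.mem_span_singleton_self c))
    have hp'D : p' ∈ D i := hp' ▸ sub_mem (sub_mem hp ((D i).smul_mem _ hc)) ((D i).smul_mem _ hd)
    obtain ⟨w, hw, hne⟩ := exists_dual S hp'D hp'0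
    have hpp := proj_perp S hcd p
    rw [← hp'] at hpp
    obtain ⟨x, hx⟩ : ∃ x, x = w - ⟪w, d⟫ • c - ⟪w, c⟫ • d := ⟨_, rfl⟩
    have hxD : x ∈ D i := hx ▸ sub_mem (sub_mem hw ((D i).smul_mem _ hc)) ((D i).smul_mem _ hd)
    have hxp := proj_perp S hcd w
    rw [← hx] at hxp
    have h1 : ⟪p', x⟫ = 1 := by
      rw [hx, polar_sub_right, polar_sub_right, polar_smul_right, polar_smul_right, swap0 S hpp.1, swap0 S hpp.2,
        smul_zero, smul_zero, sub_zero, sub_zero, hne]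
    have h2 : ⟪p, x⟫ = 1 := by
      rw [← h1, hp', polar_sub_left, polar_sub_left, polar_smul_left, polar_smul_left, hxp.1, hxp.2, smul_zero,
        smul_zero, sub_zero, sub_zero]
    obtain ⟨l, hl, -⟩ := sing x hxD hxp.1
    have := hzero x hxD hxp.1 l hl
    rw [h2, h0, mul_zero, add_zero] at this
    exact one_ne_zero this
  · obtain ⟨x, hx, y, hy, hcx, -, hcy, -, hxy⟩ := exists_pair_perp S hc hd hcd
    obtain ⟨a, ha, -⟩ := sing x hx hcx
    obtain ⟨b, hb, -⟩ := sing y hy hcy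
    obtain ⟨e, he, -⟩ := sing (x + y) (add_mem hx hy) (by rw [polar_add_right, hcx, hcy, add_zero])
    have h1 := hzero x hx hcx a ha
    have h2 := hzero y hy hcy b hb
    have h3 := hzero (x + y) (add_mem hx hy) (by rw [polar_add_right, hcx, hcy, add_zero]) e he
    rw [polar_add_right] at h3
    have h4 : e - a - b = 0 := (mul_eq_zero.mp (by linear_combination h3 - h1 - h2 : (e - a - b) * ⟪p, c⟫ = 0)).resolve_right h0
    rw [QuadraticMap.map_add ⇑Q, hxy] at he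
    have h5 : e = a + b := by linear_combination h4
    rw [h5] at he
    exact one_ne_zero (by linear_combination hb + ha - he + (a * b * Q c) * S.two : (1 : F) = 0)

/-- A singular vector seeing a given one. -/
theorem exists_see {i : Fin t} {p : Vn} (hp : p ∈ D i) (hp0 : p ≠ 0) :
    ∃ v ∈ D i, Q v = 0 ∧ ⟪p, v⟫ ≠ 0 := by
  by_contra hcon
  push Not at hcon
  obtain ⟨v₀, hv₀, hv0, hvv⟩ := exists_singular S i
  obtain ⟨z, hz, hzz, hvz⟩ := partner S hv₀ hv0 hvv
  obtain ⟨x, hx, hne⟩ := nondeg S hp hp0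
  obtain ⟨x', hx'⟩ : ∃ x', x' = x - ⟪x, z⟫ • v₀ - ⟪x, v₀⟫ • z := ⟨_, rfl⟩
  have hx'v : ⟪x', v₀⟫ = 0 ∧ ⟪x', z⟫ = 0 := by
    simp only [hx', polar_sub_left, polar_smul_left, self0 S _, self0 S _, hvz, polar_comm (⇑Q) z v₀,
      smul_eq_mul, mul_zero, mul_one, sub_zero, sub_self, and_self]
  have h1 := hcon (x' - Q x' • v₀ + z) (add_mem (sub_mem (hx' ▸ sub_mem (sub_mem hx ((D i).smul_mem _ hv₀))
    ((D i).smul_mem _ hz)) ((D i).smul_mem _ hv₀)) hz) (by
      rw [sub_eq_add_neg, ← neg_smul, QuadraticMap.map_add ⇑Q, QuadraticMap.map_add ⇑Q, QuadraticMap.map_smul, hvv,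
        hzz, polar_add_left, polar_smul_left, polar_smul_right, hx'v.1, hx'v.2, hvz]
      simp only [smul_eq_mul, mul_zero, mul_one, add_zero, zero_add]
      ring)
  rw [polar_add_right, polar_sub_right, polar_smul_right, hcon v₀ hv₀ hvv, hcon z hz hzz, hx', polar_sub_right,
    polar_sub_right, polar_smul_right, polar_smul_right, hcon v₀ hv₀ hvv, hcon z hz hzz] at h1
  exact hne (by simpa using h1)

/-! ### Elements of the stabiliser -/

theorem mem_isometry {g : Gl} (hg : g ∈ K) (x : Vn) : Q (g ⬝ₘ x) = Q x := ONotMax.omega_isometry (S.le_omega hg) x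

theorem iso_polar {g : Gl} (hg : g ∈ K) (x y : Vn) : ⟪g ⬝ₘ x, g ⬝ₘ y⟫ = ⟪x, y⟫ :=
  Radical.omega_polar (S.le_omega hg) x y

theorem stab_of {g : Gl} (π : Equiv.Perm (Fin t)) (h : ∀ a, ∀ x ∈ D a, g ⬝ₘ x ∈ D (π a)) :
    g ∈ decompositionStabilizer D := by
  refine ⟨π, fun a => Submodule.eq_of_le_of_finrank_eq ?_ ?_⟩
  · rintro _ ⟨x, hx, rfl⟩
    rw [Matrix.toLin'_apply]
    exact h a x hx
  · rw [← (Submodule.equivMapOfInjective _ (fun x y e => gl_mulVec_injective g (by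
      simpa [Matrix.toLin'_apply] using e)) (D a)).finrank_eq, finrank_member S, finrank_member S]

theorem stab_local {g : Gl} {b : Fin t} (h : ∀ a, a ≠ b → ∀ x ∈ D a, g ⬝ₘ x = x)
    (hb : ∀ x ∈ D b, g ⬝ₘ x ∈ D b) : g ∈ decompositionStabilizer D :=
  stab_of S 1 fun a x hx => by
    by_cases hab : a = b
    · subst hab; exact hb x hx
    · rw [h a hab x hx]; exact hx

/-- An Eichler element of a member. -/
theorem eichler_stab {b : Fin t} {v y : Vn} (hv : v ∈ D b) (hy : y ∈ D b) (hvv : Q v = 0) (hvy : ⟪v, y⟫ = 0) :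
    InE Q K v y := by
  obtain ⟨g, hg, hgx⟩ := ONotMax.exists_siegel S.pnd (by have := S.big; omega) hvv hvy
  have hgx' : ∀ x, g ⬝ₘ x = eichler (⇑Q) v y x := fun x => by
    rw [hgx, eichler, polar_comm (⇑Q) v x, polar_comm (⇑Q) y x]
  refine ⟨g, S.le ⟨stab_local S (b := b) (fun a hab x hx => ?_) (fun x hx => ?_), hg⟩, hgx'⟩
  · rw [hgx', eichler, orth S hab hx hv, orth S hab hx hy]; simp
  · rw [hgx', eichler]; exact sub_mem (add_mem hx ((D b).smul_mem _ hy)) ((D b).smul_mem _ hv)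

/-! ### Parameters -/

theorem inE_conj {a y : Vn} (h : InE Q K a y) {g : Gl} (hg : g ∈ K) : InE Q K (g ⬝ₘ a) (g ⬝ₘ y) := by
  obtain ⟨e, he, hex⟩ := h
  refine ⟨g * e * g⁻¹, mul_mem (mul_mem hg he) (inv_mem hg), fun x => ?_⟩
  obtain ⟨z, rfl⟩ : ∃ z, x = g ⬝ₘ z := ⟨_, (gl_mulVec_inv_cancel g x).symm⟩
  rw [gl_mul_mulVec, gl_mul_mulVec, gl_inv_mulVec_cancel, hex, eichler, eichler, iso_polar S hg, iso_polar S hg,
    mem_isometry S hg, Matrix.mulVec_sub, Matrix.mulVec_add, Matrix.mulVec_smul, Matrix.mulVec_smul]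

theorem eichler_zero (a x : Vn) : eichler (⇑Q) a 0 x = x := by simp [eichler]

theorem inE_zero (a : Vn) : InE Q K a 0 := ⟨1, one_mem K, fun x => by simp [eichler_zero S]⟩

theorem inE_add {a y y' : Vn} (ha : Q a = 0) (hy : ⟪a, y⟫ = 0) (hy' : ⟪a, y'⟫ = 0) (h : InE Q K a y)
    (h' : InE Q K a y') : InE Q K a (y + y') := by
  obtain ⟨g, hg, hgv⟩ := h
  obtain ⟨g', hg', hgv'⟩ := h'
  exact ⟨g * g', mul_mem hg hg', fun x => by rw [gl_mul_mulVec, hgv', hgv, eichler_comp S.nd ha hy hy']⟩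

theorem inE_scale {a y : Vn} {l : F} (h : InE Q K (l • a) y) : InE Q K a (l • y) := by
  obtain ⟨g, hg, hgv⟩ := h
  refine ⟨g, hg, fun x => ?_⟩
  rw [hgv, eichler, eichler, polar_smul_right, polar_smul_right, QuadraticMap.map_smul, smul_smul, smul_smul]
  simp only [smul_eq_mul]
  congr 1
  · rw [mul_comm]
  · congr 1; ring

theorem inE_unscale {a y : Vn} {l : F} (h : InE Q K a (l • y)) : InE Q K (l • a) y := by
  obtain ⟨g, hg, hgv⟩ := h
  refine ⟨g, hg, fun x => ?_⟩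
  rw [hgv, eichler, eichler, polar_smul_right, polar_smul_right, QuadraticMap.map_smul, smul_smul, smul_smul]
  simp only [smul_eq_mul]
  congr 1
  · rw [mul_comm]
  · congr 1; ring

theorem par_zero {v : Vn} : Par Q K v 0 := ⟨polar_zero_right Q v, fun s => by rw [smul_zero]; exact inE_zero S v⟩

theorem par_add {v y y' : Vn} (hv : Q v = 0) (h : Par Q K v y) (h' : Par Q K v y') : Par Q K v (y + y') := by
  refine ⟨by rw [polar_add_right, h.1, h'.1, add_zero], fun s => ?_⟩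
  rw [smul_add]
  exact inE_add S hv (by rw [polar_smul_right, h.1, smul_zero]) (by rw [polar_smul_right, h'.1, smul_zero]) (h.2 s)
    (h'.2 s)

theorem par_smul {v y : Vn} (r : F) (h : Par Q K v y) : Par Q K v (r • y) :=
  ⟨by rw [polar_smul_right, h.1, smul_zero], fun s => by rw [smul_smul]; exact h.2 _⟩

theorem par_sub {v y y' : Vn} (hv : Q v = 0) (h : Par Q K v y) (h' : Par Q K v y') : Par Q K v (y - y') := by
  have := par_add S hv h (par_smul S (-1) h')
  rwa [neg_one_smul, ← sub_eq_add_neg] at this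

theorem par_self {v : Vn} (hv : Q v = 0) : Par Q K v v := by
  refine ⟨self0 S v, fun s => ⟨1, one_mem K, fun x => ?_⟩⟩
  simp only [Units.val_one, Matrix.one_mulVec, eichler, polar_smul_right, QuadraticMap.map_smul, hv, smul_eq_mul,
    mul_zero, zero_mul, add_zero]
  module

theorem par_map {v y : Vn} (h : Par Q K v y) {g : Gl} (hg : g ∈ K) : Par Q K (g ⬝ₘ v) (g ⬝ₘ y) :=
  ⟨by rw [iso_polar S hg]; exact h.1, fun s => by rw [← Matrix.mulVec_smul]; exact inE_conj S (h.2 s) hg⟩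

theorem par_local {b : Fin t} {v y : Vn} (hv : v ∈ D b) (hy : y ∈ D b) (hvv : Q v = 0) (hvy : ⟪v, y⟫ = 0) :
    Par Q K v y :=
  ⟨hvy, fun s => eichler_stab S hv ((D b).smul_mem s hy) hvv (by rw [polar_smul_right, hvy, smul_zero])⟩

theorem par_swap {v y : Vn} (hv : Q v = 0) (hy : Q y = 0) (h : Par Q K v y) : Par Q K y v := by
  refine ⟨swap0 S h.1, fun s => ?_⟩
  obtain ⟨g, hg, hgv⟩ := h.2 (-s)
  refine ⟨g, hg, fun x => ?_⟩
  rw [hgv, eichler, eichler, QuadraticMap.map_smul, QuadraticMap.map_smul, hv, hy, polar_smul_right,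
    polar_smul_right]
  simp only [smul_eq_mul, mul_zero, zero_mul, add_zero]
  module

end Cfsg.Agent.Classical.ODecompEven
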