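/-
Orthogonal decompositions in characteristic two: from a mixed singular centre to a centre inside a member with a
parameter outside it.
-/
import Cfsg.Agent.Lib.Classical.ODecompEvenTools

set_option autoImplicit false
set_option linter.unusedSectionVars false
set_option linter.style.haveILetI false

namespace Cfsg.Agent.Classical.ODecompEven

open Matrix Module QuadraticMap Cfsg.Geo
open Cfsg.Agent.Classical
open Cfsg.Agent.Classical.OCount (PND)

variable {ι : Type} [Fintype ι] [DecidableEq ι] {F : Type*} [Field F] [Fintype F]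
  {Q : QuadraticForm F (ι → F)} {t k : ℕ} {D : Fin t → Submodule F (ι → F)} {K : Subgroup (GL ι F)}

local notation "Gl" => GL ι F
local notation "Vn" => ι → F
local notation "⟪" x ", " y "⟫" => QuadraticMap.polar (DFunLike.coe Q) x y
local notation:max g:max " ⬝ₘ " x:max => ((g : Gl) : Matrix ι ι F) *ᵥ x

/-- A centre inside a member with a parameter outside it. -/
def Seed (Q : QuadraticForm F (ι → F)) (D : Fin t → Submodule F (ι → F)) (K : Subgroup (GL ι F)) : Prop :=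
  ∃ (b : Fin t) (v y : ι → F), v ∈ D b ∧ v ≠ 0 ∧ Q v = 0 ∧ Par Q K v y ∧ y ∉ D b

variable (S : Setup Q k D K)

include S

/-- Centres with the parameter in the member of a component. -/
theorem seed_of_local {w u : Vn} {i : Fin t} (hw : Q w = 0) (hu : u ∈ D i) (hu0 : u ≠ 0) (huu : Q u = 0)
    (h : Par Q K w u) (hwi : w ∉ D i) : Seed Q D K :=
  ⟨i, u, w, hu, hu0, huu, par_swap S hw huu h, hwi⟩

/-- The second difference along a member. -/
theorem par_diff {w z c p v y : Vn} {i : Fin t} (hw : Q w = 0) (hc : Comp Q D i w c) (hz : Par Q K w z)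
    (hp : Comp Q D i z p) (hv : v ∈ D i) (hvv : Q v = 0) (hy : y ∈ D i) (hvy : ⟪v, y⟫ = 0) (hcv : ⟪c, v⟫ = 0)
    (hcy : ⟪c, y⟫ = 0) : Par Q K w (⟪p, v⟫ • y - (⟪p, y⟫ + Q y * ⟪p, v⟫) • v) := by
  obtain ⟨m, hm, hmx⟩ := eichler_stab S hv hy hvv hvy
  have hmw : m ⬝ₘ w = w := by rw [hmx, eichler, hc.2 v hv, hc.2 y hy, hcv, hcy]; simp
  have h1 := par_sub S hw (hmw ▸ par_map S hz hm) hz
  rw [hmx, eichler, hp.2 v hv, hp.2 y hy] at h1
  convert h1 using 1
  module

/-- Two orthogonal parameters seeing each other cancel the linear part. -/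
theorem par_of_pair {w z c p v y y' : Vn} {i : Fin t} (hw : Q w = 0) (hc : Comp Q D i w c) (hz : Par Q K w z)
    (hp : Comp Q D i z p) (hv : v ∈ D i) (hvv : Q v = 0) (hcv : ⟪c, v⟫ = 0) (hpv : ⟪p, v⟫ ≠ 0) (hy : y ∈ D i)
    (hy' : y' ∈ D i) (hvy : ⟪v, y⟫ = 0) (hvy' : ⟪v, y'⟫ = 0) (hcy : ⟪c, y⟫ = 0) (hcy' : ⟪c, y'⟫ = 0)
    (hyy : ⟪y, y'⟫ ≠ 0) : Par Q K w v := by
  have h1 := par_diff S hw hc hz hp hv hvv hy hvy hcv hcy
  have h2 := par_diff S hw hc hz hp hv hvv hy' hvy' hcv hcy'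
  have h3 := par_diff S hw hc hz hp hv hvv (add_mem hy hy') (by rw [polar_add_right, hvy, hvy', add_zero]) hcv
    (by rw [polar_add_right, hcy, hcy', add_zero])
  have h4 := par_smul S (⟪y, y'⟫ * ⟪p, v⟫)⁻¹ (par_sub S hw (par_add S hw h1 h2) h3)
  convert h4 using 1
  rw [QuadraticMap.map_add ⇑Q, polar_add_right]
  match_scalars <;> field_simp <;> ring

/-- The multiples of the component cancel the linear part over more than two elements. -/
theorem par_of_big {w z c p v : Vn} {i : Fin t} (h4 : 2 < Fintype.card F) (hw : Q w = 0) (hc : Comp Q D i w c)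
    (hz : Par Q K w z) (hp : Comp Q D i z p) (hv : v ∈ D i) (hvv : Q v = 0) (hcv : ⟪c, v⟫ = 0) (hcc : Q c ≠ 0)
    (hpv : ⟪p, v⟫ ≠ 0) : Par Q K w v := by
  classical
  obtain ⟨s, -, hs⟩ := Finset.exists_mem_notMem_of_card_lt_card (s := ({0, 1} : Finset F)) (t := Finset.univ)
    (Finset.card_le_two.trans_lt (by rwa [Finset.card_univ]))
  simp only [Finset.mem_insert, Finset.mem_singleton, not_or] at hs
  have h1 := par_diff S hw hc hz hp hv hvv hc.1 (swap0 S hcv) hcv (self0 S c)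
  have h2 := par_diff S hw hc hz hp hv hvv ((D i).smul_mem s hc.1)
    (by rw [polar_smul_right, swap0 S hcv, smul_zero]) hcv (by rw [polar_smul_right, self0 S, smul_zero])
  have hne : s - 1 ≠ 0 := sub_ne_zero.mpr hs.2
  have h3 := par_smul S (s * (s - 1) * Q c * ⟪p, v⟫)⁻¹ (par_sub S hw (par_smul S s h1) h2)
  convert h3 using 1
  rw [QuadraticMap.map_smul, polar_smul_right]
  simp only [smul_eq_mul]
  have hs0 := hs.1
  match_scalars <;> field_simp <;> ring

/-- Orthogonally to a singular vector there are two vectors seeing each other. -/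
theorem exists_pair_singular {i : Fin t} {v : Vn} (hv : v ∈ D i) (hv0 : v ≠ 0) :
    ∃ y ∈ D i, ∃ y' ∈ D i, ⟪v, y⟫ = 0 ∧ ⟪v, y'⟫ = 0 ∧ ⟪y, y'⟫ = 1 := by
  obtain ⟨d, hd, hvd⟩ := exists_dual S hv hv0
  obtain ⟨y, hy, y', hy', h1, -, h2, -, h⟩ := exists_pair_perp S hv hd hvd
  exact ⟨y, hy, y', hy', h1, h2, h⟩

/-- A parameter moved by the stabiliser of an absent component. -/
theorem local_of_zero {w z p : Vn} {i : Fin t} (hw : Q w = 0) (hc : Comp Q D i w 0) (hz : Par Q K w z)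
    (hp : Comp Q D i z p) {v : Vn} (hv : v ∈ D i) (hvv : Q v = 0) (hpv : ⟪p, v⟫ ≠ 0) : Par Q K w v := by
  have hv0 : v ≠ 0 := fun e => hpv (by rw [e, polar_zero_right])
  obtain ⟨y, hy, y', hy', hvy, hvy', hyy⟩ := exists_pair_singular S hv hv0
  exact par_of_pair S hw hc hz hp hv hvv (polar_zero_left Q v) hpv hy hy' hvy hvy' (polar_zero_left Q y)
    (polar_zero_left Q y') (by rw [hyy]; exact one_ne_zero)

theorem seed_zero {w z p : Vn} {i : Fin t} (hw : Q w = 0) (hwi : w ∉ D i) (hc : Comp Q D i w 0) (hz : Par Q K w z)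
    (hp : Comp Q D i z p) (hp0 : p ≠ 0) : Seed Q D K := by
  obtain ⟨v, hv, hvv, hpv⟩ := exists_see S hp.1 hp0
  exact seed_of_local S hw hv (fun e => hpv (by rw [e, polar_zero_right])) hvv (local_of_zero S hw hc hz hp hv hvv hpv) hwi

theorem seed_singular {w z c p : Vn} {i : Fin t} (hw : Q w = 0) (hwi : w ∉ D i) (hc : Comp Q D i w c)
    (hz : Par Q K w z) (hp : Comp Q D i z p) (hc0 : c ≠ 0) (hcc : Q c = 0)
    (hmov : p ∉ Submodule.span F {c}) : Seed Q D K := by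
  refine seed_of_local S hw hc.1 hc0 hcc ?_ hwi
  by_cases hpc : ⟪p, c⟫ = 0
  swap
  · obtain ⟨y, hy, y', hy', hcy, hcy', hyy⟩ := exists_pair_singular S hc.1 hc0
    exact par_of_pair S hw hc hz hp hc.1 hcc (self0 S c) hpc hy hy' hcy hcy' hcy hcy'
      (by rw [hyy]; exact one_ne_zero)
  · obtain ⟨e, he, hee, hce⟩ := partner S hc.1 hc0 hcc
    obtain ⟨p', hp'⟩ : ∃ p', p' = p - ⟪p, e⟫ • c := ⟨_, rfl⟩
    have hp'D : p' ∈ D i := hp' ▸ sub_mem hp.1 ((D i).smul_mem _ hc.1)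
    have hp'0 : p' ≠ 0 := fun h => hmov (by
      rw [hp', sub_eq_zero] at h
      rw [h]; exact Submodule.smul_mem _ _ (Submodule.mem_span_singleton_self c))
    obtain ⟨x, hx, hne⟩ := nondeg S hp'D hp'0
    obtain ⟨y, hy⟩ : ∃ y, y = x - ⟪c, x⟫ • e := ⟨_, rfl⟩
    have hyD : y ∈ D i := hy ▸ sub_mem hx ((D i).smul_mem _ he)
    have hcy : ⟪c, y⟫ = 0 := by rw [hy, polar_sub_right, polar_smul_right, hce, smul_eq_mul, mul_one, sub_self]
    have hpy : ⟪p, y⟫ ≠ 0 := by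
      have e1 : ⟪p', e⟫ = 0 := by
        rw [hp', polar_sub_left, polar_smul_left, hce, smul_eq_mul, mul_one, sub_self]
      have e2 : ⟪p', y⟫ = ⟪p', x⟫ := by rw [hy, polar_sub_right, polar_smul_right, e1, smul_zero, sub_zero]
      have e3 : ⟪p', y⟫ = ⟪p, y⟫ := by rw [hp', polar_sub_left, polar_smul_left, hcy, smul_zero, sub_zero]
      rw [← e3, e2]; exact hne
    have h1 := par_smul S (-⟪p, y⟫)⁻¹ (par_diff S hw hc hz hp hc.1 hcc hyD hcy (self0 S c) hcy)
    convert h1 using 1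
    rw [hpc]
    match_scalars <;> field_simp <;> ring

/-- A moved component gives a seed, except in the smallest case with an anisotropic component. -/
theorem seed_of_moved {w z c p : Vn} {i : Fin t} (hw : Q w = 0) (hwi : w ∉ D i) (hc : Comp Q D i w c)
    (hz : Par Q K w z) (hp : Comp Q D i z p) (hmov : p ∉ Submodule.span F {c})
    (hgood : Q c = 0 ∨ ¬ (Fintype.card F = 2 ∧ k = 4)) : Seed Q D K := by
  classical
  by_cases hc0 : c = 0
  · subst hc0
    exact seed_zero S hw hwi hc hz hp fun e => hmov (by rw [e]; exact Submodule.zero_mem _)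
  by_cases hcc : Q c = 0
  · exact seed_singular S hw hwi hc hz hp hc0 hcc hmov
  obtain ⟨v, hv, hvv, hcv, hpv⟩ := exists_see_perp S hc.1 hp.1 hcc hmov
  refine seed_of_local S hw hv (fun e => hpv (by rw [e, polar_zero_right])) hvv ?_ hwi
  rcases Nat.lt_or_ge 2 (Fintype.card F) with h4 | h2
  · exact par_of_big S h4 hw hc hz hp hv hvv hcv hcc hpv
  have hk : 5 ≤ k := by
    have h1 := Fintype.one_lt_card (α := F)
    have h5 := S.four
    by_contra hlt
    exact hgood.resolve_left hcc ⟨by omega, by omega⟩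
  obtain ⟨e, he, hee, hve⟩ := partner S hv (fun h => hpv (by rw [h, polar_zero_right])) hvv
  -- the pair (v, e) and a dual of the rest of the component
  obtain ⟨c', hc'⟩ : ∃ c', c' = c - ⟪c, e⟫ • v - ⟪c, v⟫ • e := ⟨_, rfl⟩
  have hc'D : c' ∈ D i := hc' ▸ sub_mem (sub_mem hc.1 ((D i).smul_mem _ hv)) ((D i).smul_mem _ he)
  have hc'0 : c' ≠ 0 := fun h => hcc (by
    rw [hc', hcv, zero_smul, sub_zero, sub_eq_zero] at h
    rw [h, QuadraticMap.map_smul, hvv, smul_zero])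
  obtain ⟨f₀, hf₀, hcf₀⟩ := exists_dual S hc'D hc'0
  obtain ⟨f, hf⟩ : ∃ f, f = f₀ - ⟪f₀, e⟫ • v - ⟪f₀, v⟫ • e := ⟨_, rfl⟩
  have hfD : f ∈ D i := hf ▸ sub_mem (sub_mem hf₀ ((D i).smul_mem _ hv)) ((D i).smul_mem _ he)
  have b1 : ⟪v, f⟫ = 0 := hf ▸ (proj_perp S hve f₀).1
  have b2 : ⟪e, f⟫ = 0 := hf ▸ (proj_perp S hve f₀).2
  have c1 : ⟪v, c'⟫ = 0 := hc' ▸ (proj_perp S hve c).1
  have c2 : ⟪e, c'⟫ = 0 := hc' ▸ (proj_perp S hve c).2
  have hcf : ⟪c', f⟫ = 1 := by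
    rw [hf, polar_sub_right, polar_sub_right, polar_smul_right, polar_smul_right, swap0 S c1, swap0 S c2, smul_zero,
      smul_zero, sub_zero, sub_zero, hcf₀]
  -- a vector orthogonal to the four
  obtain ⟨P, hP⟩ : ∃ P : Vn → Vn,
      P = fun x => x - ⟪x, e⟫ • v - ⟪x, v⟫ • e - ⟪x, f⟫ • c' - ⟪x, c'⟫ • f := ⟨_, rfl⟩
  have hPD : ∀ x ∈ D i, P x ∈ D i := fun x hx => by
    rw [hP]
    exact sub_mem (sub_mem (sub_mem (sub_mem hx ((D i).smul_mem _ hv)) ((D i).smul_mem _ he))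
      ((D i).smul_mem _ hc'D)) ((D i).smul_mem _ hfD)
  have hP1 : ∀ x, ⟪v, P x⟫ = 0 ∧ ⟪e, P x⟫ = 0 ∧ ⟪c', P x⟫ = 0 ∧ ⟪f, P x⟫ = 0 := fun x => by
    simp only [hP, polar_sub_right, polar_smul_right, self0 S, hve, hcf, c1, c2, b1, b2, swap0 S c1, swap0 S c2,
      swap0 S b1, swap0 S b2, polar_comm (⇑Q) e v, polar_comm (⇑Q) f c', polar_comm (⇑Q) x v, polar_comm (⇑Q) x e,
      polar_comm (⇑Q) x c', polar_comm (⇑Q) x f, smul_eq_mul, mul_zero, mul_one, sub_zero, sub_self, and_self]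
  obtain ⟨u₀, hu₀, hus₀⟩ := SetLike.not_le_iff_exists.mp
    (ne_span S (i := i) {v, e, c', f} (Finset.card_le_four.trans_lt (by omega)))
  rw [Finset.coe_insert, Finset.coe_insert, Finset.coe_insert, Finset.coe_singleton] at hus₀
  have hP0 : P u₀ ≠ 0 := fun h => hus₀ (by
    simp only [hP, sub_eq_iff_eq_add, zero_add] at h
    rw [h]
    refine add_mem (add_mem (add_mem ?_ ?_) ?_) ?_ <;> exact Submodule.smul_mem _ _ (Submodule.subset_span (by simp)))
  obtain ⟨y', hy', hne⟩ := nondeg S (hPD u₀ hu₀) hP0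
  have hne' : ⟪P u₀, P y'⟫ ≠ 0 := by
    obtain ⟨g1, g2, g3, g4⟩ := hP1 u₀
    have e1 : P y' = y' - ⟪y', e⟫ • v - ⟪y', v⟫ • e - ⟪y', f⟫ • c' - ⟪y', c'⟫ • f := by rw [hP]
    rw [e1, polar_sub_right, polar_sub_right, polar_sub_right, polar_sub_right, polar_smul_right, polar_smul_right,
      polar_smul_right, polar_smul_right, swap0 S g1, swap0 S g2, swap0 S g3, swap0 S g4]
    simpa using hne
  have hcP : ∀ x, ⟪c, P x⟫ = 0 := fun x => by
    have e1 : c = c' + ⟪c, e⟫ • v := by rw [hc', hcv, zero_smul, sub_zero, sub_add_cancel]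
    rw [e1, polar_add_left, polar_smul_left, (hP1 x).1, (hP1 x).2.2.1, smul_zero, add_zero]
  exact par_of_pair S hw hc hz hp hv hvv hcv hpv (hPD u₀ hu₀) (hPD y' hy') (hP1 u₀).1 (hP1 y').1 (hcP _) (hcP _)
    hne'

/-- Rotating a local vector by a parameter. -/
theorem seed_of_rot {w z₀ c a₀ v : Vn} {j : Fin t} {a' : F} (hw : Q w = 0) (hz : Par Q K w z₀) (hc : Comp Q D j w c)
    (hz₀ : Comp Q D j z₀ (a' • c)) (hv : v ∈ D j) (hvv : Q v = 0) (hcv : ⟪c, v⟫ ≠ 0) (hQ₀ : Q z₀ ≠ 0) (s : F)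
    (hs : s ≠ 0) (hmix : ∃ l, l ≠ j ∧ ¬ Comp Q D l
      ((⟪c, v⟫ * s) • z₀ + (⟪c, v⟫ * s * (a' + s * Q z₀)) • w) 0) (ha : a₀ = v + (⟪c, v⟫ * (s * s * Q z₀)) • c)
    (hgood : Q a₀ = 0 ∨ ¬ (Fintype.card F = 2 ∧ k = 4)) : Seed Q D K := by
  classical
  obtain ⟨g, hg, hgx⟩ := hz.2 s
  have hv0 : v ≠ 0 := fun e => hcv (by rw [e, polar_zero_right])
  have hval : ∀ y ∈ D j, g ⬝ₘ y = y + ((⟪c, y⟫ * s) • z₀ + (⟪c, y⟫ * s * (a' + s * Q z₀)) • w) := by
    intro y hy
    rw [hgx, eichler, polar_comm (⇑Q) y w, hc.2 y hy, polar_smul_right, polar_comm (⇑Q) y z₀, hz₀.2 y hy,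
      polar_smul_left, QuadraticMap.map_smul, sub_eq_add_neg, ← neg_smul, neg_self' S]
    simp only [smul_eq_mul]
    module
  obtain ⟨l, hlj, hl⟩ := hmix
  have hw' : g ⬝ₘ v ∉ D j := fun h => hl (by
    rw [hval v hv] at h
    have h2 := sub_mem h hv
    rw [add_sub_cancel_left] at h2
    exact comp_other S hlj h2)
  have hcomp : ∀ y ∈ D j, Comp Q D j (g ⬝ₘ y) (y + (⟪c, y⟫ * (s * s * Q z₀)) • c) := fun y hy => by
    rw [hval y hy]
    have h := comp_add S (comp_self S hy) (comp_add S (comp_smul S (⟪c, y⟫ * s) hz₀)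
      (comp_smul S (⟪c, y⟫ * s * (a' + s * Q z₀)) hc))
    convert h using 1
    match_scalars
    · rfl
    · linear_combination (-(⟪c, y⟫ * s * a')) * S.two
  obtain ⟨y', hy'D, hvy', hy's⟩ : ∃ y' ∈ D j, ⟪v, y'⟫ = 0 ∧ y' ∉ Submodule.span F {v, c} := by
    obtain ⟨e, he, hee, hve⟩ := partner S hv hv0 hvv
    by_contra hcon
    push Not at hcon
    obtain ⟨u, hu, hus⟩ := SetLike.not_le_iff_exists.mp (ne_span S (i := j) {v, c, e} (Finset.card_le_three.trans_lt
      (by have := S.four; omega)))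
    rw [Finset.coe_insert, Finset.coe_insert, Finset.coe_singleton] at hus
    have h := hcon (u - ⟪v, u⟫ • e) (sub_mem hu ((D j).smul_mem _ he))
      (by rw [polar_sub_right, polar_smul_right, hve, smul_eq_mul, mul_one, sub_self])
    refine hus ?_
    rw [← sub_add_cancel u (⟪v, u⟫ • e)]
    exact add_mem (Submodule.span_mono (Set.insert_subset_insert (Set.singleton_subset_iff.mpr (by simp))) h)
      (Submodule.smul_mem _ _ (Submodule.subset_span (by simp)))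
  refine seed_of_moved S ((mem_isometry S hg v).trans hvv) hw' (ha ▸ hcomp v hv)
    (par_map S (par_local S hv hy'D hvv hvy') hg) (hcomp y' hy'D) (fun h => hy's ?_) hgood
  obtain ⟨b, hb⟩ := Submodule.mem_span_singleton.mp h
  rw [ha, smul_add, smul_smul, eq_comm, ← eq_sub_iff_add_eq] at hb
  rw [hb]
  exact sub_mem (add_mem (Submodule.smul_mem _ _ (Submodule.subset_span (by simp)))
    (Submodule.smul_mem _ _ (Submodule.subset_span (by simp)))) (Submodule.smul_mem _ _ (Submodule.subset_span (by simp)))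

end Cfsg.Agent.Classical.ODecompEven
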