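/-
Orthogonal decompositions in characteristic two: every mixed centre with enough parameters gives a seed.
-/
import Cfsg.Agent.Lib.Classical.ODecompEvenSeed

set_option autoImplicit false
set_option linter.unusedSectionVars false
set_option linter.style.haveILetI false

namespace Cfsg.Agent.Classical.ODecompEven

open Matrix Module QuadraticMap Cfsg.Geo
open Cfsg.Agent.Classical
open Cfsg.Agent.Classical.OCount (PND)

variable {ι : Type} [Fintype ι] [DecidableEq ι] {F : Type*} [Field F] [Fintype F]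
  {Q : QuadraticForm F (ι → F)} {t k : ℕ} {D : Fin t → Submodule F (ι → F)} {K : Subgroup (GL ι F)}

local notation "Gl" => GL ι F
local notation "Vn" => ι → F
local notation "⟪" x ", " y "⟫" => QuadraticMap.polar (DFunLike.coe Q) x y
local notation:max g:max " ⬝ₘ " x:max => ((g : Gl) : Matrix ι ι F) *ᵥ x

variable (S : Setup Q k D K)

include S

theorem quad_sum {c : Fin t → Vn} (hc : ∀ a, c a ∈ D a) (s : Finset (Fin t)) :
    Q (∑ a ∈ s, c a) = ∑ a ∈ s, Q (c a) := by
  induction s using Finset.cons_induction with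
  | empty => simp
  | cons a s ha ih =>
    rw [Finset.sum_cons, Finset.sum_cons, QuadraticMap.map_add ⇑Q, ih, polar_comm, polar_sum S,
      Finset.sum_eq_zero fun b hb => orth S (fun e : b = a => ha (e ▸ hb)) (hc b) (hc a), add_zero]

theorem exists_other_aniso {w : Vn} {cw : Fin t → Vn} (hcw : ∀ a, cw a ∈ D a) (hwe : ∑ a, cw a = w) (hw : Q w = 0)
    {i : Fin t} (hi : Q (cw i) ≠ 0) : ∃ j, j ≠ i ∧ Q (cw j) ≠ 0 := by
  by_contra hcon
  push Not at hcon
  rw [← hwe, quad_sum S hcw, Finset.sum_eq_single i (fun b _ hb => hcon b hb)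
    (fun h => absurd (Finset.mem_univ _) h)] at hw
  exact hi hw

/-- A scalar making a rotated component singular. -/
theorem exists_scale {Q₀ C : F} (h₀ : Q₀ ≠ 0) (hC : C ≠ 0) : ∃ s : F, s ≠ 0 ∧ s * s * (Q₀ * C) = 1 := by
  obtain ⟨r, hr⟩ := exists_root S (Q₀ * C)⁻¹
  have hne : Q₀ * C ≠ 0 := mul_ne_zero h₀ hC
  have h1 : r * r * (Q₀ * C) = 1 := by rw [hr, inv_mul_cancel₀ hne]
  exact ⟨r, fun e => by rw [e, mul_zero, zero_mul] at h1; exact zero_ne_one h1, h1⟩

/-- Rotation at an anisotropic component. -/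
theorem seed_of_rot_aniso {w z₀ c : Vn} {j : Fin t} {a' : F} (hw : Q w = 0) (hz : Par Q K w z₀)
    (hc : Comp Q D j w c) (hcc : Q c ≠ 0) (hz₀ : Comp Q D j z₀ (a' • c)) (hQ₀ : Q z₀ ≠ 0)
    (hmix : ∀ s : F, s ≠ 0 → ∃ l, l ≠ j ∧ ¬ Comp Q D l (z₀ + (a' + s * Q z₀) • w) 0) : Seed Q D K := by
  have hc0 : c ≠ 0 := fun e => hcc (by rw [e, QuadraticMap.map_zero])
  obtain ⟨v, hv, hvv, hcv⟩ := exists_see S hc.1 hc0
  obtain ⟨s, hs, hsQ⟩ := exists_scale S hQ₀ hcc
  obtain ⟨l, hlj, hl⟩ := hmix s hs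
  refine seed_of_rot S hw hz hc hz₀ hv hvv hcv hQ₀ s hs ⟨l, hlj, fun h => hl ?_⟩ rfl (Or.inl ?_)
  · have h2 := comp_smul S (⟪c, v⟫ * s)⁻¹ h
    rw [smul_zero, smul_add, smul_smul, smul_smul, inv_mul_cancel₀ (mul_ne_zero hcv hs), one_smul,
      inv_mul_cancel_left₀ (mul_ne_zero hcv hs)] at h2
    exact h2
  · rw [QuadraticMap.map_add ⇑Q, hvv, QuadraticMap.map_smul, polar_smul_right, polar_comm (⇑Q) v c]
    simp only [smul_eq_mul]
    linear_combination (⟪c, v⟫ * ⟪c, v⟫ * (s * s * Q z₀)) * hsQ + (⟪c, v⟫ * ⟪c, v⟫ * (s * s * Q z₀)) * S.two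

/-- An anisotropic parameter inside a member. -/
theorem seed_of_aniso {w y : Vn} {cw : Fin t → Vn} (hcw : ∀ a, cw a ∈ D a) (hwe : ∑ a, cw a = w) (hw : Q w = 0)
    {i : Fin t} (hy : y ∈ D i) (hyy : Q y ≠ 0) (hz : Par Q K w y) (hi : Q (cw i) ≠ 0)
    (h : y ∉ Submodule.span F {cw i} ∨ ∀ j, j ≠ i → ∃ l, l ≠ i ∧ l ≠ j ∧ cw l ≠ 0) : Seed Q D K := by
  have hCw : ∀ a, Comp Q D a w (cw a) := fun a => hwe ▸ comp_sum S hcw a
  obtain ⟨j, hji, hj⟩ := exists_other_aniso S hcw hwe hw hi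
  refine seed_of_rot_aniso S hw hz (hCw j) hj (a' := 0) (by rw [zero_smul]; exact comp_other S hji hy) hyy
    fun s hs => ?_
  rw [zero_add]
  rcases h with h | h
  · refine ⟨i, hji.symm, fun hc => h ?_⟩
    have h2 := eq_of_comp S hc (comp_add S (comp_self S hy) (comp_smul S _ (hCw i)))
    rw [eq_comm, add_eq_zero_iff_eq_neg] at h2
    rw [h2]
    exact neg_mem (Submodule.smul_mem _ _ (Submodule.mem_span_singleton_self _))
  · obtain ⟨l, hli, hlj, hl⟩ := h j hji
    refine ⟨l, hlj, fun hc => hl ?_⟩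
    have h2 := eq_of_comp S hc (comp_add S (comp_other S hli hy) (comp_smul S _ (hCw l)))
    rw [zero_add, eq_comm, smul_eq_zero] at h2
    exact h2.resolve_left (mul_ne_zero hs hyy)

/-- The smallest case: a moved anisotropic component. -/
theorem seed_or_flat (hq : Fintype.card F = 2) (hk : k = 4) {w z p : Vn} {cw : Fin t → Vn} (hcw : ∀ a, cw a ∈ D a)
    (hwe : ∑ a, cw a = w) (hw : Q w = 0) {i : Fin t} (hwi : w ∉ D i) (hz : Par Q K w z) (hp : Comp Q D i z p)
    (hi : Q (cw i) ≠ 0) (hmov : p ∉ Submodule.span F {cw i}) :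
    Seed Q D K ∨ (⟪p, cw i⟫ = 1 ∧ Q p = 0 ∧ ∃ j, j ≠ i ∧ ∀ l, l ≠ i → l ≠ j → cw l = 0) := by
  classical
  have one : ∀ a : F, a ≠ 0 → a = 1 := fun a ha => by
    have h := FiniteField.pow_card_sub_one_eq_one a ha
    rwa [hq, pow_one] at h
  have hCw : Comp Q D i w (cw i) := hwe ▸ comp_sum S hcw i
  obtain ⟨v, hv, hvv, hcv, hpv⟩ := exists_see_perp S (hcw i) hp.1 hi hmov
  have hv0 : v ≠ 0 := fun e => hpv (by rw [e, polar_zero_right])
  have h1 := par_diff S hw hCw hz hp hv hvv (hcw i) (swap0 S hcv) hcv (self0 S _)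
  rw [one _ hpv, one _ hi, one_smul, mul_one] at h1
  by_cases hpc : ⟪p, cw i⟫ = 0
  · rw [hpc, zero_add, one_smul] at h1
    left
    have hQ : Q (cw i - v) = 1 := by
      rw [sub_eq_add_neg, QuadraticMap.map_add ⇑Q, QuadraticMap.map_neg, hvv, polar_neg_right, hcv, one _ hi]
      simp
    refine seed_of_aniso S hcw hwe hw (sub_mem (hcw i) hv) (by rw [hQ]; exact one_ne_zero) h1 hi (Or.inl fun h => ?_)
    obtain ⟨b, hb⟩ := Submodule.mem_span_singleton.mp h
    have hv' : v = (1 - b) • cw i := by rw [sub_smul, one_smul, hb]; abel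
    rw [hv', QuadraticMap.map_smul, one _ hi, smul_eq_mul, mul_one] at hvv
    exact hv0 (by rw [hv', mul_self_eq_zero.mp hvv, zero_smul])
  · rw [one _ hpc, show (1 : F) + 1 = 0 by linear_combination S.two, zero_smul, sub_zero] at h1
    by_cases hsupp : ∀ j, j ≠ i → ∃ l, l ≠ i ∧ l ≠ j ∧ cw l ≠ 0
    · exact Or.inl (seed_of_aniso S hcw hwe hw (hcw i) hi h1 hi (Or.inr hsupp))
    push Not at hsupp
    by_cases hpp : Q p = 0
    · exact Or.inr ⟨one _ hpc, hpp, hsupp⟩
    left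
    have hcp : ⟪cw i, p⟫ = 1 := by rw [polar_comm]; exact one _ hpc
    obtain ⟨x, hx, y, hy, hcx, hpx, hcy, hpy, hxy⟩ := exists_pair_perp S (hcw i) hp.1 hcp
    obtain ⟨v', hv', hv'v', hcv', hpv', hv'0⟩ : ∃ v' ∈ D i, Q v' = 0 ∧ ⟪cw i, v'⟫ = 0 ∧ ⟪p, v'⟫ = 0 ∧ v' ≠ 0 := by
      by_contra hcon
      push Not at hcon
      have nz : ∀ u ∈ D i, ⟪cw i, u⟫ = 0 → ⟪p, u⟫ = 0 → u ≠ 0 → Q u = 1 := fun u hu a b hu0 =>
        one _ fun e => hu0 (hcon u hu e a b)
      have hx0 : x ≠ 0 := fun e => by rw [e, polar_zero_left] at hxy; exact zero_ne_one hxy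
      have hy0 : y ≠ 0 := fun e => by rw [e, polar_zero_right] at hxy; exact zero_ne_one hxy
      have qx := nz x hx hcx hpx hx0
      have qy := nz y hy hcy hpy hy0
      refine S.small hq hk i ⟨Submodule.span F (Set.range ![cw i + x, p + y]), ?_, ?_, ?_⟩
      · rw [Submodule.span_le]
        rintro _ ⟨m, rfl⟩
        fin_cases m
        exacts [add_mem (hcw i) hx, add_mem hp.1 hy]
      · intro u hu
        obtain ⟨g, rfl⟩ := (Submodule.mem_span_range_iff_exists_fun F).mp hu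
        simp only [Fin.sum_univ_two, Matrix.cons_val_zero, Matrix.cons_val_one]
        simp only [QuadraticMap.map_add ⇑Q, QuadraticMap.map_smul, polar_smul_left, polar_smul_right, polar_add_left,
          polar_add_right, hcx, hpy, hcy, swap0 S hpx, hcp, hxy, qx, qy, one _ hi, one _ hpp, smul_eq_mul]
        linear_combination (g 0 * g 0 + g 1 * g 1 + g 0 * g 1) * S.two
      · rw [finrank_span_eq_card, Fintype.card_fin, finrank_member S, hk]
        refine Fintype.linearIndependent_iff.2 fun g hg => ?_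
        simp only [Fin.sum_univ_two, Matrix.cons_val_zero, Matrix.cons_val_one] at hg
        have e1 := congrArg (fun u => ⟪cw i, u⟫) hg
        have e2 := congrArg (fun u => ⟪u, y⟫) hg
        simp only [polar_add_left, polar_add_right, polar_smul_left, polar_smul_right, self0 S, hcx, hcy, hpy, hcp,
          hxy, polar_zero_left, polar_zero_right, smul_eq_mul, mul_zero, mul_one, add_zero, zero_add] at e1 e2
        exact fun m => by fin_cases m <;> assumption
    have h2 := par_diff S hw hCw hz hp hv' hv'v' (hcw i) (swap0 S hcv') hcv' (self0 S _)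
    rw [hpv', zero_smul, mul_zero, add_zero, one _ hpc, one_smul, zero_sub] at h2
    refine seed_of_local S hw hv' hv'0 hv'v' ?_ hwi
    have h3 := par_smul S (-1) h2
    rwa [neg_one_smul, neg_neg] at h3

/-- A mixed singular centre with enough parameters gives a seed. -/
theorem seed_of_mixed {w : Vn} (hw : Q w = 0) (hmix : ∀ b, w ∉ D b)
    (hprov : ∀ x, ∃ z, Par Q K w z ∧ z ∉ Submodule.span F {w, x} ∧ (Fintype.card F = 2 → k = 4 → Q z ≠ 0)) :
    Seed Q D K := by
  classical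
  obtain ⟨cw, hcw, hwe⟩ := components S w
  have hCw : ∀ i, Comp Q D i w (cw i) := fun i => hwe ▸ comp_sum S hcw i
  obtain ⟨i₀, hi₀⟩ : ∃ i, cw i ≠ 0 := by
    by_contra hcon
    push Not at hcon
    refine hmix ⟨0, by have := S.decomp.decomp.decomp.two_le; omega⟩ ?_
    rw [← hwe, Finset.sum_eq_zero fun i _ => hcon i]
    exact Submodule.zero_mem _
  obtain ⟨z, hz, hzs, hzQ⟩ := hprov (cw i₀)
  obtain ⟨cz, hcz, hze⟩ := components S z
  have hCz : ∀ i, Comp Q D i z (cz i) := fun i => hze ▸ comp_sum S hcz i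
  by_cases hmov : ∃ i, cz i ∉ Submodule.span F {cw i}
  · obtain ⟨i, hmv⟩ := hmov
    by_cases hgood : Q (cw i) = 0 ∨ ¬ (Fintype.card F = 2 ∧ k = 4)
    · exact seed_of_moved S hw (hmix i) (hCw i) hz (hCz i) hmv hgood
    rw [not_or, not_not] at hgood
    obtain ⟨hi, hq, hk⟩ := hgood
    rcases seed_or_flat S hq hk hcw hwe hw (hmix i) hz (hCz i) hi hmv with h | ⟨hp1, hpQ, j, hji, hsupp⟩
    · exact h
    have hout : ∀ l, l ≠ i → l ≠ j → cz l = 0 ∨ Seed Q D K := fun l hli hlj => by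
      by_cases hl : cz l = 0
      · exact Or.inl hl
      · exact Or.inr (seed_zero S hw (hmix l) (hsupp l hli hlj ▸ hCw l) hz (hCz l) hl)
    by_contra hno
    have hz0 : ∀ l, l ≠ i → l ≠ j → cz l = 0 := fun l h1 h2 => (hout l h1 h2).resolve_right hno
    obtain ⟨j', hj'i, hj'⟩ := exists_other_aniso S hcw hwe hw hi
    obtain rfl : j' = j := by
      by_contra hne
      exact hj' (by rw [hsupp j' hj'i hne, QuadraticMap.map_zero])
    have hpair : ⟪cz j', cw j'⟫ = 1 := by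
      have h0 : ⟪w, z⟫ = 0 := hz.1
      rw [← hwe, polar_sum S, ← Finset.add_sum_erase _ _ (Finset.mem_univ i),
        ← Finset.add_sum_erase _ _ (Finset.mem_erase.mpr ⟨hj'i, Finset.mem_univ j'⟩),
        Finset.sum_eq_zero fun l hl => ?_] at h0
      · rw [polar_comm (⇑Q) (cw i) z, (hCz i).2 _ (hcw i), hp1, polar_comm (⇑Q) (cw j') z,
          (hCz j').2 _ (hcw j'), add_zero] at h0
        linear_combination h0 - S.two
      · simp only [Finset.mem_erase] at hl
        rw [hsupp l hl.2.1 hl.1, polar_zero_left]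
    have hmv' : cz j' ∉ Submodule.span F {cw j'} := fun h => by
      obtain ⟨b, hb⟩ := Submodule.mem_span_singleton.mp h
      rw [← hb, polar_smul_left, self0 S, smul_zero] at hpair
      exact zero_ne_one hpair
    rcases seed_or_flat S hq hk hcw hwe hw (hmix j') hz (hCz j') hj' hmv' with h | ⟨-, hpQ', -⟩
    · exact hno h
    refine hzQ hq hk ?_
    rw [← hze, quad_sum S hcz, ← Finset.add_sum_erase _ _ (Finset.mem_univ i),
      ← Finset.add_sum_erase _ _ (Finset.mem_erase.mpr ⟨hj'i, Finset.mem_univ j'⟩),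
      Finset.sum_eq_zero fun l hl => ?_, hpQ, hpQ']
    · simp
    · simp only [Finset.mem_erase] at hl
      rw [hz0 l hl.2.1 hl.1, QuadraticMap.map_zero]
  push Not at hmov
  choose a ha using fun i => Submodule.mem_span_singleton.mp (hmov i)
  obtain ⟨z₀, hz₀⟩ : ∃ z₀, z₀ = z - a i₀ • w := ⟨_, rfl⟩
  have hz₀P : Par Q K w z₀ := hz₀ ▸ par_sub S hw hz (par_smul S _ (par_self S hw))
  have hC₀ : ∀ l, Comp Q D l z₀ ((a l - a i₀) • cw l) := fun l => by
    rw [sub_smul, ha l, hz₀]; exact comp_sub S (hCz l) (comp_smul S _ (hCw l))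
  have h00 : Comp Q D i₀ z₀ 0 := by have := hC₀ i₀; rwa [sub_self, zero_smul] at this
  have hzw : z₀ ∉ Submodule.span F {w} := fun h => hzs (by
    rw [show z = z₀ + a i₀ • w by rw [hz₀, sub_add_cancel]]
    exact add_mem (Submodule.span_mono (Set.singleton_subset_iff.mpr (by simp)) h)
      (Submodule.smul_mem _ _ (Submodule.subset_span (by simp))))
  by_cases hq₀ : Q z₀ = 0
  · have hne : z₀ ∉ D i₀ := fun h => hzw (by
      rw [eq_of_comp S (comp_self S h) h00]; exact Submodule.zero_mem _)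
    exact seed_zero S hq₀ hne h00 (par_swap S hw hq₀ hz₀P) (hCw i₀) hi₀
  obtain ⟨j, hja, hjQ⟩ : ∃ j, a j - a i₀ ≠ 0 ∧ Q (cw j) ≠ 0 := by
    by_contra hcon
    push Not at hcon
    refine hq₀ ?_
    obtain ⟨c, hc, hce⟩ := components S z₀
    rw [← hce, quad_sum S hc]
    refine Finset.sum_eq_zero fun l _ => ?_
    have e0 : c l = (a l - a i₀) • cw l := eq_of_comp S (hce ▸ comp_sum S hc l) (hC₀ l)
    rw [e0, QuadraticMap.map_smul]
    by_cases hl : a l - a i₀ = 0
    · rw [hl, mul_zero, zero_smul]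
    · rw [hcon l hl, smul_zero]
  have hji : j ≠ i₀ := fun e => hja (by rw [e, sub_self])
  by_cases hT : ∃ l, l ≠ j ∧ (a l - a i₀) • cw l ≠ 0
  · refine seed_of_rot_aniso S hw hz₀P (hCw j) hjQ (hC₀ j) hq₀ fun s hs => ?_
    by_cases h0 : a j - a i₀ + s * Q z₀ = 0
    · obtain ⟨l, hlj, hl⟩ := hT
      refine ⟨l, hlj, fun hc => hl ?_⟩
      rw [h0, zero_smul, add_zero] at hc
      exact (eq_of_comp S hc (hC₀ l)).symm
    · refine ⟨i₀, hji.symm, fun hc => hi₀ ?_⟩
      have h2 := eq_of_comp S hc (comp_add S h00 (comp_smul S _ (hCw i₀)))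
      rw [zero_add, eq_comm, smul_eq_zero] at h2
      exact h2.resolve_left h0
  push Not at hT
  have hz₀j : z₀ = (a j - a i₀) • cw j := by
    obtain ⟨c, hc, hce⟩ := components S z₀
    rw [← hce, Finset.sum_eq_single j (fun l _ hl => ?_) (fun h => absurd (Finset.mem_univ _) h)]
    · exact eq_of_comp S (hce ▸ comp_sum S hc j) (hC₀ j)
    · have e0 : c l = (a l - a i₀) • cw l := eq_of_comp S (hce ▸ comp_sum S hc l) (hC₀ l)
      rw [e0, hT l hl]
  have hpj : Par Q K w (cw j) := by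
    have h := par_smul S (a j - a i₀)⁻¹ hz₀P
    rwa [hz₀j, inv_smul_smul₀ hja] at h
  refine seed_of_aniso S hcw hwe hw (hcw j) hjQ hpj hjQ (Or.inr fun j' hj' => ?_)
  by_contra hcon
  push Not at hcon
  refine hzs ?_
  have hj₀ : i₀ = j' := by
    by_contra h
    exact hi₀ (hcon i₀ hji.symm h)
  have hw2 : w = cw j + cw i₀ := by
    rw [← hwe, ← Finset.add_sum_erase _ _ (Finset.mem_univ j),
      Finset.sum_eq_single i₀ (fun l hl hne => hcon l (Finset.ne_of_mem_erase hl) (hj₀ ▸ hne))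
        (fun h => absurd (Finset.mem_erase.mpr ⟨hji.symm, Finset.mem_univ _⟩) h)]
  have e : z = (a i₀ + (a j - a i₀)) • w - (a j - a i₀) • cw i₀ := by
    rw [show z = z₀ + a i₀ • w by rw [hz₀, sub_add_cancel], hz₀j, hw2]
    module
  rw [e]
  exact sub_mem (Submodule.smul_mem _ _ (Submodule.subset_span (by simp)))
    (Submodule.smul_mem _ _ (Submodule.subset_span (by simp)))

end Cfsg.Agent.Classical.ODecompEven
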