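/-
Stabilisers of orthogonal decompositions into members of dimension at least four are maximal in `Ω`, characteristic two.
-/
import Cfsg.Agent.Lib.Classical.ODecompEvenCases

set_option autoImplicit false
set_option linter.unusedSectionVars false
set_option linter.style.haveILetI false

namespace Cfsg.Agent.Classical.ODecompEven

open Matrix Module QuadraticMap Cfsg.Geo
open Cfsg.Agent.Classical
open Cfsg.Agent.Classical.OCount (PND)

variable {ι : Type} [Fintype ι] [DecidableEq ι] {F : Type*} [Field F] [Fintype F]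
  {Q : QuadraticForm F (ι → F)} {t k : ℕ} {D : Fin t → Submodule F (ι → F)} {K : Subgroup (GL ι F)}

local notation "Gl" => GL ι F
local notation "Vn" => ι → F
local notation "⟪" x ", " y "⟫" => QuadraticMap.polar (DFunLike.coe Q) x y
local notation:max g:max " ⬝ₘ " x:max => ((g : Gl) : Matrix ι ι F) *ᵥ x

variable (S : Setup Q k D K)

include S

theorem add_self_eq_zero' (a : F) : a + a = 0 := by linear_combination a * S.two

/-- Every vector of a member splits off a singular vector seeing a given one. -/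
theorem split_singular {i : Fin t} {v z : Vn} (hv : v ∈ D i) (hz : z ∈ D i) (hvv : Q v = 0) (hzz : Q z = 0)
    (hvz : ⟪v, z⟫ = 1) {x : Vn} (hx : x ∈ D i) :
    ∃ s ∈ D i, Q s = 0 ∧ ⟪s, v⟫ = 1 ∧ ∃ a b : F, x = s + a • v + b • z := by
  obtain ⟨x', hx'⟩ : ∃ x', x' = x - ⟪x, z⟫ • v - ⟪x, v⟫ • z := ⟨_, rfl⟩
  have h : ⟪x', v⟫ = 0 ∧ ⟪x', z⟫ = 0 := by
    simp only [hx', polar_sub_left, polar_smul_left, self0 S, hvz, polar_comm (⇑Q) z v,
      smul_eq_mul, mul_zero, mul_one, sub_zero, sub_self, and_self]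
  refine ⟨x' - Q x' • v + z, add_mem (sub_mem (hx' ▸ sub_mem (sub_mem hx ((D i).smul_mem _ hv))
    ((D i).smul_mem _ hz)) ((D i).smul_mem _ hv)) hz, ?_, ?_, Q x' + ⟪x, z⟫, ⟪x, v⟫ - 1, ?_⟩
  · rw [sub_eq_add_neg, ← neg_smul, QuadraticMap.map_add ⇑Q, QuadraticMap.map_add ⇑Q, QuadraticMap.map_smul, hvv, hzz,
      polar_add_left, polar_smul_left, polar_smul_right, h.1, h.2, hvz]
    simp
  · rw [polar_add_left, polar_sub_left, polar_smul_left, h.1, self0 S, polar_comm (⇑Q) z v, hvz]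
    simp
  · rw [hx']; module

/-- An element outside the stabiliser gives a mixed centre with enough parameters. -/
theorem exists_mixed {g : Gl} (hg : g ∈ K) (hgn : g ∉ decompositionStabilizer D) :
    ∃ w, Q w = 0 ∧ (∀ b, w ∉ D b) ∧
      ∀ x, ∃ z, Par Q K w z ∧ z ∉ Submodule.span F {w, x} ∧ (Fintype.card F = 2 → k = 4 → Q z ≠ 0) := by
  classical
  by_contra hcon
  apply hgn
  have hin : ∀ a u, u ∈ D a → Q u = 0 → ∃ b, g ⬝ₘ u ∈ D b := by
    intro a u hu huu
    by_contra hmix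
    push Not at hmix
    refine hcon ⟨g ⬝ₘ u, (mem_isometry S hg u).trans huu, hmix, fun x => ?_⟩
    have hu0 : u ≠ 0 := fun e => hmix a (by rw [e, Matrix.mulVec_zero]; exact zero_mem _)
    obtain ⟨y, hy, hyy, huy, hys⟩ : ∃ y ∈ D a, (Fintype.card F = 2 → k = 4 → Q y ≠ 0) ∧ ⟪u, y⟫ = 0 ∧
        y ∉ Submodule.span F {u, (g⁻¹ : Gl) ⬝ₘ x} := by
      obtain ⟨e, he, hee, hue⟩ := partner S hu hu0 huu
      obtain ⟨r, hr, hrs⟩ := SetLike.not_le_iff_exists.mp (ne_span S (i := a) {u, (g⁻¹ : Gl) ⬝ₘ x, e}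
        (Finset.card_le_three.trans_lt (by have := S.four; omega)))
      rw [Finset.coe_insert, Finset.coe_insert, Finset.coe_singleton] at hrs
      have hs : r - ⟪u, r⟫ • e ∉ Submodule.span F {u, (g⁻¹ : Gl) ⬝ₘ x} := fun h => hrs (by
        rw [← sub_add_cancel r (⟪u, r⟫ • e)]
        exact add_mem (Submodule.span_mono (Set.insert_subset_insert (Set.singleton_subset_iff.mpr (by simp))) h)
          (Submodule.smul_mem _ _ (Submodule.subset_span (by simp))))
      have hur : ⟪u, r - ⟪u, r⟫ • e⟫ = 0 := by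
        rw [polar_sub_right, polar_smul_right, hue, smul_eq_mul, mul_one, sub_self]
      refine ⟨r - ⟪u, r⟫ • e, sub_mem hr ((D a).smul_mem _ he), fun hq hk h0 => ?_, hur, hs⟩
      refine S.small hq hk a ⟨Submodule.span F (Set.range ![u, r - ⟪u, r⟫ • e]), ?_, ?_, ?_⟩
      · rw [Submodule.span_le]
        rintro _ ⟨m, rfl⟩
        fin_cases m
        exacts [hu, sub_mem hr ((D a).smul_mem _ he)]
      · intro v hv
        obtain ⟨c, rfl⟩ := (Submodule.mem_span_range_iff_exists_fun F).mp hv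
        simp only [Fin.sum_univ_two, Matrix.cons_val_zero, Matrix.cons_val_one]
        simp only [QuadraticMap.map_add ⇑Q, QuadraticMap.map_smul, polar_smul_left, polar_smul_right, huu, h0, hur,
          smul_eq_mul, mul_zero, add_zero]
      · rw [finrank_span_eq_card, Fintype.card_fin, finrank_member S, hk]
        refine LinearIndependent.pair_iff.mpr fun s t hst => ?_
        have ht : t = 0 := by
          by_contra ht
          refine hs ?_
          have : r - ⟪u, r⟫ • e = (-(t⁻¹ * s)) • u := by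
            rw [neg_smul, eq_neg_iff_add_eq_zero, add_comm]
            have := congrArg (t⁻¹ • ·) hst
            simpa [smul_add, smul_smul, ht] using this
          rw [this]
          exact Submodule.smul_mem _ _ (Submodule.subset_span (by simp))
        rw [ht, zero_smul, add_zero, smul_eq_zero] at hst
        exact ⟨hst.resolve_right hu0, ht⟩
    refine ⟨g ⬝ₘ y, par_map S (par_local S hu hy huu huy) hg, fun h => hys ?_, fun hq hk => ?_⟩
    · obtain ⟨α, β, hαβ⟩ := Submodule.mem_span_pair.mp h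
      refine Submodule.mem_span_pair.mpr ⟨α, β, gl_mulVec_injective g ?_⟩
      simp only []
      rw [Matrix.mulVec_add, Matrix.mulVec_smul, Matrix.mulVec_smul, gl_mulVec_inv_cancel, hαβ]
    · rw [mem_isometry S hg]; exact hyy hq hk
  have hone : ∀ a, ∃ b, ∀ x ∈ D a, g ⬝ₘ x ∈ D b := by
    intro a
    obtain ⟨v, hv, hv0, hvv⟩ := exists_singular S a
    obtain ⟨z, hz, hzz, hvz⟩ := partner S hv hv0 hvv
    obtain ⟨b, hb⟩ := hin a v hv hvv
    have key : ∀ s ∈ D a, Q s = 0 → ⟪s, v⟫ = 1 → g ⬝ₘ s ∈ D b := fun s hs hss h1 => by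
      obtain ⟨c, hc⟩ := hin a s hs hss
      by_cases hcb : c = b
      · exact hcb ▸ hc
      · have := orth S hcb hc hb
        rw [iso_polar S hg, h1] at this
        exact absurd this one_ne_zero
    refine ⟨b, fun x hx => ?_⟩
    obtain ⟨s, hs, hss, hsv, α, β, rfl⟩ := split_singular S hv hz hvv hzz hvz hx
    rw [Matrix.mulVec_add, Matrix.mulVec_add, Matrix.mulVec_smul, Matrix.mulVec_smul]
    exact add_mem (add_mem (key s hs hss hsv) ((D b).smul_mem _ hb))
      ((D b).smul_mem _ (key z hz hzz (by rw [polar_comm]; exact hvz)))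
  choose π hπ using hone
  have hinj : Function.Injective π := fun a a' h => by
    by_contra hne
    obtain ⟨v, hv, hv0, hvv⟩ := exists_singular S a
    obtain ⟨u, hu, hu0, -⟩ := exists_singular S a'
    obtain ⟨z, hz, hzz, hvz⟩ := partner S hv hv0 hvv
    have hmap : ∀ a, (D a).map (Matrix.toLin' (g : Matrix ι ι F)) = D (π a) := fun a =>
      Submodule.eq_of_le_of_finrank_eq (by
        rintro _ ⟨x, hx, rfl⟩
        rw [Matrix.toLin'_apply]; exact hπ a x hx) (by
        rw [← (Submodule.equivMapOfInjective _ (fun x y e => gl_mulVec_injective g (by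
          simpa [Matrix.toLin'_apply] using e)) (D a)).finrank_eq, finrank_member S, finrank_member S])
    have h1 : g ⬝ₘ u ∈ (D a).map (Matrix.toLin' (g : Matrix ι ι F)) := by
      rw [hmap, h, ← hmap]; exact ⟨u, hu, Matrix.toLin'_apply _ _⟩
    obtain ⟨x, hx, hxu⟩ := h1
    rw [Matrix.toLin'_apply] at hxu
    obtain ⟨y, hy, hne'⟩ := nondeg S hu hu0
    exact hne' (orth S hne ((gl_mulVec_injective g hxu) ▸ hx) hy)
  exact stab_of S (Equiv.ofBijective π (Finite.injective_iff_bijective.mp hinj)) hπ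

/-- An element of `Ω` exchanging two members along an isometry, built from root elements. -/
theorem exists_exchange {i j : Fin t} (hij : i ≠ j) (e : D i ≃ₗ[F] D j)
    (he : ∀ x : D i, Q ((e x : D j) : Vn) = Q (x : Vn)) : ∀ (n : ℕ) (W : Submodule F (D i)),
    finrank F W ≤ n → (∀ x ∈ W, x ≠ 0 → ∃ y ∈ W, ⟪(x : Vn), (y : Vn)⟫ ≠ 0) →
    ∃ g ∈ omegaGL ⇑Q, (∀ x : Vn, (∀ u ∈ W, ⟪(u : Vn), x⟫ = 0 ∧ ⟪((e u : D j) : Vn), x⟫ = 0) → g ⬝ₘ x = x) ∧
      ∀ u ∈ W, g ⬝ₘ (u : Vn) = ((e u : D j) : Vn) ∧ g ⬝ₘ ((e u : D j) : Vn) = (u : Vn) := by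
  intro n
  induction n with
  | zero =>
    intro W hW _
    refine ⟨1, one_mem _, fun x _ => by simp, fun u hu => ?_⟩
    rw [(Submodule.finrank_eq_zero.mp (Nat.le_zero.mp hW)), Submodule.mem_bot] at hu
    rw [hu]; simp
  | succ n ih =>
    intro W hW hnd
    by_cases hbot : W = ⊥
    · exact ih W (by rw [hbot, finrank_bot]; omega) hnd
    obtain ⟨p, hp, hp0⟩ := Submodule.exists_mem_ne_zero_of_ne_bot hbot
    obtain ⟨p₁, hp₁, hne⟩ := hnd p hp hp0
    obtain ⟨p', hp'⟩ : ∃ p', p' = ⟪(p : Vn), (p₁ : Vn)⟫⁻¹ • p₁ := ⟨_, rfl⟩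
    have hp'W : p' ∈ W := hp' ▸ W.smul_mem _ hp₁
    have hpp : ⟪(p : Vn), (p' : Vn)⟫ = 1 := by
      rw [hp', Submodule.coe_smul, polar_smul_right, smul_eq_mul, inv_mul_cancel₀ hne]
    have eB : ∀ u v : D i, ⟪((e u : D j) : Vn), ((e v : D j) : Vn)⟫ = ⟪(u : Vn), (v : Vn)⟫ := fun u v => by
      simp only [polar, ← Submodule.coe_add, ← _root_.map_add, he]
    have o : ∀ (u : D i) (v : D j), ⟪(u : Vn), (v : Vn)⟫ = 0 := fun u v => orth S hij u.2 v.2
    have o' : ∀ (u : D i) (v : D j), ⟪(v : Vn), (u : Vn)⟫ = 0 := fun u v => orth S hij.symm v.2 u.2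
    obtain ⟨W', hW'⟩ : ∃ W' : Submodule F (D i), ∀ x, x ∈ W' ↔ x ∈ W ∧ ⟪(p : Vn), (x : Vn)⟫ = 0 ∧ ⟪(p' : Vn), (x : Vn)⟫ = 0 :=
      ⟨{ carrier := {x | x ∈ W ∧ ⟪(p : Vn), (x : Vn)⟫ = 0 ∧ ⟪(p' : Vn), (x : Vn)⟫ = 0}
         add_mem' := fun {a b} ha hb => ⟨W.add_mem ha.1 hb.1, by rw [Submodule.coe_add, polar_add_right, ha.2.1, hb.2.1,
           add_zero], by rw [Submodule.coe_add, polar_add_right, ha.2.2, hb.2.2, add_zero]⟩
         zero_mem' := ⟨W.zero_mem, by simp, by simp⟩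
         smul_mem' := fun r a ha => ⟨W.smul_mem r ha.1, by rw [Submodule.coe_smul, polar_smul_right, ha.2.1, smul_zero],
           by rw [Submodule.coe_smul, polar_smul_right, ha.2.2, smul_zero]⟩ }, fun x => Iff.rfl⟩
    have hlt : finrank F W' ≤ n := by
      have h1 : W' < W := lt_of_le_not_ge (fun x hx => ((hW' x).1 hx).1) fun hle => by
        have h2 := ((hW' p').1 (hle hp'W)).2.1
        rw [hpp] at h2; exact one_ne_zero h2
      have := Submodule.finrank_lt_finrank_of_lt h1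
      omega
    obtain ⟨R, hR⟩ : ∃ R : D i → D i, R = fun u : D i => u - ⟪(u : Vn), (p' : Vn)⟫ • p - ⟪(u : Vn), (p : Vn)⟫ • p' := ⟨_, rfl⟩
    have hRu : ∀ u, (R u : Vn) = (u : Vn) - ⟪(u : Vn), (p' : Vn)⟫ • (p : Vn) - ⟪(u : Vn), (p : Vn)⟫ • (p' : Vn) :=
      fun u => by rw [hR]; rfl
    have hRW : ∀ u ∈ W, R u ∈ W' := fun u hu => by
      refine (hW' _).2 ⟨hR ▸ W.sub_mem (W.sub_mem hu (W.smul_mem _ hp)) (W.smul_mem _ hp'W), ?_⟩
      rw [hRu]
      exact proj_perp S hpp (u : Vn)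
    have hnd' : ∀ x ∈ W', x ≠ 0 → ∃ y ∈ W', ⟪(x : Vn), (y : Vn)⟫ ≠ 0 := by
      intro x hx hx0
      obtain ⟨hxW, hx1, hx2⟩ := (hW' x).1 hx
      obtain ⟨y, hy, hne'⟩ := hnd x hxW hx0
      refine ⟨R y, hRW y hy, ?_⟩
      rw [hRu, polar_sub_right, polar_sub_right, polar_smul_right, polar_smul_right, swap0 S hx1, swap0 S hx2]
      simpa using hne'
    obtain ⟨g', hg', hfix', hmap'⟩ := ih W' hlt hnd'
    obtain ⟨a, ha⟩ : ∃ a, a = (p : Vn) + ((e p : D j) : Vn) := ⟨_, rfl⟩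
    obtain ⟨b, hb⟩ : ∃ b, b = (p' : Vn) + ((e p' : D j) : Vn) := ⟨_, rfl⟩
    have haa : Q a = 0 := by
      rw [ha, QuadraticMap.map_add ⇑Q, he, o, add_zero, add_self_eq_zero' S]
    have hbb : Q b = 0 := by
      rw [hb, QuadraticMap.map_add ⇑Q, he, o, add_zero, add_self_eq_zero' S]
    have hab : ⟪a, b⟫ = 0 := by
      rw [ha, hb, polar_add_left, polar_add_right, polar_add_right, hpp, o, o', eB, hpp]
      linear_combination S.two
    obtain ⟨h, hh, hhx⟩ := ONotMax.exists_siegel S.pnd (by have := S.big; omega) haa hab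
    have hhx' : ∀ x, h ⬝ₘ x = x + ⟪x, a⟫ • b - ⟪x, b⟫ • a := fun x => by
      rw [hhx, polar_comm (⇑Q) a x, polar_comm (⇑Q) b x, hbb]; simp
    have hfix : ∀ x, ⟪(p : Vn), x⟫ = 0 → ⟪(p' : Vn), x⟫ = 0 → ⟪((e p : D j) : Vn), x⟫ = 0 →
        ⟪((e p' : D j) : Vn), x⟫ = 0 → h ⬝ₘ x = x := fun x h1 h2 h3 h4 => by
      rw [hhx', ha, hb, polar_add_right, polar_add_right, swap0 S h1, swap0 S h2, swap0 S h3, swap0 S h4]; simp
    refine ⟨g' * h, mul_mem hg' hh, fun x hx => ?_, fun u hu => ?_⟩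
    · rw [gl_mul_mulVec, hfix x (hx p hp).1 (hx p' hp'W).1 (hx p hp).2 (hx p' hp'W).2]
      exact hfix' x fun u hu => hx u ((hW' u).1 hu).1
    have key : ∀ q : D i, q = p ∨ q = p' → (h ⬝ₘ (q : Vn) = ((e q : D j) : Vn) ∧ h ⬝ₘ ((e q : D j) : Vn) = (q : Vn)) ∧
        g' ⬝ₘ (q : Vn) = (q : Vn) ∧ g' ⬝ₘ ((e q : D j) : Vn) = ((e q : D j) : Vn) := by
      intro q hq
      refine ⟨?_, hfix' _ fun v hv => ⟨?_, o' q (e v)⟩, hfix' _ fun v hv => ⟨o v _, ?_⟩⟩
      · rcases hq with hq | hq <;> rw [hq]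
        · constructor <;>
          · simp only [hhx', ha, hb, polar_add_right, self0 S, o, o', eB, hpp, polar_comm (⇑Q) (p' : Vn) (p : Vn),
              add_zero, zero_add, zero_smul]
            match_scalars <;> first | ring1 | linear_combination S.two | linear_combination (-1 : F) * S.two
        · constructor <;>
          · simp only [hhx', ha, hb, polar_add_right, self0 S, o, o', eB, hpp, polar_comm (⇑Q) (p' : Vn) (p : Vn),
              add_zero, zero_add, zero_smul]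
            match_scalars <;> first | ring1 | linear_combination S.two | linear_combination (-1 : F) * S.two
      · rcases hq with hq | hq <;> rw [hq]
        exacts [swap0 S ((hW' v).1 hv).2.1, swap0 S ((hW' v).1 hv).2.2]
      · rw [eB]
        rcases hq with hq | hq <;> rw [hq]
        exacts [swap0 S ((hW' v).1 hv).2.1, swap0 S ((hW' v).1 hv).2.2]
    obtain ⟨⟨k1, k2⟩, k3, k4⟩ := key p (Or.inl rfl)
    obtain ⟨⟨l1, l2⟩, l3, l4⟩ := key p' (Or.inr rfl)
    have hr := hRW u hu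
    obtain ⟨m1, m2⟩ := hmap' _ hr
    obtain ⟨-, r1, r2⟩ := (hW' _).1 hr
    have n1 : h ⬝ₘ (R u : Vn) = (R u : Vn) := hfix _ r1 r2 (o' _ _) (o' _ _)
    have n2 : h ⬝ₘ ((e (R u) : D j) : Vn) = ((e (R u) : D j) : Vn) := hfix _ (o _ _) (o _ _)
      (by rw [eB]; exact r1) (by rw [eB]; exact r2)
    obtain ⟨α, β, hdec⟩ : ∃ α β : F, u = R u + α • p + β • p' :=
      ⟨⟪(u : Vn), (p' : Vn)⟫, ⟪(u : Vn), (p : Vn)⟫, by rw [hR]; module⟩
    generalize R u = r at hr m1 m2 n1 n2 hdec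
    subst hdec
    simp only [Submodule.coe_add, Submodule.coe_smul, _root_.map_add, _root_.map_smul, gl_mul_mulVec, Matrix.mulVec_add,
      Matrix.mulVec_smul]
    constructor
    · rw [k1, l1, n1, m1, k4, l4]
    · rw [k2, l2, n2, m2, k3, l3]

/-- An element of the stabiliser carrying one member to another, fixing a third. -/
theorem exists_swap {i j b : Fin t} (hij : i ≠ j) (hbi : b ≠ i) (hbj : b ≠ j) :
    ∃ g ∈ K, (∀ x ∈ D b, g ⬝ₘ x = x) ∧ ∀ x ∈ D i, g ⬝ₘ x ∈ D j := by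
  obtain ⟨e, he⟩ := S.decomp.isometric i j
  obtain ⟨g, hg, hfix, hmap⟩ := exists_exchange S hij e he (finrank F (D i)) ⊤ (by rw [finrank_top]) fun x _ hx => by
    obtain ⟨z, hz, hne⟩ := nondeg S x.2 (fun h => hx (Subtype.ext h))
    exact ⟨⟨z, hz⟩, Submodule.mem_top, hne⟩
  have fix : ∀ a, a ≠ i → a ≠ j → ∀ x ∈ D a, g ⬝ₘ x = x := fun a hai haj x hx =>
    hfix x fun u _ => ⟨orth S hai.symm u.2 hx, orth S haj.symm (e u).2 hx⟩
  refine ⟨g, S.le ⟨stab_of S (Equiv.swap i j) fun a x hx => ?_, hg⟩, fix b hbi hbj,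
    fun x hx => by rw [(hmap ⟨x, hx⟩ Submodule.mem_top).1]; exact (e _).2⟩
  by_cases hai : a = i
  · subst hai
    rw [Equiv.swap_apply_left, (hmap ⟨x, hx⟩ Submodule.mem_top).1]; exact (e _).2
  by_cases haj : a = j
  · subst haj
    rw [Equiv.swap_apply_right]
    have h := (hmap (e.symm ⟨x, hx⟩) Submodule.mem_top).2
    rw [e.apply_symm_apply] at h
    rw [show g ⬝ₘ x = _ from h]
    exact (e.symm _).2
  rw [Equiv.swap_apply_of_ne_of_ne hai haj, fix a hai haj x hx]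
  exact hx

/-- A parameter outside the member spreads. -/
theorem spread {b : Fin t} {v y : Vn} (hv : v ∈ D b) (hv0 : v ≠ 0) (hvv : Q v = 0) (hy : Par Q K v y)
    (hyb : y ∉ D b) {x : Vn} (hx : ⟪v, x⟫ = 0) : Par Q K v x := by
  have full : ∀ i, i ≠ b → (∃ y p, Par Q K v y ∧ Comp Q D i y p ∧ p ≠ 0) → ∀ x ∈ D i, Par Q K v x := by
    rintro i hib ⟨y, p, hy, hp, hp0⟩ x hx
    have hvc : Comp Q D i v 0 := comp_other S hib hv
    have step : ∀ {z p}, Par Q K v z → Comp Q D i z p → ∀ s ∈ D i, Q s = 0 → ⟪p, s⟫ ≠ 0 → Par Q K v s :=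
      fun hz hp s hs hss hne => local_of_zero S hvv hvc hz hp hs hss hne
    obtain ⟨u, hu, huu, hpu⟩ := exists_see S hp.1 hp0
    have hu0 : u ≠ 0 := fun e => hpu (by rw [e, polar_zero_right])
    have huP := step hy hp u hu huu hpu
    obtain ⟨z, hz, hzz, huz⟩ := partner S hu hu0 huu
    have hzP := step huP (comp_self S hu) z hz hzz (by rw [huz]; exact one_ne_zero)
    obtain ⟨s, hs, hss, hsu, α, β, rfl⟩ := split_singular S hu hz huu hzz huz hx
    have hsP := step huP (comp_self S hu) s hs hss (by rw [polar_comm, hsu]; exact one_ne_zero)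
    exact par_add S hvv (par_add S hvv hsP (par_smul S α huP)) (par_smul S β hzP)
  obtain ⟨i, hib, p, hp, hp0⟩ : ∃ i, i ≠ b ∧ ∃ p, Comp Q D i y p ∧ p ≠ 0 := by
    by_contra hcon
    push Not at hcon
    refine hyb (mem_of_comp S fun l hl => ?_)
    obtain ⟨p, hp⟩ := exists_comp S l y
    exact hcon l hl p hp ▸ hp
  have hi := full i hib ⟨y, p, hy, hp, hp0⟩
  have hall : ∀ j, j ≠ b → ∀ x ∈ D j, Par Q K v x := by
    intro j hjb
    by_cases hji : j = i
    · exact hji ▸ hi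
    obtain ⟨g, hg, hgb, hgi⟩ := exists_swap S (Ne.symm hji) hib.symm (Ne.symm hjb)
    obtain ⟨u, hu, hu0, -⟩ := exists_singular S i
    have h1 := par_map S (hi u hu) hg
    rw [hgb v hv] at h1
    exact full j hjb ⟨_, _, h1, comp_self S (hgi u hu),
      fun e => hu0 (gl_mulVec_injective g (e.trans (Matrix.mulVec_zero _).symm))⟩
  obtain ⟨c, hc, rfl⟩ := components S x
  refine Finset.sum_induction c (Par Q K v) (fun a a' => par_add S hvv) (par_zero S) fun a _ => ?_
  by_cases hab : a = b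
  · subst hab
    refine par_local S hv (hc a) hvv ?_
    rw [polar_comm, ← (comp_sum S hc a).2 v hv, polar_comm]
    exact hx
  · exact hall a hab _ (hc a)

theorem has_of_par {v : Vn} (hvv : Q v = 0) (h : ∀ x, ⟪v, x⟫ = 0 → Par Q K v x) :
    Radical.Has (fun v => Q v = 0) (Radical.UQ Q) K v := by
  refine ⟨hvv, fun g hg => ?_⟩
  obtain ⟨x, hvx, hgx⟩ := hg
  obtain ⟨e, he, hex⟩ := (h x hvx).2 1
  rw [show g = e from gl_ext_mulVec fun z => by
    rw [hgx, hex, one_smul, eichler, polar_comm (⇑Q) z v, polar_comm (⇑Q) z x]]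
  exact he

omit S in
/-- The stabiliser is maximal. -/
theorem isMaximal (hnd : IsNondegenerateQuadraticForm (⇑Q)) (hQ : PND Q) (h2 : (2 : F) = 0)
    (hn : 7 ≤ Fintype.card ι) (hD : IsOrthogonalMDecomposition (⇑Q) k D) (hk : 4 ≤ k)
    (hsmall : Fintype.card F = 2 → k = 4 → ∀ i, ¬ IsPlusTypeOn (⇑Q) (D i)) :
    IsMaximalIn (omegaGL ⇑Q) (decompositionStabilizer D ⊓ omegaGL ⇑Q) := by
  refine ⟨lt_of_le_of_ne inf_le_right fun e => OEven.omega_not_decomposition hQ (by omega) hD.decomp.decomp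
    (by omega) (inf_eq_right.mp e), fun K hK hKG => or_iff_not_imp_left.mpr fun hne => le_antisymm hKG ?_⟩
  have S : Setup Q k D K := ⟨hnd, hQ, h2, hn, hD, hk, hsmall, hK, hKG⟩
  obtain ⟨g, hg, hgn⟩ : ∃ g ∈ K, g ∉ decompositionStabilizer D := by
    by_contra hcon
    push Not at hcon
    exact hne (le_antisymm (le_inf hcon hKG) hK)
  obtain ⟨w, hw, hmix, hprov⟩ := exists_mixed S hg hgn
  obtain ⟨b, v, y, hv, hv0, hvv, hy, hyb⟩ := seed_of_mixed S hw hmix hprov
  have hall : ∀ x, ⟪v, x⟫ = 0 → Par Q K v x := fun x hx => spread S hv hv0 hvv hy hyb hx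
  obtain ⟨z', hz', hz'z', hvz'⟩ := partner S hv hv0 hvv
  obtain ⟨i, hib⟩ : ∃ i : Fin t, i ≠ b := by
    have := hD.decomp.decomp.two_le
    by_cases h : b.1 = 0
    · exact ⟨⟨1, by omega⟩, fun e => by rw [← e] at h; simp at h⟩
    · exact ⟨⟨0, by omega⟩, fun e => h (by rw [← e])⟩
  obtain ⟨u, hu, hu0, huu⟩ := exists_singular S i
  have hvu := par_swap S hvv huu (hall u (orth S hib.symm hv hu))
  have hvi : v ∉ D i := fun h => hv0 (eq_of_comp S (comp_self S h) (comp_other S hib hv))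
  have hzu := par_swap S huu hz'z' (spread S hu hu0 huu hvu hvi (orth S hib hu hz'))
  have hzb : u ∉ D b := fun h => hu0 (eq_of_comp S (comp_self S h) (comp_other S hib.symm hu))
  have hz'0 : z' ≠ 0 := fun e => by rw [e, polar_zero_right] at hvz'; exact zero_ne_one hvz'
  refine Radical.le_of_pair (Radical.quad_data hQ hn) hKG (has_of_par S hvv hall)
    (has_of_par S hz'z' fun x hx => spread S hz' hz'0 hz'z' hzu hzb hx) ?_
  rw [hvz']
  exact one_ne_zero

end Cfsg.Agent.Classical.ODecompEven
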