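/-
Stabilisers of orthogonal decompositions into members of dimension at least three are maximal in `Ω`.
-/
import Cfsg.Agent.Lib.Classical.ODecompCases

set_option autoImplicit false
set_option linter.unusedSectionVars false
set_option linter.style.haveILetI false

namespace Cfsg.Agent.Classical.ODecomp

open Matrix Module QuadraticMap Cfsg.Geo
open Cfsg.Agent.Classical
open Cfsg.Agent.Classical.OCount (PND)

variable {ι : Type} [Fintype ι] [DecidableEq ι] {F : Type*} [Field F] [Fintype F]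
  {Q : QuadraticForm F (ι → F)} {t k : ℕ} {D : Fin t → Submodule F (ι → F)} {K : Subgroup (GL ι F)}

local notation "Gl" => GL ι F
local notation "Vn" => ι → F
local notation "⟪" x ", " y "⟫" => QuadraticMap.polar (DFunLike.coe Q) x y
local notation:max g:max " ⬝ₘ " x:max => ((g : Gl) : Matrix ι ι F) *ᵥ x

variable (S : Setup Q k D K)

include S

/-- Every vector of a member splits off a singular vector seeing a given one. -/
theorem split_singular {i : Fin t} {v z : Vn} (hv : v ∈ D i) (hz : z ∈ D i) (hvv : Q v = 0) (hzz : Q z = 0)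
    (hvz : ⟪v, z⟫ = 1) {x : Vn} (hx : x ∈ D i) :
    ∃ s ∈ D i, Q s = 0 ∧ ⟪s, v⟫ = 1 ∧ ∃ a b : F, x = s + a • v + b • z := by
  obtain ⟨x', hx'⟩ : ∃ x', x' = x - ⟪x, z⟫ • v - ⟪x, v⟫ • z := ⟨_, rfl⟩
  have h : ⟪x', v⟫ = 0 ∧ ⟪x', z⟫ = 0 := by
    simp only [hx', polar_sub_left, polar_smul_left, self_zero S hvv, self_zero S hzz, hvz, polar_comm (⇑Q) z v,
      smul_eq_mul, mul_zero, mul_one, sub_zero, sub_self, and_self]
  refine ⟨x' - Q x' • v + z, add_mem (sub_mem (hx' ▸ sub_mem (sub_mem hx ((D i).smul_mem _ hv))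
    ((D i).smul_mem _ hz)) ((D i).smul_mem _ hv)) hz, ?_, ?_, Q x' + ⟪x, z⟫, ⟪x, v⟫ - 1, ?_⟩
  · rw [sub_eq_add_neg, ← neg_smul, QuadraticMap.map_add ⇑Q, QuadraticMap.map_add ⇑Q, QuadraticMap.map_smul, hvv, hzz,
      polar_add_left, polar_smul_left, polar_smul_right, h.1, h.2, hvz]
    simp
  · rw [polar_add_left, polar_sub_left, polar_smul_left, h.1, self_zero S hvv, polar_comm (⇑Q) z v, hvz]
    simp
  · rw [hx']; module

/-- An element outside the stabiliser gives a mixed centre. -/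
theorem exists_mixed {g : Gl} (hg : g ∈ K) (hgn : g ∉ decompositionStabilizer D) :
    ∃ w z, Q w = 0 ∧ (∀ b, w ∉ D b) ∧ Par Q K w z ∧ z ∉ Submodule.span F {w} := by
  by_contra hcon
  push Not at hcon
  apply hgn
  have hin : ∀ a u, u ∈ D a → Q u = 0 → ∃ b, g ⬝ₘ u ∈ D b := by
    intro a u hu huu
    by_contra hmix
    push Not at hmix
    have hu0 : u ≠ 0 := fun e => hmix a (by rw [e, Matrix.mulVec_zero]; exact zero_mem _)
    obtain ⟨y, hy, huy, hyy⟩ := exists_aniso_singular S hu hu0 huu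
    have hgu : Q (g ⬝ₘ u) = 0 := (mem_isometry S hg u).trans huu
    obtain ⟨l, hl⟩ := Submodule.mem_span_singleton.mp
      (hcon _ (g ⬝ₘ y) hgu hmix (par_map S (par_local S hu hy huu huy) hg))
    exact hyy (by rw [← mem_isometry S hg y, ← hl, QuadraticMap.map_smul, hgu, smul_zero])
  have hone : ∀ a, ∃ b, ∀ x ∈ D a, g ⬝ₘ x ∈ D b := by
    intro a
    obtain ⟨v, hv, hv0, hvv⟩ := exists_singular S a
    obtain ⟨z, hz, hzz, hvz⟩ := partner S hv hv0 hvv
    obtain ⟨b, hb⟩ := hin a v hv hvv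
    have key : ∀ s ∈ D a, Q s = 0 → ⟪s, v⟫ = 1 → g ⬝ₘ s ∈ D b := fun s hs hss h1 => by
      obtain ⟨c, hc⟩ := hin a s hs hss
      by_cases hcb : c = b
      · exact hcb ▸ hc
      · have := orth S hcb hc hb
        rw [iso_polar S hg, h1] at this
        exact absurd this one_ne_zero
    refine ⟨b, fun x hx => ?_⟩
    obtain ⟨s, hs, hss, hsv, α, β, rfl⟩ := split_singular S hv hz hvv hzz hvz hx
    rw [Matrix.mulVec_add, Matrix.mulVec_add, Matrix.mulVec_smul, Matrix.mulVec_smul]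
    exact add_mem (add_mem (key s hs hss hsv) ((D b).smul_mem _ hb))
      ((D b).smul_mem _ (key z hz hzz (by rw [polar_comm]; exact hvz)))
  choose π hπ using hone
  have hinj : Function.Injective π := fun a a' h => by
    by_contra hne
    obtain ⟨v, hv, hv0, hvv⟩ := exists_singular S a
    obtain ⟨u, hu, hu0, -⟩ := exists_singular S a'
    obtain ⟨z, hz, hzz, hvz⟩ := partner S hv hv0 hvv
    have hmap : ∀ a, (D a).map (Matrix.toLin' (g : Matrix ι ι F)) = D (π a) := fun a =>
      Submodule.eq_of_le_of_finrank_eq (by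
        rintro _ ⟨x, hx, rfl⟩
        rw [Matrix.toLin'_apply]; exact hπ a x hx) (by
        rw [← (Submodule.equivMapOfInjective _ (fun x y e => gl_mulVec_injective g (by
          simpa [Matrix.toLin'_apply] using e)) (D a)).finrank_eq, finrank_member S, finrank_member S])
    have h1 : g ⬝ₘ u ∈ (D a).map (Matrix.toLin' (g : Matrix ι ι F)) := by
      rw [hmap, h, ← hmap]; exact ⟨u, hu, Matrix.toLin'_apply _ _⟩
    obtain ⟨x, hx, hxu⟩ := h1
    rw [Matrix.toLin'_apply] at hxu
    obtain ⟨y, hy, hne'⟩ := nondeg S hu hu0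
    exact hne' (orth S hne ((gl_mulVec_injective g hxu) ▸ hx) hy)
  exact stab_of S (Equiv.ofBijective π (Finite.injective_iff_bijective.mp hinj)) hπ

/-- An element of the stabiliser carrying one member to another, fixing a third. -/
theorem exists_swap {i j b : Fin t} (hij : i ≠ j) (hbi : b ≠ i) (hbj : b ≠ j) :
    ∃ g ∈ K, (∀ x ∈ D b, g ⬝ₘ x = x) ∧ ∀ x ∈ D i, g ⬝ₘ x ∈ D j := by
  classical
  choose P hP using fun a x => exists_comp S a x
  have Padd : ∀ a x y, P a (x + y) = P a x + P a y := fun a x y =>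
    eq_of_comp S (hP a (x + y)) (comp_add S (hP a x) (hP a y))
  have Psmul : ∀ a (r : F) x, P a (r • x) = r • P a x := fun a r x =>
    eq_of_comp S (hP a (r • x)) (comp_smul S r (hP a x))
  obtain ⟨e, he⟩ := S.decomp.isometric i j
  let pi : Vn →ₗ[F] D i :=
    { toFun := fun x => ⟨P i x, (hP i x).1⟩
      map_add' := fun x y => Subtype.ext (Padd i x y)
      map_smul' := fun r x => Subtype.ext (Psmul i r x) }
  let pj : Vn →ₗ[F] D j :=
    { toFun := fun x => ⟨P j x, (hP j x).1⟩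
      map_add' := fun x y => Subtype.ext (Padd j x y)
      map_smul' := fun r x => Subtype.ext (Psmul j r x) }
  let L : Vn →ₗ[F] Vn := LinearMap.id - (D i).subtype.comp pi - (D j).subtype.comp pj +
    (D j).subtype.comp (e.toLinearMap.comp pi) + (D i).subtype.comp (e.symm.toLinearMap.comp pj)
  have hL : ∀ x, L x = x - P i x - P j x + (e (pi x) : Vn) + (e.symm (pj x) : Vn) := fun x => rfl
  have hpi : ∀ x, Comp Q D i (L x) (e.symm (pj x) : Vn) := fun x => by
    have h := comp_add S (comp_add S (comp_sub S (comp_sub S (hP i x) (comp_self S (hP i x).1))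
      (comp_other S hij (hP j x).1)) (comp_other S hij (e (pi x)).2)) (comp_self S (e.symm (pj x)).2)
    rw [hL]
    convert h using 1
    simp
  have hpj : ∀ x, Comp Q D j (L x) (e (pi x) : Vn) := fun x => by
    have h := comp_add S (comp_add S (comp_sub S (comp_sub S (hP j x) (comp_other S hij.symm (hP i x).1))
      (comp_self S (hP j x).1)) (comp_self S (e (pi x)).2)) (comp_other S hij.symm (e.symm (pj x)).2)
    rw [hL]
    convert h using 1
    simp
  have hpiL : ∀ x, pi (L x) = e.symm (pj x) := fun x => Subtype.ext (eq_of_comp S (hP i (L x)) (hpi x))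
  have hpjL : ∀ x, pj (L x) = e (pi x) := fun x => Subtype.ext (eq_of_comp S (hP j (L x)) (hpj x))
  have hinv : Function.Involutive L := fun x => by
    have h1 : P i (L x) = (e.symm (pj x) : Vn) := congrArg Subtype.val (hpiL x)
    have h2 : P j (L x) = (e (pi x) : Vn) := congrArg Subtype.val (hpjL x)
    rw [hL (L x), hpiL, hpjL, LinearEquiv.apply_symm_apply, LinearEquiv.symm_apply_apply, h1, h2, hL x]
    show _ - _ - _ + P j x + P i x = x
    abel
  have hiso : ∀ x, Q (L x) = Q x := by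
    intro x
    obtain ⟨r, hr⟩ : ∃ r, r = x - P i x - P j x := ⟨_, rfl⟩
    have hri : Comp Q D i r 0 := by
      have := comp_sub S (comp_sub S (hP i x) (comp_self S (hP i x).1)) (comp_other S hij (hP j x).1)
      simpa [← hr] using this
    have hrj : Comp Q D j r 0 := by
      have := comp_sub S (comp_sub S (hP j x) (comp_other S hij.symm (hP i x).1)) (comp_self S (hP j x).1)
      simpa [← hr] using this
    have key : ∀ u ∈ D i, ∀ w ∈ D j, Q (r + u + w) = Q r + Q u + Q w := fun u hu w hw => by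
      rw [QuadraticMap.map_add ⇑Q, QuadraticMap.map_add ⇑Q, polar_add_left, hri.2 u hu, hrj.2 w hw,
        orth S hij hu hw]
      simp
    rw [hL, ← hr, show x = r + P i x + P j x by rw [hr]; abel, key _ (hP i _).1 _ (hP j _).1]
    have hpix : P i (r + P i x + P j x) = P i x := by rw [show r + P i x + P j x = x by rw [hr]; abel]
    have hpjx : P j (r + P i x + P j x) = P j x := by rw [show r + P i x + P j x = x by rw [hr]; abel]
    rw [show r + P i x + P j x = x by rw [hr]; abel, add_assoc r, add_comm (e (pi x) : Vn), ← add_assoc,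
      key _ (e.symm (pj x)).2 _ (e (pi x)).2, he]
    have h2 : Q ((e.symm (pj x) : D i) : Vn) = Q (P j x) := by
      rw [← he, LinearEquiv.apply_symm_apply]; rfl
    rw [h2]
    show Q r + Q (P j x) + Q (P i x) = _
    ring
  obtain ⟨τ, hτ⟩ : ∃ τ : ↥(ORefl.Iso Q), ∀ x, τ.1 x = L x :=
    ⟨⟨LinearEquiv.ofInvolutive L hinv, hiso⟩, fun _ => rfl⟩
  have hn2 : 2 ≤ finrank F Vn := by rw [Module.finrank_fintype_fun_eq_card]; have := S.big; omega
  haveI : Finite F := Finite.of_fintype F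
  obtain ⟨ν, hν⟩ := FiniteField.exists_nonsquare (F := F) fun h => S.two (by
    haveI := ringChar.of_eq h
    exact CharTwo.two_eq_zero)
  obtain ⟨c, hc, hcc⟩ := exists_aniso S i
  obtain ⟨u, hu, -, huu⟩ := exists_value_perp S hc hcc 1
  obtain ⟨w, hw, -, hww⟩ := exists_value_perp S hc hcc ν
  have hw0 : Q w ≠ 0 := hww ▸ fun e => hν (e ▸ IsSquare.zero)
  have hu0 : Q u ≠ 0 := huu ▸ one_ne_zero
  have bu : OOmega.both Q S.two S.pnd (OOmega.rf Q u) = (-1, 1) :=
    Prod.ext (OOmega.dsign_rf S.two S.pnd hu0)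
      ((OOmega.spinor_rf S.two S.pnd hn2 hu0).mpr (by rw [huu]; exact IsSquare.one))
  have bw : OOmega.both Q S.two S.pnd (OOmega.rf Q w) = (-1, -1) := by
    refine Prod.ext (OOmega.dsign_rf S.two S.pnd hw0) ?_
    rcases Int.units_eq_one_or (OOmega.spinor Q (OOmega.rf Q w)) with e' | e'
    · exact absurd ((OOmega.spinor_rf S.two S.pnd hn2 hw0).mp e') (hww ▸ hν)
    · exact e'
  -- maps supported on the first member
  let Loc : ↥(ORefl.Iso Q) → Prop := fun h =>
    (∀ x ∈ D i, h.1 x ∈ D i) ∧ ∀ x, (∀ z ∈ D i, ⟪x, z⟫ = 0) → h.1 x = x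
  have locrf : ∀ v ∈ D i, Loc (OOmega.rf Q v) := fun v hv =>
    ⟨fun x hx => by
      show ORefl.refl Q v x ∈ D i
      rw [ORefl.refl_apply]; exact sub_mem hx ((D i).smul_mem _ hv), fun x hx => by
      show ORefl.refl Q v x = x
      rw [ORefl.refl_apply, swap0 S (hx v hv), mul_zero, zero_smul, sub_zero]⟩
  obtain ⟨h, hloc, hboth⟩ : ∃ h : ↥(ORefl.Iso Q), Loc h ∧ OOmega.both Q S.two S.pnd (τ * h) = 1 := by
    obtain ⟨⟨a, b'⟩, hab⟩ : ∃ p, p = OOmega.both Q S.two S.pnd τ := ⟨_, rfl⟩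
    rcases Int.units_eq_one_or a with rfl | rfl <;> rcases Int.units_eq_one_or b' with rfl | rfl
    · exact ⟨1, ⟨fun x hx => hx, fun x _ => rfl⟩, by rw [mul_one, ← hab]; rfl⟩
    · refine ⟨OOmega.rf Q u * OOmega.rf Q w, ⟨fun x hx => (locrf u hu).1 _ ((locrf w hw).1 x hx), fun x hx => ?_⟩, ?_⟩
      · show (OOmega.rf Q u).1 ((OOmega.rf Q w).1 x) = x
        rw [(locrf w hw).2 x hx, (locrf u hu).2 x hx]
      · rw [map_mul, map_mul, ← hab, bu, bw]; decide
    · exact ⟨OOmega.rf Q u, locrf u hu, by rw [map_mul, ← hab, bu]; decide⟩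
    · exact ⟨OOmega.rf Q w, locrf w hw, by rw [map_mul, ← hab, bw]; decide⟩
  have hmem : τ * h ∈ commutator ↥(ORefl.Iso Q) := by
    rw [OOmega.commutator_eq S.two S.pnd hn2]; exact hboth
  obtain ⟨g, hgΩ, hgx⟩ : ∃ g : Gl, g ∈ omegaGL ⇑Q ∧ ∀ x, g ⬝ₘ x = L (h.1 x) := by
    refine ⟨(ORefl.toMat Q (τ * h)).1, ?_, fun x => ?_⟩
    · refine Subgroup.mem_map.2 ⟨ORefl.toMat Q (τ * h), ?_, rfl⟩
      have hle : (commutator ↥(ORefl.Iso Q)).map (ORefl.toMat Q).toMonoidHom ≤
          commutator ↥(Cfsg.isometryGroup F ⇑Q) := by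
        rw [commutator_def, commutator_def, Subgroup.map_commutator]
        exact Subgroup.commutator_mono le_top le_top
      exact hle ⟨_, hmem, rfl⟩
    · rw [ORefl.toMat_apply, ← hτ]; rfl
  have hP0 : ∀ {a l : Fin t} {x : Vn}, x ∈ D a → l ≠ a → P l x = 0 := fun {a l x} hx hla =>
    eq_of_comp S (hP l x) (comp_other S hla hx)
  have hPs : ∀ {a : Fin t} {x : Vn}, x ∈ D a → P a x = x := fun {a x} hx => eq_of_comp S (hP a x) (comp_self S hx)
  have pi0 : ∀ {a : Fin t} {x : Vn}, x ∈ D a → a ≠ i → pi x = 0 := fun hx h => Subtype.ext (hP0 hx h.symm)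
  have pj0 : ∀ {a : Fin t} {x : Vn}, x ∈ D a → a ≠ j → pj x = 0 := fun hx h => Subtype.ext (hP0 hx h.symm)
  have hperm : ∀ a, ∀ x ∈ D a, L x ∈ D (Equiv.swap i j a) := fun a x hx => by
    by_cases hai : a = i
    · subst hai
      rw [Equiv.swap_apply_left, hL, pj0 hx hij, map_zero, Submodule.coe_zero, hPs hx, hP0 hx hij.symm, sub_self,
        sub_zero, zero_add, add_zero]
      exact (e _).2
    by_cases haj : a = j
    · subst haj
      rw [Equiv.swap_apply_right, hL, pi0 hx hij.symm, map_zero, Submodule.coe_zero, hPs hx, hP0 hx hij, sub_zero,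
        sub_self, zero_add, zero_add]
      exact (e.symm _).2
    rw [Equiv.swap_apply_of_ne_of_ne hai haj, hL, pi0 hx hai, pj0 hx haj, map_zero, map_zero, Submodule.coe_zero,
      Submodule.coe_zero, hP0 hx (Ne.symm hai), hP0 hx (Ne.symm haj), sub_zero, sub_zero, add_zero, add_zero]
    exact hx
  refine ⟨g, S.le ⟨stab_of S (Equiv.swap i j) fun a x hx => ?_, hgΩ⟩, fun x hx => ?_, fun x hx => ?_⟩
  · rw [hgx]
    refine hperm a _ ?_
    by_cases hai : a = i
    · subst hai; exact hloc.1 x hx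
    · rw [hloc.2 x fun z hz => orth S hai hx hz]; exact hx
  · rw [hgx, hloc.2 x fun z hz => orth S hbi hx hz, hL, pi0 hx hbi, pj0 hx hbj, map_zero, map_zero,
      Submodule.coe_zero, Submodule.coe_zero, hP0 hx hbi.symm, hP0 hx hbj.symm, sub_zero, sub_zero, add_zero,
      add_zero]
  · rw [hgx]
    have := hperm i _ (hloc.1 x hx)
    rwa [Equiv.swap_apply_left] at this

/-- A parameter outside the member spreads. -/
theorem spread {b : Fin t} {v y : Vn} (hv : v ∈ D b) (hv0 : v ≠ 0) (hvv : Q v = 0) (hy : Par Q K v y)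
    (hyb : y ∉ D b) {x : Vn} (hx : ⟪v, x⟫ = 0) : Par Q K v x := by
  have full : ∀ i, i ≠ b → (∃ y p, Par Q K v y ∧ Comp Q D i y p ∧ p ≠ 0) → ∀ x ∈ D i, Par Q K v x := by
    rintro i hib ⟨y, p, hy, hp, hp0⟩ x hx
    have hvc : Comp Q D i v 0 := comp_other S hib hv
    have step : ∀ {z p}, Par Q K v z → Comp Q D i z p → ∀ s ∈ D i, Q s = 0 → ⟪p, s⟫ ≠ 0 → Par Q K v s :=
      fun hz hp s hs hss hne => local_of_zero S hvv hvc hz hp hs hss hne
    obtain ⟨u, hu, huu, hpu⟩ := exists_see S hp.1 hp0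
    have hu0 : u ≠ 0 := fun e => hpu (by rw [e, polar_zero_right])
    have huP := step hy hp u hu huu hpu
    obtain ⟨z, hz, hzz, huz⟩ := partner S hu hu0 huu
    have hzP := step huP (comp_self S hu) z hz hzz (by rw [huz]; exact one_ne_zero)
    obtain ⟨s, hs, hss, hsu, α, β, rfl⟩ := split_singular S hu hz huu hzz huz hx
    have hsP := step huP (comp_self S hu) s hs hss (by rw [polar_comm, hsu]; exact one_ne_zero)
    exact par_add S hvv (par_add S hvv hsP (par_smul S α huP)) (par_smul S β hzP)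
  obtain ⟨i, hib, p, hp, hp0⟩ : ∃ i, i ≠ b ∧ ∃ p, Comp Q D i y p ∧ p ≠ 0 := by
    by_contra hcon
    push Not at hcon
    refine hyb (mem_of_comp S fun l hl => ?_)
    obtain ⟨p, hp⟩ := exists_comp S l y
    exact hcon l hl p hp ▸ hp
  have hi := full i hib ⟨y, p, hy, hp, hp0⟩
  have hall : ∀ j, j ≠ b → ∀ x ∈ D j, Par Q K v x := by
    intro j hjb
    by_cases hji : j = i
    · exact hji ▸ hi
    obtain ⟨g, hg, hgb, hgi⟩ := exists_swap S (Ne.symm hji) hib.symm (Ne.symm hjb)
    obtain ⟨u, hu, hu0, -⟩ := exists_singular S i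
    have h1 := par_map S (hi u hu) hg
    rw [hgb v hv] at h1
    exact full j hjb ⟨_, _, h1, comp_self S (hgi u hu),
      fun e => hu0 (gl_mulVec_injective g (e.trans (Matrix.mulVec_zero _).symm))⟩
  obtain ⟨c, hc, rfl⟩ := components S x
  refine Finset.sum_induction c (Par Q K v) (fun a a' => par_add S hvv) (par_zero S) fun a _ => ?_
  by_cases hab : a = b
  · subst hab
    refine par_local S hv (hc a) hvv ?_
    rw [polar_comm, ← (comp_sum S hc a).2 v hv, polar_comm]
    exact hx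
  · exact hall a hab _ (hc a)

theorem has_of_par {v : Vn} (hvv : Q v = 0) (h : ∀ x, ⟪v, x⟫ = 0 → Par Q K v x) :
    Radical.Has (fun v => Q v = 0) (Radical.UQ Q) K v := by
  refine ⟨hvv, fun g hg => ?_⟩
  obtain ⟨x, hvx, hgx⟩ := hg
  obtain ⟨e, he, hex⟩ := (h x hvx).2 1
  rw [show g = e from gl_ext_mulVec fun z => by
    rw [hgx, hex, one_smul, eichler, polar_comm (⇑Q) z v, polar_comm (⇑Q) z x]]
  exact he

omit S in
/-- The stabiliser is maximal. -/
theorem isMaximal (hnd : IsNondegenerateQuadraticForm (⇑Q)) (hQ : PND Q) (h2 : (2 : F) ≠ 0)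
    (hn : 7 ≤ Fintype.card ι) (hD : IsOrthogonalMDecomposition (⇑Q) k D) (hk : 3 ≤ k)
    (hex : ¬ (Fintype.card F = 3 ∧ k = 3)) :
    IsMaximalIn (omegaGL ⇑Q) (decompositionStabilizer D ⊓ omegaGL ⇑Q) := by
  refine ⟨lt_of_le_of_ne inf_le_right fun e => OEven.omega_not_decomposition hQ (by omega) hD.decomp.decomp
    (by omega) (inf_eq_right.mp e), fun K hK hKG => or_iff_not_imp_left.mpr fun hne => le_antisymm hKG ?_⟩
  have S : Setup Q k D K := ⟨hnd, hQ, h2, hn, hD, hk, hex, hK, hKG⟩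
  obtain ⟨g, hg, hgn⟩ : ∃ g ∈ K, g ∉ decompositionStabilizer D := by
    by_contra hcon
    push Not at hcon
    exact hne (le_antisymm (le_inf hcon hKG) hK)
  obtain ⟨w, z, hw, hmix, hz, hzw⟩ := exists_mixed S hg hgn
  obtain ⟨b, v, y, hv, hv0, hvv, hy, hyb⟩ := seed_of_mixed S hw hmix hz hzw
  have hall : ∀ x, ⟪v, x⟫ = 0 → Par Q K v x := fun x hx => spread S hv hv0 hvv hy hyb hx
  obtain ⟨z', hz', hz'z', hvz'⟩ := partner S hv hv0 hvv
  obtain ⟨i, hib⟩ : ∃ i : Fin t, i ≠ b := by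
    have := hD.decomp.decomp.two_le
    by_cases h : b.1 = 0
    · exact ⟨⟨1, by omega⟩, fun e => by rw [← e] at h; simp at h⟩
    · exact ⟨⟨0, by omega⟩, fun e => h (by rw [← e])⟩
  obtain ⟨u, hu, hu0, huu⟩ := exists_singular S i
  have hvu := par_swap S hvv huu (hall u (orth S hib.symm hv hu))
  have hvi : v ∉ D i := fun h => hv0 (eq_of_comp S (comp_self S h) (comp_other S hib hv))
  have hzu := par_swap S huu hz'z' (spread S hu hu0 huu hvu hvi (orth S hib hu hz'))
  have hzb : u ∉ D b := fun h => hu0 (eq_of_comp S (comp_self S h) (comp_other S hib.symm hu))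
  have hz'0 : z' ≠ 0 := fun e => by rw [e, polar_zero_right] at hvz'; exact zero_ne_one hvz'
  refine Radical.le_of_pair (Radical.quad_data hQ hn) hKG (has_of_par S hvv hall)
    (has_of_par S hz'z' fun x hx => spread S hz' hz'0 hz'z' hzu hzb hx) ?_
  rw [hvz']
  exact one_ne_zero

end Cfsg.Agent.Classical.ODecomp
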