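import Cfsg.Agent.Lib.Classical.RadicalQuadSplit

/-!
# Non-isometric halves
-/

set_option autoImplicit false
open Cfsg
open scoped Matrix

namespace Cfsg.Agent.Classical.OHalves

/-- In dimension at least ten the stabiliser of two non-isometric orthogonal non-degenerate halves is maximal. -/
theorem isMaximal {F : Type*} [Field F] [Fintype F] {n : ℕ} (hn : 10 ≤ n) {Qf : QuadraticForm F (Fin n → F)}
    (hPND : Cfsg.Agent.Classical.OCount.PND Qf) (k : ℕ) (hk : 2 * k = n) {D : Fin 2 → Submodule F (Fin n → F)}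
    (hD : Cfsg.Geo.IsNondegenerateMDecomposition (QuadraticMap.polar ⇑Qf) k D)
    (hni : ¬ Cfsg.Geo.AreIsometricFor ⇑Qf (D 0) (D 1)) :
    Cfsg.Geo.IsMaximalIn (Cfsg.Geo.omegaGL ⇑Qf) (Cfsg.Geo.decompositionStabilizer D ⊓ Cfsg.Geo.omegaGL ⇑Qf) := by
  classical
  have hf := Cfsg.Agent.Classical.Radical.reflex_polar hPND
  have hd := hD.decomp.finrank_eq
  -- the second half is the perpendicular space of the first
  have hperp : D 1 = hf.perp (D 0) := by
    refine Submodule.eq_of_le_of_finrank_le (fun b hb a ha => ?_) ?_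
    · exact hD.orthogonal 1 0 (by decide) b hb a ha
    · have h1 := hf.finrank_perp (D 0)
      rw [hd, Fintype.card_fin] at h1
      rw [hd]; omega
  have hswap : ∀ g ∈ Cfsg.Geo.omegaGL ⇑Qf, ∃ s ∈ hf.perp (D 0), (g : Matrix (Fin n) (Fin n) F) *ᵥ s ∉ D 0 := by
    intro g hg
    by_contra hcon
    push Not at hcon
    rw [← hperp] at hcon
    let φ : D 1 →ₗ[F] D 0 :=
      ((Matrix.toLin' (g : Matrix (Fin n) (Fin n) F)).domRestrict (D 1)).codRestrict (D 0) fun s => by
        simpa using hcon s.1 s.2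
    have hφ : Function.Injective φ := fun a b hab => by
      have h1 := congrArg Subtype.val hab
      simp only [φ, LinearMap.codRestrict_apply, LinearMap.domRestrict_apply, Matrix.toLin'_apply] at h1
      exact Subtype.ext (Cfsg.Agent.Classical.gl_mulVec_injective g h1)
    have hs := (LinearMap.injective_iff_surjective_of_finrank_eq_finrank (by rw [hd, hd])).mp hφ
    refine hni ⟨(LinearEquiv.ofBijective φ ⟨hφ, hs⟩).symm, fun w => ?_⟩
    obtain ⟨u, rfl⟩ := hs w
    rw [show (LinearEquiv.ofBijective φ ⟨hφ, hs⟩).symm (φ u) = u from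
      (LinearEquiv.ofBijective φ ⟨hφ, hs⟩).symm_apply_apply u]
    exact (Cfsg.Agent.Classical.ONotMax.omega_isometry hg u.1).symm
  have hset : Cfsg.Geo.decompositionStabilizer D ⊓ Cfsg.Geo.omegaGL ⇑Qf =
      Cfsg.Geo.subspaceStabilizer (D 0) ⊓ Cfsg.Geo.omegaGL ⇑Qf := by
    refine le_antisymm ?_ ?_
    · rintro g ⟨⟨σ, hσ⟩, hg⟩
      refine ⟨?_, hg⟩
      rcases (by omega : (σ 0 : ℕ) = 0 ∨ (σ 0 : ℕ) = 1) with h | h
      · refine Cfsg.Agent.Classical.mem_subspaceStabilizer_iff.mpr fun u hu => ?_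
        rw [← show σ 0 = 0 from Fin.ext h, ← hσ 0, ← Matrix.toLin'_apply]
        exact Submodule.mem_map_of_mem hu
      · exfalso
        obtain ⟨s, hs, hne⟩ := hswap g⁻¹ (inv_mem hg)
        rw [← hperp, ← show σ 0 = 1 from Fin.ext h, ← hσ 0] at hs
        obtain ⟨u, hu, rfl⟩ := Submodule.mem_map.mp hs
        rw [Matrix.toLin'_apply, Cfsg.Agent.Classical.gl_inv_mulVec_cancel] at hne
        exact hne hu
    · rintro g ⟨hgS, hg⟩
      have h0 := Cfsg.Agent.Classical.mem_subspaceStabilizer_iff.mp hgS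
      have h1 := Cfsg.Agent.Classical.mem_subspaceStabilizer_iff.mp
        (show g ∈ Cfsg.Geo.subspaceStabilizer (hf.perp (D 0)) ⊓ Cfsg.Geo.omegaGL ⇑Qf from
          (Cfsg.Agent.Classical.Radical.stab_perp_eq hPND (D 0)).symm ▸ ⟨hgS, hg⟩).1
      refine ⟨⟨1, fun i => ?_⟩, hg⟩
      have key : ∀ W : Submodule F (Fin n → F), (∀ x ∈ W, (g : Matrix (Fin n) (Fin n) F) *ᵥ x ∈ W) →
          W.map (Matrix.toLin' (g : Matrix (Fin n) (Fin n) F)) = W := by
        intro W hW
        refine Submodule.eq_of_le_of_finrank_eq ?_ ?_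
        · rintro _ ⟨x, hx, rfl⟩
          simpa using hW x hx
        · exact (Submodule.equivMapOfInjective _ (fun a b hab => Cfsg.Agent.Classical.gl_mulVec_injective g
            (by simpa using hab)) W).finrank_eq.symm
      rcases (by omega : (i : ℕ) = 0 ∨ (i : ℕ) = 1) with h | h
      · rw [show i = 0 from Fin.ext h, Equiv.Perm.one_apply]; exact key _ h0
      · rw [show i = 1 from Fin.ext h, Equiv.Perm.one_apply, hperp]; exact key _ h1
  rw [hset]
  refine Cfsg.Agent.Classical.Radical.isMaximal_quadSplit_five hPND (by rw [Fintype.card_fin]; omega) ?_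
    (hD.nondegenerate 0) (by rw [Fintype.card_fin, hd]; omega) (by rw [Fintype.card_fin, hd]; omega) (fun _ => hswap)
    (fun h => ?_)
  · intro e
    have := hd 0
    rw [e, finrank_bot] at this
    omega
  · rw [hd] at h; omega

end Cfsg.Agent.Classical.OHalves
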