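/-
Existence of vectors for a quadratic form in odd characteristic, and its Eichler transformations.
-/
import Cfsg.Agent.Lib.Classical.OrthogonalGroup
import Cfsg.Agent.Lib.Classical.LinMaximal

set_option autoImplicit false
set_option linter.unusedSectionVars false
set_option linter.style.haveILetI false

namespace Cfsg.Agent.Classical.OSim

open Matrix Cfsg.Geo
open Cfsg.Agent.Classical

universe u

variable {ι : Type} [Fintype ι] [DecidableEq ι] {F : Type u} [Field F] {Q : (ι → F) → F}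

/-- The polar form. -/
local notation "⟪" x ", " y "⟫" => QuadraticMap.polar Q x y

/-- A non-degenerate quadratic form in odd characteristic, of large dimension. -/
structure Data (Q : (ι → F) → F) : Prop where
  hQ : IsNondegenerateQuadraticForm Q
  h2 : (2 : F) ≠ 0
  hn : 6 ≤ Fintype.card ι

variable (Δ : Data Q)

include Δ

theorem symm (x y : ι → F) : ⟪x, y⟫ = ⟪y, x⟫ := QuadraticMap.polar_comm _ _ _

theorem add_left (x y z : ι → F) : ⟪x + y, z⟫ = ⟪x, z⟫ + ⟪y, z⟫ := Δ.hQ.polar_bilinear.add_left x y z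

theorem smul_left (c : F) (x z : ι → F) : ⟪c • x, z⟫ = c * ⟪x, z⟫ := Δ.hQ.polar_bilinear.smul_left c x z

theorem add_right (x y z : ι → F) : ⟪x, y + z⟫ = ⟪x, y⟫ + ⟪x, z⟫ := Δ.hQ.polar_bilinear.add_right x y z

theorem smul_right (c : F) (x z : ι → F) : ⟪x, c • z⟫ = c * ⟪x, z⟫ := Δ.hQ.polar_bilinear.smul_right c x z

theorem zero_left (z : ι → F) : ⟪0, z⟫ = 0 := by rw [← zero_smul F (0 : ι → F), smul_left Δ, zero_mul]

theorem zero_right (z : ι → F) : ⟪z, 0⟫ = 0 := by rw [← zero_smul F (0 : ι → F), smul_right Δ, zero_mul]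

theorem neg_left (x z : ι → F) : ⟪-x, z⟫ = -⟪x, z⟫ := by rw [← neg_one_smul F x, smul_left Δ, neg_one_mul]

theorem neg_right (x z : ι → F) : ⟪x, -z⟫ = -⟪x, z⟫ := by rw [← neg_one_smul F z, smul_right Δ, neg_one_mul]

theorem sub_left (x y z : ι → F) : ⟪x - y, z⟫ = ⟪x, z⟫ - ⟪y, z⟫ := by
  rw [sub_eq_add_neg, add_left Δ, neg_left Δ, sub_eq_add_neg]

theorem sub_right (x y z : ι → F) : ⟪x, y - z⟫ = ⟪x, y⟫ - ⟪x, z⟫ := by
  rw [sub_eq_add_neg, add_right Δ, neg_right Δ, sub_eq_add_neg]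

theorem quad_sum (x y : ι → F) : Q (x + y) = Q x + Q y + ⟪x, y⟫ := quad_add x y

theorem quad_smul (c : F) (x : ι → F) : Q (c • x) = c ^ 2 * Q x := Δ.hQ.smul c x

theorem self_eq (x : ι → F) : ⟪x, x⟫ = 2 * Q x := polar_self_eq Δ.hQ x

theorem self_zero {x : ι → F} (h : Q x = 0) : ⟪x, x⟫ = 0 := by rw [self_eq Δ, h, mul_zero]

theorem quad_zero' : Q 0 = 0 := quad_zero Δ.hQ

theorem finrank_space : Module.finrank F (ι → F) = Fintype.card ι := Module.finrank_fintype_fun_eq_card F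

/-- The form as a linear equivalence with the dual. -/
theorem exists_toDual : ∃ L : (ι → F) →ₗ[F] Module.Dual F (ι → F),
    (∀ x y, L x y = ⟪x, y⟫) ∧ Function.Bijective L := by
  refine ⟨LinearMap.mk₂ F (QuadraticMap.polar Q) (add_left Δ) (smul_left Δ) (add_right Δ) (smul_right Δ),
    fun x y => rfl, ?_⟩
  have hinj : Function.Injective
      (LinearMap.mk₂ F (QuadraticMap.polar Q) (add_left Δ) (smul_left Δ) (add_right Δ) (smul_right Δ)) := by
    rw [← LinearMap.ker_eq_bot, LinearMap.ker_eq_bot']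
    intro v hv
    by_contra hv0
    obtain ⟨x, hx⟩ := (Δ.hQ.nondegenerate v hv0).1
    apply hx
    have h := LinearMap.congr_fun hv x
    rw [symm Δ]
    exact h
  exact ⟨hinj, (LinearMap.injective_iff_surjective_of_finrank_eq_finrank
    (Subspace.dual_finrank_eq).symm).mp hinj⟩

theorem eq_zero_of_perp {v : ι → F} (h : ∀ x, ⟪x, v⟫ = 0) : v = 0 := by
  by_contra hv
  obtain ⟨x, hx⟩ := (Δ.hQ.nondegenerate v hv).1
  exact hx (h x)

theorem eq_of_pairing {v w : ι → F} (h : ∀ x, ⟪x, v⟫ = ⟪x, w⟫) : v = w := by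
  refine sub_eq_zero.mp (eq_zero_of_perp Δ fun x => ?_)
  rw [sub_right Δ, h, sub_self]

/-- Every functional is given by a vector. -/
theorem exists_rep (φ : (ι → F) →ₗ[F] F) : ∃ a, ∀ x, ⟪x, a⟫ = φ x := by
  obtain ⟨L, hL, hb⟩ := exists_toDual Δ
  obtain ⟨a, ha⟩ := hb.2 φ
  exact ⟨a, fun x => by rw [symm Δ, ← hL, ha]⟩

/-- A vector outside a span is separated from it. -/
theorem exists_sep {k : ℕ} {s : Fin k → ι → F} {a : ι → F} (ha : a ∉ Submodule.span F (Set.range s)) :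
    ∃ x, (∀ i, ⟪x, s i⟫ = 0) ∧ ⟪x, a⟫ = 1 := by
  obtain ⟨L, hL, hb⟩ := exists_toDual Δ
  obtain ⟨φ, hφ, hH⟩ := Submodule.exists_dual_map_eq_bot_of_notMem ha inferInstance
  obtain ⟨x, hx⟩ := hb.2 ((φ a)⁻¹ • φ)
  refine ⟨x, fun i => ?_, ?_⟩
  · have h : φ (s i) ∈ (Submodule.span F (Set.range s)).map φ :=
      Submodule.mem_map_of_mem (Submodule.subset_span ⟨i, rfl⟩)
    rw [hH, Submodule.mem_bot] at h
    rw [← hL, hx, LinearMap.smul_apply, h, smul_zero]
  · rw [← hL, hx, LinearMap.smul_apply, smul_eq_mul, inv_mul_cancel₀ hφ]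

/-- The subspace orthogonal to a few vectors is large. -/
theorem exists_perpSpace {k : ℕ} (s : Fin k → ι → F) :
    ∃ U : Submodule F (ι → F), (∀ x ∈ U, ∀ i, ⟪x, s i⟫ = 0) ∧ Fintype.card ι ≤ Module.finrank F U + k := by
  let M : (ι → F) →ₗ[F] (Fin k → F) :=
    { toFun := fun x i => ⟪x, s i⟫
      map_add' := fun x y => funext fun i => add_left Δ x y (s i)
      map_smul' := fun c x => funext fun i => smul_left Δ c x (s i) }
  refine ⟨LinearMap.ker M, fun x hx i => ?_, ?_⟩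
  · exact congrFun (LinearMap.mem_ker.mp hx) i
  · have h := LinearMap.finrank_range_add_finrank_ker M
    have h' := Submodule.finrank_le (LinearMap.range M)
    rw [Module.finrank_fin_fun] at h'
    rw [finrank_space Δ] at h
    omega

/-- A vector orthogonal to a few vectors, outside the span of a few others. -/
theorem exists_perp {k l : ℕ} (s : Fin k → ι → F) (t : Fin l → ι → F) (h : k + l < Fintype.card ι) :
    ∃ a, (∀ i, ⟪a, s i⟫ = 0) ∧ a ∉ Submodule.span F (Set.range t) := by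
  obtain ⟨U, hU, hd⟩ := exists_perpSpace Δ s
  by_contra hc
  push Not at hc
  have hle : U ≤ Submodule.span F (Set.range t) := fun a ha => hc a (hU a ha)
  have h1 := Submodule.finrank_mono hle
  have h2 : Module.finrank F (Submodule.span F (Set.range t)) ≤ Fintype.card (Fin l) := finrank_range_le_card t
  rw [Fintype.card_fin] at h2
  omega

/-- An anisotropic vector orthogonal to a few vectors. -/
theorem exists_aniso {k : ℕ} (s : Fin k → ι → F) (h : 2 * k < Fintype.card ι) :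
    ∃ d, Q d ≠ 0 ∧ ∀ i, ⟪d, s i⟫ = 0 := by
  obtain ⟨U, hU, hd⟩ := exists_perpSpace Δ s
  obtain ⟨L, hL, hb⟩ := exists_toDual Δ
  by_contra hc
  have hQ0 : ∀ x ∈ U, Q x = 0 := fun x hx => by
    by_contra hne
    exact hc ⟨x, hne, hU x hx⟩
  have hle : U.map L ≤ U.dualAnnihilator := by
    rintro _ ⟨x, hx, rfl⟩
    rw [Submodule.mem_dualAnnihilator]
    intro y hy
    have := quad_sum Δ x y
    rw [hQ0 x hx, hQ0 y hy, hQ0 _ (add_mem hx hy), zero_add, zero_add] at this
    rw [hL, this.symm]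
  have h1 := Submodule.finrank_mono hle
  rw [← (Submodule.equivMapOfInjective L hb.1 U).finrank_eq] at h1
  have h2 := Subspace.finrank_add_finrank_dualAnnihilator_eq U
  rw [finrank_space Δ] at h2
  omega

/-- An anisotropic vector orthogonal to an anisotropic one and a few others. -/
theorem exists_aniso_cons {k : ℕ} {e : ι → F} (he : Q e ≠ 0) (s : Fin k → ι → F) (h : 2 * (k + 1) ≤ Fintype.card ι) :
    ∃ d, Q d ≠ 0 ∧ ⟪d, e⟫ = 0 ∧ ∀ i, ⟪d, s i⟫ = 0 := by
  obtain ⟨U, hU, hd⟩ := exists_perpSpace Δ (Fin.cons e s : Fin (k + 1) → ι → F)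
  obtain ⟨L, hL, hb⟩ := exists_toDual Δ
  by_contra hc
  have hQ0 : ∀ x ∈ U, Q x = 0 := fun x hx => by
    by_contra hne
    exact hc ⟨x, hne, by simpa using hU x hx 0, fun i => by simpa using hU x hx i.succ⟩
  have hle : U.map L ≤ U.dualAnnihilator := by
    rintro _ ⟨x, hx, rfl⟩
    rw [Submodule.mem_dualAnnihilator]
    intro y hy
    have := quad_sum Δ x y
    rw [hQ0 x hx, hQ0 y hy, hQ0 _ (add_mem hx hy), zero_add, zero_add] at this
    rw [hL, this.symm]
  have hLe : L e ∈ U.dualAnnihilator := by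
    rw [Submodule.mem_dualAnnihilator]
    intro y hy
    rw [hL, symm Δ]
    simpa using hU y hy 0
  have hne : L e ∉ U.map L := by
    rintro ⟨x, hx, hxe⟩
    exact he (hb.1 hxe ▸ hQ0 x hx)
  have h1 := Submodule.finrank_lt_finrank_of_lt (lt_of_le_of_ne hle fun e' => hne (e' ▸ hLe))
  rw [← (Submodule.equivMapOfInjective L hb.1 U).finrank_eq] at h1
  have h2 := Subspace.finrank_add_finrank_dualAnnihilator_eq U
  rw [finrank_space Δ] at h2
  omega

variable [Fintype F]

/-- An isotropic vector orthogonal to a few vectors with given value at another. -/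
theorem exists_iso_val {k : ℕ} {s : Fin k → ι → F} {a : ι → F} (ha : a ∉ Submodule.span F (Set.range s))
    (h : 2 * (k + 2) ≤ Fintype.card ι) : ∃ z, Q z = 0 ∧ (∀ i, ⟪z, s i⟫ = 0) ∧ ⟪z, a⟫ = 1 := by
  obtain ⟨z0, hz0, hza⟩ := exists_sep Δ ha
  obtain ⟨e1, he1, he1s⟩ := exists_aniso Δ (Fin.cons a s : Fin (k + 1) → ι → F)
    (by have := Δ.hn; omega)
  obtain ⟨e2, he2, he21, he2s⟩ := exists_aniso_cons Δ he1 (Fin.cons a s : Fin (k + 1) → ι → F)
    (by have := Δ.hn; omega)
  simp only [Fin.forall_fin_succ, Fin.cons_zero, Fin.cons_succ] at he1s he2s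
  obtain ⟨he1a, he1s⟩ := he1s
  obtain ⟨he2a, he2s⟩ := he2s
  obtain ⟨x, y, hxy⟩ := FiniteField.exists_root_sum_quadratic (R := F)
    (f := Polynomial.C (Q e1) * Polynomial.X ^ 2 + Polynomial.C ⟪z0, e1⟫ * Polynomial.X + Polynomial.C 0)
    (g := Polynomial.C (Q e2) * Polynomial.X ^ 2 + Polynomial.C ⟪z0, e2⟫ * Polynomial.X + Polynomial.C (Q z0))
    (Polynomial.degree_quadratic he1) (Polynomial.degree_quadratic he2)
    (FiniteField.odd_card_of_char_ne_two fun hc => Δ.h2 (by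
      haveI := ringChar.of_eq hc
      exact CharTwo.two_eq_zero))
  simp only [Polynomial.eval_mul, Polynomial.eval_C, Polynomial.eval_pow, Polynomial.eval_X,
    Polynomial.eval_add, add_zero] at hxy
  refine ⟨z0 + x • e1 + y • e2, ?_, fun i => ?_, ?_⟩
  · rw [quad_sum Δ, quad_sum Δ, quad_smul Δ, quad_smul Δ, add_left Δ, smul_left Δ, smul_right Δ, smul_right Δ,
      smul_right Δ, symm Δ e1 e2, he21]
    linear_combination hxy
  · rw [add_left Δ, add_left Δ, smul_left Δ, smul_left Δ, hz0, he1s, he2s]; ring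
  · rw [add_left Δ, add_left Δ, smul_left Δ, smul_left Δ, hza, he1a, he2a]; ring

/-- An isotropic vector orthogonal to a few vectors, outside the span of a few others. -/
theorem exists_iso {k l : ℕ} (s : Fin k → ι → F) (t : Fin l → ι → F) (hk : k ≤ 3) (hl : l ≤ 5) (h10 : 10 ≤ Fintype.card ι) :
    ∃ z, Q z = 0 ∧ (∀ i, ⟪z, s i⟫ = 0) ∧ z ∉ Submodule.span F (Set.range t) := by
  obtain ⟨a, hat, has⟩ := exists_perp Δ t s (by have := Δ.hn; omega)
  obtain ⟨z, hz, hzs, hza⟩ := exists_iso_val Δ has (by omega)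
  refine ⟨z, hz, hzs, fun hmem => ?_⟩
  have h0 : ∀ v ∈ Submodule.span F (Set.range t), ⟪a, v⟫ = 0 := fun v hv => by
    induction hv using Submodule.span_induction with
    | mem v hv => obtain ⟨i, rfl⟩ := hv; exact hat i
    | zero => exact zero_right Δ a
    | add v w _ _ hv hw => rw [add_right Δ, hv, hw, add_zero]
    | smul c v _ hv => rw [smul_right Δ, hv, mul_zero]
  rw [symm Δ, h0 z hmem] at hza
  exact zero_ne_one hza

/-- An isotropic vector orthogonal to some vectors, outside the span of others. -/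
theorem exists_iso_wide {k l : ℕ} (s : Fin k → ι → F) (t : Fin l → ι → F)
    (h : k + l + 3 ≤ Fintype.card ι) :
    ∃ z, Q z = 0 ∧ (∀ i, QuadraticMap.polar Q z (s i) = 0) ∧ z ∉ Submodule.span F (Set.range t) := by
  obtain ⟨U, hU, hd⟩ := exists_perpSpace Δ s
  obtain ⟨W, hW⟩ := Submodule.exists_isCompl (Submodule.span F (Set.range t))
  obtain ⟨C, hC⟩ : ∃ C, C = U ⊓ W := ⟨_, rfl⟩
  have hC3 : 3 ≤ Module.finrank F C := by
    have h1 := Submodule.finrank_sup_add_finrank_inf_eq U W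
    have h2 := (Submodule.finrank_le (U ⊔ W)).trans_eq (finrank_space Δ)
    have h3 := (Submodule.finrank_add_eq_of_isCompl hW).trans (finrank_space Δ)
    have h4 : Module.finrank F (Submodule.span F (Set.range t)) ≤ Fintype.card (Fin l) := finrank_range_le_card t
    rw [Fintype.card_fin] at h4
    rw [hC]
    omega
  have pick : ∀ {j : ℕ} (a : Fin j → ι → F), j < 3 → ∃ x ∈ C, x ≠ 0 ∧ ∀ i, QuadraticMap.polar Q x (a i) = 0 := by
    intro j a hj
    obtain ⟨V, hV, hdV⟩ := exists_perpSpace Δ a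
    have hne : C ⊓ V ≠ ⊥ := fun e => by
      have h1 := Submodule.finrank_sup_add_finrank_inf_eq C V
      have h2 := (Submodule.finrank_le (C ⊔ V)).trans_eq (finrank_space Δ)
      rw [e, finrank_bot] at h1
      omega
    obtain ⟨x, hx, hx0⟩ := Submodule.exists_mem_ne_zero_of_ne_bot hne
    exact ⟨x, (Submodule.mem_inf.mp hx).1, hx0, hV x (Submodule.mem_inf.mp hx).2⟩
  obtain ⟨z, hzC, hz0, hz⟩ : ∃ z ∈ C, z ≠ 0 ∧ Q z = 0 := by
    obtain ⟨u, hu, hu0, -⟩ := pick (j := 0) ![] (by norm_num)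
    by_cases hQu : Q u = 0
    · exact ⟨u, hu, hu0, hQu⟩
    obtain ⟨v, hv, hv0, hvp⟩ := pick ![u] (by norm_num)
    by_cases hQv : Q v = 0
    · exact ⟨v, hv, hv0, hQv⟩
    obtain ⟨w, hw, hw0, hwp⟩ := pick ![u, v] (by norm_num)
    by_cases hQw : Q w = 0
    · exact ⟨w, hw, hw0, hQw⟩
    have hvu : QuadraticMap.polar Q v u = 0 := hvp 0
    have hwu : QuadraticMap.polar Q w u = 0 := hwp 0
    have hwv : QuadraticMap.polar Q w v = 0 := hwp 1
    obtain ⟨x, y, hxy⟩ := FiniteField.exists_root_sum_quadratic (R := F)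
      (f := Polynomial.C (Q u) * Polynomial.X ^ 2)
      (g := Polynomial.C (Q v) * Polynomial.X ^ 2 + Polynomial.C (Q w))
      (Polynomial.degree_C_mul_X_pow 2 hQu)
      (by rw [Polynomial.degree_add_C (by rw [Polynomial.degree_C_mul_X_pow 2 hQv]; norm_num),
        Polynomial.degree_C_mul_X_pow 2 hQv]; rfl)
      (FiniteField.odd_card_of_char_ne_two fun hc => Δ.h2 (by
        haveI := ringChar.of_eq hc
        exact CharTwo.two_eq_zero))
    simp only [Polynomial.eval_mul, Polynomial.eval_C, Polynomial.eval_pow, Polynomial.eval_X,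
      Polynomial.eval_add] at hxy
    refine ⟨x • u + y • v + w, add_mem (add_mem (C.smul_mem _ hu) (C.smul_mem _ hv)) hw, fun e => hQw ?_, ?_⟩
    · have := congrArg (fun r => QuadraticMap.polar Q r w) e
      simp only [add_left Δ, smul_left Δ, zero_left Δ, symm Δ u w, hwu, symm Δ v w, hwv, mul_zero, zero_add,
        self_eq Δ] at this
      exact (mul_eq_zero.mp this).resolve_left Δ.h2
    · rw [quad_sum Δ, quad_sum Δ, quad_smul Δ, quad_smul Δ, add_left Δ, smul_left Δ, smul_right Δ, smul_left Δ,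
        smul_left Δ, symm Δ u v, hvu, symm Δ u w, hwu, symm Δ v w, hwv]
      linear_combination hxy
  rw [hC, Submodule.mem_inf] at hzC
  exact ⟨z, hz, hU z hzC.1, fun hm => hz0 (Submodule.disjoint_def.mp hW.disjoint z hm hzC.2)⟩

/-- A reflection. -/
theorem exists_refl {p : ι → F} (hp : Q p ≠ 0) :
    ∃ g : GL ι F, (g : Matrix ι ι F).det = -1 ∧ (∀ x, (g : Matrix ι ι F) *ᵥ x = x - ((Q p)⁻¹ * ⟪x, p⟫) • p) ∧
      ∀ x, Q ((g : Matrix ι ι F) *ᵥ x) = Q x := by
  obtain ⟨φ, hφ⟩ : ∃ φ : ι → F, φ = fun i => -(Q p)⁻¹ * ⟪Pi.single i 1, p⟫ := ⟨_, rfl⟩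
  have hw : ∀ x, -(Q p)⁻¹ * ⟪x, p⟫ = x ⬝ᵥ φ := fun x => by
    let L : (ι → F) →ₗ[F] F :=
      { toFun := fun y => -(Q p)⁻¹ * ⟪y, p⟫
        map_add' := fun y z => by rw [add_left Δ, mul_add]
        map_smul' := fun c y => by rw [smul_left Δ, RingHom.id_apply, smul_eq_mul]; ring }
    change L x = _
    rw [pi_eq_sum_univ' x, map_sum]
    simp only [map_smul, dotProduct, Finset.sum_apply, Pi.smul_apply, smul_eq_mul, hφ, L, LinearMap.coe_mk,
      AddHom.coe_mk]
    simp [Pi.single_apply]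
  let M : Matrix ι ι F := 1 + Matrix.replicateCol Unit p * Matrix.replicateRow Unit φ
  have hd : M.det = -1 := by
    rw [Matrix.det_one_add_replicateCol_mul_replicateRow, dotProduct_comm, ← hw, self_eq Δ]
    field_simp
    norm_num
  have hx : ∀ x, M *ᵥ x = x - ((Q p)⁻¹ * ⟪x, p⟫) • p := fun x => by
    rw [sub_eq_add_neg, ← neg_smul, ← neg_mul, hw]
    simp only [M]
    rw [Matrix.add_mulVec, Matrix.one_mulVec, ← Matrix.mulVec_mulVec]
    congr 1
    funext i
    simp [Matrix.mulVec, dotProduct, Matrix.replicateCol_apply, Matrix.replicateRow_apply, Finset.mul_sum,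
      Finset.sum_mul, mul_comm, mul_left_comm]
  refine ⟨Matrix.GeneralLinearGroup.mkOfDetNeZero M (by rw [hd]; simp), by
    rw [Matrix.GeneralLinearGroup.val_mkOfDetNeZero]; exact hd, fun x => ?_, fun x => ?_⟩ <;>
    rw [Matrix.GeneralLinearGroup.val_mkOfDetNeZero, hx]
  rw [sub_eq_add_neg, ← neg_smul, quad_sum Δ, quad_smul Δ, smul_right Δ]
  field_simp
  ring

theorem mem_span1 {a x : ι → F} (h : x ∈ Submodule.span F (Set.range ![a])) : ∃ c : F, x = c • a := by
  obtain ⟨c, hc⟩ := (Submodule.mem_span_range_iff_exists_fun F).mp h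
  exact ⟨c 0, by rw [← hc]; simp [Fin.sum_univ_succ]⟩

theorem mem_span2 {a b x : ι → F} (h : x ∈ Submodule.span F (Set.range ![a, b])) :
    ∃ c d : F, x = c • a + d • b := by
  obtain ⟨c, hc⟩ := (Submodule.mem_span_range_iff_exists_fun F).mp h
  exact ⟨c 0, c 1, by rw [← hc]; simp [Fin.sum_univ_succ]⟩

theorem mem_span3 {a b e x : ι → F} (h : x ∈ Submodule.span F (Set.range ![a, b, e])) :
    ∃ c d k : F, x = c • a + d • b + k • e := by
  obtain ⟨c, hc⟩ := (Submodule.mem_span_range_iff_exists_fun F).mp h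
  exact ⟨c 0, c 1, c 2, by rw [← hc]; simp [Fin.sum_univ_succ, add_assoc]⟩

/-- An Eichler transformation as a special isometry. -/
theorem exists_eichler_one {u w : ι → F} (hu : Q u = 0) (huw : ⟪u, w⟫ = 0) :
    ∃ g ∈ quadSimilarityGroup Q ⊓ specialLinear ι F,
      (∀ x, (g : Matrix ι ι F) *ᵥ x = x + ⟪x, u⟫ • w - (⟪x, w⟫ + Q w * ⟪x, u⟫) • u) ∧
      ∀ x y, ⟪(g : Matrix ι ι F) *ᵥ x, (g : Matrix ι ι F) *ᵥ y⟫ = ⟪x, y⟫ := by
  have hh : ⟪u, (2 : F)⁻¹ • w⟫ = 0 := by rw [smul_right Δ, huw, mul_zero]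
  obtain ⟨e, he, hev⟩ := exists_eichler Δ.hQ hu hh
  have hev2 : ∀ x, ((e * e : GL ι F) : Matrix ι ι F) *ᵥ x = eichler Q u w x := fun x => by
    rw [gl_mul_mulVec, hev, hev, eichler_comp Δ.hQ hu hh hh, ← add_smul]
    have : (2 : F)⁻¹ + 2⁻¹ = 1 := by rw [← two_mul, mul_inv_cancel₀ Δ.h2]
    rw [this, one_smul]
  have hiso : ∀ x, Q (((e * e : GL ι F) : Matrix ι ι F) *ᵥ x) = Q x :=
    fun x => by rw [hev2, eichler_isometry Δ.hQ hu huw]
  refine ⟨e * e, ⟨⟨1, fun v => by rw [hiso, Units.val_one, one_mul]⟩, ?_⟩, fun x => hev2 x,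
    fun x y => by simp only [QuadraticMap.polar, ← Matrix.mulVec_add, hiso]⟩
  have hb := semiForm_of_bilinear Δ.hQ.polar_bilinear
  have hpres : (fun x y => ⟪(e : Matrix ι ι F) *ᵥ x, (e : Matrix ι ι F) *ᵥ y⟫) = QuadraticMap.polar Q := by
    funext x y
    simp only [QuadraticMap.polar, ← Matrix.mulVec_add, mem_isometryGroup_iff.mp he]
  have hg := gram_comp (RingEquiv.refl F) hb (e : Matrix ι ι F)
  rw [hpres] at hg
  have hd := congrArg Matrix.det hg
  have hmap : (e : Matrix ι ι F).map (RingEquiv.refl F) = (e : Matrix ι ι F) := by ext; rfl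
  rw [Matrix.det_mul, Matrix.det_mul, hmap, Matrix.det_transpose] at hd
  have h0 := det_gram_ne_zero (RingEquiv.refl F) hb Δ.hQ.nondegenerate
  change e * e ∈ specialLinear ι F
  rw [mem_specialLinear_iff, Units.val_mul, Matrix.det_mul]
  refine mul_right_cancel₀ h0 ?_
  linear_combination -hd

end Cfsg.Agent.Classical.OSim
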