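/-
An orthogonal real structure inside a unitary space: planes, transvections and their moves.
-/
import Cfsg.Agent.Lib.Classical.OSimExist

set_option autoImplicit false
set_option linter.unusedSectionVars false
set_option linter.style.haveILetI false

namespace Cfsg.Agent.Classical.OInU

open Matrix Cfsg.Geo
open Cfsg.Agent.Classical

variable {ι : Type} [Fintype ι] [DecidableEq ι] {F : Type*} [Field F] {F₀ : Subfield F} {σ : F ≃+* F} {θ : F}
  {f : (ι → F) → (ι → F) → F} {T : (ι → F₀) → ι → F} {Q : (ι → F₀) → F₀} {K : Subgroup (GL ι F)}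

/-- `g` is the transvection with centre `v` and parameter `c`. -/
def Tr (f : (ι → F) → (ι → F) → F) (g : GL ι F) (v : ι → F) (c : F) : Prop :=
  ∀ x, (g : Matrix ι ι F) *ᵥ x = x + (c * f x v) • v

/-- All transvections with centre `v` lie in the group. -/
def Ctr (σ : F ≃+* F) (f : (ι → F) → (ι → F) → F) (K : Subgroup (GL ι F)) (v : ι → F) : Prop :=
  f v v = 0 → ∀ c : F, c + σ c = 0 → ∀ g, Tr f g v c → g ∈ K

/-- The element attached to a totally isotropic plane with a basis lies in the group. -/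
def InP (f : (ι → F) → (ι → F) → F) (K : Subgroup (GL ι F)) (u v : ι → F) : Prop :=
  ∃ k ∈ K, ∀ x, (k : Matrix ι ι F) *ᵥ x = x + f x v • u - f x u • v

/-- The setting. -/
structure Setup (σ : F ≃+* F) (θ : F) (f : (ι → F) → (ι → F) → F) (T : (ι → F₀) → ι → F) (Q : (ι → F₀) → F₀)
    (K : Subgroup (GL ι F)) : Prop where
  D : OSim.Data Q
  big : 6 ≤ Fintype.card ι
  hs : IsSemiForm σ f
  herm : ∀ v w, f v w = σ (f w v)
  theta : σ θ = -θ
  theta0 : θ ≠ 0
  two : (2 : F) ≠ 0
  fix : ∀ x : F₀, σ (x : F) = x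
  dec : ∀ x : F, ∃ a b : F₀, x = (a : F) + θ * b
  T_add : ∀ u w, T (u + w) = T u + T w
  T_smul : ∀ (c : F₀) u, T (c • u) = (c : F) • T u
  T_dec : ∀ v : ι → F, ∃ u u', v = T u + θ • T u'
  hT : ∀ u w, f (T u) (T w) = (QuadraticMap.polar Q u w : F₀)
  eich : ∀ u w, Q u = 0 → QuadraticMap.polar Q u w = 0 → ∃ k ∈ K, ∀ x, (k : Matrix ι ι F) *ᵥ T x =
    T (x + QuadraticMap.polar Q x u • w - (QuadraticMap.polar Q x w + Q w * QuadraticMap.polar Q x u) • u)
  iso : ∀ k ∈ K, ∀ x y, f ((k : Matrix ι ι F) *ᵥ x) ((k : Matrix ι ι F) *ᵥ y) = f x y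
  trans : ∀ v c, f v v = 0 → c + σ c = 0 → ∃ g, Tr f g v c

theorem InP.congr {u v u' v' : ι → F} (h : InP f K u v)
    (e : ∀ x, f x v • u - f x u • v = f x v' • u' - f x u' • v') : InP f K u' v' := by
  obtain ⟨k, hk, hkv⟩ := h
  exact ⟨k, hk, fun x => by rw [hkv, add_sub_assoc, e, add_sub_assoc]⟩

variable (S : Setup σ θ f T Q K)

include S

theorem f_zero_left (x : ι → F) : f 0 x = 0 := by rw [← zero_smul F (0 : ι → F), S.hs.smul_left, zero_mul]

theorem f_zero_right (x : ι → F) : f x 0 = 0 := by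
  rw [← zero_smul F (0 : ι → F), S.hs.smul_right, map_zero, zero_mul]

theorem f_neg_left (a x : ι → F) : f (-a) x = -f a x := by rw [← neg_one_smul F a, S.hs.smul_left, neg_one_mul]

theorem f_neg_right (a x : ι → F) : f x (-a) = -f x a := by
  rw [← neg_one_smul F a, S.hs.smul_right, map_neg, map_one, neg_one_mul]

theorem f_sub_left (a b x : ι → F) : f (a - b) x = f a x - f b x := by
  rw [sub_eq_add_neg, S.hs.add_left, f_neg_left S, sub_eq_add_neg]

theorem f_sub_right (a b x : ι → F) : f x (a - b) = f x a - f x b := by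
  rw [sub_eq_add_neg, S.hs.add_right, f_neg_right S, sub_eq_add_neg]

theorem symm_zero {a b : ι → F} (h : f a b = 0) : f b a = 0 := by rw [S.herm, h, map_zero]

theorem T_zero : T 0 = 0 := by rw [← zero_smul F₀ (0 : ι → F₀), S.T_smul, Subfield.coe_zero, zero_smul]

theorem T_neg (u : ι → F₀) : T (-u) = -T u := by
  rw [← neg_one_smul F₀ u, S.T_smul, Subfield.coe_neg, Subfield.coe_one, neg_one_smul]

theorem T_sub (u w : ι → F₀) : T (u - w) = T u - T w := by
  rw [sub_eq_add_neg, S.T_add, T_neg S, sub_eq_add_neg]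

theorem coord_unique {a b : F₀} (h : (a : F) + θ * b = 0) : a = 0 ∧ b = 0 := by
  have h' := congrArg σ h
  rw [map_add, map_mul, S.fix, S.fix, S.theta, map_zero] at h'
  have hb : (b : F) = 0 := by
    have : (2 * θ) * (b : F) = 0 := by linear_combination h - h'
    exact (mul_eq_zero.mp this).resolve_left (mul_ne_zero S.two S.theta0)
  rw [hb, mul_zero, add_zero] at h
  exact ⟨Subtype.ext h, Subtype.ext hb⟩

theorem exists_nu : ∃ ν : F₀, θ * θ = (ν : F) := by
  obtain ⟨a, b, hab⟩ := S.dec (θ * θ)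
  have h' := congrArg σ hab
  rw [map_mul, map_add, map_mul, S.theta, S.fix, S.fix] at h'
  have hb : (b : F) = 0 := by
    have : (2 * θ) * (b : F) = 0 := by linear_combination h' - hab
    exact (mul_eq_zero.mp this).resolve_left (mul_ne_zero S.two S.theta0)
  exact ⟨a, by rw [hab, hb, mul_zero, add_zero]⟩

theorem T_unique {u u' w w' : ι → F₀} (h : T u + θ • T u' = T w + θ • T w') : u = w ∧ u' = w' := by
  have key : ∀ x, QuadraticMap.polar Q x (u - w) = 0 ∧ QuadraticMap.polar Q x (u' - w') = 0 := fun x => by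
    have h0 := congrArg (fun v => f v (T x)) h
    simp only [S.hs.add_left, S.hs.smul_left, S.hT] at h0
    rw [OSim.sub_right S.D, OSim.sub_right S.D, OSim.symm S.D x u, OSim.symm S.D x w, OSim.symm S.D x u',
      OSim.symm S.D x w']
    refine coord_unique S ?_
    rw [Subfield.coe_sub, Subfield.coe_sub]
    linear_combination h0
  exact ⟨sub_eq_zero.mp (OSim.eq_zero_of_perp S.D fun x => (key x).1),
    sub_eq_zero.mp (OSim.eq_zero_of_perp S.D fun x => (key x).2)⟩

theorem ext_T {k k' : GL ι F} (h : ∀ x, (k : Matrix ι ι F) *ᵥ T x = (k' : Matrix ι ι F) *ᵥ T x) : k = k' :=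
  gl_ext_mulVec fun v => by
    obtain ⟨u, u', rfl⟩ := S.T_dec v
    simp only [Matrix.mulVec_add, Matrix.mulVec_smul, h]

theorem conj_iso {k : GL ι F} (hk : k ∈ K) (x v : ι → F) :
    f (((k⁻¹ : GL ι F) : Matrix ι ι F) *ᵥ x) v = f x ((k : Matrix ι ι F) *ᵥ v) := by
  conv_rhs => rw [← gl_mulVec_inv_cancel k x]
  rw [S.iso k hk]

theorem InP.conj {u v : ι → F} (h : InP f K u v) {y : GL ι F} (hy : y ∈ K) :
    InP f K ((y : Matrix ι ι F) *ᵥ u) ((y : Matrix ι ι F) *ᵥ v) := by
  obtain ⟨k, hk, hkv⟩ := h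
  exact ⟨y * k * y⁻¹, mul_mem (mul_mem hy hk) (inv_mem hy), fun x => by
    rw [gl_mul_mulVec, gl_mul_mulVec, hkv, Matrix.mulVec_sub, Matrix.mulVec_add, gl_mulVec_inv_cancel,
      Matrix.mulVec_smul, Matrix.mulVec_smul, conj_iso S hy, conj_iso S hy]⟩

theorem InP.swap {u v : ι → F} (h : InP f K u v) : InP f K v (-u) := h.congr fun x => by
  rw [f_neg_right S, neg_smul, smul_neg]; abel

theorem InP.flip {u v : ι → F} (huu : f u u = 0) (hvv : f v v = 0) (huv : f u v = 0) (h : InP f K u v) :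
    InP f K u (-v) := by
  obtain ⟨k, hk, hkv⟩ := h
  refine ⟨k⁻¹, inv_mem hk, fun x => gl_mulVec_injective k ?_⟩
  dsimp only
  rw [gl_mulVec_inv_cancel, hkv, f_sub_left S, f_sub_left S, S.hs.add_left, S.hs.add_left, S.hs.smul_left,
    S.hs.smul_left, S.hs.smul_left, S.hs.smul_left, f_neg_left S, f_neg_left S, f_neg_right S, huu, hvv, huv,
    symm_zero S huv]
  simp only [mul_zero, neg_zero, add_zero, sub_zero, smul_neg, neg_smul]
  abel

theorem InP.add {u v w : ι → F} (huu : f u u = 0) (huv : f u v = 0) (hwu : f w u = 0) (hwv : f w v = 0)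
    (h : InP f K u v) (h' : InP f K u w) : InP f K u (v + w) := by
  obtain ⟨k, hk, hkv⟩ := h
  obtain ⟨k', hk', hkv'⟩ := h'
  refine ⟨k * k', mul_mem hk hk', fun x => ?_⟩
  rw [gl_mul_mulVec, hkv', hkv, f_sub_left S, f_sub_left S, S.hs.add_left, S.hs.add_left, S.hs.smul_left,
    S.hs.smul_left, S.hs.smul_left, S.hs.smul_left, huu, huv, hwu, hwv, S.hs.add_right]
  simp only [mul_zero, add_zero, sub_zero, add_smul, smul_add]
  abel

/-- The plane of two orthogonal isotropic real vectors. -/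
theorem inP_real {z b : ι → F₀} (hz : Q z = 0) (hb : Q b = 0) (hzb : QuadraticMap.polar Q z b = 0) :
    InP f K (T z) (T b) := by
  obtain ⟨k, hk, hkv⟩ := S.eich b z hb (by rw [OSim.symm S.D]; exact hzb)
  refine ⟨k, hk, fun x => ?_⟩
  obtain ⟨u, u', rfl⟩ := S.T_dec x
  have e : ∀ y, (k : Matrix ι ι F) *ᵥ T y = T y + f (T y) (T b) • T z - f (T y) (T z) • T b := fun y => by
    rw [hkv, hz, zero_mul, add_zero, T_sub S, S.T_add, S.T_smul, S.T_smul, S.hT, S.hT]
  rw [Matrix.mulVec_add, Matrix.mulVec_smul, e, e, S.hs.add_left, S.hs.add_left, S.hs.smul_left, S.hs.smul_left]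
  module

/-- An element fixing `T a` and moving the vectors orthogonal to it along it. -/
theorem exists_push {a w : ι → F₀} (ha : Q a = 0) (haw : QuadraticMap.polar Q a w = 0) :
    ∃ k ∈ K, ∀ v, f v (T a) = 0 → (k : Matrix ι ι F) *ᵥ v = v + (-f v (T w)) • T a := by
  obtain ⟨k, hk, hkv⟩ := S.eich a w ha haw
  refine ⟨k, hk, fun v hv => ?_⟩
  obtain ⟨u, u', rfl⟩ := S.T_dec v
  rw [S.hs.add_left, S.hs.smul_left, S.hT, S.hT] at hv
  obtain ⟨h1, h2⟩ := coord_unique S hv
  rw [Matrix.mulVec_add, Matrix.mulVec_smul, hkv, hkv, h1, h2, zero_smul, mul_zero, add_zero, add_zero, add_zero,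
    T_sub S, T_sub S, S.T_smul, S.T_smul, S.hs.add_left, S.hs.smul_left, S.hT, S.hT]
  module

theorem Ctr.smul {v : ι → F} (h : Ctr σ f K v) {l : F} (hl : l ≠ 0) : Ctr σ f K (l • v) := by
  intro hiso c hc g hg
  refine h ?_ (c * l * σ l) ?_ g fun x => ?_
  · rw [S.hs.smul_left, S.hs.smul_right] at hiso
    exact (mul_eq_zero.mp ((mul_eq_zero.mp hiso).resolve_left hl)).resolve_left fun e => hl (by simpa using e)
  · have : σ (σ l) = l := by
      obtain ⟨a, b, rfl⟩ := S.dec l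
      simp only [map_add, map_mul, S.fix, S.theta, map_neg, neg_neg]
    rw [map_mul, map_mul, this]; linear_combination (l * σ l) * hc
  · rw [hg, S.hs.smul_right, smul_smul]; congr 2; ring

theorem Ctr.of_conj {v : ι → F} {y : GL ι F} (hy : y ∈ K) (h : Ctr σ f K ((y : Matrix ι ι F) *ᵥ v)) :
    Ctr σ f K v := by
  intro hiso c hc g hg
  have := h (by rw [S.iso y hy]; exact hiso) c hc (y * g * y⁻¹) fun x => by
    rw [gl_mul_mulVec, gl_mul_mulVec, hg, Matrix.mulVec_add, gl_mulVec_inv_cancel, Matrix.mulVec_smul,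
      conj_iso S hy]
  have e : g = y⁻¹ * (y * g * y⁻¹) * y := by group
  rw [e]
  exact mul_mem (mul_mem (inv_mem hy) this) hy

theorem Ctr.conj {v : ι → F} {y : GL ι F} (hy : y ∈ K) (h : Ctr σ f K v) :
    Ctr σ f K ((y : Matrix ι ι F) *ᵥ v) :=
  Ctr.of_conj S (inv_mem hy) (by rwa [gl_inv_mulVec_cancel])

theorem ctr_zero : Ctr σ f K 0 := fun _ c _ g hg => by
  rw [show g = 1 from gl_ext_mulVec fun x => by simp [hg x]]
  exact one_mem K

end Cfsg.Agent.Classical.OInU
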