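/-
An overgroup of a real orthogonal group in the unitary group holds all transvections.
-/
import Cfsg.Agent.Lib.Classical.OInUTools

set_option autoImplicit false
set_option linter.unusedSectionVars false
set_option linter.style.haveILetI false

namespace Cfsg.Agent.Classical.OInU

open Matrix Cfsg.Geo
open Cfsg.Agent.Classical

variable {ι : Type} [Fintype ι] [DecidableEq ι] {F : Type*} [Field F] {F₀ : Subfield F} [Fintype F₀]
  {σ : F ≃+* F} {θ : F} {f : (ι → F) → (ι → F) → F} {T : (ι → F₀) → ι → F} {Q : (ι → F₀) → F₀}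
  {K : Subgroup (GL ι F)}

/-- The polar form. -/
local notation "⟪" x ", " y "⟫" => QuadraticMap.polar Q x y

theorem smul_mem_range {m : ℕ} {s : Fin m → ι → F₀} (i : Fin m) (c : F₀) :
    c • s i ∈ Submodule.span F₀ (Set.range s) := Submodule.smul_mem _ _ (Submodule.subset_span ⟨i, rfl⟩)

variable (S : Setup σ θ f T Q K)

include S

theorem f_T_T {u w : ι → F₀} (h : ⟪u, w⟫ = 0) : f (T u) (T w) = 0 := by rw [S.hT, h]; rfl

/-- A property spread along orthogonal pairs of isotropic vectors holds for all of them. -/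
theorem link {P : (ι → F₀) → Prop} (step : ∀ x y, Q x = 0 → Q y = 0 → ⟪x, y⟫ = 0 → x ≠ 0 → y ≠ 0 →
      x ∉ Submodule.span F₀ (Set.range ![y]) → y ∉ Submodule.span F₀ (Set.range ![x]) → P x → P y)
    {z x : ι → F₀} (hz : Q z = 0) (hz0 : z ≠ 0) (hx : Q x = 0) (hx0 : x ≠ 0) (hP : P z) : P x := by
  have hbig := S.big
  have two : ∀ y b, Q y = 0 → Q b = 0 → ⟪y, b⟫ ≠ 0 → P y → P b := by
    intro y b hy hb hyb hPy
    obtain ⟨c, hc, hcs, hct⟩ := OSim.exists_iso_wide S.D ![y, b] (t := ![]) (by omega)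
    have hc0 : c ≠ 0 := fun e => hct (by rw [e]; exact zero_mem _)
    have hcy : ⟪c, y⟫ = 0 := hcs 0
    have hcb : ⟪c, b⟫ = 0 := hcs 1
    have hy0 : y ≠ 0 := fun e => hyb (by rw [e, OSim.zero_left S.D])
    have hb0 : b ≠ 0 := fun e => hyb (by rw [e, OSim.zero_right S.D])
    have out : ∀ m n : ι → F₀, ⟪m, n⟫ ≠ 0 → ⟪c, n⟫ = 0 → ⟪c, m⟫ = 0 →
        m ∉ Submodule.span F₀ (Set.range ![c]) ∧ c ∉ Submodule.span F₀ (Set.range ![m]) := by
      refine fun m n hmn hcn hcm => ⟨fun h => ?_, fun h => ?_⟩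
      · obtain ⟨k, hk⟩ := OSim.mem_span1 S.D h
        exact hmn (by rw [hk, OSim.smul_left S.D, hcn, mul_zero])
      · obtain ⟨k, hk⟩ := OSim.mem_span1 S.D h
        have : k * ⟪m, n⟫ = 0 := by rw [← OSim.smul_left S.D, ← hk, hcn]
        exact hc0 (by rw [hk, (mul_eq_zero.mp this).resolve_right hmn, zero_smul])
    obtain ⟨o1, o2⟩ := out y b hyb hcb hcy
    obtain ⟨o3, o4⟩ := out b y (by rwa [OSim.symm S.D]) hcy hcb
    exact step c b hc hb hcb hc0 hb0 o4 o3 (step y c hy hc (by rwa [OSim.symm S.D]) hy0 hc0 o1 o2 hPy)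
  obtain ⟨b, hb, hbz, hbx⟩ : ∃ b, Q b = 0 ∧ ⟪b, z⟫ ≠ 0 ∧ ⟪b, x⟫ ≠ 0 := by
    by_cases hd : z ∈ Submodule.span F₀ (Set.range ![z - x])
    · obtain ⟨k, hk⟩ := OSim.mem_span1 S.D hd
      obtain ⟨b, hb, -, hbz⟩ := OSim.exists_iso_val S.D (s := ![(0 : ι → F₀)]) (a := z) (fun hm => by
        obtain ⟨c, hc⟩ := OSim.mem_span1 S.D hm
        exact hz0 (by rw [hc, smul_zero])) (by omega)
      refine ⟨b, hb, by rw [hbz]; exact one_ne_zero, fun e => ?_⟩
      have h1 := congrArg (fun v => ⟪b, v⟫) hk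
      simp only [OSim.smul_right S.D, OSim.sub_right S.D, hbz, e, sub_zero, mul_one] at h1
      rw [← h1, one_smul] at hk
      exact hx0 (sub_eq_self.mp hk.symm)
    · obtain ⟨b, hb, hbs, hbz⟩ := OSim.exists_iso_val S.D (s := ![z - x]) (a := z) hd (by omega)
      refine ⟨b, hb, by rw [hbz]; exact one_ne_zero, fun e => ?_⟩
      have h1 : ⟪b, z - x⟫ = 0 := hbs 0
      rw [OSim.sub_right S.D, hbz, e, sub_zero] at h1
      exact one_ne_zero h1
  exact two b x hb hx hbx (two z b hz hb (by rwa [OSim.symm S.D]) hP)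

/-- If every isotropic real vector goes to a multiple of a real vector then so does every real vector, with one
factor. -/
theorem scaled_of_iso {g : GL ι F} (H : ∀ z, Q z = 0 → ∃ (μ : F) (w : ι → F₀),
      (g : Matrix ι ι F) *ᵥ T z = μ • T w) :
    ∃ μ : F, μ ≠ 0 ∧ ∀ x, ∃ w, (g : Matrix ι ι F) *ᵥ T x = μ • T w := by
  have hTinj : ∀ z, T z = 0 → z = 0 := fun z hz =>
    (T_unique S (u := z) (u' := 0) (w := 0) (w' := 0) (by rw [hz, T_zero S])).1
  have hg0 : ∀ z, z ≠ 0 → (g : Matrix ι ι F) *ᵥ T z ≠ 0 := fun z hz e =>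
    hz (hTinj z (gl_mulVec_injective g (e.trans (Matrix.mulVec_zero _).symm)))
  have key : ∀ z b, Q z = 0 → Q b = 0 → ⟪z, b⟫ = 0 → z ≠ 0 → b ≠ 0 →
      z ∉ Submodule.span F₀ (Set.range ![b]) → ∀ (μ : F) (w1 : ι → F₀), μ ≠ 0 →
      (g : Matrix ι ι F) *ᵥ T z = μ • T w1 → ∃ w, (g : Matrix ι ι F) *ᵥ T b = μ • T w := by
    intro z b hz hb hzb hz0 hb0 hind μ w1 hμ h1
    obtain ⟨ρ, w2, h2⟩ := H b hb
    obtain ⟨τ, w, h3⟩ := H (z + b) (by rw [OSim.quad_sum S.D, hz, hb, hzb]; simp)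
    obtain ⟨c0, c1, hc⟩ := S.dec (μ⁻¹ * ρ)
    obtain ⟨d0, d1, hd⟩ := S.dec (μ⁻¹ * τ)
    rw [S.T_add, Matrix.mulVec_add, h1, h2] at h3
    have h4 := congrArg (fun v => μ⁻¹ • v) h3
    simp only [smul_add, smul_smul, inv_mul_cancel₀ hμ, one_smul, hc, hd] at h4
    have h5 : T (w1 + c0 • w2) + θ • T (c1 • w2) = T (d0 • w) + θ • T (d1 • w) := by
      simp only [S.T_add, S.T_smul, smul_smul]
      rw [add_assoc, ← add_smul, h4, ← add_smul]
    obtain ⟨e0, e1⟩ := T_unique S h5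
    by_cases hc1 : c1 = 0
    · refine ⟨c0 • w2, ?_⟩
      rw [hc1, Subfield.coe_zero, mul_zero, add_zero] at hc
      rw [h2, S.T_smul, smul_smul, ← hc, ← mul_assoc, mul_inv_cancel₀ hμ, one_mul]
    exfalso
    have hw2 : w2 = (c1⁻¹ * d1) • w := by rw [← smul_smul, ← e1, smul_smul, inv_mul_cancel₀ hc1, one_smul]
    have hw1 : w1 = (d0 - c0 * (c1⁻¹ * d1)) • w := by
      rw [sub_smul, ← smul_smul c0, ← hw2, ← e0, add_sub_cancel_right]
    by_cases hd1 : c1⁻¹ * d1 = 0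
    · exact hg0 b hb0 (by rw [h2, hw2, hd1, zero_smul, T_zero S, smul_zero])
    have hρ : ρ ≠ 0 := fun e => hg0 b hb0 (by rw [h2, e, zero_smul])
    obtain ⟨m, hm⟩ : ∃ m, w1 = m • w2 := ⟨(d0 - c0 * (c1⁻¹ * d1)) * (c1⁻¹ * d1)⁻¹, by
      rw [hw2, smul_smul, mul_assoc, inv_mul_cancel₀ hd1, mul_one]; exact hw1⟩
    obtain ⟨l0, l1, hl⟩ := S.dec (μ * m * ρ⁻¹)
    have hz' : T z = (μ * m * ρ⁻¹) • T b := gl_mulVec_injective g (by
      dsimp only
      rw [Matrix.mulVec_smul, h1, h2, hm, S.T_smul, smul_smul, smul_smul, mul_assoc _ ρ⁻¹, inv_mul_cancel₀ hρ, mul_one])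
    have := T_unique S (u := z) (u' := 0) (w := l0 • b) (w' := l1 • b) (by
      rw [hz', hl, T_zero S, smul_zero, add_zero, S.T_smul, S.T_smul, smul_smul, ← add_smul])
    exact hind (by rw [this.1]; exact smul_mem_range (s := ![b]) 0 l0)
  obtain ⟨z1, hz1, -, hz1t⟩ := OSim.exists_iso_wide S.D ![(0 : ι → F₀)] ![(0 : ι → F₀)] (by have := S.big; omega)
  have hz10 : z1 ≠ 0 := fun e => hz1t (by rw [e]; exact zero_mem _)
  obtain ⟨μ, w1, h1⟩ := H z1 hz1
  have hμ : μ ≠ 0 := fun e => hg0 z1 hz10 (by rw [h1, e, zero_smul])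
  have hiso : ∀ z, Q z = 0 → ∃ w, (g : Matrix ι ι F) *ᵥ T z = μ • T w := by
    intro z hz
    by_cases hz0 : z = 0
    · exact ⟨0, by rw [hz0, T_zero S, Matrix.mulVec_zero, smul_zero]⟩
    exact link S (P := fun x => ∃ w, (g : Matrix ι ι F) *ᵥ T x = μ • T w)
      (fun x y hx hy hxy hx0 hy0 hind _ ⟨w, hw⟩ => key x y hx hy hxy hx0 hy0 hind μ w hμ hw) hz1 hz10 hz hz0 ⟨w1, h1⟩
  refine ⟨μ, hμ, fun x => ?_⟩
  by_cases hx : Q x = 0
  · exact hiso x hx
  obtain ⟨e, he, -, hex⟩ := OSim.exists_iso_val S.D (s := ![(0 : ι → F₀)]) (a := x) (fun hm => by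
    obtain ⟨c, hc⟩ := OSim.mem_span1 S.D hm
    exact hx (by rw [hc, smul_zero, OSim.quad_zero' S.D])) (by have := S.big; omega)
  obtain ⟨u1, hu1⟩ := hiso (x + (-Q x) • e) (by
    rw [OSim.quad_sum S.D, OSim.quad_smul S.D, he, OSim.smul_right S.D, OSim.symm S.D x e, hex]; ring)
  obtain ⟨u2, hu2⟩ := hiso (Q x • e) (by rw [OSim.quad_smul S.D, he, mul_zero])
  refine ⟨u1 + u2, ?_⟩
  rw [S.T_add, smul_add, ← hu1, ← hu2, ← Matrix.mulVec_add, ← S.T_add, neg_smul, neg_add_cancel_right]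

/-- An Eichler element on all vectors. -/
theorem exists_eich {a w : ι → F₀} (ha : Q a = 0) (haw : ⟪a, w⟫ = 0) :
    ∃ k ∈ K, ∀ y, (k : Matrix ι ι F) *ᵥ y =
      y + f y (T a) • T w - (f y (T w) + (Q w : F) * f y (T a)) • T a := by
  obtain ⟨k, hk, hkv⟩ := S.eich a w ha haw
  refine ⟨k, hk, fun y => ?_⟩
  obtain ⟨u, u', rfl⟩ := S.T_dec y
  rw [Matrix.mulVec_add, Matrix.mulVec_smul, hkv, hkv]
  simp only [T_sub S, S.T_add, S.T_smul, Subfield.coe_add, Subfield.coe_mul, S.hs.add_left, S.hs.smul_left, S.hT]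
  module

/-- A skew element is a real multiple of another. -/
theorem exists_ratio {c E : F} (hE : E ≠ 0) (hc : c + σ c = 0) (hE' : E + σ E = 0) : ∃ t : F₀, c = (t : F) * E := by
  obtain ⟨x, y, hxy⟩ := S.dec (c / E)
  have h1 : σ (c / E) = c / E := by
    rw [map_div₀, show σ c = -c by linear_combination hc, show σ E = -E by linear_combination hE', neg_div_neg_eq]
  rw [hxy, map_add, map_mul, S.fix, S.fix, S.theta] at h1
  have hy : (y : F) = 0 := (mul_eq_zero.mp (show (2 * θ) * (y : F) = 0 by linear_combination -h1)).resolve_left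
    (mul_ne_zero S.two S.theta0)
  exact ⟨x, by rw [← div_mul_cancel₀ c hE, hxy, hy, mul_zero, add_zero]⟩

/-- An element fixing `u` moves the plane element of `u` and `v`; together with the elements moving `u` along `T a`
this gives the transvections with centre `T a`. -/
theorem ctr_of_move {u v : ι → F} {a w w' : ι → F₀} {Y : F} (huu : f u u = 0) (hvv : f v v = 0) (huv : f u v = 0)
    (hP : InP f K u v) (ha : Q a = 0) (huA : f u (T a) = 0) (haw : ⟪a, w⟫ = 0) (haw' : ⟪a, w'⟫ = 0)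
    (huw : f u (T w) = 0) (hY : f v (T a) = 0 ∧ Y = f v (T w) ∨ Q w ≠ 0 ∧ Y = f v (T a))
    (hns : σ (f u (T w') * σ Y) ≠ f u (T w') * σ Y) : Ctr σ f K (T a) := by
  have hss : ∀ x, σ (σ x) = x := fun x => by
    obtain ⟨a', b', rfl⟩ := S.dec x
    simp only [map_add, map_mul, S.fix, S.theta, map_neg, neg_neg]
  obtain ⟨A, hA⟩ : ∃ A, A = T a := ⟨_, rfl⟩
  have hAA : f A A = 0 := hA ▸ f_T_T S (OSim.self_zero S.D ha)
  rw [← hA] at huA hY ⊢
  have hAu : f A u = 0 := symm_zero S huA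
  -- the elements of the plane of `u` and the vectors orthogonal to it
  let PU : (ι → F) → F → Prop := fun d c => f d u = 0 ∧ c + σ c + f d d = 0 ∧
    ∃ k ∈ K, ∀ x, (k : Matrix ι ι F) *ᵥ x = x + (f x d + c * f x u) • u - f x u • d
  have pu_mul : ∀ {d c d' c'}, PU d c → PU d' c' → PU (d + d') (c + c' - f d' d) := by
    rintro d c d' c' ⟨h1, h2, k, hk, hkx⟩ ⟨h1', h2', k', hk', hkx'⟩
    refine ⟨by rw [S.hs.add_left, h1, h1', add_zero], ?_, k * k', mul_mem hk hk', fun x => ?_⟩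
    · rw [map_sub, map_add, ← S.herm d d', S.hs.add_left, S.hs.add_right, S.hs.add_right]
      linear_combination h2 + h2'
    · rw [gl_mul_mulVec, hkx', hkx]
      simp only [f_sub_left S, S.hs.add_left, S.hs.smul_left, S.hs.add_right, huu, symm_zero S h1, h1']
      module
  have pu_neg : ∀ {d c}, PU d c → PU (-d) (-c - f d d) := by
    rintro d c ⟨h1, h2, k, hk, hkx⟩
    refine ⟨by rw [f_neg_left S, h1, neg_zero], ?_, k⁻¹, inv_mem hk, fun x => gl_mulVec_injective k ?_⟩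
    · rw [map_sub, map_neg, ← S.herm d d, f_neg_left S, f_neg_right S, neg_neg]
      linear_combination -h2
    · dsimp only
      rw [gl_mulVec_inv_cancel, hkx]
      simp only [f_sub_left S, S.hs.add_left, S.hs.smul_left, f_neg_left S, f_neg_right S, huu, symm_zero S h1, h1]
      module
  obtain ⟨k, hk, hkv⟩ := exists_eich S (w := w) ha haw
  rw [← hA] at hkv
  have hku : (k : Matrix ι ι F) *ᵥ u = u := by rw [hkv, huA, huw]; simp
  have pu_conj : ∀ {d c}, PU d c → PU ((k : Matrix ι ι F) *ᵥ d) c := by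
    rintro d c ⟨h1, h2, h, hh, hhx⟩
    refine ⟨?_, by rw [S.iso k hk]; exact h2, k * h * k⁻¹, mul_mem (mul_mem hk hh) (inv_mem hk), fun x => ?_⟩
    · conv_lhs => rw [← hku]
      rw [S.iso k hk, h1]
    · rw [gl_mul_mulVec, gl_mul_mulVec, hhx, Matrix.mulVec_sub, Matrix.mulVec_add, gl_mulVec_inv_cancel,
        Matrix.mulVec_smul, Matrix.mulVec_smul, conj_iso S hk, conj_iso S hk, hku]
  have h0 : PU v 0 := by
    obtain ⟨h, hh, hhx⟩ := hP
    exact ⟨symm_zero S huv, by rw [hvv, map_zero]; simp, h, hh, fun x => by rw [hhx, zero_mul, add_zero]⟩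
  obtain ⟨l, c, hl, hlY⟩ : ∃ (l c : F), PU (l • A) c ∧ ∃ m : F₀, m ≠ 0 ∧ l = (m : F) * Y := by
    rcases hY with ⟨hvA, hY⟩ | ⟨hQw, hY⟩
    · have h1 := pu_mul (pu_conj h0) (pu_neg h0)
      have e : (k : Matrix ι ι F) *ᵥ v + -v = (((-1 : F₀) : F) * Y) • A := by
        rw [hkv, hvA, hY, Subfield.coe_neg, Subfield.coe_one]
        module
      rw [e] at h1
      exact ⟨_, _, h1, -1, neg_ne_zero.mpr one_ne_zero, rfl⟩
    · have h1 := pu_mul (pu_mul (pu_conj (pu_conj h0)) (pu_neg (pu_conj h0))) (pu_mul h0 (pu_neg (pu_conj h0)))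
      have hTw : f (T w) A = 0 := by rw [hA]; exact f_T_T S (by rwa [OSim.symm S.D])
      have hww : f (T w) (T w) = 2 * (Q w : F) := by
        rw [S.hT, OSim.self_eq S.D, Subfield.coe_mul]; rfl
      have hAw : f A (T w) = 0 := symm_zero S hTw
      have e : (k : Matrix ι ι F) *ᵥ ((k : Matrix ι ι F) *ᵥ v) + -((k : Matrix ι ι F) *ᵥ v) +
          (v + -((k : Matrix ι ι F) *ᵥ v)) = (((-(2 * Q w) : F₀) : F) * Y) • A := by
        rw [hY, hkv, hkv, Subfield.coe_neg, Subfield.coe_mul, show ((2 : F₀) : F) = 2 from map_ofNat F₀.subtype 2]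
        simp only [f_sub_left S, S.hs.add_left, S.hs.smul_left, hTw, hww, hAA, hAw]
        module
      rw [e] at h1
      exact ⟨_, _, h1, -(2 * Q w), neg_ne_zero.mpr (mul_ne_zero S.D.h2 hQw), rfl⟩
  obtain ⟨m, hm, hlm⟩ := hlY
  -- the elements of the plane of `u` and `T a`
  let El : F → F → F → Prop := fun P B C => ∃ h ∈ K, ∀ x, (h : Matrix ι ι F) *ᵥ x =
    x + (P * f x u + B * f x A) • u + (-(σ B) * f x u + C * f x A) • A
  have el_mul : ∀ {P B C P' B' C'}, El P B C → El P' B' C' → El (P + P') (B + B') (C + C') := by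
    rintro P B C P' B' C' ⟨h, hh, hx⟩ ⟨h', hh', hx'⟩
    refine ⟨h * h', mul_mem hh hh', fun x => ?_⟩
    rw [gl_mul_mulVec, hx', hx]
    simp only [S.hs.add_left, S.hs.smul_left, huu, huA, hAu, hAA, map_add]
    module
  have el_neg : ∀ {P B C}, El P B C → El (-P) (-B) (-C) := by
    rintro P B C ⟨h, hh, hx⟩
    refine ⟨h⁻¹, inv_mem hh, fun x => gl_mulVec_injective h ?_⟩
    dsimp only
    rw [gl_mulVec_inv_cancel, hx]
    simp only [S.hs.add_left, S.hs.smul_left, huu, huA, hAu, hAA, map_neg]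
    module
  obtain ⟨B, hB⟩ : ∃ B, B = σ l := ⟨_, rfl⟩
  have hcc : c + σ c = 0 := by
    have h := hl.2.1
    rwa [S.hs.smul_left, S.hs.smul_right, hAA, mul_zero, mul_zero, add_zero] at h
  have hEl : El c B 0 := by
    obtain ⟨-, -, h, hh, hx⟩ := hl
    refine ⟨h, hh, fun x => ?_⟩
    rw [hx, S.hs.smul_right, hB, hss]
    module
  have hconj : ∀ t : F₀, El c (B + c * σ ((t : F) * -f u (T w')))
      ((t : F) * -f u (T w') * B - σ ((t : F) * -f u (T w')) * σ B +
        c * ((t : F) * -f u (T w') * σ ((t : F) * -f u (T w')))) := by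
    intro t
    obtain ⟨k', hk', hkv'⟩ := exists_push S (w := t • w') ha (by rw [OSim.smul_right S.D, haw', mul_zero])
    obtain ⟨h, hh, hx⟩ := hEl
    rw [← hA] at hkv'
    have e1 : (k' : Matrix ι ι F) *ᵥ u = u + ((t : F) * -f u (T w')) • A := by
      rw [hkv' u huA, S.T_smul, S.hs.smul_right, S.fix]; module
    have e2 : (k' : Matrix ι ι F) *ᵥ A = A := by
      rw [hkv' A hAA, hA, f_T_T S (by rw [OSim.smul_right S.D, haw', mul_zero])]; simp
    refine ⟨k' * h * k'⁻¹, mul_mem (mul_mem hk' hh) (inv_mem hk'), fun x => ?_⟩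
    rw [gl_mul_mulVec, gl_mul_mulVec, hx, Matrix.mulVec_add, Matrix.mulVec_add, gl_mulVec_inv_cancel,
      Matrix.mulVec_smul, Matrix.mulVec_smul, conj_iso S hk', conj_iso S hk', e1, e2, S.hs.add_right,
      S.hs.smul_right, map_add, map_mul σ c, hss, show σ c = -c by linear_combination hcc]
    module
  obtain ⟨s, hs⟩ : ∃ s, s = -f u (T w') := ⟨_, rfl⟩
  rw [← hs] at hconj
  have hs0 : s ≠ 0 := fun e => hns (by rw [neg_eq_zero.mp (hs.symm.trans e), zero_mul, map_zero])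
  intro _ c' hc' y hy
  obtain ⟨h, hh, hx⟩ : El 0 0 c' := by
    by_cases hc0 : c = 0
    · obtain ⟨E, hE⟩ : ∃ E, E = s * B - σ s * σ B := ⟨_, rfl⟩
      have hsl : s * B = -((m : F) * (f u (T w') * σ Y)) := by
        rw [hs, hB, hlm, map_mul, S.fix]; ring
      have hE0 : E ≠ 0 := fun e => hns (by
        rw [hE, ← map_mul, hsl, map_neg, map_mul, S.fix] at e
        have hm' : (m : F) ≠ 0 := fun h => hm (Subtype.ext h)
        exact mul_left_cancel₀ hm' (by linear_combination e))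
      obtain ⟨t, ht⟩ := exists_ratio S hE0 hc' (by rw [hE, map_sub, map_mul, map_mul, hss, hss]; ring)
      have := el_mul (hconj t) (el_neg hEl)
      rw [hc0, add_neg_cancel, zero_mul, add_zero, add_neg_cancel, zero_mul, add_zero, neg_zero, add_zero] at this
      convert this using 1
      rw [ht, hE, map_mul, S.fix]
      ring
    · obtain ⟨E, hE⟩ : ∃ E, E = 2 * (c * (s * σ s)) := ⟨_, rfl⟩
      have hE0 : E ≠ 0 := hE ▸ mul_ne_zero S.two (mul_ne_zero hc0 (mul_ne_zero hs0 ((map_ne_zero σ).mpr hs0)))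
      obtain ⟨t, ht⟩ := exists_ratio S hE0 hc' (by
        rw [hE, map_mul, map_mul, map_mul, map_ofNat, hss, show σ c = -c by linear_combination hcc]; ring)
      have sq : ∀ t : F₀, El 0 0 ((t : F) * (t : F) * E) := fun t => by
        have := el_mul (el_mul (hconj t) (el_neg hEl)) (el_mul (hconj (-t)) (el_neg hEl))
        rw [show c + -c + (c + -c) = 0 by ring] at this
        convert this using 1
        · rw [Subfield.coe_neg, neg_mul, map_neg]; ring
        · rw [hE, Subfield.coe_neg, neg_mul, map_neg, map_mul, S.fix]; ring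
      have := el_mul (sq ((1 + t) / 2)) (el_neg (sq ((1 - t) / 2)))
      rw [neg_zero, add_zero] at this
      convert this using 1
      rw [ht]
      have := S.two
      simp only [Subfield.coe_div, Subfield.coe_add, Subfield.coe_sub, Subfield.coe_one,
        show ((2 : F₀) : F) = 2 from map_ofNat F₀.subtype 2]
      field_simp
      ring
  have e : y = h := gl_ext_mulVec fun x => by
    rw [hy, hx, map_zero]
    module
  rw [e]
  exact hh

/-- An element moving a real vector off the real lines gives a full transvection group. -/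
theorem exists_ctr {g : GL ι F} (hg : g ∈ K) {z : ι → F₀} (hz : Q z = 0)
    (hirr : ¬ ∃ (μ : F) (w : ι → F₀), (g : Matrix ι ι F) *ᵥ T z = μ • T w) :
    ∃ a, Q a = 0 ∧ a ≠ 0 ∧ Ctr σ f K (T a) := by
  classical
  have hbig := S.big
  obtain ⟨ν, hν⟩ := exists_nu S
  obtain ⟨p, q, hu⟩ := S.T_dec ((g : Matrix ι ι F) *ᵥ T z)
  have hqp : ∀ c : F₀, q ≠ c • p := fun c e => hirr ⟨1 + θ * c, p, by rw [hu, e, S.T_smul, smul_smul, add_smul, one_smul]⟩
  have hpq : ∀ c : F₀, p ≠ c • q := fun c e => hirr ⟨c + θ, q, by rw [hu, e, S.T_smul, add_smul]⟩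
  -- a neighbour with image outside the span
  obtain ⟨b, hb, hzb, hout⟩ : ∃ b, Q b = 0 ∧ ⟪z, b⟫ = 0 ∧ ∀ x y : F, (g : Matrix ι ι F) *ᵥ T b ≠ x • T p + y • T q := by
    let R : Submodule F₀ (ι → F₀) :=
      { carrier := {b | ∃ x y : F, (g : Matrix ι ι F) *ᵥ T b = x • T p + y • T q}
        zero_mem' := ⟨0, 0, by rw [T_zero S, Matrix.mulVec_zero, zero_smul, zero_smul, add_zero]⟩
        add_mem' := by
          rintro m n ⟨x, y, h⟩ ⟨x', y', h'⟩
          exact ⟨x + x', y + y', by rw [S.T_add, Matrix.mulVec_add, h, h']; module⟩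
        smul_mem' := by
          rintro t m ⟨x, y, h⟩
          exact ⟨t * x, t * y, by rw [S.T_smul, Matrix.mulVec_smul, h]; module⟩ }
    have hzR : z ∈ R := ⟨1, θ, by rw [hu, one_smul]⟩
    have hz0 : z ≠ 0 := fun e => hirr ⟨0, 0, by rw [e, T_zero S, Matrix.mulVec_zero, zero_smul]⟩
    by_cases hone : ∀ m ∈ R, m ∈ Submodule.span F₀ (Set.range ![z])
    · obtain ⟨b, hb, hbs, hbt⟩ := OSim.exists_iso_wide S.D ![z] ![z] (by omega)
      exact ⟨b, hb, by rw [OSim.symm S.D]; exact hbs 0, fun x y e => hbt (hone b ⟨x, y, e⟩)⟩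
    push Not at hone
    obtain ⟨m, hmR, hmz⟩ := hone
    obtain ⟨b, hb, hbs, hbt⟩ := OSim.exists_iso_wide S.D ![z] ![z, m] (by omega)
    refine ⟨b, hb, by rw [OSim.symm S.D]; exact hbs 0, fun x y e => hbt ?_⟩
    obtain ⟨x₁, y₁, h1⟩ := hmR
    -- three real vectors in a plane over the field are dependent
    have hy₁ : y₁ ≠ θ * x₁ := fun e' => by
      have h2 : (g : Matrix ι ι F) *ᵥ T m = (g : Matrix ι ι F) *ᵥ (x₁ • T z) := by
        rw [Matrix.mulVec_smul, hu, h1, e', smul_add, smul_smul, mul_comm x₁ θ]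
      obtain ⟨c0, c1, hc⟩ := S.dec x₁
      have h3 := T_unique S (u := m) (u' := 0) (w := c0 • z) (w' := c1 • z) (by
        rw [gl_mulVec_injective g h2, hc, T_zero S, S.T_smul, S.T_smul]; module)
      exact hmz (by rw [h3.1]; exact smul_mem_range (s := ![z]) 0 c0)
    obtain ⟨β, hβ⟩ : ∃ β, β = (y - θ * x) / (y₁ - θ * x₁) := ⟨_, rfl⟩
    have h4 : (g : Matrix ι ι F) *ᵥ T b = (g : Matrix ι ι F) *ᵥ ((x - β * x₁) • T z + β • T m) := by
      rw [Matrix.mulVec_add, Matrix.mulVec_smul, Matrix.mulVec_smul, hu, h1, e]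
      have h5 : β * (y₁ - θ * x₁) = y - θ * x := by rw [hβ, div_mul_cancel₀ _ (sub_ne_zero.mpr hy₁)]
      match_scalars
      · ring
      · linear_combination -h5
    obtain ⟨a0, a1, hα⟩ := S.dec (x - β * x₁)
    obtain ⟨b0, b1, hb'⟩ := S.dec β
    have h6 := T_unique S (u := b) (u' := 0) (w := a0 • z + b0 • m) (w' := a1 • z + b1 • m) (by
      rw [gl_mulVec_injective g h4, hα, hb', T_zero S]
      simp only [S.T_add, S.T_smul]
      module)
    rw [h6.1]
    exact add_mem (smul_mem_range (s := ![z, m]) 0 a0) (smul_mem_range (s := ![z, m]) 1 b0)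
  obtain ⟨r, t, hv⟩ := S.T_dec ((g : Matrix ι ι F) *ᵥ T b)
  have hrt : r ∉ Submodule.span F₀ (Set.range ![p, q]) ∨ t ∉ Submodule.span F₀ (Set.range ![p, q]) := by
    by_contra hcon
    push Not at hcon
    obtain ⟨a1, b1, hr⟩ := OSim.mem_span2 S.D hcon.1
    obtain ⟨a2, b2, ht⟩ := OSim.mem_span2 S.D hcon.2
    refine hout ((a1 : F) + θ * a2) ((b1 : F) + θ * b2) ?_
    rw [hv, hr, ht]
    simp only [S.T_add, S.T_smul]
    module
  have hiz := S.iso g hg
  obtain ⟨u, hU⟩ : ∃ u, u = (g : Matrix ι ι F) *ᵥ T z := ⟨_, rfl⟩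
  obtain ⟨v, hV⟩ : ∃ v, v = (g : Matrix ι ι F) *ᵥ T b := ⟨_, rfl⟩
  have huu : f u u = 0 := by rw [hU, hiz]; exact f_T_T S (OSim.self_zero S.D hz)
  have hvv : f v v = 0 := by rw [hV, hiz]; exact f_T_T S (OSim.self_zero S.D hb)
  have huv : f u v = 0 := by rw [hU, hV, hiz]; exact f_T_T S hzb
  have hP : InP f K u v := by
    rw [hU, hV]
    exact InP.conj S (inP_real S hz hb hzb) hg
  have hup : ∀ x, f u (T x) = (⟪p, x⟫ : F₀) + θ * (⟪q, x⟫ : F₀) := fun x => by
    rw [hU, hu, S.hs.add_left, S.hs.smul_left, S.hT, S.hT]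
  have hvp : ∀ x, f v (T x) = (⟪r, x⟫ : F₀) + θ * (⟪t, x⟫ : F₀) := fun x => by
    rw [hV, hv, S.hs.add_left, S.hs.smul_left, S.hT, S.hT]
  have hu0 : ∀ x, ⟪p, x⟫ = 0 → ⟪q, x⟫ = 0 → f u (T x) = 0 := fun x e1 e2 => by
    rw [hup, e1, e2, Subfield.coe_zero, mul_zero, add_zero]
  have hns : ∀ {X : F}, (∃ X0 X1 : F₀, X = (X0 : F) + θ * X1 ∧ X1 ≠ 0) → σ X ≠ X := by
    rintro _ ⟨X0, X1, rfl, h1⟩ e
    rw [map_add, map_mul, S.fix, S.fix, S.theta] at e
    refine h1 (Subtype.ext ?_)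
    exact (mul_eq_zero.mp (show (2 * θ) * (X1 : F) = 0 by linear_combination -e)).resolve_left
      (mul_ne_zero S.two S.theta0)
  -- the relations of the two images
  have hrel := huv
  rw [hV, hv, S.hs.add_right, S.hs.smul_right, hup, hup, S.theta] at hrel
  obtain ⟨rel1, rel2⟩ := coord_unique S (a := ⟪p, r⟫ - ν * ⟪q, t⟫) (b := ⟪q, r⟫ - ⟪p, t⟫) (by
    rw [Subfield.coe_sub, Subfield.coe_sub, Subfield.coe_mul, ← hν]
    linear_combination hrel)
  have hrel' := huu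
  nth_rw 2 [hU] at hrel'
  rw [hu, S.hs.add_right, S.hs.smul_right, hup, hup, S.theta, OSim.self_eq S.D p, OSim.self_eq S.D q,
    OSim.symm S.D q p] at hrel'
  simp only [Subfield.coe_mul] at hrel'
  have hQpq : Q p = ν * Q q := mul_left_cancel₀ S.D.h2 (Subtype.ext (by
    simp only [Subfield.coe_mul]
    rw [← hν]
    linear_combination hrel'))
  by_cases hts : Q q = 0 ∧ ⟪p, q⟫ = 0
  · -- a totally singular plane
    obtain ⟨hq, hpq'⟩ := hts
    have hp : Q p = 0 := by rw [hQpq, hq, mul_zero]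
    have hpp := OSim.self_zero S.D hp
    have hqq := OSim.self_zero S.D hq
    have hqp' : ⟪q, p⟫ = 0 := by rw [OSim.symm S.D, hpq']
    have hp0 : p ≠ 0 := fun e => hpq 0 (by rw [e, zero_smul])
    have hq0 : q ≠ 0 := fun e => hqp 0 (by rw [e, zero_smul])
    obtain ⟨w0, hw0, hw0s⟩ := OSim.exists_aniso S.D ![p, q] (by omega)
    have hw0p : ⟪p, w0⟫ = 0 := by rw [OSim.symm S.D]; exact hw0s 0
    have hw0q : ⟪q, w0⟫ = 0 := by rw [OSim.symm S.D]; exact hw0s 1
    have hp' : p ∉ Submodule.span F₀ (Set.range ![q]) := fun h => by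
      obtain ⟨c, hc⟩ := OSim.mem_span1 S.D h; exact hpq c hc
    have hq' : q ∉ Submodule.span F₀ (Set.range ![p]) := fun h => by
      obtain ⟨c, hc⟩ := OSim.mem_span1 S.D h; exact hqp c hc
    obtain ⟨wp, hwps, hwpp⟩ := OSim.exists_sep S.D hp'
    obtain ⟨wq, hwqs, hwqq⟩ := OSim.exists_sep S.D hq'
    have e1 : ⟪q, wp⟫ = 0 := by rw [OSim.symm S.D]; exact hwps 0
    have e2 : ⟪p, wp⟫ = 1 := by rw [OSim.symm S.D]; exact hwpp
    have e3 : ⟪p, wq⟫ = 0 := by rw [OSim.symm S.D]; exact hwqs 0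
    have e4 : ⟪q, wq⟫ = 1 := by rw [OSim.symm S.D]; exact hwqq
    by_cases hρ : ⟪r, p⟫ = 0
    swap
    · refine ⟨p, hp, hp0, ctr_of_move S (w := w0) (w' := wq) huu hvv huv hP hp (hu0 p hpp hqp') hw0p e3
        (hu0 w0 hw0p hw0q) (Or.inr ⟨hw0, rfl⟩) (hns ⟨-(ν * ⟪t, p⟫), ⟪r, p⟫, ?_, hρ⟩)⟩
      rw [hup, hvp, e3, e4, Subfield.coe_zero, Subfield.coe_one, mul_one, zero_add, map_add, map_mul, S.fix, S.fix,
        S.theta, Subfield.coe_neg, Subfield.coe_mul, ← hν]
      ring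
    by_cases hτ : ⟪t, p⟫ = 0
    swap
    · have hν0 : ν ≠ 0 := fun e => by
        rw [e, Subfield.coe_zero, mul_self_eq_zero] at hν; exact S.theta0 hν
      have h1 : ⟪t, q⟫ = 0 := by
        have : ν * ⟪q, t⟫ = 0 := by
          rw [OSim.symm S.D p r, hρ, zero_sub, neg_eq_zero] at rel1
          exact rel1
        rw [OSim.symm S.D]; exact (mul_eq_zero.mp this).resolve_left hν0
      have h2 : ⟪r, q⟫ = ⟪t, p⟫ := by
        rw [OSim.symm S.D r q, OSim.symm S.D t p]; exact sub_eq_zero.mp rel2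
      have h0 : Q (p + q) = 0 := by rw [OSim.quad_sum S.D, hp, hq, hpq']; ring
      refine ⟨p + q, h0, fun e => hpq (-1) (by rw [eq_neg_of_add_eq_zero_left e, neg_one_smul]),
        ctr_of_move S (w := w0) (w' := wp - wq) huu hvv huv hP h0
          (hu0 _ (by rw [OSim.add_right S.D, hpp, hpq', add_zero]) (by rw [OSim.add_right S.D, hqp', hqq, add_zero]))
          (by rw [OSim.add_left S.D, hw0p, hw0q, add_zero])
          (by rw [OSim.add_left S.D, OSim.sub_right S.D, OSim.sub_right S.D, e2, e3, e1, e4]; ring)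
          (hu0 w0 hw0p hw0q) (Or.inr ⟨hw0, rfl⟩) (hns ⟨(1 + ν) * ⟪t, p⟫, -(2 * ⟪t, p⟫), ?_, ?_⟩)⟩
      · rw [hup, hvp, OSim.sub_right S.D, OSim.sub_right S.D, e1, e2, e3, e4, OSim.add_right S.D r,
          OSim.add_right S.D t, hρ, h1, h2, zero_add, add_zero]
        simp only [map_add, map_mul, S.fix, S.theta, Subfield.coe_mul, Subfield.coe_add, Subfield.coe_one,
          Subfield.coe_neg, Subfield.coe_sub, Subfield.coe_zero, show ((2 : F₀) : F) = 2 from map_ofNat F₀.subtype 2]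
        rw [← hν]
        ring
      · exact neg_ne_zero.mpr (mul_ne_zero S.D.h2 hτ)
    have h3 : ⟪r, q⟫ = 0 := by
      rw [OSim.symm S.D r q]
      rw [OSim.symm S.D p t, hτ, sub_zero] at rel2
      exact rel2
    have h4 : ⟪t, q⟫ = 0 := by
      have hν0 : ν ≠ 0 := fun e => by
        rw [e, Subfield.coe_zero, mul_self_eq_zero] at hν; exact S.theta0 hν
      have : ν * ⟪q, t⟫ = 0 := by
        rw [OSim.symm S.D p r, hρ, zero_sub, neg_eq_zero] at rel1
        exact rel1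
      rw [OSim.symm S.D]; exact (mul_eq_zero.mp this).resolve_left hν0
    by_cases hr : r ∈ Submodule.span F₀ (Set.range ![p, q])
    · obtain ⟨w, hws, hwt⟩ := OSim.exists_sep S.D (hrt.resolve_left (not_not.mpr hr))
      have f1 : ⟪p, w⟫ = 0 := by rw [OSim.symm S.D]; exact hws 0
      have f2 : ⟪q, w⟫ = 0 := by rw [OSim.symm S.D]; exact hws 1
      obtain ⟨c, d, hcd⟩ := OSim.mem_span2 S.D hr
      refine ⟨q, hq, hq0, ctr_of_move S (w := w) (w' := wp) huu hvv huv hP hq (hu0 q hpq' hqq) f2 e1 (hu0 w f1 f2)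
        (Or.inl ⟨by rw [hvp, h3, h4, Subfield.coe_zero, mul_zero, add_zero], rfl⟩)
        (hns ⟨0, -1, ?_, neg_ne_zero.mpr one_ne_zero⟩)⟩
      have hrw : ⟪r, w⟫ = 0 := by
        rw [hcd, OSim.add_left S.D, OSim.smul_left S.D, OSim.smul_left S.D, f1, f2, mul_zero, mul_zero, add_zero]
      rw [hup, hvp, e2, e1, hrw, OSim.symm S.D t w, hwt]
      simp [S.theta]
    · obtain ⟨w, hws, hwr⟩ := OSim.exists_sep S.D hr
      have f1 : ⟪p, w⟫ = 0 := by rw [OSim.symm S.D]; exact hws 0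
      have f2 : ⟪q, w⟫ = 0 := by rw [OSim.symm S.D]; exact hws 1
      refine ⟨p, hp, hp0, ctr_of_move S (w := w) (w' := wq) huu hvv huv hP hp (hu0 p hpp hqp') f1 e3 (hu0 w f1 f2)
        (Or.inl ⟨by rw [hvp, hρ, hτ, Subfield.coe_zero, mul_zero, add_zero], rfl⟩)
        (hns ⟨-(ν * ⟪t, w⟫), 1, ?_, one_ne_zero⟩)⟩
      rw [hup, hvp, e3, e4, OSim.symm S.D r w, hwr]
      simp only [map_add, map_mul, map_one, S.fix, S.theta, Subfield.coe_mul, Subfield.coe_one, Subfield.coe_neg,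
        Subfield.coe_zero]
      rw [← hν]
      ring
  -- a non-degenerate plane: isotropic vectors of its perpendicular space see the image
  have hsol : ∀ x : ι → F₀, x ∈ Submodule.span F₀ (Set.range ![p, q]) → ⟪x, p⟫ = 0 → ⟪x, q⟫ = 0 → x = 0 := by
    intro x hx h1 h2
    obtain ⟨c, d, rfl⟩ := OSim.mem_span2 S.D hx
    rw [OSim.add_left S.D, OSim.smul_left S.D, OSim.smul_left S.D, OSim.self_eq S.D p, hQpq, OSim.symm S.D q p] at h1
    rw [OSim.add_left S.D, OSim.smul_left S.D, OSim.smul_left S.D, OSim.self_eq S.D q] at h2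
    obtain ⟨D, hD⟩ : ∃ D, D = 4 * ν * Q q * Q q - ⟪p, q⟫ * ⟪p, q⟫ := ⟨_, rfl⟩
    have hD0 : D ≠ 0 := by
      intro e
      rw [hD] at e
      by_cases hq : Q q = 0
      · refine hts ⟨hq, ?_⟩
        rw [hq] at e
        exact mul_self_eq_zero.mp (by linear_combination -e)
      · -- `ν` is not a square
        obtain ⟨k, hk⟩ : ∃ k, k = ⟪p, q⟫ / (2 * Q q) := ⟨_, rfl⟩
        have hkk : k * k = ν := by
          have h2q := mul_ne_zero S.D.h2 hq
          have hks : k * (2 * Q q) = ⟪p, q⟫ := by rw [hk, div_mul_cancel₀ _ h2q]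
          refine sub_eq_zero.mp ((mul_eq_zero.mp (show (k * k - ν) * ((2 * Q q) * (2 * Q q)) = 0 by
            linear_combination (k * (2 * Q q) + ⟪p, q⟫) * hks - e)).resolve_right (mul_ne_zero h2q h2q))
        have h5 : (θ - (k : F)) * (θ + k) = 0 := by
          have := congrArg Subtype.val hkk
          rw [Subfield.coe_mul, ← hν] at this
          linear_combination -this
        rcases mul_eq_zero.mp h5 with h6 | h6
        · have := (coord_unique S (a := -k) (b := 1) (by rw [Subfield.coe_neg, Subfield.coe_one]; linear_combination h6)).2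
          exact one_ne_zero this
        · have := (coord_unique S (a := k) (b := 1) (by rw [Subfield.coe_one]; linear_combination h6)).2
          exact one_ne_zero this
    have hd : d = 0 := (mul_eq_zero.mp (show D * d = 0 by rw [hD]; linear_combination 2 * ν * Q q * h2 - ⟪p, q⟫ * h1)).resolve_left hD0
    have hc : c = 0 := (mul_eq_zero.mp (show D * c = 0 by rw [hD]; linear_combination 2 * Q q * h1 - ⟪p, q⟫ * h2)).resolve_left hD0
    rw [hc, hd, zero_smul, zero_smul, add_zero]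
  obtain ⟨y, hyS, hy⟩ : ∃ y, y ∉ Submodule.span F₀ (Set.range ![p, q]) ∧ ∀ x, ⟪y, x⟫ ≠ 0 → f v (T x) ≠ 0 := by
    rcases hrt with h | h
    · exact ⟨r, h, fun x hx e => hx (coord_unique S (by rw [← hvp]; exact e)).1⟩
    · exact ⟨t, h, fun x hx e => hx (coord_unique S (by rw [← hvp]; exact e)).2⟩
  have partner : ∀ a, Q a = 0 → a ≠ 0 → ⟪a, p⟫ = 0 → ⟪a, q⟫ = 0 →
      ∃ z', Q z' = 0 ∧ ⟪z', p⟫ = 0 ∧ ⟪z', q⟫ = 0 ∧ ⟪a, z'⟫ = 1 := by
    intro a ha ha0 hap haq
    obtain ⟨x, hxs, hxa⟩ := OSim.exists_sep S.D (s := ![p, q]) (a := a) fun h => ha0 (hsol a h hap haq)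
    refine ⟨x + (-Q x) • a, ?_, ?_, ?_, ?_⟩
    · rw [OSim.quad_sum S.D, OSim.quad_smul S.D, ha, OSim.smul_right S.D, hxa]; ring
    · rw [OSim.add_left S.D, OSim.smul_left S.D, show ⟪x, p⟫ = 0 from hxs 0, hap, mul_zero, add_zero]
    · rw [OSim.add_left S.D, OSim.smul_left S.D, show ⟪x, q⟫ = 0 from hxs 1, haq, mul_zero, add_zero]
    · rw [OSim.add_right S.D, OSim.smul_right S.D, OSim.symm S.D a x, hxa, OSim.self_zero S.D ha, mul_zero, add_zero]
  obtain ⟨a, ha, hap, haq, hay⟩ : ∃ a, Q a = 0 ∧ ⟪a, p⟫ = 0 ∧ ⟪a, q⟫ = 0 ∧ ⟪y, a⟫ ≠ 0 := by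
    obtain ⟨a, ha, has, hat⟩ := OSim.exists_iso_wide S.D ![p, q] (t := ![]) (by omega)
    have hap : ⟪a, p⟫ = 0 := has 0
    have haq : ⟪a, q⟫ = 0 := has 1
    by_cases h1 : ⟪y, a⟫ = 0
    swap
    · exact ⟨a, ha, hap, haq, h1⟩
    obtain ⟨z', hz', hz'p, hz'q, haz⟩ := partner a ha (fun e => hat (by rw [e]; exact zero_mem _)) hap haq
    by_cases h2 : ⟪y, z'⟫ = 0
    swap
    · exact ⟨z', hz', hz'p, hz'q, h2⟩
    obtain ⟨x, hxs, hxy⟩ := OSim.exists_sep S.D (s := ![p, q, a, z']) (a := y) fun h => by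
      obtain ⟨c, hc⟩ := (Submodule.mem_span_range_iff_exists_fun F₀).mp h
      simp only [Fin.sum_univ_four, Matrix.cons_val_zero, Matrix.cons_val_one, Matrix.cons_val] at hc
      have h3 := congrArg (fun w => ⟪w, a⟫) hc
      have h4 := congrArg (fun w => ⟪w, z'⟫) hc
      simp only [OSim.add_left S.D, OSim.smul_left S.D, h1, h2, OSim.symm S.D p a, hap, OSim.symm S.D q a, haq,
        OSim.self_zero S.D ha, OSim.symm S.D z' a, haz, OSim.symm S.D p z', hz'p, OSim.symm S.D q z', hz'q,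
        OSim.self_zero S.D hz', mul_zero, mul_one, zero_add, add_zero] at h3 h4
      refine hyS ?_
      rw [← hc, h3, h4, zero_smul, zero_smul, add_zero, add_zero]
      exact add_mem (smul_mem_range (s := ![p, q]) 0 _) (smul_mem_range (s := ![p, q]) 1 _)
    refine ⟨a + (-Q x) • z' + x, ?_, ?_, ?_, ?_⟩
    · rw [OSim.quad_sum S.D, OSim.quad_sum S.D, OSim.quad_smul S.D, ha, hz', OSim.smul_right S.D, haz,
        OSim.add_left S.D, OSim.smul_left S.D, OSim.symm S.D a x, show ⟪x, a⟫ = 0 from hxs 2, OSim.symm S.D z' x,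
        show ⟪x, z'⟫ = 0 from hxs 3]
      ring
    · rw [OSim.add_left S.D, OSim.add_left S.D, OSim.smul_left S.D, hap, hz'p, show ⟪x, p⟫ = 0 from hxs 0]; ring
    · rw [OSim.add_left S.D, OSim.add_left S.D, OSim.smul_left S.D, haq, hz'q, show ⟪x, q⟫ = 0 from hxs 1]; ring
    · rw [OSim.add_right S.D, OSim.add_right S.D, OSim.smul_right S.D, h1, h2, OSim.symm S.D y x, hxy]; simp
  have ha0 : a ≠ 0 := fun e => hay (by rw [e, OSim.zero_right S.D])
  obtain ⟨w, hw, hwp, hwq, hwa⟩ : ∃ w, Q w ≠ 0 ∧ ⟪w, p⟫ = 0 ∧ ⟪w, q⟫ = 0 ∧ ⟪w, a⟫ = 0 := by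
    obtain ⟨z', hz', hz'p, hz'q, haz⟩ := partner a ha ha0 hap haq
    obtain ⟨W, hW, hWd⟩ := OSim.exists_perpSpace S.D ![p, q, a, z']
    obtain ⟨x, hx, hx0⟩ := Submodule.exists_mem_ne_zero_of_ne_bot (p := W) fun e => by
      rw [e, finrank_bot] at hWd; omega
    by_cases hQx : Q x = 0
    swap
    · exact ⟨x, hQx, hW x hx 0, hW x hx 1, hW x hx 2⟩
    obtain ⟨x', hx's, hx'x⟩ := OSim.exists_sep S.D (s := ![p, q, a, z']) (a := x) fun h => by
      obtain ⟨c, hc⟩ := (Submodule.mem_span_range_iff_exists_fun F₀).mp h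
      simp only [Fin.sum_univ_four, Matrix.cons_val_zero, Matrix.cons_val_one, Matrix.cons_val] at hc
      have h3 := congrArg (fun w => ⟪w, a⟫) hc
      have h4 := congrArg (fun w => ⟪w, z'⟫) hc
      simp only [OSim.add_left S.D, OSim.smul_left S.D, show ⟪x, a⟫ = 0 from hW x hx 2,
        show ⟪x, z'⟫ = 0 from hW x hx 3, OSim.symm S.D p a, hap, OSim.symm S.D q a, haq,
        OSim.self_zero S.D ha, OSim.symm S.D z' a, haz, OSim.symm S.D p z', hz'p, OSim.symm S.D q z', hz'q,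
        OSim.self_zero S.D hz', mul_zero, mul_one, zero_add, add_zero] at h3 h4
      refine hx0 (hsol x ?_ (hW x hx 0) (hW x hx 1))
      rw [← hc, h3, h4, zero_smul, zero_smul, add_zero, add_zero]
      exact add_mem (smul_mem_range (s := ![p, q]) 0 _) (smul_mem_range (s := ![p, q]) 1 _)
    by_cases hQx' : Q x' = 0
    swap
    · exact ⟨x', hQx', hx's 0, hx's 1, hx's 2⟩
    refine ⟨x + x', by rw [OSim.quad_sum S.D, hQx, hQx', OSim.symm S.D, hx'x]; simp, ?_, ?_, ?_⟩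
    · rw [OSim.add_left S.D, show ⟪x, p⟫ = 0 from hW x hx 0, show ⟪x', p⟫ = 0 from hx's 0, add_zero]
    · rw [OSim.add_left S.D, show ⟪x, q⟫ = 0 from hW x hx 1, show ⟪x', q⟫ = 0 from hx's 1, add_zero]
    · rw [OSim.add_left S.D, show ⟪x, a⟫ = 0 from hW x hx 2, show ⟪x', a⟫ = 0 from hx's 2, add_zero]
  obtain ⟨wp, hwps, hwpp⟩ := OSim.exists_sep S.D (s := ![q, a]) (a := p) fun h => by
    obtain ⟨c, d, e⟩ := OSim.mem_span2 S.D h
    have h0 : d • a = 0 := hsol _ (by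
      rw [show d • a = p + (-c) • q by rw [e]; module]
      exact add_mem (Submodule.subset_span ⟨0, rfl⟩) (smul_mem_range (s := ![p, q]) 1 _))
      (by rw [OSim.smul_left S.D, hap, mul_zero]) (by rw [OSim.smul_left S.D, haq, mul_zero])
    exact hpq c (by rw [e, h0, add_zero])
  obtain ⟨wq, hwqs, hwqq⟩ := OSim.exists_sep S.D (s := ![p, a]) (a := q) fun h => by
    obtain ⟨c, d, e⟩ := OSim.mem_span2 S.D h
    have h0 : d • a = 0 := hsol _ (by
      rw [show d • a = q + (-c) • p by rw [e]; module]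
      exact add_mem (Submodule.subset_span ⟨1, rfl⟩) (smul_mem_range (s := ![p, q]) 0 _))
      (by rw [OSim.smul_left S.D, hap, mul_zero]) (by rw [OSim.smul_left S.D, haq, mul_zero])
    exact hqp c (by rw [e, h0, add_zero])
  obtain ⟨S0, S1, hS⟩ := S.dec (θ * f v (T a))
  refine ⟨a, ha, ha0, ctr_of_move S (w := w) (w' := S0 • wp + S1 • wq) huu hvv huv hP ha
    (hu0 a (by rw [OSim.symm S.D, hap]) (by rw [OSim.symm S.D, haq])) (by rw [OSim.symm S.D, hwa]) ?_
    (hu0 w (by rw [OSim.symm S.D, hwp]) (by rw [OSim.symm S.D, hwq])) (Or.inr ⟨hw, rfl⟩) ?_⟩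
  · rw [OSim.add_right S.D, OSim.smul_right S.D, OSim.smul_right S.D, OSim.symm S.D a wp,
      show ⟪wp, a⟫ = 0 from hwps 1, OSim.symm S.D a wq, show ⟪wq, a⟫ = 0 from hwqs 1, mul_zero, mul_zero, add_zero]
  · obtain ⟨Y, hY⟩ : ∃ Y, Y = f v (T a) := ⟨_, rfl⟩
    rw [← hY] at hS ⊢
    have hY0 : Y ≠ 0 := hY ▸ hy a hay
    have e : f u (T (S0 • wp + S1 • wq)) = θ * Y := by
      rw [hS, hup, OSim.add_right S.D, OSim.add_right S.D, OSim.smul_right S.D, OSim.smul_right S.D,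
        OSim.smul_right S.D, OSim.smul_right S.D, OSim.symm S.D p wp, hwpp, OSim.symm S.D q wq, hwqq,
        OSim.symm S.D q wp, show ⟪wp, q⟫ = 0 from hwps 0, OSim.symm S.D p wq, show ⟪wq, p⟫ = 0 from hwqs 0]
      simp
    have hσσ : σ (σ Y) = Y := by
      obtain ⟨a', b', rfl⟩ := S.dec Y
      simp only [map_add, map_mul, S.fix, S.theta, map_neg, neg_neg]
    rw [e, map_mul, map_mul, S.theta, hσσ]
    intro h
    exact mul_ne_zero (mul_ne_zero (mul_ne_zero S.two S.theta0) hY0) ((map_ne_zero σ).mpr hY0)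
      (by linear_combination -h)

/-- The transvection groups of all isotropic vectors follow from one real one. -/
theorem all_ctr {a : ι → F₀} (ha : Q a = 0) (ha0 : a ≠ 0) (hC : Ctr σ f K (T a)) (v : ι → F) : Ctr σ f K v := by
  obtain ⟨ν, hν⟩ := exists_nu S
  have hν0 : ν ≠ 0 := fun e => by
    rw [e, Subfield.coe_zero, mul_self_eq_zero] at hν
    exact S.theta0 hν
  have mv : ∀ x x', Q x = 0 → Q x' = 0 → ⟪x, x'⟫ = 0 → x ≠ 0 → x' ∉ Submodule.span F₀ (Set.range ![x]) →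
      Ctr σ f K (T x) → Ctr σ f K (T x') := by
    intro x x' hx hx' hxx hx0 hind hcx
    obtain ⟨u, hu, hus, hux⟩ := OSim.exists_iso_val S.D (s := ![x' - x]) (a := x) (fun hm => by
      obtain ⟨c, hc⟩ := OSim.mem_span1 S.D hm
      have hc0 : c ≠ 0 := fun e => hx0 (by rw [hc, e, zero_smul])
      refine hind ?_
      have e : x' = (c⁻¹ * (1 + c)) • x := by
        rw [← smul_smul, add_smul, one_smul]
        nth_rewrite 1 [hc]
        rw [← smul_add, sub_add_cancel, smul_smul, inv_mul_cancel₀ hc0, one_smul]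
      rw [e]
      exact smul_mem_range (s := ![x]) 0 _) (by have := S.big; omega)
    have huw : ⟪u, x' - x⟫ = 0 := hus 0
    obtain ⟨k, hk, hkv⟩ := S.eich u (x' - x) hu huw
    have hQw : Q (x' - x) = 0 := by
      rw [sub_eq_add_neg, OSim.quad_sum S.D, ← neg_one_smul F₀ x, OSim.quad_smul S.D, hx', hx, OSim.smul_right S.D,
        OSim.symm S.D x' x, hxx]
      ring
    have := Ctr.conj S hk hcx
    rwa [hkv, OSim.symm S.D x u, hux, one_smul, OSim.sub_right S.D, hxx, OSim.self_zero S.D hx, sub_self, hQw,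
      zero_mul, add_zero, zero_smul, sub_zero, add_sub_cancel] at this
  have hreal : ∀ x, Q x = 0 → Ctr σ f K (T x) := by
    intro x hx
    by_cases hx0 : x = 0
    · rw [hx0, T_zero S]; exact ctr_zero S
    exact link S (P := fun x => Ctr σ f K (T x))
      (fun x y hx hy hxy hx0 _ _ hind h => mv x y hx hy hxy hx0 hind h) ha ha0 hx hx0 hC
  -- one move
  have hmove : ∀ (y y' x : ι → F₀) (r : F₀), Q x = 0 →
      Ctr σ f K (T (y + (ν * r * ⟪y', x⟫) • x) + θ • T (y' + (r * ⟪y, x⟫) • x)) →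
      Ctr σ f K (T y + θ • T y') := by
    intro y y' x r hx h
    have hxx : f (T x) (T x) = 0 := f_T_T S (OSim.self_zero S.D hx)
    have hc : θ * (r : F) + σ (θ * r) = 0 := by rw [map_mul, S.theta, S.fix]; ring
    obtain ⟨k, hk⟩ := S.trans (T x) (θ * r) hxx hc
    refine Ctr.of_conj S (hreal x hx hxx _ hc k hk) ?_
    rw [hk, S.hs.add_left, S.hs.smul_left, S.hT, S.hT]
    convert h using 1
    simp only [S.T_add, S.T_smul, Subfield.coe_mul, ← hν]
    module
  have hline : ∀ (l : F) (x : ι → F₀), Ctr σ f K (l • T x) := by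
    intro l x
    by_cases hl : l = 0
    · rw [hl, zero_smul]; exact ctr_zero S
    intro hiso
    refine Ctr.smul S (hreal x ?_) hl hiso
    rw [S.hs.smul_left, S.hs.smul_right, S.hT] at hiso
    have hσl : σ l ≠ 0 := by simpa using hl
    have h1 : ⟪x, x⟫ = 0 := Subtype.ext ((mul_eq_zero.mp ((mul_eq_zero.mp hiso).resolve_left hl)).resolve_left hσl)
    rw [OSim.self_eq S.D] at h1
    exact (mul_eq_zero.mp h1).resolve_left S.D.h2
  have hdep : ∀ y y' : ι → F₀, (y = 0 ∨ ∃ c : F₀, y' = c • y) → Ctr σ f K (T y + θ • T y') := by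
    intro y y' h
    rcases h with rfl | ⟨c, rfl⟩
    · rw [T_zero S, zero_add]; exact hline θ y'
    · rw [S.T_smul, smul_smul, ← one_smul F (T y), smul_smul, mul_one, ← add_smul]; exact hline _ y
  have hts : ∀ y y', Q y = 0 → Q y' = 0 → ⟪y, y'⟫ ≠ 0 → Ctr σ f K (T y + θ • T y') := by
    intro y y' hy hy' he
    refine hmove y y' y' (-(⟪y, y'⟫)⁻¹) hy' ?_
    rw [OSim.self_zero S.D hy', mul_zero, zero_smul, add_zero, neg_mul, inv_mul_cancel₀ he, neg_one_smul,
      add_neg_cancel, T_zero S, smul_zero, add_zero]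
    exact hreal y hy
  have hiso2 : ∀ y y', Q y = 0 → Q y' = 0 → Ctr σ f K (T y + θ • T y') := by
    intro y y' hy hy'
    by_cases he : ⟪y, y'⟫ = 0
    swap
    · exact hts y y' hy hy' he
    by_cases hd : y = 0 ∨ ∃ c : F₀, y' = c • y
    · exact hdep y y' hd
    push Not at hd
    obtain ⟨x, hx, hxs, hxy⟩ := OSim.exists_iso_val S.D (s := ![y']) (a := y) (fun hm => by
      obtain ⟨c, hc⟩ := OSim.mem_span1 S.D hm
      have hc0 : c ≠ 0 := fun e => hd.1 (by rw [hc, e, zero_smul])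
      exact hd.2 c⁻¹ (by rw [hc, smul_smul, inv_mul_cancel₀ hc0, one_smul])) (by have := S.big; omega)
    have hxy' : ⟪y', x⟫ = 0 := by rw [OSim.symm S.D]; exact hxs 0
    rw [OSim.symm S.D] at hxy
    refine hmove y y' x 1 hx ?_
    rw [hxy, hxy', mul_zero, zero_smul, add_zero, one_mul, one_smul]
    refine hts _ _ hy (by rw [OSim.quad_sum S.D, hy', hx, hxy', add_zero, add_zero]) ?_
    rw [OSim.add_right S.D, he, hxy, zero_add]
    exact one_ne_zero
  obtain ⟨y, y', rfl⟩ := S.T_dec v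
  intro hiso
  have hrel : ∀ y y', f (T y + θ • T y') (T y + θ • T y') = 0 → Q y = ν * Q y' := fun y y' h => by
    rw [S.hs.add_left, S.hs.add_right, S.hs.add_right, S.hs.smul_left, S.hs.smul_left, S.hs.smul_right,
      S.hs.smul_right, S.hT, S.hT, S.hT, S.hT, S.theta, OSim.self_eq S.D, OSim.self_eq S.D,
      OSim.symm S.D y' y] at h
    refine mul_left_cancel₀ S.D.h2 (Subtype.ext ?_)
    simp only [Subfield.coe_mul] at h ⊢
    rw [← hν]
    linear_combination h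
  revert hiso
  by_cases hd : y = 0 ∨ ∃ c : F₀, y' = c • y
  · exact hdep y y' hd
  push Not at hd
  intro hiso
  obtain ⟨x, hx, hxs, hxy'⟩ := OSim.exists_iso_val S.D (s := ![y - y']) (a := y') (fun hm => by
    obtain ⟨c, hc⟩ := OSim.mem_span1 S.D hm
    by_cases hc1 : 1 + c = 0
    · refine hd.1 ?_
      rw [show c = -1 by linear_combination hc1, neg_one_smul, neg_sub] at hc
      exact sub_eq_self.mp hc.symm
    refine hd.2 ((1 + c)⁻¹ * c) ?_
    have : (1 + c) • y' = c • y := by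
      rw [add_smul, one_smul]
      nth_rewrite 1 [hc]
      rw [← smul_add, sub_add_cancel]
    rw [← smul_smul, ← this, smul_smul, inv_mul_cancel₀ hc1, one_smul]) (by have := S.big; omega)
  have hxy : ⟪y, x⟫ = 1 := by
    have : ⟪x, y - y'⟫ = 0 := hxs 0
    rw [OSim.sub_right S.D, hxy', sub_eq_zero] at this
    rw [OSim.symm S.D, this]
  rw [OSim.symm S.D] at hxy'
  refine hmove y y' x (-Q y * ν⁻¹) hx ?_ hiso
  rw [hxy, hxy', mul_one, mul_one, mul_comm ν, mul_assoc, inv_mul_cancel₀ hν0, mul_one]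
  have hy1 : Q (y + (-Q y) • x) = 0 := by
    rw [OSim.quad_sum S.D, OSim.quad_smul S.D, hx, OSim.smul_right S.D, hxy]; ring
  intro hiso1
  have h1 := hrel _ _ hiso1
  rw [hy1] at h1
  exact hiso2 _ _ hy1 ((mul_eq_zero.mp h1.symm).resolve_left hν0) hiso1

end Cfsg.Agent.Classical.OInU
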