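import Mathlib
import Cfsg.Agent.S0801

/-!
# The subgroup of `SL₂` generated over a simple algebraic extension

Over an infinite ground field `k` an upper triangular element is found by a regular continued
fraction of `γ = X π` (`π` the minimal polynomial): the denominators are the orthogonal polynomials of
the functional `f ↦ coeff n (f E mod γ)`, regular for generic `E`. Over a finite one Dickson's
theorem on two transvections applies.
-/

set_option autoImplicit false
set_option linter.unusedSectionVars false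

namespace Cfsg.Agent.Classical.SL2SimpleExt

open Polynomial Matrix
open Cfsg.Agent.Fusion.Dickson (upU lowL ext' mul_entry det_eq inv_entries upU_mul lowL_mul upU_zero lowL_zero)

variable {k : Type*} [Field k]

/-! ### Generic conditions on polynomials -/

/-- A nonempty condition failing only finitely often on each line through a point of it. -/
def IsGen (P : k[X] → Prop) : Prop :=
  (∃ E, P E) ∧ ∀ E E', P E → {t : k | ¬ P (E + C t * E')}.Finite

theorem IsGen.and [Infinite k] {P Q : k[X] → Prop} (hP : IsGen P) (hQ : IsGen Q) :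
    IsGen fun E => P E ∧ Q E := by
  refine ⟨?_, fun E E' h => ((hP.2 E E' h.1).union (hQ.2 E E' h.2)).subset fun t ht => not_and_or.mp ht⟩
  obtain ⟨E, hE⟩ := hP.1
  obtain ⟨E', hE'⟩ := hQ.1
  have h1 := hP.2 E (E' - E) hE
  have h2 : {t : k | ¬ Q (E + C t * (E' - E))}.Finite := by
    refine ((hQ.2 E' (E' - E) hE').image fun t => t + 1).subset fun t ht => ⟨t - 1, ?_, by simp⟩
    show ¬ Q (E' + C (t - 1) * (E' - E))
    rw [show E' + C (t - 1) * (E' - E) = E + C t * (E' - E) by rw [C_sub, C_1]; ring]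
    exact ht
  obtain ⟨t, ht⟩ := ((h1.union h2).infinite_compl).nonempty
  simp only [Set.mem_compl_iff, Set.mem_union, Set.mem_setOf_eq, not_or, not_not] at ht
  exact ⟨_, ht⟩

theorem isGen_forall_lt [Infinite k] {P : ℕ → k[X] → Prop} :
    ∀ m, (∀ i < m, IsGen (P i)) → IsGen fun E => ∀ i < m, P i E
  | 0, _ => ⟨⟨0, fun _ h => absurd h (Nat.not_lt_zero _)⟩, fun _ _ _ => by simp⟩
  | m + 1, h => by
    have := (isGen_forall_lt m fun i hi => h i (hi.trans (Nat.lt_succ_self m))).and (h m (Nat.lt_succ_self m))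
    convert this using 1
    funext E
    rw [Nat.forall_lt_succ_right]

/-! ### The functional and its orthogonal polynomials -/

/-- `f ↦` the `n`-th coefficient of `f E` reduced modulo `γ`. -/
noncomputable def phi (n : ℕ) (γ E : k[X]) : k[X] →ₗ[k] k :=
  (lcoeff k n).comp ((modByMonicHom γ).comp (LinearMap.mulRight k E))

theorem phi_apply (n : ℕ) (γ E f : k[X]) : phi n γ E f = ((f * E) %ₘ γ).coeff n := rfl

theorem phi_line (n : ℕ) (γ E E' f : k[X]) (t : k) :
    phi n γ (E + C t * E') f = phi n γ E f + t * phi n γ E' f := by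
  rw [phi_apply, phi_apply, phi_apply, mul_add, show f * (C t * E') = t • (f * E') by rw [smul_eq_C_mul]; ring,
    add_modByMonic, smul_modByMonic, coeff_add, coeff_smul, smul_eq_mul]

theorem phi_dvd {n : ℕ} {γ E f : k[X]} (hγ : γ.Monic) (h : γ ∣ f) : phi n γ E f = 0 := by
  rw [phi_apply, (modByMonic_eq_zero_iff_dvd hγ).mpr (h.mul_right E), coeff_zero]

/-- The Hankel matrix. -/
noncomputable def hankel (n : ℕ) (γ E : k[X]) (s j : ℕ) : Matrix (Fin j) (Fin j) k :=
  Matrix.of fun a b => phi n γ E (X ^ ((a : ℕ) + b + s))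

/-- All coefficients from `j` on vanish. -/
def Small (j : ℕ) (R : k[X]) : Prop := ∀ a, j ≤ a → R.coeff a = 0

theorem Small.eq_sum {j : ℕ} {R : k[X]} (h : Small j R) : R = ∑ a : Fin j, C (R.coeff a) * X ^ (a : ℕ) := by
  ext i
  simp only [finsetSum_coeff, coeff_C_mul, coeff_X_pow, mul_ite, mul_one, mul_zero]
  by_cases hi : i < j
  · rw [Finset.sum_eq_single (⟨i, hi⟩ : Fin j)]
    · simp
    · exact fun b _ hb => if_neg fun e => hb (Fin.ext e.symm)
    · simp
  · rw [h i (not_lt.mp hi), Finset.sum_eq_zero]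
    exact fun b _ => if_neg fun e => hi (by rw [e]; exact b.2)

theorem phi_mul_pow {n : ℕ} {γ E : k[X]} {s j : ℕ} (v : Fin j → k) (i : Fin j) :
    phi n γ E ((∑ a : Fin j, C (v a) * X ^ (a : ℕ)) * X ^ ((i : ℕ) + s)) = (hankel n γ E s j *ᵥ v) i := by
  rw [Finset.sum_mul, map_sum]
  refine Finset.sum_congr rfl fun a _ => ?_
  rw [mul_assoc, ← pow_add, C_mul', map_smul, smul_eq_mul, mul_comm,
    show (a : ℕ) + (i + s) = (i : ℕ) + a + s by ring]
  rfl

theorem eq_zero_of_orth {n : ℕ} {γ E : k[X]} {s j : ℕ} (hd : (hankel n γ E s j).det ≠ 0) {R : k[X]}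
    (hR : Small j R) (ho : ∀ i < j, phi n γ E (R * X ^ (i + s)) = 0) : R = 0 := by
  have hv : hankel n γ E s j *ᵥ (fun a => R.coeff a) = 0 := by
    funext i
    rw [← phi_mul_pow, ← hR.eq_sum]
    exact ho i i.2
  have := Matrix.eq_zero_of_mulVec_eq_zero hd hv
  rw [hR.eq_sum, Finset.sum_eq_zero]
  exact fun a _ => by rw [show R.coeff a = 0 from congrFun this a, C_0, zero_mul]

theorem exists_orth {n : ℕ} {γ E : k[X]} {s j : ℕ} (hd : (hankel n γ E s j).det ≠ 0) :
    ∃ P : k[X], P.coeff j = 1 ∧ Small (j + 1) P ∧ ∀ i < j, phi n γ E (P * X ^ (i + s)) = 0 := by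
  classical
  obtain ⟨v, hv⟩ : ∃ v, hankel n γ E s j *ᵥ v = fun i : Fin j => - phi n γ E (X ^ j * X ^ ((i : ℕ) + s)) :=
    ⟨(hankel n γ E s j)⁻¹ *ᵥ (fun i : Fin j => - phi n γ E (X ^ j * X ^ ((i : ℕ) + s))), by rw [Matrix.mulVec_mulVec, Matrix.mul_nonsing_inv _ (isUnit_iff_ne_zero.mpr hd),
      Matrix.one_mulVec]⟩
  obtain ⟨S, hS⟩ : ∃ S, S = ∑ a : Fin j, C (v a) * (X : k[X]) ^ (a : ℕ) := ⟨_, rfl⟩
  have hS0 : ∀ a, j ≤ a → S.coeff a = 0 := fun a ha => by
    rw [hS, finsetSum_coeff, Finset.sum_eq_zero]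
    intro b _
    rw [coeff_C_mul, coeff_X_pow, if_neg (by have := b.2; omega), mul_zero]
  refine ⟨X ^ j + S, ?_, fun a ha => ?_, fun i hi => ?_⟩
  · rw [coeff_add, coeff_X_pow_self, hS0 j le_rfl, add_zero]
  · rw [coeff_add, coeff_X_pow, if_neg (by omega), hS0 a (by omega), add_zero]
  · rw [add_mul, map_add, hS, show i = ((⟨i, hi⟩ : Fin j) : ℕ) from rfl, phi_mul_pow, hv]
    exact add_neg_cancel _

theorem isGen_hankel {n : ℕ} {γ : k[X]} (hγ : γ.Monic) (hdeg : γ.natDegree = n + 1) {s j : ℕ}
    (hsj : j + s ≤ n + 1) : IsGen fun E => (hankel n γ E s j).det ≠ 0 := by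
  classical
  constructor
  · refine ⟨X ^ (n + 1 - (j + s)), fun h0 => ?_⟩
    obtain ⟨v, hv0, hv⟩ := Matrix.exists_mulVec_eq_zero_iff.mpr h0
    refine hv0 ?_
    have hval : ∀ a : ℕ, a ≤ j + s - 1 → 0 < j + s →
        phi n γ (X ^ (n + 1 - (j + s))) (X ^ a) = if a = j + s - 1 then 1 else 0 := by
      intro a ha hpos
      rw [phi_apply, ← pow_add, (modByMonic_eq_self_iff hγ).mpr, coeff_X_pow]
      · split_ifs <;> first | rfl | omega
      · rw [degree_X_pow, degree_eq_natDegree hγ.ne_zero, hdeg]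
        exact_mod_cast (by omega : a + (n + 1 - (j + s)) < n + 1)
    suffices h : ∀ m, ∀ b : Fin j, j - 1 - (b : ℕ) = m → v b = 0 from funext fun b => h _ b rfl
    intro m
    induction m using Nat.strong_induction_on with
    | _ m ih =>
      intro b hb
      have hj : 0 < j := Nat.lt_of_le_of_lt (Nat.zero_le _) b.2
      have hrow := congrFun hv ⟨j - 1 - b, by omega⟩
      simp only [Matrix.mulVec, dotProduct, Pi.zero_apply] at hrow
      rw [Finset.sum_eq_single b] at hrow
      · rw [hankel, Matrix.of_apply, hval _ (by simp only; omega) (by omega),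
          if_pos (by simp only; omega), one_mul] at hrow
        exact hrow
      · intro c _ hc
        rcases lt_trichotomy (c : ℕ) b with h | h | h
        · rw [hankel, Matrix.of_apply, hval _ (by simp only; omega) (by omega), if_neg (by simp only; omega), zero_mul]
        · exact absurd (Fin.ext h) hc
        · rw [ih (j - 1 - c) (by omega) c rfl, mul_zero]
      · simp
  · intro E E' hE
    obtain ⟨p, hp⟩ : ∃ p : k[X], p = ((hankel n γ E s j).map C + (X : k[X]) • (hankel n γ E' s j).map C).det := ⟨_, rfl⟩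
    have hev : ∀ t, p.eval t = (hankel n γ (E + C t * E') s j).det := fun t => by
      rw [hp, ← coe_evalRingHom, RingHom.map_det]
      congr 1
      ext a b
      simp [hankel, phi_line]
      ring
    have hp0 : p ≠ 0 := fun h => hE (by
      have := hev 0
      rwa [h, eval_zero, C_0, zero_mul, add_zero, eq_comm] at this)
    refine (p.roots.toFinset.finite_toSet).subset fun t ht => ?_
    rw [Finset.mem_coe, Multiset.mem_toFinset, mem_roots hp0, IsRoot.def, hev]
    exact not_not.mp ht

/-! ### The group -/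

variable {K : Type*} [Field K]

local notation "SL2" => Matrix.SpecialLinearGroup (Fin 2) K

theorem upU_neg (a : K) : upU (-a) = (upU a)⁻¹ :=
  eq_inv_of_mul_eq_one_left (by rw [upU_mul, neg_add_cancel, upU_zero])

theorem lowL_neg (a : K) : lowL (-a) = (lowL a)⁻¹ :=
  eq_inv_of_mul_eq_one_left (by rw [lowL_mul, neg_add_cancel, lowL_zero])

/-- The parameters of the upper transvections in a subgroup. -/
def upSet (G : Subgroup SL2) : AddSubgroup K where
  carrier := {f | upU f ∈ G}
  zero_mem' := by simp only [Set.mem_setOf_eq, upU_zero]; exact one_mem G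
  add_mem' := fun {a b} ha hb => by
    simp only [Set.mem_setOf_eq] at ha hb ⊢; rw [← upU_mul]; exact mul_mem ha hb
  neg_mem' := fun {a} ha => by
    simp only [Set.mem_setOf_eq] at ha ⊢; rw [upU_neg]; exact inv_mem ha

theorem mem_upSet {G : Subgroup SL2} {f : K} : f ∈ upSet G ↔ upU f ∈ G := Iff.rfl

theorem sq_mul_mem {G : Subgroup SL2} {g : SL2} (hg : g ∈ G) (h10 : g.1 1 0 = 0) {f : K} (hf : f ∈ upSet G) :
    g.1 0 0 ^ 2 * f ∈ upSet G := by
  have hd := det_eq g
  rw [h10, mul_zero, sub_zero] at hd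
  have e : upU (g.1 0 0 ^ 2 * f) = g * upU f * g⁻¹ := by
    obtain ⟨i1, i2, i3, i4⟩ := inv_entries g
    apply ext' <;> simp [mul_entry, i1, i2, i3, i4, h10]
    · linear_combination -hd
    · ring
    · linear_combination -hd
  rw [mem_upSet, e]
  exact mul_mem (mul_mem hg hf) (inv_mem hg)

/-- Conjugating by the diagonal matrix `(1, lam)`. -/
def scaleFun (M : Subfield K) (lam : K) (h : lam ≠ 0) (g : Matrix.SpecialLinearGroup (Fin 2) M) :
    Matrix.SpecialLinearGroup (Fin 2) K :=
  ⟨!![((g.1 0 0 : M) : K), ((g.1 0 1 : M) : K) / lam; ((g.1 1 0 : M) : K) * lam, ((g.1 1 1 : M) : K)], by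
    rw [Matrix.det_fin_two_of]
    field_simp
    exact_mod_cast det_eq g⟩

theorem scaleFun_entries (M : Subfield K) (lam : K) (h : lam ≠ 0) (g : Matrix.SpecialLinearGroup (Fin 2) M) :
    (scaleFun M lam h g).1 0 0 = ((g.1 0 0 : M) : K) ∧ (scaleFun M lam h g).1 0 1 = ((g.1 0 1 : M) : K) / lam ∧
    (scaleFun M lam h g).1 1 0 = ((g.1 1 0 : M) : K) * lam ∧ (scaleFun M lam h g).1 1 1 = ((g.1 1 1 : M) : K) :=
  ⟨rfl, rfl, rfl, rfl⟩

/-- The conjugation is a homomorphism. -/
def scale (M : Subfield K) (lam : K) (h : lam ≠ 0) :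
    Matrix.SpecialLinearGroup (Fin 2) M →* Matrix.SpecialLinearGroup (Fin 2) K :=
  MonoidHom.mk' (scaleFun M lam h) fun g g' => by
    obtain ⟨a1, a2, a3, a4⟩ := scaleFun_entries M lam h g
    obtain ⟨b1, b2, b3, b4⟩ := scaleFun_entries M lam h g'
    obtain ⟨c1, c2, c3, c4⟩ := scaleFun_entries M lam h (g * g')
    apply ext' <;>
      simp only [mul_entry, a1, a2, a3, a4, b1, b2, b3, b4, c1, c2, c3, c4, Subfield.coe_add, Subfield.coe_mul] <;>
      field_simp

theorem scale_apply (M : Subfield K) (lam : K) (h : lam ≠ 0) (g : Matrix.SpecialLinearGroup (Fin 2) M) :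
    scale M lam h g = scaleFun M lam h g := rfl

variable [Algebra k K] {α : K} {G : Subgroup (Matrix.SpecialLinearGroup (Fin 2) K)}
  (hup : ∀ c : k, upU (algebraMap k K c) ∈ G) (hlo : ∀ c : k, lowL (algebraMap k K c * α) ∈ G)

include hup hlo in
/-- An upper triangular element with prescribed diagonal up to a scalar. -/
theorem exists_upper (hα : IsIntegral k α) {n : ℕ} (hn : (minpoly k α).natDegree = n) {E : k[X]}
    (h0 : ∀ j < n + 2, (hankel n (X * minpoly k α) E 0 j).det ≠ 0)
    (h1 : ∀ j < n + 1, (hankel n (X * minpoly k α) E 1 j).det ≠ 0) (hE : aeval α E ≠ 0) :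
    ∃ g ∈ G, g.1 1 0 = 0 ∧ ∃ c : k, c ≠ 0 ∧ g.1 0 0 = algebraMap k K c * aeval α E := by
  obtain ⟨π, hπ⟩ : ∃ π, π = minpoly k α := ⟨_, rfl⟩
  obtain ⟨γ, hγdef⟩ : ∃ γ, γ = X * π := ⟨_, rfl⟩
  rw [← hπ] at h0 h1 hn
  rw [← hγdef] at h0 h1
  have hπm : π.Monic := hπ ▸ minpoly.monic hα
  have hγ : γ.Monic := hγdef ▸ monic_X.mul hπm
  have hγd : γ.natDegree = n + 1 := by
    rw [hγdef, monic_X.natDegree_mul hπm, natDegree_X, hn, add_comm]
  have main : ∀ j, j ≤ n → ∃ P Q : k[X],
      (P.coeff j = 1 ∧ Small (j + 1) P ∧ ∀ i < j, phi n γ E (P * X ^ i) = 0) ∧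
      (Q.coeff j = 1 ∧ Small (j + 1) Q ∧ ∀ i < j, phi n γ E (Q * X ^ (i + 1)) = 0) ∧
      ∃ g ∈ G, ∃ a b : k, a ≠ 0 ∧ b ≠ 0 ∧ g.1 1 0 = algebraMap k K a * α * aeval α Q ∧
        g.1 1 1 = algebraMap k K b * aeval α P := by
    intro j hj
    induction j with
    | zero =>
      have hs : Small 1 (1 : k[X]) := fun a ha => by rw [coeff_one, if_neg (by omega)]
      exact ⟨1, 1, ⟨coeff_one_zero, hs, by omega⟩, ⟨coeff_one_zero, hs, by omega⟩, _, hlo 1, 1, 1, one_ne_zero,
        one_ne_zero, by simp, by simp⟩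
    | succ j ih =>
      obtain ⟨P, Q, ⟨hP1, hPs, hPo⟩, ⟨hQ1, hQs, hQo⟩, g, hg, a, b, ha, hb, hg0, hg1⟩ := ih (by omega)
      obtain ⟨P', hP'1, hP's, hP'o⟩ := exists_orth (h0 (j + 1) (by omega))
      obtain ⟨Q', hQ'1, hQ's, hQ'o⟩ := exists_orth (h1 (j + 1) (by omega))
      simp only [add_zero] at hP'o
      obtain ⟨c, hc⟩ : ∃ c, c = (X * Q - P').coeff j := ⟨_, rfl⟩
      have hP'eq : P' = X * Q - C c * P := by
        have h := eq_zero_of_orth (h0 j (by omega)) (R := X * Q - P' - C c * P) ?_ ?_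
        · linear_combination -h
        · intro i hi
          rcases Nat.lt_or_ge j i with h | h
          · obtain ⟨i', rfl⟩ : ∃ i', i = i' + 1 := ⟨i - 1, by omega⟩
            rw [coeff_sub, coeff_sub, coeff_X_mul, coeff_C_mul, hPs _ (by omega), mul_zero, sub_zero]
            rcases Nat.lt_or_ge j i' with h' | h'
            · rw [hQs _ (by omega), hP's _ (by omega), sub_zero]
            · obtain rfl : i' = j := by omega
              rw [hQ1, hP'1, sub_self]
          · obtain rfl : i = j := by omega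
            rw [coeff_sub, ← hc, coeff_C_mul, hP1, mul_one, sub_self]
        · intro i hi
          rw [add_zero, sub_mul, sub_mul, map_sub, map_sub, hP'o i (by omega), mul_assoc (C c), C_mul', map_smul,
            hPo i hi, smul_zero, sub_zero, sub_zero, mul_comm X Q, mul_assoc, ← pow_succ', hQo i hi]
      have hc0 : c ≠ 0 := by
        intro h
        rw [h, C_0, zero_mul, sub_zero] at hP'eq
        have := eq_zero_of_orth (h1 (j + 1) (by omega)) hQs fun i hi => by
          rw [pow_succ', ← mul_assoc, mul_comm Q X, ← hP'eq]; exact hP'o i hi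
        rw [this, coeff_zero] at hQ1
        exact zero_ne_one hQ1
      obtain ⟨e, he⟩ : ∃ e, e = (Q' - P').coeff j := ⟨_, rfl⟩
      have hQ'eq : Q' = P' + C e * Q := by
        have h := eq_zero_of_orth (h1 j (by omega)) (R := Q' - P' - C e * Q) ?_ ?_
        · linear_combination h
        · intro i hi
          rcases Nat.lt_or_ge j i with h | h
          · rw [coeff_sub, coeff_sub, coeff_C_mul, hQs _ (by omega), mul_zero, sub_zero]
            rcases Nat.lt_or_ge (j + 1) i with h' | h'
            · rw [hQ's _ (by omega), hP's _ (by omega), sub_zero]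
            · obtain rfl : i = j + 1 := by omega
              rw [hQ'1, hP'1, sub_self]
          · obtain rfl : i = j := by omega
            rw [coeff_sub, ← he, coeff_C_mul, hQ1, mul_one, sub_self]
        · intro i hi
          rw [sub_mul, sub_mul, map_sub, map_sub, hQ'o i (by omega), hP'o (i + 1) (by omega), mul_assoc (C e), C_mul',
            map_smul, hQo i hi, smul_zero, sub_zero, sub_zero]
      have he0 : e ≠ 0 := by
        intro h
        rw [h, C_0, zero_mul, add_zero] at hQ'eq
        subst hQ'eq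
        have := eq_zero_of_orth (h0 (j + 2) (by omega)) hP's fun i hi => by
          rw [add_zero]
          rcases Nat.eq_zero_or_pos i with rfl | hi0
          · exact hP'o 0 (by omega)
          · obtain ⟨i', rfl⟩ : ∃ i', i = i' + 1 := ⟨i - 1, by omega⟩
            exact hQ'o i' (by omega)
        rw [this, coeff_zero] at hQ'1
        exact zero_ne_one hQ'1
      refine ⟨P', Q', ⟨hP'1, hP's, hP'o⟩, ⟨hQ'1, hQ's, hQ'o⟩,
        g * upU (algebraMap k K (-b / (c * a))) * lowL (algebraMap k K (-(a * c) / (b * e)) * α),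
        mul_mem (mul_mem hg (hup _)) (hlo _), a / e, -b / c, div_ne_zero ha he0, div_ne_zero (neg_ne_zero.mpr hb) hc0,
        ?_, ?_⟩
      · have hcK : algebraMap k K c ≠ 0 := (_root_.map_ne_zero _).mpr hc0
        have heK : algebraMap k K e ≠ 0 := (_root_.map_ne_zero _).mpr he0
        have haK : algebraMap k K a ≠ 0 := (_root_.map_ne_zero _).mpr ha
        have hbK : algebraMap k K b ≠ 0 := (_root_.map_ne_zero _).mpr hb
        simp only [mul_entry, Fusion.Dickson.upU_entries, Fusion.Dickson.lowL_entries, hg0, hg1, hQ'eq, hP'eq, map_div₀,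
          map_neg, map_mul, map_add, map_sub, aeval_X, aeval_C]
        field_simp
        ring
      · have hcK : algebraMap k K c ≠ 0 := (_root_.map_ne_zero _).mpr hc0
        have haK : algebraMap k K a ≠ 0 := (_root_.map_ne_zero _).mpr ha
        simp only [mul_entry, Fusion.Dickson.upU_entries, Fusion.Dickson.lowL_entries, hg0, hg1, hP'eq, map_div₀,
          map_neg, map_mul, map_sub, aeval_X, aeval_C]
        field_simp
        ring
  obtain ⟨P, Q, ⟨hP1, hPs, hPo⟩, ⟨hQ1, hQs, hQo⟩, g, hg, a, b, -, hb, hg0, hg1⟩ := main n le_rfl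
  have hQπ : Q = π := sub_eq_zero.mp (eq_zero_of_orth (h1 n (by omega)) (R := Q - π) (fun i hi => by
    rcases Nat.lt_or_ge n i with h | h
    · rw [coeff_sub, hQs _ (by omega), coeff_eq_zero_of_natDegree_lt (by omega), sub_zero]
    · obtain rfl : i = n := by omega
      rw [coeff_sub, hQ1, ← hn, hπm.coeff_natDegree, sub_self]) fun i hi => by
    rw [sub_mul, map_sub, hQo i hi, phi_dvd hγ ⟨X ^ i, by rw [hγdef]; ring⟩, sub_zero])
  have hg00 : g.1 1 0 = 0 := by rw [hg0, hQπ, hπ, minpoly.aeval, mul_zero]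
  have hd := det_eq g
  rw [hg00, mul_zero, sub_zero] at hd
  obtain ⟨R, hR⟩ : ∃ R, R = (P * E) %ₘ γ := ⟨_, rfl⟩
  have hRs : ∀ i ≤ n, Small (n + 1 - i) R := by
    intro i hi
    induction i with
    | zero =>
      intro x hx
      exact coeff_eq_zero_of_natDegree_lt (by
        have := natDegree_modByMonic_lt (P * E) hγ (fun h => by rw [h, natDegree_one] at hγd; omega)
        rw [← hR, hγd] at this
        omega)
    | succ i ih =>
      intro x hx
      rcases Nat.lt_or_ge (n - i) x with h | h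
      · exact ih (by omega) x (by omega)
      · obtain rfl : x = n - i := by omega
        have h := hPo i (by omega)
        have e : (P * X ^ i * E) %ₘ γ = X ^ i * R := by
          rw [modByMonic_eq_of_dvd_sub hγ (p₂ := X ^ i * R), (modByMonic_eq_self_iff hγ).mpr]
          · rcases eq_or_ne R 0 with h0 | h0
            · rw [h0, mul_zero, degree_zero, degree_eq_natDegree hγ.ne_zero]; exact WithBot.bot_lt_coe _
            · have : R.natDegree < n + 1 - i := by
                by_contra hlt
                exact leadingCoeff_ne_zero.mpr h0 (ih (by omega) _ (not_lt.mp hlt))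
              rw [degree_mul, degree_X_pow, degree_eq_natDegree h0, degree_eq_natDegree hγ.ne_zero, hγd]
              exact_mod_cast (by omega : i + R.natDegree < n + 1)
          · refine ⟨X ^ i * ((P * E) /ₘ γ), ?_⟩
            have := modByMonic_add_div (P * E) γ
            rw [← hR] at this
            linear_combination (-(X ^ i : k[X])) * this
        rw [phi_apply, e, coeff_X_pow_mul', if_pos (by omega)] at h
        exact h
  have hRv : aeval α P * aeval α E = algebraMap k K (R.coeff 0) := by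
    have h : aeval α R = aeval α P * aeval α E := by
      rw [hR, modByMonic_eq_sub_mul_div (P * E) γ]
      simp [hγdef, hπ]
    rw [← h, eq_C_of_natDegree_eq_zero (p := R) (by
      by_contra hne
      exact leadingCoeff_ne_zero.mpr (fun h0 => hne (by rw [h0, natDegree_zero]))
        (hRs n le_rfl _ (by omega))), aeval_C, coeff_C_zero]
  have hP0 : g.1 1 1 ≠ 0 := right_ne_zero_of_mul_eq_one hd
  have hPα : aeval α P ≠ 0 := fun h => hP0 (by rw [hg1, h, mul_zero])
  have hR0 : R.coeff 0 ≠ 0 := fun h => mul_ne_zero hPα hE (by rw [hRv, h, map_zero])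
  refine ⟨g, hg, hg00, (b * R.coeff 0)⁻¹, inv_ne_zero (mul_ne_zero hb hR0), ?_⟩
  have hbK : algebraMap k K b ≠ 0 := (_root_.map_ne_zero _).mpr hb
  rw [hg1] at hd
  rw [map_inv₀, map_mul, ← hRv]
  field_simp
  linear_combination hd

include hup hlo in
/-- The infinite case. -/
theorem aeval_mem_of_infinite [Infinite k] (h2 : (2 : k) ≠ 0) (hα : IsIntegral k α) :
    ∀ F : k[X], aeval α F ∈ upSet G := by
  obtain ⟨n, hn⟩ : ∃ n, (minpoly k α).natDegree = n := ⟨_, rfl⟩
  have hπ := minpoly.monic hα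
  have hγd : (X * minpoly k α).natDegree = n + 1 := by
    rw [monic_X.natDegree_mul hπ, natDegree_X, hn, add_comm]
  have hγ : (X * minpoly k α).Monic := monic_X.mul hπ
  have hne : IsGen fun E : k[X] => aeval α E ≠ 0 := by
    refine ⟨⟨1, by simp⟩, fun E E' hE => ?_⟩
    refine Set.Subsingleton.finite fun s hs t ht => ?_
    simp only [Set.mem_setOf_eq, not_not, map_add, map_mul, aeval_C] at hs ht
    have h : (algebraMap k K s - algebraMap k K t) * aeval α E' = 0 := by linear_combination hs - ht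
    rcases mul_eq_zero.mp h with h | h
    · exact (algebraMap k K).injective (sub_eq_zero.mp h)
    · rw [h, mul_zero, add_zero] at hs
      exact absurd hs hE
  obtain ⟨⟨E0, hE0⟩, hline⟩ :=
    ((isGen_forall_lt (n + 2) fun j hj => isGen_hankel (s := 0) (j := j) hγ hγd (by omega)).and
      (isGen_forall_lt (n + 1) fun j hj => isGen_hankel (s := 1) (j := j) hγ hγd (by omega))).and hne
  let W : Submodule k K :=
    { carrier := {w | ∀ c : k, algebraMap k K c * w ∈ upSet G}
      zero_mem' := fun c => by rw [mul_zero]; exact zero_mem _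
      add_mem' := fun ha hb c => by rw [mul_add]; exact add_mem (ha c) (hb c)
      smul_mem' := fun r w hw c => by rw [Algebra.smul_def, ← mul_assoc, ← map_mul]; exact hw _ }
  have hsq : ∀ E, ((∀ j < n + 2, (hankel n (X * minpoly k α) E 0 j).det ≠ 0) ∧
      (∀ j < n + 1, (hankel n (X * minpoly k α) E 1 j).det ≠ 0)) ∧ aeval α E ≠ 0 → aeval α E ^ 2 ∈ W := by
    rintro E ⟨⟨h0, h1⟩, hE⟩ c
    obtain ⟨g, hg, h10, d, hd, h00⟩ := exists_upper hup hlo hα hn h0 h1 hE
    have := sq_mul_mem hg h10 (hup (c / d ^ 2) : algebraMap k K (c / d ^ 2) ∈ upSet G)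
    rw [h00] at this
    have hdK : algebraMap k K d ≠ 0 := (_root_.map_ne_zero _).mpr hd
    convert this using 1
    rw [map_div₀, map_pow]
    field_simp
  have hlin : ∀ E : k[X], aeval α E0 * aeval α E ∈ W := by
    intro E
    obtain ⟨a, ha⟩ : ∃ a, a = aeval α E0 := ⟨_, rfl⟩
    obtain ⟨e, he⟩ : ∃ e, e = aeval α E := ⟨_, rfl⟩
    have hT := ((hline E0 E hE0).union (Set.finite_singleton (0 : k))).infinite_compl
    obtain ⟨t, ht, u, hu, htu⟩ := hT.nontrivial
    simp only [Set.mem_compl_iff, Set.mem_union, Set.mem_setOf_eq, Set.mem_singleton_iff, not_or, not_not] at ht hu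
    have hval : ∀ s : k, s ≠ 0 → (aeval α (E0 + C s * E)) ^ 2 ∈ W →
        (2 : k) • (a * e) + s • e ^ 2 ∈ W := by
      intro s hs h
      have := W.smul_mem s⁻¹ (sub_mem h (hsq E0 hE0))
      convert this using 1
      have hsK : algebraMap k K s ≠ 0 := (_root_.map_ne_zero _).mpr hs
      simp only [Algebra.smul_def, map_add, map_mul, aeval_C, map_inv₀, map_ofNat, ← ha, ← he]
      field_simp
      ring
    have h1 := hval t ht.2 (hsq _ ht.1)
    have h2' := hval u hu.2 (hsq _ hu.1)
    have := W.smul_mem (u - t)⁻¹ (sub_mem h2' h1)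
    rw [add_sub_add_left_eq_sub, ← sub_smul, smul_smul, inv_mul_cancel₀ (sub_ne_zero.mpr htu.symm), one_smul] at this
    have h3 := W.smul_mem (2 : k)⁻¹ (sub_mem h1 (W.smul_mem t this))
    rwa [add_sub_cancel_right, smul_smul, inv_mul_cancel₀ h2, one_smul, ha, he] at h3
  intro F
  obtain ⟨I, hI⟩ : ∃ I : k[X], aeval α E0 * aeval α I = 1 := by
    have hE0L : aeval α E0 ∈ IntermediateField.adjoin k ({α} : Set K) :=
      (IntermediateField.algebra_adjoin_le_adjoin k _) (by
        rw [Algebra.adjoin_singleton_eq_range_aeval]; exact ⟨E0, rfl⟩)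
    have hmem : (aeval α E0)⁻¹ ∈ (IntermediateField.adjoin k ({α} : Set K)).toSubalgebra :=
      (inv_mem hE0L : (aeval α E0)⁻¹ ∈ IntermediateField.adjoin k ({α} : Set K))
    rw [IntermediateField.adjoin_simple_toSubalgebra_of_isAlgebraic hα.isAlgebraic,
      Algebra.adjoin_singleton_eq_range_aeval] at hmem
    obtain ⟨I, hI⟩ := hmem
    exact ⟨I, by rw [show aeval α I = _ from hI, mul_inv_cancel₀ hE0.2]⟩
  have := hlin (I * F) 1
  rwa [map_one, one_mul, map_mul, ← mul_assoc, hI, one_mul] at this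

include hup hlo in
/-- The finite case. -/
theorem aeval_mem_of_finite_or [Finite k] (h2 : (2 : k) ≠ 0) (h3 : Nat.card k ≠ 3 ∨ α ^ 2 ≠ -1) (hα : IsIntegral k α)
    (hα0 : α ≠ 0) : ∀ F : k[X], aeval α F ∈ upSet G := by
  classical
  obtain ⟨c, hc0, hc⟩ : ∃ c : k, c ≠ 0 ∧ (algebraMap k K c * α) ^ 2 ≠ -1 := by
    by_cases h : α ^ 2 = -1
    · by_contra! hall
      have hk : ∀ c : k, c = 0 ∨ c = 1 ∨ c = -1 := by
        intro c
        rcases eq_or_ne c 0 with h0 | h0
        · exact Or.inl h0
        have e := hall c h0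
        rw [mul_pow, h, mul_neg, mul_one, neg_inj, ← map_pow, ← map_one (algebraMap k K)] at e
        exact Or.inr (sq_eq_one_iff.mp ((algebraMap k K).injective e))
      haveI := Fintype.ofFinite k
      have hu : (Finset.univ : Finset k) = {0, 1, -1} := by
        ext x; simp only [Finset.mem_univ, Finset.mem_insert, Finset.mem_singleton, true_iff]; exact hk x
      apply h3.resolve_right (not_not.mpr h)
      rw [Nat.card_eq_fintype_card, ← Finset.card_univ, hu]
      have h11 : (1 : k) ≠ -1 := fun e => h2 (by linear_combination e)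
      simp [h11, Ne.symm (one_ne_zero (α := k))]
    · exact ⟨1, one_ne_zero, by simpa using h⟩
  obtain ⟨lam, hlam⟩ : ∃ lam, lam = algebraMap k K c * α := ⟨_, rfl⟩
  have hl0 : lam ≠ 0 := hlam ▸ mul_ne_zero ((_root_.map_ne_zero _).mpr hc0) hα0
  rw [← hlam] at hc
  set M := Subfield.closure ({lam} : Set K) with hM
  haveI : Finite M := by
    haveI := IntermediateField.adjoin.finiteDimensional hα
    haveI : Finite (IntermediateField.adjoin k ({α} : Set K)) := Module.finite_of_finite k
    have hle : M ≤ (IntermediateField.adjoin k ({α} : Set K)).toSubfield := by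
      rw [hM, Subfield.closure_le, Set.singleton_subset_iff, hlam]
      exact mul_mem (IntermediateField.algebraMap_mem _ c) (IntermediateField.mem_adjoin_simple_self k α)
    exact Finite.of_injective (fun x : M => (⟨x.1, hle x.2⟩ : IntermediateField.adjoin k ({α} : Set K)))
      fun x y e => Subtype.ext (Subtype.mk.inj e)
  haveI := Fintype.ofFinite M
  have hlM : lam ∈ M := Subfield.subset_closure rfl
  have h2K : (2 : K) ≠ 0 := by rw [← map_ofNat (algebraMap k K) 2]; exact (_root_.map_ne_zero _).mpr h2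
  have h2M : (2 : M) ≠ 0 := fun e => h2K (by
    have := congrArg M.subtype e
    rwa [map_ofNat, map_zero] at this)
  have hgen : Subfield.closure ({⟨lam, hlM⟩} : Set M) = ⊤ := by
    refine top_le_iff.mp fun x _ => ?_
    have hle : M ≤ (Subfield.closure ({⟨lam, hlM⟩} : Set M)).map M.subtype := by
      conv_lhs => rw [hM]
      rw [Subfield.closure_le, Set.singleton_subset_iff]
      exact ⟨⟨lam, hlM⟩, Subfield.subset_closure rfl, rfl⟩
    obtain ⟨y, hy, hyx⟩ := hle x.2
    exact (Subtype.ext hyx : y = x) ▸ hy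
  obtain ⟨ψ, hψd⟩ : ∃ ψ, ψ = scale M lam hl0 := ⟨_, rfl⟩
  have htop := Cfsg.Agent.S0801.result h2M ⟨lam, hlM⟩ (fun e => hl0 (congrArg Subtype.val e)) hgen
  have hne : (⟨lam, hlM⟩ : M) ^ 2 ≠ -1 := fun e => hc (by simpa using congrArg M.subtype e)
  rcases htop with ⟨htop, -⟩ | ⟨-, e, -⟩
  swap
  · exact absurd e hne
  have hψ : ∀ g, ψ g ∈ G := by
    intro g
    have hg : g ∈ Subgroup.closure _ := htop.symm ▸ Subgroup.mem_top g
    refine (Subgroup.closure_le (G.comap ψ)).mpr ?_ hg
    rintro x (hx | hx)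
    · have e : ψ x = lowL (algebraMap k K c * α) := by
        apply ext' <;> simp [hψd, scale_apply, scaleFun, hx, ← hlam]
      rw [SetLike.mem_coe, Subgroup.mem_comap, e]; exact hlo c
    · have e : ψ x = upU (algebraMap k K 1) := by
        apply ext' <;> simp [hψd, scale_apply, scaleFun, hx, hl0]
      rw [SetLike.mem_coe, Subgroup.mem_comap, e]; exact hup 1
  have hsq : ∀ t ∈ M, t ≠ 0 → ∀ f ∈ upSet G, t ^ 2 * f ∈ upSet G := by
    intro t ht ht0 f hf
    obtain ⟨D, hD⟩ : ∃ D : Matrix.SpecialLinearGroup (Fin 2) M,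
        D.1 = !![(⟨t, ht⟩ : M), 0; 0, (⟨t, ht⟩ : M)⁻¹] := ⟨⟨_, by
      rw [Matrix.det_fin_two_of, mul_zero, sub_zero, mul_inv_cancel₀]
      exact fun e => ht0 (congrArg Subtype.val e)⟩, rfl⟩
    obtain ⟨e00, -, e10, -⟩ := scaleFun_entries M lam hl0 D
    have this := sq_mul_mem (hψ D) (by rw [hψd, scale_apply, e10, hD]; simp) hf
    rw [hψd, scale_apply, e00, hD] at this
    simpa using this
  have hmul : ∀ m ∈ M, ∀ f ∈ upSet G, m * f ∈ upSet G := by
    intro m hm f hf
    have key : ∀ t ∈ M, t ^ 2 * f ∈ upSet G := fun t ht => by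
      rcases eq_or_ne t 0 with rfl | h
      · simp
      · exact hsq t ht h f hf
    have := sub_mem (key ((m + 1) / 2) (div_mem (add_mem hm (one_mem _)) (ofNat_mem M 2)))
      (key ((m - 1) / 2) (div_mem (sub_mem hm (one_mem _)) (ofNat_mem M 2)))
    convert this using 1
    field_simp
    ring
  intro F
  induction F using Polynomial.induction_on' with
  | add p q hp hq => rw [map_add]; exact add_mem hp hq
  | monomial i d =>
    rw [aeval_monomial]
    have := hmul _ (pow_mem hlM i) _ (hup (d / c ^ i) : algebraMap k K (d / c ^ i) ∈ upSet G)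
    convert this using 1
    have hcK : algebraMap k K c ≠ 0 := (_root_.map_ne_zero _).mpr hc0
    rw [hlam, mul_pow, map_div₀, map_pow]
    field_simp

include hup hlo in
/-- The finite case, over a field of order other than three. -/
theorem aeval_mem_of_finite [Finite k] (h2 : (2 : k) ≠ 0) (h3 : Nat.card k ≠ 3) (hα : IsIntegral k α)
    (hα0 : α ≠ 0) : ∀ F : k[X], aeval α F ∈ upSet G :=
  aeval_mem_of_finite_or hup hlo h2 (Or.inl h3) hα hα0

include hup hlo in
/-- All of `SL₂(k(α))` lies in the subgroup. -/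
theorem mem_of_entries (h2 : (2 : k) ≠ 0) (h3 : Nat.card k ≠ 3) (hα : IsIntegral k α) (hα0 : α ≠ 0) {g : SL2}
    (hg : ∀ i j, g.1 i j ∈ IntermediateField.adjoin k ({α} : Set K)) : g ∈ G := by
  set L := IntermediateField.adjoin k ({α} : Set K) with hL
  have hA : ∀ f ∈ L, upU f ∈ G := by
    intro f hf
    have hf' : f ∈ L.toSubalgebra := hf
    rw [hL, IntermediateField.adjoin_simple_toSubalgebra_of_isAlgebraic hα.isAlgebraic,
      Algebra.adjoin_singleton_eq_range_aeval] at hf'
    obtain ⟨F, rfl⟩ := hf'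
    rcases finite_or_infinite k with hk | hk
    · exact aeval_mem_of_finite hup hlo h2 h3 hα hα0 F
    · exact aeval_mem_of_infinite hup hlo h2 hα F
  have hαL : α ∈ L := IntermediateField.mem_adjoin_simple_self k α
  have hB : ∀ f ∈ L, lowL f ∈ G := by
    intro f hf
    obtain ⟨w, hw⟩ : ∃ w, w = upU (-α⁻¹) * lowL (algebraMap k K 1 * α) * upU (-α⁻¹) := ⟨_, rfl⟩
    have hwG : w ∈ G := by
      have hu := hA _ (neg_mem (inv_mem hαL))
      rw [hw]; exact mul_mem (mul_mem hu (hlo 1)) hu
    have e : lowL f * w = w * upU (-f / α ^ 2) := by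
      rw [hw]
      apply ext' <;> simp [mul_entry, hα0] <;> field_simp <;> ring
    rw [show lowL f = w * upU (-f / α ^ 2) * w⁻¹ by rw [← e, mul_inv_cancel_right]]
    exact mul_mem (mul_mem hwG (hA _ (div_mem (neg_mem hf) (pow_mem hαL 2)))) (inv_mem hwG)
  have gen : ∀ x : SL2, (∀ i j, x.1 i j ∈ L) → x.1 1 0 ≠ 0 → x ∈ G := by
    intro x hx hc
    have hd := det_eq x
    have e : x = upU ((x.1 0 0 - 1) / x.1 1 0) * lowL (x.1 1 0) * upU ((x.1 1 1 - 1) / x.1 1 0) := by
      apply ext' <;> simp [mul_entry, hc] <;> field_simp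
      · linear_combination -hd
      · ring
    rw [e]
    exact mul_mem (mul_mem (hA _ (div_mem (sub_mem (hx _ _) (one_mem _)) (hx _ _))) (hB _ (hx _ _)))
      (hA _ (div_mem (sub_mem (hx _ _) (one_mem _)) (hx _ _)))
  by_cases hc : g.1 1 0 = 0
  · have h1 : lowL 1 * g ∈ G := by
      refine gen _ (fun i j => ?_) ?_
      · fin_cases i <;> fin_cases j <;> simp [mul_entry] <;>
          first | exact hg _ _ | exact add_mem (hg _ _) (hg _ _)
      · simp [mul_entry, hc]
        intro h0
        have := det_eq g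
        rw [h0, hc] at this
        simp at this
    have := mul_mem (inv_mem (hB 1 (one_mem _))) h1
    rwa [inv_mul_cancel_left] at this
  · exact gen g hg hc

end Cfsg.Agent.Classical.SL2SimpleExt
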