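/-
Subspace stabilisers are maximal in the special linear group.
-/
import Mathlib
import Cfsg.Agent.Lib.Classical.LinBasic

set_option autoImplicit false

namespace Cfsg.Agent.Classical

open Matrix Cfsg.Geo

variable {ι : Type} [Fintype ι] [DecidableEq ι] {F : Type*} [Field F]

/-- The transvection with centre `a` and axis given by `b`, as an element of GL. -/
theorem exists_transvection_gl {a b : ι → F} (h : b ⬝ᵥ a = 0) :
    ∃ g ∈ specialLinear ι F, ∀ x, (g : Matrix ι ι F) *ᵥ x = x + (b ⬝ᵥ x) • a := by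
  have hd : (1 + Matrix.vecMulVec a b).det = 1 := by
    rw [Matrix.vecMulVec_eq Unit, Matrix.det_one_add_replicateCol_mul_replicateRow, h, add_zero]
  refine ⟨Matrix.GeneralLinearGroup.mkOfDetNeZero _ (by rw [hd]; exact one_ne_zero), mem_specialLinear_iff.mpr hd,
    fun x => ?_⟩
  change (1 + Matrix.vecMulVec a b) *ᵥ x = _
  rw [Matrix.add_mulVec, Matrix.one_mulVec, Matrix.vecMulVec_mulVec]
  simp

/-- A functional vanishing on a subspace with a given value outside. -/
theorem exists_axis {U : Submodule F (ι → F)} {u : ι → F} (hu : u ∉ U) :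
    ∃ b : ι → F, (∀ w ∈ U, b ⬝ᵥ w = 0) ∧ b ⬝ᵥ u = 1 := by
  obtain ⟨φ, hφ, hker⟩ := U.exists_dual_map_eq_bot_of_notMem hu inferInstance
  refine ⟨(φ u)⁻¹ • fun i => φ (Pi.single i 1), fun w hw => ?_, ?_⟩ <;>
    have e : ∀ x, (fun i => φ (Pi.single i 1)) ⬝ᵥ x = φ x := fun x => by
      conv_rhs => rw [pi_eq_sum_univ' x, map_sum]
      exact Finset.sum_congr rfl fun i _ => by rw [map_smul, smul_eq_mul, mul_comm]
  · rw [smul_dotProduct, e, show φ w = 0 from (Submodule.mem_bot F).mp (hker ▸ ⟨w, hw, rfl⟩), smul_zero]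
  · rw [smul_dotProduct, e, smul_eq_mul, inv_mul_cancel₀ hφ]

/-- A subgroup properly containing the stabiliser of a subspace contains the special linear group. -/
theorem specialLinear_le_of_stabilizer [Nontrivial ι] {W : Submodule F (ι → F)} {K : Subgroup (GL ι F)}
    (hK : subspaceStabilizer W ⊓ specialLinear ι F ≤ K) {g : GL ι F} (hg : g ∈ K) (hgW : g ∉ subspaceStabilizer W) :
    specialLinear ι F ≤ K := by
  rw [mem_subspaceStabilizer_iff] at hgW
  push Not at hgW
  obtain ⟨w₀, hw₀, hu⟩ := hgW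
  have hstab : ∀ a b : ι → F, b ⬝ᵥ a = 0 → (a ∈ W ∨ ∀ w ∈ W, b ⬝ᵥ w = 0) →
      ∃ t ∈ K, ∀ x, (t : Matrix ι ι F) *ᵥ x = x + (b ⬝ᵥ x) • a := by
    intro a b hba hor
    obtain ⟨t, ht, htx⟩ := exists_transvection_gl hba
    refine ⟨t, hK ⟨mem_subspaceStabilizer_iff.mpr fun w hw => ?_, ht⟩, htx⟩
    rw [htx]
    rcases hor with h | h
    · exact W.add_mem hw (W.smul_mem _ h)
    · rw [h w hw, zero_smul, add_zero]; exact hw
  have horb : ∀ v : ι → F, ∃ k ∈ K, ∃ w ∈ W, (k : Matrix ι ι F) *ᵥ w = v := by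
    intro v
    by_cases hv : v ∈ W
    · exact ⟨1, one_mem _, v, hv, by simp⟩
    set u := (g : Matrix ι ι F) *ᵥ w₀ with hu'
    by_cases hvu : v ∈ W ⊔ Submodule.span F {u}
    · obtain ⟨w, hw, y, hy, rfl⟩ := Submodule.mem_sup.mp hvu
      obtain ⟨c, rfl⟩ := Submodule.mem_span_singleton.mp hy
      have hc : c ≠ 0 := fun h0 => hv (by rw [h0, zero_smul, add_zero]; exact hw)
      obtain ⟨b, hb, hbu⟩ := exists_axis hu
      obtain ⟨t, ht, htx⟩ := hstab (c⁻¹ • w) b (by rw [dotProduct_smul, hb w hw, smul_zero]) (Or.inl (W.smul_mem _ hw))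
      refine ⟨t * g, mul_mem ht hg, c • w₀, W.smul_mem _ hw₀, ?_⟩
      rw [gl_mul_mulVec, Matrix.mulVec_smul, htx, ← hu', dotProduct_smul, hbu, smul_eq_mul, mul_one, smul_smul,
        mul_inv_cancel₀ hc, one_smul, add_comm]
    · have hu1 : u ∉ W ⊔ Submodule.span F {v - u} := fun h => by
        obtain ⟨w, hw, y, hy, he⟩ := Submodule.mem_sup.mp h
        obtain ⟨c, rfl⟩ := Submodule.mem_span_singleton.mp hy
        rcases eq_or_ne c 0 with rfl | hc
        · exact hu (by rw [← he, zero_smul, add_zero]; exact hw)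
        refine hvu (Submodule.mem_sup.mpr ⟨(-c⁻¹) • w, W.smul_mem _ hw, (1 + c⁻¹) • u, Submodule.mem_span_singleton.mpr ⟨_, rfl⟩, ?_⟩)
        have e : (-c⁻¹) • w + (1 + c⁻¹) • u = v := by
          have hw' : w = u - c • (v - u) := eq_sub_of_add_eq he
          rw [hw']
          ext i
          simp only [Pi.add_apply, Pi.smul_apply, Pi.sub_apply, smul_eq_mul]
          field_simp
          ring
        exact e
      obtain ⟨b, hb, hbu⟩ := exists_axis hu1
      obtain ⟨t, ht, htx⟩ := hstab (v - u) b (hb _ (Submodule.mem_sup_right (Submodule.mem_span_singleton_self _)))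
        (Or.inr fun w hw => hb w (Submodule.mem_sup_left hw))
      refine ⟨t * g, mul_mem ht hg, w₀, hw₀, ?_⟩
      rw [gl_mul_mulVec, htx, ← hu', hbu, one_smul, add_sub_cancel]
  rw [specialLinear_le_iff]
  intro i j hij c
  obtain ⟨k, hk, w, hw, hkw⟩ := horb (Pi.single i 1)
  set b : ι → F := Matrix.vecMul (Pi.single j c) (k : Matrix ι ι F) with hb
  have hbx : ∀ x, b ⬝ᵥ x = c * ((k : Matrix ι ι F) *ᵥ x) j := fun x => by
    rw [hb, ← Matrix.dotProduct_mulVec, single_dotProduct]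
  obtain ⟨t, ht, htx⟩ := hstab w b (by rw [hbx, hkw, Pi.single_eq_of_ne hij.symm, mul_zero]) (Or.inl hw)
  have e : transGL hij c = k * t * k⁻¹ := gl_ext_mulVec fun x => by
    rw [transGL_mulVec, gl_mul_mulVec, gl_mul_mulVec, htx, hbx, gl_mulVec_inv_cancel, Matrix.mulVec_add,
      Matrix.mulVec_smul, hkw, gl_mulVec_inv_cancel, ← Pi.single_smul']
    simp
  rw [e]
  exact mul_mem (mul_mem hk ht) (inv_mem hk)

/-- A proper non-zero subspace is moved by some element of the special linear group. -/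
theorem exists_not_mem_stabilizer {W : Submodule F (ι → F)} (h0 : W ≠ ⊥) (h1 : W ≠ ⊤) :
    ∃ g ∈ specialLinear ι F, g ∉ subspaceStabilizer W := by
  obtain ⟨w, hw, hw0⟩ := Submodule.exists_mem_ne_zero_of_ne_bot h0
  obtain ⟨v, hv⟩ : ∃ v, v ∉ W := by
    by_contra h; push Not at h; exact h1 (eq_top_iff.mpr fun x _ => h x)
  have hwv : w ∉ Submodule.span F {v} := fun h => by
    obtain ⟨c, hc⟩ := Submodule.mem_span_singleton.mp h
    have hc0 : c ≠ 0 := fun e => hw0 (by rw [← hc, e, zero_smul])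
    refine hv ?_
    rw [← one_smul F v, ← inv_mul_cancel₀ hc0, mul_smul, hc]
    exact W.smul_mem _ hw
  obtain ⟨b, hb, hbw⟩ := exists_axis hwv
  obtain ⟨t, ht, htx⟩ := exists_transvection_gl (hb v (Submodule.mem_span_singleton_self v))
  refine ⟨t, ht, fun h => hv ?_⟩
  have := mem_subspaceStabilizer_iff.mp h w hw
  rw [htx, hbw, one_smul] at this
  exact (Submodule.add_mem_iff_right W hw).mp this

end Cfsg.Agent.Classical
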