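/-
Stabilisers of totally singular subspaces in symplectic and unitary groups.
-/
import Cfsg.Agent.Lib.Classical.RadicalStab
import Cfsg.Agent.Lib.Classical.SesqForm
import Cfsg.Agent.Lib.Classical.SubspaceMaximal

set_option autoImplicit false
set_option linter.unusedSectionVars false

namespace Cfsg.Agent.Classical.Radical

open Matrix Cfsg.Geo
open Cfsg.Agent.Classical

variable {ι : Type} [Fintype ι] [DecidableEq ι] {F : Type*} [Field F] {σ : F ≃+* F} {ε : F}
  {f : (ι → F) → (ι → F) → F}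

/-- An element of the radical attached to `v`. -/
def UF (σ : F ≃+* F) (ε : F) (f : (ι → F) → (ι → F) → F) (v : ι → F) (h : GL ι F) : Prop :=
  ∃ (y : ι → F) (c : F), f y v = 0 ∧ ε * c + σ c + f y y = 0 ∧
    ∀ x, (h : Matrix ι ι F) *ᵥ x = x + f x v • y + (c * f x v - σ ε * f x y) • v

theorem exists_vec (φ : (ι → F) →ₗ[F] F) : ∃ b : ι → F, ∀ x, b ⬝ᵥ x = φ x := by
  refine ⟨fun i => φ (Pi.single i 1), fun x => ?_⟩
  conv_rhs => rw [pi_eq_sum_univ' x, map_sum]
  exact Finset.sum_congr rfl fun i _ => by rw [map_smul, smul_eq_mul, mul_comm]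

/-- A product of two transvections. -/
theorem exists_two_step {v y : ι → F} (α γ : (ι → F) →ₗ[F] F) (hαv : α v = 0) (hαy : α y = 0) (hγv : γ v = 0) :
    ∃ g ∈ specialLinear ι F, ∀ x, (g : Matrix ι ι F) *ᵥ x = x + α x • y + γ x • v := by
  obtain ⟨a, ha⟩ := exists_vec α
  obtain ⟨b, hb⟩ := exists_vec (γ - γ y • α)
  obtain ⟨A, hA, hAx⟩ := exists_transvection_gl (a := y) (b := a) (by rw [ha, hαy])
  obtain ⟨B, hB, hBx⟩ := exists_transvection_gl (a := v) (b := b) (by
    rw [hb, LinearMap.sub_apply, LinearMap.smul_apply, hγv, hαv, smul_zero, sub_zero])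
  refine ⟨B * A, mul_mem hB hA, fun x => ?_⟩
  rw [gl_mul_mulVec, hAx, hBx, hb, ha]
  simp only [LinearMap.sub_apply, LinearMap.smul_apply, map_add, map_smul, hαy, smul_eq_mul]
  module

variable [Nonempty ι] (hf : IsReflexForm σ ε f)

include hf

theorem sigma_eps : σ ε * ε = 1 := by rw [mul_comm]; exact hf.eps_mul

theorem swap' (x y : ι → F) : f y x = ε * σ (f x y) := hf.swap x y

theorem sigma_f (x y : ι → F) : σ (f x y) = σ ε * f y x := by
  rw [hf.swap x y, ← mul_assoc, sigma_eps hf, one_mul]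

theorem UF_iso {v : ι → F} (hv : f v v = 0) {h : GL ι F} (hh : UF σ ε f v h) (x x' : ι → F) :
    f ((h : Matrix ι ι F) *ᵥ x) ((h : Matrix ι ι F) *ᵥ x') = f x x' := by
  obtain ⟨y, c, hyv, hc, hx⟩ := hh
  have hs := hf.semi
  rw [hx, hx]
  simp only [hs.add_left, hs.add_right, hs.smul_left, hs.smul_right, hv, hyv, hf.eq_zero_swap hyv, map_sub, map_mul,
    hf.invol]
  rw [hf.swap x' v, hf.swap x' y]
  linear_combination (f x v * σ (f x' v)) * hc - (σ (f x' v) * f x y) * sigma_eps hf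

theorem exists_UF {v y : ι → F} {c : F} (hv : f v v = 0) (hyv : f y v = 0) (hc : ε * c + σ c + f y y = 0) :
    ∃ h ∈ specialLinear ι F, UF σ ε f v h ∧
      ∀ x, (h : Matrix ι ι F) *ᵥ x = x + f x v • y + (c * f x v - σ ε * f x y) • v := by
  have hs := hf.semi
  let α : (ι → F) →ₗ[F] F :=
    { toFun := fun x => f x v, map_add' := fun a b => hs.add_left a b v, map_smul' := fun r a => hs.smul_left r a v }
  let β : (ι → F) →ₗ[F] F :=
    { toFun := fun x => f x y, map_add' := fun a b => hs.add_left a b y, map_smul' := fun r a => hs.smul_left r a y }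
  obtain ⟨g, hg, hgx⟩ := exists_two_step (v := v) (y := y) α (c • α - σ ε • β) hv hyv (by
    change c * f v v - σ ε * f v y = 0
    rw [hv, hf.eq_zero_swap hyv, mul_zero, mul_zero, sub_zero])
  have hgx' : ∀ x, (g : Matrix ι ι F) *ᵥ x = x + f x v • y + (c * f x v - σ ε * f x y) • v := fun x => by
    rw [hgx]; rfl
  exact ⟨g, hg, ⟨y, c, hyv, hc, hgx'⟩, hgx'⟩

theorem form_data {G : Subgroup (GL ι F)} (hG : ∀ g ∈ G, ∀ x y, f ((g : Matrix ι ι F) *ᵥ x) ((g : Matrix ι ι F) *ᵥ y) = f x y)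
    (hmem : ∀ g ∈ specialLinear ι F,
      (∀ x y, f ((g : Matrix ι ι F) *ᵥ x) ((g : Matrix ι ι F) *ᵥ y) = f x y) → g ∈ G)
    (hiso : ∀ v, ∃ X, ε * X + σ X = f v v)
    (hgen : ∀ K : Subgroup (GL ι F), (∀ (v : ι → F) (c : F), f v v = 0 → v ≠ 0 → ε * c + σ c = 0 →
      ∀ g : GL ι F, (∀ x, (g : Matrix ι ι F) *ᵥ x = x + (c * f x v) • v) → g ∈ K) → G ≤ K) :
    Data G f (fun v => f v v = 0) (UF σ ε f) := by
  have hs := hf.semi
  refine
    { swap := fun x y h => hf.eq_zero_swap h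
      add_left := hs.add_left
      add_right := hs.add_right
      conj := ?_
      sing := fun g hg v (hv : f v v = 0) => (hG g hg v v).trans hv
      scale := ?_
      mem := ?_
      trans := ?_
      add_sing := ?_
      nonorth := ?_
      gen := ?_ }
  · rintro g hg v h ⟨y, c, hyv, hc, hx⟩
    refine ⟨(g : Matrix ι ι F) *ᵥ y, c, (hG g hg y v).trans hyv, by rw [hG g hg, hc], fun x => ?_⟩
    obtain ⟨z, rfl⟩ : ∃ z, x = (g : Matrix ι ι F) *ᵥ z := ⟨_, (gl_mulVec_inv_cancel g x).symm⟩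
    rw [gl_mul_mulVec, gl_mul_mulVec, gl_inv_mulVec_cancel, hx, hG g hg, hG g hg, Matrix.mulVec_add, Matrix.mulVec_add,
      Matrix.mulVec_smul, Matrix.mulVec_smul]
  · rintro l v h hl ⟨y, c, hyv, hc, hx⟩
    have hl' : σ l ≠ 0 := (map_ne_zero σ).mpr hl
    refine ⟨(σ l)⁻¹ • y, c / (l * σ l), by rw [hs.smul_left, hs.smul_right, hyv, mul_zero, mul_zero], ?_, fun x => ?_⟩
    · rw [hs.smul_left, hs.smul_right, map_div₀, map_mul, map_inv₀, hf.invol]
      field_simp
      linear_combination hc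
    · rw [hx, hs.smul_right, hs.smul_right, map_inv₀, hf.invol]
      match_scalars <;> field_simp <;> ring
  · intro v h hv hh
    obtain ⟨y, c, hyv, hc, hx⟩ := hh
    obtain ⟨g, hg, hgU, hgx⟩ := exists_UF hf hv hyv hc
    rw [show h = g from gl_ext_mulVec fun x => by rw [hx, hgx]]
    exact hmem g hg (UF_iso hf hv hgU)
  · intro u v u' hu hv hu' huv hu'v
    obtain ⟨β, hβ⟩ : ∃ β, β = f u v := ⟨_, rfl⟩
    obtain ⟨l, hl⟩ : ∃ l, l = β / f u' v := ⟨_, rfl⟩
    have hl0 : l ≠ 0 := by rw [hl]; exact div_ne_zero (hβ ▸ huv) hu'v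
    obtain ⟨d, hd⟩ : ∃ d, d = l • u' - u := ⟨_, rfl⟩
    rw [← hβ] at huv
    have hdv : f d v = 0 := by
      rw [hd, sub_eq_add_neg, hs.add_left, hf.neg_left, hs.smul_left, ← hβ, hl, div_mul_cancel₀ _ hu'v]
      ring
    have hσβ : σ β ≠ 0 := (map_ne_zero σ).mpr huv
    have hdd : f (u + d) (u + d) = 0 := by
      rw [hd, add_sub_cancel, hs.smul_left, hs.smul_right, hu', mul_zero, mul_zero]
    rw [hs.add_left, hs.add_right, hs.add_right, hu] at hdd
    obtain ⟨g, -, hgU, hgx⟩ := exists_UF hf hv (y := β⁻¹ • d) (c := σ ε * f u d / (β * σ β))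
      (by rw [hs.smul_left, hdv, mul_zero]) (by
        rw [hs.smul_left, hs.smul_right, map_div₀, map_mul, map_mul, map_inv₀, hf.invol, hf.invol, sigma_f hf u d]
        field_simp
        linear_combination hdd + (f u d + f d u) * sigma_eps hf)
    refine ⟨g, l, hgU, hl0, ?_⟩
    rw [hgx, ← hβ, hs.smul_right, map_inv₀, show l • u' = u + d by rw [hd]; abel]
    match_scalars <;> field_simp <;> ring
  · intro x u hx hu hxu
    show f (x + u) (x + u) = 0
    rw [hs.add_left, hs.add_right, hs.add_right, hx, hu, hxu, hf.eq_zero_swap hxu]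
    ring
  · intro x hx hx0
    obtain ⟨a, ha⟩ := (hf.nondeg x hx0).2
    obtain ⟨X, hX⟩ := hiso a
    obtain ⟨t, ht⟩ : ∃ t, t = -(ε * X) / f x a := ⟨_, rfl⟩
    refine ⟨a + t • x, ?_, by rw [hs.add_right, hs.smul_right, hx, mul_zero, add_zero]; exact ha⟩
    have e1 : t * f x a = -(ε * X) := by rw [ht, div_mul_cancel₀ _ ha]
    have e2 : σ t * σ (f x a) = -(σ ε * σ X) := by rw [← map_mul, e1, map_neg, map_mul]
    rw [hs.add_left, hs.add_right, hs.add_right, hs.smul_left, hs.smul_left, hs.smul_right, hs.smul_right, hx,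
      hf.swap x a]
    linear_combination e1 + ε * e2 - hX - σ X * sigma_eps hf
  · intro K hK
    refine hgen K fun v c hv hv0 hc g hg => hK v hv hv0 g ⟨0, c, hf.zero_left v, by rw [hf.zero_left, hc, add_zero], ?_⟩
    intro x
    rw [hg, smul_zero, hf.zero_right, mul_zero, sub_zero, add_zero]

/-- The stabiliser of a totally isotropic subspace is maximal. -/
theorem isMaximal_form {G : Subgroup (GL ι F)}
    (hG : ∀ g ∈ G, ∀ x y, f ((g : Matrix ι ι F) *ᵥ x) ((g : Matrix ι ι F) *ᵥ y) = f x y)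
    (hmem : ∀ g ∈ specialLinear ι F,
      (∀ x y, f ((g : Matrix ι ι F) *ᵥ x) ((g : Matrix ι ι F) *ᵥ y) = f x y) → g ∈ G)
    (hiso : ∀ v, ∃ X, ε * X + σ X = f v v)
    (hskew : ∃ c, c ≠ 0 ∧ ε * c + σ c = 0)
    (hgen : ∀ K : Subgroup (GL ι F), (∀ (v : ι → F) (c : F), f v v = 0 → v ≠ 0 → ε * c + σ c = 0 →
      ∀ g : GL ι F, (∀ x, (g : Matrix ι ι F) *ᵥ x = x + (c * f x v) • v) → g ∈ K) → G ≤ K)
    {W : Submodule F (ι → F)} (hW0 : W ≠ ⊥) (hW : IsTotallySingularFor f W) :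
    IsMaximalIn G (subspaceStabilizer W ⊓ G) := by
  have hs := hf.semi
  obtain ⟨c, hc0, hc⟩ := hskew
  have Δ := form_data hf hG hmem hiso hgen
  -- a transvection
  have htr : ∀ a, f a a = 0 → ∃ h ∈ G, UF σ ε f a h ∧ ∀ x, (h : Matrix ι ι F) *ᵥ x = x + (c * f x a) • a := by
    intro a ha
    obtain ⟨h, hh, hU, hx⟩ := exists_UF hf ha (hf.zero_left a) (c := c) (by rw [hf.zero_left, hc, add_zero])
    exact ⟨h, hmem h hh (UF_iso hf ha hU), hU, fun x => by
      rw [hx, smul_zero, hf.zero_right, mul_zero, sub_zero, add_zero]⟩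
  refine isMaximal Δ hW0 (fun w hw => hW w hw w hw) hW (fun v hv h hh => ?_) (fun u hu huW huo => ?_) ?_
  · obtain ⟨y, c', hyv, -, hx⟩ := hh
    refine mem_subspaceStabilizer_iff.mpr fun w hw => ?_
    rw [hx, hW w hw v hv, zero_smul, add_zero]
    exact add_mem hw (W.smul_mem _ hv)
  · obtain ⟨a₀, ha₀, hua⟩ : ∃ a ∈ hf.perp W, f u a ≠ 0 := by
      by_contra hcon
      push Not at hcon
      exact huW (hf.perp_perp W ▸ (show u ∈ hf.perp (hf.perp W) from hcon))
    obtain ⟨X, hX⟩ := hiso a₀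
    obtain ⟨t, ht⟩ : ∃ t, t = -(ε * X) / f u a₀ := ⟨_, rfl⟩
    have e1 : t * f u a₀ = -(ε * X) := by rw [ht, div_mul_cancel₀ _ hua]
    have e2 : σ t * σ (f u a₀) = -(σ ε * σ X) := by rw [← map_mul, e1, map_neg, map_mul]
    obtain ⟨a, ha⟩ : ∃ a, a = a₀ + t • u := ⟨_, rfl⟩
    have haa : f a a = 0 := by
      rw [ha, hs.add_left, hs.add_right, hs.add_right, hs.smul_left, hs.smul_left, hs.smul_right, hs.smul_right, hu,
        hf.swap u a₀]
      linear_combination e1 + ε * e2 - hX - σ X * sigma_eps hf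
    have hau : f u a ≠ 0 := by rw [ha, hs.add_right, hs.smul_right, hu, mul_zero, add_zero]; exact hua
    obtain ⟨h, hhG, -, hx⟩ := htr a haa
    refine ⟨h, ⟨mem_subspaceStabilizer_iff.mpr fun w hw => ?_, hhG⟩, ?_⟩
    · have : f a w = 0 := by rw [ha, hs.add_left, hs.smul_left, ha₀ w hw, huo w hw, mul_zero, add_zero]
      rw [hx, hf.eq_zero_swap this, mul_zero, zero_smul, add_zero]
      exact hw
    · rw [hx, hs.add_left, hs.smul_left, hu, zero_add]
      exact mul_ne_zero (mul_ne_zero hc0 hau) (fun e => hau (hf.eq_zero_swap e))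
  · intro hle
    obtain ⟨w, hw, hw0⟩ := Submodule.exists_mem_ne_zero_of_ne_bot hW0
    obtain ⟨z, hz, hwz⟩ := Δ.nonorth w (hW w hw w hw) hw0
    obtain ⟨h, hhG, -, hx⟩ := htr z hz
    have h1 := hW _ (mem_subspaceStabilizer_iff.mp (hle hhG) w hw) w hw
    rw [hx, hs.add_left, hs.smul_left, hW w hw w hw, zero_add] at h1
    exact mul_ne_zero (mul_ne_zero hc0 hwz) (fun e => hwz (hf.eq_zero_swap e)) h1

end Cfsg.Agent.Classical.Radical
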