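/-
Stabilisers of orthogonal splittings are maximal: the argument through radicals inside one part.
-/
import Cfsg.Agent.Lib.Classical.RadicalStab

set_option autoImplicit false
set_option linter.unusedSectionVars false

namespace Cfsg.Agent.Classical.Radical

open Matrix Cfsg.Geo
open Cfsg.Agent.Classical

variable {ι : Type} [Fintype ι] [DecidableEq ι] {F : Type*} [Field F]

/-- An orthogonal splitting `W + W'`, with the radicals parametrised by vectors. -/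
structure Split (G : Subgroup (GL ι F)) (f : (ι → F) → (ι → F) → F) (Sg : (ι → F) → Prop)
    (U : (ι → F) → GL ι F → Prop) (Ey : (ι → F) → (ι → F) → GL ι F → Prop) (τ : F → F)
    (W W' : Submodule F (ι → F)) : Prop where
  dec : ∀ x, ∃ a ∈ W, ∃ b ∈ W', x = a + b
  inter : ∀ x ∈ W, x ∈ W' → x = 0
  orth : ∀ a ∈ W, ∀ b ∈ W', f a b = 0
  stab_perp : ∀ g ∈ subspaceStabilizer W ⊓ G, ∀ b ∈ W', (g : Matrix ι ι F) *ᵥ b ∈ W'
  u_iff : ∀ v h, U v h → ∃ y, f v y = 0 ∧ Ey v y h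
  u_of : ∀ v y h, f v y = 0 → Ey v y h → U v h
  exists_e : ∀ v y, Sg v → f v y = 0 → ∃ h, Ey v y h
  comp : ∀ v y y' h h', Sg v → f v y = 0 → f v y' = 0 → Ey v y h → Ey v y' h' → Ey v (y + y') (h * h')
  e_conj : ∀ g ∈ G, ∀ v y h, Ey v y h → Ey ((g : Matrix ι ι F) *ᵥ v) ((g : Matrix ι ι F) *ᵥ y) (g * h * g⁻¹)
  e_scale : ∀ (l : F) v y h, l ≠ 0 → Ey (l • v) y h → Ey v (τ l • y) h
  tau : ∀ l : F, l ≠ 0 → ∃ m, m ≠ 0 ∧ τ m = l
  fix : ∀ v ∈ W', ∀ y ∈ W', ∀ h, Sg v → Ey v y h → ∀ w ∈ W, (h : Matrix ι ι F) *ᵥ w = w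
  sg_smul : ∀ (c : F) v, Sg v → Sg (c • v)
  smul_left : ∀ (c : F) x y, f (c • x) y = c * f x y
  dual : ∀ v ∈ W', ∀ u ∈ W', Sg v → Sg u → f v u = 0 → u ∉ Submodule.span F {v} → v ≠ 0 →
    ∃ z ∈ W', Sg z ∧ f v z ≠ 0 ∧ f u z = f v z
  trans_in : ∀ u ∈ W', ∀ z ∈ W', ∀ u' ∈ W', Sg u → Sg z → Sg u' → f u z ≠ 0 → f u' z = f u z →
    ∃ y ∈ W', ∃ h, f z y = 0 ∧ Ey z y h ∧ (h : Matrix ι ι F) *ᵥ u = u'
  side : ∀ v ∈ W', ∀ z ∈ W', Sg v → Sg z → v ≠ 0 → z ≠ 0 → ∃ x ∈ W', Sg x ∧ x ≠ 0 ∧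
    (∃ u ∈ W', Sg u ∧ f v u = 0 ∧ f x u = 0 ∧ u ∉ Submodule.span F {v, x}) ∧
    ∃ u ∈ W', Sg u ∧ f x u = 0 ∧ f z u = 0 ∧ u ∉ Submodule.span F {x, z}
  span : W' ≤ Submodule.span F {s | s ∈ W' ∧ Sg s}
  pair : ∀ v ∈ W', Sg v → v ≠ 0 → ∃ z ∈ W', Sg z ∧ f v z ≠ 0

variable {G : Subgroup (GL ι F)} {f : (ι → F) → (ι → F) → F} {Sg : (ι → F) → Prop} {U : (ι → F) → GL ι F → Prop}
  {Ey : (ι → F) → (ι → F) → GL ι F → Prop} {τ : F → F} {W W' : Submodule F (ι → F)}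

/-- Singular vectors with a common singular neighbour are moved by elements fixing the first part. -/
theorem link_step (Δ : Data G f Sg U) (S : Split G f Sg U Ey τ W W') {v v' : ι → F} (hv : v ∈ W') (hv' : v' ∈ W')
    (hvs : Sg v) (hv's : Sg v') (hv0 : v ≠ 0) (hv'0 : v' ≠ 0)
    (h : ∃ u ∈ W', Sg u ∧ f v u = 0 ∧ f v' u = 0 ∧ u ∉ Submodule.span F {v, v'}) :
    ∃ m ∈ G, (∀ w ∈ W, (m : Matrix ι ι F) *ᵥ w = w) ∧ (m : Matrix ι ι F) *ᵥ v = v' := by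
  obtain ⟨u, hu, hus, hvu, hv'u, hind⟩ := h
  have h1 : u ∉ Submodule.span F {v} := fun h => hind (Submodule.span_mono (by simp) h)
  have h2 : u ∉ Submodule.span F {v'} := fun h => hind (Submodule.span_mono (by simp) h)
  obtain ⟨z, hz, hzs, hne, heq⟩ := S.dual v hv u hu hvs hus hvu h1 hv0
  obtain ⟨z', hz', hz's, hne', heq'⟩ := S.dual v' hv' u hu hv's hus hv'u h2 hv'0
  obtain ⟨y, hy, h, hyo, hh, hhv⟩ := S.trans_in v hv z hz u hu hvs hzs hus hne heq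
  obtain ⟨y', hy', h', hy'o, hh', hhu⟩ := S.trans_in u hu z' hz' v' hv' hus hz's hv's (heq' ▸ hne') heq'.symm
  refine ⟨h' * h, mul_mem (Δ.mem _ _ hz's (S.u_of _ _ _ hy'o hh')) (Δ.mem _ _ hzs (S.u_of _ _ _ hyo hh)),
    fun w hw => ?_, by rw [gl_mul_mulVec, hhv, hhu]⟩
  rw [gl_mul_mulVec, S.fix z hz y hy h hzs hh w hw, S.fix z' hz' y' hy' h' hz's hh' w hw]

/-- Singular vectors of the second part are moved by elements fixing the first part. -/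
theorem link (Δ : Data G f Sg U) (S : Split G f Sg U Ey τ W W') {v v' : ι → F} (hv : v ∈ W') (hv' : v' ∈ W')
    (hvs : Sg v) (hv's : Sg v') (hv0 : v ≠ 0) (hv'0 : v' ≠ 0) :
    ∃ m ∈ G, (∀ w ∈ W, (m : Matrix ι ι F) *ᵥ w = w) ∧ (m : Matrix ι ι F) *ᵥ v = v' := by
  obtain ⟨x, hx, hxs, hx0, h1, h2⟩ := S.side v hv v' hv' hvs hv's hv0 hv'0
  obtain ⟨m₁, hm₁, hm₁W, hm₁v⟩ := link_step Δ S hv hx hvs hxs hv0 hx0 h1
  obtain ⟨m₂, hm₂, hm₂W, hm₂x⟩ := link_step Δ S hx hv' hxs hv's hx0 hv'0 h2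
  exact ⟨m₂ * m₁, mul_mem hm₂ hm₁, fun w hw => by rw [gl_mul_mulVec, hm₁W w hw, hm₂W w hw],
    by rw [gl_mul_mulVec, hm₁v, hm₂x]⟩

/-- The stabiliser of a splitting is maximal. -/
theorem split_isMaximal (Δ : Data G f Sg U) (S : Split G f Sg U Ey τ W W')
    (hswap : ∀ g ∈ G, ∃ s ∈ W', (g : Matrix ι ι F) *ᵥ s ∉ W)
    (hfix : ∀ g ∈ G, (∀ b ∈ W', (g : Matrix ι ι F) *ᵥ b ∈ W') → g ∈ subspaceStabilizer W)
    (seed : ∀ K : Subgroup (GL ι F), subspaceStabilizer W ⊓ G ≤ K → ∀ g ∈ K, g ∈ G → ∀ s ∈ W', Sg s → ∀ a ∈ W,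
      ∀ b ∈ W', (g : Matrix ι ι F) *ᵥ s = a + b → a ≠ 0 → b ≠ 0 →
      ∃ v ∈ W', ∃ a' ∈ W, Sg v ∧ v ≠ 0 ∧ a' ≠ 0 ∧ ∃ h ∈ K, Ey v a' h)
    (hirr : ∀ v ∈ W', Sg v → v ≠ 0 → ∀ A : Submodule F (ι → F), A ≤ W → A ≠ ⊥ →
      (∀ m ∈ subspaceStabilizer W ⊓ G, (m : Matrix ι ι F) *ᵥ v = v → ∀ a ∈ A, (m : Matrix ι ι F) *ᵥ a ∈ A) → A = W)
    (hproper : ¬ G ≤ subspaceStabilizer W) :
    IsMaximalIn G (subspaceStabilizer W ⊓ G) := by
  refine ⟨lt_of_le_of_ne inf_le_right fun e => hproper (inf_eq_right.mp e),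
    fun K hK hKG => or_iff_not_imp_left.mpr fun hne => le_antisymm hKG ?_⟩
  obtain ⟨g, hg, hgn⟩ : ∃ g ∈ K, g ∉ subspaceStabilizer W := by
    by_contra hcon
    push Not at hcon
    exact hne (le_antisymm (le_inf hcon hKG) hK)
  have hsum : ∀ {x y : ι → F}, x ∈ W → y ∈ W' → x ≠ 0 → y ≠ 0 → x + y ∉ W ∧ x + y ∉ W' := by
    intro x y hx hy hx0 hy0
    refine ⟨fun h => hy0 (S.inter y ?_ hy), fun h => hx0 (S.inter x hx ?_)⟩
    · simpa using sub_mem h hx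
    · simpa using sub_mem h hy
  -- a singular vector with mixed image
  obtain ⟨s, hs, hss, hgW, hgW'⟩ : ∃ s ∈ W', Sg s ∧ (g : Matrix ι ι F) *ᵥ s ∉ W ∧ (g : Matrix ι ι F) *ᵥ s ∉ W' := by
    by_contra hcon
    push Not at hcon
    let φ : (ι → F) →ₗ[F] (ι → F) := Matrix.mulVecLin (g : Matrix ι ι F)
    have hφ : ∀ x, φ x = (g : Matrix ι ι F) *ᵥ x := fun x => rfl
    by_cases hall : ∀ s ∈ W', Sg s → (g : Matrix ι ι F) *ᵥ s ∈ W'
    · refine hgn (hfix g (hKG hg) fun b hb => ?_)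
      have : Submodule.span F {s | s ∈ W' ∧ Sg s} ≤ W'.comap φ :=
        Submodule.span_le.mpr fun x hx => hall x hx.1 hx.2
      exact this (S.span hb)
    push Not at hall
    obtain ⟨t, ht, hts, htW'⟩ := hall
    have htW : (g : Matrix ι ι F) *ᵥ t ∈ W := by
      by_contra h
      exact htW' (hcon t ht hts h)
    obtain ⟨b, hb, hbW⟩ := hswap g (hKG hg)
    refine hbW ((show Submodule.span F {s | s ∈ W' ∧ Sg s} ≤ W.comap φ from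
      Submodule.span_le.mpr fun x hx => ?_) (S.span hb))
    show (g : Matrix ι ι F) *ᵥ x ∈ W
    by_contra hxW
    have hxW' := hcon x hx.1 hx.2 hxW
    have hx0 : (g : Matrix ι ι F) *ᵥ x ≠ 0 := fun e => hxW (e ▸ W.zero_mem)
    have ht0 : (g : Matrix ι ι F) *ᵥ t ≠ 0 := fun e => htW' (e ▸ W'.zero_mem)
    obtain ⟨h1, h2⟩ := hsum htW hxW' ht0 hx0
    have hgi : ((g⁻¹ : GL ι F)) ∈ G := inv_mem (hKG hg)
    have htx : Sg (t + x) := by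
      have := Δ.sing _ hgi _ (Δ.add_sing _ _ (Δ.sing g (hKG hg) t hts) (Δ.sing g (hKG hg) x hx.2)
        (S.orth _ htW _ hxW'))
      rwa [Matrix.mulVec_add, gl_inv_mulVec_cancel, gl_inv_mulVec_cancel] at this
    rw [← Matrix.mulVec_add] at h1 h2
    exact h2 (hcon (t + x) (W'.add_mem ht hx.1) htx h1)
  obtain ⟨a, ha, b, hb, hab⟩ := S.dec ((g : Matrix ι ι F) *ᵥ s)
  obtain ⟨v, hv, a', ha', hvs, hv0, ha'0, hseed⟩ := seed K hK g hg (hKG hg) s hs hss a ha b hb hab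
    (fun e => hgW' (by rw [hab, e, zero_add]; exact hb)) (fun e => hgW (by rw [hab, e, add_zero]; exact ha))
  have hstab : ∀ {m : GL ι F}, (∀ w ∈ W, (m : Matrix ι ι F) *ᵥ w = w) → m ∈ subspaceStabilizer W := fun h =>
    mem_subspaceStabilizer_iff.mpr fun w hw => by rw [h w hw]; exact hw
  have horth : ∀ {a : ι → F}, a ∈ W → f v a = 0 := fun h => Δ.swap _ _ (S.orth _ h v hv)
  have hin : ∀ {y : ι → F}, y ∈ W' → f v y = 0 → ∀ h, Ey v y h → h ∈ K := fun hy hvy h hh =>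
    hK ⟨hstab (S.fix v hv _ hy h hvs hh), Δ.mem v h hvs (S.u_of v _ h hvy hh)⟩
  -- the first components available with centre `v`
  let A : Submodule F (ι → F) :=
    { carrier := {x | x ∈ W ∧ ∃ h ∈ K, Ey v x h}
      add_mem' := fun {x y} ⟨hx, k, hk, hkx⟩ ⟨hy, l, hl, hly⟩ =>
        ⟨W.add_mem hx hy, k * l, mul_mem hk hl, S.comp v x y k l hvs (horth hx) (horth hy) hkx hly⟩
      zero_mem' := by
        obtain ⟨h, hh⟩ := S.exists_e v 0 hvs (f_zero Δ v)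
        exact ⟨W.zero_mem, h, hin W'.zero_mem (f_zero Δ v) h hh, hh⟩
      smul_mem' := fun c x ⟨hx, k, hk, hkx⟩ => by
        refine ⟨W.smul_mem c hx, ?_⟩
        by_cases hc : c = 0
        · obtain ⟨h, hh⟩ := S.exists_e v 0 hvs (f_zero Δ v)
          rw [hc, zero_smul]
          exact ⟨h, hin W'.zero_mem (f_zero Δ v) h hh, hh⟩
        obtain ⟨μ, hμ, rfl⟩ := S.tau c hc
        obtain ⟨m, hm, hmW, hmv⟩ := link Δ S hv (W'.smul_mem μ hv) hvs (S.sg_smul μ v hvs) hv0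
          (smul_ne_zero hμ hv0)
        have hmK : m ∈ K := hK ⟨hstab hmW, hm⟩
        have h1 := S.e_conj m hm v x k hkx
        rw [hmv, hmW x hx] at h1
        exact ⟨_, mul_mem (mul_mem hmK hk) (inv_mem hmK), S.e_scale μ v x _ hμ h1⟩ }
  have hA : A = W := by
    refine hirr v hv hvs hv0 A (fun x hx => hx.1) (fun e => ha'0 ?_) fun m hm hmv x hx => ?_
    · have : a' ∈ A := ⟨ha', hseed⟩
      rw [e] at this
      exact this
    · obtain ⟨hx, k, hk, hkx⟩ := hx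
      refine ⟨mem_subspaceStabilizer_iff.mp hm.1 x hx, m * k * m⁻¹, mul_mem (mul_mem (hK hm) hk) (inv_mem (hK hm)), ?_⟩
      have h1 := S.e_conj m hm.2 v x k hkx
      rwa [hmv] at h1
  have hPv : Has Sg U K v := by
    refine ⟨hvs, fun h hh => ?_⟩
    obtain ⟨y, hvy, hhy⟩ := S.u_iff v h hh
    obtain ⟨a₁, ha₁, b₁, hb₁, rfl⟩ := S.dec y
    have hb₁v : f v b₁ = 0 := by
      rwa [Δ.add_right, horth ha₁, zero_add] at hvy
    obtain ⟨-, h₁, hh₁, hh₁y⟩ := (show a₁ ∈ A from hA.symm ▸ ha₁)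
    obtain ⟨h₂, hh₂⟩ := S.exists_e v b₁ hvs hb₁v
    have hneg : f v (-(a₁ + b₁)) = 0 := by
      have e := Δ.add_right v (a₁ + b₁) (-(a₁ + b₁))
      rwa [add_neg_cancel, f_zero Δ, hvy, zero_add, eq_comm] at e
    obtain ⟨h₃, hh₃⟩ := S.exists_e v (-(a₁ + b₁)) hvs hneg
    have e0 : ∀ {k : GL ι F}, Ey v (a₁ + b₁) k → h₃ * k ∈ K := fun {k} hk' => by
      have := S.comp v _ _ h₃ k hvs hneg hvy hh₃ hk'
      rw [neg_add_cancel] at this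
      exact hin W'.zero_mem (f_zero Δ v) _ this
    have h12 : h₁ * h₂ ∈ K := mul_mem hh₁ (hin hb₁ hb₁v h₂ hh₂)
    have h3 : h₃ ∈ K := by
      have := mul_mem (e0 (S.comp v _ _ h₁ h₂ hvs (horth ha₁) hb₁v hh₁y hh₂)) (inv_mem h12)
      rwa [mul_inv_cancel_right] at this
    have := mul_mem (inv_mem h3) (e0 hhy)
    rwa [inv_mul_cancel_left] at this
  obtain ⟨z, hz, hzs, hvz⟩ := S.pair v hv hvs hv0
  have hz0 : z ≠ 0 := fun e => hvz (by rw [e]; exact f_zero Δ v)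
  obtain ⟨m, hm, hmW, hmv⟩ := link Δ S hv hz hvs hzs hv0 hz0
  have hPz := has_map Δ hKG m (hK ⟨hstab hmW, hm⟩) v hPv
  rw [hmv] at hPz
  exact le_of_pair Δ hKG hPv hPz hvz

end Cfsg.Agent.Classical.Radical
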