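/-
Stabilisers of non-degenerate subspaces in symplectic and unitary groups.
-/
import Cfsg.Agent.Lib.Classical.RadicalSplit
import Cfsg.Agent.Lib.Classical.RadicalForm

set_option autoImplicit false
set_option linter.unusedSectionVars false

namespace Cfsg.Agent.Classical.Radical

open Matrix Module Cfsg.Geo
open Cfsg.Agent.Classical

variable {ι : Type} [Fintype ι] [DecidableEq ι] {F : Type*} [Field F] {σ : F ≃+* F} {ε : F}
  {f : (ι → F) → (ι → F) → F}

/-- An element of the radical of `v` with parameter `y`. -/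
def EF (σ : F ≃+* F) (ε : F) (f : (ι → F) → (ι → F) → F) (v y : ι → F) (h : GL ι F) : Prop :=
  ∃ c : F, ε * c + σ c + f y y = 0 ∧
    ∀ x, (h : Matrix ι ι F) *ᵥ x = x + f x v • y + (c * f x v - σ ε * f x y) • v

/-- Part of a subspace avoiding another one. -/
theorem exists_avoid (X S : Submodule F (ι → F)) :
    ∃ Y ≤ X, Y ⊓ S = ⊥ ∧ finrank F X ≤ finrank F Y + finrank F S := by
  obtain ⟨Z, hZ⟩ := Submodule.exists_isCompl (X ⊓ S)
  refine ⟨X ⊓ Z, inf_le_left, ?_, ?_⟩
  · rw [inf_assoc, inf_comm Z S, ← inf_assoc]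
    exact hZ.inf_eq_bot
  · have h1 := Submodule.finrank_sup_add_finrank_inf_eq X Z
    have h2 := Submodule.finrank_add_eq_of_isCompl hZ
    have h3 := Submodule.finrank_le (X ⊔ Z)
    have h4 := Submodule.finrank_mono (inf_le_right : X ⊓ S ≤ S)
    omega

/-- Two proportional-avoiding spans are small. -/
theorem finrank_span_pair_le (v z : ι → F) : finrank F (Submodule.span F {v, z}) ≤ 2 := by
  classical
  have h := finrank_span_finset_le_card (R := F) ({v, z} : Finset (ι → F))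
  rw [Finset.coe_insert, Finset.coe_singleton] at h
  exact h.trans Finset.card_le_two

variable [Nonempty ι] (hf : IsReflexForm σ ε f)

include hf

/-- A vector not orthogonal to an isotropic one can be corrected along it. -/
theorem exists_correct (hiso : ∀ v, ∃ X, ε * X + σ X = f v v) {e x : ι → F} (he : f e e = 0) (hex : f e x ≠ 0) :
    ∃ t : F, f (x + t • e) (x + t • e) = 0 := by
  have hs := hf.semi
  obtain ⟨X, hX⟩ := hiso x
  obtain ⟨t, ht⟩ : ∃ t, t = -(ε * X) / f e x := ⟨_, rfl⟩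
  refine ⟨t, ?_⟩
  have e1 : t * f e x = -(ε * X) := by rw [ht, div_mul_cancel₀ _ hex]
  have e2 : σ t * σ (f e x) = -(σ ε * σ X) := by rw [← map_mul, e1, map_neg, map_mul]
  rw [hs.add_left, hs.add_right, hs.add_right, hs.smul_left, hs.smul_left, hs.smul_right, hs.smul_right, he,
    hf.swap e x]
  linear_combination e1 + ε * e2 - hX - σ X * sigma_eps hf

/-- In a non-degenerate subspace an isotropic vector gives enough isotropic vectors. -/
theorem iso_pair (hiso : ∀ v, ∃ X, ε * X + σ X = f v v) {X : Submodule F (ι → F)} (hX : IsNondegenerateOn f X)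
    {e : ι → F} (he : e ∈ X) (hee : f e e = 0) (he0 : e ≠ 0) : ∃ z ∈ X, f z z = 0 ∧ f e z ≠ 0 := by
  obtain ⟨x, hx, hne⟩ := (hX e he he0).2
  obtain ⟨t, ht⟩ := exists_correct hf hiso hee hne
  exact ⟨_, X.add_mem hx (X.smul_mem t he), ht, by
    rw [hf.semi.add_right, hf.semi.smul_right, hee, mul_zero, add_zero]; exact hne⟩

theorem iso_span (hiso : ∀ v, ∃ X, ε * X + σ X = f v v) {X : Submodule F (ι → F)} (hX : IsNondegenerateOn f X)
    {e : ι → F} (he : e ∈ X) (hee : f e e = 0) (he0 : e ≠ 0) :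
    X ≤ Submodule.span F {s | s ∈ X ∧ f s s = 0} := by
  have heS : e ∈ Submodule.span F {s | s ∈ X ∧ f s s = 0} := Submodule.subset_span ⟨he, hee⟩
  have key : ∀ x ∈ X, f e x ≠ 0 → x ∈ Submodule.span F {s | s ∈ X ∧ f s s = 0} := fun x hx hne => by
    obtain ⟨t, ht⟩ := exists_correct hf hiso hee hne
    have h1 : x + t • e ∈ Submodule.span F {s | s ∈ X ∧ f s s = 0} :=
      Submodule.subset_span ⟨X.add_mem hx (X.smul_mem t he), ht⟩
    simpa using Submodule.sub_mem _ h1 (Submodule.smul_mem _ t heS)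
  intro x hx
  by_cases h : f e x = 0
  · obtain ⟨z, hz, hne⟩ := (hX e he he0).2
    simpa using Submodule.sub_mem _
      (key (x + z) (X.add_mem hx hz) (by rw [hf.semi.add_right, h, zero_add]; exact hne)) (key z hz hne)
  · exact key x hx h

/-- The stabiliser of a non-degenerate subspace is maximal. -/
theorem isMaximal_formSplit {G : Subgroup (GL ι F)}
    (hG : ∀ g ∈ G, ∀ x y, f ((g : Matrix ι ι F) *ᵥ x) ((g : Matrix ι ι F) *ᵥ y) = f x y)
    (hmem : ∀ g ∈ specialLinear ι F,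
      (∀ x y, f ((g : Matrix ι ι F) *ᵥ x) ((g : Matrix ι ι F) *ᵥ y) = f x y) → g ∈ G)
    (hiso : ∀ v, ∃ X, ε * X + σ X = f v v)
    (hiso2 : ∀ Y : Submodule F (ι → F), 2 ≤ finrank F Y → ∃ y ∈ Y, y ≠ 0 ∧ f y y = 0)
    (hskew : ∃ c, c ≠ 0 ∧ ε * c + σ c = 0)
    (hgen : ∀ K : Subgroup (GL ι F), (∀ (v : ι → F) (c : F), f v v = 0 → v ≠ 0 → ε * c + σ c = 0 →
      ∀ g : GL ι F, (∀ x, (g : Matrix ι ι F) *ᵥ x = x + (c * f x v) • v) → g ∈ K) → G ≤ K)
    {W : Submodule F (ι → F)} (hW0 : W ≠ ⊥) (hW : IsNondegenerateOn f W)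
    (hdim : 2 * finrank F W < Fintype.card ι) (hn : 6 ≤ Fintype.card ι) :
    IsMaximalIn G (subspaceStabilizer W ⊓ G) := by
  have hs := hf.semi
  obtain ⟨c, hc0, hc⟩ := hskew
  have Δ := form_data hf hG hmem hiso hgen
  obtain ⟨W', hW'⟩ : ∃ W', W' = hf.perp W := ⟨_, rfl⟩
  have hd := hf.finrank_perp W
  rw [← hW'] at hd
  have orth : ∀ a ∈ W, ∀ b ∈ W', f a b = 0 := fun a ha b hb => hf.eq_zero_swap ((hW' ▸ hb : b ∈ hf.perp W) a ha)
  have orth' : ∀ a ∈ W, ∀ b ∈ W', f b a = 0 := fun a ha b hb => (hW' ▸ hb : b ∈ hf.perp W) a ha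
  have inter : ∀ x ∈ W, x ∈ W' → x = 0 := fun x hx hx' => by
    by_contra h0
    obtain ⟨z, hz, hne⟩ := (hW x hx h0).1
    exact hne (orth z hz x hx')
  have htop : W ⊔ W' = ⊤ := by
    refine Submodule.eq_top_of_finrank_eq ?_
    have h1 := Submodule.finrank_sup_add_finrank_inf_eq W W'
    rw [show W ⊓ W' = ⊥ from (Submodule.eq_bot_iff _).mpr fun x hx => inter x hx.1 hx.2, finrank_bot] at h1
    rw [Module.finrank_fintype_fun_eq_card]
    omega
  have dec : ∀ x, ∃ a ∈ W, ∃ b ∈ W', x = a + b := fun x => by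
    obtain ⟨a, ha, b, hb, e⟩ := Submodule.mem_sup.mp (htop ▸ Submodule.mem_top : x ∈ W ⊔ W')
    exact ⟨a, ha, b, hb, e.symm⟩
  -- separation inside the second part
  have sep : ∀ u ∈ W', ∀ d : ι → F, u ∉ Submodule.span F {d} → ∀ (_ : d ∈ W'),
      ∃ b ∈ W', f b d = 0 ∧ f b u ≠ 0 := by
    intro u hu d hud hd'
    obtain ⟨x, hx, hne⟩ : ∃ x ∈ hf.perp (Submodule.span F {d}), f x u ≠ 0 := by
      by_contra hcon
      push Not at hcon
      exact hud (hf.perp_perp (Submodule.span F {d}) ▸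
        (show u ∈ hf.perp (hf.perp (Submodule.span F {d})) from fun x hx => hf.eq_zero_swap (hcon x hx)))
    obtain ⟨a, ha, b, hb, rfl⟩ := dec x
    refine ⟨b, hb, ?_, ?_⟩
    · have := hx d (Submodule.mem_span_singleton_self d)
      rwa [hs.add_left, orth a ha d hd', zero_add] at this
    · rwa [hs.add_left, orth a ha u hu, zero_add] at hne
  have hW'nd : IsNondegenerateOn f W' := fun b hb hb0 => by
    obtain ⟨z, hz, -, hne⟩ := sep b hb 0 (by simpa using hb0) W'.zero_mem
    exact ⟨⟨z, hz, hne⟩, ⟨z, hz, fun e => hne (hf.eq_zero_swap e)⟩⟩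
  -- isotropic vectors avoiding one vector
  have exists_side : ∀ v ∈ W', ∃ u ∈ W', f u u = 0 ∧ f v u = 0 ∧ u ∉ Submodule.span F {v} := by
    intro v hv
    obtain ⟨Y, hYX, hYS, hYd⟩ := exists_avoid (W' ⊓ hf.perp (Submodule.span F {v})) (Submodule.span F {v})
    have h1 := Submodule.finrank_sup_add_finrank_inf_eq W' (hf.perp (Submodule.span F {v}))
    have h2 := hf.finrank_perp (Submodule.span F {v})
    have h3 := Submodule.finrank_le (W' ⊔ hf.perp (Submodule.span F {v}))
    rw [Module.finrank_fintype_fun_eq_card] at h3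
    have h4 : finrank F (Submodule.span F {v}) ≤ 1 := by
      have := finrank_span_finset_le_card (R := F) ({v} : Finset (ι → F))
      rwa [Finset.coe_singleton, Finset.card_singleton] at this
    obtain ⟨u, hu, hu0, huu⟩ := hiso2 Y (by omega)
    exact ⟨u, (hYX hu).1, huu, hf.eq_zero_swap ((hYX hu).2 v (Submodule.mem_span_singleton_self v)),
      fun h => hu0 (show u ∈ (⊥ : Submodule F (ι → F)) from hYS ▸ ⟨hu, h⟩)⟩
  -- isotropic vectors orthogonal to a hyperbolic pair
  have exists_off : ∀ v ∈ W', ∀ x ∈ W', f v v = 0 → f x x = 0 → f v x ≠ 0 →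
      ∃ u ∈ W', f u u = 0 ∧ f v u = 0 ∧ f x u = 0 ∧ u ∉ Submodule.span F {v, x} := by
    intro v hv x hx hvv hxx hvx
    have h1 := Submodule.finrank_sup_add_finrank_inf_eq W' (hf.perp (Submodule.span F {v, x}))
    have h2 := hf.finrank_perp (Submodule.span F {v, x})
    have h3 := Submodule.finrank_le (W' ⊔ hf.perp (Submodule.span F {v, x}))
    rw [Module.finrank_fintype_fun_eq_card] at h3
    have h4 := finrank_span_pair_le (F := F) v x
    obtain ⟨u, hu, hu0, huu⟩ := hiso2 (W' ⊓ hf.perp (Submodule.span F {v, x})) (by omega)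
    have hvu := hf.eq_zero_swap (hu.2 v (Submodule.subset_span (by simp)))
    have hxu := hf.eq_zero_swap (hu.2 x (Submodule.subset_span (by simp)))
    refine ⟨u, hu.1, huu, hvu, hxu, fun h => hu0 ?_⟩
    obtain ⟨r, s, hrs⟩ := Submodule.mem_span_pair.mp h
    rw [← hrs, hs.add_right, hs.smul_right, hs.smul_right, hvv, mul_zero, zero_add, mul_eq_zero] at hvu
    rw [← hrs, hs.add_right, hs.smul_right, hs.smul_right, hxx, mul_zero, add_zero, mul_eq_zero] at hxu
    have hr : r = 0 := (map_eq_zero σ).mp (hxu.resolve_right fun e => hvx (hf.eq_zero_swap e))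
    have hs0 : s = 0 := (map_eq_zero σ).mp (hvu.resolve_right hvx)
    rw [← hrs, hr, hs0, zero_smul, zero_smul, add_zero]
  obtain ⟨e, he, hee, -, he0'⟩ := exists_side 0 W'.zero_mem
  have he0 : e ≠ 0 := fun h => he0' (by rw [h]; exact zero_mem _)
  have eG : ∀ {v y : ι → F} {h : GL ι F}, f v v = 0 → f y v = 0 → EF σ ε f v y h → h ∈ G :=
    fun {v y h} hv hyv ⟨c', hc', hx⟩ => Δ.mem v h hv ⟨y, c', hyv, hc', hx⟩
  have exE : ∀ v y, f v v = 0 → f v y = 0 → ∃ h, EF σ ε f v y h := fun v y hv hvy => by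
    obtain ⟨X, hX⟩ := hiso y
    obtain ⟨g, -, -, hg⟩ := exists_UF hf hv (c := -X) (hf.eq_zero_swap hvy) (by
      rw [map_neg]; linear_combination -hX)
    exact ⟨g, -X, by rw [map_neg]; linear_combination -hX, hg⟩
  have fixE : ∀ v ∈ W', ∀ y ∈ W', ∀ h, EF σ ε f v y h → ∀ w ∈ W, (h : Matrix ι ι F) *ᵥ w = w := by
    rintro v hv y hy h ⟨c', -, hx⟩ w hw
    rw [hx, orth w hw v hv, orth w hw y hy]
    simp
  have S : Split G f (fun v => f v v = 0) (UF σ ε f) (EF σ ε f) σ W W' :=
    { dec := dec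
      inter := inter
      orth := orth
      stab_perp := fun g hg b hb => by
        rw [hW'] at hb ⊢
        intro w hw
        have h1 := mem_subspaceStabilizer_iff.mp (inv_mem hg.1) w hw
        have h2 := hG g hg.2 b (((g⁻¹ : GL ι F) : Matrix ι ι F) *ᵥ w)
        rwa [gl_mulVec_inv_cancel, hb _ h1] at h2
      u_iff := fun v h ⟨y, c', hyv, hc', hx⟩ => ⟨y, hf.eq_zero_swap hyv, c', hc', hx⟩
      u_of := fun v y h hvy ⟨c', hc', hx⟩ => ⟨y, c', hf.eq_zero_swap hvy, hc', hx⟩
      exists_e := exE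
      comp := fun v y y' h h' (hv : f v v = 0) hvy hvy' ⟨c₁, hc₁, hx⟩ ⟨c₂, hc₂, hx'⟩ => by
        refine ⟨c₁ + c₂ - σ ε * f y' y, ?_, fun x => ?_⟩
        · rw [map_sub, map_add, map_mul, hf.invol, hs.add_left, hs.add_right, hs.add_right, hf.swap y' y]
          linear_combination hc₁ + hc₂ - f y' y * sigma_eps hf
        · rw [gl_mul_mulVec, hx', hx]
          simp only [hs.add_left, hs.add_right, hs.smul_left, hv, hf.eq_zero_swap hvy', hvy]
          module
      e_conj := fun g hg v y h ⟨c', hc', hx⟩ => by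
        refine ⟨c', by rw [hG g hg, hc'], fun x => ?_⟩
        obtain ⟨z, rfl⟩ : ∃ z, x = (g : Matrix ι ι F) *ᵥ z := ⟨_, (gl_mulVec_inv_cancel g x).symm⟩
        rw [gl_mul_mulVec, gl_mul_mulVec, gl_inv_mulVec_cancel, hx, hG g hg, hG g hg, Matrix.mulVec_add,
          Matrix.mulVec_add, Matrix.mulVec_smul, Matrix.mulVec_smul]
      e_scale := fun l v y h _ ⟨c', hc', hx⟩ => by
        refine ⟨c' * (l * σ l), ?_, fun x => ?_⟩
        · rw [hs.smul_left, hs.smul_right, map_mul, map_mul, hf.invol]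
          linear_combination (l * σ l) * hc'
        · rw [hx, hs.smul_right, hs.smul_right, hf.invol]
          module
      tau := fun l hl => ⟨σ l, (map_ne_zero σ).mpr hl, hf.invol l⟩
      fix := fun v hv y hy h _ hh => fixE v hv y hy h hh
      sg_smul := fun c' v (hv : f v v = 0) => by
        show f (c' • v) (c' • v) = 0
        rw [hs.smul_left, hs.smul_right, hv, mul_zero, mul_zero]
      smul_left := hs.smul_left
      dual := fun v hv u hu (hvv : f v v = 0) (huu : f u u = 0) hvu hind hv0 => by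
        have hvd : v ∉ Submodule.span F {u - v} := fun h => by
          obtain ⟨r, hr⟩ := Submodule.mem_span_singleton.mp h
          have hr0 : r ≠ 0 := fun e => hv0 (by rw [← hr, e, zero_smul])
          refine hind (Submodule.mem_span_singleton.mpr ⟨r⁻¹ * (1 + r), ?_⟩)
          rw [mul_smul, add_smul, one_smul]
          conv_lhs => enter [2, 1]; rw [← hr]
          rw [← smul_add, sub_add_cancel, smul_smul, inv_mul_cancel₀ hr0, one_smul]
        obtain ⟨b, hb, hbd, hbv⟩ := sep v hv (u - v) hvd (sub_mem hu hv)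
        have hvb : f v b ≠ 0 := fun e => hbv (hf.eq_zero_swap e)
        obtain ⟨t, ht⟩ := exists_correct hf hiso hvv hvb
        refine ⟨b + t • v, W'.add_mem hb (W'.smul_mem t hv), ht, ?_, ?_⟩
        · rw [hs.add_right, hs.smul_right, hvv, mul_zero, add_zero]; exact hvb
        · have h1 := hf.eq_zero_swap hbd
          rw [sub_eq_add_neg, hs.add_left, hf.neg_left] at h1
          rw [hs.add_right, hs.add_right, hs.smul_right, hs.smul_right, hvv, hf.eq_zero_swap hvu]
          linear_combination h1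
      trans_in := fun u hu z hz u' hu' (huu : f u u = 0) (hzz : f z z = 0) (hu'u' : f u' u' = 0) hne heq => by
        obtain ⟨β, hβ⟩ : ∃ β, β = f u z := ⟨_, rfl⟩
        rw [← hβ] at hne
        obtain ⟨d, hd⟩ : ∃ d, d = u' - u := ⟨_, rfl⟩
        have hdz : f d z = 0 := by
          rw [hd, sub_eq_add_neg, hs.add_left, hf.neg_left, heq, add_neg_cancel]
        have hσβ : σ β ≠ 0 := (map_ne_zero σ).mpr hne
        have hdd : f (u + d) (u + d) = 0 := by rw [hd, add_sub_cancel]; exact hu'u'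
        rw [hs.add_left, hs.add_right, hs.add_right, huu] at hdd
        have hcy : ε * (σ ε * f u d / (β * σ β)) + σ (σ ε * f u d / (β * σ β)) + f (β⁻¹ • d) (β⁻¹ • d) = 0 := by
          rw [hs.smul_left, hs.smul_right, map_div₀, map_mul, map_mul, map_inv₀, hf.invol, hf.invol, sigma_f hf u d]
          field_simp
          linear_combination hdd + (f u d + f d u) * sigma_eps hf
        obtain ⟨g, -, -, hgx⟩ := exists_UF hf hzz (y := β⁻¹ • d) (by rw [hs.smul_left, hdz, mul_zero]) hcy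
        refine ⟨β⁻¹ • d, W'.smul_mem _ (hd ▸ sub_mem hu' hu), g,
          hf.eq_zero_swap (by rw [hs.smul_left, hdz, mul_zero]), ⟨_, hcy, hgx⟩, ?_⟩
        rw [hgx, ← hβ, hs.smul_right, map_inv₀, show u' = u + d by rw [hd]; abel]
        match_scalars <;> field_simp <;> ring
      side := fun v hv z hz (hvv : f v v = 0) (hzz : f z z = 0) hv0 hz0 => by
        obtain ⟨x₁, hx₁, hx₁x₁, hvx₁⟩ := iso_pair hf hiso hW'nd hv hvv hv0
        obtain ⟨x₂, hx₂, hx₂x₂, hzx₂⟩ := iso_pair hf hiso hW'nd hz hzz hz0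
        obtain ⟨x, hx, hxx, hvx, hzx⟩ : ∃ x ∈ W', f x x = 0 ∧ f v x ≠ 0 ∧ f z x ≠ 0 := by
          by_cases h1 : f z x₁ = 0
          swap
          · exact ⟨x₁, hx₁, hx₁x₁, hvx₁, h1⟩
          by_cases h2 : f v x₂ = 0
          swap
          · exact ⟨x₂, hx₂, hx₂x₂, h2, hzx₂⟩
          obtain ⟨t, ht0, ht⟩ : ∃ t : F, t ≠ 0 ∧ f (x₁ + t • x₂) (x₁ + t • x₂) = 0 := by
            by_cases h12 : f x₁ x₂ = 0
            · refine ⟨1, one_ne_zero, ?_⟩
              rw [one_smul, hs.add_left, hs.add_right, hs.add_right, hx₁x₁, hx₂x₂, h12, hf.eq_zero_swap h12]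
              simp
            · have hσ12 : σ (f x₁ x₂) ≠ 0 := (map_ne_zero σ).mpr h12
              refine ⟨c / σ (f x₁ x₂), div_ne_zero hc0 hσ12, ?_⟩
              rw [hs.add_left, hs.add_right, hs.add_right, hs.smul_left, hs.smul_left, hs.smul_right,
                hs.smul_right, hx₁x₁, hx₂x₂, hf.swap x₁ x₂, map_div₀, hf.invol, div_mul_cancel₀ _ h12]
              field_simp
              linear_combination (σ (f x₁ x₂) * f x₁ x₂) * hc
          exact ⟨_, W'.add_mem hx₁ (W'.smul_mem t hx₂), ht,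
            by rw [hs.add_right, hs.smul_right, h2, mul_zero, add_zero]; exact hvx₁,
            by rw [hs.add_right, hs.smul_right, h1, zero_add]; exact mul_ne_zero ((map_ne_zero σ).mpr ht0) hzx₂⟩
        exact ⟨x, hx, hxx, fun e => hvx (by rw [e]; exact hf.zero_right v), exists_off v hv x hx hvv hxx hvx,
          exists_off x hx z hz hxx hzz fun e => hzx (hf.eq_zero_swap e)⟩
      span := iso_span hf hiso hW'nd he hee he0
      pair := fun v hv hvv hv0 => iso_pair hf hiso hW'nd hv hvv hv0 }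
  -- a transvection
  have htr : ∀ a, f a a = 0 → ∃ h, h ∈ G ∧ EF σ ε f a 0 h ∧
      ∀ x, (h : Matrix ι ι F) *ᵥ x = x + (c * f x a) • a := fun a ha => by
    obtain ⟨h, -, -, hx⟩ := exists_UF hf ha (hf.zero_left a) (c := c) (by rw [hf.zero_left, hc, add_zero])
    have hE : EF σ ε f a 0 h := ⟨c, by rw [hf.zero_left, hc, add_zero], hx⟩
    exact ⟨h, eG ha (hf.zero_left a) hE, hE, fun x => by
      rw [hx, smul_zero, hf.zero_right, mul_zero, sub_zero, add_zero]⟩
  refine split_isMaximal Δ S (fun g _ => ?_) (fun g hg hgW' => ?_)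
    (fun K hK g hgK hg s hs' hss a ha b hb hab ha0 hb0 => ?_) (fun v hv hvv hv0 A hA hA0 hAinv => ?_) ?_
  · by_contra hcon
    push Not at hcon
    let φ : (ι → F) →ₗ[F] (ι → F) := Matrix.mulVecLin (g : Matrix ι ι F)
    have h1 : W'.map φ ≤ W := Submodule.map_le_iff_le_comap.mpr hcon
    have h2 := Submodule.finrank_mono h1
    rw [← (Submodule.equivMapOfInjective φ (gl_mulVec_injective g) W').finrank_eq] at h2
    omega
  · refine mem_subspaceStabilizer_iff.mpr fun w hw => ?_
    rw [← hf.perp_perp W, ← hW']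
    intro b hb
    let φ : (ι → F) →ₗ[F] (ι → F) := Matrix.mulVecLin (g : Matrix ι ι F)
    have h1 : W'.map φ = W' := Submodule.eq_of_le_of_finrank_eq (Submodule.map_le_iff_le_comap.mpr hgW')
      (Submodule.equivMapOfInjective φ (gl_mulVec_injective g) W').finrank_eq.symm
    obtain ⟨b', hb', e'⟩ := Submodule.mem_map.mp (h1.symm ▸ hb : b ∈ W'.map φ)
    rw [← show (g : Matrix ι ι F) *ᵥ b' = b from e', hG g hg]
    exact orth w hw b' hb'
  · -- the seed
    obtain ⟨u, hu⟩ : ∃ u, u = a + b := ⟨_, rfl⟩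
    rw [← hu] at hab
    obtain ⟨t₀, ht₀G, ht₀E, ht₀x⟩ := htr s hss
    have hin : ∀ {v y : ι → F} {h : GL ι F}, v ∈ W' → y ∈ W' → f v v = 0 → f y v = 0 → EF σ ε f v y h → h ∈ K :=
      fun hv hy hvv hyv hE => hK ⟨mem_subspaceStabilizer_iff.mpr fun w hw => by
        rw [fixE _ hv _ hy _ hE w hw]; exact hw, eG hvv hyv hE⟩
    obtain ⟨T, hT⟩ : ∃ T, T = g * t₀ * g⁻¹ := ⟨_, rfl⟩
    have hTK : T ∈ K :=
      hT ▸ mul_mem (mul_mem hgK (hin hs' W'.zero_mem hss (hf.zero_left s) ht₀E)) (inv_mem hgK)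
    have hTG : T ∈ G := hT ▸ mul_mem (mul_mem hg ht₀G) (inv_mem hg)
    have hTx : ∀ x, (T : Matrix ι ι F) *ᵥ x = x + (c * f x u) • u := fun x => by
      obtain ⟨z, rfl⟩ : ∃ z, x = (g : Matrix ι ι F) *ᵥ z := ⟨_, (gl_mulVec_inv_cancel g x).symm⟩
      rw [hT, gl_mul_mulVec, gl_mul_mulVec, gl_inv_mulVec_cancel, ht₀x, Matrix.mulVec_add, Matrix.mulVec_smul, hab,
        ← hab, hG g hg]
    obtain ⟨v, hv, hvv, hbv, hind⟩ := exists_side b hb
    have hv0 : v ≠ 0 := fun e => hind (by rw [e]; exact zero_mem _)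
    have hbd : b ∉ Submodule.span F {v} := fun h => by
      obtain ⟨r, hr⟩ := Submodule.mem_span_singleton.mp h
      have hr0 : r ≠ 0 := fun e => hb0 (by rw [← hr, e, zero_smul])
      exact hind (Submodule.mem_span_singleton.mpr ⟨r⁻¹, by rw [← hr, smul_smul, inv_mul_cancel₀ hr0, one_smul]⟩)
    obtain ⟨y, hy, hyv, hyb⟩ := sep b hb v hbd hv
    obtain ⟨h₁, hh₁⟩ := exE v y hvv (hf.eq_zero_swap hyv)
    have hh₁K := hin hv hy hvv hyv hh₁
    have h1 := S.e_conj T hTG v y h₁ hh₁
    have hTv : (T : Matrix ι ι F) *ᵥ v = v := by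
      rw [hTx, hu, hs.add_right, orth' a ha v hv, hf.eq_zero_swap hbv, add_zero, mul_zero, zero_smul, add_zero]
    obtain ⟨β, hβ⟩ : ∃ β, β = c * f y b := ⟨_, rfl⟩
    have hyu : f y u = f y b := by rw [hu, hs.add_right, orth' a ha y hy, zero_add]
    have hTy : (T : Matrix ι ι F) *ᵥ y = β • a + (y + β • b) := by
      rw [hTx, hyu, ← hβ, hu]
      module
    rw [hTv, hTy] at h1
    have hybv : f v (-(y + β • b)) = 0 := by
      rw [← neg_one_smul F (y + β • b), hs.smul_right, hs.add_right, hs.smul_right, hf.eq_zero_swap hyv,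
        hf.eq_zero_swap hbv]
      ring
    have hab' : f v (β • a + (y + β • b)) = 0 := by
      rw [hs.add_right, hs.add_right, hs.smul_right, hs.smul_right, orth' a ha v hv, hf.eq_zero_swap hyv,
        hf.eq_zero_swap hbv]
      ring
    obtain ⟨h₂, hh₂⟩ := exE v _ hvv hybv
    have h3 := S.comp v _ _ _ _ hvv hab' hybv h1 hh₂
    rw [add_neg_cancel_right] at h3
    exact ⟨v, hv, β • a, W.smul_mem _ ha, hvv, hv0, smul_ne_zero (hβ ▸ mul_ne_zero hc0 hyb) ha0, _,
      mul_mem (mul_mem (mul_mem hTK hh₁K) (inv_mem hTK))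
        (hin hv (W'.neg_mem (W'.add_mem hy (W'.smul_mem _ hb))) hvv (hf.eq_zero_swap hybv) hh₂), h3⟩
  · -- irreducibility on the first part
    obtain ⟨a, haA, ha0⟩ := Submodule.exists_mem_ne_zero_of_ne_bot hA0
    by_cases hk : finrank F W ≤ 1
    · refine Submodule.eq_of_le_of_finrank_eq hA ?_
      have := Submodule.finrank_mono hA
      have : finrank F A ≠ 0 := fun e => hA0 (Submodule.finrank_eq_zero.mp e)
      omega
    obtain ⟨w₀, hw₀, hw₀0, hw₀w₀⟩ := hiso2 W (by omega)
    have hspan := iso_span hf hiso hW hw₀ hw₀w₀ hw₀0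
    have hcl : ∀ w ∈ W, f w w = 0 → ∀ x ∈ A, f x w ≠ 0 → w ∈ A := by
      intro w hw hww x hx hne
      obtain ⟨m, hmG, -, hmx⟩ := htr w hww
      have hstab : m ∈ subspaceStabilizer W := mem_subspaceStabilizer_iff.mpr fun z hz => by
        rw [hmx]; exact W.add_mem hz (W.smul_mem _ hw)
      have h1 := hAinv m ⟨hstab, hmG⟩ (by
        rw [hmx, orth' w hw v hv, mul_zero, zero_smul, add_zero]) x hx
      rw [hmx] at h1
      have h2 := A.sub_mem h1 hx
      rw [add_sub_cancel_left] at h2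
      exact (A.smul_mem_iff (mul_ne_zero hc0 hne)).mp h2
    obtain ⟨w, hw, hww, haw⟩ : ∃ w ∈ W, f w w = 0 ∧ f a w ≠ 0 := by
      by_contra hcon
      push Not at hcon
      obtain ⟨x, hx, hne⟩ := (hW a (hA haA) ha0).2
      let φ : Submodule F (ι → F) :=
        { carrier := {z | f a z = 0}
          add_mem' := fun {p q} (hp : f a p = 0) (hq : f a q = 0) => show f a (p + q) = 0 by
            rw [hs.add_right, hp, hq, add_zero]
          zero_mem' := hf.zero_right a
          smul_mem' := fun r p (hp : f a p = 0) => show f a (r • p) = 0 by rw [hs.smul_right, hp, mul_zero] }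
      exact hne ((Submodule.span_le (p := φ)).mpr (fun z hz => hcon z hz.1 hz.2) (hspan hx))
    have hwA := hcl w hw hww a haA haw
    have hw0 : w ≠ 0 := fun e => haw (by rw [e]; exact hf.zero_right a)
    obtain ⟨z, hz, hzz, hwz⟩ := iso_pair hf hiso hW hw hww hw0
    have hzA := hcl z hz hzz w hwA hwz
    refine le_antisymm hA (hspan.trans (Submodule.span_le.mpr fun x hx => ?_))
    by_cases h1 : f w x = 0
    swap
    · exact hcl x hx.1 hx.2 w hwA h1
    by_cases h2 : f z x = 0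
    swap
    · exact hcl x hx.1 hx.2 z hzA h2
    have h3 := hcl (w + x) (W.add_mem hw hx.1) (by
      rw [hs.add_left, hs.add_right, hs.add_right, hww, hx.2, h1, hf.eq_zero_swap h1]; ring) z hzA (by
      rw [hs.add_right, h2, add_zero]; exact fun e => hwz (hf.eq_zero_swap e))
    simpa using A.sub_mem h3 hwA
  · intro hle
    obtain ⟨a, ha, ha0⟩ := Submodule.exists_mem_ne_zero_of_ne_bot hW0
    obtain ⟨x, hx, hax⟩ := (hW a ha ha0).1
    obtain ⟨e', he', hee', hne⟩ := iso_pair hf hiso hW'nd he hee he0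
    obtain ⟨t, ht⟩ := exists_correct hf hiso (x := a + e') hee (by
      rw [hs.add_right, orth' a ha e he, zero_add]; exact hne)
    obtain ⟨h, hhG, -, hhx⟩ := htr _ ht
    have h1 := W.sub_mem (mem_subspaceStabilizer_iff.mp (hle hhG) x hx) hx
    rw [hhx, add_sub_cancel_left, hs.add_right, hs.smul_right, hs.add_right, orth x hx e' he', orth x hx e he, mul_zero,
      add_zero, add_zero, W.smul_mem_iff (mul_ne_zero hc0 hax), add_assoc, W.add_mem_iff_right ha] at h1
    have h2 := inter _ h1 (W'.add_mem he' (W'.smul_mem t he))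
    have h3 : f e (e' + t • e) = 0 := by rw [h2]; exact hf.zero_right e
    rw [hs.add_right, hs.smul_right, hee, mul_zero, add_zero] at h3
    exact hne h3

end Cfsg.Agent.Classical.Radical
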