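/-
Stabilisers of non-degenerate subspaces in orthogonal groups.
-/
import Cfsg.Agent.Lib.Classical.RadicalSplit
import Cfsg.Agent.Lib.Classical.RadicalQuad
import Cfsg.Agent.Lib.Classical.RadicalFormSplit

set_option autoImplicit false
set_option linter.unusedSectionVars false

namespace Cfsg.Agent.Classical.Radical

open Matrix Module QuadraticMap Cfsg.Geo OCount
open Cfsg.Agent.Classical

variable {ι : Type} [Fintype ι] [DecidableEq ι] {F : Type*} [Field F] [Fintype F] {Q : QuadraticForm F (ι → F)}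

/-- An element of the radical of `v` with parameter `y`. -/
def EQ (Q : QuadraticForm F (ι → F)) (v y : ι → F) (h : GL ι F) : Prop :=
  ∀ x, (h : Matrix ι ι F) *ᵥ x = x + polar Q v x • y - (polar Q y x + Q y * polar Q v x) • v

/-- The polar form of a quadratic form, as a reflexive form. -/
theorem reflex_polar (hQ : PND Q) : IsReflexForm (RingEquiv.refl F) 1 (polar ⇑Q) :=
  ⟨⟨fun x y v => polar_add_left Q x y v, fun c x v => polar_smul_left Q c x v, fun v x y => polar_add_right Q v x y,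
    fun c v x => polar_smul_right Q c v x⟩, fun u v => by rw [one_mul]; exact polar_comm Q v u, fun _ => rfl,
    fun v hv => by
      obtain ⟨x, hx⟩ : ∃ x, polar Q v x ≠ 0 := by
        by_contra hcon
        push Not at hcon
        exact hv (hQ v hcon)
      exact ⟨⟨x, by rw [polar_comm]; exact hx⟩, ⟨x, hx⟩⟩⟩

theorem quad_correct {e x : ι → F} (he : Q e = 0) (hex : polar Q e x ≠ 0) :
    Q (x + (-Q x / polar Q e x) • e) = 0 := by
  rw [QuadraticMap.map_add ⇑Q, QuadraticMap.map_smul, he, smul_zero, add_zero, polar_smul_right, polar_comm Q x e,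
    smul_eq_mul, div_mul_cancel₀ _ hex, add_neg_cancel]

theorem sing_pair {X : Submodule F (ι → F)} (hX : IsNondegenerateOn (polar ⇑Q) X) {e : ι → F} (he : e ∈ X)
    (hee : Q e = 0) (he0 : e ≠ 0) : ∃ z ∈ X, Q z = 0 ∧ polar Q e z ≠ 0 := by
  obtain ⟨x, hx, hne⟩ := (hX e he he0).2
  exact ⟨_, X.add_mem hx (X.smul_mem _ he), quad_correct hee hne, by
    rw [polar_add_right, polar_smul_right, polar_self, hee, smul_zero, smul_zero, add_zero]; exact hne⟩

theorem sing_span {X : Submodule F (ι → F)} (hX : IsNondegenerateOn (polar ⇑Q) X) {e : ι → F} (he : e ∈ X)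
    (hee : Q e = 0) (he0 : e ≠ 0) : X ≤ Submodule.span F {s | s ∈ X ∧ Q s = 0} := by
  have heS : e ∈ Submodule.span F {s | s ∈ X ∧ Q s = 0} := Submodule.subset_span ⟨he, hee⟩
  have key : ∀ x ∈ X, polar Q e x ≠ 0 → x ∈ Submodule.span F {s | s ∈ X ∧ Q s = 0} := fun x hx hne => by
    have h1 : x + (-Q x / polar Q e x) • e ∈ Submodule.span F {s | s ∈ X ∧ Q s = 0} :=
      Submodule.subset_span ⟨X.add_mem hx (X.smul_mem _ he), quad_correct hee hne⟩
    simpa using Submodule.sub_mem _ h1 (Submodule.smul_mem _ (-Q x / polar Q e x) heS)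
  intro x hx
  by_cases h : polar Q e x = 0
  · obtain ⟨z, hz, hne⟩ := (hX e he he0).2
    simpa using Submodule.sub_mem _
      (key (x + z) (X.add_mem hx hz) (by rw [polar_add_right, h, zero_add]; exact hne)) (key z hz hne)
  · exact key x hx h

theorem perp_nondeg (hQ : PND Q) {W : Submodule F (ι → F)} (hW : IsNondegenerateOn (polar ⇑Q) W) :
    IsNondegenerateOn (polar ⇑Q) ((reflex_polar hQ).perp W) := by
  refine (reflex_polar hQ).nondegenerateOn_of_inf_perp ?_
  rw [(reflex_polar hQ).perp_perp, inf_comm, Submodule.eq_bot_iff]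
  intro x hx
  by_contra h0
  obtain ⟨z, hz, hne⟩ := (hW x hx.1 h0).1
  exact hne (by rw [polar_comm]; exact hx.2 z hz)

/-- The two parts have the same stabiliser. -/
theorem stab_perp_eq (hQ : PND Q) (W : Submodule F (ι → F)) :
    subspaceStabilizer ((reflex_polar hQ).perp W) ⊓ omegaGL ⇑Q = subspaceStabilizer W ⊓ omegaGL ⇑Q := by
  have key : ∀ W : Submodule F (ι → F),
      subspaceStabilizer W ⊓ omegaGL ⇑Q ≤ subspaceStabilizer ((reflex_polar hQ).perp W) ⊓ omegaGL ⇑Q := by
    intro W g hg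
    refine ⟨mem_subspaceStabilizer_iff.mpr fun b hb w hw => ?_, hg.2⟩
    have h1 := mem_subspaceStabilizer_iff.mp (inv_mem hg.1) w hw
    have h2 := omega_polar hg.2 b (((g⁻¹ : GL ι F) : Matrix ι ι F) *ᵥ w)
    rwa [gl_mulVec_inv_cancel, hb _ h1] at h2
  refine le_antisymm ?_ (key W)
  have := key ((reflex_polar hQ).perp W)
  rwa [(reflex_polar hQ).perp_perp] at this

/-- The stabiliser of a non-degenerate subspace is maximal. -/
theorem isMaximal_quadSplit_five (hQ : PND Q) (hn : 7 ≤ Fintype.card ι) {W : Submodule F (ι → F)} (hW0 : W ≠ ⊥)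
    (hW : IsNondegenerateOn (polar ⇑Q) W) (hdim : 2 * finrank F W ≤ Fintype.card ι) (hfive : finrank F W + 5 ≤ Fintype.card ι)
    (hswap : 2 * finrank F W = Fintype.card ι →
      ∀ g ∈ omegaGL ⇑Q, ∃ s ∈ (reflex_polar hQ).perp W, (g : Matrix ι ι F) *ᵥ s ∉ W)
    (hq : finrank F W = 2 → ∀ w ∈ W, w ≠ 0 → Q w = 0 → 4 ≤ Fintype.card F) :
    IsMaximalIn (omegaGL ⇑Q) (subspaceStabilizer W ⊓ omegaGL ⇑Q) := by
  classical
  haveI : Nonempty ι := Fintype.card_pos_iff.mp (by omega)
  have Δ := quad_data hQ (by omega)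
  have hf := reflex_polar hQ
  obtain ⟨W', hW'⟩ : ∃ W', W' = hf.perp W := ⟨_, rfl⟩
  have hd := hf.finrank_perp W
  rw [← hW'] at hd
  have orth' : ∀ a ∈ W, ∀ b ∈ W', polar Q b a = 0 := fun a ha b hb => (hW' ▸ hb : b ∈ hf.perp W) a ha
  have orth : ∀ a ∈ W, ∀ b ∈ W', polar Q a b = 0 := fun a ha b hb => by rw [polar_comm]; exact orth' a ha b hb
  have hW'nd : IsNondegenerateOn (polar ⇑Q) W' := hW' ▸ perp_nondeg hQ hW
  have inter : ∀ x ∈ W, x ∈ W' → x = 0 := fun x hx hx' => by
    by_contra h0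
    obtain ⟨z, hz, hne⟩ := (hW x hx h0).1
    exact hne (orth z hz x hx')
  have htop : W ⊔ W' = ⊤ := by
    refine Submodule.eq_top_of_finrank_eq ?_
    have h1 := Submodule.finrank_sup_add_finrank_inf_eq W W'
    rw [show W ⊓ W' = ⊥ from (Submodule.eq_bot_iff _).mpr fun x hx => inter x hx.1 hx.2, finrank_bot] at h1
    rw [Module.finrank_fintype_fun_eq_card]
    omega
  have dec : ∀ x, ∃ a ∈ W, ∃ b ∈ W', x = a + b := fun x => by
    obtain ⟨a, ha, b, hb, e⟩ := Submodule.mem_sup.mp (htop ▸ Submodule.mem_top : x ∈ W ⊔ W')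
    exact ⟨a, ha, b, hb, e.symm⟩
  -- separation inside the second part
  have sep : ∀ u ∈ W', ∀ d ∈ W', u ∉ Submodule.span F {d} → ∃ b ∈ W', polar Q d b = 0 ∧ polar Q u b ≠ 0 := by
    intro u hu d hd' hud
    obtain ⟨x, hx, hne⟩ : ∃ x ∈ hf.perp (Submodule.span F {d}), polar Q u x ≠ 0 := by
      by_contra hcon
      push Not at hcon
      exact hud (hf.perp_perp (Submodule.span F {d}) ▸
        (show u ∈ hf.perp (hf.perp (Submodule.span F {d})) from hcon))
    obtain ⟨a, ha, b, hb, rfl⟩ := dec x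
    refine ⟨b, hb, ?_, ?_⟩
    · have := hx d (Submodule.mem_span_singleton_self d)
      rw [polar_add_left, orth a ha d hd', zero_add] at this
      rwa [polar_comm] at this
    · rwa [polar_add_right, orth' a ha u hu, zero_add] at hne
  -- the part of the second space orthogonal to a pair
  have perp2 : ∀ v z : ι → F, ∃ P : Submodule F (ι → F), P ≤ W' ∧ (∀ u ∈ P, polar Q v u = 0 ∧ polar Q z u = 0) ∧
      finrank F W' ≤ finrank F P + finrank F (Submodule.span F {v, z}) := by
    intro v z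
    refine ⟨W' ⊓ hf.perp (Submodule.span F {v, z}), inf_le_left, fun u hu => ⟨?_, ?_⟩, ?_⟩
    · rw [polar_comm]; exact hu.2 v (Submodule.subset_span (by simp))
    · rw [polar_comm]; exact hu.2 z (Submodule.subset_span (by simp))
    · have h1 := Submodule.finrank_sup_add_finrank_inf_eq W' (hf.perp (Submodule.span F {v, z}))
      have h2 := hf.finrank_perp (Submodule.span F {v, z})
      have h3 := Submodule.finrank_le (W' ⊔ hf.perp (Submodule.span F {v, z}))
      rw [Module.finrank_fintype_fun_eq_card] at h3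
      omega
  -- a singular vector beside one vector
  have side1 : ∀ v ∈ W', ∃ u ∈ W', Q u = 0 ∧ polar Q v u = 0 ∧ polar Q v u = 0 ∧
      u ∉ Submodule.span F {v, v} := by
    intro v hv
    obtain ⟨P, hPW, hP, hPd⟩ := perp2 v v
    obtain ⟨Y, hYX, hYS, hYd⟩ := exists_avoid P (Submodule.span F {v, v})
    have h4 : finrank F (Submodule.span F {v, v}) ≤ 1 := by
      rw [Set.pair_eq_singleton]
      exact (finrank_span_le_card _).trans (by simp)
    obtain ⟨u, hu, hu0, huu⟩ := Cfsg.Agent.Small.QuadBasis.exists_singular Q (W := Y) (by omega)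
    exact ⟨u, hPW (hYX hu), huu, (hP u (hYX hu)).1, (hP u (hYX hu)).2,
      fun h => hu0 (show u ∈ (⊥ : Submodule F (ι → F)) from hYS ▸ ⟨hu, h⟩)⟩
  obtain ⟨e, he, hee, -, -, he0'⟩ := side1 0 W'.zero_mem
  have he0 : e ≠ 0 := fun h => he0' (by rw [h]; exact zero_mem _)
  -- a singular vector beside two singular vectors that are not orthogonal
  have side2 : ∀ v ∈ W', ∀ z ∈ W', Q v = 0 → Q z = 0 → polar Q v z ≠ 0 →
      ∃ u ∈ W', Q u = 0 ∧ polar Q v u = 0 ∧ polar Q z u = 0 ∧ u ∉ Submodule.span F {v, z} := by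
    intro v hv z hz hvv hzz hvz
    obtain ⟨P, hPW, hP, hPd⟩ := perp2 v z
    have h4 := finrank_span_pair_le (F := F) v z
    obtain ⟨u, hu, hu0, huu⟩ := Cfsg.Agent.Small.QuadBasis.exists_singular Q (W := P) (by omega)
    refine ⟨u, hPW hu, huu, (hP u hu).1, (hP u hu).2, fun h => hu0 ?_⟩
    obtain ⟨r, r', rfl⟩ := Submodule.mem_span_pair.mp h
    obtain ⟨h1, h2⟩ := hP _ hu
    rw [polar_add_right, polar_smul_right, polar_smul_right, polar_self, hvv, smul_zero, smul_zero, zero_add,
      smul_eq_mul, mul_eq_zero] at h1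
    rw [polar_add_right, polar_smul_right, polar_smul_right, polar_self, hzz, smul_zero, smul_zero, add_zero,
      smul_eq_mul, mul_eq_zero, polar_comm Q z v] at h2
    rw [h1.resolve_right hvz, h2.resolve_right hvz, zero_smul, zero_smul, add_zero]
  -- a common neighbour of two singular vectors
  have mid : ∀ v ∈ W', ∀ z ∈ W', Q v = 0 → Q z = 0 → v ≠ 0 → z ≠ 0 → polar Q v z = 0 →
      ∃ x ∈ W', Q x = 0 ∧ polar Q v x ≠ 0 ∧ polar Q x z ≠ 0 := by
    intro v hv z hz hvv hzz hv0 hz0 hvz
    obtain ⟨x₁, hx₁, hx₁x, hvx₁⟩ := sing_pair hW'nd hv hvv hv0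
    by_cases hzx₁ : polar Q x₁ z = 0
    swap
    · exact ⟨x₁, hx₁, hx₁x, hvx₁, hzx₁⟩
    obtain ⟨x₂, hx₂, hx₂x, hzx₂⟩ := sing_pair hW'nd hz hzz hz0
    by_cases hvx₂ : polar Q v x₂ = 0
    swap
    · exact ⟨x₂, hx₂, hx₂x, hvx₂, by rwa [polar_comm]⟩
    have hv12 : polar Q v (x₁ + x₂) ≠ 0 := by rwa [polar_add_right, hvx₂, add_zero]
    refine ⟨_, W'.add_mem (W'.add_mem hx₁ hx₂) (W'.smul_mem _ hv), quad_correct hvv hv12, ?_, ?_⟩
    · rw [polar_add_right, polar_smul_right, polar_self, hvv, smul_zero, smul_zero, add_zero]; exact hv12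
    · rw [polar_add_left, polar_add_left, polar_smul_left, hzx₁, hvz, smul_zero, add_zero, zero_add, polar_comm]
      exact hzx₂
  have fixE : ∀ v ∈ W', ∀ y ∈ W', ∀ h, EQ Q v y h → ∀ w ∈ W, (h : Matrix ι ι F) *ᵥ w = w := by
    intro v hv y hy h hx w hw
    rw [hx, orth' w hw v hv, orth' w hw y hy]
    simp
  have exE : ∀ v y, Q v = 0 → polar Q v y = 0 → ∃ h, EQ Q v y h := fun v y hv hvy => by
    obtain ⟨g, -, hg⟩ := ONotMax.exists_siegel hQ (by omega) hv hvy
    exact ⟨g, hg⟩
  have S : Split (omegaGL ⇑Q) (polar ⇑Q) (fun v => Q v = 0) (UQ Q) (EQ Q) id W W' :=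
    { dec := dec
      inter := inter
      orth := orth
      stab_perp := fun g hg b hb => by
        rw [hW'] at hb ⊢
        rw [← stab_perp_eq hQ W] at hg
        exact mem_subspaceStabilizer_iff.mp hg.1 b hb
      u_iff := fun v h hh => hh
      u_of := fun v y h hvy hx => ⟨y, hvy, hx⟩
      exists_e := exE
      comp := fun v y y' h h' (hv : Q v = 0) hvy hvy' hx hx' => fun x => by
        rw [gl_mul_mulVec, hx', hx, QuadraticMap.map_add ⇑Q y y']
        simp only [sub_eq_add_neg, ← neg_smul, polar_add_left, polar_add_right, polar_smul_right, polar_self, hv,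
          hvy', polar_comm Q y v, hvy, smul_eq_mul, smul_zero, mul_zero, add_zero]
        module
      e_conj := fun g hg v y h hx => fun x => by
        obtain ⟨z, rfl⟩ : ∃ z, x = (g : Matrix ι ι F) *ᵥ z := ⟨_, (gl_mulVec_inv_cancel g x).symm⟩
        rw [gl_mul_mulVec, gl_mul_mulVec, gl_inv_mulVec_cancel, hx, omega_polar hg, omega_polar hg,
          ONotMax.omega_isometry hg, Matrix.mulVec_sub, Matrix.mulVec_add, Matrix.mulVec_smul, Matrix.mulVec_smul]
      e_scale := fun l v y h _ hx => fun x => by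
        rw [hx, id_eq, polar_smul_left, polar_smul_left, QuadraticMap.map_smul]
        simp only [smul_eq_mul]
        module
      tau := fun l hl => ⟨l, hl, rfl⟩
      fix := fun v hv y hy h _ hh => fixE v hv y hy h hh
      sg_smul := fun c v (hv : Q v = 0) => by
        show Q (c • v) = 0
        rw [QuadraticMap.map_smul, hv, smul_zero]
      smul_left := fun c x y => polar_smul_left Q c x y
      dual := fun v hv u hu (hvv : Q v = 0) (huu : Q u = 0) hvu hind hv0 => by
        have hvd : v ∉ Submodule.span F {u - v} := fun h => by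
          obtain ⟨r, hr⟩ := Submodule.mem_span_singleton.mp h
          have hr0 : r ≠ 0 := fun e => hv0 (by rw [← hr, e, zero_smul])
          refine hind (Submodule.mem_span_singleton.mpr ⟨r⁻¹ * (1 + r), ?_⟩)
          rw [mul_smul, add_smul, one_smul]
          conv_lhs => enter [2, 1]; rw [← hr]
          rw [← smul_add, sub_add_cancel, smul_smul, inv_mul_cancel₀ hr0, one_smul]
        obtain ⟨b, hb, hbd, hbv⟩ := sep v hv (u - v) (sub_mem hu hv) hvd
        refine ⟨_, W'.add_mem hb (W'.smul_mem _ hv), quad_correct hvv hbv, ?_, ?_⟩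
        · rw [polar_add_right, polar_smul_right, polar_self, hvv, smul_zero, smul_zero, add_zero]; exact hbv
        · rw [polar_sub_left, sub_eq_zero] at hbd
          rw [polar_add_right, polar_add_right, polar_smul_right, polar_smul_right, polar_self, hvv,
            polar_comm Q u v, hvu, hbd]
          simp
      trans_in := fun u hu z hz u' hu' (huu : Q u = 0) (hzz : Q z = 0) (hu'u' : Q u' = 0) hne heq => by
        obtain ⟨d, hd⟩ : ∃ d, d = u' - u := ⟨_, rfl⟩
        have hdz : polar Q z d = 0 := by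
          rw [hd, polar_sub_right, polar_comm Q z u', polar_comm Q z u, heq, sub_self]
        have hy : polar Q z ((polar Q u z)⁻¹ • d) = 0 := by rw [polar_smul_right, hdz, smul_zero]
        obtain ⟨g, hg⟩ := exE z _ hzz hy
        refine ⟨_, W'.smul_mem _ (hd ▸ sub_mem hu' hu), g, hy, hg, ?_⟩
        have hdd : Q (u + d) = 0 := by rw [hd, add_sub_cancel]; exact hu'u'
        rw [QuadraticMap.map_add ⇑Q, huu, zero_add] at hdd
        rw [hg, polar_comm Q z u, QuadraticMap.map_smul, polar_smul_left, polar_comm Q d u]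
        simp only [smul_eq_mul]
        rw [show (polar Q u z)⁻¹ * polar Q u d + (polar Q u z)⁻¹ * (polar Q u z)⁻¹ * Q d * polar Q u z =
            (polar Q u z)⁻¹ * (Q d + polar Q u d) by field_simp; ring, hdd, mul_zero, zero_smul, sub_zero, smul_smul,
          mul_inv_cancel₀ hne, one_smul, hd, add_sub_cancel]
      side := fun v hv z hz hvv hzz hv0 hz0 => by
        by_cases hvz : polar Q v z = 0
        · obtain ⟨x, hx, hxx, h1, h2⟩ := mid v hv z hz hvv hzz hv0 hz0 hvz
          exact ⟨x, hx, hxx, fun e => h1 (by rw [e, polar_zero_right]), side2 v hv x hx hvv hxx h1,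
            side2 x hx z hz hxx hzz h2⟩
        · exact ⟨v, hv, hvv, hv0, side1 v hv, side2 v hv z hz hvv hzz hvz⟩
      span := sing_span hW'nd he hee he0
      pair := fun v hv hvv hv0 => sing_pair hW'nd hv hvv hv0 }
  refine split_isMaximal Δ S (fun g hg => ?_) (fun g hg hgW' => ?_)
    (fun K hK g hgK hg s hs' hss a ha b hb hab ha0 hb0 => ?_) (fun v hv hvv hv0 A hA hA0 hAinv => ?_) ?_
  · by_cases h2 : 2 * finrank F W = Fintype.card ι
    · exact hW' ▸ hswap h2 g hg
    by_contra hcon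
    push Not at hcon
    let φ : (ι → F) →ₗ[F] (ι → F) := Matrix.mulVecLin (g : Matrix ι ι F)
    have h3 := Submodule.finrank_mono (show W'.map φ ≤ W from Submodule.map_le_iff_le_comap.mpr hcon)
    rw [← (Submodule.equivMapOfInjective φ (gl_mulVec_injective g) W').finrank_eq] at h3
    omega
  · refine mem_subspaceStabilizer_iff.mpr fun w hw => ?_
    rw [← hf.perp_perp W, ← hW']
    intro b hb
    let φ : (ι → F) →ₗ[F] (ι → F) := Matrix.mulVecLin (g : Matrix ι ι F)
    have h1 : W'.map φ = W' := Submodule.eq_of_le_of_finrank_eq (Submodule.map_le_iff_le_comap.mpr hgW')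
      (Submodule.equivMapOfInjective φ (gl_mulVec_injective g) W').finrank_eq.symm
    obtain ⟨b', hb', e'⟩ := Submodule.mem_map.mp (h1.symm ▸ hb : b ∈ W'.map φ)
    rw [← show (g : Matrix ι ι F) *ᵥ b' = b from e', omega_polar hg]
    exact orth w hw b' hb'
  · -- the seed
    obtain ⟨y₀, hy₀, hy₀0, hsy₀, -, hy₀s⟩ := side1 s hs'
    rw [Set.pair_eq_singleton] at hy₀s
    obtain ⟨a₂, ha₂, b₂, hb₂, hab₂⟩ := dec ((g : Matrix ι ι F) *ᵥ y₀)
    have hin : ∀ {v y : ι → F} {h : GL ι F}, v ∈ W' → y ∈ W' → Q v = 0 → polar Q v y = 0 → EQ Q v y h → h ∈ K :=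
      fun {v y h} hv hy hvv hvy hE => hK ⟨mem_subspaceStabilizer_iff.mpr fun w hw => by
        rw [fixE _ hv _ hy _ hE w hw]; exact hw, Δ.mem v h hvv (S.u_of v y h hvy hE)⟩
    obtain ⟨t₀, ht₀⟩ := exE s y₀ hss hsy₀
    obtain ⟨T, hT⟩ : ∃ T, T = g * t₀ * g⁻¹ := ⟨_, rfl⟩
    have hTK : T ∈ K := hT ▸ mul_mem (mul_mem hgK (hin hs' hy₀ hss hsy₀ ht₀)) (inv_mem hgK)
    have hTG : T ∈ omegaGL ⇑Q :=
      hT ▸ mul_mem (mul_mem hg (Δ.mem s t₀ hss (S.u_of s y₀ t₀ hsy₀ ht₀))) (inv_mem hg)
    have hTx : EQ Q (a + b) (a₂ + b₂) T := by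
      rw [hT, ← hab, ← hab₂]
      exact S.e_conj g hg s y₀ t₀ ht₀
    have hQ₂ : Q (a₂ + b₂) = 0 := by rw [← hab₂, ONotMax.omega_isometry hg, hy₀0]
    by_cases ha₂a : ∃ r : F, a₂ = r • a
    · -- a singular image inside the second part: the radical with the two vectors exchanged
      obtain ⟨r, hr⟩ := ha₂a
      obtain ⟨d, hdd⟩ : ∃ d, d = b₂ - r • b := ⟨_, rfl⟩
      have hdW : d ∈ W' := hdd ▸ sub_mem hb₂ (W'.smul_mem _ hb)
      have hd : (g : Matrix ι ι F) *ᵥ (y₀ - r • s) = d := by
        rw [Matrix.mulVec_sub, Matrix.mulVec_smul, hab, hab₂, hr, hdd]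
        module
      have hd0 : d ≠ 0 := fun e => hy₀s (Submodule.mem_span_singleton.mpr ⟨r, by
        have := gl_mulVec_injective g (hd.trans (e.trans (Matrix.mulVec_zero _).symm))
        exact (sub_eq_zero.mp this).symm⟩)
      have hsd : polar Q s (y₀ - r • s) = 0 := by
        rw [polar_sub_right, polar_smul_right, hsy₀, polar_self, hss, smul_zero, smul_zero, sub_zero]
      have hdQ : Q d = 0 := by
        rw [← hd, ONotMax.omega_isometry hg, sub_eq_add_neg, ← neg_smul, QuadraticMap.map_add ⇑Q,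
          QuadraticMap.map_smul, hy₀0, hss, smul_zero, polar_smul_right, polar_comm Q y₀ s, hsy₀, smul_zero]
        simp
      have hQab : Q (a + b) = 0 := by rw [← hab, ONotMax.omega_isometry hg, hss]
      have habd : polar Q (a + b) d = 0 := by rw [← hab, ← hd, omega_polar hg, hsd]
      have hbd0 : polar Q d b = 0 := by
        rwa [polar_add_left, orth a ha d hdW, zero_add, polar_comm] at habd
      obtain ⟨t₁, ht₁⟩ := exE s (y₀ - r • s) hss hsd
      have hTK₁ : g * t₁ * g⁻¹ ∈ K :=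
        mul_mem (mul_mem hgK (hin hs' (sub_mem hy₀ (W'.smul_mem _ hs')) hss hsd ht₁)) (inv_mem hgK)
      have h1 : EQ Q d (-(a + b)) (g * t₁ * g⁻¹) := fun x => by
        rw [S.e_conj g hg s _ t₁ ht₁, hab, hd, hdQ, show Q (-(a + b)) = 0 by rw [QuadraticMap.map_neg, hQab],
          polar_neg_left]
        module
      obtain ⟨h₂, hh₂⟩ := exE d b hdQ hbd0
      have hd1 : polar Q d (-(a + b)) = 0 := by rw [polar_neg_right, polar_comm, habd, neg_zero]
      have h3 := S.comp d _ _ _ _ hdQ hd1 hbd0 h1 hh₂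
      rw [show -(a + b) + b = -a by abel] at h3
      exact ⟨d, hdW, -a, W.neg_mem ha, hdQ, hd0, neg_ne_zero.mpr ha0, _,
        mul_mem hTK₁ (hin hdW hb hdQ hbd0 hh₂), h3⟩
    obtain ⟨v, hv, hvv, hv0, hbv, hb₂v, hyy⟩ : ∃ v ∈ W', Q v = 0 ∧ v ≠ 0 ∧ polar Q b v = 0 ∧ polar Q b₂ v = 0 ∧
        ∃ y ∈ W', polar Q v y = 0 ∧ (polar Q b y ≠ 0 ∨ polar Q b₂ y ≠ 0) := by
      by_cases hb' : Q b = 0 ∧ polar Q b b₂ = 0 ∧ b₂ ∉ Submodule.span F {b}
      · obtain ⟨hbb, hbb₂, hind⟩ := hb'
        obtain ⟨y, hy, hby, hb₂y⟩ := sep b₂ hb₂ b hb hind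
        exact ⟨b, hb, hbb, hb0, by rw [polar_self, hbb, smul_zero], by rw [polar_comm]; exact hbb₂, y, hy, hby,
          Or.inr hb₂y⟩
      obtain ⟨P, hPW, hP, hPd⟩ := perp2 b b₂
      obtain ⟨v, hvP, hv0, hvv, hbd⟩ : ∃ v ∈ P, v ≠ 0 ∧ Q v = 0 ∧ b ∉ Submodule.span F {v} := by
        by_cases hsub : b₂ ∈ Submodule.span F {b}
        · have h5 : finrank F (Submodule.span F {b, b₂}) ≤ 1 := by
            have h6 : Submodule.span F {b, b₂} ≤ Submodule.span F {b} := Submodule.span_le.mpr (by
              rintro x (rfl | rfl)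
              exacts [Submodule.mem_span_singleton_self _, hsub])
            exact (Submodule.finrank_mono h6).trans ((finrank_span_le_card _).trans (by simp))
          obtain ⟨Y, hYX, hYS, hYd⟩ := exists_avoid P (Submodule.span F {b})
          have h6 : finrank F (Submodule.span F {b}) ≤ 1 := (finrank_span_le_card _).trans (by simp)
          obtain ⟨v, hv, hv0, hvv⟩ := Cfsg.Agent.Small.QuadBasis.exists_singular Q (W := Y) (by omega)
          refine ⟨v, hYX hv, hv0, hvv, fun h => hv0 (show v ∈ (⊥ : Submodule F (ι → F)) from hYS ▸ ⟨hv, ?_⟩)⟩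
          obtain ⟨k, hk⟩ := Submodule.mem_span_singleton.mp h
          have hk0 : k ≠ 0 := fun e => hb0 (by rw [← hk, e, zero_smul])
          rw [show v = k⁻¹ • b by rw [← hk, smul_smul, inv_mul_cancel₀ hk0, one_smul]]
          exact Submodule.smul_mem _ _ (Submodule.mem_span_singleton_self b)
        · have h4 := finrank_span_pair_le (F := F) b b₂
          obtain ⟨v, hv, hv0, hvv⟩ := Cfsg.Agent.Small.QuadBasis.exists_singular Q (W := P) (by omega)
          refine ⟨v, hv, hv0, hvv, fun h => hb' ?_⟩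
          obtain ⟨k, hk⟩ := Submodule.mem_span_singleton.mp h
          refine ⟨by rw [← hk, QuadraticMap.map_smul, hvv, smul_zero], ?_, hsub⟩
          rw [← hk, polar_smul_left, polar_comm, (hP v hv).2, smul_zero]
      obtain ⟨y, hy, hvy, hby⟩ := sep b hb v (hPW hvP) hbd
      exact ⟨v, hPW hvP, hvv, hv0, (hP v hvP).1, (hP v hvP).2, y, hy, hvy, Or.inl hby⟩
    obtain ⟨y, hy, hvy, hor⟩ := hyy
    have hπ : polar Q b y • a₂ - polar Q b₂ y • a ≠ 0 := fun e => by
      by_cases hby : polar Q b y = 0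
      · rw [hby, zero_smul, zero_sub, neg_eq_zero, smul_eq_zero] at e
        exact (hor.resolve_left (not_not.mpr hby)) (e.resolve_right ha0)
      · refine ha₂a ⟨(polar Q b y)⁻¹ * polar Q b₂ y, ?_⟩
        rw [mul_smul, ← sub_eq_zero.mp e, smul_smul, inv_mul_cancel₀ hby, one_smul]
    obtain ⟨h₁, hh₁⟩ := exE v y hvv hvy
    have hh₁K := hin hv hy hvv hvy hh₁
    have h1 := S.e_conj T hTG v y h₁ hh₁
    have hTv : (T : Matrix ι ι F) *ᵥ v = v := by
      rw [hTx, polar_add_left, polar_add_left, orth a ha v hv, orth a₂ ha₂ v hv, hbv, hb₂v, hQ₂]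
      simp
    obtain ⟨π, hπd⟩ : ∃ π, π = polar Q b y • a₂ - polar Q b₂ y • a := ⟨_, rfl⟩
    obtain ⟨y', hy'd⟩ : ∃ y', y' = y + polar Q b y • b₂ - polar Q b₂ y • b := ⟨_, rfl⟩
    have hTy : (T : Matrix ι ι F) *ᵥ y = π + y' := by
      rw [hTx, hπd, hy'd, polar_add_left, polar_add_left, orth a ha y hy, orth a₂ ha₂ y hy, hQ₂]
      simp only [zero_add, zero_mul, add_zero]
      module
    rw [hTv, hTy] at h1
    have hy'W : y' ∈ W' := hy'd ▸ sub_mem (W'.add_mem hy (W'.smul_mem _ hb₂)) (W'.smul_mem _ hb)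
    have hπW : π ∈ W := hπd ▸ sub_mem (W.smul_mem _ ha₂) (W.smul_mem _ ha)
    have hvy' : polar Q v (-y') = 0 := by
      rw [polar_neg_right, hy'd, polar_sub_right, polar_add_right, polar_smul_right, polar_smul_right, hvy,
        polar_comm Q v b, polar_comm Q v b₂, hbv, hb₂v]
      simp
    have hvs : polar Q v (π + y') = 0 := by
      rw [polar_add_right, orth' π hπW v hv, zero_add]
      simpa using hvy'
    obtain ⟨h₂, hh₂⟩ := exE v _ hvv hvy'
    have h3 := S.comp v _ _ _ _ hvv hvs hvy' h1 hh₂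
    rw [add_neg_cancel_right] at h3
    exact ⟨v, hv, π, hπW, hvv, hv0, hπd ▸ hπ, _,
      mul_mem (mul_mem (mul_mem hTK hh₁K) (inv_mem hTK)) (hin hv (W'.neg_mem hy'W) hvv hvy' hh₂), h3⟩
  · -- irreducibility on the first part
    obtain ⟨a, haA, ha0⟩ := Submodule.exists_mem_ne_zero_of_ne_bot hA0
    have hAd : finrank F A ≠ 0 := fun e => hA0 (Submodule.finrank_eq_zero.mp e)
    by_contra hne
    have hlt : finrank F A < finrank F W := Submodule.finrank_lt_finrank_of_lt (lt_of_le_of_ne hA hne)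
    by_cases hk : finrank F W = 2
    · -- planes: reflections
      have hspanA : A = Submodule.span F {a} := (Submodule.eq_of_le_of_finrank_eq
        ((Submodule.span_singleton_le_iff_mem a A).mpr haA) (by rw [finrank_span_singleton ha0]; omega)).symm
      obtain ⟨u₁, hu₁, hu₁u, hvu₁, -, hu₁v⟩ := side1 v hv
      rw [Set.pair_eq_singleton] at hu₁v
      obtain ⟨b₁, hb₁, hvb₁, hub₁⟩ := sep u₁ hu₁ v hv hu₁v
      have key : ∀ x ∈ W, x ∉ A → Q x ≠ 0 → polar Q a x = 0 := by
        intro x hx hxA hQx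
        obtain ⟨y, hyd⟩ : ∃ y, y = b₁ + ((Q x - Q b₁) / polar Q u₁ b₁) • u₁ := ⟨_, rfl⟩
        have hQy : Q y = Q x := by
          rw [hyd, QuadraticMap.map_add ⇑Q, QuadraticMap.map_smul, hu₁u, smul_zero, add_zero, polar_smul_right,
            polar_comm Q b₁ u₁, smul_eq_mul, div_mul_cancel₀ _ hub₁, add_sub_cancel]
        have hyW : y ∈ W' := hyd ▸ W'.add_mem hb₁ (W'.smul_mem _ hu₁)
        have hvy : polar Q v y = 0 := by rw [hyd, polar_add_right, polar_smul_right, hvb₁, hvu₁]; simp
        obtain ⟨m, hm, hmx⟩ := ONotMax.exists_refl_pair hQ hQx hQy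
        have hmW : ∀ w ∈ W, (m : Matrix ι ι F) *ᵥ w = w - ((Q x)⁻¹ * polar Q x w) • x := fun w hw => by
          rw [hmx, ORefl.refl_fix (orth' w hw y hyW), ORefl.refl_apply]
        have h1 := hAinv m ⟨mem_subspaceStabilizer_iff.mpr fun w hw => by
            rw [hmW w hw]; exact W.sub_mem hw (W.smul_mem _ hx), hm⟩
          (by rw [hmx, ORefl.refl_fix (Q := Q) (v := y) (x := v) (by rw [polar_comm]; exact hvy),
            ORefl.refl_fix (Q := Q) (v := x) (x := v) (orth x hx v hv)]) a haA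
        rw [hmW a (hA haA)] at h1
        have h2 := A.sub_mem haA h1
        rw [sub_sub_cancel] at h2
        by_contra hne'
        exact hxA ((A.smul_mem_iff (mul_ne_zero (inv_ne_zero hQx) (by rw [polar_comm]; exact hne'))).mp h2)
      obtain ⟨a', ha', ha'A⟩ := SetLike.exists_of_lt (lt_of_le_of_ne hA hne)
      have hline : ∀ t : F, Q (a' + t • a) ≠ 0 → polar Q a a' + t * polar Q a a = 0 := fun t ht => by
        have := key (a' + t • a) (W.add_mem ha' (W.smul_mem _ (hA haA)))
          (fun h => ha'A (by simpa using A.sub_mem h (A.smul_mem t haA))) ht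
        rwa [polar_add_right, polar_smul_right, smul_eq_mul] at this
      have hnz : ¬ (polar Q a a' = 0 ∧ polar Q a a = 0) := fun ⟨h1, h2⟩ => by
        obtain ⟨z, hz, hne'⟩ := (hW a (hA haA) ha0).2
        have hle : Submodule.span F {a, a'} ≤ W :=
          Submodule.span_le.mpr (by rintro x (rfl | rfl); exacts [hA haA, ha'])
        have hlt' : Submodule.span F {a} < Submodule.span F {a, a'} :=
          lt_of_le_of_ne (Submodule.span_mono (by simp)) fun e => ha'A (by
            rw [hspanA, e]; exact Submodule.subset_span (by simp))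
        have h3 := Submodule.finrank_lt_finrank_of_lt hlt'
        rw [finrank_span_singleton ha0] at h3
        have h4 := Submodule.eq_of_le_of_finrank_le hle (by omega)
        rw [← h4] at hz
        obtain ⟨r, r', rfl⟩ := Submodule.mem_span_pair.mp hz
        exact hne' (by rw [polar_add_right, polar_smul_right, polar_smul_right, h1, h2]; simp)
      by_cases hsing : ∀ w ∈ W, w ≠ 0 → Q w ≠ 0
      · have hne' : ∀ t : F, a' + t • a ≠ 0 := fun t h => ha'A (by
          rw [eq_neg_of_add_eq_zero_left h]; exact A.neg_mem (A.smul_mem _ haA))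
        have h1 := hline 0 (hsing _ (W.add_mem ha' (W.smul_mem _ (hA haA))) (hne' 0))
        have h2 := hline 1 (hsing _ (W.add_mem ha' (W.smul_mem _ (hA haA))) (hne' 1))
        exact hnz ⟨by simpa using h1, by linear_combination h2 - h1⟩
      push Not at hsing
      obtain ⟨w, hw, hw0, hww⟩ := hsing
      have h4 := hq hk w hw hw0 hww
      have hbad : (Finset.univ.filter fun t : F => polar Q a a' + t * polar Q a a = 0).card ≤ 1 := by
        rw [Finset.card_le_one]
        intro t₁ ht₁ t₂ ht₂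
        simp only [Finset.mem_filter, Finset.mem_univ, true_and] at ht₁ ht₂
        by_contra hne'
        have h5 : (t₁ - t₂) * polar Q a a = 0 := by linear_combination ht₁ - ht₂
        have h6 := (mul_eq_zero.mp h5).resolve_left (sub_ne_zero.mpr hne')
        exact hnz ⟨by rw [h6, mul_zero, add_zero] at ht₁; exact ht₁, h6⟩
      have h3 : 2 < (Finset.univ.filter fun t : F => ¬ (polar Q a a' + t * polar Q a a = 0)).card := by
        have := Finset.card_filter_add_card_filter_not (s := (Finset.univ : Finset F))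
          (fun t : F => polar Q a a' + t * polar Q a a = 0)
        rw [Finset.card_univ] at this
        omega
      obtain ⟨t₁, t₂, t₃, ht₁, ht₂, ht₃, h12, h13, h23⟩ := Finset.two_lt_card_iff.mp h3
      simp only [Finset.mem_filter, Finset.mem_univ, true_and] at ht₁ ht₂ ht₃
      have hQt : ∀ t, ¬ (polar Q a a' + t * polar Q a a = 0) → Q a' + t * t * Q a + t * polar Q a a' = 0 :=
        fun t ht => by
          have h5 : Q (a' + t • a) = 0 := by
            by_contra h
            exact ht (hline t h)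
          rw [QuadraticMap.map_add ⇑Q, QuadraticMap.map_smul, polar_smul_right, polar_comm Q a' a, smul_eq_mul,
            smul_eq_mul] at h5
          exact h5
      have hQa : (t₁ - t₂) * ((t₁ - t₃) * ((t₂ - t₃) * Q a)) = 0 := by
        linear_combination (t₂ - t₃) * hQt t₁ ht₁ + (t₃ - t₁) * hQt t₂ ht₂ + (t₁ - t₂) * hQt t₃ ht₃
      have hQa0 : Q a = 0 := by
        simpa [sub_ne_zero.mpr h12, sub_ne_zero.mpr h13, sub_ne_zero.mpr h23] using hQa
      have h5 : (t₁ - t₂) * polar Q a a' = 0 := by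
        linear_combination hQt t₁ ht₁ - hQt t₂ ht₂ - (t₁ * t₁ - t₂ * t₂) * hQa0
      exact hnz ⟨(mul_eq_zero.mp h5).resolve_left (sub_ne_zero.mpr h12),
        by rw [polar_self, hQa0, smul_zero]⟩
    have hk3 : 3 ≤ finrank F W := by omega
    obtain ⟨w₀, hw₀, hw₀0, hw₀w₀⟩ := Cfsg.Agent.Small.QuadBasis.exists_singular Q (W := W) hk3
    have hspan := sing_span hW hw₀ hw₀w₀ hw₀0
    have hcl : ∀ w ∈ W, Q w = 0 → ∀ x ∈ A, polar Q x w ≠ 0 → w ∈ A := by
      intro w hw hww x hx hne
      have hwx : polar Q w x ≠ 0 := by rw [polar_comm]; exact hne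
      obtain ⟨u, hu, p, hp, hwu, hwp, hup⟩ :
          ∃ u ∈ W, ∃ p ∈ W, polar Q w u = 0 ∧ polar Q w p = 0 ∧ polar Q u p ≠ 0 := by
        obtain ⟨Y, hYX, -, hYd⟩ := exists_avoid (W ⊓ hf.perp (Submodule.span F {w, x})) (⊥ : Submodule F (ι → F))
        have h1 := Submodule.finrank_sup_add_finrank_inf_eq W (hf.perp (Submodule.span F {w, x}))
        have h2 := hf.finrank_perp (Submodule.span F {w, x})
        have h3 := Submodule.finrank_le (W ⊔ hf.perp (Submodule.span F {w, x}))
        rw [Module.finrank_fintype_fun_eq_card] at h3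
        have h4 := finrank_span_pair_le (F := F) w x
        rw [finrank_bot] at hYd
        obtain ⟨u, hu, hu0⟩ := Submodule.exists_mem_ne_zero_of_ne_bot (p := Y) fun e => by
          rw [e, finrank_bot] at hYd; omega
        have huw : polar Q u w = 0 := (hYX hu).2 w (Submodule.subset_span (by simp))
        have hux : polar Q u x = 0 := (hYX hu).2 x (Submodule.subset_span (by simp))
        obtain ⟨p₀, hp₀, hup₀⟩ := (hW u (hYX hu).1 hu0).2
        refine ⟨u, (hYX hu).1, p₀ - (polar Q w p₀ / polar Q w x) • x,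
          W.sub_mem hp₀ (W.smul_mem _ (hA hx)), by rw [polar_comm]; exact huw, ?_, ?_⟩
        · rw [polar_sub_right, polar_smul_right, smul_eq_mul, div_mul_cancel₀ _ hwx, sub_self]
        · rw [polar_sub_right, polar_smul_right, hux, smul_zero, sub_zero]; exact hup₀
      have hD : ∀ y ∈ W, polar Q w y = 0 → polar Q w x • y - (polar Q y x + Q y * polar Q w x) • w ∈ A := by
        intro y hy hwy
        obtain ⟨m, hm⟩ := exE w y hww hwy
        have hmS : m ∈ subspaceStabilizer W ⊓ omegaGL ⇑Q := ⟨mem_subspaceStabilizer_iff.mpr fun z hz => by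
          rw [hm]; exact W.sub_mem (W.add_mem hz (W.smul_mem _ hy)) (W.smul_mem _ hw), Δ.mem w m hww (S.u_of w y m hwy hm)⟩
        have h1 := A.sub_mem (hAinv m hmS (by rw [hm, orth w hw v hv, orth y hy v hv]; simp) x hx) hx
        rw [hm] at h1
        rwa [add_sub_assoc, add_sub_cancel_left] at h1
      have h1 := A.sub_mem (A.sub_mem (hD (u + p) (W.add_mem hu hp) (by rw [polar_add_right, hwu, hwp, add_zero]))
        (hD u hu hwu)) (hD p hp hwp)
      have e1 : polar Q w x • (u + p) - (polar Q (u + p) x + Q (u + p) * polar Q w x) • w -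
          (polar Q w x • u - (polar Q u x + Q u * polar Q w x) • w) -
          (polar Q w x • p - (polar Q p x + Q p * polar Q w x) • w) = (-(polar Q u p * polar Q w x)) • w := by
        rw [polar_add_left, QuadraticMap.map_add ⇑Q]
        module
      rw [e1] at h1
      exact (A.smul_mem_iff (neg_ne_zero.mpr (mul_ne_zero hup hwx))).mp h1
    obtain ⟨w, hw, hww, haw⟩ : ∃ w ∈ W, Q w = 0 ∧ polar Q a w ≠ 0 := by
      by_contra hcon
      push Not at hcon
      obtain ⟨x, hx, hne'⟩ := (hW a (hA haA) ha0).2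
      exact hne' ((Submodule.span_le (p := LinearMap.ker (Q.polarBilin a))).mpr
        (fun z hz => by simpa using hcon z hz.1 hz.2) (hspan hx))
    have hwA := hcl w hw hww a haA haw
    have hw0 : w ≠ 0 := fun e => haw (by rw [e, polar_zero_right])
    obtain ⟨z, hz, hzz, hwz⟩ := sing_pair hW hw hww hw0
    have hzA := hcl z hz hzz w hwA hwz
    refine hne (le_antisymm hA (hspan.trans (Submodule.span_le.mpr fun x hx => ?_)))
    by_cases h1 : polar Q w x = 0
    swap
    · exact hcl x hx.1 hx.2 w hwA h1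
    by_cases h2 : polar Q z x = 0
    swap
    · exact hcl x hx.1 hx.2 z hzA h2
    have h3 := hcl (w + x) (W.add_mem hw hx.1) (by
      rw [QuadraticMap.map_add ⇑Q, hww, hx.2, h1]; ring) z hzA (by
      rw [polar_add_right, h2, add_zero, polar_comm]; exact hwz)
    simpa using A.sub_mem h3 hwA
  · intro hle
    rcases OEven.eq_bot_or_top_of_fixCodim hQ (by omega) (W := W)
      (fun g hg _ x hx => mem_subspaceStabilizer_iff.mp (hle hg) x hx) with h | h
    · exact hW0 h
    · rw [h, finrank_top, Module.finrank_fintype_fun_eq_card] at hdim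
      omega

/-- The stabiliser of a non-degenerate subspace of at most half the dimension is maximal. -/
theorem isMaximal_quadSplit (hQ : PND Q) (hn : 13 ≤ Fintype.card ι) {W : Submodule F (ι → F)} (hW0 : W ≠ ⊥)
    (hW : IsNondegenerateOn (polar ⇑Q) W) (hdim : 2 * finrank F W ≤ Fintype.card ι)
    (hswap : 2 * finrank F W = Fintype.card ι →
      ∀ g ∈ omegaGL ⇑Q, ∃ s ∈ (reflex_polar hQ).perp W, (g : Matrix ι ι F) *ᵥ s ∉ W)
    (hq : finrank F W = 2 → ∀ w ∈ W, w ≠ 0 → Q w = 0 → 4 ≤ Fintype.card F) :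
    IsMaximalIn (omegaGL ⇑Q) (subspaceStabilizer W ⊓ omegaGL ⇑Q) :=
  isMaximal_quadSplit_five hQ (by omega) hW0 hW hdim (by omega) hswap hq

end Cfsg.Agent.Classical.Radical
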