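/-
Stabilisers of non-degenerate subspaces in orthogonal groups: choice of the smaller part.
-/
import Cfsg.Agent.Lib.Classical.RadicalQuadSplit

set_option autoImplicit false
set_option linter.unusedSectionVars false

namespace Cfsg.Agent.Classical.Radical

open Matrix Module QuadraticMap Cfsg.Geo OCount
open Cfsg.Agent.Classical

variable {ι : Type} [Fintype ι] [DecidableEq ι] {F : Type*} [Field F] [Fintype F] {Q : QuadraticForm F (ι → F)}

/-- A non-degenerate space of even dimension is isometric to its negative. -/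
theorem exists_neg_isometry {W : Submodule F (ι → F)} (hW : IsNondegenerateOn (polar ⇑Q) W)
    (hev : Even (finrank F W)) : ∃ A : W →ₗ[F] W, ∀ x : W, Q ((A x : W) : ι → F) = -Q (x : ι → F) := by
  classical
  by_cases h20 : (2 : F) = 0
  · refine ⟨LinearMap.id, fun x => ?_⟩
    rw [LinearMap.id_apply, eq_neg_iff_add_eq_zero, ← two_mul, h20, zero_mul]
  haveI : Invertible (2 : F) := invertibleOfNonzero h20
  let B : LinearMap.BilinForm F W := (Q.polarBilin).compl₁₂ W.subtype W.subtype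
  have hB : ∀ x y : W, B x y = polar Q (x : ι → F) y := fun x y => rfl
  obtain ⟨b, hb⟩ := LinearMap.BilinForm.exists_orthogonal_basis (B := B) ⟨fun x y => polar_comm Q _ _⟩
  obtain ⟨j, hj⟩ := hev
  let e : Fin j × Fin 2 ≃ Fin (finrank F W) := finProdFinEquiv.trans (finCongr (by omega))
  have horth : ∀ i l, i ≠ l → polar Q (b i : ι → F) (b l) = 0 := fun i l hil => hb hil
  have hd : ∀ i, Q (b i : ι → F) ≠ 0 := fun i h0 => by
    obtain ⟨z, hz, hne⟩ := (hW _ (b i).2 (fun e0 => b.ne_zero i (Subtype.ext e0))).2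
    have hmap : (B (b i)) = 0 := b.ext fun l => by
      rw [hB, LinearMap.zero_apply]
      by_cases hil : i = l
      · rw [← hil, polar_self, h0, smul_zero]
      · exact horth i l hil
    exact hne (show B (b i) ⟨z, hz⟩ = 0 by rw [hmap, LinearMap.zero_apply])
  have hval : ∀ p : Fin j, ∃ α β : F, α * α * Q (b (e (p, 0)) : ι → F) + β * β * Q (b (e (p, 1)) : ι → F) =
      -Q (b (e (p, 0)) : ι → F) := fun p => by
    obtain ⟨a₀, ha₀⟩ : ∃ a₀, a₀ = Q (b (e (p, 0)) : ι → F) := ⟨_, rfl⟩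
    obtain ⟨a₁, ha₁⟩ : ∃ a₁, a₁ = Q (b (e (p, 1)) : ι → F) := ⟨_, rfl⟩
    have hodd : Fintype.card F % 2 = 1 := FiniteField.odd_card_of_char_ne_two fun h => h20 (by
      haveI := ringChar.charP F
      have := CharP.cast_eq_zero F (ringChar F)
      rw [h] at this
      exact_mod_cast this)
    obtain ⟨x, y, hxy⟩ := FiniteField.exists_root_sum_quadratic (R := F)
      (f := Polynomial.C a₀ * Polynomial.X ^ 2) (g := Polynomial.C a₁ * Polynomial.X ^ 2 + Polynomial.C a₀)
      (Polynomial.degree_C_mul_X_pow 2 (ha₀ ▸ hd _)) (by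
        rw [Polynomial.degree_add_eq_left_of_degree_lt (by
          rw [Polynomial.degree_C_mul_X_pow 2 (ha₁ ▸ hd _)]
          exact lt_of_le_of_lt Polynomial.degree_C_le (by norm_num))]
        exact Polynomial.degree_C_mul_X_pow 2 (ha₁ ▸ hd _)) hodd
    simp at hxy
    exact ⟨x, y, by rw [← ha₀, ← ha₁]; linear_combination hxy⟩
  choose α β hαβ using hval
  let s : Fin j × Fin 2 → W := fun m =>
    if m.2 = 0 then α m.1 • b (e (m.1, 0)) + β m.1 • b (e (m.1, 1))
    else (-(β m.1 * Q (b (e (m.1, 1)) : ι → F)) / Q (b (e (m.1, 0)) : ι → F)) • b (e (m.1, 0)) + α m.1 • b (e (m.1, 1))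
  let A : W →ₗ[F] W := b.constr F fun i => s (e.symm i)
  refine ⟨A, fun x => ?_⟩
  have hAb : ∀ i, A (b i) = s (e.symm i) := fun i => b.constr_basis F _ i
  have key : B.compl₁₂ A A = -B := LinearMap.ext_basis b b fun i l => by
    obtain ⟨⟨p, u⟩, rfl⟩ : ∃ m, i = e m := ⟨_, (e.apply_symm_apply i).symm⟩
    obtain ⟨⟨p', u'⟩, rfl⟩ : ∃ m, l = e m := ⟨_, (e.apply_symm_apply l).symm⟩
    rw [LinearMap.compl₁₂_apply, hAb, hAb, e.symm_apply_apply, e.symm_apply_apply, LinearMap.neg_apply,
      LinearMap.neg_apply, hB, hB]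
    have hself : ∀ i, polar Q (b i : ι → F) (b i) = 2 * Q (b i : ι → F) := fun i => by
      rw [polar_self, two_smul, two_mul]
    by_cases hp : p = p'
    · subst hp
      have o1 : polar Q (b (e (p, 0)) : ι → F) (b (e (p, 1))) = 0 := horth _ _ (by simp)
      have o2 : polar Q (b (e (p, 1)) : ι → F) (b (e (p, 0))) = 0 := horth _ _ (by simp)
      have hd0 := hd (e (p, 0))
      have hk := hαβ p
      obtain rfl | rfl : u = 0 ∨ u = 1 := by fin_cases u <;> simp
      all_goals obtain rfl | rfl : u' = 0 ∨ u' = 1 := by fin_cases u' <;> simp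
      all_goals simp only [s, Fin.one_eq_zero_iff, if_true, if_false, Submodule.coe_add, Submodule.coe_smul,
        polar_add_left, polar_add_right, polar_smul_left, polar_smul_right, smul_eq_mul, hself, o1, o2, mul_zero,
        add_zero, zero_add, OfNat.ofNat_ne_one, one_ne_zero, neg_zero]
      · linear_combination 2 * hk
      · field_simp
        ring
      · field_simp
        ring
      · field_simp
        linear_combination (Q (b (e (p, 1)) : ι → F)) * hk
    · have o : ∀ u u', polar Q (b (e (p, u)) : ι → F) (b (e (p', u'))) = 0 := fun u u' => horth _ _ (by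
        intro h; exact hp (Prod.ext_iff.mp (e.injective h)).1)
      obtain rfl | rfl : u = 0 ∨ u = 1 := by fin_cases u <;> simp
      all_goals obtain rfl | rfl : u' = 0 ∨ u' = 1 := by fin_cases u' <;> simp
      all_goals simp [s, polar_add_left, polar_add_right, polar_smul_left, polar_smul_right, o]
  have h1 := LinearMap.congr_fun (LinearMap.congr_fun key x) x
  rw [LinearMap.compl₁₂_apply, LinearMap.neg_apply, LinearMap.neg_apply, hB, hB, polar_self, polar_self] at h1
  simp only [two_smul, ← two_mul] at h1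
  exact mul_left_cancel₀ h20 (by linear_combination h1)

/-- An isometry of a subspace into an orthogonal one gives a totally singular subspace of the same dimension. -/
theorem exists_diagonal {W W' : Submodule F (ι → F)} (hW : IsNondegenerateOn (polar ⇑Q) W)
    (hev : Even (finrank F W)) (orth : ∀ a ∈ W, ∀ b ∈ W', polar Q a b = 0) (ψ : W →ₗ[F] (ι → F))
    (hψW : ∀ x, ψ x ∈ W') (hψQ : ∀ x, Q (ψ x) = Q (x : ι → F)) :
    ∃ U : Submodule F (ι → F), U ≤ W ⊔ W' ∧ IsTotallySingularQuad ⇑Q U ∧ finrank F U = finrank F W := by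
  obtain ⟨A, hA⟩ := exists_neg_isometry hW hev
  let L : W →ₗ[F] (ι → F) := W.subtype + ψ.comp A
  have hL : ∀ x : W, L x = (x : ι → F) + ψ (A x) := fun x => rfl
  refine ⟨LinearMap.range L, ?_, ?_, ?_⟩
  · rintro _ ⟨x, rfl⟩
    exact Submodule.add_mem_sup x.2 (hψW _)
  · rintro _ ⟨x, rfl⟩
    rw [hL, QuadraticMap.map_add ⇑Q, hψQ, hA, orth _ x.2 _ (hψW _)]
    ring
  · rw [LinearMap.finrank_range_of_inj]
    rw [← LinearMap.ker_eq_bot, LinearMap.ker_eq_bot']
    intro x hx
    refine Subtype.ext ?_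
    by_contra h0
    obtain ⟨z, hz, hne⟩ := (hW x x.2 h0).2
    refine hne ?_
    rw [eq_neg_of_add_eq_zero_left ((hL x).symm.trans hx), polar_neg_left, polar_comm, orth z hz _ (hψW _), neg_zero]

/-- Two isometric orthogonal halves of even dimension give a totally singular half. -/
theorem plus_of_halves (hQ : PND Q) {W : Submodule F (ι → F)} (hW : IsNondegenerateOn (polar ⇑Q) W)
    (h2 : 2 * finrank F W = Fintype.card ι) (hev : Even (finrank F W)) {g : GL ι F} (hg : g ∈ omegaGL ⇑Q)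
    (hgW : ∀ b ∈ (reflex_polar hQ).perp W, (g : Matrix ι ι F) *ᵥ b ∈ W) : IsPlusTypeOn ⇑Q ⊤ := by
  classical
  obtain ⟨W', hW'⟩ : ∃ W', W' = (reflex_polar hQ).perp W := ⟨_, rfl⟩
  let ψ : (ι → F) →ₗ[F] (ι → F) := Matrix.mulVecLin ((g⁻¹ : GL ι F) : Matrix ι ι F)
  let φ : (ι → F) →ₗ[F] (ι → F) := Matrix.mulVecLin (g : Matrix ι ι F)
  have hψW : ∀ x ∈ W, ψ x ∈ W' := by
    have hd := (reflex_polar hQ).finrank_perp W
    rw [← hW'] at hd
    have h1 : W'.map φ = W := Submodule.eq_of_le_of_finrank_eq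
      (Submodule.map_le_iff_le_comap.mpr (hW' ▸ hgW)) (by
        rw [← (Submodule.equivMapOfInjective φ (gl_mulVec_injective g) W').finrank_eq]; omega)
    intro x hx
    obtain ⟨b, hb, rfl⟩ := Submodule.mem_map.mp (h1.symm ▸ hx : x ∈ W'.map φ)
    show ((g⁻¹ : GL ι F) : Matrix ι ι F) *ᵥ ((g : Matrix ι ι F) *ᵥ b) ∈ W'
    rwa [gl_inv_mulVec_cancel]
  have hψQ : ∀ x, Q (ψ x) = Q x := fun x => ONotMax.omega_isometry (inv_mem hg) x
  obtain ⟨U, -, hU, hUd⟩ := exists_diagonal hW hev (W' := W') (fun a ha c hc => by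
      rw [polar_comm]; exact (hW' ▸ hc : c ∈ (reflex_polar hQ).perp W) a ha)
    (ψ.comp W.subtype) (fun x => hψW _ x.2) (fun x => hψQ _)
  exact ⟨U, le_top, hU, by rw [hUd, finrank_top, Module.finrank_fintype_fun_eq_card, h2]⟩

/-- The stabiliser of a non-degenerate proper subspace is maximal, either part being the smaller one. -/
theorem isMaximal_quadAny_five (hQ : PND Q) (hn : 7 ≤ Fintype.card ι) {W : Submodule F (ι → F)} (hW0 : W ≠ ⊥)
    (hW1 : W ≠ ⊤) (hW : IsNondegenerateOn (polar ⇑Q) W)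
    (hhalf : 2 * finrank F W = Fintype.card ι → Even (finrank F W) ∧ ¬ IsPlusTypeOn ⇑Q ⊤)
    (hq : Fintype.card F ≤ 3 → ∀ U : Submodule F (ι → F), finrank F U = 2 → IsNondegenerateOn (polar ⇑Q) U →
      IsPlusTypeOn ⇑Q U → ¬ (U = W ∨ (AreOrthogonalFor (polar ⇑Q) U W ∧ finrank F U + finrank F W = Fintype.card ι)))
    (hfive : finrank F W + 5 ≤ Fintype.card ι ∨ 5 ≤ finrank F W ∨ 9 ≤ Fintype.card ι) :
    IsMaximalIn (omegaGL ⇑Q) (subspaceStabilizer W ⊓ omegaGL ⇑Q) := by
  haveI : Nonempty ι := Fintype.card_pos_iff.mp (by omega)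
  have hf := reflex_polar hQ
  have hd := hf.finrank_perp W
  have plane : ∀ {X : Submodule F (ι → F)}, IsNondegenerateOn (polar ⇑Q) X → (X = W ∨
      (AreOrthogonalFor (polar ⇑Q) X W ∧ finrank F X + finrank F W = Fintype.card ι)) →
      finrank F X = 2 → ∀ w ∈ X, w ≠ 0 → Q w = 0 → 4 ≤ Fintype.card F := by
    intro X hX hXW h2 w hw hw0 hww
    by_contra hlt
    refine hq (by omega) X h2 hX ⟨Submodule.span F {w}, (Submodule.span_singleton_le_iff_mem w X).mpr hw, ?_, ?_⟩ hXW
    · intro x hx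
      obtain ⟨r, rfl⟩ := Submodule.mem_span_singleton.mp hx
      rw [QuadraticMap.map_smul, hww, smul_zero]
    · rw [finrank_span_singleton hw0, h2]
  by_cases hle : 2 * finrank F W ≤ Fintype.card ι
  · refine isMaximal_quadSplit_five hQ hn hW0 hW hle (by omega) (fun h2 g hg => ?_) (plane hW (Or.inl rfl))
    by_contra hcon
    push Not at hcon
    exact (hhalf h2).2 (plus_of_halves hQ hW h2 (hhalf h2).1 hg hcon)
  rw [← stab_perp_eq hQ W]
  refine isMaximal_quadSplit_five hQ hn (fun e => hW1 ?_) (perp_nondeg hQ hW) (by omega) (by omega) (fun h2 => absurd h2 (by omega))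
    (plane (perp_nondeg hQ hW) (Or.inr ⟨fun u hu w hw => hu w hw, by omega⟩))
  rw [← hf.perp_perp W]
  refine eq_top_iff.mpr fun x _ => ?_
  intro y hy
  rw [show y = 0 from (Submodule.mem_bot F).mp (e ▸ hy : y ∈ (⊥ : Submodule F (ι → F))), polar_zero_right]

/-- The stabiliser of a non-degenerate proper subspace is maximal, either part being the smaller one. -/
theorem isMaximal_quadAny (hQ : PND Q) (hn : 13 ≤ Fintype.card ι) {W : Submodule F (ι → F)} (hW0 : W ≠ ⊥)
    (hW1 : W ≠ ⊤) (hW : IsNondegenerateOn (polar ⇑Q) W)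
    (hhalf : 2 * finrank F W = Fintype.card ι → Even (finrank F W) ∧ ¬ IsPlusTypeOn ⇑Q ⊤)
    (hq : Fintype.card F ≤ 3 → ∀ U : Submodule F (ι → F), finrank F U = 2 → IsNondegenerateOn (polar ⇑Q) U →
      IsPlusTypeOn ⇑Q U → ¬ (U = W ∨ (AreOrthogonalFor (polar ⇑Q) U W ∧ finrank F U + finrank F W = Fintype.card ι))) :
    IsMaximalIn (omegaGL ⇑Q) (subspaceStabilizer W ⊓ omegaGL ⇑Q) :=
  isMaximal_quadAny_five hQ (by omega) hW0 hW1 hW hhalf hq (Or.inr (Or.inr (by omega)))

end Cfsg.Agent.Classical.Radical
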