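/-
Stabilisers of three-dimensional non-degenerate subspaces in the seven-dimensional orthogonal group.
-/
import Cfsg.Agent.Lib.Classical.RadicalQuadSplit

set_option autoImplicit false
set_option linter.unusedSectionVars false

namespace Cfsg.Agent.Classical.Radical

open Matrix Module QuadraticMap Cfsg.Geo OCount
open Cfsg.Agent.Classical

variable {ι : Type} [Fintype ι] [DecidableEq ι] {F : Type*} [Field F] [Fintype F] {Q : QuadraticForm F (ι → F)}

/-- The radical element with centre `v` and parameter `y` lies in the group. -/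
def InR (Q : QuadraticForm F (ι → F)) (K : Subgroup (GL ι F)) (v y : ι → F) : Prop :=
  ∃ h ∈ K, EQ Q v y h

section

variable {K : Subgroup (GL ι F)}

theorem InR.mem {v y : ι → F} (hin : InR Q K v y) {h : GL ι F} (hh : EQ Q v y h) : h ∈ K := by
  obtain ⟨k, hk, hkx⟩ := hin
  rwa [show h = k from gl_ext_mulVec fun x => by rw [hh, hkx]]

theorem InR.add {v y y' : ι → F} (hv : Q v = 0) (hy : polar Q v y = 0) (hy' : polar Q v y' = 0)
    (h : InR Q K v y) (h' : InR Q K v y') : InR Q K v (y + y') := by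
  obtain ⟨k, hk, hkx⟩ := h
  obtain ⟨k', hk', hk'x⟩ := h'
  refine ⟨k * k', mul_mem hk hk', fun x => ?_⟩
  rw [gl_mul_mulVec, hk'x, hkx, QuadraticMap.map_add ⇑Q y y']
  simp only [sub_eq_add_neg, ← neg_smul, polar_add_left, polar_add_right, polar_smul_right, polar_self, hv,
    hy', polar_comm Q y v, hy, smul_eq_mul, smul_zero, mul_zero, add_zero, polar_comm Q y' y]
  module

theorem inR_zero (v : ι → F) : InR Q K v 0 :=
  ⟨1, one_mem K, fun x => by simp⟩

theorem InR.conj (hK : K ≤ omegaGL ⇑Q) {k : GL ι F} (hk : k ∈ K) {v y : ι → F} (h : InR Q K v y) :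
    InR Q K ((k : Matrix ι ι F) *ᵥ v) ((k : Matrix ι ι F) *ᵥ y) := by
  obtain ⟨m, hm, hmx⟩ := h
  refine ⟨k * m * k⁻¹, mul_mem (mul_mem hk hm) (inv_mem hk), fun x => ?_⟩
  obtain ⟨z, rfl⟩ : ∃ z, x = (k : Matrix ι ι F) *ᵥ z := ⟨_, (gl_mulVec_inv_cancel k x).symm⟩
  rw [gl_mul_mulVec, gl_mul_mulVec, gl_inv_mulVec_cancel, hmx, omega_polar (hK hk), omega_polar (hK hk),
    ONotMax.omega_isometry (hK hk), Matrix.mulVec_sub, Matrix.mulVec_add, Matrix.mulVec_smul, Matrix.mulVec_smul]

theorem InR.neg (hQ : PND Q) (hn : 7 ≤ Fintype.card ι) {v y : ι → F} (hv : Q v = 0) (hy : polar Q v y = 0)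
    (h : InR Q K v y) : InR Q K v (-y) := by
  have hy' : polar Q v (-y) = 0 := by rw [polar_neg_right, hy, neg_zero]
  obtain ⟨m, -, hm⟩ := ONotMax.exists_siegel hQ (by omega) hv hy'
  obtain ⟨k, hk, hkx⟩ := h
  refine ⟨m, ?_, hm⟩
  have h1 : k * m = 1 := gl_ext_mulVec fun x => by
    rw [gl_mul_mulVec, hm, hkx, QuadraticMap.map_neg, Units.val_one, Matrix.one_mulVec]
    simp only [sub_eq_add_neg, ← neg_smul, polar_add_right, polar_smul_right, polar_self, hv,
      hy', polar_comm Q y v, hy, polar_neg_left, polar_neg_right, smul_eq_mul, smul_zero, mul_zero, add_zero, neg_zero]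
    module
  rw [show m = k⁻¹ from eq_inv_of_mul_eq_one_right h1]
  exact inv_mem hk

theorem InR.swap {v y : ι → F} (hv : Q v = 0) (hy : Q y = 0) (h : InR Q K v y) : InR Q K y (-v) := by
  obtain ⟨k, hk, hkx⟩ := h
  refine ⟨k, hk, fun x => ?_⟩
  rw [hkx, hy, QuadraticMap.map_neg, hv, polar_neg_left]
  module

theorem InR.scale {l : F} {v y : ι → F} (h : InR Q K (l • v) y) : InR Q K v (l • y) := by
  obtain ⟨k, hk, hkx⟩ := h
  refine ⟨k, hk, fun x => ?_⟩
  rw [hkx, polar_smul_left, polar_smul_left, QuadraticMap.map_smul]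
  simp only [smul_eq_mul]
  module

end

/-- In dimension seven the stabiliser of a non-degenerate three-space is maximal. -/
theorem isMaximal_three (hQ : PND Q) (hn : Fintype.card ι = 7) (h2 : (2 : F) ≠ 0) {U : Submodule F (ι → F)}
    (hU3 : finrank F U = 3) (hU : IsNondegenerateOn (polar ⇑Q) U) :
    IsMaximalIn (omegaGL ⇑Q) (subspaceStabilizer U ⊓ omegaGL ⇑Q) := by
  classical
  have hf := reflex_polar hQ
  have Δ := quad_data hQ (by omega)
  obtain ⟨W, hW⟩ : ∃ W, W = hf.perp U := ⟨_, rfl⟩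
  have hd := hf.finrank_perp U
  rw [← hW] at hd
  have hWnd : IsNondegenerateOn (polar ⇑Q) W := hW ▸ perp_nondeg hQ hU
  have oWU : ∀ u ∈ U, ∀ w ∈ W, polar Q w u = 0 := fun u hu w hw => (hW ▸ hw : w ∈ hf.perp U) u hu
  have oUW : ∀ u ∈ U, ∀ w ∈ W, polar Q u w = 0 := fun u hu w hw => by rw [polar_comm]; exact oWU u hu w hw
  have inter : ∀ x ∈ U, x ∈ W → x = 0 := fun x hx hx' => by
    by_contra h0
    obtain ⟨z, hz, hne⟩ := (hU x hx h0).1
    exact hne (oUW z hz x hx')
  have htop : U ⊔ W = ⊤ := by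
    refine Submodule.eq_top_of_finrank_eq ?_
    have h1 := Submodule.finrank_sup_add_finrank_inf_eq U W
    rw [show U ⊓ W = ⊥ from (Submodule.eq_bot_iff _).mpr fun x hx => inter x hx.1 hx.2, finrank_bot] at h1
    rw [Module.finrank_fintype_fun_eq_card]
    omega
  have dec : ∀ x, ∃ a ∈ U, ∃ b ∈ W, x = a + b := fun x => by
    obtain ⟨a, ha, b, hb, e⟩ := Submodule.mem_sup.mp (htop ▸ Submodule.mem_top : x ∈ U ⊔ W)
    exact ⟨a, ha, b, hb, e.symm⟩
  -- pieces of a non-degenerate subspace orthogonal to some vectors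
  have cut : ∀ (X : Submodule F (ι → F)) (x : ι → F), ∃ Y : Submodule F (ι → F), Y ≤ X ∧
      (∀ y ∈ Y, polar Q y x = 0) ∧ finrank F X ≤ finrank F Y + 1 := by
    intro X x
    refine ⟨X ⊓ hf.perp (Submodule.span F {x}), inf_le_left,
      fun y hy => hy.2 x (Submodule.mem_span_singleton_self x), ?_⟩
    have h1 := Submodule.finrank_sup_add_finrank_inf_eq X (hf.perp (Submodule.span F {x}))
    have h2 := hf.finrank_perp (Submodule.span F {x})
    have h3 := Submodule.finrank_le (X ⊔ hf.perp (Submodule.span F {x}))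
    rw [Module.finrank_fintype_fun_eq_card] at h3
    have h4 : finrank F (Submodule.span F {x}) ≤ 1 := (finrank_span_le_card _).trans (by simp)
    omega
  have cutmem : ∀ {X Y : Submodule F (ι → F)} {x : ι → F}, Y ≤ X → (∀ y ∈ Y, polar Q y x = 0) →
      finrank F X ≤ finrank F Y + 1 → x ∈ X → polar Q x x ≠ 0 → ∀ y ∈ X, polar Q y x = 0 → y ∈ Y := by
    intro X Y x hYX hYx hYd hx hxx y hy hyx
    have e1 : Y ≤ X ⊓ hf.perp (Submodule.span F {x}) := fun u hu => ⟨hYX hu, fun w hw => by
      obtain ⟨r, rfl⟩ := Submodule.mem_span_singleton.mp hw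
      rw [polar_smul_right, hYx u hu, smul_zero]⟩
    have hlt : finrank F ↥(X ⊓ hf.perp (Submodule.span F {x})) < finrank F X := by
      refine Submodule.finrank_lt_finrank_of_lt (lt_of_le_of_ne inf_le_left fun h => hxx ?_)
      exact (h.symm ▸ hx : x ∈ X ⊓ hf.perp (Submodule.span F {x})).2 x (Submodule.mem_span_singleton_self x)
    rw [Submodule.eq_of_le_of_finrank_le e1 (by omega)]
    refine ⟨hy, fun w hw => ?_⟩
    obtain ⟨r, rfl⟩ := Submodule.mem_span_singleton.mp hw
    rw [polar_smul_right, hyx, smul_zero]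
  have proj : ∀ (x y : ι → F), polar Q x x ≠ 0 → polar Q (y - (polar Q y x / polar Q x x) • x) x = 0 := by
    intro x y h
    rw [polar_sub_left, polar_smul_left, smul_eq_mul, div_mul_cancel₀ _ h, sub_self]
  -- singular pair and an anisotropic vector beside it
  have frame : ∀ (X : Submodule F (ι → F)), IsNondegenerateOn (polar ⇑Q) X → 3 ≤ finrank F X →
      ∀ v ∈ X, Q v = 0 → v ≠ 0 → ∃ z ∈ X, Q z = 0 ∧ polar Q v z = 1 ∧
        ∃ y ∈ X, polar Q v y = 0 ∧ polar Q z y = 0 ∧ Q y ≠ 0 := by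
    intro X hX h3 v hv hvv hv0
    obtain ⟨z₀, hz₀, hz₀0, hne⟩ := sing_pair hX hv hvv hv0
    obtain ⟨z, hzd⟩ : ∃ z, z = (polar Q v z₀)⁻¹ • z₀ := ⟨_, rfl⟩
    have hvz : polar Q v z = 1 := by rw [hzd, polar_smul_right, smul_eq_mul, inv_mul_cancel₀ hne]
    have hzX : z ∈ X := hzd ▸ X.smul_mem _ hz₀
    have hzz : Q z = 0 := by rw [hzd, QuadraticMap.map_smul, hz₀0, smul_zero]
    obtain ⟨Y, hYX, hYv, hYd⟩ := cut X v
    obtain ⟨P, hPY, hPz, hPd⟩ := cut Y z
    refine ⟨z, hzX, hzz, hvz, ?_⟩
    by_contra hcon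
    push Not at hcon
    have hP0 : ∀ p ∈ P, Q p = 0 := fun p hp => hcon p (hYX (hPY hp)) (by rw [polar_comm]; exact hYv p (hPY hp))
      (by rw [polar_comm]; exact hPz p hp)
    obtain ⟨p, hp, hp0⟩ := Submodule.exists_mem_ne_zero_of_ne_bot (p := P) fun e => by
      rw [e, finrank_bot] at hPd; omega
    obtain ⟨x, hx, hpx⟩ := (hX p (hYX (hPY hp)) hp0).2
    have hpv : polar Q p v = 0 := hYv p (hPY hp)
    have hpz : polar Q p z = 0 := hPz p hp
    have hxP : x - polar Q x z • v - polar Q x v • z ∈ X :=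
      X.sub_mem (X.sub_mem hx (X.smul_mem _ hv)) (X.smul_mem _ hzX)
    have h1 : polar Q v (x - polar Q x z • v - polar Q x v • z) = 0 := by
      simp only [polar_sub_right, polar_smul_right, polar_self, hvv, hvz, smul_eq_mul, smul_zero, mul_zero, mul_one,
        polar_comm Q v x, sub_zero, sub_self]
    have h2' : polar Q z (x - polar Q x z • v - polar Q x v • z) = 0 := by
      simp only [polar_sub_right, polar_smul_right, polar_self, hzz, polar_comm Q z v, hvz, smul_eq_mul, smul_zero,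
        mul_zero, mul_one, polar_comm Q z x, sub_self, sub_zero]
    have h3' := hcon _ hxP h1 h2'
    have h4 := hcon (p + (x - polar Q x z • v - polar Q x v • z)) (X.add_mem (hYX (hPY hp)) hxP)
      (by rw [polar_add_right, polar_comm, hpv, h1, add_zero])
      (by rw [polar_add_right, polar_comm, hpz, h2', add_zero])
    rw [QuadraticMap.map_add ⇑Q, hP0 p hp, h3', zero_add, zero_add, polar_sub_right, polar_sub_right,
      polar_smul_right, polar_smul_right, hpv, hpz, smul_zero, smul_zero, sub_zero, sub_zero] at h4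
    exact hpx h4
  obtain ⟨e, heU, he0, hee⟩ := Cfsg.Agent.Small.QuadBasis.exists_singular Q (W := U) (by omega)
  obtain ⟨fU, hfU, hff, hef, xU, hxU, hex, hfx, hxx⟩ := frame U hU (by omega) e heU hee he0
  have hproper : ¬ omegaGL ⇑Q ≤ subspaceStabilizer U := fun hle => by
    rcases OEven.eq_bot_or_top_of_fixCodim hQ (by omega) (W := U)
      (fun g hg _ x hx => mem_subspaceStabilizer_iff.mp (hle hg) x hx) with h | h
    · rw [h, finrank_bot] at hU3; omega
    · rw [h, finrank_top, Module.finrank_fintype_fun_eq_card] at hU3; omega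
  refine ⟨lt_of_le_of_ne inf_le_right fun h => hproper (inf_eq_right.mp h),
    fun K hK hKG => or_iff_not_imp_left.mpr fun hne => le_antisymm hKG ?_⟩
  obtain ⟨g, hg, hgn⟩ : ∃ g ∈ K, g ∉ subspaceStabilizer U := by
    by_contra hcon
    push Not at hcon
    exact hne (le_antisymm (le_inf hcon hKG) hK)
  -- elements inside one part
  have fixU : ∀ v ∈ U, ∀ y ∈ U, ∀ h : GL ι F, EQ Q v y h → ∀ x ∈ W, (h : Matrix ι ι F) *ᵥ x = x := by
    intro v hv y hy h hx x hxW
    rw [hx, oUW v hv x hxW, oUW y hy x hxW]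
    simp
  have fixW : ∀ v ∈ W, ∀ y ∈ W, ∀ h : GL ι F, EQ Q v y h → ∀ x ∈ U, (h : Matrix ι ι F) *ᵥ x = x := by
    intro v hv y hy h hx x hxU'
    rw [hx, oWU x hxU' v hv, oWU x hxU' y hy]
    simp
  have hEU : ∀ v ∈ U, ∀ y ∈ U, Q v = 0 → polar Q v y = 0 → InR Q K v y := by
    intro v hv y hy hvv hvy
    obtain ⟨h, hh, hhx⟩ := ONotMax.exists_siegel hQ (by omega) hvv hvy
    exact ⟨h, hK ⟨mem_subspaceStabilizer_iff.mpr fun z hz => by
      rw [hhx]; exact U.sub_mem (U.add_mem hz (U.smul_mem _ hy)) (U.smul_mem _ hv), hh⟩, hhx⟩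
  have hEW : ∀ v ∈ W, ∀ y ∈ W, Q v = 0 → polar Q v y = 0 → InR Q K v y := by
    intro v hv y hy hvv hvy
    obtain ⟨h, hh, hhx⟩ := ONotMax.exists_siegel hQ (by omega) hvv hvy
    exact ⟨h, hK ⟨mem_subspaceStabilizer_iff.mpr fun z hz => by rw [fixW v hv y hy h hhx z hz]; exact hz, hh⟩, hhx⟩
  -- second differences
  have twice : ∀ {v y : ι → F}, Q v = 0 → polar Q v y = 0 → InR Q K v y → ∀ {c w : ι → F}, Q c = 0 →
      polar Q c w = 0 → InR Q K c w → (∀ h : GL ι F, EQ Q v y h ∨ EQ Q v (-y) h → (h : Matrix ι ι F) *ᵥ c = c) →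
      InR Q K c ((-(2 * Q y * polar Q v w)) • v) := by
    intro v y hvv hvy hy c w hcc hcw hw hfix
    obtain ⟨h, hh, hhx⟩ := hy
    obtain ⟨h', hh', hh'x⟩ := InR.neg hQ (by omega) hvv hvy ⟨h, hh, hhx⟩
    have h1 := InR.conj hKG hh hw
    have h2 := InR.conj hKG hh' hw
    rw [hfix h (Or.inl hhx)] at h1
    rw [hfix h' (Or.inr hh'x)] at h2
    have o1 : polar Q c ((h : Matrix ι ι F) *ᵥ w) = 0 := by
      conv_lhs => rw [← hfix h (Or.inl hhx)]
      rw [omega_polar (hKG hh), hcw]
    have o2 : polar Q c ((h' : Matrix ι ι F) *ᵥ w) = 0 := by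
      conv_lhs => rw [← hfix h' (Or.inr hh'x)]
      rw [omega_polar (hKG hh'), hcw]
    have o3 : polar Q c (-w) = 0 := by rw [polar_neg_right, hcw, neg_zero]
    have hn' := InR.neg hQ (by omega) hcc hcw hw
    have h3 := InR.add hcc (by rw [polar_add_right, polar_add_right, o1, o2, o3]; simp) o3
      (InR.add hcc (by rw [polar_add_right, o1, o2, add_zero]) o3 (InR.add hcc o1 o2 h1 h2) hn') hn'
    convert h3 using 1
    rw [hhx, hh'x, QuadraticMap.map_neg, polar_neg_left]
    module
  have hfixUW : ∀ {v y c : ι → F}, v ∈ U → y ∈ U → c ∈ W → ∀ h : GL ι F, EQ Q v y h ∨ EQ Q v (-y) h →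
      (h : Matrix ι ι F) *ᵥ c = c := fun hv hy hc h hh => by
    rcases hh with hh | hh
    · exact fixU _ hv _ hy h hh _ hc
    · exact fixU _ hv _ (U.neg_mem hy) h hh _ hc
  have hfixWU : ∀ {v y c : ι → F}, v ∈ W → y ∈ W → c ∈ U → ∀ h : GL ι F, EQ Q v y h ∨ EQ Q v (-y) h →
      (h : Matrix ι ι F) *ᵥ c = c := fun hv hy hc h hh => by
    rcases hh with hh | hh
    · exact fixW _ hv _ hy h hh _ hc
    · exact fixW _ hv _ (W.neg_mem hy) h hh _ hc
  -- values on the second part beside a singular vector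
  have rep : ∀ v ∈ W, Q v = 0 → v ≠ 0 → ∀ c : F, c ≠ 0 → ∃ y ∈ W, polar Q v y = 0 ∧ Q y = c := by
    intro v hv hvv hv0 c hc
    obtain ⟨z, hz, hzz, hvz, -⟩ := frame W hWnd (by omega) v hv hvv hv0
    obtain ⟨Y, hYW, hYv, hYd⟩ := cut W v
    obtain ⟨P, hPY, hPz, hPd⟩ := cut Y z
    have huc : Q (e + (-c) • fU) = -c := by
      rw [QuadraticMap.map_add ⇑Q, QuadraticMap.map_smul, hee, hff, smul_zero, polar_smul_right, hef]
      simp
    obtain ⟨u, hu, hQu⟩ : ∃ u ∈ U, Q u = -c := ⟨_, U.add_mem heU (U.smul_mem _ hfU), huc⟩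
    have hu0 : u ≠ 0 := fun e' => hc (by rw [e', QuadraticMap.map_zero, eq_comm, neg_eq_zero] at hQu; exact hQu)
    obtain ⟨s, hs, hs0, hss⟩ := Cfsg.Agent.Small.QuadBasis.exists_singular Q (W := P ⊔ Submodule.span F {u}) (by
      have h1 := Submodule.finrank_sup_add_finrank_inf_eq P (Submodule.span F {u})
      rw [show P ⊓ Submodule.span F {u} = ⊥ from (Submodule.eq_bot_iff _).mpr fun x hx =>
        inter x ((Submodule.span_singleton_le_iff_mem u U).mpr hu hx.2) (hYW (hPY hx.1)), finrank_bot,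
        finrank_span_singleton hu0] at h1
      omega)
    obtain ⟨y, hy, t', ht', rfl⟩ := Submodule.mem_sup.mp hs
    obtain ⟨t, rfl⟩ := Submodule.mem_span_singleton.mp ht'
    rw [QuadraticMap.map_add ⇑Q, QuadraticMap.map_smul, hQu, polar_smul_right, oWU u hu y (hYW (hPY hy)), smul_zero,
      add_zero, smul_eq_mul] at hss
    have hyv : polar Q v y = 0 := by rw [polar_comm]; exact hYv y (hPY hy)
    by_cases ht : t = 0
    · -- a singular vector beside the pair
      rw [ht, zero_smul, add_zero] at hs0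
      have hyy : Q y = 0 := by rw [ht] at hss; linear_combination hss
      obtain ⟨x, hx, hyx⟩ := (hWnd y (hYW (hPY hy)) hs0).2
      obtain ⟨x', hx'⟩ : ∃ x', x' = x - polar Q x z • v - polar Q x v • z := ⟨_, rfl⟩
      have hx'v : polar Q v x' = 0 := by
        simp only [hx', polar_sub_right, polar_smul_right, polar_self, hvv, hvz, smul_eq_mul, smul_zero, mul_zero,
          mul_one, polar_comm Q v x, sub_zero, sub_self]
      have hyx' : polar Q y x' ≠ 0 := by
        rw [hx', polar_sub_right, polar_sub_right, polar_smul_right, polar_smul_right, hYv y (hPY hy), hPz y hy,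
          smul_zero, smul_zero, sub_zero, sub_zero]
        exact hyx
      refine ⟨x' + ((c - Q x') / polar Q y x') • y, W.add_mem
        (hx' ▸ W.sub_mem (W.sub_mem hx (W.smul_mem _ hv)) (W.smul_mem _ hz)) (W.smul_mem _ (hYW (hPY hy))), ?_, ?_⟩
      · rw [polar_add_right, polar_smul_right, hx'v, hyv, smul_zero, add_zero]
      · rw [QuadraticMap.map_add ⇑Q, QuadraticMap.map_smul, hyy, polar_smul_right, polar_comm Q x' y]
        simp only [smul_eq_mul, mul_zero]
        field_simp
        ring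
    · refine ⟨t⁻¹ • y, W.smul_mem _ (hYW (hPY hy)), by rw [polar_smul_right, hyv, smul_zero], ?_⟩
      rw [QuadraticMap.map_smul, smul_eq_mul]
      field_simp
      linear_combination hss
  -- a centre in the first part
  have full : ∀ v ∈ U, Q v = 0 → v ≠ 0 → ∀ w ∈ W, w ≠ 0 → InR Q K v w →
      (∀ y ∈ W, InR Q K v y) ∧ Has (fun x => Q x = 0) (UQ Q) K v := by
    intro v hv hvv hv0 w₁ hw₁ hw₁0 hin
    have hvW : ∀ {y : ι → F}, y ∈ W → polar Q v y = 0 := fun hy => oUW v hv _ hy
    have line : ∀ w ∈ W, InR Q K v w → ∀ z ∈ W, Q z = 0 → polar Q z w ≠ 0 → ∀ c : F, InR Q K v (c • z) := by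
      intro w hw hin z hz hzz hzw c
      by_cases hc : c = 0
      · rw [hc, zero_smul]; exact inR_zero v
      have hz0 : z ≠ 0 := fun e' => hzw (by rw [e', polar_zero_left])
      obtain ⟨y, hy, hzy, hQy⟩ := rep z hz hzz hz0 (-(c / (2 * polar Q z w)))
        (neg_ne_zero.mpr (div_ne_zero hc (mul_ne_zero h2 hzw)))
      have h := twice hzz hzy (hEW z hz y hy hzz hzy) hvv (hvW hw) hin (hfixWU hz hy hv)
      convert h using 2
      rw [hQy]
      field_simp
    obtain ⟨w₀, hw₀, hw₀0, hw₀w₀⟩ := Cfsg.Agent.Small.QuadBasis.exists_singular Q (W := W) (by omega)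
    have hspan := sing_span hWnd hw₀ hw₀w₀ hw₀0
    obtain ⟨z₀, hz₀, hz₀z, hz₀w⟩ : ∃ z ∈ W, Q z = 0 ∧ polar Q z w₁ ≠ 0 := by
      by_contra hcon
      push Not at hcon
      obtain ⟨x, hx, hne⟩ := (hWnd w₁ hw₁ hw₁0).2
      exact hne ((Submodule.span_le (p := LinearMap.ker (Q.polarBilin w₁))).mpr
        (fun z hz => by simpa [polar_comm Q w₁ z] using hcon z hz.1 hz.2) (hspan hx))
    have hin₀ := line w₁ hw₁ hin z₀ hz₀ hz₀z hz₀w
    have hz₀0 : z₀ ≠ 0 := fun e' => hz₀w (by rw [e', polar_zero_left])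
    have near : ∀ z ∈ W, Q z = 0 → polar Q z z₀ ≠ 0 → ∀ c : F, InR Q K v (c • z) := fun z hz hzz hne =>
      line z₀ hz₀ (by simpa using hin₀ 1) z hz hzz hne
    have every : ∀ z ∈ W, Q z = 0 → ∀ c : F, InR Q K v (c • z) := by
      intro z hz hzz c
      by_cases hne : polar Q z z₀ = 0
      swap
      · exact near z hz hzz hne c
      by_cases hz0 : z = 0
      · rw [hz0, smul_zero]; exact inR_zero v
      obtain ⟨s, hs, hss, hs₀, -⟩ := frame W hWnd (by omega) z₀ hz₀ hz₀z hz₀0
      obtain ⟨s', hs', hs's', hzs', -⟩ := frame W hWnd (by omega) z hz hzz hz0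
      by_cases hzs : polar Q z s = 0
      swap
      · exact line s hs (by simpa using near s hs hss (by rw [polar_comm, hs₀]; exact one_ne_zero) 1) z hz hzz hzs c
      by_cases hs'₀ : polar Q s' z₀ = 0
      swap
      · exact line s' hs' (by simpa using near s' hs' hs's' hs'₀ 1) z hz hzz (by rw [hzs']; exact one_ne_zero) c
      obtain ⟨x, hxd⟩ : ∃ x, x = s + s' + (-(polar Q s s')) • z₀ := ⟨_, rfl⟩
      have hx : x ∈ W := hxd ▸ W.add_mem (W.add_mem hs hs') (W.smul_mem _ hz₀)
      have hxx : Q x = 0 := by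
        rw [hxd, QuadraticMap.map_add ⇑Q, QuadraticMap.map_add ⇑Q s s', QuadraticMap.map_smul, hss, hs's', hz₀z,
          polar_smul_right, polar_add_left, polar_comm Q s z₀, hs₀, hs'₀]
        simp
      have hxz₀ : polar Q x z₀ ≠ 0 := by
        rw [hxd, polar_add_left, polar_add_left, polar_smul_left, polar_self, hz₀z, polar_comm Q s z₀, hs₀, hs'₀]
        simp
      have hzx : polar Q z x ≠ 0 := by
        rw [hxd, polar_add_right, polar_add_right, polar_smul_right, hzs, hzs', hne]
        simp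
      exact line x hx (by simpa using near x hx hxx hxz₀ 1) z hz hzz hzx c
    let A : Submodule F (ι → F) :=
      { carrier := {y | y ∈ W ∧ ∀ c : F, InR Q K v (c • y)}
        add_mem' := fun {x y} ⟨hx, hx'⟩ ⟨hy, hy'⟩ => ⟨W.add_mem hx hy, fun c => by
          rw [smul_add]
          exact InR.add hvv (hvW (W.smul_mem c hx)) (hvW (W.smul_mem c hy)) (hx' c) (hy' c)⟩
        zero_mem' := ⟨W.zero_mem, fun c => by rw [smul_zero]; exact inR_zero v⟩
        smul_mem' := fun l x ⟨hx, hx'⟩ => ⟨W.smul_mem l hx, fun c => by rw [smul_smul]; exact hx' _⟩ }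
    have hA : W ≤ A := hspan.trans (Submodule.span_le.mpr fun z hz => ⟨hz.1, every z hz.1 hz.2⟩)
    have hall : ∀ y ∈ W, InR Q K v y := fun y hy => by simpa using (hA hy).2 1
    refine ⟨hall, hvv, ?_⟩
    rintro h ⟨y, hvy, hh⟩
    obtain ⟨a, ha, b, hb, rfl⟩ := dec y
    have hva : polar Q v a = 0 := by rwa [polar_add_right, hvW hb, add_zero] at hvy
    exact InR.mem (InR.add hvv hva (hvW hb) (hEU v hv a ha hvv hva) (hall b hb)) hh
  -- from a centre in the second part
  have cross' : ∀ z ∈ W, Q z = 0 → z ≠ 0 → ∀ a ∈ U, InR Q K z a → ∀ v ∈ U, Q v = 0 → polar Q v a ≠ 0 →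
      ∃ w ∈ W, w ≠ 0 ∧ InR Q K v w := by
    intro z hz hzz hz0 a ha hin v hv hvv hva
    have hv0 : v ≠ 0 := fun e' => hva (by rw [e', polar_zero_left])
    obtain ⟨-, -, -, -, y, hy, hvy, -, hyy⟩ := frame U hU (by omega) v hv hvv hv0
    have h1 := twice hvv hvy (hEU v hv y hy hvv hvy) hzz (oWU a ha z hz) hin (hfixUW hv hy hz)
    obtain ⟨c, hc⟩ : ∃ c, c = -(2 * Q y * polar Q v a) := ⟨_, rfl⟩
    have hc0 : c ≠ 0 := hc ▸ neg_ne_zero.mpr (mul_ne_zero (mul_ne_zero h2 hyy) hva)
    rw [← hc] at h1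
    exact ⟨c • -z, W.smul_mem _ (W.neg_mem hz), smul_ne_zero hc0 (neg_ne_zero.mpr hz0),
      InR.scale (InR.swap hzz (by rw [QuadraticMap.map_smul, hvv, smul_zero]) h1)⟩
  -- from an element keeping a singular point in the first part
  have stay : ∀ k ∈ K, k ∉ subspaceStabilizer U → (k : Matrix ι ι F) *ᵥ e ∈ U →
      ∃ v ∈ U, Q v = 0 ∧ v ≠ 0 ∧ ∃ w ∈ W, w ≠ 0 ∧ InR Q K v w := by
    intro k hk hkn hkU
    obtain ⟨a, had⟩ : ∃ a, a = (k : Matrix ι ι F) *ᵥ e := ⟨_, rfl⟩
    rw [← had] at hkU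
    have ha0 : a ≠ 0 := fun h => he0 (gl_mulVec_injective k (by dsimp only; rw [← had, h, Matrix.mulVec_zero]))
    have haa : Q a = 0 := by rw [had, ONotMax.omega_isometry (hKG hk), hee]
    refine ⟨a, hkU, haa, ha0, ?_⟩
    obtain ⟨u, hu, w, hw, huw⟩ := dec ((k : Matrix ι ι F) *ᵥ xU)
    have hau : polar Q a u = 0 := by
      have := omega_polar (hKG hk) e xU
      rwa [← had, huw, polar_add_right, oUW a hkU w hw, add_zero, hex] at this
    have hin : InR Q K a (u + w) := by
      rw [had, ← huw]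
      exact InR.conj hKG hk (hEU e heU xU hxU hee hex)
    by_cases hw0 : w = 0
    swap
    · refine ⟨w, hw, hw0, ?_⟩
      have := InR.add haa (by rw [polar_add_right, hau, oUW a hkU w hw, add_zero])
        (by rw [polar_neg_right, hau, neg_zero]) hin (InR.neg hQ (by omega) haa hau (hEU a hkU u hu haa hau))
      rwa [show u + w + -u = w by abel] at this
    obtain ⟨u', hu', w', hw', huw'⟩ := dec ((k : Matrix ι ι F) *ᵥ fU)
    have hau' : polar Q a u' = 1 := by
      have := omega_polar (hKG hk) e fU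
      rwa [← had, huw', polar_add_right, oUW a hkU w' hw', add_zero, hef] at this
    have hkx : (k : Matrix ι ι F) *ᵥ xU = u := by rw [huw, hw0, add_zero]
    have hspanU : U ≤ Submodule.span F {e, xU, fU} := fun x hx => by
      have hli : LinearIndependent F ![e, xU, fU] := by
        rw [Fintype.linearIndependent_iff]
        intro c hc
        simp only [Fin.sum_univ_three, Matrix.cons_val_zero, Matrix.cons_val_one, Matrix.cons_val] at hc
        have e0 := congrArg (fun y => polar Q fU y) hc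
        have e1 := congrArg (fun y => polar Q xU y) hc
        have e2 := congrArg (fun y => polar Q e y) hc
        simp only [polar_add_right, polar_smul_right, polar_zero_right, polar_self, hee, hff, hex, hfx, hef,
          polar_comm Q fU e, polar_comm Q xU e, polar_comm Q xU fU, smul_eq_mul, smul_zero, mul_zero, mul_one,
          add_zero, zero_add] at e0 e1 e2
        have hne : (2 : ℕ) • Q xU ≠ 0 := by
          rw [nsmul_eq_mul, Nat.cast_ofNat]; exact mul_ne_zero h2 hxx
        intro i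
        fin_cases i
        exacts [e0, (mul_eq_zero.mp e1).resolve_right hne, e2]
      have h1 : Submodule.span F {e, xU, fU} ≤ U :=
        Submodule.span_le.mpr (by rintro y (rfl | rfl | rfl); exacts [heU, hxU, hfU])
      have h3 : Set.range ![e, xU, fU] = {e, xU, fU} := by
        ext y; simp [Fin.exists_fin_succ, eq_comm]; tauto
      have h4 := finrank_span_eq_card hli
      rw [h3, Fintype.card_fin] at h4
      rw [Submodule.eq_of_le_of_finrank_le h1 (by omega)]
      exact hx
    have hw'0 : w' ≠ 0 := fun h => hkn (mem_subspaceStabilizer_iff.mpr fun x hx => by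
      have : Submodule.span F {e, xU, fU} ≤ U.comap (Matrix.mulVecLin (k : Matrix ι ι F)) :=
        Submodule.span_le.mpr (by
          rintro y (rfl | rfl | rfl)
          · show _ ∈ U
            rw [Matrix.mulVecLin_apply, ← had]; exact hkU
          · show _ ∈ U
            rw [Matrix.mulVecLin_apply, hkx]; exact hu
          · show _ ∈ U
            rw [Matrix.mulVecLin_apply, huw', h, add_zero]; exact hu')
      exact this (hspanU hx))
    refine ⟨w', hw', hw'0, ?_⟩
    obtain ⟨G, hG, hGx⟩ := ONotMax.exists_siegel hQ (by omega) haa (oUW a hkU w' hw')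
    refine ⟨G, ?_, hGx⟩
    obtain ⟨u₀, hu₀⟩ : ∃ u₀, u₀ = u' + Q w' • a := ⟨_, rfl⟩
    have hGu : (G : Matrix ι ι F) *ᵥ u = u := by
      rw [hGx, hau, oWU u hu w' hw']
      simp
    have hGa : (G : Matrix ι ι F) *ᵥ a = a := by
      rw [hGx, polar_self, haa, oWU a hkU w' hw']
      simp
    have hGu₀ : (G : Matrix ι ι F) *ᵥ u₀ = u' + w' := by
      rw [hu₀, Matrix.mulVec_add, Matrix.mulVec_smul, hGa, hGx, hau', oWU u' hu' w' hw']
      module
    have hstab : G⁻¹ * k ∈ subspaceStabilizer U := mem_subspaceStabilizer_iff.mpr fun x hx => by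
      have : Submodule.span F {e, xU, fU} ≤ U.comap (Matrix.mulVecLin ((G⁻¹ * k : GL ι F) : Matrix ι ι F)) :=
        Submodule.span_le.mpr (by
          rintro y (rfl | rfl | rfl)
          · show _ ∈ U
            rw [Matrix.mulVecLin_apply, gl_mul_mulVec, ← had]
            conv => arg 2; rw [← hGa]
            rw [gl_inv_mulVec_cancel]; exact hkU
          · show _ ∈ U
            rw [Matrix.mulVecLin_apply, gl_mul_mulVec, hkx]
            conv => arg 2; rw [← hGu]
            rw [gl_inv_mulVec_cancel]; exact hu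
          · show _ ∈ U
            rw [Matrix.mulVecLin_apply, gl_mul_mulVec, huw', ← hGu₀, gl_inv_mulVec_cancel, hu₀]
            exact U.add_mem hu' (U.smul_mem _ hkU))
      exact this (hspanU hx)
    have hGk : G⁻¹ * k ∈ K := hK (Subgroup.mem_inf.mpr ⟨hstab, mul_mem (inv_mem hG) (hKG hk)⟩)
    have := mul_mem hk (inv_mem hGk)
    rwa [_root_.mul_inv_rev, inv_inv, mul_inv_cancel_left] at this
  -- the seed
  obtain ⟨v₁, hv₁, hv₁v, hv₁0, w₁, hw₁, hw₁0, hseed⟩ :
      ∃ v ∈ U, Q v = 0 ∧ v ≠ 0 ∧ ∃ w ∈ W, w ≠ 0 ∧ InR Q K v w := by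
    obtain ⟨a, ha, b, hb, hab⟩ := dec ((g : Matrix ι ι F) *ᵥ e)
    by_cases hb0 : b = 0
    · exact stay g hg hgn (by rw [hab, hb0, add_zero]; exact ha)
    by_cases hmove : ∃ h ∈ subspaceStabilizer U ⊓ omegaGL ⇑Q,
        (h : Matrix ι ι F) *ᵥ (a + b) = a + b ∧ g⁻¹ * h * g ∉ subspaceStabilizer U
    · obtain ⟨h, hh, hhv, hhn⟩ := hmove
      refine stay _ (mul_mem (mul_mem (inv_mem hg) (hK hh)) hg) hhn ?_
      rw [gl_mul_mulVec, gl_mul_mulVec, hab, hhv, ← hab, gl_inv_mulVec_cancel]
      exact heU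
    push Not at hmove
    obtain ⟨φ, hφ⟩ : ∃ φ : (ι → F) →ₗ[F] (ι → F), φ = Matrix.mulVecLin (g : Matrix ι ι F) := ⟨_, rfl⟩
    have hφx : ∀ x, φ x = (g : Matrix ι ι F) *ᵥ x := fun x => by rw [hφ]; rfl
    obtain ⟨M, hM⟩ : ∃ M, M = U.map φ := ⟨_, rfl⟩
    have hM3 : finrank F M = 3 := by
      rw [hM, ← (Submodule.equivMapOfInjective φ (by rw [hφ]; exact gl_mulVec_injective g) U).finrank_eq, hU3]
    have hinv : ∀ h ∈ subspaceStabilizer U ⊓ omegaGL ⇑Q, (h : Matrix ι ι F) *ᵥ (a + b) = a + b →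
        ∀ m ∈ M, (h : Matrix ι ι F) *ᵥ m ∈ M := by
      intro h hh hhv m hm
      rw [hM] at hm ⊢
      obtain ⟨u, hu, rfl⟩ := Submodule.mem_map.mp hm
      refine Submodule.mem_map.mpr ⟨_, mem_subspaceStabilizer_iff.mp (hmove h hh hhv) u hu, ?_⟩
      rw [hφx, hφx, gl_mul_mulVec, gl_mul_mulVec, gl_mulVec_inv_cancel]
    have hvM : a + b ∈ M := hM ▸ Submodule.mem_map.mpr ⟨e, heU, by rw [hφx, hab]⟩
    have hvv : Q (a + b) = 0 := by rw [← hab, ONotMax.omega_isometry (hKG hg), hee]
    obtain ⟨z, hzM, hvz⟩ : ∃ z ∈ M, polar Q (a + b) z ≠ 0 := by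
      refine ⟨φ fU, hM ▸ Submodule.mem_map_of_mem hfU, ?_⟩
      rw [hφx, ← hab, omega_polar (hKG hg), hef]
      exact one_ne_zero
    have big : ∀ X : Submodule F (ι → F), X ≤ M → (∀ x ∈ X, polar Q (a + b) x = 0) → 3 ≤ finrank F X → False :=
      fun X hX ho hd' => hvz (ho z ((Submodule.eq_of_le_of_finrank_le hX (by omega)).symm ▸ hzM))
    have hQab : Q a + Q b = 0 := by
      rwa [QuadraticMap.map_add ⇑Q, oUW a ha b hb, add_zero] at hvv
    obtain ⟨zu, hzu, zw, hzw, hzd⟩ := dec z
    -- differences along elements of the stabiliser fixing the vector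
    have hW_EQ : ∀ v ∈ W, ∀ y ∈ W, Q v = 0 → polar Q v y = 0 → polar Q v b = 0 → polar Q y b = 0 →
        ∀ m ∈ M, polar Q v m • y - (polar Q y m + Q y * polar Q v m) • v ∈ M := by
      intro v hv y hy hvv hvy hvb hyb m hm
      obtain ⟨h, hh, hhx⟩ := ONotMax.exists_siegel hQ (by omega) hvv hvy
      have h1 := M.sub_mem (hinv h ⟨mem_subspaceStabilizer_iff.mpr fun x hx => by
        rw [fixW v hv y hy h hhx x hx]; exact hx, hh⟩ (by
          rw [hhx, polar_add_right, polar_add_right, oWU a ha v hv, oWU a ha y hy, hvb, hyb]; simp) m hm) hm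
      rwa [hhx, add_sub_assoc, add_sub_cancel_left] at h1
    have hU_EQ : ∀ v ∈ U, ∀ y ∈ U, Q v = 0 → polar Q v y = 0 → polar Q v a = 0 → polar Q y a = 0 →
        ∀ m ∈ M, polar Q v m • y - (polar Q y m + Q y * polar Q v m) • v ∈ M := by
      intro v hv y hy hvv hvy hvb hyb m hm
      obtain ⟨h, hh, hhx⟩ := ONotMax.exists_siegel hQ (by omega) hvv hvy
      have h1 := M.sub_mem (hinv h ⟨mem_subspaceStabilizer_iff.mpr fun x hx => by
        rw [hhx]; exact U.sub_mem (U.add_mem hx (U.smul_mem _ hy)) (U.smul_mem _ hv), hh⟩ (by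
          rw [hhx, polar_add_right, polar_add_right, oUW v hv b hb, oUW y hy b hb, hvb, hyb]; simp) m hm) hm
      rwa [hhx, add_sub_assoc, add_sub_cancel_left] at h1
    have centre : ∀ {v y m : ι → F}, Q y ≠ 0 → polar Q v m ≠ 0 →
        polar Q v m • y - (polar Q y m + Q y * polar Q v m) • v ∈ M →
        polar Q v m • (-y) - (polar Q (-y) m + Q (-y) * polar Q v m) • v ∈ M → v ∈ M := by
      intro v y m hy hne h1 h1'
      have h3 := M.add_mem h1 h1'
      have e3 : polar Q v m • y - (polar Q y m + Q y * polar Q v m) • v +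
          (polar Q v m • (-y) - (polar Q (-y) m + Q (-y) * polar Q v m) • v) = (-(2 * Q y * polar Q v m)) • v := by
        rw [QuadraticMap.map_neg, polar_neg_left]
        module
      rw [e3] at h3
      exact (M.smul_mem_iff (neg_ne_zero.mpr (mul_ne_zero (mul_ne_zero h2 hy) hne))).mp h3
    have param : ∀ {v y m : ι → F}, v ∈ M → polar Q v m ≠ 0 →
        polar Q v m • y - (polar Q y m + Q y * polar Q v m) • v ∈ M → y ∈ M := by
      intro v y m hv hne h1
      have h3 := M.add_mem h1 (M.smul_mem (polar Q y m + Q y * polar Q v m) hv)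
      rw [sub_add_cancel] at h3
      exact (M.smul_mem_iff hne).mp h3
    by_cases haa : Q a = 0
    · exfalso
      have hbb : Q b = 0 := by rwa [haa, zero_add] at hQab
      have hbb' : polar Q b b = 0 := by rw [polar_self, hbb, smul_zero]
      by_cases hbz : polar Q b z = 0
      · have haz : polar Q a z ≠ 0 := fun h => hvz (by rw [polar_add_left, h, hbz, add_zero])
        have ha0 : a ≠ 0 := fun h => haz (by rw [h, polar_zero_left])
        have haa' : polar Q a a = 0 := by rw [polar_self, haa, smul_zero]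
        obtain ⟨-, -, -, -, y, hy, hay, -, hyy⟩ := frame U hU (by omega) a ha haa ha0
        have step : ∀ x ∈ U, polar Q a x = 0 → polar Q a z • x - (polar Q x z + Q x * polar Q a z) • a ∈ M :=
          fun x hx hax => hU_EQ a ha x hx haa hax haa' (by rw [polar_comm]; exact hax) z hzM
        have haM : a ∈ M := centre hyy haz (step y hy hay)
          (step (-y) (U.neg_mem hy) (by rw [polar_neg_right, hay, neg_zero]))
        have hbM : b ∈ M := by simpa using M.sub_mem hvM haM
        obtain ⟨X, hXU, hXa, hXd⟩ := cut U a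
        refine big (X ⊔ Submodule.span F {b}) (sup_le (fun x hx => param haM haz (step x (hXU hx)
          (by rw [polar_comm]; exact hXa x hx))) ((Submodule.span_singleton_le_iff_mem b M).mpr hbM)) ?_ ?_
        · intro x hx
          obtain ⟨x₁, hx₁, x₂, hx₂, rfl⟩ := Submodule.mem_sup.mp hx
          obtain ⟨r, rfl⟩ := Submodule.mem_span_singleton.mp hx₂
          rw [polar_add_right, polar_smul_right, polar_add_left, polar_add_left, oWU x₁ (hXU hx₁) b hb,
            oUW a ha b hb, hbb', polar_comm Q a x₁, hXa x₁ hx₁]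
          simp
        · have h1 := Submodule.finrank_sup_add_finrank_inf_eq X (Submodule.span F {b})
          rw [show X ⊓ Submodule.span F {b} = ⊥ from (Submodule.eq_bot_iff _).mpr fun x hx =>
            inter x (hXU hx.1) ((Submodule.span_singleton_le_iff_mem b W).mpr hb hx.2), finrank_bot,
            finrank_span_singleton hb0] at h1
          omega
      · obtain ⟨y, hy, hby, hyy⟩ := rep b hb hbb hb0 1 one_ne_zero
        have step : ∀ x ∈ W, polar Q b x = 0 → polar Q b z • x - (polar Q x z + Q x * polar Q b z) • b ∈ M :=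
          fun x hx hbx => hW_EQ b hb x hx hbb hbx hbb' (by rw [polar_comm]; exact hbx) z hzM
        have hbM : b ∈ M := centre (by rw [hyy]; exact one_ne_zero) hbz (step y hy hby)
          (step (-y) (W.neg_mem hy) (by rw [polar_neg_right, hby, neg_zero]))
        obtain ⟨X, hXW, hXb, hXd⟩ := cut W b
        refine big X (fun x hx => param hbM hbz (step x (hXW hx) (by rw [polar_comm]; exact hXb x hx))) ?_ (by omega)
        intro x hx
        rw [polar_add_left, oUW a ha x (hXW hx), zero_add, polar_comm]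
        exact hXb x hx
    have hbb : Q b ≠ 0 := fun h => haa (by rwa [h, add_zero] at hQab)
    obtain ⟨B, hBW, hBb, hBd⟩ := cut W b
    have hab2 : polar Q b b ≠ 0 := by
      rw [polar_self, nsmul_eq_mul, Nat.cast_ofNat]; exact mul_ne_zero h2 hbb
    have haa2 : polar Q a a ≠ 0 := by
      rw [polar_self, nsmul_eq_mul, Nat.cast_ofNat]; exact mul_ne_zero h2 haa
    have hBnd : IsNondegenerateOn (polar ⇑Q) B := fun x hx hx0 => by
      obtain ⟨y, hy, hne'⟩ := (hWnd x (hBW hx) hx0).2
      have hy'B := cutmem hBW hBb hBd hb hab2 _ (W.sub_mem hy (W.smul_mem (polar Q y b / polar Q b b) hb))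
        (proj b y hab2)
      have hxy' : polar Q x (y - (polar Q y b / polar Q b b) • b) ≠ 0 := by
        rw [polar_sub_right, polar_smul_right, hBb x hx, smul_zero, sub_zero]
        exact hne'
      exact ⟨⟨_, hy'B, by rw [polar_comm]; exact hxy'⟩, ⟨_, hy'B, hxy'⟩⟩
    obtain ⟨β, hβ, hβ0, hββ⟩ := Cfsg.Agent.Small.QuadBasis.exists_singular Q (W := B) (by omega)
    obtain ⟨β', hβ', hβ'β', hββ', -⟩ := frame B hBnd (by omega) β hβ hββ hβ0
    -- the second components lie on one line
    have hBM : ∀ m ∈ M, ∀ x ∈ B, polar Q x m = 0 := by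
      intro m hm
      suffices hs : ∀ s ∈ B, Q s = 0 → polar Q s m = 0 by
        intro x hx
        have := (Submodule.span_le (p := LinearMap.ker (Q.polarBilin m))).mpr
          (fun s hs' => by simpa [polar_comm Q m s] using hs s hs'.1 hs'.2) (sing_span hBnd hβ hββ hβ0 hx)
        simpa [polar_comm Q x m] using this
      intro s hs hss
      by_contra hne'
      have hs0 : s ≠ 0 := fun h => hne' (by rw [h, polar_zero_left])
      obtain ⟨-, -, -, -, y, hy, hsy, -, hyy⟩ := frame B hBnd (by omega) s hs hss hs0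
      have step : ∀ x ∈ B, polar Q s x = 0 → polar Q s m • x - (polar Q x m + Q x * polar Q s m) • s ∈ M :=
        fun x hx hsx => hW_EQ s (hBW hs) x (hBW hx) hss hsx (hBb s hs) (hBb x hx) m hm
      have hsM : s ∈ M := centre hyy hne' (step y hy hsy)
        (step (-y) (B.neg_mem hy) (by rw [polar_neg_right, hsy, neg_zero]))
      have hyM : y ∈ M := param hsM hne' (step y hy hsy)
      refine big (Submodule.span F (Set.range ![a + b, s, y])) (Submodule.span_le.mpr ?_) ?_ ?_
      · rintro _ ⟨i, rfl⟩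
        fin_cases i
        exacts [hvM, hsM, hyM]
      · intro x hx
        refine (Submodule.span_le (p := LinearMap.ker (Q.polarBilin (a + b)))).mpr ?_ hx
        rintro _ ⟨i, rfl⟩
        fin_cases i
        · change Q.polarBilin (a + b) (a + b) = 0
          simp only [polarBilin_apply_apply, polar_self, hvv, smul_zero]
        · simp [polar_add_left, oUW a ha s (hBW hs), polar_comm Q b s, hBb s hs]
        · simp [polar_add_left, oUW a ha y (hBW hy), polar_comm Q b y, hBb y hy]
      · rw [finrank_span_eq_card, Fintype.card_fin]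
        rw [Fintype.linearIndependent_iff]
        intro c hc
        simp only [Fin.sum_univ_three, Matrix.cons_val_zero, Matrix.cons_val_one, Matrix.cons_val] at hc
        have hc0 : c 0 = 0 := by
          have h := congrArg (fun x => polar Q a x) hc
          simp only [polar_add_right, polar_smul_right, polar_zero_right, oUW a ha b hb, oUW a ha s (hBW hs),
            oUW a ha y (hBW hy), smul_zero, add_zero, mul_zero, smul_eq_mul] at h
          exact (mul_eq_zero.mp h).resolve_right haa2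
        rw [hc0, zero_smul, zero_add] at hc
        have hc2 : c 2 = 0 := by
          have h := congrArg (fun x => polar Q y x) hc
          simp only [polar_add_right, polar_smul_right, polar_zero_right, polar_comm Q y s, hsy, smul_zero, mul_zero, zero_add,
            smul_eq_mul, polar_self, nsmul_eq_mul, Nat.cast_ofNat] at h
          exact (mul_eq_zero.mp h).resolve_right (mul_ne_zero h2 hyy)
        rw [hc2, zero_smul, add_zero] at hc
        intro i
        fin_cases i
        exacts [hc0, (smul_eq_zero.mp hc).resolve_right hs0, hc2]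
    -- the first components
    obtain ⟨A, hAU, hAa, hAd⟩ := cut U a
    have hAfull : ∀ x ∈ U, (∀ y ∈ A, polar Q y x = 0) → ∃ r : F, x = r • a := by
      intro x hx ho
      refine ⟨polar Q x a / polar Q a a, sub_eq_zero.mp (by_contra fun h0 => ?_)⟩
      obtain ⟨y, hy, hne'⟩ := (hU _ (U.sub_mem hx (U.smul_mem _ ha)) h0).1
      have hyA := cutmem hAU hAa hAd ha haa2 _ (U.sub_mem hy (U.smul_mem (polar Q y a / polar Q a a) ha))
        (proj a y haa2)
      have h5 := ho _ hyA
      refine hne' ?_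
      have e1 : polar Q y (x - (polar Q x a / polar Q a a) • a) =
          polar Q (y - (polar Q y a / polar Q a a) • a) x := by
        simp only [polar_sub_left, polar_sub_right, polar_smul_left, polar_smul_right, smul_eq_mul, polar_comm Q a x]
        ring
      rw [e1, h5]
    -- two orthogonal anisotropic vectors
    obtain ⟨α₁, hα₁, hα₁0⟩ : ∃ α ∈ A, Q α ≠ 0 := by
      by_contra hcon
      push Not at hcon
      obtain ⟨α, hα, hα0⟩ := Submodule.exists_mem_ne_zero_of_ne_bot (p := A) fun h => by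
        rw [h, finrank_bot] at hAd; omega
      obtain ⟨r, hr⟩ := hAfull α (hAU hα) fun y hy => by
        have := hcon (y + α) (A.add_mem hy hα)
        rwa [QuadraticMap.map_add ⇑Q, hcon y hy, hcon α hα, zero_add, zero_add] at this
      have hr0 : r ≠ 0 := fun h => hα0 (by rw [hr, h, zero_smul])
      have h := hcon α hα
      rw [hr, QuadraticMap.map_smul, smul_eq_mul, mul_eq_zero] at h
      exact haa (h.resolve_left (mul_ne_zero hr0 hr0))
    obtain ⟨A₂, hA₂A, hA₂α, hA₂d⟩ := cut A α₁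
    have hα₁2 : polar Q α₁ α₁ ≠ 0 := by
      rw [polar_self, nsmul_eq_mul, Nat.cast_ofNat]; exact mul_ne_zero h2 hα₁0
    have hA2 : finrank F A ≤ 2 := by
      have h1 : finrank F A < finrank F U := Submodule.finrank_lt_finrank_of_lt (lt_of_le_of_ne hAU fun h =>
        haa2 (hAa a (h.symm ▸ ha)))
      omega
    obtain ⟨α₂, hα₂, hα₂0⟩ : ∃ α ∈ A₂, α ≠ 0 := Submodule.exists_mem_ne_zero_of_ne_bot (p := A₂) fun h => by
      rw [h, finrank_bot] at hA₂d; omega
    have hAspan : ∀ x ∈ A, polar Q α₁ x = 0 → ∃ r : F, x = r • α₂ := by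
      intro x hx ho
      have hle : Submodule.span F {α₂} ≤ A₂ := (Submodule.span_singleton_le_iff_mem _ _).mpr hα₂
      have hlt : finrank F A₂ < finrank F A := Submodule.finrank_lt_finrank_of_lt (lt_of_le_of_ne hA₂A fun h =>
        hα₁2 (hA₂α α₁ (h.symm ▸ hα₁)))
      have hxm : x ∈ A₂ := cutmem hA₂A hA₂α hA₂d hα₁ hα₁2 x hx (by rw [polar_comm]; exact ho)
      rw [← Submodule.eq_of_le_of_finrank_le hle (by rw [finrank_span_singleton hα₂0]; omega),
        Submodule.mem_span_singleton] at hxm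
      obtain ⟨r, hr⟩ := hxm
      exact ⟨r, hr.symm⟩
    have hα₁α₂ : polar Q α₁ α₂ = 0 := by rw [polar_comm]; exact hA₂α α₂ hα₂
    have hα₂0' : Q α₂ ≠ 0 := fun h => by
      obtain ⟨r, hr⟩ := hAfull α₂ (hAU (hA₂A hα₂)) fun y hy => by
        obtain ⟨c, hc⟩ := hAspan (y - (polar Q α₁ y / polar Q α₁ α₁) • α₁) (A.sub_mem hy (A.smul_mem _ hα₁))
          (by rw [polar_sub_right, polar_smul_right, smul_eq_mul, div_mul_cancel₀ _ hα₁2, sub_self])
        rw [sub_eq_iff_eq_add.mp hc, polar_add_left, polar_smul_left, polar_smul_left, polar_self, h, hα₁α₂]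
        simp
      have hr0 : r ≠ 0 := fun e' => hα₂0 (by rw [hr, e', zero_smul])
      rw [hr, QuadraticMap.map_smul, smul_eq_mul, mul_eq_zero] at h
      exact haa (h.resolve_left (mul_ne_zero hr0 hr0))
    have inM : ∀ α ∈ A, Q α ≠ 0 → ∀ m ∈ M, polar Q α m ≠ 0 → α ∈ M := by
      intro α hα hαα m hm hne'
      obtain ⟨y, hy, hyy⟩ : ∃ y ∈ B, Q y = Q α := ⟨β + Q α • β', B.add_mem hβ (B.smul_mem _ hβ'), by
        rw [QuadraticMap.map_add ⇑Q, QuadraticMap.map_smul, hββ, hβ'β', polar_smul_right, hββ']; simp⟩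
      obtain ⟨h, hh, hhx⟩ := ONotMax.exists_refl_pair hQ hαα hyy
      have h1 := M.sub_mem hm (hinv h ⟨mem_subspaceStabilizer_iff.mpr fun x hx => by
          rw [hhx, ORefl.refl_fix (oWU x hx y (hBW hy)), ORefl.refl_apply]
          exact U.sub_mem hx (U.smul_mem _ (hAU hα)), hh⟩ (by
            rw [hhx, ORefl.refl_fix (Q := Q) (v := y) (x := a + b) (by
              rw [polar_add_right, oWU a ha y (hBW hy), hBb y hy, add_zero]),
              ORefl.refl_fix (Q := Q) (v := α) (x := a + b) (by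
              rw [polar_add_right, hAa α hα, oUW α (hAU hα) b hb, add_zero])]) m hm)
      rw [hhx, ORefl.refl_fix (Q := Q) (v := y) (x := m) (hBM m hm y hy), ORefl.refl_apply, sub_sub_cancel] at h1
      exact (M.smul_mem_iff (mul_ne_zero (inv_ne_zero hαα) hne')).mp h1
    obtain ⟨α, α', hα, hαα, hα', hα'α', hoo, m, hm, hαm⟩ : ∃ α α', α ∈ A ∧ Q α ≠ 0 ∧ α' ∈ A ∧ Q α' ≠ 0 ∧
        polar Q α α' = 0 ∧ ∃ m ∈ M, polar Q α m ≠ 0 := by
      by_contra hcon
      push Not at hcon
      have o1 := hcon α₁ α₂ hα₁ hα₁0 (hA₂A hα₂) hα₂0' hα₁α₂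
      have o2 := hcon α₂ α₁ (hA₂A hα₂) hα₂0' hα₁ hα₁0 (by rw [polar_comm]; exact hα₁α₂)
      have hle : M ≤ Submodule.span F {a, b} := by
        intro m hm
        obtain ⟨mu, hmu, mw, hmw, rfl⟩ := dec m
        obtain ⟨r, hr⟩ := hAfull mu hmu fun y hy => by
          obtain ⟨c, hc⟩ := hAspan (y - (polar Q α₁ y / polar Q α₁ α₁) • α₁) (A.sub_mem hy (A.smul_mem _ hα₁))
            (by rw [polar_sub_right, polar_smul_right, smul_eq_mul, div_mul_cancel₀ _ hα₁2, sub_self])
          have e1 := o1 _ hm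
          have e2 := o2 _ hm
          rw [polar_add_right, oUW α₁ (hAU hα₁) mw hmw, add_zero] at e1
          rw [polar_add_right, oUW α₂ (hAU (hA₂A hα₂)) mw hmw, add_zero] at e2
          rw [sub_eq_iff_eq_add.mp hc, polar_add_left, polar_smul_left, polar_smul_left, e1, e2]
          simp
        have hmwB : mw - (polar Q mw b / polar Q b b) • b = 0 := by
          by_contra h0
          have hxW : mw - (polar Q mw b / polar Q b b) • b ∈ W := W.sub_mem hmw (W.smul_mem _ hb)
          obtain ⟨y, hy, hne'⟩ := (hWnd _ hxW h0).1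
          have hB3 := cutmem hBW hBb hBd hb hab2 _ (W.sub_mem hy (W.smul_mem (polar Q y b / polar Q b b) hb))
            (proj b y hab2)
          have h5 := hBM _ hm _ hB3
          rw [polar_add_right, oWU mu hmu _ (hBW hB3), zero_add] at h5
          refine hne' ?_
          have e1 : polar Q y (mw - (polar Q mw b / polar Q b b) • b) =
              polar Q (y - (polar Q y b / polar Q b b) • b) mw := by
            simp only [polar_sub_left, polar_sub_right, polar_smul_left, polar_smul_right, smul_eq_mul,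
              polar_comm Q b mw]
            ring
          rw [e1, h5]
        rw [hr, sub_eq_zero.mp hmwB]
        exact Submodule.add_mem _ (Submodule.smul_mem _ _ (Submodule.subset_span (by simp)))
          (Submodule.smul_mem _ _ (Submodule.subset_span (by simp)))
      have h6 := Submodule.finrank_mono hle
      have h7 := finrank_span_pair_le (F := F) a b
      omega
    have hαM := inM α hα hαα m hm hαm
    have hva : ∀ x ∈ A, polar Q (a + b) x = 0 := fun x hx => by
      rw [polar_add_left, polar_comm Q a x, hAa x hx, oWU x (hAU hx) b hb, add_zero]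
    by_cases hα'M : ∃ m' ∈ M, polar Q α' m' ≠ 0
    · exfalso
      obtain ⟨m', hm', hne'⟩ := hα'M
      have hα'inM := inM α' hα' hα'α' m' hm' hne'
      refine big (Submodule.span F (Set.range ![a + b, α, α'])) (Submodule.span_le.mpr ?_) ?_ ?_
      · rintro _ ⟨i, rfl⟩
        fin_cases i
        exacts [hvM, hαM, hα'inM]
      · intro x hx
        refine (Submodule.span_le (p := LinearMap.ker (Q.polarBilin (a + b)))).mpr ?_ hx
        rintro _ ⟨i, rfl⟩
        fin_cases i
        · change Q.polarBilin (a + b) (a + b) = 0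
          simp only [polarBilin_apply_apply, polar_self, hvv, smul_zero]
        · simpa using hva α hα
        · simpa using hva α' hα'
      · rw [finrank_span_eq_card, Fintype.card_fin]
        rw [Fintype.linearIndependent_iff]
        intro c hc
        simp only [Fin.sum_univ_three, Matrix.cons_val_zero, Matrix.cons_val_one, Matrix.cons_val] at hc
        have h0 := congrArg (fun x => polar Q b x) hc
        simp only [polar_add_right, polar_smul_right, polar_zero_right, oWU a ha b hb, oWU α (hAU hα) b hb,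
          oWU α' (hAU hα') b hb, smul_zero, add_zero, zero_add, smul_eq_mul, mul_zero] at h0
        have hc0 : c 0 = 0 := (mul_eq_zero.mp h0).resolve_right hab2
        rw [hc0, zero_smul, zero_add] at hc
        have h1 := congrArg (fun x => polar Q α x) hc
        have h2' := congrArg (fun x => polar Q α' x) hc
        simp only [polar_add_right, polar_smul_right, polar_zero_right, hoo, polar_comm Q α' α, smul_zero,
          add_zero, zero_add, smul_eq_mul, polar_self, nsmul_eq_mul, Nat.cast_ofNat, mul_zero] at h1 h2'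
        intro i
        fin_cases i
        exacts [hc0, (mul_eq_zero.mp h1).resolve_right (mul_ne_zero h2 hαα),
          (mul_eq_zero.mp h2').resolve_right (mul_ne_zero h2 hα'α')]
    push Not at hα'M
    have pull : ∀ x, (∀ m' ∈ M, polar Q x m' = 0) → ((g⁻¹ : GL ι F) : Matrix ι ι F) *ᵥ x ∈ W := fun x ho => by
      rw [hW]
      intro u hu
      have := ho (φ u) (hM ▸ Submodule.mem_map_of_mem hu)
      rwa [hφx, ← gl_mulVec_inv_cancel g x, omega_polar (hKG hg)] at this
    have h1 := hEW _ (pull β fun m' hm' => hBM m' hm' β hβ) _ (pull α' hα'M)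
      (by rw [ONotMax.omega_isometry (inv_mem (hKG hg)), hββ])
      (by rw [omega_polar (inv_mem (hKG hg)), oWU α' (hAU hα') β (hBW hβ)])
    have h2' := InR.conj hKG hg h1
    rw [gl_mulVec_inv_cancel, gl_mulVec_inv_cancel] at h2'
    obtain ⟨s, hs, hss, hsa⟩ : ∃ s ∈ U, Q s = 0 ∧ polar Q s α' ≠ 0 := by
      by_contra hcon
      push Not at hcon
      obtain ⟨x, hx, hne'⟩ := (hU α' (hAU hα') (fun h => hα'α' (by rw [h, QuadraticMap.map_zero]))).2
      exact hne' ((Submodule.span_le (p := LinearMap.ker (Q.polarBilin α'))).mpr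
        (fun s hs => by simpa [polar_comm Q α' s] using hcon s hs.1 hs.2) (sing_span hU heU hee he0 hx))
    exact ⟨s, hs, hss, fun h => hsa (by rw [h, polar_zero_left]),
      cross' β (hBW hβ) hββ hβ0 α' (hAU hα') h2' s hs hss hsa⟩
  -- two full centres
  obtain ⟨hall, hP⟩ := full v₁ hv₁ hv₁v hv₁0 w₁ hw₁ hw₁0 hseed
  obtain ⟨v₂, hv₂, hv₂v, hv₁₂, -⟩ := frame U hU (by omega) v₁ hv₁ hv₁v hv₁0
  obtain ⟨z, hz, hz0, hzz⟩ := Cfsg.Agent.Small.QuadBasis.exists_singular Q (W := W) (by omega)
  obtain ⟨w₂, hw₂, hw₂0, hseed₂⟩ := cross' z hz hzz hz0 (-v₁) (U.neg_mem hv₁)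
    (InR.swap hv₁v hzz (hall z hz)) v₂ hv₂ hv₂v (by
      rw [polar_neg_right, polar_comm, hv₁₂]; simp)
  obtain ⟨-, hP₂⟩ := full v₂ hv₂ hv₂v (fun h => by rw [h, polar_zero_right] at hv₁₂; exact zero_ne_one hv₁₂)
    w₂ hw₂ hw₂0 hseed₂
  exact le_of_pair Δ hKG hP hP₂ (by rw [hv₁₂]; exact one_ne_zero)

end Cfsg.Agent.Classical.Radical
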