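/-
The geometric maximal subgroups of the odd orthogonal groups, uniformly from dimension seven.
-/
import Cfsg.Agent.Lib.Classical.RadicalQuad
import Cfsg.Agent.Lib.Classical.RadicalQuadCases
import Cfsg.Agent.Lib.Classical.RadicalQuadThree
import Cfsg.Agent.Lib.Classical.WittIndex
import Cfsg.Agent.Lib.Classical.OrthogonalOdd
import Cfsg.Agent.Lib.Classical.MonomFrame.Main
import Cfsg.Agent.Lib.Classical.OSubSmall.Maximal

set_option autoImplicit false
set_option linter.unusedSectionVars false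

namespace Cfsg.Agent.Classical.OOddLists

open Cfsg
open Cfsg.Agent.Classical

/-- Stabilisers of totally singular subspaces are maximal. -/
theorem singular {F : Type*} [Field F] [Fintype F] (hodd : Odd (Fintype.card F)) (m : ℕ) (hm : 3 ≤ m) (W : Submodule F (Unit ⊕ (Fin m ⊕ Fin m) → F)) (hW0 : W ≠ ⊥) (hW : Cfsg.Geo.IsTotallySingularQuad (Cfsg.quadFormOdd m F) W) : Cfsg.Geo.IsMaximalIn (Cfsg.Geo.omegaGL (Cfsg.quadFormOdd m F)) (Cfsg.Geo.subspaceStabilizer W ⊓ Cfsg.Geo.omegaGL (Cfsg.quadFormOdd m F)) := by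
  have h2 : (2 : F) ≠ 0 := fun h => by
    haveI := ringChar.charP F
    haveI : CharP F 2 := CharTwo.of_one_ne_zero_of_two_eq_zero one_ne_zero h
    exact (Nat.not_even_iff_odd.mpr hodd) (Nat.even_iff.mpr (FiniteField.even_card_of_char_two (ringChar.eq F 2)))
  classical
  obtain ⟨Qf, hQf, hPND⟩ := Cfsg.Agent.Classical.ONotMax.exists_qform (Cfsg.Agent.Classical.quadFormOdd_nondegenerate (m := m) h2)
  rw [← hQf] at hW ⊢
  refine Cfsg.Agent.Classical.Radical.isMaximal_quad hPND (by simp only [Fintype.card_sum, Fintype.card_fin, Fintype.card_unit]; omega) hW0 hW fun u hu huW huo => ?_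
  have hext : ∀ x ∈ W ⊔ Submodule.span F {u}, Qf x = 0 := fun x hx => by
    obtain ⟨w, hw, z, hz, rfl⟩ := Submodule.mem_sup.mp hx
    obtain ⟨r, rfl⟩ := Submodule.mem_span_singleton.mp hz
    rw [QuadraticMap.map_add ⇑Qf, QuadraticMap.map_smul, hu, hW w hw, QuadraticMap.polar_smul_right,
      QuadraticMap.polar_comm, huo w hw]
    simp
  have hlt : Module.finrank F W < Module.finrank F ↥(W ⊔ Submodule.span F {u}) :=
    Submodule.finrank_lt_finrank_of_lt (lt_of_le_of_ne le_sup_left fun e => huW (e ▸ Submodule.mem_sup_right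
      (Submodule.mem_span_singleton_self u)))
  have hle := Cfsg.Agent.Classical.Witt.finrank_le_half Qf (Cfsg.Agent.Classical.ORefl.nondeg hPND) hext
  rw [Module.finrank_fintype_fun_eq_card] at hle
  simp only [Fintype.card_sum, Fintype.card_fin, Fintype.card_unit] at hle ⊢
  omega

/-- Stabilisers of non-degenerate subspaces of even dimension are maximal. -/
theorem nondegenerate {F : Type*} [Field F] [Fintype F] (hodd : Odd (Fintype.card F)) (m : ℕ) (hm : 3 ≤ m) (W : Submodule F (Unit ⊕ (Fin m ⊕ Fin m) → F)) (hW0 : W ≠ ⊥) (hev : Even (Module.finrank F W)) (hW : Cfsg.Geo.IsNondegenerateOn (QuadraticMap.polar (Cfsg.quadFormOdd m F)) W) (hfive : 4 ≤ m ∨ Module.finrank F W ≠ 4) (hex : ¬ (Fintype.card F = 3 ∧ Module.finrank F W = 2 ∧ Cfsg.Geo.IsPlusTypeOn (Cfsg.quadFormOdd m F) W)) : Cfsg.Geo.IsMaximalIn (Cfsg.Geo.omegaGL (Cfsg.quadFormOdd m F)) (Cfsg.Geo.subspaceStabilizer W ⊓ Cfsg.Geo.omegaGL (Cfsg.quadFormOdd m F)) := by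
  classical
  have h2 : (2 : F) ≠ 0 := fun h => by
    haveI := ringChar.charP F
    haveI : CharP F 2 := CharTwo.of_one_ne_zero_of_two_eq_zero one_ne_zero h
    exact (Nat.not_even_iff_odd.mpr hodd) (Nat.even_iff.mpr (FiniteField.even_card_of_char_two (ringChar.eq F 2)))
  obtain ⟨Qf, hQf, hPND⟩ := Cfsg.Agent.Classical.ONotMax.exists_qform
    (Cfsg.Agent.Classical.quadFormOdd_nondegenerate (m := m) h2)
  rw [← hQf] at hW hex ⊢
  obtain ⟨j, hj⟩ := hev
  refine Cfsg.Agent.Classical.Radical.isMaximal_quadAny_five hPND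
    (by simp only [Fintype.card_sum, Fintype.card_fin, Fintype.card_unit]; omega) hW0 (fun e => ?_) hW
    (fun h => ?_) (fun hq U hU hUnd hUp hor => ?_)
    (by simp only [Fintype.card_sum, Fintype.card_fin, Fintype.card_unit]; omega)
  · rw [e, finrank_top, Module.finrank_fintype_fun_eq_card] at hj
    simp only [Fintype.card_sum, Fintype.card_fin, Fintype.card_unit] at hj
    omega
  · simp only [Fintype.card_sum, Fintype.card_fin, Fintype.card_unit] at h
    omega
  · rcases hor with rfl | ⟨-, h⟩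
    · refine hex ⟨?_, hU, hUp⟩
      have := Fintype.one_lt_card (α := F)
      obtain ⟨k, hk⟩ := hodd
      omega
    · simp only [Fintype.card_sum, Fintype.card_fin, Fintype.card_unit] at h
      omega

/-- Stabilisers of non-degenerate subspaces of even dimension are maximal, dimension seven included. -/
theorem nondegenerate_all {F : Type*} [Field F] [Fintype F] (hodd : Odd (Fintype.card F)) (m : ℕ) (hm : 3 ≤ m) (W : Submodule F (Unit ⊕ (Fin m ⊕ Fin m) → F)) (hW0 : W ≠ ⊥) (hev : Even (Module.finrank F W)) (hW : Cfsg.Geo.IsNondegenerateOn (QuadraticMap.polar (Cfsg.quadFormOdd m F)) W) (hex : ¬ (Fintype.card F = 3 ∧ Module.finrank F W = 2 ∧ Cfsg.Geo.IsPlusTypeOn (Cfsg.quadFormOdd m F) W)) : Cfsg.Geo.IsMaximalIn (Cfsg.Geo.omegaGL (Cfsg.quadFormOdd m F)) (Cfsg.Geo.subspaceStabilizer W ⊓ Cfsg.Geo.omegaGL (Cfsg.quadFormOdd m F)) := by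
  classical
  by_cases hfive : 4 ≤ m ∨ Module.finrank F W ≠ 4
  · exact nondegenerate hodd m hm W hW0 hev hW hfive hex
  push Not at hfive
  obtain ⟨hm4, h4⟩ := hfive
  obtain rfl : m = 3 := by omega
  have h2 : (2 : F) ≠ 0 := fun h => by
    haveI := ringChar.charP F
    haveI : CharP F 2 := CharTwo.of_one_ne_zero_of_two_eq_zero one_ne_zero h
    exact (Nat.not_even_iff_odd.mpr hodd) (Nat.even_iff.mpr (FiniteField.even_card_of_char_two (ringChar.eq F 2)))
  obtain ⟨Qf, hQf, hPND⟩ := Cfsg.Agent.Classical.ONotMax.exists_qform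
    (Cfsg.Agent.Classical.quadFormOdd_nondegenerate (m := 3) h2)
  rw [← hQf] at hW ⊢
  rw [← Radical.stab_perp_eq hPND W]
  refine Radical.isMaximal_three hPND (by simp) h2 ?_ (Radical.perp_nondeg hPND hW)
  have hd := (Radical.reflex_polar hPND).finrank_perp W
  simp only [Fintype.card_sum, Fintype.card_fin, Fintype.card_unit] at hd
  omega

/-- Stabilisers of orthogonal frames are maximal over prime fields. -/
theorem frame {F : Type*} [Field F] [Fintype F] (hodd : Odd (Fintype.card F)) (m : ℕ) (hm : 3 ≤ m) (hprime : (Fintype.card F).Prime) {t : ℕ} (D : Fin t → Submodule F (Unit ⊕ (Fin m ⊕ Fin m) → F)) (hD : Cfsg.Geo.IsOrthogonalMDecomposition (Cfsg.quadFormOdd m F) 1 D) : Cfsg.Geo.IsMaximalIn (Cfsg.Geo.omegaGL (Cfsg.quadFormOdd m F)) (Cfsg.Geo.decompositionStabilizer D ⊓ Cfsg.Geo.omegaGL (Cfsg.quadFormOdd m F)) := by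
  have h2 : (2 : F) ≠ 0 := fun h => by
    have h1 : ringChar F ∣ 2 := (ringChar.spec F 2).mp (by exact_mod_cast h)
    rcases (Nat.dvd_prime Nat.prime_two).mp h1 with h' | h'
    · exact CharP.ringChar_ne_one h'
    · have := FiniteField.even_card_iff_char_two.mp h'
      exact Nat.not_even_iff_odd.mpr hodd (Nat.even_iff.mpr this)
  have hpn : (Nat.card F).Prime := by rwa [Nat.card_eq_fintype_card]
  obtain ⟨Qf, hQf, hQ⟩ := ONotMax.exists_qform (Cfsg.Agent.Classical.quadFormOdd_nondegenerate (m := m) h2)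
  rw [← hQf] at hD ⊢
  refine MFrame.isMaximalIn_of_frame h2 hQ (by simp; omega) hD fun B H hH hM => ?_
  have ht : t = 2 * m + 1 := by
    rw [← B.finrank_eq, Module.finrank_fintype_fun_eq_card]
    simp; omega
  exact B.mono_or_ge_odd hpn ⟨m, ht⟩ (by omega) hH hM

/-- Subfield subgroups are maximal. -/
theorem subfield {F : Type*} [Field F] [Fintype F] (hodd : Odd (Fintype.card F)) (m : ℕ) (hm : 3 ≤ m) (F₀ : Subfield F) (r : ℕ) (hr : r.Prime) (hcard : Fintype.card F = Nat.card F₀ ^ r) (P : Matrix.GeneralLinearGroup (Unit ⊕ (Fin m ⊕ Fin m)) F) (hP : Cfsg.Geo.IsQuadFormRationalStructure (Cfsg.quadFormOdd m F) F₀ P) : Cfsg.Geo.IsMaximalIn (Cfsg.Geo.omegaGL (Cfsg.quadFormOdd m F)) (Cfsg.Geo.subfieldSubgroup F₀ P ⊓ Cfsg.Geo.omegaGL (Cfsg.quadFormOdd m F)) := by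
  classical
  have h2 : (2 : F) ≠ 0 := fun h => by
    haveI := ringChar.charP F
    haveI : CharP F 2 := CharTwo.of_one_ne_zero_of_two_eq_zero one_ne_zero h
    exact (Nat.not_even_iff_odd.mpr hodd) (Nat.even_iff.mpr (FiniteField.even_card_of_char_two (ringChar.eq F 2)))
  exact Cfsg.Agent.Classical.OSub7.isMaximal (Cfsg.Agent.Classical.quadFormOdd_nondegenerate h2) h2
    (by simp only [Fintype.card_sum, Fintype.card_fin, Fintype.card_unit]; omega) hr
    (Or.inl (by simp only [Fintype.card_sum, Fintype.card_fin, Fintype.card_unit]; exact ⟨m, by omega⟩)) hcard P hP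

end Cfsg.Agent.Classical.OOddLists
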