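/-
Root elements and a quadratic field extension acting by similitudes on a quadratic space.
-/
import Cfsg.Agent.Lib.Classical.RadicalQuadSplit

set_option autoImplicit false
set_option linter.unusedSectionVars false

namespace Cfsg.Agent.Classical.OQExt

open Matrix Module QuadraticMap Cfsg.Geo OCount
open Cfsg.Agent.Classical

variable {ι : Type} [Fintype ι] [DecidableEq ι] {F : Type*} [Field F] [Fintype F] {Q : QuadraticForm F (ι → F)}
  {ω : Matrix ι ι F} {τ c : F}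

/-- A similitude generating a quadratic field. -/
structure Ext (Q : QuadraticForm F (ι → F)) (ω : Matrix ι ι F) (τ c : F) : Prop where
  pnd : PND Q
  big : 10 ≤ Fintype.card ι
  sq : ∀ x, ω *ᵥ (ω *ᵥ x) = τ • (ω *ᵥ x) - c • x
  diag : ∀ x, polar Q (ω *ᵥ x) x = τ * Q x
  sim : ∀ x, Q (ω *ᵥ x) = c * Q x
  irred : ∀ l : F, l * l - τ * l + c ≠ 0

/-- The root map of two vectors. -/
def rt (Q : QuadraticForm F (ι → F)) (p q x : ι → F) : ι → F := x + polar Q p x • q - polar Q q x • p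

/-- The root element of the two vectors lies in the group. -/
def In2 (Q : QuadraticForm F (ι → F)) (H : Subgroup (GL ι F)) (p q : ι → F) : Prop :=
  ∃ h ∈ H, ∀ x, (h : Matrix ι ι F) *ᵥ x = rt Q p q x

/-- The line over the extension. -/
def L (ω : Matrix ι ι F) (p : ι → F) : Submodule F (ι → F) := Submodule.span F (Set.range ![p, ω *ᵥ p])

theorem mem_L {p x : ι → F} : x ∈ L ω p ↔ ∃ a b : F, a • p + b • (ω *ᵥ p) = x := by
  rw [L, Submodule.mem_span_range_iff_exists_fun]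
  constructor
  · rintro ⟨f, hf⟩
    exact ⟨f 0, f 1, by simpa [Fin.sum_univ_two] using hf⟩
  · rintro ⟨a, b, h⟩
    exact ⟨![a, b], by simpa [Fin.sum_univ_two] using h⟩

theorem self_mem_L (p : ι → F) : p ∈ L ω p := mem_L.mpr ⟨1, 0, by simp⟩

theorem omega_mem_L (p : ι → F) : ω *ᵥ p ∈ L ω p := mem_L.mpr ⟨0, 1, by simp⟩

theorem finrank_L_le (p : ι → F) : finrank F (L ω p) ≤ 2 :=
  (finrank_range_le_card (R := F) ![p, ω *ᵥ p]).trans_eq (Fintype.card_fin 2)

theorem finrank_span_range_le {k : ℕ} (v : Fin k → (ι → F)) : finrank F (Submodule.span F (Set.range v)) ≤ k :=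
  (finrank_range_le_card (R := F) v).trans_eq (Fintype.card_fin k)

theorem rt_neg_swap (p q x : ι → F) : rt Q q p x = x - polar Q p x • q + polar Q q x • p := by
  rw [rt]; module

variable (E : Ext Q ω τ c)

include E

theorem sim_polar (x y : ι → F) : polar Q (ω *ᵥ x) (ω *ᵥ y) = c * polar Q x y := by
  simp only [polar, ← Matrix.mulVec_add, E.sim]
  ring

theorem skew (x y : ι → F) : polar Q (ω *ᵥ x) y = τ * polar Q x y - polar Q x (ω *ᵥ y) := by
  have h := E.diag (x + y)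
  rw [Matrix.mulVec_add, polar_add_left, polar_add_right, polar_add_right, E.diag, E.diag,
    QuadraticMap.map_add ⇑Q, polar_comm Q (ω *ᵥ y) x] at h
  linear_combination h

theorem self_omega {x : ι → F} (hx : Q x = 0) : polar Q x (ω *ᵥ x) = 0 := by
  rw [polar_comm, E.diag, hx, mul_zero]

/-- Orthogonality to a line over the extension is symmetric. -/
theorem horth {p x : ι → F} (h : polar Q p x = 0) (h' : polar Q (ω *ᵥ p) x = 0) :
    polar Q x p = 0 ∧ polar Q (ω *ᵥ x) p = 0 ∧ polar Q p (ω *ᵥ x) = 0 := by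
  have h1 : polar Q p (ω *ᵥ x) = 0 := by
    have := skew E p x
    rw [h', h, mul_zero, zero_sub] at this
    exact neg_eq_zero.mp this.symm
  exact ⟨by rw [polar_comm]; exact h, by rw [polar_comm]; exact h1, h1⟩

theorem omega_stable {p x : ι → F} (hx : x ∈ L ω p) : ω *ᵥ x ∈ L ω p := by
  obtain ⟨a, b, rfl⟩ := mem_L.mp hx
  refine mem_L.mpr ⟨-(b * c), a + b * τ, ?_⟩
  rw [Matrix.mulVec_add, Matrix.mulVec_smul, Matrix.mulVec_smul, E.sq]
  module

theorem mem_of_shift {p x : ι → F} {l : F} (h : ω *ᵥ x + l • x ∈ L ω p) : x ∈ L ω p := by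
  have h1 := sub_mem ((L ω p).smul_mem (τ + l) h) (omega_stable E h)
  rw [show (τ + l) • (ω *ᵥ x + l • x) - ω *ᵥ (ω *ᵥ x + l • x) = (l * l + τ * l + c) • x by
    rw [Matrix.mulVec_add, Matrix.mulVec_smul, E.sq]; module] at h1
  have hne : l * l + τ * l + c ≠ 0 := by
    have := E.irred (-l)
    rwa [show -l * -l - τ * -l + c = l * l + τ * l + c by ring] at this
  simpa [smul_smul, inv_mul_cancel₀ hne] using (L ω p).smul_mem (l * l + τ * l + c)⁻¹ h1

theorem omega_not_smul {x : ι → F} (hx : x ≠ 0) (l : F) : ω *ᵥ x ≠ l • x := fun e => by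
  have h := E.sq x
  rw [e, Matrix.mulVec_smul, e] at h
  have h' : (l * l - τ * l + c) • x = 0 := by linear_combination (norm := module) h
  exact E.irred l ((smul_eq_zero.mp h').resolve_right hx)

/-- A vector outside a line has a line meeting it in zero. -/
theorem indep {v w : ι → F} (hw : w ∉ L ω v) {a b a' b' : F} (hv : v ≠ 0)
    (e : a • v + b • (ω *ᵥ v) + (a' • w + b' • (ω *ᵥ w)) = 0) : a = 0 ∧ b = 0 ∧ a' = 0 ∧ b' = 0 := by
  have hm : a' • w + b' • (ω *ᵥ w) ∈ L ω v := mem_L.mpr ⟨-a, -b, by linear_combination (norm := module) -e⟩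
  have hb' : b' = 0 := by
    by_contra hb'
    refine hw (mem_of_shift E (l := b'⁻¹ * a') ?_)
    have := (L ω v).smul_mem b'⁻¹ hm
    rw [smul_add, smul_smul, smul_smul, inv_mul_cancel₀ hb', one_smul] at this
    rwa [add_comm]
  rw [hb', zero_smul, add_zero] at hm e
  have ha' : a' = 0 := by
    by_contra ha'
    exact hw (by simpa [smul_smul, inv_mul_cancel₀ ha'] using (L ω v).smul_mem a'⁻¹ hm)
  rw [ha', zero_smul, add_zero] at e
  have hb : b = 0 := by
    by_contra hb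
    refine omega_not_smul E hv (-(b⁻¹ * a)) ?_
    have h := congrArg (b⁻¹ • ·) e
    simp only [smul_add, smul_smul, inv_mul_cancel₀ hb, one_smul, smul_zero] at h
    linear_combination (norm := module) h
  rw [hb, zero_smul, add_zero] at e
  exact ⟨(smul_eq_zero.mp e).resolve_right hv, hb, ha', hb'⟩

/-- The two lines of singular vectors that are not orthogonal pair without radical. -/
theorem pairing {s s' : ι → F} (hne : ¬(polar Q s s' = 0 ∧ polar Q (ω *ᵥ s) s' = 0)) {e f : F}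
    (h1 : polar Q (e • s' + f • (ω *ᵥ s')) s = 0) (h2 : polar Q (e • s' + f • (ω *ᵥ s')) (ω *ᵥ s) = 0) :
    e = 0 ∧ f = 0 := by
  obtain ⟨h, hh⟩ : ∃ h, h = polar Q s s' := ⟨_, rfl⟩
  obtain ⟨α, hα⟩ : ∃ α, α = polar Q s (ω *ᵥ s') := ⟨_, rfl⟩
  have hws : polar Q (ω *ᵥ s) s' = τ * h - α := by rw [skew E, hh, hα]
  rw [polar_add_left, polar_smul_left, polar_smul_left, polar_comm Q s' s, polar_comm Q (ω *ᵥ s') s, ← hh, ← hα,
    smul_eq_mul, smul_eq_mul] at h1
  rw [polar_add_left, polar_smul_left, polar_smul_left, polar_comm Q s' (ω *ᵥ s), sim_polar E, hws,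
    polar_comm Q s' s, ← hh, smul_eq_mul, smul_eq_mul] at h2
  have hdet : α * α - τ * α * h + c * (h * h) ≠ 0 := by
    by_cases h0 : h = 0
    · rw [hws, ← hh, h0, mul_zero, zero_sub, neg_eq_zero] at hne
      rw [h0, mul_zero, mul_zero, mul_zero, sub_zero, add_zero]
      exact mul_self_ne_zero.mpr fun ha => hne ⟨rfl, ha⟩
    · intro hd
      refine E.irred (α / h) ?_
      field_simp
      linear_combination hd
  refine ⟨(mul_eq_zero.mp ?_).resolve_right hdet, (mul_eq_zero.mp ?_).resolve_right hdet⟩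
  · linear_combination (c * h) * h1 - α * h2
  · linear_combination h * h2 - (τ * h - α) * h1

/-- A non-degenerate space of dimension at least two takes every value. -/
theorem exists_value {Y : Submodule F (ι → F)} (hY : IsNondegenerateOn (polar ⇑Q) Y) (h2 : 2 ≤ finrank F Y) (r : F) :
    ∃ y ∈ Y, Q y = r := by
  have hY0 : Y ≠ ⊥ := fun h => by rw [h, finrank_bot] at h2; omega
  by_cases hs : ∃ y ∈ Y, y ≠ 0 ∧ Q y = 0
  · obtain ⟨y, hy, hy0, hyy⟩ := hs
    obtain ⟨z, hz, hne⟩ := (hY y hy hy0).2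
    refine ⟨z + ((r - Q z) / polar Q y z) • y, Y.add_mem hz (Y.smul_mem _ hy), ?_⟩
    rw [QuadraticMap.map_add ⇑Q, QuadraticMap.map_smul, hyy, smul_zero, add_zero, polar_smul_right, polar_comm Q z y,
      smul_eq_mul, div_mul_cancel₀ _ hne]
    ring
  push Not at hs
  obtain ⟨x, hx, hx0⟩ := Submodule.exists_mem_ne_zero_of_ne_bot hY0
  have hxx := hs x hx hx0
  by_cases h2F : (2 : F) = 0
  · obtain ⟨t, ht⟩ := Cfsg.Agent.Small.QuadBasis.exists_sq h2F (r / Q x)
    exact ⟨t • x, Y.smul_mem _ hx, by rw [QuadraticMap.map_smul, smul_eq_mul, ht, div_mul_cancel₀ _ hxx]⟩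
  obtain ⟨y, hy, hy0⟩ := Submodule.exists_mem_ne_zero_of_ne_bot
    (p := Y ⊓ (Radical.reflex_polar E.pnd).perp (Submodule.span F {x})) fun h => by
      have h1 := Submodule.finrank_sup_add_finrank_inf_eq Y ((Radical.reflex_polar E.pnd).perp (Submodule.span F {x}))
      have h3 := (Radical.reflex_polar E.pnd).finrank_perp (Submodule.span F {x})
      have h4 := Submodule.finrank_le (Y ⊔ (Radical.reflex_polar E.pnd).perp (Submodule.span F {x}))
      rw [h, finrank_bot] at h1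
      rw [finrank_span_singleton hx0] at h3
      rw [Module.finrank_fintype_fun_eq_card] at h4
      omega
  obtain ⟨s, t, hst⟩ := Cfsg.Agent.Small.QuadBasis.exists_form_rep h2F (Q x) (Q y) r hxx (hs y hy.1 hy0)
  refine ⟨s • x + t • y, Y.add_mem (Y.smul_mem _ hx) (Y.smul_mem _ hy.1), ?_⟩
  have hyx : polar Q y x = 0 := hy.2 x (Submodule.mem_span_singleton_self x)
  rw [QuadraticMap.map_add ⇑Q, QuadraticMap.map_smul, QuadraticMap.map_smul, polar_smul_left, polar_smul_right,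
    polar_comm Q x y, hyx, smul_zero, smul_zero, add_zero, smul_eq_mul, smul_eq_mul]
  linear_combination hst

/-- A vector with given products with a small subspace can be taken singular. -/
theorem sing_hit_sub (S : Submodule F (ι → F)) (x₀ : ι → F)
    (hS : finrank F S + finrank F ↥(S ⊓ (Radical.reflex_polar E.pnd).perp S) + 2 ≤ Fintype.card ι) :
    ∃ x, Q x = 0 ∧ ∀ w ∈ S, polar Q x w = polar Q x₀ w := by
  have hf := Radical.reflex_polar E.pnd
  obtain ⟨Y, hY, hYR, hYd⟩ := Radical.exists_avoid (hf.perp S) (S ⊓ hf.perp S)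
  have h1 := hf.finrank_perp S
  have hYR' : Y ⊔ (S ⊓ hf.perp S) = hf.perp S := by
    refine Submodule.eq_of_le_of_finrank_le (sup_le hY inf_le_right) ?_
    have h2 := Submodule.finrank_sup_add_finrank_inf_eq Y (S ⊓ hf.perp S)
    rw [hYR, finrank_bot] at h2
    omega
  have hbot : Y ⊓ hf.perp Y = ⊥ := by
    rw [← le_bot_iff, ← hYR]
    intro y hy
    refine ⟨hy.1, ?_, hY hy.1⟩
    rw [← hf.perp_perp S]
    intro z hz
    rw [← hYR'] at hz
    obtain ⟨z₁, hz₁, z₂, hz₂, rfl⟩ := Submodule.mem_sup.mp hz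
    rw [polar_add_right, hy.2 z₁ hz₁, hY hy.1 z₂ hz₂.1, add_zero]
  have htop : Y ⊔ hf.perp Y = ⊤ := by
    refine Submodule.eq_top_of_finrank_eq ?_
    have h2 := Submodule.finrank_sup_add_finrank_inf_eq Y (hf.perp Y)
    have h3 := hf.finrank_perp Y
    rw [hbot, finrank_bot] at h2
    rw [Module.finrank_fintype_fun_eq_card]
    omega
  obtain ⟨y₁, hy₁, u, hu, hx₀⟩ := Submodule.mem_sup.mp (htop ▸ Submodule.mem_top : x₀ ∈ Y ⊔ hf.perp Y)
  obtain ⟨y, hy, hyv⟩ := exists_value E (hf.nondegenerateOn_of_inf_perp hbot) (by omega) (-Q u)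
  refine ⟨u + y, by rw [QuadraticMap.map_add ⇑Q, hyv, hu y hy, add_zero, add_neg_cancel], fun w hw => ?_⟩
  rw [← hx₀, polar_add_left, polar_add_left, hY hy w hw, hY hy₁ w hw, add_zero, zero_add]

theorem sing_hit {k : ℕ} (v : Fin k → (ι → F)) (x₀ : ι → F) (hk : 2 * k + 2 ≤ Fintype.card ι) :
    ∃ x, Q x = 0 ∧ ∀ i, polar Q x (v i) = polar Q x₀ (v i) := by
  obtain ⟨x, hx, hxv⟩ := sing_hit_sub E (Submodule.span F (Set.range v)) x₀ (by
    have h1 := finrank_span_range_le v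
    have h2 := Submodule.finrank_mono (inf_le_left : Submodule.span F (Set.range v) ⊓
      (Radical.reflex_polar E.pnd).perp (Submodule.span F (Set.range v)) ≤ Submodule.span F (Set.range v))
    omega)
  exact ⟨x, hx, fun i => hxv _ (Submodule.subset_span ⟨i, rfl⟩)⟩

theorem sing_avoid {k : ℕ} (v : Fin k → (ι → F)) (T : Submodule F (ι → F))
    (hk : k + finrank F T + 3 ≤ Fintype.card ι) : ∃ m, Q m = 0 ∧ (∀ i, polar Q m (v i) = 0) ∧ m ∉ T := by
  have hf := Radical.reflex_polar E.pnd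
  obtain ⟨Y, hY, hYT, hYd⟩ := Radical.exists_avoid (hf.perp (Submodule.span F (Set.range v))) T
  have h1 := hf.finrank_perp (Submodule.span F (Set.range v))
  have h2 := finrank_span_range_le v
  obtain ⟨e, he, he0, hee⟩ := Cfsg.Agent.Small.QuadBasis.exists_singular Q (W := Y) (by omega)
  exact ⟨e, hee, fun i => hY he _ (Submodule.subset_span ⟨i, rfl⟩),
    fun h => he0 ((Submodule.mem_bot F).mp (hYT ▸ ⟨he, h⟩))⟩

theorem exists_dual {k : ℕ} (v : Fin k → (ι → F)) {w : ι → F} (hw : w ∉ Submodule.span F (Set.range v)) :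
    ∃ x, (∀ i, polar Q x (v i) = 0) ∧ polar Q x w ≠ 0 := by
  have hf := Radical.reflex_polar E.pnd
  by_contra hcon
  push Not at hcon
  refine hw ?_
  rw [← hf.perp_perp (Submodule.span F (Set.range v))]
  intro x hx
  rw [polar_comm]
  exact hcon x fun i => hx _ (Submodule.subset_span ⟨i, rfl⟩)

theorem exists_dual_two {k : ℕ} (v : Fin k → (ι → F)) {w w' : ι → F} (hw : w ∉ Submodule.span F (Set.range v))
    (hw' : w' ∉ Submodule.span F (Set.range v)) :
    ∃ x, (∀ i, polar Q x (v i) = 0) ∧ polar Q x w ≠ 0 ∧ polar Q x w' ≠ 0 := by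
  obtain ⟨x, hx, hxw⟩ := exists_dual E v hw
  obtain ⟨y, hy, hyw⟩ := exists_dual E v hw'
  by_cases h1 : polar Q x w' = 0
  · by_cases h2 : polar Q y w = 0
    · exact ⟨x + y, fun i => by rw [polar_add_left, hx, hy, add_zero], by rwa [polar_add_left, h2, add_zero],
        by rwa [polar_add_left, h1, zero_add]⟩
    · exact ⟨y, hy, h2, hyw⟩
  · exact ⟨x, hx, hxw, h1⟩

/-- A root element of a line over the extension commutes with it. -/
theorem base {v : ι → F} (hv : Q v = 0) (l : F) : ∃ g ∈ omegaGL ⇑Q,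
    (∀ x, (g : Matrix ι ι F) *ᵥ x = rt Q v (l • (ω *ᵥ v)) x) ∧
    ∀ x, (g : Matrix ι ι F) *ᵥ (ω *ᵥ x) = ω *ᵥ ((g : Matrix ι ι F) *ᵥ x) := by
  obtain ⟨g, hg, hgx⟩ := ONotMax.exists_siegel E.pnd (by have := E.big; omega) hv
    (show polar Q v (l • (ω *ᵥ v)) = 0 by rw [polar_smul_right, self_omega E hv, smul_zero])
  have hx : ∀ x, (g : Matrix ι ι F) *ᵥ x = rt Q v (l • (ω *ᵥ v)) x := fun x => by
    rw [hgx, QuadraticMap.map_smul, E.sim, hv, mul_zero, smul_zero, zero_mul, add_zero]; rfl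
  refine ⟨g, hg, hx, fun x => ?_⟩
  have h1 : polar Q v (ω *ᵥ x) = τ * polar Q v x - polar Q (ω *ᵥ v) x := by
    rw [skew E v x]; ring
  rw [hx, hx, rt, rt, polar_smul_left, polar_smul_left, sim_polar E, h1, Matrix.mulVec_sub, Matrix.mulVec_add,
    Matrix.mulVec_smul, Matrix.mulVec_smul, Matrix.mulVec_smul, E.sq]
  simp only [smul_eq_mul]
  module

/-- Singular pairs orthogonal over the extension. -/
def APair (_ : Ext Q ω τ c) (a b : ι → F) : Prop :=
  Q a = 0 ∧ Q b = 0 ∧ a ≠ 0 ∧ polar Q a b = 0 ∧ polar Q (ω *ᵥ a) b = 0 ∧ b ∉ L ω a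

theorem apair_symm {a b : ι → F} (h : APair E a b) : APair E b a := by
  obtain ⟨ha, hb, ha0, h1, h2, h3⟩ := h
  obtain ⟨h4, h5, -⟩ := horth E h1 h2
  have hb0 : b ≠ 0 := fun e => h3 (e ▸ zero_mem _)
  refine ⟨hb, ha, hb0, h4, h5, fun hab => ?_⟩
  obtain ⟨s, t, e⟩ := mem_L.mp hab
  obtain ⟨-, -, h6, h7⟩ := indep E h3 (a := -1) (b := 0) ha0
    (show (-1 : F) • a + (0 : F) • (ω *ᵥ a) + (s • b + t • (ω *ᵥ b)) = 0 by rw [e]; module)
  rw [h6, h7, zero_smul, zero_smul, add_zero] at e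
  exact ha0 e.symm

/-- An element of Ω moving the lines. -/
theorem exists_moving (hm : ∀ g ∈ omegaGL ⇑Q, ∀ x, (g : Matrix ι ι F) *ᵥ (ω *ᵥ x) ∈ L ω ((g : Matrix ι ι F) *ᵥ x)) :
    False := by
  have hbig := E.big
  obtain ⟨a, ha, -, haT⟩ := sing_avoid E (![] : Fin 0 → (ι → F)) ⊥ (by rw [finrank_bot]; omega)
  have ha0 : a ≠ 0 := fun e => haT (e ▸ zero_mem _)
  obtain ⟨b, hb, hba, hbT⟩ := sing_avoid E ![a, ω *ᵥ a] (L ω a) (by have := finrank_L_le (ω := ω) a; omega)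
  have hab : polar Q a b = 0 := by rw [polar_comm]; exact hba 0
  have hab' : polar Q (ω *ᵥ a) b = 0 := by rw [polar_comm]; exact hba 1
  obtain ⟨g, hg, hgx⟩ := ONotMax.exists_siegel E.pnd (by omega) ha hab
  obtain ⟨y, hy⟩ : ∃ y, polar Q a y ≠ 0 := by
    by_contra hcon
    push Not at hcon
    exact ha0 (E.pnd a hcon)
  have hx : ∀ x, (g : Matrix ι ι F) *ᵥ x = x + polar Q a x • b - polar Q b x • a := fun x => by
    rw [hgx, hb, zero_mul, add_zero]
  -- add a multiple of `a` to the test vector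
  obtain ⟨p, q, hpq⟩ := mem_L.mp (hm g hg y)
  obtain ⟨p₁, q₁, hpq₁⟩ := mem_L.mp (hm g hg (a + y))
  have ga : (g : Matrix ι ι F) *ᵥ a = a := by
    rw [hx, polar_self_zero ha, polar_comm Q b a, hab, zero_smul, zero_smul, add_zero, sub_zero]
  have gwa : (g : Matrix ι ι F) *ᵥ (ω *ᵥ a) = ω *ᵥ a := by
    rw [hx, self_omega E ha, polar_comm Q b (ω *ᵥ a), hab', zero_smul, zero_smul, add_zero, sub_zero]
  simp only [Matrix.mulVec_add, ga, gwa] at hpq₁
  rw [← hpq] at hpq₁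
  obtain ⟨z, hz⟩ : ∃ z, z = (g : Matrix ι ι F) *ᵥ y := ⟨_, rfl⟩
  rw [← hz] at hpq hpq₁
  have hzL : z ∉ L ω a := fun hzL => by
    obtain ⟨s, t, e⟩ := mem_L.mp hzL
    refine hy ?_
    rw [← Radical.omega_polar hg a y, ga, ← hz, ← e, polar_add_right, polar_smul_right, polar_smul_right,
      polar_self_zero ha, self_omega E ha, smul_zero, smul_zero, add_zero]
  obtain ⟨h1, h2, h3, h4⟩ := indep E hzL (a := p₁) (b := q₁ - 1) (a' := p₁ - p) (b' := q₁ - q) ha0
    (by linear_combination (norm := module) hpq₁)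
  rw [h1, zero_sub, neg_eq_zero] at h3
  rw [sub_eq_zero] at h2 h4
  rw [h2] at h4
  rw [h3, ← h4, zero_smul, zero_add, one_smul, hz, hx, hx, Matrix.mulVec_sub, Matrix.mulVec_add, Matrix.mulVec_smul,
    Matrix.mulVec_smul] at hpq
  refine hbT (mem_of_shift E (l := -((polar Q a y)⁻¹ * polar Q a (ω *ᵥ y))) (mem_L.mpr
    ⟨-((polar Q a y)⁻¹ * polar Q b (ω *ᵥ y)), (polar Q a y)⁻¹ * polar Q b y, ?_⟩))
  have h := congrArg ((polar Q a y)⁻¹ • ·) hpq
  simp only [smul_sub, smul_add, smul_smul, inv_mul_cancel₀ hy, one_smul] at h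
  linear_combination (norm := module) -h

variable {H : Subgroup (GL ι F)} (hH : ∀ g ∈ omegaGL ⇑Q,
  (∀ x, (g : Matrix ι ι F) *ᵥ (ω *ᵥ x) = ω *ᵥ ((g : Matrix ι ι F) *ᵥ x)) → g ∈ H) (hHΩ : H ≤ omegaGL ⇑Q)

include hH hHΩ

theorem in2_base {v : ι → F} (hv : Q v = 0) {b : ι → F} (hb : b ∈ L ω v) : In2 Q H v b := by
  obtain ⟨s, t, rfl⟩ := mem_L.mp hb
  obtain ⟨g, hg, hgx, hgc⟩ := base E hv t
  refine ⟨g, hH g hg hgc, fun x => ?_⟩
  rw [hgx, rt, rt, polar_add_left, polar_smul_left Q s, smul_eq_mul]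
  module

theorem conj {p q : ι → F} (h : In2 Q H p q) {g : GL ι F} (hg : g ∈ H) :
    In2 Q H ((g : Matrix ι ι F) *ᵥ p) ((g : Matrix ι ι F) *ᵥ q) := by
  obtain ⟨h, hh, hx⟩ := h
  refine ⟨g * h * g⁻¹, mul_mem (mul_mem hg hh) (inv_mem hg), fun x => ?_⟩
  obtain ⟨y, rfl⟩ : ∃ y, x = (g : Matrix ι ι F) *ᵥ y := ⟨_, (gl_mulVec_inv_cancel g x).symm⟩
  rw [gl_mul_mulVec, gl_mul_mulVec, gl_inv_mulVec_cancel, hx, rt, rt, Radical.omega_polar (hHΩ hg),
    Radical.omega_polar (hHΩ hg), Matrix.mulVec_sub, Matrix.mulVec_add, Matrix.mulVec_smul, Matrix.mulVec_smul]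

theorem symm {p q : ι → F} (hp : Q p = 0) (hq : Q q = 0) (hpq : polar Q p q = 0) (h : In2 Q H p q) :
    In2 Q H q p := by
  obtain ⟨h, hh, hx⟩ := h
  refine ⟨h⁻¹, inv_mem hh, fun x => gl_mulVec_injective h ?_⟩
  have hqp : polar Q q p = 0 := by rw [polar_comm]; exact hpq
  show (h : Matrix ι ι F) *ᵥ (((h⁻¹ : GL ι F) : Matrix ι ι F) *ᵥ x) = (h : Matrix ι ι F) *ᵥ rt Q q p x
  rw [gl_mulVec_inv_cancel, hx]
  simp only [rt, polar_add_right, polar_sub_right, polar_smul_right, polar_self_zero hp, polar_self_zero hq, hpq,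
    hqp, smul_zero, add_zero, sub_zero]
  module

omit hH hHΩ in
theorem scale {p q : ι → F} {l : F} (h : In2 Q H (l • p) q) : In2 Q H p (l • q) := by
  obtain ⟨h, hh, hx⟩ := h
  refine ⟨h, hh, fun x => ?_⟩
  rw [hx, rt, rt, polar_smul_left, polar_smul_left, smul_eq_mul, smul_eq_mul]
  module

/-- The commutator of two root elements. -/
theorem comm {p q r s : ι → F} (hr : Q r = 0) (hs : Q s = 0) (hpr : polar Q p r = 0)
    (hps : polar Q p s = 0) (hqs : polar Q q s = 0) (hrs : polar Q r s = 0) (h₁ : In2 Q H p q)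
    (h₂ : In2 Q H r s) : In2 Q H p (-(polar Q q r) • s) := by
  obtain ⟨h, hh, hx⟩ := h₁
  obtain ⟨a, ha, hax⟩ := conj E hH hHΩ h₂ hh
  obtain ⟨b, hb, hbx⟩ := symm E hH hHΩ hr hs hrs h₂
  refine ⟨a * b, mul_mem ha hb, fun x => ?_⟩
  have e1 : (h : Matrix ι ι F) *ᵥ r = r - polar Q q r • p := by rw [hx, rt, hpr, zero_smul, add_zero]
  have e2 : (h : Matrix ι ι F) *ᵥ s = s := by rw [hx, rt, hps, hqs, zero_smul, zero_smul, add_zero, sub_zero]
  have hsp : polar Q s p = 0 := by rw [polar_comm]; exact hps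
  have hsr : polar Q s r = 0 := by rw [polar_comm]; exact hrs
  rw [gl_mul_mulVec, hbx, hax, e1, e2]
  simp only [rt, polar_add_right, polar_sub_right, polar_smul_right, polar_sub_left, polar_smul_left,
    polar_self_zero hr, polar_self_zero hs, hpr, hrs, hps, hsp, hsr, smul_zero, add_zero, sub_zero, zero_smul,
    smul_eq_mul, mul_zero, neg_mul]
  module

/-- An element moving a line produces a pair. -/
theorem exists_apair {g : GL ι F} (hg : g ∈ H) {v : ι → F} (hv : Q v = 0)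
    (hgv : (g : Matrix ι ι F) *ᵥ (ω *ᵥ v) ∉ L ω ((g : Matrix ι ι F) *ᵥ v)) :
    ∃ a b, APair E a b ∧ In2 Q H a b := by
  have hbig := E.big
  have hin := conj E hH hHΩ (in2_base E hH hHΩ hv (omega_mem_L v)) hg
  obtain ⟨p, hp⟩ : ∃ p, p = (g : Matrix ι ι F) *ᵥ v := ⟨_, rfl⟩
  obtain ⟨q, hq⟩ : ∃ q, q = (g : Matrix ι ι F) *ᵥ (ω *ᵥ v) := ⟨_, rfl⟩
  rw [← hp, ← hq] at hgv hin
  have hQp : Q p = 0 := by rw [hp, ONotMax.omega_isometry (hHΩ hg), hv]
  have hp0 : p ≠ 0 := fun e => hgv (by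
    have hv0 : v = 0 := gl_mulVec_injective g ((hp.symm.trans e).trans (Matrix.mulVec_zero _).symm)
    rw [hq, hv0, Matrix.mulVec_zero, Matrix.mulVec_zero]; exact zero_mem _)
  obtain ⟨y, -, hyp, hyT⟩ := sing_avoid E ![p, ω *ᵥ p] (L ω p) (by have := finrank_L_le (ω := ω) p; omega)
  obtain ⟨x₀, hx₀, hx₀q, hx₀y⟩ := exists_dual_two E ![p, ω *ᵥ p] hgv hyT
  obtain ⟨r, hr, hrv⟩ := sing_hit E ![p, ω *ᵥ p, q, y] x₀ (by omega)
  have hrp : polar Q r p = 0 := (hrv 0).trans (hx₀ 0)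
  have hrp' : polar Q r (ω *ᵥ p) = 0 := (hrv 1).trans (hx₀ 1)
  have hqr : polar Q q r ≠ 0 := by
    rw [polar_comm]; exact fun e => hx₀q ((hrv 2).symm.trans e)
  have hrL : r ∉ L ω p := fun hrL => hx₀y <| (hrv 3).symm.trans <| by
    obtain ⟨s, t, e⟩ := mem_L.mp hrL
    show polar Q r y = 0
    rw [← e, polar_add_left, polar_smul_left, polar_smul_left, polar_comm Q p y, polar_comm Q (ω *ᵥ p) y,
      show polar Q y p = 0 from hyp 0, show polar Q y (ω *ᵥ p) = 0 from hyp 1, smul_zero, smul_zero, add_zero]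
  obtain ⟨hpr, hwpr⟩ : polar Q p r = 0 ∧ polar Q (ω *ᵥ p) r = 0 :=
    ⟨by rw [polar_comm]; exact hrp, by rw [polar_comm]; exact hrp'⟩
  obtain ⟨-, -, hpwr⟩ := horth E hpr hwpr
  obtain ⟨l, hl⟩ : ∃ l, l = -(polar Q q r)⁻¹ * polar Q q (ω *ᵥ r) := ⟨_, rfl⟩
  obtain ⟨s, hsdef⟩ : ∃ s, s = ω *ᵥ r + l • r := ⟨_, rfl⟩
  have hsL : s ∈ L ω r := mem_L.mpr ⟨l, 1, by rw [hsdef, one_smul, add_comm]⟩
  have hQs : Q s = 0 := by
    rw [hsdef, QuadraticMap.map_add ⇑Q, E.sim, QuadraticMap.map_smul, hr, polar_smul_right,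
      polar_comm Q (ω *ᵥ r) r, self_omega E hr, mul_zero, smul_zero, smul_zero, add_zero, add_zero]
  have hps : polar Q p s = 0 := by rw [hsdef, polar_add_right, polar_smul_right, hpwr, hpr, smul_zero, add_zero]
  have hqs : polar Q q s = 0 := by
    rw [hsdef, polar_add_right, polar_smul_right, hl, smul_eq_mul]
    field_simp
    ring
  have hrs : polar Q r s = 0 := by
    rw [hsdef, polar_add_right, polar_smul_right, self_omega E hr, polar_self_zero hr, smul_zero, add_zero]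
  have hwps : polar Q (ω *ᵥ p) s = 0 := by
    rw [hsdef, polar_add_right, polar_smul_right, sim_polar E, hpr, hwpr, mul_zero, smul_zero, add_zero]
  refine ⟨p, -(polar Q q r) • s, ⟨hQp, ?_, hp0, ?_, ?_, fun h => ?_⟩,
    comm E hH hHΩ hr hQs hpr hps hqs hrs hin (in2_base E hH hHΩ hr hsL)⟩
  · rw [QuadraticMap.map_smul, hQs, smul_zero]
  · rw [polar_smul_right, hps, smul_zero]
  · rw [polar_smul_right, hwps, smul_zero]
  · rw [Submodule.smul_mem_iff _ (neg_ne_zero.mpr hqr), hsdef] at h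
    exact hrL (mem_of_shift E h)

/-- Moving the second vector of a pair by a base element. -/
theorem step {p s s' : ι → F} (hps : APair E p s) (hps' : APair E p s') (h0 : polar Q s s' = 0)
    (h1 : polar Q (ω *ᵥ s') s ≠ 0) (h : In2 Q H p s) : In2 Q H p s' := by
  obtain ⟨-, hs, -, hp1, hp2, -⟩ := hps
  obtain ⟨-, hs', -, hp1', hp2', -⟩ := hps'
  obtain ⟨d, hd⟩ : ∃ d, d = s' - s := ⟨_, rfl⟩
  have hQd : Q d = 0 := by
    rw [hd, ORefl.map_sub_two, hs', hs, polar_comm Q s' s, h0]; ring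
  obtain ⟨g, hg, hgx, hgc⟩ := base E hQd (-(polar Q (ω *ᵥ s') s)⁻¹)
  have h2 := conj E hH hHΩ h (hH g hg hgc)
  have hdp : polar Q d p = 0 := by
    rw [hd, polar_sub_left, polar_comm Q s' p, hp1', polar_comm Q s p, hp1, sub_zero]
  have hwdp : polar Q (ω *ᵥ d) p = 0 := by
    rw [hd, Matrix.mulVec_sub, polar_sub_left, (horth E hp1' hp2').2.1, (horth E hp1 hp2).2.1, sub_zero]
  have hds : polar Q d s = 0 := by
    rw [hd, polar_sub_left, polar_comm Q s' s, h0, polar_self_zero hs, sub_zero]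
  have hwds : polar Q (ω *ᵥ d) s = polar Q (ω *ᵥ s') s := by
    rw [hd, Matrix.mulVec_sub, polar_sub_left, polar_comm Q (ω *ᵥ s) s, self_omega E hs, sub_zero]
  have ep : (g : Matrix ι ι F) *ᵥ p = p := by
    rw [hgx, rt, polar_smul_left, hdp, hwdp, smul_zero, zero_smul, zero_smul, add_zero, sub_zero]
  have es : (g : Matrix ι ι F) *ᵥ s = s' := by
    rw [hgx, rt, polar_smul_left, hds, hwds, zero_smul, add_zero, smul_eq_mul, neg_mul, inv_mul_cancel₀ h1,
      neg_one_smul, sub_neg_eq_add, hd, add_sub_cancel]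
  rwa [ep, es] at h2

/-- Changing the second vector when the two are not orthogonal. -/
theorem second_of_ne {p s s' : ι → F} (hps : APair E p s) (hps' : APair E p s') (h0 : polar Q s s' ≠ 0)
    (h : In2 Q H p s) : In2 Q H p s' := by
  have hbig := E.big
  have key : ∀ s s' : ι → F, APair E p s → APair E p s' → polar Q s s' ≠ 0 →
      ω *ᵥ s ∉ Submodule.span F (Set.range ![p, ω *ᵥ p, s, s']) := by
    rintro s s' ⟨-, hs, -, hp1, hp2, hnL⟩ ⟨-, -, -, hp1', hp2', -⟩ hne he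
    obtain ⟨f, hf⟩ := (Submodule.mem_span_range_iff_exists_fun F).mp he
    rw [Fin.sum_univ_four] at hf
    simp only [Matrix.cons_val_zero, Matrix.cons_val_one, Matrix.cons_val] at hf
    have h1 := congrArg (fun x => polar Q x s) hf
    simp only [polar_add_left, polar_smul_left, hp1, hp2, polar_self_zero hs, polar_comm Q (ω *ᵥ s) s,
      self_omega E hs, smul_zero, zero_add, smul_eq_mul] at h1
    simp only [mul_zero, zero_add] at h1
    have hf3 : f 3 = 0 := (mul_eq_zero.mp h1).resolve_right (by rwa [polar_comm])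
    refine hnL (mem_of_shift E (l := -f 2) (mem_L.mpr ⟨f 0, f 1, ?_⟩))
    rw [← hf, hf3]
    module
  obtain ⟨x₀, hx₀, hx1, hx2⟩ := exists_dual_two E ![p, ω *ᵥ p, s, s'] (key s s' hps hps' h0) (by
    have := key s' s hps' hps (by rwa [polar_comm])
    rwa [show Set.range ![p, ω *ᵥ p, s', s] = Set.range ![p, ω *ᵥ p, s, s'] by
      simp [Set.pair_comm]] at this)
  obtain ⟨S, hSdef⟩ : ∃ S, S = Submodule.span F (Set.range ![p, ω *ᵥ p, s, s', ω *ᵥ s, ω *ᵥ s']) := ⟨_, rfl⟩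
  have hmem : ∀ i, ![p, ω *ᵥ p, s, s', ω *ᵥ s, ω *ᵥ s'] i ∈ S := fun i =>
    hSdef ▸ Submodule.subset_span ⟨i, rfl⟩
  have hrad : S ⊓ (Radical.reflex_polar E.pnd).perp S ≤ L ω p := by
    obtain ⟨-, hs, -, hp1, hp2, -⟩ := hps
    obtain ⟨-, hs', -, hp1', hp2', -⟩ := hps'
    intro x hx
    obtain ⟨f, hf⟩ := (Submodule.mem_span_range_iff_exists_fun F).mp (hSdef ▸ hx.1)
    rw [Fin.sum_univ_six] at hf
    simp only [Matrix.cons_val_zero, Matrix.cons_val_one, Matrix.cons_val] at hf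
    obtain ⟨-, -, hpws⟩ := horth E hp1 hp2
    obtain ⟨-, -, hpws'⟩ := horth E hp1' hp2'
    have a1 : polar Q x s = 0 := hx.2 s (hmem 2)
    have a2 : polar Q x (ω *ᵥ s) = 0 := hx.2 _ (hmem 4)
    have b1 : polar Q x s' = 0 := hx.2 s' (hmem 3)
    have b2 : polar Q x (ω *ᵥ s') = 0 := hx.2 _ (hmem 5)
    rw [← hf] at a1 a2 b1 b2
    simp only [polar_add_left, polar_smul_left, hp1, hp2, hp1', hp2', hpws, hpws', sim_polar E,
      polar_self_zero hs, polar_self_zero hs', self_omega E hs, self_omega E hs', polar_comm Q (ω *ᵥ s) s,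
      polar_comm Q (ω *ᵥ s') s', mul_zero, smul_zero, zero_add, add_zero] at a1 a2 b1 b2
    obtain ⟨e3, e5⟩ := pairing E (s := s) (s' := s') (fun h => h0 h.1) (e := f 3) (f := f 5)
      (by rwa [polar_add_left, polar_smul_left, polar_smul_left])
      (by rwa [polar_add_left, polar_smul_left, polar_smul_left, sim_polar E])
    obtain ⟨e2, e4⟩ := pairing E (s := s') (s' := s) (fun h => h0 (by rw [polar_comm]; exact h.1)) (e := f 2) (f := f 4)
      (by rwa [polar_add_left, polar_smul_left, polar_smul_left])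
      (by rwa [polar_add_left, polar_smul_left, polar_smul_left, sim_polar E])
    rw [← hf, e2, e3, e4, e5, zero_smul, zero_smul, zero_smul, zero_smul, add_zero, add_zero, add_zero, add_zero]
    exact mem_L.mpr ⟨_, _, rfl⟩
  obtain ⟨u, hu, huS⟩ := sing_hit_sub E S x₀ (by
    have hS := finrank_span_range_le ![p, ω *ᵥ p, s, s', ω *ᵥ s, ω *ᵥ s']
    have hlt := (Submodule.finrank_mono hrad).trans (finrank_L_le (ω := ω) p)
    rw [← hSdef] at hS
    omega)
  have hu' : ∀ i, polar Q u (![p, ω *ᵥ p, s, s', ω *ᵥ s, ω *ᵥ s'] i) =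
      polar Q x₀ (![p, ω *ᵥ p, s, s', ω *ᵥ s, ω *ᵥ s'] i) := fun i => huS _ (hmem i)
  have up : polar Q p u = 0 := by rw [polar_comm]; exact (hu' 0).trans (hx₀ 0)
  have uwp : polar Q (ω *ᵥ p) u = 0 := by rw [polar_comm]; exact (hu' 1).trans (hx₀ 1)
  have us : polar Q u s = 0 := (hu' 2).trans (hx₀ 2)
  have us' : polar Q u s' = 0 := (hu' 3).trans (hx₀ 3)
  have uws : polar Q u (ω *ᵥ s) ≠ 0 := fun e => hx1 ((hu' 4).symm.trans e)
  have uws' : polar Q u (ω *ᵥ s') ≠ 0 := fun e => hx2 ((hu' 5).symm.trans e)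
  have hpu : APair E p u := by
    refine ⟨hps.1, hu, hps.2.2.1, up, uwp, fun hL => uws ?_⟩
    obtain ⟨a, b, e⟩ := mem_L.mp hL
    rw [← e, polar_add_left, polar_smul_left, polar_smul_left, (horth E hps.2.2.2.1 hps.2.2.2.2.1).2.2,
      sim_polar E, hps.2.2.2.1, mul_zero, smul_zero, smul_zero, add_zero]
  refine step E hH hHΩ hpu hps' us' (by rwa [polar_comm]) (step E hH hHΩ hps hpu ?_ ?_ h)
  · rw [polar_comm]; exact us
  · rw [skew E, us, mul_zero, zero_sub, neg_ne_zero]; exact uws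

/-- Changing the second vector. -/
theorem second {p s s' : ι → F} (hps : APair E p s) (hps' : APair E p s') (h : In2 Q H p s) : In2 Q H p s' := by
  have hbig := E.big
  obtain ⟨x₀, hx₀, hx1, hx2⟩ := exists_dual_two E ![p, ω *ᵥ p] hps.2.2.2.2.2 hps'.2.2.2.2.2
  obtain ⟨t, ht, htv⟩ := sing_hit E ![p, ω *ᵥ p, s, s'] x₀ (by omega)
  have hts : polar Q t s ≠ 0 := fun e => hx1 ((htv 2).symm.trans e)
  have hts' : polar Q t s' ≠ 0 := fun e => hx2 ((htv 3).symm.trans e)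
  have hpt : APair E p t := by
    refine ⟨hps.1, ht, hps.2.2.1, ?_, ?_, fun hL => hts ?_⟩
    · rw [polar_comm]; exact (htv 0).trans (hx₀ 0)
    · rw [polar_comm]; exact (htv 1).trans (hx₀ 1)
    · obtain ⟨a, b, e⟩ := mem_L.mp hL
      rw [← e, polar_add_left, polar_smul_left, polar_smul_left, hps.2.2.2.1, hps.2.2.2.2.1, smul_zero, smul_zero,
        add_zero]
  exact second_of_ne E hH hHΩ hpt hps' hts' (second_of_ne E hH hHΩ hps hpt (by rwa [polar_comm]) h)

/-- All pairs. -/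
theorem all_apair {p s : ι → F} (hps : APair E p s) (h : In2 Q H p s) {a b : ι → F} (hab : APair E a b) :
    In2 Q H a b := by
  have hbig := E.big
  by_cases horto : a ∉ L ω p ∧ polar Q p a = 0 ∧ polar Q (ω *ᵥ p) a = 0
  · have hpa : APair E p a := ⟨hps.1, hab.1, hps.2.2.1, horto.2.1, horto.2.2, horto.1⟩
    exact second E hH hHΩ (apair_symm E hpa) hab (symm E hH hHΩ hps.1 hab.1 horto.2.1 (second E hH hHΩ hps hpa h))
  obtain ⟨m, hm, hmp, hmp', hma, hma', hmLp, hmLa⟩ : ∃ m, Q m = 0 ∧ polar Q m p = 0 ∧ polar Q m (ω *ᵥ p) = 0 ∧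
      polar Q m a = 0 ∧ polar Q m (ω *ᵥ a) = 0 ∧ m ∉ L ω p ∧ m ∉ L ω a := by
    by_cases haL : a ∈ L ω p
    · obtain ⟨m, hm, hmv, hmT⟩ := sing_avoid E ![p, ω *ᵥ p] (L ω p) (by have := finrank_L_le (ω := ω) p; omega)
      have hperp : ∀ x ∈ L ω p, polar Q m x = 0 := fun x hx => by
        obtain ⟨s, t, rfl⟩ := mem_L.mp hx
        rw [polar_add_right, polar_smul_right, polar_smul_right, show polar Q m p = 0 from hmv 0,
          show polar Q m (ω *ᵥ p) = 0 from hmv 1, smul_zero, smul_zero, add_zero]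
      refine ⟨m, hm, hmv 0, hmv 1, hperp a haL, hperp _ (omega_stable E haL), hmT, fun hmL => hmT ?_⟩
      obtain ⟨s, t, rfl⟩ := mem_L.mp hmL
      exact add_mem (Submodule.smul_mem _ _ haL) (Submodule.smul_mem _ _ (omega_stable E haL))
    · obtain ⟨m, hm, hmv, hmT⟩ := sing_avoid E ![p, ω *ᵥ p, a, ω *ᵥ a] ⊥ (by rw [finrank_bot]; omega)
      have hne : ¬(polar Q p a = 0 ∧ polar Q (ω *ᵥ p) a = 0) := fun h => horto ⟨haL, h⟩
      have hne' : ¬(polar Q a p = 0 ∧ polar Q (ω *ᵥ a) p = 0) := fun h =>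
        hne ⟨(horth E h.1 h.2).1, (horth E h.1 h.2).2.1⟩
      refine ⟨m, hm, hmv 0, hmv 1, hmv 2, hmv 3, fun hL => hmT ?_, fun hL => hmT ?_⟩
      · obtain ⟨s, t, rfl⟩ := mem_L.mp hL
        obtain ⟨rfl, rfl⟩ := pairing E hne' (hmv 2) (hmv 3)
        simp
      · obtain ⟨s, t, rfl⟩ := mem_L.mp hL
        obtain ⟨rfl, rfl⟩ := pairing E hne (hmv 0) (hmv 1)
        simp
  have hpm : APair E p m := ⟨hps.1, hm, hps.2.2.1, by rw [polar_comm]; exact hmp,
    by rw [polar_comm]; exact hmp', hmLp⟩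
  have ham : APair E a m := ⟨hab.1, hm, hab.2.2.1, by rw [polar_comm]; exact hma,
    by rw [polar_comm]; exact hma', hmLa⟩
  have h1 := symm E hH hHΩ hps.1 hm hpm.2.2.2.1 (second E hH hHΩ hps hpm h)
  have h2 := second E hH hHΩ (apair_symm E hpm) (apair_symm E ham) h1
  exact second E hH hHΩ ham hab (symm E hH hHΩ hm hab.1 (apair_symm E ham).2.2.2.1 h2)

/-- All totally singular lines. -/
theorem all_lines {p s : ι → F} (hps : APair E p s) (h : In2 Q H p s) {a b : ι → F} (ha : Q a = 0) (hb : Q b = 0)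
    (hab : polar Q a b = 0) : In2 Q H a b := by
  have hbig := E.big
  by_cases ha0 : a = 0
  · exact ⟨1, one_mem H, fun x => by rw [rt, ha0, polar_zero_left, Units.val_one, Matrix.one_mulVec]; simp⟩
  by_cases hbL : b ∈ L ω a
  · exact in2_base E hH hHΩ ha hbL
  have hb0 : b ≠ 0 := fun e => hbL (e ▸ zero_mem _)
  by_cases hwab : polar Q (ω *ᵥ a) b = 0
  · exact all_apair E hH hHΩ hps h ⟨ha, hb, ha0, hab, hwab, hbL⟩
  obtain ⟨r, hr, hrv, hrT⟩ : ∃ r, Q r = 0 ∧ (∀ i, polar Q r (![a, ω *ᵥ a, b, ω *ᵥ b] i) = 0) ∧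
      r ∉ L ω a ⊔ L ω b ⊔ Submodule.span F {b} := by
    obtain ⟨r, hr, hrv, hrT⟩ := sing_avoid E ![a, ω *ᵥ a, b, ω *ᵥ b] ⊥ (by rw [finrank_bot]; omega)
    refine ⟨r, hr, hrv, fun hmem => hrT ?_⟩
    rw [sup_eq_left.mpr (show Submodule.span F {b} ≤ L ω a ⊔ L ω b from
      (Submodule.span_singleton_le_iff_mem _ _).mpr (Submodule.mem_sup_right (self_mem_L b)))] at hmem
    obtain ⟨u, hu, w, hw, rfl⟩ := Submodule.mem_sup.mp hmem
    obtain ⟨s₁, s₂, rfl⟩ := mem_L.mp hu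
    obtain ⟨t₁, t₂, rfl⟩ := mem_L.mp hw
    have a1 : polar Q (s₁ • a + s₂ • (ω *ᵥ a) + (t₁ • b + t₂ • (ω *ᵥ b))) a = 0 := hrv 0
    have a2 : polar Q (s₁ • a + s₂ • (ω *ᵥ a) + (t₁ • b + t₂ • (ω *ᵥ b))) (ω *ᵥ a) = 0 := hrv 1
    have b1 : polar Q (s₁ • a + s₂ • (ω *ᵥ a) + (t₁ • b + t₂ • (ω *ᵥ b))) b = 0 := hrv 2
    have b2 : polar Q (s₁ • a + s₂ • (ω *ᵥ a) + (t₁ • b + t₂ • (ω *ᵥ b))) (ω *ᵥ b) = 0 := hrv 3
    have za : ∀ s t : F, polar Q (s • a + t • (ω *ᵥ a)) a = 0 ∧ polar Q (s • a + t • (ω *ᵥ a)) (ω *ᵥ a) = 0 :=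
      fun s t => by
        simp [polar_add_left, polar_smul_left, sim_polar E, polar_self_zero ha, self_omega E ha,
          polar_comm Q (ω *ᵥ a) a]
    have zb : ∀ s t : F, polar Q (s • b + t • (ω *ᵥ b)) b = 0 ∧ polar Q (s • b + t • (ω *ᵥ b)) (ω *ᵥ b) = 0 :=
      fun s t => by
        simp [polar_add_left, polar_smul_left, sim_polar E, polar_self_zero hb, self_omega E hb,
          polar_comm Q (ω *ᵥ b) b]
    rw [polar_add_left, (za _ _).1, zero_add] at a1
    rw [polar_add_left, (za _ _).2, zero_add] at a2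
    rw [polar_add_left, (zb _ _).1, add_zero] at b1
    rw [polar_add_left, (zb _ _).2, add_zero] at b2
    obtain ⟨rfl, rfl⟩ := pairing E (fun h => hwab h.2) a1 a2
    obtain ⟨rfl, rfl⟩ := pairing E (fun h => hwab (horth E h.1 h.2).2.1) b1 b2
    simp
  have hbr : APair E b r := ⟨hb, hr, hb0, by rw [polar_comm]; exact hrv 2, by rw [polar_comm]; exact hrv 3,
    fun h => hrT (Submodule.mem_sup_left (Submodule.mem_sup_right h))⟩
  have hr' : r ∉ Submodule.span F (Set.range ![a, ω *ᵥ a, b]) := fun h => hrT (by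
    refine (Submodule.span_le.mpr ?_ : Submodule.span F (Set.range ![a, ω *ᵥ a, b]) ≤ L ω a ⊔ L ω b ⊔ Submodule.span F {b}) h
    rintro _ ⟨i, rfl⟩
    fin_cases i
    · exact Submodule.mem_sup_left (Submodule.mem_sup_left (self_mem_L a))
    · exact Submodule.mem_sup_left (Submodule.mem_sup_left (omega_mem_L a))
    · exact Submodule.mem_sup_left (Submodule.mem_sup_right (self_mem_L b)))
  obtain ⟨x₀, hx₀, hx0r⟩ := exists_dual E ![a, ω *ᵥ a, b] hr'
  obtain ⟨q, hq, hqv⟩ := sing_hit E ![a, ω *ᵥ a, b, r] x₀ (by omega)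
  have hqr : polar Q q r ≠ 0 := fun e => hx0r ((hqv 3).symm.trans e)
  have haq : APair E a q := ⟨ha, hq, ha0, by rw [polar_comm]; exact (hqv 0).trans (hx₀ 0),
    by rw [polar_comm]; exact (hqv 1).trans (hx₀ 1), fun hL => hqr (by
      obtain ⟨s, t, e⟩ := mem_L.mp hL
      rw [← e, polar_add_left, polar_smul_left, polar_smul_left, polar_comm Q a r, polar_comm Q (ω *ᵥ a) r,
        show polar Q r a = 0 from hrv 0, show polar Q r (ω *ᵥ a) = 0 from hrv 1, smul_zero, smul_zero, add_zero])⟩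
  obtain ⟨k, hk⟩ : ∃ k, k = -(polar Q q r)⁻¹ := ⟨_, rfl⟩
  have hkr : APair E (k • r) b := by
    obtain ⟨h1, h2, h3, h4, h5, h6⟩ := apair_symm E hbr
    have hk0 : k ≠ 0 := hk ▸ neg_ne_zero.mpr (inv_ne_zero hqr)
    refine ⟨by rw [QuadraticMap.map_smul, h1, smul_zero], h2, smul_ne_zero hk0 h3,
      by rw [polar_smul_left, h4, smul_zero], by rw [Matrix.mulVec_smul, polar_smul_left, h5, smul_zero],
      fun hL => h6 ?_⟩
    obtain ⟨s, t, e⟩ := mem_L.mp hL
    exact mem_L.mpr ⟨s * k, t * k, by rw [← e, Matrix.mulVec_smul, smul_smul, smul_smul]⟩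
  have h3 := comm E hH hHΩ hkr.1 hb (by rw [polar_smul_right, polar_comm, show polar Q r a = 0 from hrv 0, smul_zero])
    hab ((hqv 2).trans (hx₀ 2)) hkr.2.2.2.1 (all_apair E hH hHΩ hps h haq) (all_apair E hH hHΩ hps h hkr)
  rwa [polar_smul_right, hk, smul_eq_mul, neg_mul, neg_neg, inv_mul_cancel₀ hqr, one_smul] at h3

/-- An element moving a line generates with the centraliser. -/
theorem omega_le {g : GL ι F} (hg : g ∈ H) {v : ι → F} (hv : Q v = 0)
    (hgv : (g : Matrix ι ι F) *ᵥ (ω *ᵥ v) ∉ L ω ((g : Matrix ι ι F) *ᵥ v)) : omegaGL ⇑Q ≤ H := by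
  have hbig := E.big
  obtain ⟨p, s, hps, hin⟩ := exists_apair E hH hHΩ hg hv hgv
  refine Radical.omega_le_of_siegel E.pnd (by omega) fun w hw hw0 h hh => ?_
  obtain ⟨y, hwy, hx⟩ := hh
  obtain ⟨y₁, y₂, hy, hy₁, hy₂, hw₁, hw₂⟩ : ∃ y₁ y₂, y = y₁ + y₂ ∧ Q y₁ = 0 ∧ Q y₂ = 0 ∧ polar Q w y₁ = 0 ∧
      polar Q w y₂ = 0 := by
    by_cases hy0 : Q y = 0
    · exact ⟨y, 0, (add_zero y).symm, hy0, map_zero Q, hwy, QuadraticMap.polar_zero_right Q w⟩
    obtain ⟨x₀, hx₀, hx₀y⟩ := exists_dual E ![w] (w := y) fun hmem => by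
      rw [Matrix.range_cons, Matrix.range_empty, Set.union_empty] at hmem
      obtain ⟨a, rfl⟩ := Submodule.mem_span_singleton.mp hmem
      exact hy0 (by rw [QuadraticMap.map_smul, hw, smul_zero])
    obtain ⟨y₁, hy₁, hy₁v⟩ := sing_hit E ![w, y] ((Q y / polar Q x₀ y) • x₀) (by omega)
    have e0 : polar Q y₁ w = 0 := by
      have e : polar Q y₁ w = polar Q ((Q y / polar Q x₀ y) • x₀) w := hy₁v 0
      rw [e, polar_smul_left, show polar Q x₀ w = 0 from hx₀ 0, smul_zero]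
    have e1 : polar Q y₁ y = Q y := by
      have e : polar Q y₁ y = polar Q ((Q y / polar Q x₀ y) • x₀) y := hy₁v 1
      rw [e, polar_smul_left, smul_eq_mul, div_mul_cancel₀ _ hx₀y]
    refine ⟨y₁, y - y₁, (add_sub_cancel _ _).symm, hy₁, ?_, by rw [polar_comm]; exact e0,
      by rw [polar_sub_right, hwy, polar_comm, e0, sub_zero]⟩
    rw [ORefl.map_sub_two, hy₁, polar_comm, e1]; ring
  obtain ⟨h₁, hh₁, hx₁⟩ := all_lines E hH hHΩ hps hin hw hy₁ hw₁
  obtain ⟨h₂, hh₂, hx₂⟩ := all_lines E hH hHΩ hps hin hw hy₂ hw₂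
  have e : h = h₁ * h₂ := gl_ext_mulVec fun x => by
    rw [gl_mul_mulVec, hx, hx₁, hx₂, hy, QuadraticMap.map_add ⇑Q, hy₁, hy₂]
    simp only [rt, polar_add_left, polar_add_right, polar_sub_right, polar_smul_right, polar_self_zero hw, hw₂,
      polar_comm Q y₁ w, hw₁, zero_add, smul_zero, add_zero, sub_zero, smul_eq_mul, mul_zero]
    module
  exact e ▸ mul_mem hh₁ hh₂

omit hH hHΩ

/-- A map taking singular vectors into their lines acts by a fixed element of the extension. -/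
theorem coeff (A : (ι → F) →ₗ[F] (ι → F)) (hA : ∀ v, Q v = 0 → A v ∈ L ω v) :
    ∃ p q : F, ∀ x, A x = p • x + q • (ω *ᵥ x) := by
  have hbig := E.big
  choose f f' hf using fun v hv => mem_L.mp (hA v hv)
  obtain ⟨e, he, -, heT⟩ := sing_avoid E (![] : Fin 0 → (ι → F)) ⊥ (by rw [finrank_bot]; omega)
  have he0 : e ≠ 0 := fun h => heT (h ▸ zero_mem _)
  have nbr : ∀ v w : ι → F, ∀ (hv : Q v = 0) (hw : Q w = 0), v ≠ 0 → w ∉ L ω v → polar Q v w = 0 →
      f v hv = f w hw ∧ f' v hv = f' w hw := by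
    intro v w hv hw hv0 hwv hvw
    have hs : Q (v + w) = 0 := by rw [QuadraticMap.map_add ⇑Q, hv, hw, hvw, add_zero, add_zero]
    have h1 := hf (v + w) hs
    rw [map_add, ← hf v hv, ← hf w hw, Matrix.mulVec_add] at h1
    obtain ⟨a1, a2, a3, a4⟩ := indep E hwv (a := f (v + w) hs - f v hv) (b := f' (v + w) hs - f' v hv)
      (a' := f (v + w) hs - f w hw) (b' := f' (v + w) hs - f' w hw) hv0
      (by linear_combination (norm := module) h1)
    rw [sub_eq_zero] at a1 a2 a3 a4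
    exact ⟨a1.symm.trans a3, a2.symm.trans a4⟩
  have all : ∀ v, Q v = 0 → A v = f e he • v + f' e he • (ω *ᵥ v) := by
    intro v hv
    by_cases hv0 : v = 0
    · rw [hv0, map_zero, Matrix.mulVec_zero, smul_zero, smul_zero, add_zero]
    obtain ⟨u, hu, huv, huT⟩ := sing_avoid E ![e, v] (L ω e ⊔ L ω v) (by
      have := Submodule.finrank_add_le_finrank_add_finrank (L ω e) (L ω v)
      have := finrank_L_le (ω := ω) e
      have := finrank_L_le (ω := ω) v
      omega)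
    obtain ⟨b1, b2⟩ := nbr e u he hu he0 (fun h => huT (Submodule.mem_sup_left h)) (by rw [polar_comm]; exact huv 0)
    obtain ⟨c1, c2⟩ := nbr v u hv hu hv0 (fun h => huT (Submodule.mem_sup_right h)) (by rw [polar_comm]; exact huv 1)
    rw [← hf v hv, c1, c2, b1, b2]
  refine ⟨f e he, f' e he, fun x => ?_⟩
  by_cases hx0 : x = 0
  · rw [hx0, map_zero, Matrix.mulVec_zero, smul_zero, smul_zero, add_zero]
  obtain ⟨z, hz⟩ : ∃ z, polar Q z x ≠ 0 := by
    by_contra hcon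
    push Not at hcon
    exact hx0 (E.pnd x fun y => by rw [polar_comm]; exact hcon y)
  obtain ⟨y, hy, hyx⟩ := sing_hit E ![x] ((Q x / polar Q z x) • z) (by omega)
  have e1 : polar Q y x = Q x := by
    have e' : polar Q y x = polar Q ((Q x / polar Q z x) • z) x := hyx 0
    rw [e', polar_smul_left, smul_eq_mul, div_mul_cancel₀ _ hz]
  have hd : Q (x - y) = 0 := by rw [ORefl.map_sub_two, hy, polar_comm, e1]; ring
  have h1 := all (x - y) hd
  rw [map_sub, all y hy, Matrix.mulVec_sub] at h1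
  linear_combination (norm := module) h1

end Cfsg.Agent.Classical.OQExt
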