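/-
Maximality of the normaliser of a quadratic field extension in an orthogonal group, from dimension 10 on.
-/
import Cfsg.Agent.Lib.Classical.OQuadExt
import Cfsg.Agent.Lib.Classical.FieldSubalgebra

set_option autoImplicit false
open Cfsg
open scoped Matrix

namespace Cfsg.Agent.Classical.OQExt

/-- The elements of Ω normalising a quadratic field of similitudes form a maximal subgroup. -/
theorem isMaximal_normalizer {F : Type*} [Field F] [Fintype F] {n : ℕ} (hn : 10 ≤ n) (heven : Even n) (Q : (Fin n → F) → F) (hQ : Cfsg.Geo.IsNondegenerateQuadraticForm Q) (K : Subalgebra F (Matrix (Fin n) (Fin n) F)) (hK : Cfsg.Geo.IsFieldSubalgebra 2 K) (hac : Cfsg.Geo.IsAdjointClosedFor (QuadraticMap.polar Q) K) (hnsa : ¬ Cfsg.Geo.IsSelfAdjointFor (QuadraticMap.polar Q) K) (hsc : ∀ k ∈ K, ∃ c : F, ∀ v : (Fin n → F), Q (Matrix.mulVec k v) = c * Q v) : Cfsg.Geo.IsMaximalIn (Cfsg.Geo.omegaGL Q) (Cfsg.Geo.subalgebraNormalizer K ⊓ Cfsg.Geo.omegaGL Q) := by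
  classical
  obtain ⟨Qf, hQf, hPND⟩ := Cfsg.Agent.Classical.ONotMax.exists_qform hQ
  rw [← hQf] at hsc ⊢
  have hext : ∀ {A B : Matrix (Fin n) (Fin n) F}, (∀ x, A *ᵥ x = B *ᵥ x) → A = B := fun h =>
    Matrix.ext_of_mulVec_single fun i => h _
  obtain ⟨ω, hω, hns⟩ : ∃ ω ∈ K, ∀ r : F, ω ≠ r • (1 : Matrix (Fin n) (Fin n) F) := by
    by_contra hcon
    push Not at hcon
    have h1 := Submodule.finrank_mono (show Subalgebra.toSubmodule K ≤
        Submodule.span F {(1 : Matrix (Fin n) (Fin n) F)} from fun z hz => by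
      obtain ⟨r, rfl⟩ := hcon z hz
      exact Submodule.smul_mem _ _ (Submodule.mem_span_singleton_self _))
    have h2 := (finrank_span_le_card (R := F) ({(1 : Matrix (Fin n) (Fin n) F)} : Set _))
    rw [Subalgebra.finrank_toSubmodule, hK.finrank_eq] at h1
    simp only [Set.toFinset_singleton, Finset.card_singleton] at h2
    omega
  obtain ⟨c, hc⟩ := hsc ω hω
  obtain ⟨c', hc'⟩ := hsc (ω + 1) (add_mem hω (one_mem K))
  obtain ⟨τ, hτ⟩ : ∃ τ, τ = c' - c - 1 := ⟨_, rfl⟩
  have hdiag : ∀ x, QuadraticMap.polar (⇑Qf) (ω *ᵥ x) x = τ * Qf x := fun x => by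
    have h := hc' x
    rw [Matrix.add_mulVec, Matrix.one_mulVec] at h
    rw [QuadraticMap.polar, h, hc, hτ]
    ring
  have hskew : ∀ x y, QuadraticMap.polar (⇑Qf) (ω *ᵥ x) y =
      τ * QuadraticMap.polar (⇑Qf) x y - QuadraticMap.polar (⇑Qf) x (ω *ᵥ y) := fun x y => by
    have h := hdiag (x + y)
    rw [Matrix.mulVec_add, QuadraticMap.polar_add_left, QuadraticMap.polar_add_right, QuadraticMap.polar_add_right,
      hdiag, hdiag, QuadraticMap.map_add ⇑Qf, QuadraticMap.polar_comm _ (ω *ᵥ y) x] at h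
    linear_combination h
  have hsq : ∀ x, ω *ᵥ (ω *ᵥ x) = τ • (ω *ᵥ x) - c • x := fun x => sub_eq_zero.mp (hPND _ fun y => by
    have hsim : QuadraticMap.polar (⇑Qf) (ω *ᵥ x) (ω *ᵥ y) = c * QuadraticMap.polar (⇑Qf) x y := by
      simp only [QuadraticMap.polar, ← Matrix.mulVec_add, hc]
      ring
    rw [QuadraticMap.polar_sub_left, QuadraticMap.polar_sub_left, QuadraticMap.polar_smul_left,
      QuadraticMap.polar_smul_left, hskew (ω *ᵥ x) y, hsim, smul_eq_mul, smul_eq_mul]
    ring)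
  have E : Cfsg.Agent.Classical.OQExt.Ext Qf ω τ c := by
    refine ⟨hPND, ?_, hsq, hdiag, hc, fun l hl => ?_⟩
    · rw [Fintype.card_fin]; obtain ⟨a, rfl⟩ := heven; omega
    · have e : (ω - l • (1 : Matrix (Fin n) (Fin n) F)) * (ω - (τ - l) • (1 : Matrix (Fin n) (Fin n) F)) = 0 := by
        refine hext fun x => ?_
        rw [← Matrix.mulVec_mulVec, Matrix.zero_mulVec]
        simp only [Matrix.sub_mulVec, Matrix.smul_mulVec, Matrix.one_mulVec, Matrix.mulVec_sub, Matrix.mulVec_smul,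
          hsq]
        linear_combination (norm := module) -(congrArg (· • x) hl)
      rcases Cfsg.Agent.Classical.fieldSubalgebra_mul_eq_zero hK (sub_mem hω (K.smul_mem (one_mem K) l)) e with h | h
      · exact hns l (sub_eq_zero.mp h)
      · exact hns _ (sub_eq_zero.mp h)
  have hKspan : ∀ z ∈ K, ∃ a b : F, z = a • (1 : Matrix (Fin n) (Fin n) F) + b • ω := by
    have hli : LinearIndependent F ![(1 : Matrix (Fin n) (Fin n) F), ω] := by
      rw [LinearIndependent.pair_iff]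
      intro a b e
      by_cases hb0 : b = 0
      · rw [hb0, zero_smul, add_zero] at e
        haveI : Nonempty (Fin n) := ⟨⟨0, by omega⟩⟩
        exact ⟨(smul_eq_zero.mp e).resolve_right one_ne_zero, hb0⟩
      · refine absurd ?_ (hns (-(b⁻¹ * a)))
        rw [← sub_eq_zero, show ω - (-(b⁻¹ * a)) • (1 : Matrix (Fin n) (Fin n) F) =
          b⁻¹ • (a • 1 + b • ω) by rw [smul_add, smul_smul, smul_smul, inv_mul_cancel₀ hb0, one_smul]; module,
          e, smul_zero]
    have hle : Submodule.span F (Set.range ![(1 : Matrix (Fin n) (Fin n) F), ω]) ≤ Subalgebra.toSubmodule K := by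
      rw [Submodule.span_le]
      rintro _ ⟨i, rfl⟩
      fin_cases i
      · exact one_mem K
      · exact hω
    have heq := Submodule.eq_of_le_of_finrank_eq hle (by
      rw [finrank_span_eq_card hli, Subalgebra.finrank_toSubmodule, hK.finrank_eq, Fintype.card_fin])
    intro z hz
    rw [← Subalgebra.mem_toSubmodule, ← heq, Submodule.mem_span_range_iff_exists_fun] at hz
    obtain ⟨d, hd⟩ := hz
    exact ⟨d 0, d 1, by rw [← hd]; simp [Fin.sum_univ_two]⟩
  have hcomm : ∀ g : Matrix.GeneralLinearGroup (Fin n) F,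
      (∀ x, (g : Matrix (Fin n) (Fin n) F) *ᵥ (ω *ᵥ x) = ω *ᵥ ((g : Matrix (Fin n) (Fin n) F) *ᵥ x)) →
      g ∈ Cfsg.Geo.subalgebraNormalizer K := by
    intro g hg
    have hcz : ∀ z ∈ K, (g : Matrix (Fin n) (Fin n) F) * z = z * (g : Matrix (Fin n) (Fin n) F) := fun z hz => by
      obtain ⟨a, b, rfl⟩ := hKspan z hz
      refine hext fun x => ?_
      simp only [← Matrix.mulVec_mulVec, Matrix.add_mulVec, Matrix.smul_mulVec, Matrix.one_mulVec, Matrix.mulVec_add,
        Matrix.mulVec_smul, hg]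
    intro z
    refine ⟨fun hz => ?_, fun hz => ?_⟩
    · rwa [hcz z hz, Matrix.mul_assoc, ← Units.val_mul, mul_inv_cancel, Units.val_one, Matrix.mul_one]
    · have := hcz _ hz
      simp only [Matrix.mul_assoc, Units.inv_mul, Matrix.mul_one] at this
      have e := (Units.mul_right_inj g).mp this
      rw [← Matrix.mul_assoc] at e
      exact e ▸ hz
  refine ⟨lt_of_le_of_ne inf_le_right fun e => ?_, fun H hH hHS => or_iff_not_imp_left.mpr fun hne =>
    le_antisymm hHS ?_⟩
  · refine Cfsg.Agent.Classical.OQExt.exists_moving E fun g hg x => ?_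
    obtain ⟨a, b, hab⟩ := hKspan _ ((inf_eq_right.mp e hg ω).mp hω)
    have h := congrArg (fun M => M *ᵥ ((g : Matrix (Fin n) (Fin n) F) *ᵥ x)) hab
    simp only [← Matrix.mulVec_mulVec, Cfsg.Agent.Classical.gl_inv_mulVec_cancel, Matrix.add_mulVec,
      Matrix.smul_mulVec, Matrix.one_mulVec] at h
    exact Cfsg.Agent.Classical.OQExt.mem_L.mpr ⟨a, b, h.symm⟩
  obtain ⟨g, hg, hgn⟩ : ∃ g ∈ H, g ∉ Cfsg.Geo.subalgebraNormalizer K := by
    by_contra hcon
    push Not at hcon
    exact hne (le_antisymm (le_inf hcon hHS) hH)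
  by_cases hmove : ∃ v, Qf v = 0 ∧ (g : Matrix (Fin n) (Fin n) F) *ᵥ (ω *ᵥ v) ∉
      Cfsg.Agent.Classical.OQExt.L ω ((g : Matrix (Fin n) (Fin n) F) *ᵥ v)
  · obtain ⟨v, hv, hgv⟩ := hmove
    exact Cfsg.Agent.Classical.OQExt.omega_le E (fun k hk hkc => hH ⟨hcomm k hkc, hk⟩) hHS hg hv hgv
  exfalso
  push Not at hmove
  obtain ⟨p, q, hpq⟩ := Cfsg.Agent.Classical.OQExt.coeff E
    (Matrix.toLin' (((g⁻¹ : Matrix.GeneralLinearGroup (Fin n) F) : Matrix (Fin n) (Fin n) F) * ω *
      (g : Matrix (Fin n) (Fin n) F))) fun v hv => by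
    rw [Matrix.toLin'_apply, ← Matrix.mulVec_mulVec, ← Matrix.mulVec_mulVec]
    by_cases hv0 : v = 0
    · simp [hv0]
    obtain ⟨a, b, e⟩ := Cfsg.Agent.Classical.OQExt.mem_L.mp (hmove v hv)
    have hb0 : b ≠ 0 := fun hb0 => by
      rw [hb0, zero_smul, add_zero, ← Matrix.mulVec_smul] at e
      exact Cfsg.Agent.Classical.OQExt.omega_not_smul E hv0 a (Cfsg.Agent.Classical.gl_mulVec_injective g e).symm
    refine Cfsg.Agent.Classical.OQExt.mem_L.mpr ⟨-(b⁻¹ * a), b⁻¹, Cfsg.Agent.Classical.gl_mulVec_injective g ?_⟩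
    dsimp only
    rw [Cfsg.Agent.Classical.gl_mulVec_inv_cancel, Matrix.mulVec_add, Matrix.mulVec_smul, Matrix.mulVec_smul, ← e,
      smul_add, smul_smul, smul_smul, inv_mul_cancel₀ hb0, one_smul]
    module
  simp only [Matrix.toLin'_apply] at hpq
  have hM : ((g⁻¹ : Matrix.GeneralLinearGroup (Fin n) F) : Matrix (Fin n) (Fin n) F) * ω *
      (g : Matrix (Fin n) (Fin n) F) = p • 1 + q • ω := hext fun x => by
    simp only [Matrix.add_mulVec, Matrix.smul_mulVec, Matrix.one_mulVec, hpq]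
  have hω' : ω = p • 1 + q • ((g : Matrix (Fin n) (Fin n) F) * ω *
      ((g⁻¹ : Matrix.GeneralLinearGroup (Fin n) F) : Matrix (Fin n) (Fin n) F)) := by
    have := congrArg (fun M => (g : Matrix (Fin n) (Fin n) F) * M *
      ((g⁻¹ : Matrix.GeneralLinearGroup (Fin n) F) : Matrix (Fin n) (Fin n) F)) hM
    simp only [← Matrix.mul_assoc, ← Units.val_mul, mul_inv_cancel, Units.val_one, Matrix.one_mul] at this
    rw [Matrix.mul_assoc, ← Units.val_mul, mul_inv_cancel, Units.val_one, Matrix.mul_one] at this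
    conv_lhs => rw [this]
    simp [Matrix.mul_add, Matrix.add_mul, ← Units.val_mul]
  have hq : q ≠ 0 := fun e => hns p (by rw [e, zero_smul, add_zero] at hω'; exact hω')
  apply hgn
  intro z
  refine ⟨fun hz => ?_, fun hz => ?_⟩
  · obtain ⟨a, b, rfl⟩ := hKspan z hz
    have e : (g : Matrix (Fin n) (Fin n) F) * ω *
        ((g⁻¹ : Matrix.GeneralLinearGroup (Fin n) F) : Matrix (Fin n) (Fin n) F) = q⁻¹ • (ω - p • 1) := by
      conv_rhs => rw [hω']
      rw [add_sub_cancel_left, smul_smul, inv_mul_cancel₀ hq, one_smul]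
    rw [Matrix.mul_add, Matrix.add_mul, Matrix.mul_smul, Matrix.smul_mul, Matrix.mul_smul, Matrix.smul_mul, e,
      Matrix.mul_one, ← Units.val_mul, mul_inv_cancel, Units.val_one]
    exact add_mem (K.smul_mem (one_mem K) a) (K.smul_mem (K.smul_mem (sub_mem hω (K.smul_mem (one_mem K) p)) _) b)
  · obtain ⟨a, b, e⟩ := hKspan _ hz
    have e' : z = a • 1 + b • (p • 1 + q • ω) := by
      rw [← hM]
      have := congrArg (fun M => ((g⁻¹ : Matrix.GeneralLinearGroup (Fin n) F) : Matrix (Fin n) (Fin n) F) * M *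
        (g : Matrix (Fin n) (Fin n) F)) e
      simp only [← Matrix.mul_assoc, ← Units.val_mul, inv_mul_cancel, Units.val_one, Matrix.one_mul] at this
      rw [Matrix.mul_assoc, ← Units.val_mul, inv_mul_cancel, Units.val_one, Matrix.mul_one] at this
      rw [this]
      simp [Matrix.mul_add, Matrix.add_mul, ← Units.val_mul]
    rw [e']
    exact add_mem (K.smul_mem (one_mem K) a) (K.smul_mem (add_mem (K.smul_mem (one_mem K) p) (K.smul_mem hω q)) b)

end Cfsg.Agent.Classical.OQExt
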