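/-
The similarities of a quadratic form are maximal in the special linear group.
-/
import Cfsg.Agent.Lib.Classical.OSimExist
import Cfsg.Agent.Lib.Classical.LinOutcome

set_option autoImplicit false
set_option linter.unusedSectionVars false
set_option linter.style.haveILetI false

namespace Cfsg.Agent.Classical.OSim

open Matrix Cfsg.Geo
open Cfsg.Agent.Classical

universe u

variable {ι : Type} [Fintype ι] [DecidableEq ι] {F : Type u} [Field F] {Q : (ι → F) → F}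
  {K : Subgroup (GL ι F)}

/-- The polar form. -/
local notation "⟪" x ", " y "⟫" => QuadraticMap.polar Q x y

/-- The subgroup holds the transvection with centre `v` and axis orthogonal to `a`. -/
def Has (Q : (ι → F) → F) (K : Subgroup (GL ι F)) (v a : ι → F) : Prop :=
  ∃ t ∈ K, ∀ x, (t : Matrix ι ι F) *ᵥ x = x + QuadraticMap.polar Q x a • v

/-- A relation stable under the special isometries and additive in its second argument. -/
structure Rel (Q : (ι → F) → F) (R : (ι → F) → (ι → F) → Prop) : Prop where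
  conj : ∀ h ∈ quadSimilarityGroup Q ⊓ specialLinear ι F,
    (∀ x y, QuadraticMap.polar Q ((h : Matrix ι ι F) *ᵥ x) ((h : Matrix ι ι F) *ᵥ y) = QuadraticMap.polar Q x y) →
    ∀ c a, R c a → R ((h : Matrix ι ι F) *ᵥ c) ((h : Matrix ι ι F) *ᵥ a)
  add : ∀ c x y, QuadraticMap.polar Q c x = 0 → QuadraticMap.polar Q c y = 0 → R c x → R c y → R c (x + y)
  neg : ∀ c x, QuadraticMap.polar Q c x = 0 → R c x → R c (-x)

variable (Δ : Data Q)

include Δ

theorem conj_mulVec {h : GL ι F}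
    (hiso : ∀ x y, ⟪(h : Matrix ι ι F) *ᵥ x, (h : Matrix ι ι F) *ᵥ y⟫ = ⟪x, y⟫) (y a : ι → F) :
    ⟪((h⁻¹ : GL ι F) : Matrix ι ι F) *ᵥ y, a⟫ = ⟪y, (h : Matrix ι ι F) *ᵥ a⟫ := by
  rw [← hiso, gl_mulVec_inv_cancel]

theorem has_conj (hK : quadSimilarityGroup Q ⊓ specialLinear ι F ≤ K) {h : GL ι F}
    (hh : h ∈ quadSimilarityGroup Q ⊓ specialLinear ι F)
    (hiso : ∀ x y, ⟪(h : Matrix ι ι F) *ᵥ x, (h : Matrix ι ι F) *ᵥ y⟫ = ⟪x, y⟫) {v a : ι → F}
    (hva : Has Q K v a) : Has Q K ((h : Matrix ι ι F) *ᵥ v) ((h : Matrix ι ι F) *ᵥ a) := by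
  obtain ⟨t, ht, htv⟩ := hva
  refine ⟨h * t * h⁻¹, K.mul_mem (K.mul_mem (hK hh) ht) (K.inv_mem (hK hh)), fun x => ?_⟩
  rw [gl_mul_mulVec, gl_mul_mulVec, htv, Matrix.mulVec_add, gl_mulVec_inv_cancel, Matrix.mulVec_smul,
    conj_mulVec Δ hiso]

theorem has_neg {v a : ι → F} (hva : ⟪v, a⟫ = 0) (h : Has Q K v a) : Has Q K v (-a) := by
  obtain ⟨t, ht, htv⟩ := h
  refine ⟨t⁻¹, K.inv_mem ht, fun x => gl_mulVec_injective t ?_⟩
  dsimp only
  rw [gl_mulVec_inv_cancel, htv, add_left Δ, smul_left Δ, hva, mul_zero, add_zero, add_assoc, ← add_smul,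
    neg_right Δ, neg_add_cancel, zero_smul, add_zero]

theorem rel_has (hK : quadSimilarityGroup Q ⊓ specialLinear ι F ≤ K) : Rel Q (Has Q K) where
  conj h hh hiso c a hca := has_conj Δ hK hh hiso hca
  neg c x hx h := has_neg Δ hx h
  add c x y hx hy hcx hcy := by
    obtain ⟨t, ht, htv⟩ := hcx
    obtain ⟨s, hs, hsv⟩ := hcy
    refine ⟨t * s, K.mul_mem ht hs, fun z => ?_⟩
    rw [gl_mul_mulVec, hsv, htv, add_left Δ, smul_left Δ, hx, mul_zero, add_zero, add_right Δ, add_smul]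
    abel

theorem rel_flip (hK : quadSimilarityGroup Q ⊓ specialLinear ι F ≤ K) :
    Rel Q (fun c x => Has Q K x c) where
  conj h hh hiso c a hca := has_conj Δ hK hh hiso hca
  neg c x hx h := by
    obtain ⟨t, ht, htv⟩ := h
    refine ⟨t⁻¹, K.inv_mem ht, fun z => gl_mulVec_injective t ?_⟩
    dsimp only
    rw [gl_mulVec_inv_cancel, htv, add_left Δ, smul_left Δ, neg_left Δ, symm Δ x c, hx, neg_zero, mul_zero,
      add_zero, smul_neg, neg_add_cancel_right]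
  add c x y hx hy hcx hcy := by
    obtain ⟨t, ht, htv⟩ := hcx
    obtain ⟨s, hs, hsv⟩ := hcy
    refine ⟨t * s, K.mul_mem ht hs, fun z => ?_⟩
    rw [gl_mul_mulVec, hsv, htv, add_left Δ, smul_left Δ, symm Δ y c, hy, mul_zero, add_zero, smul_add]
    abel

variable [Fintype F]

/-- Every scalar is a combination of two squares. -/
theorem two_sq {α : F} (hα : α ≠ 0) (n : F) : ∃ s r : F, α * s ^ 2 + α * r ^ 2 = n := by
  obtain ⟨s, r, h⟩ := FiniteField.exists_root_sum_quadratic (R := F)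
    (f := Polynomial.C α * Polynomial.X ^ 2) (g := Polynomial.C α * Polynomial.X ^ 2 + Polynomial.C (-n))
    (Polynomial.degree_C_mul_X_pow 2 hα)
    (by rw [Polynomial.degree_add_C (by rw [Polynomial.degree_C_mul_X_pow 2 hα]; norm_num),
      Polynomial.degree_C_mul_X_pow 2 hα]; rfl)
    (FiniteField.odd_card_of_char_ne_two fun hc => Δ.h2 (by
      haveI := ringChar.of_eq hc
      exact CharTwo.two_eq_zero))
  simp only [Polynomial.eval_mul, Polynomial.eval_C, Polynomial.eval_pow, Polynomial.eval_X,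
    Polynomial.eval_add] at h
  exact ⟨s, r, by linear_combination h⟩

/-- An isotropic vector meeting a pole gives its line and its orthogonal as poles. -/
theorem spread_line {R : (ι → F) → (ι → F) → Prop} (hR : Rel Q R) {c p u : ι → F} (hcp : ⟪c, p⟫ = 0) (hu : Q u = 0)
    (huc : ⟪u, c⟫ = 0) (hup : ⟪u, p⟫ = 1) (h : R c p) :
    (∀ t : F, R c (t • u)) ∧ ∀ z, ⟪c, z⟫ = 0 → ⟪u, z⟫ = 0 → R c z := by
  have hcu : ⟪c, u⟫ = 0 := by rw [symm Δ]; exact huc
  have dlt : ∀ z, ⟪c, z⟫ = 0 → ⟪u, z⟫ = 0 → R c (z + (-(⟪p, z⟫ + Q z)) • u) := fun z hcz huz => by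
    obtain ⟨g, hg, hgv, hgi⟩ := exists_eichler_one Δ hu huz
    have e1 : (g : Matrix ι ι F) *ᵥ c = c := by
      rw [hgv, hcu, hcz]; simp
    have e2 : (g : Matrix ι ι F) *ᵥ p = p + (z + (-(⟪p, z⟫ + Q z)) • u) := by
      rw [hgv, symm Δ p u, hup]; module
    have h' := hR.conj g hg hgi c p h
    rw [e1, e2] at h'
    have h1 := hR.add c _ (-p) (by
      rw [add_right Δ, add_right Δ, hcp, hcz, smul_right Δ, hcu, mul_zero, add_zero, add_zero])
      (by rw [neg_right Δ, hcp, neg_zero]) h' (hR.neg c p hcp h)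
    rwa [show p + (z + (-(⟪p, z⟫ + Q z)) • u) + -p = z + (-(⟪p, z⟫ + Q z)) • u by abel] at h1
  have hline : ∀ t : F, R c (t • u) := by
    obtain ⟨w, hw, hws⟩ := exists_aniso Δ ![c, u] (by have := Δ.hn; omega)
    have hwc : ∀ s : F, ⟪c, s • w⟫ = 0 := fun s => by rw [smul_right Δ, symm Δ c w, show ⟪w, c⟫ = 0 from hws 0, mul_zero]
    have hwu : ∀ s : F, ⟪u, s • w⟫ = 0 := fun s => by rw [smul_right Δ, symm Δ u w, show ⟪w, u⟫ = 0 from hws 1, mul_zero]
    have hsq : ∀ s : F, R c ((-2 * Q w * s ^ 2) • u) := fun s => by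
      have h1 := dlt (s • w) (hwc s) (hwu s)
      have h2 := dlt ((-s) • w) (hwc (-s)) (hwu (-s))
      have h3 := hR.add c _ _ (by rw [add_right Δ, hwc, smul_right Δ, hcu, mul_zero, add_zero])
        (by rw [add_right Δ, hwc, smul_right Δ, hcu, mul_zero, add_zero]) h1 h2
      convert h3 using 1
      simp only [quad_smul Δ, smul_right Δ]
      module
    intro t
    obtain ⟨s, r, hsr⟩ := two_sq Δ (α := -2 * Q w) (mul_ne_zero (neg_ne_zero.mpr Δ.h2) hw) t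
    have h3 := hR.add c _ _ (by rw [smul_right Δ, hcu, mul_zero]) (by rw [smul_right Δ, hcu, mul_zero]) (hsq s) (hsq r)
    rw [← add_smul, hsr] at h3
    exact h3
  refine ⟨hline, fun z hcz huz => ?_⟩
  have h3 := hR.add c _ _ (by rw [add_right Δ, hcz, smul_right Δ, hcu, mul_zero, add_zero])
    (by rw [smul_right Δ, hcu, mul_zero]) (dlt z hcz huz) (hline (⟪p, z⟫ + Q z))
  rwa [add_assoc, ← add_smul, neg_add_cancel, zero_smul, add_zero] at h3

/-- A transvection in the group makes one whose axis has an isotropic pole. -/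
theorem to_iso {R : (ι → F) → (ι → F) → Prop} (hR : Rel Q R) {v a : ι → F} (hv : v ≠ 0) (hva : ⟪v, a⟫ = 0)
    (ha : a ∉ Submodule.span F (Set.range ![v])) (h : R v a) :
    ∃ b, Q b = 0 ∧ b ≠ 0 ∧ ⟪v, b⟫ = 0 ∧ v ∉ Submodule.span F (Set.range ![b]) ∧ R v b := by
  obtain ⟨z, hz, hzv, hza⟩ := exists_iso_val Δ ha (by have := Δ.hn; omega)
  have hzv' : ⟪z, v⟫ = 0 := hzv 0
  have h1 := (spread_line Δ hR hva hz hzv' hza h).1 1
  rw [one_smul] at h1
  refine ⟨z, hz, fun e => ?_, by rw [symm Δ]; exact hzv', fun hmem => ?_, h1⟩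
  · rw [e, zero_left Δ] at hza
    exact zero_ne_one hza
  · obtain ⟨k, hk⟩ := mem_span1 Δ hmem
    rw [hk, smul_left Δ, hza, mul_one] at hva
    exact hv (by rw [hk, hva, zero_smul])

/-- An isotropic centre with one isotropic pole has all poles. -/
theorem spread {R : (ι → F) → (ι → F) → Prop} (hR : Rel Q R) {c b : ι → F} (hb : Q b = 0)
    (hcb : ⟪c, b⟫ = 0) (hbc : b ∉ Submodule.span F (Set.range ![c])) (h : R c b) :
    ∀ w, ⟪c, w⟫ = 0 → R c w := by
  obtain ⟨u, hu, hus, hub⟩ := exists_iso_val Δ hbc (by have := Δ.hn; omega)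
  have huc : ⟪u, c⟫ = 0 := hus 0
  have hcu : ⟪c, u⟫ = 0 := by rw [symm Δ]; exact huc
  have hl := (spread_line Δ hR hcb hu huc hub h).1
  have hp := (spread_line Δ hR hcu hb (by rw [symm Δ]; exact hcb) (by rw [symm Δ]; exact hub)
    (by simpa using hl 1)).2
  intro w hw
  obtain ⟨t, ht⟩ : ∃ t, t = ⟪b, w⟫ := ⟨_, rfl⟩
  have hc1 : ⟪c, w - t • u⟫ = 0 := by rw [sub_right Δ, smul_right Δ, hw, hcu, mul_zero, sub_zero]
  have h3 := hR.add c _ _ hc1 (by rw [smul_right Δ, hcu, mul_zero])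
    (hp _ hc1 (by rw [sub_right Δ, smul_right Δ, symm Δ b u, hub, mul_one, ht, sub_self])) (hl t)
  rwa [sub_add_cancel] at h3

/-- One transvection gives all. -/
theorem all_has (hK : quadSimilarityGroup Q ⊓ specialLinear ι F ≤ K) {v a : ι → F} (hv : v ≠ 0)
    (hva : ⟪v, a⟫ = 0) (ha : a ∉ Submodule.span F (Set.range ![v])) (h : Has Q K v a) :
    ∀ x y, ⟪x, y⟫ = 0 → Has Q K x y := by
  obtain ⟨b, hb, hb0, hvb, hvb', h1⟩ := to_iso Δ (rel_has Δ hK) hv hva ha h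
  obtain ⟨c, hc, hc0, hbc, hbc', h2⟩ := to_iso Δ (rel_flip Δ hK) (v := b) (a := v) hb0
    (by rw [symm Δ]; exact hvb) hvb' h1
  have hcb : ⟪c, b⟫ = 0 := by rw [symm Δ]; exact hbc
  have hA := spread Δ (rel_has Δ hK) hb hcb hbc' h2
  have hmove : ∀ p q, Q p = 0 → Q q = 0 → p ≠ 0 → ⟪p, q⟫ ≠ 0 → (∀ w, ⟪p, w⟫ = 0 → Has Q K p w) →
      ∀ w, ⟪q, w⟫ = 0 → Has Q K q w := fun p q hp hq hp0 hpq hall w hw => by
    obtain ⟨b', hb', hs, ht⟩ := exists_iso_wide Δ ![p, q] ![p] (by have := Δ.hn; omega)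
    have e1 : ⟪b', p⟫ = 0 := hs 0
    have e2 : ⟪b', q⟫ = 0 := hs 1
    have hp' : p ∉ Submodule.span F (Set.range ![b']) := fun hm => by
      obtain ⟨k, hk⟩ := mem_span1 Δ hm
      have hk0 : k ≠ 0 := fun e => hp0 (by rw [hk, e, zero_smul])
      refine ht ?_
      rw [show b' = k⁻¹ • p by rw [hk, smul_smul, inv_mul_cancel₀ hk0, one_smul]]
      exact Submodule.smul_mem _ _ (Submodule.subset_span ⟨0, rfl⟩)
    have h3 := spread Δ (rel_flip Δ hK) hp e1 hp' (hall b' (by rw [symm Δ]; exact e1)) q e2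
    refine spread Δ (rel_has Δ hK) hb' (by rw [symm Δ]; exact e2) (fun hm => hpq ?_) h3 w hw
    obtain ⟨k, hk⟩ := mem_span1 Δ hm
    have hk0 : k ≠ 0 := fun e => ht (by rw [hk, e, zero_smul]; exact zero_mem _)
    rw [hk, smul_left Δ, symm Δ q p] at e1
    exact (mul_eq_zero.mp e1).resolve_left hk0
  have hiso : ∀ c', Q c' = 0 → ∀ w, ⟪c', w⟫ = 0 → Has Q K c' w := fun c' hc' w hw => by
    by_cases hc'0 : c' = 0
    · subst hc'0
      exact ⟨1, K.one_mem, fun x => by simp⟩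
    by_cases hcc : ⟪c, c'⟫ = 0
    swap
    · exact hmove c c' hc hc' hc0 hcc hA w hw
    by_cases hdep : c ∈ Submodule.span F (Set.range ![c - c'])
    · obtain ⟨k, hk⟩ := mem_span1 Δ hdep
      have hk0 : k ≠ 0 := fun e => hc0 (by rw [hk, e, zero_smul])
      have e : c' = (1 - k⁻¹) • c := by
        rw [sub_smul, one_smul, show k⁻¹ • c = c - c' by conv_lhs => rw [hk, smul_smul, inv_mul_cancel₀ hk0, one_smul]]
        abel
      have hl : (1 - k⁻¹) ≠ 0 := fun e' => hc'0 (by rw [e, e', zero_smul])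
      obtain ⟨t, ht, htv⟩ := hA ((1 - k⁻¹) • w) (by
        rw [e, smul_left Δ] at hw
        rw [smul_right Δ, hw])
      exact ⟨t, ht, fun x => by rw [htv, smul_right Δ, e, smul_smul, mul_comm ⟪x, w⟫]⟩
    obtain ⟨d, hd, hds, hdc⟩ := exists_iso_val Δ hdep (by have := Δ.hn; omega)
    have hdc' : ⟪d, c'⟫ = 1 := by
      have h' : ⟪d, c - c'⟫ = 0 := hds 0
      rw [sub_right Δ, hdc, sub_eq_zero] at h'
      exact h'.symm
    exact hmove d c' hd hc' (fun e => by rw [e, zero_left Δ] at hdc; exact zero_ne_one hdc)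
      (by rw [hdc']; exact one_ne_zero)
      (fun w hw => hmove c d hc hd hc0 (by rw [symm Δ, hdc]; exact one_ne_zero) hA w hw) w hw
  intro x y hxy
  by_cases hx : Q x = 0
  · exact hiso x hx y hxy
  have hxy' : x ∉ Submodule.span F (Set.range ![y]) := fun hm => by
    obtain ⟨k, rfl⟩ := mem_span1 Δ hm
    rw [smul_left Δ, self_eq Δ] at hxy
    refine hx ?_
    rw [quad_smul Δ, sq, mul_assoc]
    rcases mul_eq_zero.mp hxy with e | e
    · rw [e, zero_mul]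
    · rw [(mul_eq_zero.mp e).resolve_left Δ.h2, mul_zero, mul_zero]
  obtain ⟨z, hz, hzy, hzx⟩ := exists_iso_val Δ hxy' (by have := Δ.hn; omega)
  have hzy' : ⟪z, y⟫ = 0 := hzy 0
  have hc1 : ⟪x + (-Q x) • z, y⟫ = 0 := by rw [add_left Δ, smul_left Δ, hxy, hzy', mul_zero, add_zero]
  have hc2 : ⟪Q x • z, y⟫ = 0 := by rw [smul_left Δ, hzy', mul_zero]
  have h1' := hiso _ (by rw [quad_sum Δ, quad_smul Δ, hz, smul_right Δ, symm Δ x z, hzx]; ring) y hc1
  have h2' := hiso _ (by rw [quad_smul Δ, hz, mul_zero]) y hc2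
  have h3 := (rel_flip Δ hK).add y _ _ (by rw [symm Δ]; exact hc1) (by rw [symm Δ]; exact hc2) h1' h2'
  rwa [neg_smul, neg_add_cancel_right] at h3

/-- A commutator with an isometry moving one pole gives a transvection. -/
theorem comm_pole (hK : quadSimilarityGroup Q ⊓ specialLinear ι F ≤ K) {u1 u2 a1 a2 δ : ι → F} {X : GL ι F}
    (hX : X ∈ K) (hXv : ∀ x, (X : Matrix ι ι F) *ᵥ x = x + ⟪x, a1⟫ • u1 + ⟪x, a2⟫ • u2) (hu1 : u1 ≠ 0)
    {g : GL ι F} (hg : g ∈ quadSimilarityGroup Q ⊓ specialLinear ι F)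
    (hgi : ∀ x y, ⟪(g : Matrix ι ι F) *ᵥ x, (g : Matrix ι ι F) *ᵥ y⟫ = ⟪x, y⟫)
    (g1 : (g : Matrix ι ι F) *ᵥ u1 = u1) (g2 : (g : Matrix ι ι F) *ᵥ u2 = u2)
    (g3 : (g : Matrix ι ι F) *ᵥ a2 = a2) (hga : (g : Matrix ι ι F) *ᵥ a1 = a1 + δ)
    (hδ : δ ∉ Submodule.span F (Set.range ![u1])) :
    ∃ v a, v ≠ 0 ∧ ⟪v, a⟫ = 0 ∧ a ∉ Submodule.span F (Set.range ![v]) ∧ Has Q K v a := by
  have hd : ∀ u, (g : Matrix ι ι F) *ᵥ u = u → ⟪u, δ⟫ = 0 := fun u hu => by
    have := hgi u a1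
    rw [hu, hga, add_right Δ, add_eq_left] at this
    exact this
  refine ⟨u1, δ, hu1, hd u1 g1, hδ, g * X * g⁻¹ * X⁻¹,
    K.mul_mem (K.mul_mem (K.mul_mem (hK hg) hX) (K.inv_mem (hK hg))) (K.inv_mem hX), fun x => ?_⟩
  obtain ⟨y, hy⟩ : ∃ y, y = ((X⁻¹ : GL ι F) : Matrix ι ι F) *ᵥ x := ⟨_, rfl⟩
  have hxy : x = y + ⟪y, a1⟫ • u1 + ⟪y, a2⟫ • u2 := by rw [← hXv, hy, gl_mulVec_inv_cancel]
  rw [gl_mul_mulVec, gl_mul_mulVec, gl_mul_mulVec, ← hy, hXv, Matrix.mulVec_add, Matrix.mulVec_add,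
    gl_mulVec_inv_cancel, Matrix.mulVec_smul, Matrix.mulVec_smul, conj_mulVec Δ hgi, conj_mulVec Δ hgi,
    g1, g2, g3, hga, add_right Δ]
  have hxd : ⟪x, δ⟫ = ⟪y, δ⟫ := by
    rw [hxy, add_left Δ, add_left Δ, smul_left Δ, smul_left Δ, hd u1 g1, hd u2 g2]; ring
  rw [hxd, add_smul]
  conv_rhs => rw [hxy]
  abel

/-- A commutator with an isometry moving one centre gives a transvection. -/
theorem comm_centre (hK : quadSimilarityGroup Q ⊓ specialLinear ι F ≤ K) {u1 u2 a1 a2 δ : ι → F} {X : GL ι F}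
    (hX : X ∈ K) (hXv : ∀ x, (X : Matrix ι ι F) *ᵥ x = x + ⟪x, a1⟫ • u1 + ⟪x, a2⟫ • u2)
    (h11 : ⟪u1, a1⟫ = 0) (h12 : ⟪u1, a2⟫ = 0) (h21 : ⟪u2, a1⟫ = 0) (h22 : ⟪u2, a2⟫ = 0) (ha1 : a1 ≠ 0)
    {g : GL ι F} (hg : g ∈ quadSimilarityGroup Q ⊓ specialLinear ι F)
    (hgi : ∀ x y, ⟪(g : Matrix ι ι F) *ᵥ x, (g : Matrix ι ι F) *ᵥ y⟫ = ⟪x, y⟫)
    (g1 : (g : Matrix ι ι F) *ᵥ a1 = a1) (g2 : (g : Matrix ι ι F) *ᵥ a2 = a2)
    (g3 : (g : Matrix ι ι F) *ᵥ u2 = u2) (hgu : (g : Matrix ι ι F) *ᵥ u1 = u1 + δ)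
    (hδ : δ ∉ Submodule.span F (Set.range ![a1])) :
    ∃ v a, v ≠ 0 ∧ ⟪v, a⟫ = 0 ∧ a ∉ Submodule.span F (Set.range ![v]) ∧ Has Q K v a := by
  refine ⟨δ, a1, fun e => hδ (by rw [e]; exact zero_mem _), ?_, fun hm => ?_, g * X * g⁻¹ * X⁻¹,
    K.mul_mem (K.mul_mem (K.mul_mem (hK hg) hX) (K.inv_mem (hK hg))) (K.inv_mem hX), fun x => ?_⟩
  · have := hgi u1 a1
    rwa [g1, hgu, add_left Δ, add_eq_left] at this
  · obtain ⟨k, hk⟩ := mem_span1 Δ hm
    have hk0 : k ≠ 0 := fun e => ha1 (by rw [hk, e, zero_smul])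
    refine hδ ?_
    rw [show δ = k⁻¹ • a1 by rw [hk, smul_smul, inv_mul_cancel₀ hk0, one_smul]]
    exact Submodule.smul_mem _ _ (Submodule.subset_span ⟨0, rfl⟩)
  obtain ⟨y, hy⟩ : ∃ y, y = ((X⁻¹ : GL ι F) : Matrix ι ι F) *ᵥ x := ⟨_, rfl⟩
  have hxy : x = y + ⟪y, a1⟫ • u1 + ⟪y, a2⟫ • u2 := by rw [← hXv, hy, gl_mulVec_inv_cancel]
  rw [gl_mul_mulVec, gl_mul_mulVec, gl_mul_mulVec, ← hy, hXv, Matrix.mulVec_add, Matrix.mulVec_add,
    gl_mulVec_inv_cancel, Matrix.mulVec_smul, Matrix.mulVec_smul, conj_mulVec Δ hgi, conj_mulVec Δ hgi,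
    g1, g2, g3, hgu]
  have hxa : ⟪x, a1⟫ = ⟪y, a1⟫ := by
    rw [hxy, add_left Δ, add_left Δ, smul_left Δ, smul_left Δ, h11, h21]; ring
  rw [hxa, smul_add]
  conv_rhs => rw [hxy]
  abel

/-- An isometry moving `t` by `w` and fixing what is orthogonal to `u` and `w`. -/
theorem exists_mover {t u w : ι → F} (hu : Q u = 0) (hw : Q w = 0) (huw : ⟪u, w⟫ = 0) (hut : ⟪u, t⟫ = 1)
    (hwt : ⟪w, t⟫ = 0) :
    ∃ g ∈ quadSimilarityGroup Q ⊓ specialLinear ι F,
      (∀ x y, ⟪(g : Matrix ι ι F) *ᵥ x, (g : Matrix ι ι F) *ᵥ y⟫ = ⟪x, y⟫) ∧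
      (∀ z, ⟪u, z⟫ = 0 → ⟪w, z⟫ = 0 → (g : Matrix ι ι F) *ᵥ z = z) ∧ (g : Matrix ι ι F) *ᵥ t = t + w := by
  obtain ⟨g, hg, hgv, hgi⟩ := exists_eichler_one Δ hu huw
  refine ⟨g, hg, hgi, fun z h1 h2 => ?_, ?_⟩
  · rw [hgv, symm Δ z u, h1, symm Δ z w, h2]; simp
  · rw [hgv, symm Δ t u, hut, symm Δ t w, hwt, hw]; simp

/-- An isometry fixing three vectors and moving a fourth by an anisotropic one. -/
theorem exists_mover_aniso {s0 s1 s2 t p : ι → F} (hp : Q p ≠ 0) (h0 : ⟪p, s0⟫ = 0) (h1 : ⟪p, s1⟫ = 0)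
    (h2 : ⟪p, s2⟫ = 0) (ht : ⟪p, t⟫ = 0) (hts : t ∉ Submodule.span F (Set.range ![s0, s1, s2])) :
    ∃ g ∈ quadSimilarityGroup Q ⊓ specialLinear ι F, ∃ δ : ι → F, Q δ ≠ 0 ∧
      (∀ x y, ⟪(g : Matrix ι ι F) *ᵥ x, (g : Matrix ι ι F) *ᵥ y⟫ = ⟪x, y⟫) ∧
      (g : Matrix ι ι F) *ᵥ s0 = s0 ∧ (g : Matrix ι ι F) *ᵥ s1 = s1 ∧ (g : Matrix ι ι F) *ᵥ s2 = s2 ∧
      (g : Matrix ι ι F) *ᵥ t = t + δ := by
  obtain ⟨y, hys, hyt⟩ := exists_sep Δ hts
  obtain ⟨l, hl⟩ : ∃ l : F, Q (y + l • p) ≠ 0 := by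
    by_contra hcon
    push Not at hcon
    have e0 := hcon 0
    rw [zero_smul, add_zero] at e0
    have e1 := hcon 1
    have e2 := hcon (-1)
    rw [quad_sum Δ, quad_smul Δ, e0, smul_right Δ] at e1 e2
    exact hp (mul_left_cancel₀ Δ.h2 (by linear_combination e1 + e2))
  obtain ⟨p', hp'⟩ : ∃ p', p' = y + l • p := ⟨_, rfl⟩
  rw [← hp'] at hl
  have hp's : ∀ z, ⟪y, z⟫ = 0 → ⟪p, z⟫ = 0 → ⟪p', z⟫ = 0 := fun z e1 e2 => by
    rw [hp', add_left Δ, smul_left Δ, e1, e2, mul_zero, add_zero]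
  have hp't : ⟪p', t⟫ = 1 := by rw [hp', add_left Δ, smul_left Δ, hyt, ht, mul_zero, add_zero]
  obtain ⟨r, hrd, hr, hrq⟩ := exists_refl Δ hp
  obtain ⟨r', hrd', hr', hrq'⟩ := exists_refl Δ hl
  have hQ : ∀ x, Q (((r * r' : GL ι F) : Matrix ι ι F) *ᵥ x) = Q x := fun x => by rw [gl_mul_mulVec, hrq, hrq']
  have fix : ∀ z, ⟪y, z⟫ = 0 → ⟪p, z⟫ = 0 → ((r * r' : GL ι F) : Matrix ι ι F) *ᵥ z = z := fun z e1 e2 => by
    rw [gl_mul_mulVec, hr', symm Δ z p', hp's z e1 e2, mul_zero, zero_smul, sub_zero, hr, symm Δ z p, e2, mul_zero,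
      zero_smul, sub_zero]
  refine ⟨r * r', ⟨⟨1, fun x => by rw [hQ, Units.val_one, one_mul]⟩, ?_⟩,
    -((Q p')⁻¹ • ((r : Matrix ι ι F) *ᵥ p')), ?_, fun x z => by simp only [QuadraticMap.polar, ← Matrix.mulVec_add, hQ],
    fix _ (hys 0) h0, fix _ (hys 1) h1, fix _ (hys 2) h2, ?_⟩
  · change r * r' ∈ specialLinear ι F
    rw [mem_specialLinear_iff, Units.val_mul, Matrix.det_mul, hrd, hrd']
    norm_num
  · rw [← neg_smul, quad_smul Δ, hrq]
    exact mul_ne_zero (pow_ne_zero _ (neg_ne_zero.mpr (inv_ne_zero hl))) hl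
  · rw [gl_mul_mulVec, hr', symm Δ t p', hp't, mul_one, Matrix.mulVec_sub, Matrix.mulVec_smul, hr t, symm Δ t p, ht,
      mul_zero, zero_smul, sub_zero, sub_eq_add_neg]

/-- Isotropic vectors orthogonal to given ones lie in their span. -/
theorem mem_span_of_perp {k : ℕ} {s : Fin k → ι → F} (hts : ∀ x, (∀ i, ⟪x, s i⟫ = 0) → Q x = 0) {x : ι → F}
    (hx : ∀ i, ⟪x, s i⟫ = 0) : x ∈ Submodule.span F (Set.range s) := by
  by_contra hcon
  obtain ⟨z, hz, hzx⟩ := exists_sep Δ hcon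
  have := quad_sum Δ z x
  rw [hts _ hz, hts _ hx, hts (z + x) fun i => by rw [add_left Δ, hz, hx, add_zero], hzx] at this
  simp at this

/-- A product of two transvections gives one, unless it is an Eichler element. -/
theorem pair (hK : quadSimilarityGroup Q ⊓ specialLinear ι F ≤ K) {u1 u2 a1 a2 : ι → F} {X : GL ι F}
    (hX : X ∈ K) (hXv : ∀ x, (X : Matrix ι ι F) *ᵥ x = x + ⟪x, a1⟫ • u1 + ⟪x, a2⟫ • u2)
    (hind : ∀ c d : F, c • u1 + d • u2 = 0 → c = 0 ∧ d = 0)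
    (h11 : ⟪u1, a1⟫ = 0) (h12 : ⟪u1, a2⟫ = 0) (h21 : ⟪u2, a1⟫ = 0) (h22 : ⟪u2, a2⟫ = 0)
    (ha : a1 ∉ Submodule.span F (Set.range ![u1, u2])) :
    ∃ v a, v ≠ 0 ∧ ⟪v, a⟫ = 0 ∧ a ∉ Submodule.span F (Set.range ![v]) ∧ Has Q K v a := by
  classical
  -- rearrange so that the first pole is outside the span of the other three
  suffices key : ∀ u1 u2 a1 a2 : ι → F, (∀ x, (X : Matrix ι ι F) *ᵥ x = x + ⟪x, a1⟫ • u1 + ⟪x, a2⟫ • u2) →
      (∀ c d : F, c • u1 + d • u2 = 0 → c = 0 ∧ d = 0) →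
      ⟪u1, a1⟫ = 0 → ⟪u1, a2⟫ = 0 → ⟪u2, a1⟫ = 0 → ⟪u2, a2⟫ = 0 →
      a1 ∉ Submodule.span F (Set.range ![u1, u2, a2]) →
      ∃ v a, v ≠ 0 ∧ ⟪v, a⟫ = 0 ∧ a ∉ Submodule.span F (Set.range ![v]) ∧ Has Q K v a by
    by_cases h : a1 ∈ Submodule.span F (Set.range ![u1, u2, a2])
    swap
    · exact key u1 u2 a1 a2 hXv hind h11 h12 h21 h22 h
    obtain ⟨c, d, k, hcd⟩ := mem_span3 Δ h
    refine key (u2 + k • u1) u1 a2 (a1 - k • a2) (fun x => ?_) (fun e f hef => ?_)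
      (by rw [add_left Δ, smul_left Δ, h22, h12]; ring)
      (by rw [add_left Δ, smul_left Δ, sub_right Δ, sub_right Δ, smul_right Δ, smul_right Δ, h21, h22, h11, h12]; ring)
      h12 (by rw [sub_right Δ, smul_right Δ, h11, h12]; ring) fun hm => ha ?_
    · rw [hXv, sub_right Δ, smul_right Δ]; module
    · obtain ⟨e1, e2⟩ := hind (e * k + f) e (by rw [← hef]; module)
      exact ⟨e2, by rw [e2, zero_mul, zero_add] at e1; exact e1⟩
    · obtain ⟨c', d', k', h'⟩ := mem_span3 Δ hm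
      have hsub : a1 - k • a2 = c • u1 + d • u2 := by rw [hcd]; abel
      rw [hsub] at h'
      rw [hcd, h']
      have hm1 : u1 ∈ Submodule.span F (Set.range ![u1, u2]) := Submodule.subset_span ⟨0, rfl⟩
      have hm2 : u2 ∈ Submodule.span F (Set.range ![u1, u2]) := Submodule.subset_span ⟨1, rfl⟩
      simp only [smul_add, smul_smul]
      repeat' first | exact Submodule.smul_mem _ _ hm1 | exact Submodule.smul_mem _ _ hm2 | apply add_mem
  clear ha hind hXv h11 h12 h21 h22 u1 u2 a1 a2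
  intro u1 u2 a1 a2 hXv hind h11 h12 h21 h22 ha
  have hu1 : u1 ≠ 0 := fun e => one_ne_zero (hind 1 0 (by rw [e]; simp)).1
  have hu2 : u2 ≠ 0 := fun e => one_ne_zero (hind 0 1 (by rw [e]; simp)).2
  have hu21 : u2 ∉ Submodule.span F (Set.range ![u1]) := fun hm => by
    obtain ⟨k, hk⟩ := mem_span1 Δ hm
    exact one_ne_zero (hind (-k) 1 (by rw [hk, one_smul, ← add_smul, neg_add_cancel, zero_smul])).2
  by_cases hp : ∃ p, (∀ i, ⟪p, ![u1, u2, a1, a2] i⟫ = 0) ∧ Q p ≠ 0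
  · obtain ⟨p, hps, hp⟩ := hp
    obtain ⟨g, hg, δ, hδ, hgi, g1, g2, g3, hga⟩ :=
      exists_mover_aniso Δ (s0 := u1) (s1 := u2) (s2 := a2) (t := a1) hp (hps 0) (hps 1) (hps 3) (hps 2) ha
    refine comm_pole Δ hK hX hXv hu1 hg hgi g1 g2 g3 hga fun hm => ?_
    obtain ⟨k, hk⟩ := mem_span1 Δ hm
    have := hgi u1 a1
    rw [g1, hga, add_right Δ, add_eq_left, hk, smul_right Δ, self_eq Δ] at this
    apply hδ
    rw [hk, quad_smul Δ]
    rcases mul_eq_zero.mp this with e | e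
    · rw [e]; ring
    · rw [(mul_eq_zero.mp e).resolve_left Δ.h2, mul_zero]
  push Not at hp
  -- the common orthogonal is totally isotropic, inside the span
  obtain ⟨y, hys, hyt⟩ := exists_sep Δ ha
  have hy1 : ⟪y, u1⟫ = 0 := hys 0
  have hy2 : ⟪y, u2⟫ = 0 := hys 1
  have hy4 : ⟪y, a2⟫ = 0 := hys 2
  obtain ⟨W, hW, hWd⟩ := exists_perpSpace Δ ![u1, u2, a1, a2]
  -- a singular second centre moves the first pole
  by_cases hU : Q u1 = 0 ∧ Q u2 = 0 ∧ ⟪u1, u2⟫ = 0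
  · obtain ⟨hQ1, hQ2, h12u⟩ := hU
    by_cases hA2 : u1 ∈ Submodule.span F (Set.range ![a1, a2, u2])
    · -- the first centre lies among the others: the pole side is totally isotropic
      obtain ⟨c, d, k, hk⟩ := mem_span3 Δ hA2
      have hd0 : c = 0 := by
        by_contra hc
        refine ha ?_
        rw [show a1 = c⁻¹ • (u1 - k • u2 - d • a2) by
          rw [hk, show c • a1 + d • a2 + k • u2 - k • u2 - d • a2 = c • a1 by abel, smul_smul, inv_mul_cancel₀ hc,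
            one_smul]]
        exact Submodule.smul_mem _ _ (sub_mem (sub_mem (Submodule.subset_span ⟨0, rfl⟩)
          (Submodule.smul_mem _ _ (Submodule.subset_span ⟨1, rfl⟩))) (Submodule.smul_mem _ _ (Submodule.subset_span ⟨2, rfl⟩)))
      rw [hd0, zero_smul, zero_add] at hk
      have hd : d ≠ 0 := fun e => by
        rw [e, zero_smul, zero_add] at hk
        exact one_ne_zero (hind 1 (-k) (by rw [hk]; module)).1
      have ha2 : a2 = d⁻¹ • (u1 - k • u2) := by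
        rw [hk, add_sub_cancel_right, smul_smul, inv_mul_cancel₀ hd, one_smul]
      have hQa : Q a1 = 0 := by
        by_contra hQa
        obtain ⟨U', hU', hU'd⟩ := exists_perpSpace Δ ![u1, u2, a1]
        have hall : ∀ x ∈ U', ∀ i, ⟪x, ![u1, u2, a1, a2] i⟫ = 0 := fun x hx i => by
          fin_cases i
          · exact hU' x hx 0
          · exact hU' x hx 1
          · exact hU' x hx 2
          · change ⟪x, a2⟫ = 0
            rw [ha2, smul_right Δ, sub_right Δ, smul_right Δ, show ⟪x, u1⟫ = 0 from hU' x hx 0,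
              show ⟪x, u2⟫ = 0 from hU' x hx 1]
            ring
        have hle : U' ≤ Submodule.span F (Set.range ![u1, u2]) := fun x hx => by
          have hm : x ∈ Submodule.span F (Set.range ![u1, u2, a1]) :=
            mem_span_of_perp Δ (fun z hz => by
              refine hp z fun i => ?_
              fin_cases i
              · exact hz 0
              · exact hz 1
              · exact hz 2
              · change ⟪z, a2⟫ = 0
                rw [ha2, smul_right Δ, sub_right Δ, smul_right Δ, show ⟪z, u1⟫ = 0 from hz 0,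
                  show ⟪z, u2⟫ = 0 from hz 1]
                ring) (hU' x hx)
          obtain ⟨e, f, g, hefg⟩ := mem_span3 Δ hm
          have := hU' x hx 2
          change ⟪x, a1⟫ = 0 at this
          rw [hefg, add_left Δ, add_left Δ, smul_left Δ, smul_left Δ, smul_left Δ, h11, h21, self_eq Δ] at this
          have hg0 : g = 0 := by
            have h' : g * (2 * Q a1) = 0 := by linear_combination this
            exact (mul_eq_zero.mp h').resolve_right (mul_ne_zero Δ.h2 hQa)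
          rw [hefg, hg0, zero_smul, add_zero]
          exact add_mem (Submodule.smul_mem _ _ (Submodule.subset_span ⟨0, rfl⟩))
            (Submodule.smul_mem _ _ (Submodule.subset_span ⟨1, rfl⟩))
        have h1 := Submodule.finrank_mono hle
        have h2 : Module.finrank F (Submodule.span F (Set.range ![u1, u2])) ≤ Fintype.card (Fin 2) :=
          finrank_range_le_card _
        rw [Fintype.card_fin] at h2
        have := Δ.hn
        omega
      obtain ⟨g, hg, hgi, hgf, hgt⟩ := exists_mover Δ (t := a1) (u := y + (-Q y) • a1) (w := u2)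
        (by rw [quad_sum Δ, quad_smul Δ, hQa, smul_right Δ, hyt]; ring) hQ2
        (by rw [add_left Δ, smul_left Δ, hy2, symm Δ a1 u2, h21]; ring)
        (by rw [add_left Δ, smul_left Δ, hyt, self_eq Δ, hQa]; ring) h21
      refine comm_pole Δ hK hX hXv hu1 hg hgi (hgf u1 ?_ ?_) (hgf u2 ?_ ?_) (hgf a2 ?_ ?_) hgt hu21
      · rw [add_left Δ, smul_left Δ, hy1, symm Δ a1 u1, h11]; ring
      · rw [symm Δ, h12u]
      · rw [add_left Δ, smul_left Δ, hy2, symm Δ a1 u2, h21]; ring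
      · rw [self_eq Δ, hQ2, mul_zero]
      · rw [ha2, smul_right Δ, sub_right Δ, smul_right Δ, add_left Δ, smul_left Δ, hy1, add_left Δ, smul_left Δ, hy2,
          symm Δ a1 u1, h11, symm Δ a1 u2, h21]
        ring
      · exact h22
    obtain ⟨y', hy's, hy't⟩ := exists_sep Δ hA2
    obtain ⟨g, hg, hgi, hgf, hgt⟩ := exists_mover Δ (t := u1) (u := y' + (-Q y') • u1) (w := u2)
      (by rw [quad_sum Δ, quad_smul Δ, hQ1, smul_right Δ, hy't]; ring) hQ2
      (by rw [add_left Δ, smul_left Δ, show ⟪y', u2⟫ = 0 from hy's 2, h12u]; ring)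
      (by rw [add_left Δ, smul_left Δ, hy't, self_eq Δ, hQ1]; ring) (by rw [symm Δ]; exact h12u)
    refine comm_centre Δ hK hX hXv h11 h12 h21 h22 (fun e => ha (by rw [e]; exact zero_mem _)) hg hgi
      (hgf a1 ?_ h21) (hgf a2 ?_ h22) (hgf u2 ?_ ?_) hgt fun hm => ?_
    · rw [add_left Δ, smul_left Δ, show ⟪y', a1⟫ = 0 from hy's 0, h11]; ring
    · rw [add_left Δ, smul_left Δ, show ⟪y', a2⟫ = 0 from hy's 1, h12]; ring
    · rw [add_left Δ, smul_left Δ, show ⟪y', u2⟫ = 0 from hy's 2, h12u]; ring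
    · rw [self_eq Δ, hQ2, mul_zero]
    · obtain ⟨k, hk⟩ := mem_span1 Δ hm
      have hk0 : k ≠ 0 := fun e => hu2 (by rw [hk, e, zero_smul])
      refine ha ?_
      rw [show a1 = k⁻¹ • u2 by rw [hk, smul_smul, inv_mul_cancel₀ hk0, one_smul]]
      exact Submodule.smul_mem _ _ (Submodule.subset_span ⟨1, rfl⟩)
  -- now the four vectors are independent
  have ha2 : a2 ∉ Submodule.span F (Set.range ![u1, u2]) := fun hm => by
    obtain ⟨c, d, hcd⟩ := mem_span2 Δ hm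
    obtain ⟨U', hU', hU'd⟩ := exists_perpSpace Δ ![u1, u2, a1]
    have hperp : ∀ z, (∀ i, ⟪z, ![u1, u2, a1] i⟫ = 0) → Q z = 0 := fun z hz => by
      refine hp z fun i => ?_
      fin_cases i
      · exact hz 0
      · exact hz 1
      · exact hz 2
      · change ⟪z, a2⟫ = 0
        rw [hcd, add_right Δ, smul_right Δ, smul_right Δ, show ⟪z, u1⟫ = 0 from hz 0, show ⟪z, u2⟫ = 0 from hz 1]
        ring
    have hle : U' ≤ Submodule.span F (Set.range ![u1, u2, a1]) := fun x hx => mem_span_of_perp Δ hperp (hU' x hx)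
    have h2 : Module.finrank F (Submodule.span F (Set.range ![u1, u2, a1])) ≤ Fintype.card (Fin 3) :=
      finrank_range_le_card _
    rw [Fintype.card_fin] at h2
    have := Δ.hn
    have heq : U' = Submodule.span F (Set.range ![u1, u2, a1]) :=
      Submodule.eq_of_le_of_finrank_le hle (by omega)
    have hm1 : u1 ∈ U' := heq ▸ Submodule.subset_span ⟨0, rfl⟩
    have hm2 : u2 ∈ U' := heq ▸ Submodule.subset_span ⟨1, rfl⟩
    exact hU ⟨hperp _ (hU' _ hm1), hperp _ (hU' _ hm2), hU' _ hm1 1⟩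
  by_cases hA : Q a1 = 0 ∧ Q a2 = 0 ∧ ⟪a1, a2⟫ = 0
  · obtain ⟨hQ1, hQ2, h12a⟩ := hA
    obtain ⟨g, hg, hgi, hgf, hgt⟩ := exists_mover Δ (t := a1) (u := y + (-Q y) • a1) (w := a2)
      (by rw [quad_sum Δ, quad_smul Δ, hQ1, smul_right Δ, hyt]; ring) hQ2
      (by rw [add_left Δ, smul_left Δ, hy4, h12a]; ring)
      (by rw [add_left Δ, smul_left Δ, hyt, self_eq Δ, hQ1]; ring) (by rw [symm Δ]; exact h12a)
    refine comm_pole Δ hK hX hXv hu1 hg hgi (hgf u1 ?_ ?_) (hgf u2 ?_ ?_) (hgf a2 ?_ ?_) hgt fun hm => ha2 ?_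
    · rw [add_left Δ, smul_left Δ, hy1, symm Δ a1 u1, h11]; ring
    · rw [symm Δ, h12]
    · rw [add_left Δ, smul_left Δ, hy2, symm Δ a1 u2, h21]; ring
    · rw [symm Δ, h22]
    · rw [add_left Δ, smul_left Δ, hy4, h12a]; ring
    · rw [self_eq Δ, hQ2, mul_zero]
    · exact Submodule.span_mono (by simp) hm
  -- isotropic radical vectors on both sides
  have hWs : ∀ x ∈ W, ∃ p q r l : F, x = p • u1 + q • u2 + (r • a1 + l • a2) ∧
      (⟪p • u1 + q • u2, u1⟫ = 0 ∧ ⟪p • u1 + q • u2, u2⟫ = 0) ∧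
      ⟪r • a1 + l • a2, a1⟫ = 0 ∧ ⟪r • a1 + l • a2, a2⟫ = 0 := fun x hx => by
    obtain ⟨c, hc⟩ := (Submodule.mem_span_range_iff_exists_fun F).mp (mem_span_of_perp Δ hp (hW x hx))
    have hc' : x = c 0 • u1 + c 1 • u2 + (c 2 • a1 + c 3 • a2) := by
      rw [← hc, Fin.sum_univ_four]
      simp only [Matrix.cons_val]
      abel
    have e0 : ⟪x, u1⟫ = 0 := hW x hx 0
    have e1 : ⟪x, u2⟫ = 0 := hW x hx 1
    have e2 : ⟪x, a1⟫ = 0 := hW x hx 2
    have e3 : ⟪x, a2⟫ = 0 := hW x hx 3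
    refine ⟨c 0, c 1, c 2, c 3, hc', ⟨?_, ?_⟩, ?_, ?_⟩
    · rw [hc', add_left Δ, add_left Δ (c 2 • a1), smul_left Δ (c 2), smul_left Δ (c 3), symm Δ a1 u1, h11,
        symm Δ a2 u1, h12] at e0
      linear_combination e0
    · rw [hc', add_left Δ, add_left Δ (c 2 • a1), smul_left Δ (c 2), smul_left Δ (c 3), symm Δ a1 u2, h21,
        symm Δ a2 u2, h22] at e1
      linear_combination e1
    · rw [hc', add_left Δ, add_left Δ (c 0 • u1), smul_left Δ (c 0), smul_left Δ (c 1), h11, h21] at e2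
      linear_combination e2
    · rw [hc', add_left Δ, add_left Δ (c 0 • u1), smul_left Δ (c 0), smul_left Δ (c 1), h12, h22] at e3
      linear_combination e3
  have hzero : ∀ r l : F, ∀ v w : ι → F, ⟪r • v + l • w, v⟫ = 0 → ⟪r • v + l • w, w⟫ = 0 → Q (r • v + l • w) = 0 :=
    fun r l v w e1 e2 => by
      have e : ⟪r • v + l • w, r • v + l • w⟫ = 0 := by rw [add_right Δ, smul_right Δ, smul_right Δ, e1, e2]; ring
      rw [self_eq Δ] at e
      exact (mul_eq_zero.mp e).resolve_left Δ.h2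
  have hbig : ∀ v w : ι → F, ¬ (Q v = 0 ∧ Q w = 0 ∧ ⟪v, w⟫ = 0) → W ≤ Submodule.span F (Set.range ![v, w]) →
      (∀ x ∈ W, Q x = 0) → False := fun v w hne hle hts => by
    have h2 : Module.finrank F (Submodule.span F (Set.range ![v, w])) ≤ Fintype.card (Fin 2) := finrank_range_le_card _
    rw [Fintype.card_fin] at h2
    have := Δ.hn
    have heq : W = Submodule.span F (Set.range ![v, w]) := Submodule.eq_of_le_of_finrank_le hle (by omega)
    have hv : v ∈ W := heq ▸ Submodule.subset_span ⟨0, rfl⟩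
    have hw : w ∈ W := heq ▸ Submodule.subset_span ⟨1, rfl⟩
    refine hne ⟨hts v hv, hts w hw, ?_⟩
    have := quad_sum Δ v w
    rw [hts v hv, hts w hw, hts _ (add_mem hv hw), zero_add, zero_add] at this
    exact this.symm
  obtain ⟨r, l, hrl, hr1, hr2⟩ : ∃ r l : F, r • a1 + l • a2 ≠ 0 ∧ ⟪r • a1 + l • a2, a1⟫ = 0 ∧
      ⟪r • a1 + l • a2, a2⟫ = 0 := by
    by_contra hcon
    refine hbig u1 u2 hU (fun x hx => ?_) fun x hx => hp x (hW x hx)
    obtain ⟨p, q, r, l, hx', -, e1, e2⟩ := hWs x hx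
    rw [hx', show r • a1 + l • a2 = 0 from by_contra fun h => hcon ⟨r, l, h, e1, e2⟩, add_zero]
    exact add_mem (Submodule.smul_mem _ _ (Submodule.subset_span ⟨0, rfl⟩))
      (Submodule.smul_mem _ _ (Submodule.subset_span ⟨1, rfl⟩))
  obtain ⟨p, q, hpq, hp1, hp2⟩ : ∃ p q : F, p • u1 + q • u2 ≠ 0 ∧ ⟪p • u1 + q • u2, u1⟫ = 0 ∧
      ⟪p • u1 + q • u2, u2⟫ = 0 := by
    by_contra hcon
    refine hbig a1 a2 hA (fun x hx => ?_) fun x hx => hp x (hW x hx)
    obtain ⟨p, q, r, l, hx', ⟨e1, e2⟩, -⟩ := hWs x hx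
    rw [hx', show p • u1 + q • u2 = 0 from by_contra fun h => hcon ⟨p, q, h, e1, e2⟩, zero_add]
    exact add_mem (Submodule.smul_mem _ _ (Submodule.subset_span ⟨0, rfl⟩))
      (Submodule.smul_mem _ _ (Submodule.subset_span ⟨1, rfl⟩))
  obtain ⟨s, hsA, hsU⟩ : ∃ s : F, ¬ (⟪a2 + s • a1, a1⟫ = 0 ∧ ⟪a2 + s • a1, a2⟫ = 0) ∧
      ¬ (⟪u1 - s • u2, u1⟫ = 0 ∧ ⟪u1 - s • u2, u2⟫ = 0) := by
    have hA1 : ∀ s s' : F, s ≠ s' → (⟪a2 + s • a1, a1⟫ = 0 ∧ ⟪a2 + s • a1, a2⟫ = 0) →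
        (⟪a2 + s' • a1, a1⟫ = 0 ∧ ⟪a2 + s' • a1, a2⟫ = 0) → False := fun s s' hne ⟨e1, e2⟩ ⟨f1, f2⟩ => by
      simp only [add_left Δ, smul_left Δ] at e1 e2 f1 f2
      have g1 : ⟪a1, a1⟫ = 0 := (mul_eq_zero.mp (show (s - s') * ⟪a1, a1⟫ = 0 by linear_combination e1 - f1)).resolve_left
        (sub_ne_zero.mpr hne)
      have g2 : ⟪a1, a2⟫ = 0 := (mul_eq_zero.mp (show (s - s') * ⟪a1, a2⟫ = 0 by linear_combination e2 - f2)).resolve_left
        (sub_ne_zero.mpr hne)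
      rw [g2, mul_zero, add_zero, self_eq Δ] at e2
      rw [self_eq Δ] at g1
      exact hA ⟨(mul_eq_zero.mp g1).resolve_left Δ.h2, (mul_eq_zero.mp e2).resolve_left Δ.h2, g2⟩
    have hU1 : ∀ s s' : F, s ≠ s' → (⟪u1 - s • u2, u1⟫ = 0 ∧ ⟪u1 - s • u2, u2⟫ = 0) →
        (⟪u1 - s' • u2, u1⟫ = 0 ∧ ⟪u1 - s' • u2, u2⟫ = 0) → False := fun s s' hne ⟨e1, e2⟩ ⟨f1, f2⟩ => by
      simp only [sub_left Δ, smul_left Δ] at e1 e2 f1 f2
      have g2 : ⟪u2, u2⟫ = 0 := (mul_eq_zero.mp (show (s - s') * ⟪u2, u2⟫ = 0 by linear_combination f2 - e2)).resolve_left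
        (sub_ne_zero.mpr hne)
      have g1 : ⟪u2, u1⟫ = 0 := (mul_eq_zero.mp (show (s - s') * ⟪u2, u1⟫ = 0 by linear_combination f1 - e1)).resolve_left
        (sub_ne_zero.mpr hne)
      rw [g1, mul_zero, sub_zero, self_eq Δ] at e1
      rw [self_eq Δ] at g2
      exact hU ⟨(mul_eq_zero.mp e1).resolve_left Δ.h2, (mul_eq_zero.mp g2).resolve_left Δ.h2, by rw [symm Δ]; exact g1⟩
    by_contra hcon
    have hor : ∀ s : F, (⟪a2 + s • a1, a1⟫ = 0 ∧ ⟪a2 + s • a1, a2⟫ = 0) ∨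
        (⟪u1 - s • u2, u1⟫ = 0 ∧ ⟪u1 - s • u2, u2⟫ = 0) := fun s =>
      or_iff_not_imp_left.mpr fun h => by_contra fun h' => hcon ⟨s, h, h'⟩
    have n01 : (0 : F) ≠ 1 := zero_ne_one
    have n02 : (0 : F) ≠ -1 := fun e => one_ne_zero (α := F) (by linear_combination e)
    have n12 : (1 : F) ≠ -1 := fun e => Δ.h2 (by linear_combination e)
    rcases hor 0 with h0 | h0 <;> rcases hor 1 with h1 | h1 <;> rcases hor (-1) with h3 | h3
    all_goals first
      | exact hA1 _ _ n01 h0 h1 | exact hA1 _ _ n02 h0 h3 | exact hA1 _ _ n12 h1 h3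
      | exact hU1 _ _ n01 h0 h1 | exact hU1 _ _ n02 h0 h3 | exact hU1 _ _ n12 h1 h3
  have ha' : a1 ∉ Submodule.span F (Set.range ![u1 - s • u2, u2, a2 + s • a1]) := fun hm => by
    obtain ⟨c, d, k, hcd⟩ := mem_span3 Δ hm
    have e : (1 - k * s) • a1 = c • u1 + (d - c * s) • u2 + k • a2 := by linear_combination (norm := module) hcd
    by_cases hks : 1 - k * s = 0
    · refine ha2 ?_
      have hk : k ≠ 0 := fun e => one_ne_zero (α := F) (by rw [e] at hks; linear_combination hks)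
      rw [show a2 = k⁻¹ • ((-c) • u1 + (-(d - c * s)) • u2) by
        rw [show (-c) • u1 + (-(d - c * s)) • u2 = k • a2 by rw [hks, zero_smul] at e; linear_combination (norm := module) e,
          smul_smul, inv_mul_cancel₀ hk, one_smul]]
      exact Submodule.smul_mem _ _ (add_mem (Submodule.smul_mem _ _ (Submodule.subset_span ⟨0, rfl⟩))
        (Submodule.smul_mem _ _ (Submodule.subset_span ⟨1, rfl⟩)))
    · refine ha ?_
      rw [show a1 = (1 - k * s)⁻¹ • (c • u1 + (d - c * s) • u2 + k • a2) by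
        rw [← e, smul_smul, inv_mul_cancel₀ hks, one_smul]]
      exact Submodule.smul_mem _ _ (add_mem (add_mem (Submodule.smul_mem _ _ (Submodule.subset_span ⟨0, rfl⟩))
        (Submodule.smul_mem _ _ (Submodule.subset_span ⟨1, rfl⟩))) (Submodule.smul_mem _ _ (Submodule.subset_span ⟨2, rfl⟩)))
  obtain ⟨y', hy's, hy't⟩ := exists_sep Δ ha'
  have hz1 : ⟪y', u1 - s • u2⟫ = 0 := hy's 0
  have hz2 : ⟪y', u2⟫ = 0 := hy's 1
  have hz4 : ⟪y', a2 + s • a1⟫ = 0 := hy's 2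
  have hz1' : ⟪y', u1⟫ = 0 := by rw [sub_right Δ, smul_right Δ, hz2, mul_zero, sub_zero] at hz1; exact hz1
  obtain ⟨a0, ha0⟩ : ∃ a0, a0 = r • a1 + l • a2 := ⟨_, rfl⟩
  obtain ⟨u0, hu0⟩ : ∃ u0, u0 = p • u1 + q • u2 := ⟨_, rfl⟩
  have hQa : Q a0 = 0 := ha0 ▸ hzero r l a1 a2 hr1 hr2
  have hQu : Q u0 = 0 := hu0 ▸ hzero p q u1 u2 hp1 hp2
  rw [← ha0] at hr1 hr2 hrl
  rw [← hu0] at hp1 hp2 hpq
  obtain ⟨α, hα⟩ : ∃ α, α = r - l * s := ⟨_, rfl⟩
  have hα0 : α ≠ 0 := fun e => by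
    have hr : r = l * s := by rw [e] at hα; linear_combination -hα
    have e' : a0 = l • (a2 + s • a1) := by rw [ha0, hr]; module
    have hl : l ≠ 0 := fun h => hrl (by rw [e', h, zero_smul])
    rw [e', smul_left Δ] at hr1 hr2
    exact hsA ⟨(mul_eq_zero.mp hr1).resolve_left hl, (mul_eq_zero.mp hr2).resolve_left hl⟩
  have hya : ⟪y', a0⟫ = α := by
    have e' : a0 = α • a1 + l • (a2 + s • a1) := by rw [ha0, hα]; module
    rw [e', add_right Δ, smul_right Δ, smul_right Δ, hy't, hz4]; ring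
  have hau1 : ⟪a0, u1⟫ = 0 := by
    rw [ha0, add_left Δ, smul_left Δ, smul_left Δ, symm Δ a1 u1, h11, symm Δ a2 u1, h12]; ring
  have hau2 : ⟪a0, u2⟫ = 0 := by
    rw [ha0, add_left Δ, smul_left Δ, smul_left Δ, symm Δ a1 u2, h21, symm Δ a2 u2, h22]; ring
  have hua1 : ⟪u0, a1⟫ = 0 := by rw [hu0, add_left Δ, smul_left Δ, smul_left Δ, h11, h21]; ring
  have hua2 : ⟪u0, a2⟫ = 0 := by rw [hu0, add_left Δ, smul_left Δ, smul_left Δ, h12, h22]; ring
  obtain ⟨g, hg, hgi, hgf, hgt⟩ := exists_mover Δ (t := a1) (u := y' + (-Q y' / α) • a0) (w := u0)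
    (by rw [quad_sum Δ, quad_smul Δ, hQa, smul_right Δ, hya, div_mul_cancel₀ _ hα0]; ring) hQu
    (by rw [add_left Δ, smul_left Δ, hu0, add_right Δ, add_right Δ, smul_right Δ, smul_right Δ, smul_right Δ,
      smul_right Δ, hz1', hz2, hau1, hau2]; ring)
    (by rw [add_left Δ, smul_left Δ, hy't, hr1]; ring) hua1
  refine comm_pole Δ hK hX (u1 := u1 - s • u2) (u2 := u2) (a1 := a1) (a2 := a2 + s • a1)
    (fun x => by rw [hXv, add_right Δ, smul_right Δ]; module)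
    (fun e => one_ne_zero (α := F) (hind 1 (-s) (by rw [one_smul, neg_smul, ← sub_eq_add_neg]; exact e)).1) hg hgi
    (hgf _ ?_ ?_) (hgf _ ?_ ?_) (hgf _ ?_ ?_) hgt fun hm => ?_
  · rw [add_left Δ, smul_left Δ, hz1, sub_right Δ, smul_right Δ, hau1, hau2]; ring
  · rw [sub_right Δ, smul_right Δ, hp1, hp2]; ring
  · rw [add_left Δ, smul_left Δ, hz2, hau2]; ring
  · exact hp2
  · rw [add_left Δ, smul_left Δ, hz4, add_right Δ, smul_right Δ, hr1, hr2]; ring
  · rw [add_right Δ, smul_right Δ, hua1, hua2]; ring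
  · obtain ⟨k, hk⟩ := mem_span1 Δ hm
    have hk0 : k ≠ 0 := fun e => hpq (by rw [hk, e, zero_smul])
    rw [hk, smul_left Δ] at hp1 hp2
    exact hsU ⟨(mul_eq_zero.mp hp1).resolve_left hk0, (mul_eq_zero.mp hp2).resolve_left hk0⟩

/-- An element that is not a similarity gives a transvection. -/
theorem exists_has (hK : quadSimilarityGroup Q ⊓ specialLinear ι F ≤ K) {g : GL ι F} (hg : g ∈ K)
    (hgn : g ∉ quadSimilarityGroup Q) :
    ∃ v a, v ≠ 0 ∧ ⟪v, a⟫ = 0 ∧ a ∉ Submodule.span F (Set.range ![v]) ∧ Has Q K v a := by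
  by_contra hno
  let P : (ι → F) → F → Prop := fun y k =>
    ∀ x, ⟪((g⁻¹ : GL ι F) : Matrix ι ι F) *ᵥ x, y⟫ = k * ⟪x, (g : Matrix ι ι F) *ᵥ y⟫
  have key : ∀ z b, Q z = 0 → Q b = 0 → ⟪z, b⟫ = 0 → z ≠ 0 → b ∉ Submodule.span F (Set.range ![z]) →
      ∃ p q : F, ∀ x, ⟪((g⁻¹ : GL ι F) : Matrix ι ι F) *ᵥ x, z⟫ =
        ⟪x, (g : Matrix ι ι F) *ᵥ (p • z + q • b)⟫ := by
    intro z b hz hb hzb hz0 hbz
    have hLA : ∀ w, ∃ a, ∀ x, ⟪x, a⟫ = ⟪((g⁻¹ : GL ι F) : Matrix ι ι F) *ᵥ x, w⟫ := fun w =>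
      exists_rep Δ
        { toFun := fun x => ⟪((g⁻¹ : GL ι F) : Matrix ι ι F) *ᵥ x, w⟫
          map_add' := fun x y => by rw [Matrix.mulVec_add, add_left Δ]
          map_smul' := fun c x => by rw [Matrix.mulVec_smul, smul_left Δ]; rfl }
    obtain ⟨a1, ha1⟩ := hLA b
    obtain ⟨a2, ha2⟩ := hLA z
    obtain ⟨e, he, hev, -⟩ := exists_eichler_one Δ hb (w := z) (by rw [symm Δ]; exact hzb)
    obtain ⟨u1, hu1⟩ : ∃ u1, u1 = (g : Matrix ι ι F) *ᵥ z := ⟨_, rfl⟩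
    obtain ⟨u2, hu2⟩ : ∃ u2, u2 = -((g : Matrix ι ι F) *ᵥ b) := ⟨_, rfl⟩
    have hXv : ∀ x, ((g * e * g⁻¹ : GL ι F) : Matrix ι ι F) *ᵥ x = x + ⟪x, a1⟫ • u1 + ⟪x, a2⟫ • u2 := fun x => by
      rw [gl_mul_mulVec, gl_mul_mulVec, hev, hz, zero_mul, add_zero, Matrix.mulVec_sub, Matrix.mulVec_add,
        gl_mulVec_inv_cancel, Matrix.mulVec_smul, Matrix.mulVec_smul, ha1, ha2, hu1, hu2, smul_neg, ← sub_eq_add_neg]
    have hXK : g * e * g⁻¹ ∈ K := K.mul_mem (K.mul_mem hg (hK he)) (K.inv_mem hg)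
    have hu10 : u1 ≠ 0 := fun e' => hz0 (gl_mulVec_injective g (by
      dsimp only; rw [← hu1, e', Matrix.mulVec_zero]))
    have hua : ∀ w v, ⟪(g : Matrix ι ι F) *ᵥ v, w⟫ = ⟪w, (g : Matrix ι ι F) *ᵥ v⟫ := fun w v => symm Δ _ _
    have hzz : ⟪z, z⟫ = 0 := self_zero Δ hz
    have hbb : ⟪b, b⟫ = 0 := self_zero Δ hb
    have h11 : ⟪u1, a1⟫ = 0 := by rw [ha1, hu1, gl_inv_mulVec_cancel, hzb]
    have h12 : ⟪u1, a2⟫ = 0 := by rw [ha2, hu1, gl_inv_mulVec_cancel, hzz]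
    have h21 : ⟪u2, a1⟫ = 0 := by rw [hu2, neg_left Δ, ha1, gl_inv_mulVec_cancel, hbb, neg_zero]
    have h22 : ⟪u2, a2⟫ = 0 := by rw [hu2, neg_left Δ, ha2, gl_inv_mulVec_cancel, symm Δ, hzb, neg_zero]
    have hind : ∀ c d : F, c • u1 + d • u2 = 0 → c = 0 ∧ d = 0 := fun c d h => by
      rw [hu1, hu2, smul_neg, ← Matrix.mulVec_smul, ← Matrix.mulVec_smul, ← Matrix.mulVec_neg, ← Matrix.mulVec_add] at h
      have h' : c • z + -(d • b) = 0 := gl_mulVec_injective g (by dsimp only; rw [h, Matrix.mulVec_zero])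
      by_cases hd : d = 0
      · rw [hd, zero_smul, neg_zero, add_zero] at h'
        exact ⟨(smul_eq_zero.mp h').resolve_right hz0, hd⟩
      · refine absurd ?_ hbz
        rw [show b = (d⁻¹ * c) • z by
          rw [← smul_smul, eq_neg_of_add_eq_zero_left h', neg_neg, smul_smul, inv_mul_cancel₀ hd, one_smul]]
        exact Submodule.smul_mem _ _ (Submodule.subset_span ⟨0, rfl⟩)
    by_cases hA : a2 ∈ Submodule.span F (Set.range ![u2, u1])
    swap
    · exact absurd (pair Δ hK hXK (u1 := u2) (u2 := u1) (a1 := a2) (a2 := a1) (fun x => by rw [hXv]; abel)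
        (fun c d h => (hind d c (by rw [← h]; abel)).symm) h22 h21 h12 h11 hA) hno
    obtain ⟨c, d, hcd⟩ := mem_span2 Δ hA
    refine ⟨d, -c, fun x => ?_⟩
    rw [← ha2, hcd, hu1, hu2, Matrix.mulVec_add, Matrix.mulVec_smul, Matrix.mulVec_smul]
    congr 1
    module
  have eig : ∀ z, Q z = 0 → z ≠ 0 → ∃ k, P z k := by
    intro z hz hz0
    obtain ⟨b, hb, hbs, hbt⟩ := exists_iso_wide Δ ![z] ![z] (by have := Δ.hn; omega)
    have hzb : ⟪z, b⟫ = 0 := by rw [symm Δ]; exact hbs 0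
    obtain ⟨b', hb', hbs', hbt'⟩ := exists_iso_wide Δ ![z] ![z, b] (by have := Δ.hn; omega)
    have hzb' : ⟪z, b'⟫ = 0 := by rw [symm Δ]; exact hbs' 0
    obtain ⟨p, q, hpq⟩ := key z b hz hb hzb hz0 hbt
    obtain ⟨p', q', hpq'⟩ := key z b' hz hb' hzb' hz0 (fun hm => hbt' (Submodule.span_mono (by simp) hm))
    have he : p • z + q • b = p' • z + q' • b' :=
      gl_mulVec_injective g (eq_of_pairing Δ fun x => by rw [← hpq, ← hpq'])
    have hq' : q' = 0 := by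
      by_contra hne
      refine hbt' ?_
      rw [show b' = q'⁻¹ • (p • z + q • b - p' • z) by
        rw [he, add_sub_cancel_left, smul_smul, inv_mul_cancel₀ hne, one_smul]]
      exact Submodule.smul_mem _ _ (sub_mem (add_mem (Submodule.smul_mem _ _ (Submodule.subset_span ⟨0, rfl⟩))
        (Submodule.smul_mem _ _ (Submodule.subset_span ⟨1, rfl⟩))) (Submodule.smul_mem _ _ (Submodule.subset_span ⟨0, rfl⟩)))
    refine ⟨p', fun x => ?_⟩
    rw [hpq', hq', zero_smul, add_zero, Matrix.mulVec_smul, smul_right Δ]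
  have same : ∀ z b, Q z = 0 → Q b = 0 → ⟪z, b⟫ = 0 → z ≠ 0 → b ∉ Submodule.span F (Set.range ![z]) →
      ∀ k l, P z k → P b l → k = l := by
    intro z b hz hb hzb hz0 hbz k l hk hl
    have hb0 : b ≠ 0 := fun e => hbz (by rw [e]; exact zero_mem _)
    have hzb0 : z + b ≠ 0 := fun e => hbz (by
      rw [eq_neg_of_add_eq_zero_right e]
      exact neg_mem (Submodule.subset_span ⟨0, rfl⟩))
    obtain ⟨m, hm⟩ := eig (z + b) (by rw [quad_sum Δ, hz, hb, hzb]; ring) hzb0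
    have he : k • z + l • b = m • z + m • b := gl_mulVec_injective g (eq_of_pairing Δ fun x => by
      simp only [Matrix.mulVec_add, Matrix.mulVec_smul, add_right Δ, smul_right Δ]
      have := hm x
      rw [add_right Δ, hk, hl, Matrix.mulVec_add, add_right Δ] at this
      linear_combination this)
    have hl' : l = m := by
      by_contra hne
      refine hbz ?_
      have e2 : (l - m) • b = (m - k) • z := by
        rw [sub_smul, sub_smul, sub_eq_sub_iff_add_eq_add, add_comm (l • b), he, add_comm]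
      rw [show b = (l - m)⁻¹ • (l - m) • b by rw [smul_smul, inv_mul_cancel₀ (sub_ne_zero.mpr hne), one_smul], e2]
      exact Submodule.smul_mem _ _ (Submodule.smul_mem _ _ (Submodule.subset_span ⟨0, rfl⟩))
    rw [hl'] at he ⊢
    rw [add_left_inj] at he
    exact smul_left_injective F hz0 he
  obtain ⟨z1, hz1, -, hz1t⟩ := exists_iso_wide Δ ![(0 : ι → F)] ![(0 : ι → F)] (by have := Δ.hn; omega)
  have hz10 : z1 ≠ 0 := fun e => hz1t (by rw [e]; exact zero_mem _)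
  obtain ⟨k0, hk0⟩ := eig z1 hz1 hz10
  have link : ∀ v z, Q v = 0 → Q z = 0 → ⟪v, z⟫ ≠ 0 → P v k0 → P z k0 := fun v z hv hz hvz hk => by
    have hv0 : v ≠ 0 := fun e => hvz (by rw [e, zero_left Δ])
    have hz0 : z ≠ 0 := fun e => hvz (by rw [e, zero_right Δ])
    obtain ⟨b, hb, hbs, hbt⟩ := exists_iso_wide Δ ![v, z] ![v] (by have := Δ.hn; omega)
    have hbv : ⟪b, v⟫ = 0 := hbs 0
    have hbz : ⟪b, z⟫ = 0 := hbs 1
    have hb0 : b ≠ 0 := fun e => hbt (by rw [e]; exact zero_mem _)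
    obtain ⟨l, hl⟩ := eig b hb hb0
    obtain ⟨k, hk'⟩ := eig z hz hz0
    have e1 := same v b hv hb (by rw [symm Δ]; exact hbv) hv0 hbt k0 l hk hl
    have e2 := same z b hz hb (by rw [symm Δ]; exact hbz) hz0 (fun hm => by
      obtain ⟨c, hc⟩ := mem_span1 Δ hm
      rw [hc, smul_left Δ, symm Δ z v] at hbv
      exact hb0 (by rw [hc, (mul_eq_zero.mp hbv).resolve_right hvz, zero_smul])) k l hk' hl
    rwa [e1, ← e2]
  have hall : ∀ z, Q z = 0 → P z k0 := by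
    intro z hz
    by_cases hz0 : z = 0
    · subst hz0
      intro x
      simp [zero_right Δ]
    by_cases hzz : ⟪z1, z⟫ = 0
    swap
    · exact link z1 z hz1 hz hzz hk0
    by_cases hdep : z1 ∈ Submodule.span F (Set.range ![z1 - z])
    · obtain ⟨k, hk⟩ := mem_span1 Δ hdep
      have hk' : k ≠ 0 := fun e => hz10 (by rw [hk, e, zero_smul])
      have e : z = (1 - k⁻¹) • z1 := by
        rw [sub_smul, one_smul, show k⁻¹ • z1 = z1 - z by conv_lhs => rw [hk, smul_smul, inv_mul_cancel₀ hk', one_smul]]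
        abel
      intro x
      rw [e, smul_right Δ, hk0, Matrix.mulVec_smul, smul_right Δ]
      ring
    obtain ⟨d, hd, hds, hdc⟩ := exists_iso_val Δ hdep (by have := Δ.hn; omega)
    have h' : ⟪d, z1 - z⟫ = 0 := hds 0
    rw [sub_right Δ, hdc, sub_eq_zero] at h'
    exact link d z hd hz (by rw [← h']; exact one_ne_zero)
      (link z1 d hz1 hd (by rw [symm Δ, hdc]; exact one_ne_zero) hk0)
  have hP : ∀ y, P y k0 := by
    intro y
    by_cases hy : Q y = 0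
    · exact hall y hy
    obtain ⟨e, he, -, hey⟩ := exists_iso_val Δ (s := ![(0 : ι → F)]) (a := y) (fun hm => by
      obtain ⟨c, hc⟩ := mem_span1 Δ hm
      exact hy (by rw [hc, smul_zero, quad_zero' Δ])) (by have := Δ.hn; omega)
    have h1 := hall (y + (-Q y) • e) (by rw [quad_sum Δ, quad_smul Δ, he, smul_right Δ, symm Δ y e, hey]; ring)
    have h2 := hall _ he
    intro x
    have := h1 x
    rw [add_right Δ, smul_right Δ, h2, Matrix.mulVec_add, Matrix.mulVec_smul, add_right Δ, smul_right Δ] at this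
    linear_combination this
  have hk00 : k0 ≠ 0 := fun e => hz10 (eq_zero_of_perp Δ fun x => by
    have := hP z1 ((g : Matrix ι ι F) *ᵥ x)
    rwa [gl_inv_mulVec_cancel, e, zero_mul] at this)
  refine hgn ⟨(Units.mk0 k0 hk00)⁻¹, fun y => ?_⟩
  have := hP y ((g : Matrix ι ι F) *ᵥ y)
  rw [gl_inv_mulVec_cancel, self_eq Δ, self_eq Δ] at this
  rw [Units.val_inv_eq_inv_val, Units.val_mk0, eq_inv_mul_iff_mul_eq₀ hk00]
  exact mul_left_cancel₀ Δ.h2 (by linear_combination -this)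

/-- The similarities of determinant one are maximal. -/
theorem isMaximal :
    IsMaximalIn (specialLinear ι F) (quadSimilarityGroup Q ⊓ specialLinear ι F) := by
  haveI : Nontrivial ι := Fintype.one_lt_card_iff_nontrivial.mp (by have := Δ.hn; omega)
  refine ⟨lt_of_le_of_ne inf_le_right fun e => not_specialLinear_le_quadSimilarityGroup
    (by have := Δ.hn; omega) Δ.hQ (inf_eq_right.mp e), fun K hK hKS => or_iff_not_imp_left.mpr fun hne =>
      le_antisymm hKS ?_⟩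
  obtain ⟨g, hg, hgn⟩ : ∃ g ∈ K, g ∉ quadSimilarityGroup Q := by
    by_contra hcon
    push Not at hcon
    exact hne (le_antisymm (le_inf hcon hKS) hK)
  obtain ⟨v, a, hv, hva, ha, h⟩ := exists_has Δ hK hg hgn
  have hall := all_has Δ hK hv hva ha h
  rw [specialLinear_le_iff]
  intro i j hij c
  obtain ⟨r, hr⟩ := exists_rep Δ (c • LinearMap.proj j)
  obtain ⟨t, ht, htv⟩ := hall (Pi.single i 1) r (by simp [hr, hij.symm])
  have e : transGL hij c = t := gl_ext_mulVec fun x => by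
    rw [htv, transGL_mulVec, hr]
    simp [← Pi.single_smul]
  rw [e]
  exact ht

end Cfsg.Agent.Classical.OSim
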