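/-
Singular vectors orthogonal to small subspaces, in every characteristic.
-/
import Cfsg.Agent.Lib.Classical.OrthEvenBase

set_option autoImplicit false
set_option linter.unusedSectionVars false

namespace Cfsg.Agent.Classical.OSubAll

open Module QuadraticMap OCount
open Cfsg.Agent.Small.QuadBasis (q_add q_smul p_smul_left p_smul_right p_self exists_singular)

variable {F V : Type*} [Field F] [Fintype F] [AddCommGroup V] [Module F V] [FiniteDimensional F V]
  {Q : QuadraticForm F V}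

/-- The orthogonal subspace. -/
def perp (Q : QuadraticForm F V) (A : Submodule F V) : Submodule F V :=
  A.dualAnnihilator.comap Q.polarBilin

theorem mem_perp {A : Submodule F V} {x : V} : x ∈ perp Q A ↔ ∀ a ∈ A, polar Q x a = 0 := by
  simp [perp, Submodule.mem_dualAnnihilator]

theorem perp_span {s : Set V} {x : V} (h : ∀ a ∈ s, polar Q x a = 0) : x ∈ perp Q (Submodule.span F s) := by
  rw [mem_perp]
  intro a ha
  induction ha using Submodule.span_induction with
  | mem a ha => exact h a ha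
  | zero => exact polar_zero_right Q x
  | add a b _ _ ha hb => rw [polar_add_right, ha, hb, add_zero]
  | smul c a _ ha => rw [polar_smul_right, ha, smul_zero]

theorem polarBilin_bijective (hQ : PND Q) : Function.Bijective Q.polarBilin := by
  have hinj : Function.Injective Q.polarBilin := by
    rw [← LinearMap.ker_eq_bot, LinearMap.ker_eq_bot']
    exact fun v hv => hQ v fun w => LinearMap.congr_fun hv w
  exact ⟨hinj, (LinearMap.injective_iff_surjective_of_finrank_eq_finrank (Subspace.dual_finrank_eq).symm).mp hinj⟩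

theorem finrank_perp (hQ : PND Q) (A : Submodule F V) : finrank F (perp Q A) + finrank F A = finrank F V := by
  have hb := polarBilin_bijective hQ
  have e : perp Q A = A.dualAnnihilator.map (LinearEquiv.ofBijective Q.polarBilin hb).symm.toLinearMap := by
    rw [← Submodule.comap_equiv_eq_map_symm]; rfl
  rw [e, LinearEquiv.finrank_map_eq, add_comm, Subspace.finrank_add_finrank_dualAnnihilator_eq]

/-- Every functional is a pairing. -/
theorem exists_rep (hQ : PND Q) (φ : V →ₗ[F] F) : ∃ a, ∀ x, polar Q a x = φ x := by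
  obtain ⟨a, ha⟩ := (polarBilin_bijective hQ).2 φ
  exact ⟨a, fun x => LinearMap.congr_fun ha x⟩

/-- A vector outside a subspace is separated from it. -/
theorem exists_sep (hQ : PND Q) {A : Submodule F V} {a : V} (ha : a ∉ A) :
    ∃ d ∈ perp Q A, polar Q d a = 1 := by
  obtain ⟨φ, hφ, hH⟩ := Submodule.exists_dual_map_eq_bot_of_notMem ha inferInstance
  obtain ⟨d, hd⟩ := exists_rep hQ ((φ a)⁻¹ • φ)
  refine ⟨d, mem_perp.mpr fun b hb => ?_, ?_⟩
  · have h : φ b ∈ A.map φ := Submodule.mem_map_of_mem hb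
    rw [hH, Submodule.mem_bot] at h
    rw [hd, LinearMap.smul_apply, h, smul_zero]
  · rw [hd, LinearMap.smul_apply, smul_eq_mul, inv_mul_cancel₀ hφ]

/-- A singular vector orthogonal to one subspace, outside another. -/
theorem exists_sing_out (hQ : PND Q) (A B : Submodule F V)
    (h : finrank F A + finrank F (B ⊓ perp Q A : Submodule F V) + 3 ≤ finrank F V) :
    ∃ z ∈ perp Q A, Q z = 0 ∧ z ∉ B := by
  obtain ⟨C, hC⟩ := Submodule.exists_isCompl (B ⊓ perp Q A)
  have e : (B ⊓ perp Q A) ⊔ (C ⊓ perp Q A) = perp Q A := by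
    rw [← sup_inf_assoc_of_le C (inf_le_right : B ⊓ perp Q A ≤ perp Q A), hC.sup_eq_top, top_inf_eq]
  have hd := Submodule.finrank_sup_add_finrank_inf_eq (B ⊓ perp Q A) (C ⊓ perp Q A)
  rw [e] at hd
  have := finrank_perp hQ A
  obtain ⟨z, hz, hz0, hQz⟩ := exists_singular Q (W := C ⊓ perp Q A) (by omega)
  obtain ⟨hzC, hzA⟩ := Submodule.mem_inf.mp hz
  exact ⟨z, hzA, hQz, fun hzB => hz0 (Submodule.disjoint_def.mp hC.disjoint z ⟨hzB, hzA⟩ hzC)⟩

/-- A hyperbolic partner. -/
theorem exists_partner (hQ : PND Q) {A : Submodule F V} {z : V} (hz : Q z = 0) (hzA : z ∈ perp Q A) (hzA' : z ∉ A) :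
    ∃ w ∈ perp Q A, Q w = 0 ∧ polar Q z w = 1 := by
  obtain ⟨d, hd, hdz⟩ := exists_sep hQ hzA'
  refine ⟨d + (-Q d) • z, Submodule.add_mem _ hd (Submodule.smul_mem _ _ hzA), ?_, ?_⟩
  · rw [q_add, q_smul, p_smul_right, hz, hdz]; ring
  · rw [polar_add_right, p_smul_right, polar_comm, hdz, p_self, hz]; ring

theorem finrank_span_list {k : ℕ} (s : Fin k → V) : finrank F (Submodule.span F (Set.range s)) ≤ k := by
  have h : finrank F (Submodule.span F (Set.range s)) ≤ Fintype.card (Fin k) := finrank_range_le_card s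
  rwa [Fintype.card_fin] at h

/-- A singular vector orthogonal to a few vectors, outside the span of a few others. -/
theorem exists_sing_list (hQ : PND Q) {k l : ℕ} (s : Fin k → V) (t : Fin l → V) (h : k + l + 3 ≤ finrank F V) :
    ∃ z, Q z = 0 ∧ (∀ i, polar Q z (s i) = 0) ∧ z ∉ Submodule.span F (Set.range t) := by
  have h1 := finrank_span_list (F := F) s
  have h2 : finrank F (Submodule.span F (Set.range t) ⊓ perp Q (Submodule.span F (Set.range s)) : Submodule F V) ≤ l :=
    (Submodule.finrank_mono inf_le_left).trans (finrank_span_list (F := F) t)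
  obtain ⟨z, hz, hQz, hzt⟩ := exists_sing_out hQ (Submodule.span F (Set.range s)) (Submodule.span F (Set.range t))
    (by omega)
  exact ⟨z, hQz, fun i => mem_perp.mp hz _ (Submodule.subset_span ⟨i, rfl⟩), hzt⟩

/-- Enough room around the subspace. -/
def Room (Q : QuadraticForm F V) (S : Submodule F V) : Prop :=
  finrank F S + finrank F (S ⊓ perp Q S : Submodule F V) + 6 ≤ finrank F V

theorem room_of_small (hn : 14 ≤ finrank F V) {S : Submodule F V} (hS : finrank F S ≤ 4) : Room Q S := by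
  have := Submodule.finrank_mono (R := F) (inf_le_left : S ⊓ perp Q S ≤ S)
  rw [Room]; omega

/-- A hyperbolic pair and one more singular vector around a vector orthogonal to the subspace. -/
theorem exists_chain (hQ : PND Q) {S : Submodule F V} (hS : Room Q S) {e : V} (he : e ∈ perp Q S) :
    ∃ z z₂ e₂, (z ∈ perp Q S ∧ Q z = 0 ∧ polar Q z e = 0) ∧ (z₂ ∈ perp Q S ∧ Q z₂ = 0 ∧ polar Q z₂ e = 0) ∧
      polar Q z z₂ = 1 ∧
      (e₂ ∈ perp Q S ∧ Q e₂ = 0 ∧ polar Q e₂ z = 0 ∧ polar Q e₂ z₂ = 0 ∧ polar Q e₂ e = 0 ∧ e₂ ∉ S) := by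
  rw [Room] at hS
  obtain ⟨A, hA⟩ : ∃ A, A = S ⊔ Submodule.span F {e} := ⟨_, rfl⟩
  have hsplit : ∀ {T : Submodule F V} {x : V}, x ∈ perp Q (S ⊔ T) → x ∈ perp Q S ∧ ∀ a ∈ T, polar Q x a = 0 :=
    fun {T x} hx => ⟨mem_perp.mpr fun a ha => mem_perp.mp hx a (Submodule.mem_sup_left ha),
      fun a ha => mem_perp.mp hx a (Submodule.mem_sup_right ha)⟩
  have hr : A ⊓ perp Q A ≤ (S ⊓ perp Q S) ⊔ Submodule.span F {e} := by
    rintro x ⟨hxA, hxp⟩
    rw [hA] at hxA hxp
    obtain ⟨s, hs, y, hy, rfl⟩ := Submodule.mem_sup.mp hxA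
    obtain ⟨c, rfl⟩ := Submodule.mem_span_singleton.mp hy
    refine Submodule.add_mem_sup ⟨hs, ?_⟩ (Submodule.smul_mem _ _ (Submodule.mem_span_singleton_self e))
    have := Submodule.sub_mem _ (hsplit hxp).1 (Submodule.smul_mem _ c he)
    rwa [add_sub_cancel_right] at this
  have h1 : finrank F (Submodule.span F {e}) ≤ 1 :=
    (finrank_span_le_card ({e} : Set V)).trans (by rw [Set.toFinset_singleton, Finset.card_singleton])
  have hA1 : finrank F A ≤ finrank F S + 1 := by
    rw [hA]; exact (Submodule.finrank_add_le_finrank_add_finrank _ _).trans (by omega)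
  have hA2 : finrank F (A ⊓ perp Q A : Submodule F V) ≤ finrank F (S ⊓ perp Q S : Submodule F V) + 1 :=
    (Submodule.finrank_mono hr).trans ((Submodule.finrank_add_le_finrank_add_finrank _ _).trans (by omega))
  obtain ⟨z, hzA, hz, hzA'⟩ := exists_sing_out hQ A A (by omega)
  obtain ⟨z₂, hz₂A, hz₂, hzz⟩ := exists_partner hQ hz hzA hzA'
  obtain ⟨A₃, hA₃⟩ : ∃ A₃, A₃ = S ⊔ Submodule.span F (Set.range ![e, z, z₂]) := ⟨_, rfl⟩
  have hA31 : finrank F A₃ ≤ finrank F S + 3 := by
    rw [hA₃]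
    exact (Submodule.finrank_add_le_finrank_add_finrank _ _).trans
      (Nat.add_le_add_left (finrank_span_list (F := F) ![e, z, z₂]) _)
  have hA32 : finrank F (S ⊓ perp Q A₃ : Submodule F V) ≤ finrank F (S ⊓ perp Q S : Submodule F V) :=
    Submodule.finrank_mono (inf_le_inf_left _ fun x hx => (hsplit (hA₃ ▸ hx)).1)
  obtain ⟨e₂, he₂A, he₂, he₂S⟩ := exists_sing_out hQ A₃ S (by omega)
  rw [hA] at hzA hz₂A
  rw [hA₃] at he₂A
  obtain ⟨h2a, h2b⟩ := hsplit he₂A
  exact ⟨z, z₂, e₂, ⟨(hsplit hzA).1, hz, (hsplit hzA).2 e (Submodule.mem_span_singleton_self e)⟩,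
    ⟨(hsplit hz₂A).1, hz₂, (hsplit hz₂A).2 e (Submodule.mem_span_singleton_self e)⟩, hzz,
    h2a, he₂, h2b z (Submodule.subset_span ⟨1, rfl⟩), h2b z₂ (Submodule.subset_span ⟨2, rfl⟩),
    h2b e (Submodule.subset_span ⟨0, rfl⟩), he₂S⟩

/-- A vector orthogonal to a small subspace is a sum of singular ones. -/
theorem exists_decomp (hQ : PND Q) {S : Submodule F V} (hS : Room Q S) {v : V} (hv : v ∈ perp Q S) :
    ∃ (x y z : V) (c : F), (x ∈ perp Q S ∧ Q x = 0) ∧ (y ∈ perp Q S ∧ Q y = 0) ∧ (z ∈ perp Q S ∧ Q z = 0) ∧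
      v = x - y + c • z := by
  obtain ⟨z, z₂, -, ⟨hzS, hz, hzv⟩, ⟨hz₂S, hz₂, hz₂v⟩, hzz, -⟩ := exists_chain hQ hS hv
  refine ⟨v + z + (-Q v) • z₂, z, z₂, Q v,
    ⟨Submodule.add_mem _ (Submodule.add_mem _ hv hzS) (Submodule.smul_mem _ _ hz₂S), ?_⟩, ⟨hzS, hz⟩, ⟨hz₂S, hz₂⟩, ?_⟩
  · rw [q_add, q_add, q_smul, p_smul_right, polar_add_left, polar_comm Q v z, hzv, polar_comm Q v z₂, hz₂v, hzz, hz,
      hz₂]
    ring
  · module

/-- Every vector is a sum of singular vectors. -/
theorem exists_decomp_top (hQ : PND Q) (hn : 8 ≤ finrank F V) (v : V) :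
    ∃ (x y z : V) (c : F), Q x = 0 ∧ Q y = 0 ∧ Q z = 0 ∧ v = x - y + c • z := by
  obtain ⟨x, y, z, c, ⟨-, hx⟩, ⟨-, hy⟩, ⟨-, hz⟩, e⟩ := exists_decomp hQ (S := ⊥) (v := v)
    (by rw [Room, finrank_bot, bot_inf_eq, finrank_bot]; omega)
    (mem_perp.mpr fun a ha => by rw [(Submodule.mem_bot F).mp ha, polar_zero_right])
  exact ⟨x, y, z, c, hx, hy, hz, e⟩

end Cfsg.Agent.Classical.OSubAll
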