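/-
A rational structure on a quadratic space in any characteristic: Eichler elements in an overgroup of the rational ones.
-/
import Cfsg.Agent.Lib.Classical.OSubAllSpace
import Cfsg.Agent.Lib.Classical.OrthogonalGroup

set_option autoImplicit false
set_option linter.unusedSectionVars false

namespace Cfsg.Agent.Classical.OSubAll

open Matrix Module QuadraticMap OCount Cfsg.Geo
open Cfsg.Agent.Classical
open Cfsg.Agent.Small.QuadBasis (q_add q_smul p_smul_left p_smul_right p_self)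

variable {ι : Type} [Fintype ι] [DecidableEq ι] {F : Type*} [Field F] [Fintype F] {F₀ : Subfield F} [Fintype F₀]
  {Q : QuadraticForm F (ι → F)} {T : (ι → F₀) → ι → F} {Q₀ : QuadraticForm F₀ (ι → F₀)} {K : Subgroup (GL ι F)}

/-- The polar form. -/
local notation "⟪" x ", " y "⟫" => QuadraticMap.polar Q x y

/-- The rational polar form. -/
local notation "⟪" x ", " y "⟫₀" => QuadraticMap.polar Q₀ x y

/-- The Eichler element with centre `a` and vector `y` lies in the group. -/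
def InE (Q : QuadraticForm F (ι → F)) (K : Subgroup (GL ι F)) (a y : ι → F) : Prop :=
  ∃ k ∈ K, ∀ x, (k : Matrix ι ι F) *ᵥ x = eichler (⇑Q) a y x

/-- The rational subspace, extended. -/
def Tsp (T : (ι → F₀) → ι → F) (S : Submodule F₀ (ι → F₀)) : Submodule F (ι → F) := Submodule.span F (T '' S)

/-- The setting. -/
structure Setup (Q : QuadraticForm F (ι → F)) (T : (ι → F₀) → ι → F) (Q₀ : QuadraticForm F₀ (ι → F₀))
    (K : Subgroup (GL ι F)) : Prop where
  hQ : IsNondegenerateQuadraticForm ⇑Q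
  pnd : PND Q
  pnd₀ : PND Q₀
  hn : 8 ≤ Fintype.card ι
  T_add : ∀ u w, T (u + w) = T u + T w
  T_smul : ∀ (c : F₀) u, T (c • u) = (c : F) • T u
  T_span : ∀ v : ι → F, ∃ μ : ι → F, v = ∑ i, μ i • T (Pi.single i 1)
  hT : ∀ u, Q (T u) = (Q₀ u : F)
  iso : ∀ k ∈ K, ∀ x, Q ((k : Matrix ι ι F) *ᵥ x) = Q x
  base : ∀ a y, Q₀ a = 0 → QuadraticMap.polar Q₀ a y = 0 → InE Q K (T a) (T y)

variable (S : Setup Q T Q₀ K)

include S

theorem dim₀ : 8 ≤ finrank F₀ (ι → F₀) := by rw [Module.finrank_pi]; exact S.hn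

theorem T_zero : T 0 = 0 := by rw [← zero_smul F₀ (0 : ι → F₀), S.T_smul, Subfield.coe_zero, zero_smul]

theorem T_neg (u : ι → F₀) : T (-u) = -T u := by
  rw [← neg_one_smul F₀ u, S.T_smul]; simp

theorem T_sub (u w : ι → F₀) : T (u - w) = T u - T w := by
  rw [sub_eq_add_neg, S.T_add, T_neg S, sub_eq_add_neg]

theorem T_polar (u w : ι → F₀) : ⟪T u, T w⟫ = ((⟪u, w⟫₀ : F₀) : F) := by
  simp only [QuadraticMap.polar, ← S.T_add, S.hT, Subfield.coe_sub]

theorem T_orth {u w : ι → F₀} (h : ⟪u, w⟫₀ = 0) : ⟪T u, T w⟫ = 0 := by rw [T_polar S, h]; rfl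

theorem T_orth' {u w : ι → F₀} (h : ⟪u, w⟫₀ = 0) : ⟪T w, T u⟫ = 0 := by rw [polar_comm, T_orth S h]

theorem T_iso {u : ι → F₀} (h : Q₀ u = 0) : Q (T u) = 0 := by rw [S.hT, h]; rfl

theorem eq_zero_of_perp {v : ι → F} (h : ∀ u, ⟪v, T u⟫ = 0) : v = 0 := by
  refine S.pnd v fun x => ?_
  obtain ⟨μ, rfl⟩ := S.T_span x
  change Q.polarBilin v _ = 0
  rw [map_sum]
  refine Finset.sum_eq_zero fun i _ => ?_
  rw [_root_.map_smul]
  change μ i • ⟪v, _⟫ = 0
  rw [h, smul_zero]

/-- A vector pairing rationally with all rational vectors is rational. -/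
theorem exists_real {v : ι → F} (h : ∀ u, ⟪v, T u⟫ ∈ F₀) : ∃ w, v = T w := by
  obtain ⟨w, hw⟩ := exists_rep S.pnd₀
    { toFun := fun u => (⟨⟪v, T u⟫, h u⟩ : F₀)
      map_add' := fun u u' => Subtype.ext (by simp only [S.T_add, polar_add_right, Subfield.coe_add])
      map_smul' := fun c u => Subtype.ext (by simp only [S.T_smul, polar_smul_right, RingHom.id_apply, smul_eq_mul,
        Subfield.coe_mul]) }
  refine ⟨w, sub_eq_zero.mp (eq_zero_of_perp S fun u => ?_)⟩
  rw [polar_sub_left, T_polar S, hw]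
  exact sub_self _

theorem T_injective {u : ι → F₀} (h : T u = 0) : u = 0 :=
  S.pnd₀ u fun x => Subtype.ext (by rw [← T_polar S, h, polar_zero_left]; rfl)

theorem iso_polar {k : GL ι F} (hk : k ∈ K) (x y : ι → F) :
    ⟪(k : Matrix ι ι F) *ᵥ x, (k : Matrix ι ι F) *ᵥ y⟫ = ⟪x, y⟫ := by
  simp only [QuadraticMap.polar, ← Matrix.mulVec_add, S.iso k hk]

theorem conj_polar {k : GL ι F} (hk : k ∈ K) (x y : ι → F) :
    ⟪((k⁻¹ : GL ι F) : Matrix ι ι F) *ᵥ x, y⟫ = ⟪x, (k : Matrix ι ι F) *ᵥ y⟫ := by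
  rw [← iso_polar S hk, gl_mulVec_inv_cancel]

theorem InE.conj {a y : ι → F} (h : InE Q K a y) {k : GL ι F} (hk : k ∈ K) :
    InE Q K ((k : Matrix ι ι F) *ᵥ a) ((k : Matrix ι ι F) *ᵥ y) := by
  obtain ⟨g, hg, hgv⟩ := h
  refine ⟨k * g * k⁻¹, mul_mem (mul_mem hk hg) (inv_mem hk), fun x => ?_⟩
  rw [gl_mul_mulVec, gl_mul_mulVec, hgv, eichler, eichler, Matrix.mulVec_sub, Matrix.mulVec_add,
    gl_mulVec_inv_cancel, Matrix.mulVec_smul, Matrix.mulVec_smul, conj_polar S hk, conj_polar S hk, S.iso k hk]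

theorem eichler_zero (a x : ι → F) : eichler (⇑Q) a 0 x = x := by
  simp [eichler]

theorem InE.add {a y y' : ι → F} (ha : Q a = 0) (hy : ⟪a, y⟫ = 0) (hy' : ⟪a, y'⟫ = 0) (h : InE Q K a y)
    (h' : InE Q K a y') : InE Q K a (y + y') := by
  obtain ⟨g, hg, hgv⟩ := h
  obtain ⟨g', hg', hgv'⟩ := h'
  exact ⟨g * g', mul_mem hg hg', fun x => by rw [gl_mul_mulVec, hgv', hgv, eichler_comp S.hQ ha hy hy']⟩

theorem InE.neg {a y : ι → F} (ha : Q a = 0) (hy : ⟪a, y⟫ = 0) (h : InE Q K a y) : InE Q K a (-y) := by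
  obtain ⟨g, hg, hgv⟩ := h
  refine ⟨g⁻¹, inv_mem hg, fun x => gl_mulVec_injective g ?_⟩
  dsimp only
  rw [gl_mulVec_inv_cancel, hgv, eichler_comp S.hQ ha hy (by rw [polar_neg_right, hy, neg_zero]), add_neg_cancel,
    eichler_zero S]

theorem InE.scale {a y : ι → F} {l : F} (h : InE Q K (l • a) y) : InE Q K a (l • y) := by
  obtain ⟨g, hg, hgv⟩ := h
  refine ⟨g, hg, fun x => ?_⟩
  rw [hgv, eichler, eichler, p_smul_right, p_smul_right, q_smul, smul_smul, smul_smul]
  congr 1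
  · rw [mul_comm]
  · congr 1; ring

theorem InE.unscale {a y : ι → F} {l : F} (h : InE Q K a (l • y)) : InE Q K (l • a) y := by
  obtain ⟨g, hg, hgv⟩ := h
  refine ⟨g, hg, fun x => ?_⟩
  rw [hgv, eichler, eichler, p_smul_right, p_smul_right, q_smul, smul_smul, smul_smul]
  congr 1
  · rw [mul_comm]
  · congr 1; ring

theorem InE.swap {a y : ι → F} (ha : Q a = 0) (hy : Q y = 0) (h : InE Q K a y) : InE Q K y (-a) := by
  obtain ⟨g, hg, hgv⟩ := h
  refine ⟨g, hg, fun x => ?_⟩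
  rw [hgv, eichler, eichler, hy, QuadraticMap.map_neg, ha, polar_neg_right]
  simp only [zero_mul, add_zero, neg_smul, smul_neg]
  abel

theorem InE.shift {a y : ι → F} (ha : Q a = 0) (hy : ⟪a, y⟫ = 0) (s : F) (h : InE Q K a y) :
    InE Q K a (y + s • a) := by
  refine InE.add S ha hy (by rw [p_smul_right, p_self, ha, mul_zero, mul_zero]) h ⟨1, one_mem K, fun x => ?_⟩
  simp only [Units.val_one, Matrix.one_mulVec, eichler, p_smul_right, q_smul, ha]
  module

theorem push_apply {e z : ι → F} {k : GL ι F}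
    (hk : ∀ x, (k : Matrix ι ι F) *ᵥ x = eichler (⇑Q) e z x) {y : ι → F} (hye : ⟪y, e⟫ = 0) (hyz : ⟪y, z⟫ = 0) :
    (k : Matrix ι ι F) *ᵥ y = y := by
  rw [hk, eichler, hye, hyz]; simp

/-- The difference under a rational Eichler element. -/
theorem diff {a y : ι → F} {z v : ι → F₀} (ha : Q a = 0) (hy : ⟪a, y⟫ = 0) (hz : Q₀ z = 0) (hzv : ⟪z, v⟫₀ = 0)
    (haz : ⟪a, T z⟫ = 0) (hav : ⟪a, T v⟫ = 0) (h : InE Q K a y) :
    InE Q K a (⟪y, T z⟫ • T v - (⟪y, T v⟫ + (Q₀ v : F) * ⟪y, T z⟫) • T z) ∧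
      ⟪a, ⟪y, T z⟫ • T v - (⟪y, T v⟫ + (Q₀ v : F) * ⟪y, T z⟫) • T z⟫ = 0 := by
  refine ⟨?_, by rw [polar_sub_right, p_smul_right, p_smul_right, haz, hav]; ring⟩
  obtain ⟨k, hk, hkv⟩ := S.base z v hz hzv
  have h1 := InE.conj S h hk
  rw [push_apply S hkv haz hav, hkv, eichler, S.hT] at h1
  have h2 := InE.add S ha (by rw [polar_sub_right, polar_add_right, p_smul_right, p_smul_right, hy, haz, hav]; ring)
    (by rw [polar_neg_right, hy, neg_zero]) h1 (InE.neg S ha hy h)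
  convert h2 using 1
  abel

theorem mem_Tsp {A : Submodule F₀ (ι → F₀)} {v : ι → F₀} (hv : v ∈ A) : T v ∈ Tsp T A :=
  Submodule.subset_span ⟨v, hv, rfl⟩

theorem Tsp_perp {A : Submodule F₀ (ι → F₀)} {y : ι → F} (hy : y ∈ Tsp T A) {e : ι → F₀} (he : e ∈ perp Q₀ A) :
    ⟪y, T e⟫ = 0 := by
  induction hy using Submodule.span_induction with
  | mem y hy => obtain ⟨v, hv, rfl⟩ := hy; rw [T_orth' S (mem_perp.mp he v hv)]
  | zero => exact polar_zero_left Q _
  | add p q _ _ hp hq => rw [polar_add_left, hp, hq, add_zero]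
  | smul c p _ hp => rw [polar_smul_left, hp, smul_zero]

theorem linIndep_T {κ : Type*} [Fintype κ] {w : κ → ι → F₀} (hw : LinearIndependent F₀ w) :
    LinearIndependent F fun i => T (w i) := by
  classical
  rw [Fintype.linearIndependent_iff]
  intro c hc i
  obtain ⟨d, hd, hdi⟩ := exists_sep S.pnd₀ (A := Submodule.span F₀ (w '' {i}ᶜ)) (a := w i)
    (hw.notMem_span_image (by simp))
  have h : Q.polarBilin (T d) (∑ l, c l • T (w l)) = 0 := by rw [hc, map_zero]
  rw [map_sum, Finset.sum_eq_single i (fun l _ hl => by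
    rw [_root_.map_smul]
    change c l • ⟪T d, T (w l)⟫ = 0
    rw [T_orth S (mem_perp.mp hd _ (Submodule.subset_span ⟨l, hl, rfl⟩)), smul_zero])
    (fun h => absurd (Finset.mem_univ i) h), _root_.map_smul] at h
  change c i • ⟪T d, T (w i)⟫ = 0 at h
  rwa [T_polar S, hdi, Subfield.coe_one, smul_eq_mul, mul_one] at h

theorem finrank_Tsp (A : Submodule F₀ (ι → F₀)) : finrank F (Tsp T A) = finrank F₀ A := by
  obtain ⟨b⟩ : Nonempty (Basis (Fin (finrank F₀ A)) F₀ A) := ⟨Module.finBasis F₀ A⟩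
  have e : Tsp T A = Submodule.span F (Set.range fun i => T (b i)) := by
    refine le_antisymm (Submodule.span_le.mpr ?_) (Submodule.span_mono (by rintro _ ⟨i, rfl⟩; exact ⟨b i, (b i).2, rfl⟩))
    rintro _ ⟨v, hv, rfl⟩
    have hb := b.sum_repr ⟨v, hv⟩
    apply_fun Subtype.val at hb
    rw [AddSubmonoidClass.coe_finset_sum] at hb
    change _ = v at hb
    rw [← hb]
    let L : (ι → F₀) →+ (ι → F) := AddMonoidHom.mk' T S.T_add
    change L _ ∈ _
    rw [map_sum]
    refine Submodule.sum_mem _ fun i _ => ?_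
    change T _ ∈ _
    rw [Submodule.coe_smul, S.T_smul]
    exact Submodule.smul_mem _ _ (Submodule.subset_span ⟨i, rfl⟩)
  have hli : LinearIndependent F₀ fun i => ((b i : A) : ι → F₀) :=
    b.linearIndependent.map' A.subtype (Submodule.ker_subtype A)
  rw [e, finrank_span_eq_card (linIndep_T S hli), Fintype.card_fin]

/-- A vector orthogonal to the orthogonal space of a rational subspace lies over it. -/
theorem mem_Tsp_of_perp {A : Submodule F₀ (ι → F₀)} {y : ι → F} (h : ∀ e ∈ perp Q₀ A, ⟪y, T e⟫ = 0) :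
    y ∈ Tsp T A := by
  classical
  obtain ⟨b⟩ : Nonempty (Basis (Fin (finrank F₀ A)) F₀ A) := ⟨Module.finBasis F₀ A⟩
  have hli := b.linearIndependent.map' A.subtype (Submodule.ker_subtype A)
  have hd : ∀ i, ∃ d, ∀ j, ⟪d, ((b j : A) : ι → F₀)⟫₀ = if j = i then 1 else 0 := fun i => by
    obtain ⟨d, hd, hdi⟩ := exists_sep S.pnd₀
      (A := Submodule.span F₀ ((A.subtype ∘ b) '' {i}ᶜ)) (a := (b i : ι → F₀)) (hli.notMem_span_image (by simp))
    refine ⟨d, fun j => ?_⟩
    by_cases hji : j = i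
    · rw [hji, if_pos rfl, hdi]
    · rw [if_neg hji]; exact mem_perp.mp hd _ (Submodule.subset_span ⟨j, hji, rfl⟩)
  choose d hd using hd
  obtain ⟨y', hy'⟩ : ∃ y', y' = ∑ i, ⟪y, T (d i)⟫ • T (b i : ι → F₀) := ⟨_, rfl⟩
  have hmem : y' ∈ Tsp T A := by
    rw [hy']
    exact Submodule.sum_mem _ fun i _ => Submodule.smul_mem _ _ (mem_Tsp S (b i).2)
  suffices e : y - y' = 0 by rwa [sub_eq_zero.mp e]
  refine eq_zero_of_perp S fun u => ?_
  obtain ⟨u', hu'⟩ : ∃ u', u' = ∑ i, ⟪u, ((b i : A) : ι → F₀)⟫₀ • d i := ⟨_, rfl⟩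
  have hperp : u - u' ∈ perp Q₀ A := by
    rw [mem_perp]
    intro v hv
    have hb := b.sum_repr ⟨v, hv⟩
    apply_fun Subtype.val at hb
    rw [AddSubmonoidClass.coe_finset_sum] at hb
    change _ = v at hb
    rw [← hb]
    change Q₀.polarBilin (u - u') _ = 0
    rw [map_sum]
    refine Finset.sum_eq_zero fun j _ => ?_
    rw [Submodule.coe_smul, _root_.map_smul, map_sub, LinearMap.sub_apply]
    change _ • (⟪u, _⟫₀ - ⟪u', _⟫₀) = 0
    have e1 : ⟪u', ((b j : A) : ι → F₀)⟫₀ = ⟪u, ((b j : A) : ι → F₀)⟫₀ := by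
      change Q₀.polarBilin u' _ = _
      rw [hu', map_sum, LinearMap.sum_apply, Finset.sum_eq_single j (fun i _ hi => by
          rw [_root_.map_smul, LinearMap.smul_apply]
          change _ • ⟪d i, _⟫₀ = 0
          rw [hd, if_neg (Ne.symm hi), smul_zero]) (fun h => absurd (Finset.mem_univ j) h), _root_.map_smul,
        LinearMap.smul_apply]
      change _ • ⟪d j, _⟫₀ = _
      rw [hd, if_pos rfl, smul_eq_mul, mul_one]
    rw [e1, sub_self, smul_zero]
  have h1 : ⟪y - y', T (u - u')⟫ = 0 := by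
    rw [polar_sub_left, h _ hperp, Tsp_perp S hmem hperp, sub_zero]
  have h2 : ∀ j, ⟪y', T (d j)⟫ = ⟪y, T (d j)⟫ := fun j => by
    change Q.polarBilin y' _ = _
    rw [hy', map_sum, LinearMap.sum_apply, Finset.sum_eq_single j (fun i _ hi => by
        rw [_root_.map_smul, LinearMap.smul_apply]
        change _ • ⟪T (b i : ι → F₀), T (d j)⟫ = 0
        rw [T_orth' S (by rw [hd, if_neg hi]), smul_zero]) (fun h => absurd (Finset.mem_univ j) h), _root_.map_smul,
      LinearMap.smul_apply]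
    change _ • ⟪T (b j : ι → F₀), T (d j)⟫ = _
    rw [polar_comm Q (T (b j : ι → F₀)), T_polar S, hd, if_pos rfl, Subfield.coe_one, smul_eq_mul, mul_one]
  have h3 : ⟪y - y', T u'⟫ = 0 := by
    let L : (ι → F₀) →+ (ι → F) := AddMonoidHom.mk' T S.T_add
    change Q.polarBilin (y - y') (L u') = 0
    rw [hu', map_sum, map_sum]
    refine Finset.sum_eq_zero fun i _ => ?_
    change Q.polarBilin (y - y') (T _) = 0
    rw [S.T_smul, _root_.map_smul]
    change _ • ⟪y - y', T (d i)⟫ = 0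
    rw [polar_sub_left, h2, sub_self, smul_zero]
  rw [T_sub S, polar_sub_right, h3, sub_zero] at h1
  exact h1

/-- An irrational coefficient on a rational pair. -/
def Irr (Q : QuadraticForm F (ι → F)) (T : (ι → F₀) → ι → F) (Q₀ : QuadraticForm F₀ (ι → F₀))
    (K : Subgroup (GL ι F)) : Prop :=
  ∃ (a c : ι → F₀) (l : F), Q₀ a = 0 ∧ Q₀ c = 0 ∧ QuadraticMap.polar Q₀ a c = 0 ∧ a ≠ 0 ∧
    c ∉ Submodule.span F₀ {a} ∧ l ∉ F₀ ∧ InE Q K (T a) (l • T c)

omit S in
/-- The coefficient works on every rational pair. -/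
def Coef (Q : QuadraticForm F (ι → F)) (T : (ι → F₀) → ι → F) (Q₀ : QuadraticForm F₀ (ι → F₀))
    (K : Subgroup (GL ι F)) (l : F) : Prop :=
  ∀ a c, Q₀ a = 0 → Q₀ c = 0 → QuadraticMap.polar Q₀ a c = 0 → InE Q K (T a) (l • T c)

/-- Isolating one pairing. -/
theorem isolate {A : Submodule F₀ (ι → F₀)} (hA : Room Q₀ A) {a y : ι → F} (haA : a ∈ Tsp T A) (ha : Q a = 0)
    (hy : ⟪a, y⟫ = 0) (h : InE Q K a y) {e : ι → F₀} (he : e ∈ perp Q₀ A) :
    ∃ z e₂, (z ∈ perp Q₀ A ∧ Q₀ z = 0) ∧ (e₂ ∈ perp Q₀ A ∧ Q₀ e₂ = 0 ∧ e₂ ∉ A) ∧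
      InE Q K a ((⟪y, T e⟫ + (Q₀ e : F) * ⟪y, T z⟫) • T e₂) := by
  obtain ⟨z, z₂, e₂, ⟨hzA, hz, hze⟩, ⟨hz₂A, hz₂, hz₂e⟩, hzz, he₂A, he₂, he₂z, he₂z₂, he₂e, he₂A'⟩ :=
    exists_chain S.pnd₀ hA he
  obtain ⟨h1, p1⟩ := diff S ha hy hz hze (Tsp_perp S haA hzA) (Tsp_perp S haA he) h
  obtain ⟨h2, p2⟩ := diff S ha p1 hz₂ (by rw [polar_comm]; exact he₂z₂) (Tsp_perp S haA hz₂A) (Tsp_perp S haA he₂A) h1
  refine ⟨z, e₂, ⟨hzA, hz⟩, ⟨he₂A, he₂, he₂A'⟩, ?_⟩
  have h3 := InE.neg S ha p2 h2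
  convert h3 using 1
  have q1 : ⟪T e, T z₂⟫ = 0 := T_orth' S hz₂e
  have q2 : ⟪T z, T z₂⟫ = 1 := by rw [T_polar S, hzz]; rfl
  have q3 : ⟪T e, T e₂⟫ = 0 := T_orth' S he₂e
  have q4 : ⟪T z, T e₂⟫ = 0 := T_orth' S he₂z
  simp only [polar_sub_left, p_smul_left, q1, q2, q3, q4, he₂, Subfield.coe_zero]
  module

theorem room_list (h14 : 14 ≤ Fintype.card ι) {k : ℕ} (s : Fin k → ι → F₀) (hk : k ≤ 4) :
    Room Q₀ (Submodule.span F₀ (Set.range s)) :=
  room_of_small (by rw [Module.finrank_pi]; exact h14) ((finrank_span_list (F := F₀) s).trans hk)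

theorem room_two (h10 : 10 ≤ Fintype.card ι) (s : Fin 2 → ι → F₀) :
    Room Q₀ (Submodule.span F₀ (Set.range s)) := by
  have h1 := finrank_span_list (F := F₀) s
  have h2 := Submodule.finrank_mono (R := F₀)
    (inf_le_left : Submodule.span F₀ (Set.range s) ⊓ perp Q₀ (Submodule.span F₀ (Set.range s)) ≤ _)
  rw [Room, Module.finrank_pi]
  omega

theorem room_one (a : ι → F₀) : Room Q₀ (Submodule.span F₀ {a}) := by
  have hn := dim₀ S
  have h1 : finrank F₀ (Submodule.span F₀ {a}) ≤ 1 :=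
    (finrank_span_le_card ({a} : Set (ι → F₀))).trans (by rw [Set.toFinset_singleton, Finset.card_singleton])
  have h2 := Submodule.finrank_mono (R := F₀)
    (inf_le_left : Submodule.span F₀ {a} ⊓ perp Q₀ (Submodule.span F₀ {a}) ≤ Submodule.span F₀ {a})
  rw [Room]
  omega

/-- Pairings with a vector of a rational Eichler element are rational. -/
theorem pairing_rational (hI : ¬ Irr Q T Q₀ K) {a : ι → F₀} (ha : Q₀ a = 0) (ha0 : a ≠ 0) {y : ι → F}
    (hy : ⟪T a, y⟫ = 0) (h : InE Q K (T a) y) {e : ι → F₀} (hae : ⟪a, e⟫₀ = 0) : ⟪y, T e⟫ ∈ F₀ := by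
  have hea : e ∈ perp Q₀ (Submodule.span F₀ {a}) := perp_span fun b hb => by
    rw [Set.mem_singleton_iff.mp hb, polar_comm, hae]
  have key : ∀ e ∈ perp Q₀ (Submodule.span F₀ {a}), ∃ z ∈ perp Q₀ (Submodule.span F₀ {a}), Q₀ z = 0 ∧
      ⟪y, T e⟫ + (Q₀ e : F) * ⟪y, T z⟫ ∈ F₀ := fun e he => by
    obtain ⟨z, e₂, ⟨hz, hzQ⟩, ⟨he₂, he₂Q, he₂a⟩, hin⟩ :=
      isolate S (room_one S a) (mem_Tsp S (Submodule.mem_span_singleton_self a)) (T_iso S ha) hy h he
    refine ⟨z, hz, hzQ, ?_⟩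
    by_contra hbad
    exact hI ⟨a, e₂, _, ha, he₂Q, by rw [polar_comm]; exact mem_perp.mp he₂ a (Submodule.mem_span_singleton_self a), ha0,
      he₂a, hbad, hin⟩
  obtain ⟨z, hz, hzQ, h1⟩ := key e hea
  obtain ⟨z', -, -, h2⟩ := key z hz
  rw [hzQ, Subfield.coe_zero, zero_mul, add_zero] at h2
  have := sub_mem h1 (mul_mem (Q₀ e).2 h2)
  rwa [add_sub_cancel_right] at this

/-- The vector of a rational Eichler element is rational modulo the centre. -/
theorem real_mod (hI : ¬ Irr Q T Q₀ K) {a : ι → F₀} (ha : Q₀ a = 0) (ha0 : a ≠ 0) {y : ι → F}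
    (hy : ⟪T a, y⟫ = 0) (h : InE Q K (T a) y) : ∃ (w : ι → F₀) (c : F), y = T w + c • T a := by
  obtain ⟨d, -, hd⟩ := exists_sep S.pnd₀ (A := (⊥ : Submodule F₀ (ι → F₀))) (a := a)
    (by rw [Submodule.mem_bot]; exact ha0)
  have had : ⟪T a, T d⟫ = 1 := by rw [polar_comm, T_polar S, hd]; rfl
  obtain ⟨w, hw⟩ := exists_real S (v := y - ⟪y, T d⟫ • T a) fun v => by
    have hv : ⟪a, v - ⟪v, a⟫₀ • d⟫₀ = 0 := by
      rw [polar_sub_right, p_smul_right, polar_comm Q₀ a v, polar_comm Q₀ a d, hd]; ring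
    have h1 := pairing_rational S hI ha ha0 hy h hv
    rw [T_sub S, S.T_smul, polar_sub_right, p_smul_right] at h1
    rw [polar_sub_left, p_smul_left, polar_comm Q (T a) (T v), T_polar S]
    convert h1 using 1
    ring
  exact ⟨w, _, sub_eq_iff_eq_add.mp hw⟩

/-- One pair serves all. -/
theorem coef_of_pair {a c : ι → F₀} {l : F} (ha : Q₀ a = 0) (hc : Q₀ c = 0) (hac : ⟪a, c⟫₀ = 0) (ha0 : a ≠ 0)
    (hind : c ∉ Submodule.span F₀ {a}) (h : InE Q K (T a) (l • T c)) : Coef Q T Q₀ K l := by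
  have hn := dim₀ S
  have one_move : ∀ a c c', Q₀ a = 0 → Q₀ c = 0 → Q₀ c' = 0 → ⟪a, c⟫₀ = 0 → ⟪a, c'⟫₀ = 0 → ⟪c, c'⟫₀ = 0 →
      c ∉ Submodule.span F₀ {a} → c' ∉ Submodule.span F₀ {a, c} →
      InE Q K (T a) (l • T c) → InE Q K (T a) (l • T c') := by
    intro a c c' ha hc hc' hac hac' hcc hind hind' h
    have hcc0 : ⟪c, c⟫₀ = 0 := by rw [p_self, hc, mul_zero]
    obtain ⟨u, huA, hu, huc⟩ := exists_partner (A := Submodule.span F₀ {a, c' - c}) S.pnd₀ hc
      (perp_span fun b hb => by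
        rcases hb with rfl | hb
        · rw [polar_comm, hac]
        · rw [Set.mem_singleton_iff.mp hb, polar_sub_right, hcc, hcc0, sub_zero])
      (fun hm => by
        obtain ⟨x, y, e⟩ := Submodule.mem_span_pair.mp hm
        by_cases hy : y = 0
        · refine hind ?_
          rw [← e, hy, zero_smul, add_zero]
          exact Submodule.smul_mem _ _ (Submodule.mem_span_singleton_self a)
        refine hind' ?_
        have h' : y • c' = (1 + y) • c + (-x) • a := by linear_combination (norm := module) e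
        rw [show c' = y⁻¹ • ((1 + y) • c + (-x) • a) by rw [← h', smul_smul, inv_mul_cancel₀ hy, one_smul]]
        exact Submodule.smul_mem _ _ (Submodule.add_mem _ (Submodule.smul_mem _ _ (Submodule.subset_span (by simp)))
          (Submodule.smul_mem _ _ (Submodule.subset_span (by simp)))))
    have hua : ⟪u, a⟫₀ = 0 := mem_perp.mp huA a (Submodule.subset_span (by simp))
    have huw : ⟪u, c' - c⟫₀ = 0 := mem_perp.mp huA _ (Submodule.subset_span (by simp))
    obtain ⟨k, hk, hkv⟩ := S.base u (c' - c) hu huw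
    have e1 : (k : Matrix ι ι F) *ᵥ T a = T a := push_apply S hkv (T_orth' S hua)
      (T_orth S (by rw [polar_sub_right, hac', hac, sub_self]))
    have e2 : (k : Matrix ι ι F) *ᵥ T c = T c' := by
      have hQ0 : Q₀ (c' - c) = 0 := by
        rw [sub_eq_add_neg, q_add, QuadraticMap.map_neg, polar_neg_right, polar_comm Q₀ c' c, hcc, hc', hc]
        ring
      rw [hkv, eichler, S.hT, hQ0, T_polar S c u, huc, T_orth S (u := c) (w := c' - c)
        (by rw [polar_sub_right, hcc, hcc0, sub_self]), Subfield.coe_one, one_smul,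
        Subfield.coe_zero, zero_mul, add_zero, zero_smul, sub_zero, ← S.T_add, add_sub_cancel]
    have := InE.conj S h hk
    rwa [e1, Matrix.mulVec_smul, e2] at this
  have move : ∀ a c c', Q₀ a = 0 → Q₀ c = 0 → Q₀ c' = 0 → ⟪a, c⟫₀ = 0 → ⟪a, c'⟫₀ = 0 →
      c ∉ Submodule.span F₀ {a} → c' ∉ Submodule.span F₀ {a} →
      InE Q K (T a) (l • T c) → InE Q K (T a) (l • T c') := by
    intro a c c' ha hc hc' hac hac' hind hind' h
    by_cases hcc : ⟪c, c'⟫₀ = 0
    · by_cases hmem : c' ∈ Submodule.span F₀ {a, c}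
      swap
      · exact one_move a c c' ha hc hc' hac hac' hcc hind hmem h
      obtain ⟨b, hb, hbs, hbt⟩ := exists_sing_list S.pnd₀ ![a, c] ![a, c] (by omega)
      have hab : ⟪a, b⟫₀ = 0 := by rw [polar_comm]; exact hbs 0
      have hbc : ⟪b, c⟫₀ = 0 := hbs 1
      have hb1 : b ∉ Submodule.span F₀ {a} := fun hm => hbt (Submodule.span_mono (by simp) hm)
      have hr : Submodule.span F₀ (Set.range ![a, c]) = Submodule.span F₀ {a, c} := by
        rw [Matrix.range_cons_cons_empty]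
      rw [hr] at hbt
      obtain ⟨x, y, e⟩ := Submodule.mem_span_pair.mp hmem
      have hbc' : ⟪b, c'⟫₀ = 0 := by
        rw [← e, polar_add_right, p_smul_right, p_smul_right, hbc, polar_comm Q₀ b a, hab]
        ring
      refine one_move a b c' ha hb hc' hab hac' hbc' hb1 (fun hm => ?_)
        (one_move a c b ha hc hb hac hab (by rw [polar_comm]; exact hbc) hind hbt h)
      obtain ⟨x', y', e'⟩ := Submodule.mem_span_pair.mp hm
      by_cases hy' : y' = 0
      · refine hind' ?_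
        rw [← e', hy', zero_smul, add_zero]
        exact Submodule.smul_mem _ _ (Submodule.mem_span_singleton_self a)
      refine hbt ?_
      rw [show b = y'⁻¹ • c' + (-(y'⁻¹ * x')) • a by
        rw [← e', smul_add, smul_smul, smul_smul, inv_mul_cancel₀ hy']; module]
      exact Submodule.add_mem _ (Submodule.smul_mem _ _ hmem) (Submodule.smul_mem _ _ (Submodule.subset_span (by simp)))
    obtain ⟨A, hA⟩ : ∃ A, A = Submodule.span F₀ (Set.range ![a, c, c']) := ⟨_, rfl⟩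
    have hA3 : finrank F₀ A ≤ 3 := hA ▸ finrank_span_list (F := F₀) ![a, c, c']
    have hrad : finrank F₀ (A ⊓ perp Q₀ A : Submodule F₀ (ι → F₀)) ≤ 1 := by
      refine (Submodule.finrank_mono (t := Submodule.span F₀ {a}) ?_).trans
        ((finrank_span_le_card ({a} : Set (ι → F₀))).trans (by rw [Set.toFinset_singleton, Finset.card_singleton]))
      rintro v ⟨hvA, hvp⟩
      rw [hA] at hvA hvp
      obtain ⟨k, rfl⟩ := (Submodule.mem_span_range_iff_exists_fun F₀).mp hvA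
      have e1 := mem_perp.mp hvp c (Submodule.subset_span ⟨1, rfl⟩)
      have e2 := mem_perp.mp hvp c' (Submodule.subset_span ⟨2, rfl⟩)
      simp only [Fin.sum_univ_three, Matrix.cons_val_zero, Matrix.cons_val_one, Matrix.cons_val, polar_add_left,
        p_smul_left, hac, hac', p_self, hc, hc', polar_comm Q₀ c' c, mul_zero, zero_add, add_zero] at e1 e2
      rw [mul_eq_zero] at e1 e2
      simp only [Fin.sum_univ_three, Matrix.cons_val_zero, Matrix.cons_val_one, Matrix.cons_val,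
        e1.resolve_right hcc, e2.resolve_right hcc, zero_smul, add_zero]
      exact Submodule.smul_mem _ _ (Submodule.mem_span_singleton_self a)
    obtain ⟨b, hbA, hb, hbt⟩ := exists_sing_out S.pnd₀ A A (by omega)
    have hbs : ∀ i, ⟪b, ![a, c, c'] i⟫₀ = 0 := fun i => mem_perp.mp hbA _ (hA ▸ Submodule.subset_span ⟨i, rfl⟩)
    rw [hA] at hbt
    have hab : ⟪a, b⟫₀ = 0 := by rw [polar_comm]; exact hbs 0
    have hb1 : b ∉ Submodule.span F₀ {a} := fun hm => hbt (Submodule.span_mono (by simp) hm)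
    refine one_move a b c' ha hb hc' hab hac' (hbs 2) hb1 (fun hm => ?_)
      (one_move a c b ha hc hb hac hab (by rw [polar_comm]; exact hbs 1) hind
        (fun hm => hbt (Submodule.span_mono (by simp [Set.insert_subset_iff]) hm)) h)
    obtain ⟨x, y, e⟩ := Submodule.mem_span_pair.mp hm
    by_cases hy : y = 0
    · refine hind' ?_
      rw [← e, hy, zero_smul, add_zero]
      exact Submodule.smul_mem _ _ (Submodule.mem_span_singleton_self a)
    refine hbt ?_
    rw [show b = y⁻¹ • c' + (-(y⁻¹ * x)) • a by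
      rw [← e, smul_add, smul_smul, smul_smul, inv_mul_cancel₀ hy]; module]
    exact Submodule.add_mem _ (Submodule.smul_mem _ _ (Submodule.subset_span ⟨2, rfl⟩))
      (Submodule.smul_mem _ _ (Submodule.subset_span ⟨0, rfl⟩))
  have flip : ∀ {a c : ι → F₀}, Q₀ a = 0 → Q₀ c = 0 → ⟪a, c⟫₀ = 0 → InE Q K (T a) (l • T c) →
      InE Q K (T c) (l • T a) := by
    intro a c ha hc hac h
    have h1 := InE.scale S (InE.swap S (T_iso S ha) (by rw [q_smul, T_iso S hc, mul_zero]) h)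
    have h2 := InE.neg S (T_iso S hc) (by
      rw [p_smul_right, polar_neg_right, T_orth' S hac, neg_zero, mul_zero]) h1
    rwa [smul_neg, neg_neg] at h2
  intro a' c' ha' hc' hac'
  by_cases ha'0 : a' = 0
  · rw [ha'0, T_zero S]
    exact ⟨1, one_mem K, fun x => by simp [eichler]⟩
  by_cases hc'a : c' ∈ Submodule.span F₀ {a'}
  · obtain ⟨k, rfl⟩ := Submodule.mem_span_singleton.mp hc'a
    have := InE.shift S (T_iso S ha') (polar_zero_right Q _) (l * (k : F))
      ⟨1, one_mem K, fun x => by simp [eichler]⟩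
    rwa [zero_add, ← smul_smul, ← S.T_smul] at this
  obtain ⟨b, hb, hbs, hbt⟩ := exists_sing_list S.pnd₀ ![a, a'] ![a, a'] (by omega)
  have hab : ⟪a, b⟫₀ = 0 := by rw [polar_comm]; exact hbs 0
  have hab' : ⟪a', b⟫₀ = 0 := by rw [polar_comm]; exact hbs 1
  have nb : ∀ x, x ≠ 0 → x ∈ Set.range ![a, a'] → x ∉ Submodule.span F₀ {b} := fun x hx hxr hm => by
    obtain ⟨k, hk⟩ := Submodule.mem_span_singleton.mp hm
    have hk0 : k ≠ 0 := fun e => hx (by rw [← hk, e, zero_smul])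
    refine hbt ?_
    rw [show b = k⁻¹ • x by rw [← hk, smul_smul, inv_mul_cancel₀ hk0, one_smul]]
    exact Submodule.smul_mem _ _ (Submodule.subset_span hxr)
  have h1 := move a c b ha hc hb hac hab hind (fun hm => hbt (Submodule.span_mono (by simp) hm)) h
  have h2 := move b a a' hb ha ha' (hbs 0) (hbs 1) (nb a ha0 ⟨0, rfl⟩) (nb a' ha'0 ⟨1, rfl⟩) (flip ha hb hab h1)
  exact move a' b c' ha' hb hc' hab' hac' (fun hm => hbt (Submodule.span_mono (by simp) hm)) hc'a
    (flip hb ha' (hbs 1) h2)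

theorem coef_mul {x y : F} (hx : Coef Q T Q₀ K x) (hy : Coef Q T Q₀ K y) : Coef Q T Q₀ K (x * y) := by
  have hn := dim₀ S
  obtain ⟨a, ha, -, hat⟩ := exists_sing_list S.pnd₀ ![(0 : ι → F₀)] ![(0 : ι → F₀)] (by omega)
  have ha0 : a ≠ 0 := fun e => hat (by rw [e]; exact zero_mem _)
  obtain ⟨d, hd, hds, hdt⟩ := exists_sing_list S.pnd₀ ![a] ![a] (by omega)
  obtain ⟨c, hc, hcs, hct⟩ := exists_sing_list S.pnd₀ ![a, d] ![a, d] (by omega)
  obtain ⟨c', hc's, hc', hcc⟩ := exists_partner (A := Submodule.span F₀ (Set.range ![a, d])) S.pnd₀ hc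
    (perp_span (by rintro b ⟨i, rfl⟩; exact hcs i)) hct
  have hda : ⟪d, a⟫₀ = 0 := hds 0
  have hca : ⟪c, a⟫₀ = 0 := hcs 0
  have hcd : ⟪c, d⟫₀ = 0 := hcs 1
  have hc'a : ⟪c', a⟫₀ = 0 := mem_perp.mp hc's a (Submodule.subset_span ⟨0, rfl⟩)
  have hc'd : ⟪c', d⟫₀ = 0 := mem_perp.mp hc's d (Submodule.subset_span ⟨1, rfl⟩)
  obtain ⟨k, hk, hkv⟩ := hx a c ha hc (by rw [polar_comm]; exact hca)
  have e1 : (k : Matrix ι ι F) *ᵥ T c' = T c' + (-x) • T a := by
    rw [hkv, eichler, p_smul_right, T_orth S hc'a, polar_comm Q (T c') (T c), T_polar S c c', hcc, Subfield.coe_one]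
    module
  have e2 : (k : Matrix ι ι F) *ᵥ T d = T d := by
    rw [hkv, eichler, T_orth S hda, p_smul_right, T_orth' S hcd]
    simp
  have h1 := InE.conj S (hy c' d hc' hd hc'd) hk
  rw [e1, Matrix.mulVec_smul, e2] at h1
  have hQk : Q (T c' + (-x) • T a) = 0 := by
    rw [q_add, T_iso S hc', q_smul, T_iso S ha, p_smul_right, T_orth S hc'a]; ring
  have h2 := InE.scale S (InE.swap S hQk (by rw [q_smul, T_iso S hd, mul_zero]) h1)
  have hdc' : ⟪d, c'⟫₀ = 0 := by rw [polar_comm]; exact hc'd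
  have h3 := InE.add S (T_iso S hd) (by
      rw [p_smul_right, polar_neg_right, polar_add_right, p_smul_right, T_orth S hdc', T_orth S hda]; ring)
    (by rw [p_smul_right, T_orth S hdc', mul_zero]) h2 (hy d c' hd hc' hdc')
  refine coef_of_pair S hd ha hda (fun e => hdt (by rw [e]; exact zero_mem _)) (fun hm => ?_) ?_
  · obtain ⟨r, hr⟩ := Submodule.mem_span_singleton.mp hm
    have hr0 : r ≠ 0 := fun e => ha0 (by rw [← hr, e, zero_smul])
    refine hdt ?_
    rw [show d = r⁻¹ • a by rw [← hr, smul_smul, inv_mul_cancel₀ hr0, one_smul]]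
    exact Submodule.smul_mem _ _ (Submodule.subset_span ⟨0, rfl⟩)
  · convert h3 using 1
    module

/-- All coefficients, once one is irrational. -/
theorem coef_all {r : ℕ} (hr : r.Prime) (hcard : Fintype.card F = Nat.card F₀ ^ r) (h : Irr Q T Q₀ K) (l : F) :
    Coef Q T Q₀ K l := by
  obtain ⟨a, c, l₀, ha, hc, hac, ha0, hind, hl₀, hin⟩ := h
  have hbase : ∀ x : F₀, Coef Q T Q₀ K (x : F) := fun x a c ha hc hac => by
    have := S.base a (x • c) ha (by rw [p_smul_right, hac, mul_zero])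
    rwa [S.T_smul] at this
  have hadd : ∀ x y, Coef Q T Q₀ K x → Coef Q T Q₀ K y → Coef Q T Q₀ K (x + y) := fun x y hx hy a c ha hc hac => by
    rw [add_smul]
    exact InE.add S (T_iso S ha) (by rw [p_smul_right, T_orth S hac, mul_zero])
      (by rw [p_smul_right, T_orth S hac, mul_zero]) (hx a c ha hc hac) (hy a c ha hc hac)
  let F₁ : Subfield F :=
    { carrier := {x | Coef Q T Q₀ K x}
      mul_mem' := fun hx hy => coef_mul S hx hy
      one_mem' := by simpa using hbase 1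
      add_mem' := fun hx hy => hadd _ _ hx hy
      zero_mem' := by simpa using hbase 0
      neg_mem' := fun {x} hx => by
        have := coef_mul S (hbase (-1)) hx
        simpa using this
      inv_mem' := fun x hx => by
        by_cases hx0 : x = 0
        · simpa [hx0] using hbase 0
        have h1 := FiniteField.pow_card_sub_one_eq_one x hx0
        have h2 := Fintype.one_lt_card (α := F)
        have e : x⁻¹ = x ^ (Fintype.card F - 2) := by
          refine inv_eq_of_mul_eq_one_right ?_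
          rw [← pow_succ', show Fintype.card F - 2 + 1 = Fintype.card F - 1 by omega, h1]
        rw [e]
        have hpow : ∀ n : ℕ, Coef Q T Q₀ K (x ^ n) := fun n => by
          induction n with
          | zero => simpa using hbase 1
          | succ n ih => rw [pow_succ]; exact coef_mul S ih hx
        exact hpow _ }
  have hle : F₀ ≤ F₁ := fun x hx => hbase ⟨x, hx⟩
  haveI : Fintype F₁ := Fintype.ofFinite F₁
  have htop : F₁ = ⊤ := by
    letI : Algebra F₀ F₁ := (Subfield.inclusion hle).toAlgebra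
    have e1 := Module.natCard_eq_pow_finrank (K := F₀) (V := F₁)
    have e2 := Module.natCard_eq_pow_finrank (K := F₁) (V := F)
    rw [e1, ← pow_mul, Nat.card_eq_fintype_card (α := F), hcard] at e2
    have hq : 1 < Nat.card F₀ := Finite.one_lt_card
    have hjk := Nat.pow_right_injective hq e2
    have hne : Module.finrank F₀ F₁ ≠ 1 := fun e => by
      rw [e, pow_one] at e1
      have : (F₀ : Set F) = (F₁ : Set F) := Set.eq_of_subset_of_ncard_le hle
        (by rw [← Nat.card_coe_set_eq, ← Nat.card_coe_set_eq]; exact e1.le) (Set.toFinite _)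
      exact hl₀ (by
        rw [← SetLike.mem_coe, this]
        exact coef_of_pair S ha hc hac ha0 hind hin)
    rcases Nat.Prime.eq_one_or_self_of_dvd hr _ (Dvd.intro _ hjk.symm) with e | e
    · exact absurd e hne
    · rw [e] at e1
      exact SetLike.coe_injective (Set.eq_of_subset_of_ncard_le (Set.subset_univ _)
        (by rw [Subfield.coe_top, Set.ncard_univ, ← Nat.card_coe_set_eq]; exact (Nat.card_eq_fintype_card.trans hcard).trans_le e1.ge)
        (Set.toFinite _))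
  exact (show l ∈ F₁ from htop ▸ Subfield.mem_top l)

/-- All Eichler elements. -/
theorem full {r : ℕ} (hr : r.Prime) (hcard : Fintype.card F = Nat.card F₀ ^ r) (h : Irr Q T Q₀ K)
    {e y : ι → F} (he : Q e = 0) (hey : ⟪e, y⟫ = 0) : InE Q K e y := by
  have hC := coef_all S hr hcard h
  -- rational centres
  have hreal : ∀ a, Q₀ a = 0 → ∀ y, ⟪T a, y⟫ = 0 → InE Q K (T a) y := by
    intro a ha
    by_cases ha0 : a = 0
    · intro y _
      rw [ha0, T_zero S]
      exact ⟨1, one_mem K, fun x => by simp [eichler]⟩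
    have hrat : ∀ w, ⟪a, w⟫₀ = 0 → ∀ l : F, InE Q K (T a) (l • T w) := by
      intro w haw l
      obtain ⟨x, y, z, c, ⟨hxp, hx⟩, ⟨hyp, hy⟩, ⟨hzp, hz⟩, rfl⟩ := exists_decomp S.pnd₀ (room_one S a) (v := w)
        (perp_span fun b hb => by rw [Set.mem_singleton_iff.mp hb, polar_comm, haw])
      have hax : ⟪a, x⟫₀ = 0 := by rw [polar_comm]; exact mem_perp.mp hxp a (Submodule.mem_span_singleton_self a)
      have hay : ⟪a, y⟫₀ = 0 := by rw [polar_comm]; exact mem_perp.mp hyp a (Submodule.mem_span_singleton_self a)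
      have haz : ⟪a, z⟫₀ = 0 := by rw [polar_comm]; exact mem_perp.mp hzp a (Submodule.mem_span_singleton_self a)
      have h1 := InE.add S (T_iso S ha) (by rw [p_smul_right, T_orth S hax, mul_zero])
        (by rw [p_smul_right, T_orth S hay, mul_zero]) (hC l a x ha hx hax) (hC (-l) a y ha hy hay)
      have h2 := InE.add S (T_iso S ha) (by
          rw [polar_add_right, p_smul_right, p_smul_right, T_orth S hax, T_orth S hay]; ring)
        (by rw [p_smul_right, T_orth S haz, mul_zero]) h1 (hC (l * (c : F)) a z ha hz haz)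
      convert h2 using 1
      rw [S.T_add, T_sub S, S.T_smul]
      module
    intro y hy
    obtain ⟨d, -, hda⟩ := exists_sep S.pnd₀ (A := (⊥ : Submodule F₀ (ι → F₀))) (a := a)
      (by rw [Submodule.mem_bot]; exact ha0)
    obtain ⟨μ, hμ⟩ := S.T_span y
    obtain ⟨w, hw⟩ : ∃ w : ι → ι → F₀, ∀ i, w i = Pi.single i 1 - ⟪Pi.single i 1, a⟫₀ • d := ⟨_, fun _ => rfl⟩
    have hwa : ∀ i, ⟪a, w i⟫₀ = 0 := fun i => by
      rw [hw, polar_sub_right, p_smul_right, polar_comm Q₀ a d, hda, polar_comm Q₀ a]; ring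
    have hsum : y = ∑ i, μ i • T (w i) := by
      have h0 : ∑ i, μ i * ((⟪Pi.single i 1, a⟫₀ : F₀) : F) = 0 := by
        have : Q.polarBilin (T a) y = 0 := hy
        rw [hμ, map_sum] at this
        rw [← this]
        refine Finset.sum_congr rfl fun i _ => ?_
        rw [_root_.map_smul, smul_eq_mul]
        change _ = μ i * ⟪T a, T _⟫
        rw [T_polar S, polar_comm Q₀ a]
      calc y = ∑ i, μ i • T (Pi.single i 1) := hμ
        _ = ∑ i, μ i • T (w i) + (∑ i, μ i * ((⟪Pi.single i 1, a⟫₀ : F₀) : F)) • T d := by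
          rw [Finset.sum_smul, ← Finset.sum_add_distrib]
          refine Finset.sum_congr rfl fun i _ => ?_
          rw [hw, T_sub S, S.T_smul]
          module
        _ = _ := by rw [h0, zero_smul, add_zero]
    rw [hsum]
    suffices hs : ∀ s : Finset ι, InE Q K (T a) (∑ i ∈ s, μ i • T (w i)) ∧
        ⟪T a, ∑ i ∈ s, μ i • T (w i)⟫ = 0 from (hs Finset.univ).1
    intro s
    induction s using Finset.induction with
    | empty => exact ⟨by rw [Finset.sum_empty]; exact ⟨1, one_mem K, fun x => by simp [eichler]⟩,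
        by rw [Finset.sum_empty]; exact polar_zero_right Q _⟩
    | insert i s hi ih =>
      have h0 : ⟪T a, μ i • T (w i)⟫ = 0 := by rw [p_smul_right, T_orth S (hwa i), mul_zero]
      rw [Finset.sum_insert hi]
      exact ⟨InE.add S (T_iso S ha) h0 ih.2 (hrat _ (hwa i) _) ih.1, by rw [polar_add_right, h0, ih.2, add_zero]⟩
  by_cases he0 : e = 0
  · subst he0
    exact ⟨1, one_mem K, fun x => by simp [eichler]⟩
  -- a rational singular vector seeing the centre
  obtain ⟨a, ha, hea⟩ : ∃ a, Q₀ a = 0 ∧ ⟪e, T a⟫ ≠ 0 := by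
    by_contra hcon
    push Not at hcon
    refine he0 (eq_zero_of_perp S fun u => ?_)
    obtain ⟨x, y, z, c, hx, hy, hz, rfl⟩ := exists_decomp_top S.pnd₀ (dim₀ S) u
    rw [S.T_add, T_sub S, S.T_smul, polar_add_right, polar_sub_right, p_smul_right, hcon x hx, hcon y hy, hcon z hz]
    ring
  have ha0 : a ≠ 0 := fun h0 => hea (by rw [h0, T_zero S, polar_zero_right])
  obtain ⟨a₂, -, ha₂, haa⟩ := exists_partner (A := (⊥ : Submodule F₀ (ι → F₀))) S.pnd₀ ha
    (mem_perp.mpr fun b hb => by rw [(Submodule.mem_bot F₀).mp hb, polar_zero_right])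
    (by rw [Submodule.mem_bot]; exact ha0)
  obtain ⟨φ, hφ⟩ : ∃ φ, φ = ⟪e, T a⟫ := ⟨_, rfl⟩
  rw [← hφ] at hea
  obtain ⟨α, hα⟩ : ∃ α, α = ⟪e, T a₂⟫ := ⟨_, rfl⟩
  obtain ⟨y₀, hy₀⟩ : ∃ y₀, y₀ = (-φ⁻¹) • (e - α • T a - φ • T a₂) := ⟨_, rfl⟩
  have haa₂ : ⟪T a, T a₂⟫ = 1 := by rw [T_polar S, haa]; rfl
  have hay : ⟪T a, y₀⟫ = 0 := by
    rw [hy₀, p_smul_right, polar_sub_right, polar_sub_right, p_smul_right, p_smul_right, p_self, T_iso S ha, haa₂,
      polar_comm Q (T a) e, ← hφ]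
    ring
  obtain ⟨k, hk, hkv⟩ := hreal a ha y₀ hay
  obtain ⟨ψ, hψ⟩ : ∃ ψ, ψ = α - (⟪e, y₀⟫ + Q y₀ * φ) := ⟨_, rfl⟩
  have hke : (k : Matrix ι ι F) *ᵥ e = ψ • T a + φ • T a₂ := by
    rw [hkv, eichler, ← hφ, hψ]
    have e1 : φ • y₀ = -(e - α • T a - φ • T a₂) := by
      rw [hy₀, smul_smul, mul_neg, mul_inv_cancel₀ hea, neg_one_smul]
    rw [e1]
    module
  have hψ0 : ψ = 0 := by
    have h0 := S.iso k hk e
    rw [hke, he, q_add, q_smul, q_smul, T_iso S ha, T_iso S ha₂, p_smul_left, p_smul_right, haa₂] at h0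
    simpa [hea] using h0
  rw [hψ0, zero_smul, zero_add] at hke
  have hz : InE Q K (φ • T a₂) ((k : Matrix ι ι F) *ᵥ y) := InE.unscale S (hreal a₂ ha₂ _ (by
    rw [p_smul_right, ← p_smul_left, ← hke, iso_polar S hk, hey]))
  rw [← hke] at hz
  have := InE.conj S hz (inv_mem hk)
  rwa [gl_inv_mulVec_cancel, gl_inv_mulVec_cancel] at this

end Cfsg.Agent.Classical.OSubAll
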