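/-
An element carrying one rational point into a small rational subspace is proportional to a rational one, or gives an
irrational coefficient.
-/
import Cfsg.Agent.Lib.Classical.OSubAllTools

set_option autoImplicit false
set_option linter.unusedSectionVars false

namespace Cfsg.Agent.Classical.OSubAll

open Matrix Module QuadraticMap OCount Cfsg.Geo
open Cfsg.Agent.Classical
open Cfsg.Agent.Small.QuadBasis (q_add q_smul p_smul_left p_smul_right p_self)

variable {ι : Type} [Fintype ι] [DecidableEq ι] {F : Type*} [Field F] [Fintype F] {F₀ : Subfield F} [Fintype F₀]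
  {Q : QuadraticForm F (ι → F)} {T : (ι → F₀) → ι → F} {Q₀ : QuadraticForm F₀ (ι → F₀)} {K : Subgroup (GL ι F)}

/-- The polar form. -/
local notation "⟪" x ", " y "⟫" => QuadraticMap.polar Q x y

/-- The rational polar form. -/
local notation "⟪" x ", " y "⟫₀" => QuadraticMap.polar Q₀ x y

/-- Proportional to a rational map. -/
def Good (T : (ι → F₀) → ι → F) (g : GL ι F) : Prop :=
  ∃ μ : F, μ ≠ 0 ∧ ∀ x, ∃ w, (g : Matrix ι ι F) *ᵥ T x = μ • T w

variable (S : Setup Q T Q₀ K)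

include S

theorem exists_point (A : Submodule F₀ (ι → F₀)) (hA : Room Q₀ A) {u : ι → F} (hu : u ∉ Tsp T A) :
    ∃ a, Q₀ a = 0 ∧ a ∈ perp Q₀ A ∧ ⟪u, T a⟫ ≠ 0 := by
  obtain ⟨e, he, hue⟩ : ∃ e ∈ perp Q₀ A, ⟪u, T e⟫ ≠ 0 := by
    by_contra hcon
    push Not at hcon
    exact hu (mem_Tsp_of_perp S hcon)
  obtain ⟨x, y, z, c, ⟨hxp, hx⟩, ⟨hyp, hy⟩, ⟨hzp, hz⟩, rfl⟩ := exists_decomp S.pnd₀ hA he
  by_contra hcon
  push Not at hcon
  refine hue ?_
  rw [S.T_add, T_sub S, S.T_smul, polar_add_right, polar_sub_right, p_smul_right, hcon x hx hxp, hcon y hy hyp,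
    hcon z hz hzp]
  ring

variable (hI : ¬ Irr Q T Q₀ K)

include hI

/-- A small centre of an Eichler element with a rational vector is rational. -/
theorem centre_rational_of_point {A : Submodule F₀ (ι → F₀)} {u : ι → F} (hu : u ∈ Tsp T A) (hu0 : Q u = 0)
    {z : ι → F₀} (hz : Q₀ z = 0) (hzA : z ∈ perp Q₀ A) (hzA' : z ∉ A) {c : F} (hc : c ≠ 0)
    (h : InE Q K u (c • T z)) : ∃ (ν : F) (w : ι → F₀), u = ν • T w := by
  have hz0 : z ≠ 0 := fun e => hzA' (by rw [e]; exact A.zero_mem)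
  have huz : ⟪u, T z⟫ = 0 := Tsp_perp S hu hzA
  have h1 := InE.scale S (InE.swap S hu0 (by rw [q_smul, T_iso S hz, mul_zero]) h)
  obtain ⟨w, κ, hw⟩ := real_mod S hI hz hz0
    (by rw [p_smul_right, polar_neg_right, polar_comm, huz, neg_zero, mul_zero]) h1
  obtain ⟨d, hdA, hdz⟩ := exists_sep S.pnd₀ hzA'
  have e0 := congrArg (fun v => ⟪v, T d⟫) hw
  simp only [p_smul_left, polar_neg_left, Tsp_perp S hu hdA, polar_add_left, neg_zero, mul_zero] at e0
  rw [T_polar S w d, T_polar S z d, polar_comm Q₀ z d, hdz, Subfield.coe_one, mul_one] at e0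
  refine ⟨-c⁻¹, w + (-⟪w, d⟫₀) • z, ?_⟩
  rw [S.T_add, S.T_smul, Subfield.coe_neg, show -((⟪w, d⟫₀ : F₀) : F) = κ from (eq_neg_of_add_eq_zero_right e0.symm).symm,
    ← hw, smul_smul, smul_neg, neg_mul, inv_mul_cancel₀ hc, neg_one_smul, neg_neg]

/-- A small centre of an Eichler element with a vector outside is rational. -/
theorem centre_rational {A : Submodule F₀ (ι → F₀)} (hA : Room Q₀ A) {u y : ι → F} (hu : u ∈ Tsp T A)
    (hu0 : Q u = 0) (huy : ⟪u, y⟫ = 0) (h : InE Q K u y) (hy : y ∉ Tsp T A) :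
    ∃ (ν : F) (w : ι → F₀), u = ν • T w := by
  obtain ⟨e, he, hye⟩ : ∃ e ∈ perp Q₀ A, ⟪y, T e⟫ ≠ 0 := by
    by_contra hcon
    push Not at hcon
    exact hy (mem_Tsp_of_perp S hcon)
  obtain ⟨z, e₂, ⟨hz, hzQ⟩, ⟨he₂, he₂Q, he₂A⟩, hin⟩ := isolate S hA hu hu0 huy h he
  by_cases hc : ⟪y, T e⟫ + (Q₀ e : F) * ⟪y, T z⟫ = 0
  · have hyz : ⟪y, T z⟫ ≠ 0 := fun e' => hye (by rwa [e', mul_zero, add_zero] at hc)
    obtain ⟨z', e₃, -, ⟨he₃, he₃Q, he₃A⟩, hin'⟩ := isolate S hA hu hu0 huy h hz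
    rw [hzQ, Subfield.coe_zero, zero_mul, add_zero] at hin'
    exact centre_rational_of_point S hI hu hu0 he₃Q he₃ he₃A hyz hin'
  · exact centre_rational_of_point S hI hu hu0 he₂Q he₂ he₂A hc hin

/-- An image of a rational singular point in a small subspace is rational. -/
theorem point_rational {A : Submodule F₀ (ι → F₀)} (hA : Room Q₀ A) {g : GL ι F} (hg : g ∈ K) {z : ι → F₀}
    (hz : Q₀ z = 0) (hz0 : z ≠ 0) (hgz : (g : Matrix ι ι F) *ᵥ T z ∈ Tsp T A) :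
    ∃ (μ : F) (w : ι → F₀), μ ≠ 0 ∧ (g : Matrix ι ι F) *ᵥ T z = μ • T w := by
  obtain ⟨y, hy, hgy⟩ : ∃ y ∈ perp Q₀ (Submodule.span F₀ {z}), (g : Matrix ι ι F) *ᵥ T y ∉ Tsp T A := by
    by_contra hcon
    push Not at hcon
    have hle : (Tsp T (perp Q₀ (Submodule.span F₀ {z}))).map
        (Matrix.toLin' (g : Matrix ι ι F)) ≤ Tsp T A := by
      rw [Tsp, Submodule.map_span, Submodule.span_le]
      rintro _ ⟨_, ⟨v, hv, rfl⟩, rfl⟩
      rw [Matrix.toLin'_apply]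
      exact hcon v hv
    have hinj : Function.Injective (Matrix.toLin' (g : Matrix ι ι F)) := fun p q e =>
      gl_mulVec_injective g (by rwa [Matrix.toLin'_apply, Matrix.toLin'_apply] at e)
    have h1 := Submodule.finrank_mono hle
    rw [← (Submodule.equivMapOfInjective _ hinj _).finrank_eq, finrank_Tsp S, finrank_Tsp S] at h1
    have h2 := finrank_perp S.pnd₀ (Submodule.span F₀ {z})
    rw [finrank_span_singleton hz0] at h2
    rw [Room] at hA
    omega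
  have hzy : ⟪z, y⟫₀ = 0 := by
    rw [polar_comm]; exact mem_perp.mp hy z (Submodule.mem_span_singleton_self z)
  obtain ⟨ν, w, hw⟩ := centre_rational S hI hA hgz (by rw [S.iso g hg, T_iso S hz])
    (by rw [iso_polar S hg, T_orth S hzy]) (InE.conj S (S.base z y hz hzy) hg) hgy
  refine ⟨ν, w, fun e => hz0 (T_injective S (gl_mulVec_injective g ?_)), hw⟩
  dsimp only
  rw [hw, e, zero_smul, Matrix.mulVec_zero]

/-- A rational point spreads to its neighbours. -/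
theorem neighbour_span {g : GL ι F} (hg : g ∈ K) {z w : ι → F₀} {μ : F} (hμ : μ ≠ 0) (hz : Q₀ z = 0) (hz0 : z ≠ 0)
    (hgz : (g : Matrix ι ι F) *ᵥ T z = μ • T w) {y : ι → F₀} (hzy : ⟪z, y⟫₀ = 0) :
    ∃ w' : ι → F₀, (g : Matrix ι ι F) *ᵥ T y ∈ Tsp T (Submodule.span F₀ (Set.range ![w', w])) := by
  have hw0 : w ≠ 0 := fun e => hz0 (T_injective S (gl_mulVec_injective g (by
    dsimp only; rw [hgz, e, T_zero S, smul_zero, Matrix.mulVec_zero])))
  have hw : Q₀ w = 0 := by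
    have h := S.iso g hg (T z)
    rw [hgz, q_smul, T_iso S hz, S.hT, mul_eq_zero] at h
    exact Subtype.ext (h.resolve_left (mul_ne_zero hμ hμ))
  have h1 := InE.conj S (S.base z y hz hzy) hg
  rw [hgz] at h1
  have hwy : ⟪T w, (g : Matrix ι ι F) *ᵥ T y⟫ = 0 := by
    have h := iso_polar S hg (T z) (T y)
    rw [hgz, p_smul_left, T_orth S hzy, mul_eq_zero] at h
    exact h.resolve_left hμ
  obtain ⟨w', κ, hw'⟩ := real_mod S hI hw hw0 (by rw [p_smul_right, hwy, mul_zero]) (InE.scale S h1)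
  refine ⟨w', ?_⟩
  rw [show (g : Matrix ι ι F) *ᵥ T y = μ⁻¹ • (T w' + κ • T w) by
    rw [← hw', smul_smul, inv_mul_cancel₀ hμ, one_smul]]
  exact Submodule.smul_mem _ _ (Submodule.add_mem _ (mem_Tsp S (Submodule.subset_span ⟨0, rfl⟩))
    (Submodule.smul_mem _ _ (mem_Tsp S (Submodule.subset_span ⟨1, rfl⟩))))

/-- A rational point spreads to its neighbours, with room. -/
theorem neighbour' (h10 : 10 ≤ Fintype.card ι) {g : GL ι F} (hg : g ∈ K) {z w : ι → F₀} {μ : F} (hμ : μ ≠ 0)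
    (hz : Q₀ z = 0) (hz0 : z ≠ 0) (hgz : (g : Matrix ι ι F) *ᵥ T z = μ • T w) {y : ι → F₀} (hzy : ⟪z, y⟫₀ = 0) :
    ∃ A : Submodule F₀ (ι → F₀), Room Q₀ A ∧ (g : Matrix ι ι F) *ᵥ T y ∈ Tsp T A := by
  obtain ⟨w', hw'⟩ := neighbour_span S hI hg hμ hz hz0 hgz hzy
  exact ⟨_, room_two S h10 ![w', w], hw'⟩

omit hI in
/-- Two rational vectors whose images are multiples of rational vectors share the multiplier. -/
theorem share {g : GL ι F} {z b : ι → F₀} {μ ρ τ : F} {w₁ w₂ w : ι → F₀} (hμ : μ ≠ 0)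
    (hind : b ∉ Submodule.span F₀ {z}) (hz0 : z ≠ 0)
    (h1 : (g : Matrix ι ι F) *ᵥ T z = μ • T w₁) (h2 : (g : Matrix ι ι F) *ᵥ T b = ρ • T w₂)
    (h3 : (g : Matrix ι ι F) *ᵥ T (z + b) = τ • T w) : ∃ c : F₀, ρ = (c : F) * μ := by
  have indT : ∀ (x : F), T b ≠ x • T z := by
    intro x e
    obtain ⟨d, hd, hdb⟩ := exists_sep S.pnd₀ hind
    have hb : T b ∈ Tsp T (Submodule.span F₀ {z}) := by
      rw [e]; exact Submodule.smul_mem _ _ (mem_Tsp S (Submodule.mem_span_singleton_self z))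
    have := Tsp_perp S hb hd
    rw [polar_comm, T_polar S, hdb, Subfield.coe_one] at this
    exact one_ne_zero this
  have hw₁ : w₁ ≠ 0 := fun e => hz0 (T_injective S (gl_mulVec_injective g (by
    dsimp only; rw [h1, e, T_zero S, smul_zero, Matrix.mulVec_zero])))
  have hnot : w₁ ∉ Submodule.span F₀ {w₂} := fun hm => by
    obtain ⟨k, hk⟩ := Submodule.mem_span_singleton.mp hm
    by_cases hk0 : (k : F) * μ = 0
    · exact hw₁ (by rw [← hk, show k = 0 from Subtype.ext ((mul_eq_zero.mp hk0).resolve_right hμ), zero_smul])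
    refine indT (ρ * ((k : F) * μ)⁻¹) (gl_mulVec_injective g ?_)
    dsimp only
    rw [Matrix.mulVec_smul, h1, h2, ← hk, S.T_smul, smul_smul, smul_smul]
    have hk' := left_ne_zero_of_mul hk0
    congr 1
    field_simp
  have hnot2 : w₂ ∉ Submodule.span F₀ {w₁} := fun hm => by
    obtain ⟨k, hk⟩ := Submodule.mem_span_singleton.mp hm
    refine indT (ρ * (k : F) * μ⁻¹) (gl_mulVec_injective g ?_)
    dsimp only
    rw [Matrix.mulVec_smul, h1, h2, ← hk, S.T_smul, smul_smul, smul_smul, mul_assoc _ μ⁻¹, inv_mul_cancel₀ hμ, mul_one]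
  obtain ⟨x, hxs, hx⟩ := exists_sep S.pnd₀ hnot
  obtain ⟨x', hxs', hx'⟩ := exists_sep S.pnd₀ hnot2
  have hx2 : ⟪x, w₂⟫₀ = 0 := mem_perp.mp hxs _ (Submodule.mem_span_singleton_self w₂)
  have hx'1 : ⟪x', w₁⟫₀ = 0 := mem_perp.mp hxs' _ (Submodule.mem_span_singleton_self w₁)
  rw [S.T_add, Matrix.mulVec_add, h1, h2] at h3
  have e1 := congrArg (fun y => ⟪y, T x⟫) h3
  have e2 := congrArg (fun y => ⟪y, T x'⟫) h3
  simp only [polar_add_left, p_smul_left, T_polar S, polar_comm Q₀ w₁, polar_comm Q₀ w₂, hx, hx', hx2, hx'1,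
    Subfield.coe_one, Subfield.coe_zero, mul_one, mul_zero, add_zero, zero_add] at e1 e2
  have hw0 : ((⟪w, x⟫₀ : F₀) : F) ≠ 0 := fun e => hμ (by rw [e1, e, mul_zero])
  refine ⟨⟪w, x'⟫₀ / ⟪w, x⟫₀, ?_⟩
  rw [e2, e1, Subfield.coe_div]
  field_simp

/-- One rational point makes the element good, given that images of neighbours are rational. -/
theorem good_of_img {g : GL ι F} (hg : g ∈ K) {z w : ι → F₀} {μ : F} (hμ : μ ≠ 0)
    (hz : Q₀ z = 0) (hz0 : z ≠ 0) (hw : (g : Matrix ι ι F) *ᵥ T z = μ • T w)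
    (himg : ∀ b d v, Q₀ b = 0 → b ≠ 0 → (g : Matrix ι ι F) *ᵥ T b = μ • T v → Q₀ d = 0 → d ≠ 0 → ⟪b, d⟫₀ = 0 →
      ∃ (ρ : F) (v' : ι → F₀), ρ ≠ 0 ∧ (g : Matrix ι ι F) *ᵥ T d = ρ • T v') : Good T g := by
  have hn := dim₀ S
  have near : ∀ b c, Q₀ b = 0 → b ≠ 0 → Q₀ c = 0 → ⟪b, c⟫₀ = 0 → c ∉ Submodule.span F₀ {b} →
      (∃ v, (g : Matrix ι ι F) *ᵥ T b = μ • T v) → ∃ v, (g : Matrix ι ι F) *ᵥ T c = μ • T v := by
    intro b c hb hb0 hc hbc hind ⟨v, hv⟩
    have img := fun d hd hd0 hbd => himg b d v hb hb0 hv hd hd0 hbd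
    have hc0 : c ≠ 0 := fun e => hind (by rw [e]; exact zero_mem _)
    obtain ⟨ρ, v', -, hv'⟩ := img c hc hc0 hbc
    obtain ⟨τ, v'', -, hv''⟩ := img (b + c) (by rw [q_add, hb, hc, hbc]; ring)
      (fun e => hind (by rw [eq_neg_of_add_eq_zero_right e]; exact neg_mem (Submodule.mem_span_singleton_self b)))
      (by rw [polar_add_right, p_self, hb, hbc]; ring)
    obtain ⟨k, hk⟩ := share S hμ hind hb0 hv hv' hv''
    exact ⟨k • v', by rw [hv', hk, S.T_smul, smul_smul, mul_comm]⟩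
  have all : ∀ c, Q₀ c = 0 → ∃ v, (g : Matrix ι ι F) *ᵥ T c = μ • T v := by
    intro c hc
    by_cases hc0 : c = 0
    · exact ⟨0, by rw [hc0, T_zero S, Matrix.mulVec_zero, smul_zero]⟩
    obtain ⟨b, hb, hbs, hbt⟩ := exists_sing_list S.pnd₀ ![z, c] ![z, c] (by omega)
    have hb0 : b ≠ 0 := fun e => hbt (by rw [e]; exact zero_mem _)
    refine near b c hb hb0 hc (hbs 1) (fun hm => ?_)
      (near z b hz hz0 hb (by rw [polar_comm]; exact hbs 0) (fun hm => hbt (Submodule.span_mono (by simp) hm)) ⟨w, hw⟩)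
    obtain ⟨k, hk⟩ := Submodule.mem_span_singleton.mp hm
    have hk0 : k ≠ 0 := fun e => hc0 (by rw [← hk, e, zero_smul])
    refine hbt ?_
    rw [show b = k⁻¹ • c by rw [← hk, smul_smul, inv_mul_cancel₀ hk0, one_smul]]
    exact Submodule.smul_mem _ _ (Submodule.subset_span ⟨1, rfl⟩)
  refine ⟨μ, hμ, fun v => ?_⟩
  obtain ⟨x, y, z', c, hx, hy, hz', rfl⟩ := exists_decomp_top S.pnd₀ (dim₀ S) v
  obtain ⟨wx, hwx⟩ := all x hx
  obtain ⟨wy, hwy⟩ := all y hy
  obtain ⟨wz, hwz⟩ := all z' hz'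
  refine ⟨wx - wy + c • wz, ?_⟩
  rw [S.T_add, T_sub S, S.T_smul, Matrix.mulVec_add, Matrix.mulVec_sub, Matrix.mulVec_smul, hwx, hwy, hwz, S.T_add,
    T_sub S, S.T_smul]
  module

/-- One rational point makes the element good. -/
theorem good_of_point' (h10 : 10 ≤ Fintype.card ι) {A : Submodule F₀ (ι → F₀)} (hA : Room Q₀ A) {g : GL ι F}
    (hg : g ∈ K) {z : ι → F₀} (hz : Q₀ z = 0) (hz0 : z ≠ 0) (hgz : (g : Matrix ι ι F) *ᵥ T z ∈ Tsp T A) :
    Good T g := by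
  obtain ⟨μ, w, hμ, hw⟩ := point_rational S hI hA hg hz hz0 hgz
  refine good_of_img S hI hg hμ hz hz0 hw fun b d v hb hb0 hv hd hd0 hbd => ?_
  obtain ⟨B, hB, hdB⟩ := neighbour' S hI h10 hg hμ hb hb0 hv hbd
  exact point_rational S hI hB hg hd hd0 hdB

/-- One rational non-singular vector makes the element good, odd characteristic. -/
theorem good_of_vector' (h10 : 10 ≤ Fintype.card ι) (h2 : (2 : F) ≠ 0) {A : Submodule F₀ (ι → F₀)} (hA : Room Q₀ A) {g : GL ι F} (hg : g ∈ K)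
    {x : ι → F₀} (hx : Q₀ x ≠ 0) (hgx : (g : Matrix ι ι F) *ᵥ T x ∈ Tsp T A) : Good T g := by
  have hn := dim₀ S
  obtain ⟨z, hz, hzs, hzt⟩ := exists_sing_list S.pnd₀ ![x] ![(0 : ι → F₀)] (by omega)
  have hz0 : z ≠ 0 := fun e => hzt (by rw [e]; exact zero_mem _)
  have hzx : ⟪z, x⟫₀ = 0 := hzs 0
  obtain ⟨u, hu⟩ : ∃ u, u = (g : Matrix ι ι F) *ᵥ T z := ⟨_, rfl⟩
  by_cases hsmall : u ∈ Tsp T A
  · exact good_of_point' S hI h10 hA hg hz hz0 (hu ▸ hsmall)
  obtain ⟨s, hs⟩ : ∃ s, s = (g : Matrix ι ι F) *ᵥ T x := ⟨_, rfl⟩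
  rw [← hs] at hgx
  have hin : InE Q K u s := by rw [hu, hs]; exact InE.conj S (S.base z x hz hzx) hg
  have huQ : Q u = 0 := by rw [hu, S.iso g hg, T_iso S hz]
  have hus : ⟪u, s⟫ = 0 := by rw [hu, hs, iso_polar S hg, T_orth S hzx]
  have hsQ : Q s = (Q₀ x : F) := by rw [hs, S.iso g hg, S.hT]
  obtain ⟨a, ha, haA, hua⟩ := exists_point S A hA hsmall
  obtain ⟨c, hcA, hc, hca⟩ := exists_sing_out S.pnd₀ (A ⊔ Submodule.span F₀ {a}) (Submodule.span F₀ {a}) (by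
    have h1 := Submodule.finrank_add_le_finrank_add_finrank A (Submodule.span F₀ {a})
    have h1' : finrank F₀ (Submodule.span F₀ {a}) ≤ 1 :=
      (finrank_span_le_card ({a} : Set (ι → F₀))).trans (by rw [Set.toFinset_singleton, Finset.card_singleton])
    have h2' := Submodule.finrank_mono (R := F₀) (inf_le_left :
      Submodule.span F₀ {a} ⊓ perp Q₀ (A ⊔ Submodule.span F₀ {a}) ≤ Submodule.span F₀ {a})
    rw [Room] at hA
    omega)
  have hca0 : ⟪c, a⟫₀ = 0 :=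
    mem_perp.mp hcA a (Submodule.mem_sup_right (Submodule.mem_span_singleton_self a))
  have hcA' : c ∈ perp Q₀ A := mem_perp.mpr fun b hb => mem_perp.mp hcA b (Submodule.mem_sup_left hb)
  obtain ⟨h, hh, hhv⟩ := S.base a c ha (by rw [polar_comm]; exact hca0)
  have hsfix : (h : Matrix ι ι F) *ᵥ s = s := push_apply S hhv (Tsp_perp S hgx haA) (Tsp_perp S hgx hcA')
  obtain ⟨α, hα⟩ : ∃ α, α = ⟪u, T a⟫ := ⟨_, rfl⟩
  obtain ⟨β, hβ⟩ : ∃ β, β = ⟪u, T c⟫ := ⟨_, rfl⟩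
  rw [← hα] at hua
  obtain ⟨t, ht⟩ : ∃ t, t = α • T c - β • T a := ⟨_, rfl⟩
  have hut : ⟪u, t⟫ = 0 := by rw [ht, polar_sub_right, p_smul_right, p_smul_right, ← hα, ← hβ]; ring
  have htQ : Q t = 0 := by
    rw [ht, sub_eq_add_neg, q_add, QuadraticMap.map_neg, q_smul, q_smul, T_iso S hc, T_iso S ha, polar_neg_right,
      p_smul_left, p_smul_right, T_orth S hca0]
    ring
  have hst : ⟪s, t⟫ = 0 := by
    rw [ht, polar_sub_right, p_smul_right, p_smul_right, Tsp_perp S hgx hcA', Tsp_perp S hgx haA]; ring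
  obtain ⟨u', hu'⟩ : ∃ u', u' = u + t := ⟨_, rfl⟩
  have hhu : (h : Matrix ι ι F) *ᵥ u = u' := by
    rw [hhv, eichler, T_iso S hc, hu', ht, ← hα, ← hβ]
    module
  have hu'Q : Q u' = 0 := by rw [hu', q_add, huQ, htQ, hut]; ring
  have hu's : ⟪u', s⟫ = 0 := by rw [hu', polar_add_left, hus, polar_comm Q t, hst, add_zero]
  have hu'u : ⟪u', u⟫ = 0 := by rw [hu', polar_add_left, p_self, huQ, polar_comm Q t, hut]; ring
  have h1 : InE Q K u' s := by
    have := InE.conj S hin hh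
    rwa [hhu, hsfix] at this
  obtain ⟨k, hk, hkv⟩ := id hin
  obtain ⟨l, hl⟩ : ∃ l : F, l = -2 * (Q₀ x : F) := ⟨_, rfl⟩
  have hl0 : l ≠ 0 := by
    rw [hl]; exact mul_ne_zero (neg_ne_zero.mpr h2) fun e => hx (Subtype.ext e)
  have h3 : InE Q K u' (l • u) := by
    have h3 := InE.conj S h1 hk
    rw [push_apply S hkv hu'u hu's] at h3
    have e1 : (k : Matrix ι ι F) *ᵥ s = s + l • u := by
      rw [hkv, eichler, polar_comm Q s u, hus, p_self, hsQ, hl]
      module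
    rw [e1] at h3
    have := InE.add S hu'Q (y := s + l • u) (y' := -s) (by rw [polar_add_right, p_smul_right, hu's, hu'u]; ring)
      (by rw [polar_neg_right, hu's, neg_zero]) h3 (InE.neg S hu'Q hu's h1)
    rwa [add_neg_cancel_comm] at this
  have h4 : InE Q K t (l • u) := by
    have a1 := InE.scale S (InE.swap S hu'Q (by rw [q_smul, huQ, mul_zero]) h3)
    have a2 := InE.shift S huQ (by rw [p_smul_right, polar_neg_right, polar_comm Q u, hu'u, neg_zero, mul_zero]) l a1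
    rw [show l • -u' + l • u = (-l) • t by rw [hu']; module] at a2
    have a3 := InE.scale S (InE.swap S huQ (by rw [q_smul, htQ, mul_zero]) a2)
    rwa [neg_smul_neg] at a3
  obtain ⟨B, hB⟩ : ∃ B, B = Submodule.span F₀ (Set.range ![a, c]) := ⟨_, rfl⟩
  have hBr : Room Q₀ B := hB ▸ room_two S h10 _
  by_cases hluB : l • u ∈ Tsp T B
  · refine good_of_point' S hI h10 hBr hg hz hz0 ?_
    have := Submodule.smul_mem _ l⁻¹ hluB
    rwa [smul_smul, inv_mul_cancel₀ hl0, one_smul, hu] at this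
  have htB : t ∈ Tsp T B := by
    rw [ht, hB]
    exact Submodule.sub_mem _ (Submodule.smul_mem _ _ (mem_Tsp S (Submodule.subset_span ⟨1, rfl⟩)))
      (Submodule.smul_mem _ _ (mem_Tsp S (Submodule.subset_span ⟨0, rfl⟩)))
  have htl : ⟪t, l • u⟫ = 0 := by rw [p_smul_right, polar_comm Q t, hut, mul_zero]
  obtain ⟨ν, w, hw⟩ := centre_rational S hI hBr htB htQ htl h4 hluB
  have ht0 : t ≠ 0 := fun e => by
    obtain ⟨d, hd, hdc⟩ := exists_sep S.pnd₀ hca
    have := congrArg (fun v => ⟪v, T d⟫) e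
    simp only [ht, polar_sub_left, p_smul_left, T_polar S, polar_comm Q₀ c, hdc, polar_zero_left,
      polar_comm Q₀ a, mem_perp.mp hd a (Submodule.mem_span_singleton_self a), Subfield.coe_one,
      Subfield.coe_zero, mul_one, mul_zero, sub_zero] at this
    exact hua this
  have hν : ν ≠ 0 := fun e => ht0 (by rw [hw, e, zero_smul])
  have hwQ : Q₀ w = 0 := by
    rw [hw, q_smul, S.hT, mul_eq_zero] at htQ
    exact Subtype.ext (htQ.resolve_left (mul_ne_zero hν hν))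
  have hw0 : w ≠ 0 := fun e => ht0 (by rw [hw, e, T_zero S, smul_zero])
  have hwl : ⟪T w, l • u⟫ = 0 := by
    rw [hw, p_smul_left, mul_eq_zero] at htl
    exact htl.resolve_left hν
  rw [hw] at h4
  obtain ⟨w', κ, hw'⟩ := real_mod S hI hwQ hw0 (by rw [p_smul_right, hwl, mul_zero]) (InE.scale S h4)
  refine good_of_point' S hI h10 (room_two S h10 ![w', w]) hg hz hz0 ?_
  rw [← hu, show u = (ν * l)⁻¹ • (T w' + κ • T w) by
    rw [← hw', smul_smul, smul_smul, mul_assoc, inv_mul_cancel₀ (mul_ne_zero hν hl0), one_smul]]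
  exact Submodule.smul_mem _ _ (Submodule.add_mem _ (mem_Tsp S (Submodule.subset_span ⟨0, rfl⟩))
    (Submodule.smul_mem _ _ (mem_Tsp S (Submodule.subset_span ⟨1, rfl⟩))))

/-- A rational point spreads to its neighbours, with room. -/
theorem neighbour (h14 : 14 ≤ Fintype.card ι) {g : GL ι F} (hg : g ∈ K) {z w : ι → F₀} {μ : F} (hμ : μ ≠ 0)
    (hz : Q₀ z = 0) (hz0 : z ≠ 0) (hgz : (g : Matrix ι ι F) *ᵥ T z = μ • T w) {y : ι → F₀} (hzy : ⟪z, y⟫₀ = 0) :
    ∃ A : Submodule F₀ (ι → F₀), Room Q₀ A ∧ (g : Matrix ι ι F) *ᵥ T y ∈ Tsp T A :=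
  neighbour' S hI (by omega) hg hμ hz hz0 hgz hzy

/-- One rational point makes the element good. -/
theorem good_of_point (h14 : 14 ≤ Fintype.card ι) {A : Submodule F₀ (ι → F₀)} (hA : Room Q₀ A) {g : GL ι F}
    (hg : g ∈ K) {z : ι → F₀} (hz : Q₀ z = 0) (hz0 : z ≠ 0) (hgz : (g : Matrix ι ι F) *ᵥ T z ∈ Tsp T A) :
    Good T g :=
  good_of_point' S hI (by omega) hA hg hz hz0 hgz

/-- One rational non-singular vector makes the element good, odd characteristic. -/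
theorem good_of_vector (h14 : 14 ≤ Fintype.card ι) (h2 : (2 : F) ≠ 0) {A : Submodule F₀ (ι → F₀)} (hA : Room Q₀ A) {g : GL ι F} (hg : g ∈ K)
    {x : ι → F₀} (hx : Q₀ x ≠ 0) (hgx : (g : Matrix ι ι F) *ᵥ T x ∈ Tsp T A) : Good T g :=
  good_of_vector' S hI (by omega) h2 hA hg hx hgx

end Cfsg.Agent.Classical.OSubAll
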