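import Cfsg.Agent.Lib.Classical.OrthOmega

/-!
# The derived group of a finite orthogonal group, characteristic two

The Dickson invariant: choose a bilinear `β` with `β(x,x) = Q x`; then `β(gx,gy) + β(x,y)` is
alternating, and its contraction with the inverse of the polar form is additive in `g`.
-/

set_option autoImplicit false
set_option linter.unusedSectionVars false

namespace Cfsg.Agent.Classical.OOmega

open Module QuadraticMap OCount ORefl Matrix

variable {F : Type*} [Field F]

section Contract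

variable {ι : Type} [Fintype ι] [DecidableEq ι] [LinearOrder ι]

/-- The upper triangle. -/
def upper (T : Matrix ι ι F) : Matrix ι ι F := Matrix.of fun i j => if i < j then T i j else 0

theorem upper_add {T : Matrix ι ι F} (hs : Tᵀ = T) (hd : ∀ i, T i i = 0) : upper T + (upper T)ᵀ = T := by
  ext i j
  rcases lt_trichotomy i j with h | rfl | h
  · simp [upper, h, not_lt.mpr h.le]
  · simp [upper, hd]
  · simp only [upper, Matrix.add_apply, Matrix.transpose_apply, Matrix.of_apply, if_neg (not_lt.mpr h.le), if_pos h,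
      zero_add]
    exact congrFun (congrFun hs i) j

theorem trace_contract [CharP F 2] {W U U' : Matrix ι ι F} (hW : Wᵀ = W) (hW0 : ∀ i, W i i = 0)
    (h : U + Uᵀ = U' + U'ᵀ) : (Wᵀ * U).trace = (Wᵀ * U').trace := by
  rw [← sub_eq_zero, ← Matrix.trace_sub, ← Matrix.mul_sub]
  have hS : (U - U')ᵀ = U - U' := by
    ext i j
    have := congrFun (congrFun h i) j
    simp only [Matrix.add_apply, Matrix.transpose_apply] at this
    simp only [Matrix.transpose_apply, Matrix.sub_apply, CharTwo.sub_eq_add]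
    calc U j i + U' j i = (U i j + U j i) + (U i j + U' j i) := by
          rw [show (U i j + U j i) + (U i j + U' j i) = (U i j + U i j) + (U j i + U' j i) by ring,
            CharTwo.add_self_eq_zero, zero_add]
      _ = U i j + U' i j := by
          rw [this, show (U' i j + U' j i) + (U i j + U' j i) = (U' j i + U' j i) + (U i j + U' i j) by ring,
            CharTwo.add_self_eq_zero, zero_add]
  generalize U - U' = S at hS ⊢
  simp only [Matrix.trace, Matrix.diag, Matrix.mul_apply, Matrix.transpose_apply]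
  rw [← Finset.sum_product']
  refine Finset.sum_involution (fun p _ => (p.2, p.1)) (fun p _ => ?_) (fun p _ hp e => hp ?_)
    (fun p _ => Finset.mem_univ _) (fun p _ => rfl)
  · have e1 : W p.2 p.1 = W p.1 p.2 := congrFun (congrFun hW p.1) p.2
    have e2 : S p.2 p.1 = S p.1 p.2 := congrFun (congrFun hS p.1) p.2
    rw [e1, e2]; exact CharTwo.add_self_eq_zero _
  · rw [show p.2 = p.1 from congrArg Prod.fst e, hW0, zero_mul]

end Contract

variable {V : Type*} [AddCommGroup V] [Module F V] [FiniteDimensional F V] {Q : QuadraticForm F V}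

/-- The Dickson invariant. -/
theorem exists_dickson [CharP F 2] (hQ : PND Q) :
    ∃ D : ↥(Iso Q) →* Multiplicative F, ∀ v, Q v ≠ 0 → D (rf Q v) = Multiplicative.ofAdd 1 := by
  classical
  obtain ⟨β, hβ⟩ := LinearMap.BilinMap.toQuadraticMap_surjective (R := F) (M := V) (N := F) Q
  have hβQ : ∀ x, β x x = Q x := fun x => by rw [← hβ]; rfl
  have hpol : ∀ x y, β x y + β y x = polar Q x y := fun x y => by
    rw [polar, ← hβQ, ← hβQ, ← hβQ]; simp only [map_add, LinearMap.add_apply]; ring
  obtain ⟨b, hb⟩ : ∃ b : Basis (Fin (finrank F V)) F V, b = Module.finBasis F V := ⟨_, rfl⟩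
  obtain ⟨M, hM⟩ : ∃ M, M = LinearMap.BilinForm.toMatrix b β := ⟨_, rfl⟩
  obtain ⟨J, hJ⟩ : ∃ J, J = M + Mᵀ := ⟨_, rfl⟩
  have hJpol : J = LinearMap.BilinForm.toMatrix b Q.polarBilin := by
    ext i j
    rw [hJ, hM, Matrix.add_apply, Matrix.transpose_apply, LinearMap.BilinForm.toMatrix_apply,
      LinearMap.BilinForm.toMatrix_apply, LinearMap.BilinForm.toMatrix_apply, hpol]
    rfl
  have hJu : IsUnit J.det := by
    rw [hJpol, isUnit_iff_ne_zero, ← Matrix.nondegenerate_iff_det_ne_zero,
      LinearMap.BilinForm.nondegenerate_toMatrix_iff]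
    exact nondeg hQ
  have hJT : Jᵀ = J := by rw [hJ, Matrix.transpose_add, Matrix.transpose_transpose, add_comm]
  obtain ⟨W, hW⟩ : ∃ W, W = J⁻¹ := ⟨_, rfl⟩
  have hWT : Wᵀ = W := by rw [hW, Matrix.transpose_nonsing_inv, hJT]
  have hJW : J * W = 1 := hW ▸ Matrix.mul_nonsing_inv J hJu
  have hW0 : ∀ i, W i i = 0 := by
    intro i
    have e : W = Wᵀ * J * W := by rw [Matrix.mul_assoc, hJW, Matrix.mul_one, hWT]
    rw [e, hJ, Matrix.mul_add, Matrix.add_mul, Matrix.add_apply,
      show Wᵀ * Mᵀ * W = (Wᵀ * M * W)ᵀ by simp [Matrix.mul_assoc], Matrix.transpose_apply]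
    exact CharTwo.add_self_eq_zero _
  let H : ↥(Iso Q) → Matrix (Fin (finrank F V)) (Fin (finrank F V)) F := fun g =>
    LinearMap.toMatrix b b (g.1 : V →ₗ[F] V)
  let T : ↥(Iso Q) → Matrix (Fin (finrank F V)) (Fin (finrank F V)) F := fun g => (H g)ᵀ * M * H g + M
  have hH : ∀ g, (H g)ᵀ * M * H g =
      LinearMap.BilinForm.toMatrix b (LinearMap.BilinForm.comp β (g.1 : V →ₗ[F] V) (g.1 : V →ₗ[F] V)) := fun g => by
    rw [LinearMap.BilinForm.toMatrix_comp b b, hM]
  have hHJ : ∀ g, (H g)ᵀ * J * H g = J := by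
    intro g
    rw [hJpol, ← LinearMap.BilinForm.toMatrix_comp b b]
    congr 1
    ext x y
    exact polar_iso g.2 x y
  have hTs : ∀ g, (T g)ᵀ = T g := by
    intro g
    have h := hHJ g
    rw [hJ, Matrix.mul_add, Matrix.add_mul] at h
    simp only [T, Matrix.transpose_add, Matrix.transpose_mul, Matrix.transpose_transpose, ← Matrix.mul_assoc]
    rw [← sub_eq_zero]
    ext i j
    have := congrFun (congrFun h i) j
    simp only [Matrix.add_apply, Matrix.sub_apply, Matrix.zero_apply, CharTwo.sub_eq_add] at this ⊢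
    rw [show (((H g)ᵀ * Mᵀ * H g) i j + Mᵀ i j + (((H g)ᵀ * M * H g) i j + M i j)) =
      (((H g)ᵀ * M * H g) i j + ((H g)ᵀ * Mᵀ * H g) i j) + (M i j + Mᵀ i j) by ring, this]
    exact CharTwo.add_self_eq_zero _
  have hTd : ∀ g i, T g i i = 0 := by
    intro g i
    simp only [T, Matrix.add_apply]
    rw [hH, hM, LinearMap.BilinForm.toMatrix_apply, LinearMap.BilinForm.toMatrix_apply, LinearMap.BilinForm.comp_apply,
      hβQ, hβQ]
    rw [show Q ((g.1 : V →ₗ[F] V) (b i)) = Q (b i) from g.2 _]
    exact CharTwo.add_self_eq_zero _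
  let d : ↥(Iso Q) → F := fun g => (Wᵀ * upper (T g)).trace
  have hd_eq : ∀ g U, U + Uᵀ = T g → d g = (Wᵀ * U).trace := fun g U hU =>
    trace_contract hWT hW0 (by rw [upper_add (hTs g) (hTd g), hU])
  have hdmul : ∀ g g', d (g * g') = d g + d g' := by
    intro g g'
    have hHH : H (g * g') = H g * H g' := LinearMap.toMatrix_mul b _ _
    have hW' : H g' * Wᵀ * (H g')ᵀ = Wᵀ := by
      obtain ⟨K, hK⟩ : ∃ K, K = W * (H g')ᵀ * J := ⟨_, rfl⟩
      have h1 : K * H g' = 1 := by
        rw [hK, Matrix.mul_assoc, Matrix.mul_assoc, ← Matrix.mul_assoc (H g')ᵀ, hHJ, hW,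
          Matrix.nonsing_inv_mul J hJu]
      have h3 : H g' * K = 1 := mul_eq_one_comm.mp h1
      rw [hWT]
      calc H g' * W * (H g')ᵀ = H g' * W * (H g')ᵀ * (J * W) := by rw [hJW, Matrix.mul_one]
        _ = H g' * K * W := by rw [hK]; simp [Matrix.mul_assoc]
        _ = W := by rw [h3, Matrix.one_mul]
    rw [hd_eq (g * g') ((H g')ᵀ * upper (T g) * H g' + upper (T g'))]
    · rw [Matrix.mul_add, Matrix.trace_add]
      congr 1
      rw [← Matrix.mul_assoc, ← Matrix.mul_assoc, Matrix.trace_mul_comm, ← Matrix.mul_assoc, ← Matrix.mul_assoc, hW']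
    · rw [Matrix.transpose_add, Matrix.transpose_mul, Matrix.transpose_mul, Matrix.transpose_transpose]
      calc _ = (H g')ᵀ * (upper (T g) + (upper (T g))ᵀ) * H g' + (upper (T g') + (upper (T g'))ᵀ) := by
            rw [Matrix.mul_add, Matrix.add_mul, Matrix.mul_assoc (H g')ᵀ (upper (T g))ᵀ]; abel
        _ = (H g')ᵀ * T g * H g' + T g' := by rw [upper_add (hTs g) (hTd g), upper_add (hTs g') (hTd g')]
        _ = T (g * g') := by
            simp only [T, hHH, Matrix.transpose_mul, Matrix.mul_add, Matrix.add_mul, Matrix.mul_assoc]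
            ext i j
            simp only [Matrix.add_apply]
            rw [show ∀ a c e : F, a + c + (c + e) = a + e + (c + c) from fun a c e => by ring,
              CharTwo.add_self_eq_zero, add_zero]
  have hd1 : d 1 = 0 := by
    have := hdmul 1 1
    rw [one_mul] at this
    linear_combination -this
  refine ⟨{ toFun := fun g => Multiplicative.ofAdd (d g)
            map_one' := by rw [hd1]; rfl
            map_mul' := fun g g' => by rw [hdmul]; rfl }, fun v hv => ?_⟩
  change Multiplicative.ofAdd (d (rf Q v)) = _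
  obtain ⟨r, hr⟩ : ∃ r, r = (b.repr v : Fin (finrank F V) → F) := ⟨_, rfl⟩
  have hMr : ∀ i, (M *ᵥ r) i = β (b i) v := by
    intro i
    conv_rhs => rw [← b.sum_repr v, map_sum]
    simp only [map_smul, Matrix.mulVec, dotProduct, hM, LinearMap.BilinForm.toMatrix_apply, hr, smul_eq_mul, mul_comm]
  have hJr : ∀ i, (J *ᵥ r) i = polar Q v (b i) := by
    intro i
    rw [polar_comm, ← polarBilin_apply_apply]
    conv_rhs => rw [← b.sum_repr v, map_sum]
    simp only [map_smul, Matrix.mulVec, dotProduct, hJpol, LinearMap.BilinForm.toMatrix_apply, hr, smul_eq_mul,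
      mul_comm]
  rw [hd_eq (rf Q v) ((Q v)⁻¹ • Matrix.vecMulVec (J *ᵥ r) (M *ᵥ r))]
  · congr 1
    rw [Matrix.mul_smul, Matrix.trace_smul, Matrix.mul_vecMulVec, Matrix.trace_vecMulVec, smul_eq_mul,
      Matrix.mulVec_mulVec, hWT, hW, Matrix.nonsing_inv_mul J hJu, Matrix.one_mulVec]
    rw [show r ⬝ᵥ M *ᵥ r = β v v from ?_, hβQ, inv_mul_cancel₀ hv]
    conv_rhs => rw [← b.sum_repr v]
    simp only [map_sum, map_smul, LinearMap.sum_apply, LinearMap.smul_apply, dotProduct, Matrix.mulVec, hM,
      LinearMap.BilinForm.toMatrix_apply, hr, smul_eq_mul, Finset.mul_sum]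
    rw [Finset.sum_comm]
    exact Finset.sum_congr rfl fun i _ => Finset.sum_congr rfl fun j _ => by ring
  · ext i j
    simp only [T, Matrix.add_apply]
    rw [hH, Matrix.transpose_apply, Matrix.smul_apply, Matrix.smul_apply, Matrix.vecMulVec_apply,
      Matrix.vecMulVec_apply, hJr, hJr, hMr, hMr, hM, LinearMap.BilinForm.toMatrix_apply,
      LinearMap.BilinForm.toMatrix_apply, LinearMap.BilinForm.comp_apply]
    change _ = β (refl Q v (b i)) (refl Q v (b j)) + β (b i) (b j)
    rw [refl_apply, refl_apply]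
    simp only [map_sub, map_smul, LinearMap.sub_apply, LinearMap.smul_apply, hβQ, smul_eq_mul, CharTwo.sub_eq_add]
    have e := hpol v (b j)
    field_simp
    linear_combination (polar Q v (b i)) * e - (polar Q v (b i) * β v (b j) + Q v * β (b i) (b j)) *
      (CharTwo.two_eq_zero (R := F))

/-- The derived group has index two. -/
theorem index_two [CharP F 2] [Finite F] (hQ : PND Q) (hn : 1 ≤ finrank F V)
    (h : Nat.card F ≠ 2 ∨ finrank F V ≠ 4) : (commutator ↥(Iso Q)).index = 2 := by
  classical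
  haveI := Fintype.ofFinite F
  obtain ⟨v, hv⟩ : ∃ v, Q v ≠ 0 := by
    by_contra hc
    push Not at hc
    haveI : Nontrivial V := Module.nontrivial_of_finrank_pos (R := F) (by omega)
    obtain ⟨v, hv⟩ := exists_ne (0 : V)
    exact hv (hQ v fun w => by rw [polar, hc, hc, hc]; ring)
  obtain ⟨D, hD⟩ := exists_dickson (Q := Q) hQ
  have hne : rf Q v ∉ commutator ↥(Iso Q) := fun hm => by
    have := Abelianization.commutator_subset_ker D hm
    rw [MonoidHom.mem_ker, hD v hv, ← ofAdd_zero] at this
    exact one_ne_zero (Multiplicative.ofAdd.injective this)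
  have key : ∀ g, Abelianization.of g = 1 ∨ Abelianization.of g = Abelianization.of (rf Q v) := by
    intro g
    refine induction_on (motive := fun g => Abelianization.of g = 1 ∨ Abelianization.of g = Abelianization.of (rf Q v))
      hQ h g (Or.inl (map_one _)) fun w g hw ih => ?_
    have e : Abelianization.of (rf Q w) = Abelianization.of (rf Q v) :=
      map_rf_isSquare hQ _ hv hw (FiniteField.isSquare_of_char_two (ringChar.eq F 2) _)
    rw [map_mul, e]
    rcases ih with h | h <;> rw [h]
    · exact Or.inr (mul_one _)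
    · exact Or.inl (by rw [← map_mul, rf_mul_self, map_one])
  rw [Subgroup.index_eq_two_iff]
  refine ⟨rf Q v, fun g => ?_⟩
  have hc : ∀ g : ↥(Iso Q), g ∈ commutator ↥(Iso Q) ↔ Abelianization.of g = 1 := fun g => by
    rw [← MonoidHom.mem_ker, Abelianization.ker_of]
  have hne' : Abelianization.of (rf Q v) ≠ 1 := fun e => hne ((hc _).mpr e)
  rw [xor_iff_iff_not, hc, hc, map_mul]
  rcases key g with e | e <;> rw [e]
  · simp [hne']
  · rw [← map_mul, rf_mul_self, map_one]; simp [hne']

end Cfsg.Agent.Classical.OOmega
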