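/-
Special similitude groups of a unitary form move isotropic vectors.
-/
import Cfsg.Agent.Lib.Classical.UMaximalInSL

set_option autoImplicit false
set_option linter.unusedSectionVars false
set_option linter.style.haveILetI false

namespace Cfsg.Agent.Classical.UMaxSL

open Matrix Cfsg.Geo
open Cfsg.Agent.Classical

variable {ι : Type} [Fintype ι] [DecidableEq ι] {F : Type*} [Field F] [Fintype F] {σ : F ≃+* F}
  {f : (ι → F) → (ι → F) → F} (hf : IsUnitaryForm σ f)

include hf

/-- A group containing the similitudes moves isotropic vectors. -/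
theorem exists_move_vec (h4 : 4 ≤ Fintype.card ι) {K : Subgroup (GL ι F)}
    (hK : similarityGroup f ⊓ specialLinear ι F ≤ K) {v v' : ι → F} (hv : v ≠ 0) (hv' : v' ≠ 0)
    (h1 : f v v = 0) (h1' : f v' v' = 0) :
    ∃ g ∈ K, (∀ x y, f ((g : Matrix ι ι F) *ᵥ x) ((g : Matrix ι ι F) *ᵥ y) = f x y) ∧
      (g : Matrix ι ι F) *ᵥ v = v' := by
  have hs := semiForm_of_unitary hf
  obtain ⟨γ₁, hγ₁, -, hγv⟩ := HermWitt.exists_move (herm hf) (sigma_ne hf) (W := ⊥) (x := v) (y := v')
    (by simpa using hv) (by simpa using hv') (by change f v' v' = f v v; rw [h1, h1']) (by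
      intro h hh
      rw [(Submodule.mem_bot F).mp hh, (herm hf).zero_right, (herm hf).zero_right])
  have hi₁ : ∀ x y, f (γ₁ x) (γ₁ y) = f x y := fun x y => hγ₁ y x
  obtain ⟨g, hg⟩ : ∃ g : GL ι F, ∀ x, (g : Matrix ι ι F) *ᵥ x = γ₁ x := by
    refine ⟨Matrix.GeneralLinearGroup.toLin.symm (LinearMap.GeneralLinearGroup.ofLinearEquiv γ₁), fun x => ?_⟩
    rw [← Matrix.toLin'_apply]
    change (Matrix.GeneralLinearGroup.toLin (Matrix.GeneralLinearGroup.toLin.symm
      (LinearMap.GeneralLinearGroup.ofLinearEquiv γ₁)) : (ι → F) →ₗ[F] (ι → F)) x = γ₁ x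
    rw [MulEquiv.apply_symm_apply]
    rfl
  have hgi : ∀ x y, f ((g : Matrix ι ι F) *ᵥ x) ((g : Matrix ι ι F) *ᵥ y) = f x y := fun x y => by
    rw [hg, hg]; exact hi₁ x y
  have hgv : (g : Matrix ι ι F) *ᵥ v = v' := by rw [hg, hγv]
  -- correct the determinant
  have hd0 : (g : Matrix ι ι F).det ≠ 0 := ((Matrix.isUnit_iff_isUnit_det _).mp g.isUnit).ne_zero
  have hN : (g : Matrix ι ι F).det * σ (g : Matrix ι ι F).det = 1 := by
    have e := congrArg Matrix.det (gram_comp σ hs (g : Matrix ι ι F))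
    rw [show (fun x y => f ((g : Matrix ι ι F) *ᵥ x) ((g : Matrix ι ι F) *ᵥ y)) = f from funext fun x => funext (hgi x),
      Matrix.det_mul, Matrix.det_mul, Matrix.det_transpose] at e
    have e' : ((g : Matrix ι ι F).map σ).det = σ (g : Matrix ι ι F).det := (σ.toRingHom.map_det _).symm
    rw [e'] at e
    exact mul_left_cancel₀ (gram_unit hf).ne_zero (by rw [mul_one]; linear_combination -e)
  obtain ⟨a, hav, haa⟩ : ∃ a, f a v' = 0 ∧ f a a ≠ 0 := by
    by_contra hcon
    push Not at hcon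
    let φ : (ι → F) →ₗ[F] F :=
      { toFun := fun x => f x v'
        map_add' := fun x y => hs.add_left x y v'
        map_smul' := fun c x => hs.smul_left c x v' }
    obtain ⟨b, hbk, hbn⟩ : ∃ b ∈ LinearMap.ker φ, b ∉ Submodule.span F ({v'} : Set (ι → F)) := by
      by_contra hc
      push Not at hc
      have e1 := Submodule.finrank_mono (show LinearMap.ker φ ≤ _ from hc)
      have e2 := φ.finrank_range_add_finrank_ker
      have e3 := Submodule.finrank_le (LinearMap.range φ)
      rw [Module.finrank_self] at e3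
      rw [Module.finrank_fintype_fun_eq_card] at e2
      rw [finrank_span_singleton hv'] at e1
      omega
    rw [LinearMap.mem_ker, LinearMap.coe_mk, AddHom.coe_mk] at hbk
    obtain ⟨z, hz, hbz⟩ := HermWitt.exists_orth (herm hf) hbn
    have hzv : f z v' = 0 := hz v' (Submodule.mem_span_singleton_self v')
    have hbz' : f z b ≠ 0 := hbz
    refine hf.ne_refl (RingEquiv.ext fun c => ?_)
    have e : ∀ t : F, f (b + t • z) (b + t • z) = 0 := fun t => hcon _ (by rw [hs.add_left, hs.smul_left, hbk, hzv, mul_zero, add_zero])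
    have e' : ∀ t : F, t * f z b + σ (t * f z b) = 0 := fun t => by
      have := e t
      rw [hs.add_left, hs.add_right, hs.add_right, hs.smul_left, hs.smul_left, hs.smul_right, hs.smul_right,
        hcon b hbk, hcon z hzv, hf.herm b z] at this
      rw [map_mul]
      linear_combination this
    have k1 := e' (f z b)⁻¹
    have k2 := e' (c * (f z b)⁻¹)
    rw [inv_mul_cancel₀ hbz', map_one] at k1
    rw [inv_mul_cancel_right₀ hbz'] at k2
    change σ c = c
    linear_combination k2 - c * k1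
  obtain ⟨l, hl⟩ : ∃ l, l = ((g : Matrix ι ι F).det)⁻¹ := ⟨_, rfl⟩
  have hlσ : l * σ l = 1 := by rw [hl, map_inv₀, ← mul_inv, hN, inv_one]
  obtain ⟨k, hk⟩ : ∃ k, k = (l - 1) / f a a := ⟨_, rfl⟩
  have hka : k * f a a = l - 1 := by rw [hk, div_mul_cancel₀ _ haa]
  have hl0 : l ≠ 0 := by rw [hl]; exact inv_ne_zero hd0
  obtain ⟨s, hsd, hst⟩ := exists_map hf a a k (by rw [hka, add_sub_cancel]; exact hl0)
  have hsi : ∀ x y, f ((s : Matrix ι ι F) *ᵥ x) ((s : Matrix ι ι F) *ᵥ y) = f x y := tv_isometry hf hst (by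
    have e1 : σ k * f a a = σ l - 1 := by rw [hk, map_div₀, map_sub, map_one, ← hf.herm, div_mul_cancel₀ _ haa]
    refine mul_right_cancel₀ haa ?_
    linear_combination hka + e1 + σ k * f a a * hka + (l - 1) * e1 + hlσ)
  have hfixa : ∀ z, f z a = 0 → (s : Matrix ι ι F) *ᵥ z = z := fun z hz => by rw [hst, hz, mul_zero, zero_smul, add_zero]
  refine ⟨s * g, hK ⟨⟨1, fun x y => ?_⟩, mem_specialLinear_iff.mpr ?_⟩, fun x y => ?_, ?_⟩
  · rw [gl_mul_mulVec, gl_mul_mulVec, hsi, hgi, Units.val_one, one_mul]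
  · rw [Units.val_mul, Matrix.det_mul, hsd, hka, add_sub_cancel, hl, inv_mul_cancel₀ hd0]
  · rw [gl_mul_mulVec, gl_mul_mulVec, hsi, hgi]
  · rw [gl_mul_mulVec, hgv, hfixa _ (by rw [hf.herm, hav, map_zero])]

end Cfsg.Agent.Classical.UMaxSL
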