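/-
A Hermitian form that is rational over a subfield stable under the involution: rational vectors and rational maps.
-/
import Cfsg.Agent.Lib.Classical.UMoveVec
import Cfsg.Agent.Lib.Classical.Subfield

set_option autoImplicit false
set_option linter.unusedSectionVars false
set_option linter.style.haveILetI false

namespace Cfsg.Agent.Classical.USub

open Matrix Cfsg.Geo
open Cfsg.Agent.Classical

universe u

variable {ι : Type} [Fintype ι] [DecidableEq ι] {F : Type u} [Field F] [Fintype F] {F₀ : Subfield F} {σ : F ≃+* F}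
  {f : (ι → F) → (ι → F) → F} {K : Subgroup (GL ι F)}

/-- All entries lie in the subfield. -/
def Rat (F₀ : Subfield F) (v : ι → F) : Prop := ∀ i, v i ∈ F₀

/-- Some product of an entry and the conjugate of an entry is outside the subfield. -/
def Bad (σ : F ≃+* F) (F₀ : Subfield F) (v : ι → F) : Prop := ∃ k l, v k * σ (v l) ∉ F₀

/-- The group preserves the form. -/
def IsIso (f : (ι → F) → (ι → F) → F) (g : GL ι F) : Prop :=
  ∀ x y, f ((g : Matrix ι ι F) *ᵥ x) ((g : Matrix ι ι F) *ᵥ y) = f x y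

/-- `x ↦ x + L x` is in `K`. -/
def In (K : Subgroup (GL ι F)) (L : (ι → F) → ι → F) : Prop :=
  ∃ g ∈ K, ∀ x, (g : Matrix ι ι F) *ᵥ x = x + L x

/-- The map of a transvection. -/
def tq (f : (ι → F) → (ι → F) → F) (b : ι → F) (l : F) : (ι → F) → ι → F := fun x => (l * f x b) • b

/-- The map of a skew matrix on two vectors. -/
def pl (σ : F ≃+* F) (f : (ι → F) → (ι → F) → F) (b z : ι → F) (A B C : F) : (ι → F) → ι → F :=
  fun x => (A * f x b + B * f x z) • b + (-(σ B) * f x b + C * f x z) • z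

/-- The setting. -/
structure Setup (F₀ : Subfield F) (σ : F ≃+* F) (f : (ι → F) → (ι → F) → F) (K : Subgroup (GL ι F)) : Prop where
  hf : IsUnitaryForm σ f
  stab : ∀ x ∈ F₀, σ x ∈ F₀
  nt : ∃ θ ∈ F₀, σ θ ≠ θ
  rat : ∀ u v, Rat F₀ u → Rat F₀ v → f u v ∈ F₀
  sq : ∀ μ : F, μ * μ ∈ F₀ → μ ∈ F₀
  big : 4 ≤ Fintype.card ι
  iso : ∀ g ∈ K, IsIso f g
  det : ∀ g ∈ K, (g : Matrix ι ι F).det = 1
  base : ∀ g : GL ι F, IsIso f g → (g : Matrix ι ι F).det = 1 → (∀ i j, (g : Matrix ι ι F) i j ∈ F₀) → g ∈ K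

theorem In.congr {L L' : (ι → F) → ι → F} (h : In K L) (e : ∀ x, L x = L' x) : In K L' := by
  obtain ⟨g, hg, h'⟩ := h
  exact ⟨g, hg, fun x => by rw [h', e]⟩

theorem In.comp {L L' : (ι → F) → ι → F} (h : In K L) (h' : In K L') :
    In K fun x => L' x + L (x + L' x) := by
  obtain ⟨g, hg, hg'⟩ := h
  obtain ⟨k, hk, hk'⟩ := h'
  exact ⟨g * k, mul_mem hg hk, fun x => by rw [gl_mul_mulVec, hk', hg', add_assoc]⟩

theorem In.inv {L L' : (ι → F) → ι → F} (h : In K L) (e : ∀ x, L' x + L (x + L' x) = 0) : In K L' := by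
  obtain ⟨g, hg, hg'⟩ := h
  refine ⟨g⁻¹, inv_mem hg, fun x => gl_mulVec_injective g ?_⟩
  simp only []
  rw [gl_mulVec_inv_cancel, hg', add_assoc, e, add_zero]

theorem rat_single (i : ι) : Rat F₀ (Pi.single i 1 : ι → F) := fun j => by
  rw [Pi.single_apply]; split_ifs; exacts [one_mem _, zero_mem _]

theorem Rat.add {u v : ι → F} (hu : Rat F₀ u) (hv : Rat F₀ v) : Rat F₀ (u + v) := fun i => add_mem (hu i) (hv i)

theorem Rat.sub {u v : ι → F} (hu : Rat F₀ u) (hv : Rat F₀ v) : Rat F₀ (u - v) := fun i => sub_mem (hu i) (hv i)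

theorem Rat.smul {u : ι → F} {c : F} (hc : c ∈ F₀) (hu : Rat F₀ u) : Rat F₀ (c • u) := fun i => mul_mem hc (hu i)

theorem Rat.zero : Rat F₀ (0 : ι → F) := fun _ => zero_mem _

theorem rat_mulVec {g : GL ι F} (hg : ∀ i j, (g : Matrix ι ι F) i j ∈ F₀) {v : ι → F} (hv : Rat F₀ v) :
    Rat F₀ ((g : Matrix ι ι F) *ᵥ v) := fun i => sum_mem fun j _ => mul_mem (hg i j) (hv j)

variable (S : Setup F₀ σ f K)

include S

theorem hs : IsSemiForm σ f := semiForm_of_unitary S.hf

theorem f_zero_left (x : ι → F) : f 0 x = 0 := by rw [← zero_smul F (0 : ι → F), (hs S).smul_left, zero_mul]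

theorem f_zero_right (x : ι → F) : f x 0 = 0 := by
  rw [← zero_smul F (0 : ι → F), (hs S).smul_right, map_zero, zero_mul]

theorem f_sub_left (a b x : ι → F) : f (a - b) x = f a x - f b x := by
  rw [sub_eq_add_neg, ← neg_one_smul F b, (hs S).add_left, (hs S).smul_left]; ring

theorem f_sub_right (a b x : ι → F) : f x (a - b) = f x a - f x b := by
  rw [sub_eq_add_neg, ← neg_one_smul F b, (hs S).add_right, (hs S).smul_right, map_neg, map_one]; ring

theorem f_sum_left {α : Type*} (s : Finset α) (v : α → ι → F) (x : ι → F) :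
    f (∑ i ∈ s, v i) x = ∑ i ∈ s, f (v i) x :=
  let L : (ι → F) →ₗ[F] F :=
    { toFun := fun y => f y x, map_add' := fun a b => (hs S).add_left a b x,
      map_smul' := fun c y => (hs S).smul_left c y x }
  map_sum L v s

theorem symm_zero {a b : ι → F} (h : f a b = 0) : f b a = 0 := by rw [S.hf.herm, h, map_zero]

theorem conj_iso {y : GL ι F} (hy : y ∈ K) (x v : ι → F) :
    f (((y⁻¹ : GL ι F) : Matrix ι ι F) *ᵥ x) v = f x ((y : Matrix ι ι F) *ᵥ v) := by
  conv_rhs => rw [← gl_mulVec_inv_cancel y x]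
  rw [S.iso y hy]

theorem In.conj_tq {b : ι → F} {l : F} (h : In K (tq f b l)) {y : GL ι F} (hy : y ∈ K) :
    In K (tq f ((y : Matrix ι ι F) *ᵥ b) l) := by
  obtain ⟨g, hg, h'⟩ := h
  exact ⟨y * g * y⁻¹, mul_mem (mul_mem hy hg) (inv_mem hy), fun x => by
    rw [gl_mul_mulVec, gl_mul_mulVec, h', Matrix.mulVec_add, gl_mulVec_inv_cancel, tq, tq, Matrix.mulVec_smul,
      conj_iso S hy]⟩

theorem In.conj_pl {b z : ι → F} {A B C : F} (h : In K (pl σ f b z A B C)) {y : GL ι F} (hy : y ∈ K) :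
    In K (pl σ f ((y : Matrix ι ι F) *ᵥ b) ((y : Matrix ι ι F) *ᵥ z) A B C) := by
  obtain ⟨g, hg, h'⟩ := h
  exact ⟨y * g * y⁻¹, mul_mem (mul_mem hy hg) (inv_mem hy), fun x => by
    rw [gl_mul_mulVec, gl_mul_mulVec, h', Matrix.mulVec_add, gl_mulVec_inv_cancel, pl, pl, Matrix.mulVec_add,
      Matrix.mulVec_smul, Matrix.mulVec_smul, conj_iso S hy, conj_iso S hy]⟩

theorem tq_smul (v : ι → F) (s l : F) : tq f (s • v) l = tq f v (l * (s * σ s)) := by
  funext x
  simp only [tq, (hs S).smul_right]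
  module

theorem tq_pl (b z : ι → F) (A : F) : tq f b A = pl σ f b z A 0 0 := by
  funext x
  simp only [pl, tq, map_zero, neg_zero, zero_mul, add_zero, zero_smul]

theorem pl_add {b z : ι → F} (hbb : f b b = 0) (hbz : f b z = 0) (hzz : f z z = 0) {A B C A' B' C' : F}
    (h : In K (pl σ f b z A B C)) (h' : In K (pl σ f b z A' B' C')) : In K (pl σ f b z (A + A') (B + B') (C + C')) :=
  (h.comp h').congr fun x => by
    simp only [pl, (hs S).add_left, (hs S).smul_left, hbb, hbz, hzz, symm_zero S hbz, map_add]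
    module

theorem pl_neg {b z : ι → F} (hbb : f b b = 0) (hbz : f b z = 0) (hzz : f z z = 0) {A B C : F}
    (h : In K (pl σ f b z A B C)) : In K (pl σ f b z (-A) (-B) (-C)) :=
  h.inv fun x => by
    simp only [pl, (hs S).add_left, (hs S).smul_left, hbb, hbz, hzz, symm_zero S hbz, map_neg]
    module

theorem skew_of_In {b : ι → F} {l : F} (hb : b ≠ 0) (hbb : f b b = 0) (h : In K (tq f b l)) : l + σ l = 0 := by
  obtain ⟨g, hg, h'⟩ := h
  obtain ⟨x₀, hx₀⟩ := (S.hf.nondegenerate b hb).1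
  obtain ⟨x, hx⟩ : ∃ x, f x b = 1 := ⟨(f x₀ b)⁻¹ • x₀, by rw [(hs S).smul_left, inv_mul_cancel₀ hx₀]⟩
  have := S.iso g hg x x
  rw [h', tq, (hs S).add_left, (hs S).add_right, (hs S).add_right, (hs S).smul_left, (hs S).smul_left,
    (hs S).smul_right, (hs S).smul_right, S.hf.herm b x, hx, hbb, map_mul, map_one] at this
  linear_combination this

/-- The restriction to the rational vectors. -/
theorem descend : ∃ (σ₀ : F₀ ≃+* F₀) (B : (ι → F₀) → (ι → F₀) → F₀), IsUnitaryForm σ₀ B ∧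
    (∀ x, (σ₀ x : F) = σ x) ∧ ∀ u v, (B u v : F) = f (fun i => (u i : F)) (fun i => (v i : F)) := by
  have hs := hs S
  let σ₀ : F₀ ≃+* F₀ :=
    { toFun := fun x => ⟨σ x, S.stab x x.2⟩
      invFun := fun x => ⟨σ x, S.stab x x.2⟩
      left_inv := fun x => Subtype.ext (S.hf.involutive x)
      right_inv := fun x => Subtype.ext (S.hf.involutive x)
      map_mul' := fun x y => Subtype.ext (map_mul σ (x : F) y)
      map_add' := fun x y => Subtype.ext (map_add σ (x : F) y) }
  let B : (ι → F₀) → (ι → F₀) → F₀ := fun u v =>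
    ⟨f (fun i => (u i : F)) (fun i => (v i : F)), S.rat _ _ (fun i => (u i).2) fun i => (v i).2⟩
  have hB : ∀ u v, (B u v : F) = f (fun i => (u i : F)) (fun i => (v i : F)) := fun _ _ => rfl
  refine ⟨σ₀, B, ⟨fun e => ?_, fun a => Subtype.ext (S.hf.involutive a), fun x y v => Subtype.ext ?_,
    fun c x v => Subtype.ext ?_, fun v w => Subtype.ext (S.hf.herm _ _), fun v hv => ?_⟩, fun _ => rfl, hB⟩
  · obtain ⟨θ, hθ, hne⟩ := S.nt
    exact hne (congrArg Subtype.val (RingEquiv.congr_fun e ⟨θ, hθ⟩))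
  · rw [Subfield.coe_add, hB, hB, hB, ← hs.add_left]; rfl
  · rw [Subfield.coe_mul, hB, hB, ← hs.smul_left]; rfl
  · have hne : ∃ x, B x v ≠ 0 := by
      by_contra hcon
      push Not at hcon
      have hv0 : (fun i => (v i : F)) ≠ 0 := fun e => hv (funext fun i => Subtype.ext (congrFun e i))
      obtain ⟨y, hy⟩ := (S.hf.nondegenerate _ hv0).1
      refine hy ?_
      rw [pi_eq_sum_univ' y, f_sum_left S]
      refine Finset.sum_eq_zero fun i _ => ?_
      have h := congrArg Subtype.val (hcon (Pi.single i 1))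
      rw [hB, show (fun j => (((Pi.single i 1 : ι → F₀) j : F₀) : F)) = Pi.single i (1 : F) from funext fun j => by
        by_cases hj : j = i <;> simp [hj]] at h
      rw [hs.smul_left, h]
      simp
    obtain ⟨x, hx⟩ := hne
    exact ⟨⟨x, hx⟩, ⟨x, fun e => hx (Subtype.ext (by
      have := congrArg Subtype.val e
      rw [hB] at this ⊢
      exact symm_zero S this))⟩⟩

/-- Two vectors with the same pairings with all rational vectors are equal. -/
theorem eq_of_rat {a b : ι → F} (h : ∀ x, Rat F₀ x → f x a = f x b) : a = b := by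
  by_contra hne
  obtain ⟨y, hy⟩ := (S.hf.nondegenerate (a - b) (sub_ne_zero.mpr hne)).1
  refine hy ?_
  rw [pi_eq_sum_univ' y, f_sum_left S]
  refine Finset.sum_eq_zero fun i _ => ?_
  rw [(hs S).smul_left, f_sub_right S, h _ (rat_single i), sub_self]
  simp

/-- A vector pairing rationally with all rational vectors is rational. -/
theorem rat_of_pair {v : ι → F} (h : ∀ x, Rat F₀ x → f x v ∈ F₀) : Rat F₀ v := by
  obtain ⟨σ₀, B, hB, -, hBv⟩ := descend S
  haveI : Fintype F₀ := Fintype.ofFinite F₀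
  obtain ⟨u, hu⟩ := UMaxSL.exists_rep hB (fun i => ⟨f (Pi.single i 1) v, h _ (rat_single i)⟩)
  have e : v = fun i => (u i : F) := eq_of_rat S fun x hx => by
    rw [pi_eq_sum_univ' x, f_sum_left S, f_sum_left S]
    refine Finset.sum_congr rfl fun i _ => ?_
    rw [(hs S).smul_left, (hs S).smul_left]
    congr 1
    have h1 := congrArg Subtype.val (hu (Pi.single i 1))
    rw [hBv, single_dotProduct, one_mul, show (fun j => (((Pi.single i 1 : ι → F₀) j : F₀) : F)) = Pi.single i (1 : F)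
      from funext fun j => by by_cases hj : j = i <;> simp [hj]] at h1
    exact h1.symm
  intro i
  rw [e]
  exact (u i).2

/-- A rational vector outside the span of two others is separated from them. -/
theorem exists_sep {u v p : ι → F} (hu : Rat F₀ u) (hv : Rat F₀ v) (hp : Rat F₀ p)
    (hind : ∀ k l : F, k • u + l • v ≠ p) : ∃ z, Rat F₀ z ∧ f z u = 0 ∧ f z v = 0 ∧ f z p = 1 := by
  obtain ⟨σ₀, B, hB, -, hBv⟩ := descend S
  let u' : ι → F₀ := fun i => ⟨u i, hu i⟩
  let v' : ι → F₀ := fun i => ⟨v i, hv i⟩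
  let p' : ι → F₀ := fun i => ⟨p i, hp i⟩
  have hnot : p' ∉ Submodule.span F₀ ({u', v'} : Set (ι → F₀)) := fun h => by
    obtain ⟨k, l, hkl⟩ := Submodule.mem_span_pair.mp h
    exact hind k l (funext fun i => congrArg Subtype.val (congrFun hkl i))
  obtain ⟨z, hz, hzp⟩ := HermWitt.exists_orth (UMaxSL.herm hB) hnot
  have h1 : B z u' = 0 := hz u' (Submodule.subset_span (by simp))
  have h2 : B z v' = 0 := hz v' (Submodule.subset_span (by simp))
  have h3 : B z p' ≠ 0 := hzp
  obtain ⟨z', hz'⟩ : ∃ z' : ι → F, z' = fun i => (z i : F) := ⟨_, rfl⟩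
  have e1 : f z' u = 0 := by
    have := congrArg Subtype.val h1; rw [hBv] at this; rw [hz']; exact this
  have e2 : f z' v = 0 := by
    have := congrArg Subtype.val h2; rw [hBv] at this; rw [hz']; exact this
  have e3 : f z' p ≠ 0 := fun e => h3 (Subtype.ext (by rw [hBv]; rw [hz'] at e; exact e))
  refine ⟨(f z' p)⁻¹ • z', Rat.smul (inv_mem (S.rat _ _ (hz' ▸ fun i => (z i).2) hp)) (hz' ▸ fun i => (z i).2), ?_, ?_, ?_⟩
  · rw [(hs S).smul_left, e1, mul_zero]
  · rw [(hs S).smul_left, e2, mul_zero]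
  · rw [(hs S).smul_left, inv_mul_cancel₀ e3]

/-- An isotropic partner. -/
theorem exists_partner {u v p : ι → F} (hu : Rat F₀ u) (hv : Rat F₀ v) (hp : Rat F₀ p)
    (hind : ∀ k l : F, k • u + l • v ≠ p) (hpp : f p p = 0) (hpu : f p u = 0) (hpv : f p v = 0) :
    ∃ q, Rat F₀ q ∧ f q q = 0 ∧ f q u = 0 ∧ f q v = 0 ∧ f p q = 1 ∧ f q p = 1 := by
  obtain ⟨z, hz, hzu, hzv, hzp⟩ := exists_sep S hu hv hp hind
  obtain ⟨σ₀, B, hB, hσ₀, -⟩ := descend S
  haveI : Fintype F₀ := Fintype.ofFinite F₀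
  obtain ⟨s, -, hss⟩ := UMaxSL.exists_trace hB (b := ⟨f z z, S.rat _ _ hz hz⟩)
    (Subtype.ext (by rw [hσ₀]; exact (S.hf.herm z z).symm))
  have hs' := congrArg Subtype.val hss
  simp only [Subfield.coe_add, hσ₀, Subfield.coe_zero] at hs'
  have hpz : f p z = 1 := by rw [S.hf.herm, hzp, map_one]
  refine ⟨z + (s : F) • p, hz.add (hp.smul s.2), ?_, ?_, ?_, ?_, ?_⟩
  · rw [(hs S).add_left, (hs S).add_right, (hs S).add_right, (hs S).smul_left, (hs S).smul_left, (hs S).smul_right,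
      (hs S).smul_right, hpp, hpz, hzp]
    linear_combination hs'
  · rw [(hs S).add_left, (hs S).smul_left, hzu, hpu, mul_zero, add_zero]
  · rw [(hs S).add_left, (hs S).smul_left, hzv, hpv, mul_zero, add_zero]
  · rw [(hs S).add_right, (hs S).smul_right, hpp, hpz, mul_zero, add_zero]
  · rw [(hs S).add_left, (hs S).smul_left, hpp, hzp, mul_zero, add_zero]

/-- A non-zero rational vector orthogonal to a few given ones. -/
theorem exists_ker {k : ℕ} (hk : k < Fintype.card ι) (a : Fin k → ι → F) (ha : ∀ j, Rat F₀ (a j)) :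
    ∃ b, b ≠ 0 ∧ Rat F₀ b ∧ ∀ j, f b (a j) = 0 := by
  let φ : (ι → F₀) →ₗ[F₀] Fin k → F₀ :=
    { toFun := fun x j => ⟨f (fun i => (x i : F)) (a j), S.rat _ _ (fun i => (x i).2) (ha j)⟩
      map_add' := fun x y => funext fun j => Subtype.ext (by
        rw [Pi.add_apply, Subfield.coe_add]
        exact (hs S).add_left (fun i => (x i : F)) (fun i => (y i : F)) _)
      map_smul' := fun c x => funext fun j => Subtype.ext (by
        rw [RingHom.id_apply, Pi.smul_apply, smul_eq_mul, Subfield.coe_mul]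
        exact (hs S).smul_left (c : F) (fun i => (x i : F)) _) }
  obtain ⟨x, hx, hx0⟩ : ∃ x, x ∈ LinearMap.ker φ ∧ x ≠ 0 := by
    refine Submodule.exists_mem_ne_zero_of_ne_bot fun e => ?_
    have h1 := φ.finrank_range_add_finrank_ker
    have h2 := Submodule.finrank_le (LinearMap.range φ)
    rw [e, finrank_bot, add_zero, Module.finrank_fintype_fun_eq_card] at h1
    rw [Module.finrank_fintype_fun_eq_card, Fintype.card_fin] at h2
    omega
  exact ⟨fun i => (x i : F), fun e => hx0 (funext fun i => Subtype.ext (congrFun e i)), fun i => (x i).2,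
    fun j => congrArg Subtype.val (congrFun (LinearMap.mem_ker.mp hx) j)⟩

/-- An isotropic combination of two orthogonal anisotropic rational vectors. -/
theorem exists_isotropic_comb {d d' : ι → F} (hd : Rat F₀ d) (hd' : Rat F₀ d') (h : f d d' = 0) (hdd : f d d ≠ 0)
    (hdd' : f d' d' ≠ 0) : ∃ t ∈ F₀, f (d + t • d') (d + t • d') = 0 ∧ d + t • d' ≠ 0 := by
  obtain ⟨σ₀, B, hB, hσ₀, -⟩ := descend S
  haveI : Fintype F₀ := Fintype.ofFinite F₀
  obtain ⟨q₀, hq₀⟩ := exists_isUSigma_of_involutive (σ := σ₀) hB.involutive hB.ne_refl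
  have h0 : -(f d d / f d' d') ∈ F₀ := neg_mem (div_mem (S.rat _ _ hd hd) (S.rat _ _ hd' hd'))
  obtain ⟨t, -, ht⟩ := hq₀.norm_surjective (t := ⟨_, h0⟩)
    (fun e => hdd (by
      have := congrArg Subtype.val e
      simp only [Subfield.coe_zero, neg_eq_zero, div_eq_zero_iff] at this
      exact this.resolve_right hdd'))
    (Subtype.ext (by rw [hσ₀, map_neg, map_div₀, ← S.hf.herm, ← S.hf.herm]))
  have ht' := congrArg Subtype.val ht
  simp only [Subfield.coe_mul, hσ₀] at ht'
  have hd0 : f d' d = 0 := symm_zero S h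
  refine ⟨t, t.2, ?_, fun e => hdd ?_⟩
  · rw [(hs S).add_left, (hs S).add_right, (hs S).add_right, (hs S).smul_left, (hs S).smul_left, (hs S).smul_right,
      (hs S).smul_right, h, hd0]
    have : (t : F) * σ t * f d' d' = -f d d := by rw [ht']; field_simp
    linear_combination this
  · have : f (d + (t : F) • d') d = 0 := by rw [e, f_zero_left S]
    rwa [(hs S).add_left, (hs S).smul_left, hd0, mul_zero, add_zero] at this

/-- A non-zero rational isotropic vector orthogonal to a few given ones. -/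
theorem exists_iso {k : ℕ} (hk : k + 1 < Fintype.card ι) (a : Fin k → ι → F) (ha : ∀ j, Rat F₀ (a j)) :
    ∃ b, b ≠ 0 ∧ Rat F₀ b ∧ f b b = 0 ∧ ∀ j, f b (a j) = 0 := by
  obtain ⟨d, hd0, hd, hda⟩ := exists_ker S (by omega) a ha
  by_cases hdd : f d d = 0
  · exact ⟨d, hd0, hd, hdd, hda⟩
  obtain ⟨d', hd'0, hd', hda'⟩ := exists_ker S hk (Fin.cons d a) (fun j => by
    refine Fin.cases hd ha j)
  by_cases hdd' : f d' d' = 0
  · exact ⟨d', hd'0, hd', hdd', fun j => by simpa using hda' j.succ⟩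
  obtain ⟨t, ht, hiso, hne⟩ := exists_isotropic_comb S hd hd' (symm_zero S (by simpa using hda' 0)) hdd hdd'
  refine ⟨_, hne, hd.add (hd'.smul ht), hiso, fun j => ?_⟩
  rw [(hs S).add_left, (hs S).smul_left, hda, show f d' (a j) = 0 by simpa using hda' j.succ, mul_zero, add_zero]

/-- A further orthogonal anisotropic rational vector, in odd characteristic. -/
theorem exists_aniso (h2 : (2 : F) ≠ 0) {k : ℕ} (hk : k + 1 < Fintype.card ι) (d : Fin k → ι → F)
    (hd : ∀ j, Rat F₀ (d j)) (horth : ∀ i j, i ≠ j → f (d i) (d j) = 0) (hdd : ∀ j, f (d j) (d j) ≠ 0) :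
    ∃ b, Rat F₀ b ∧ f b b ≠ 0 ∧ ∀ j, f b (d j) = 0 := by
  obtain ⟨z, hz0, hz, hzz, hzd⟩ := exists_iso S hk d hd
  obtain ⟨w, hw, -, -, hwz⟩ := exists_sep S Rat.zero Rat.zero hz (fun k l e => hz0 (by simpa using e.symm))
  obtain ⟨q, hq⟩ : ∃ q, q = w - ∑ j, (f w (d j) / f (d j) (d j)) • d j := ⟨_, rfl⟩
  have hqr : Rat F₀ q := by
    rw [hq]
    refine hw.sub fun i => ?_
    rw [Finset.sum_apply]
    exact sum_mem fun j _ => mul_mem (div_mem (S.rat _ _ hw (hd j)) (S.rat _ _ (hd j) (hd j))) (hd j i)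
  have hqd : ∀ j, f q (d j) = 0 := fun j => by
    rw [hq, f_sub_left S, f_sum_left S, Finset.sum_eq_single j]
    · rw [(hs S).smul_left, div_mul_cancel₀ _ (hdd j), sub_self]
    · intro i _ hij
      rw [(hs S).smul_left, horth i j hij, mul_zero]
    · simp
  have hqz : f q z = 1 := by
    rw [hq, f_sub_left S, f_sum_left S, hwz, Finset.sum_eq_zero, sub_zero]
    intro j _
    rw [(hs S).smul_left, symm_zero S (hzd j), mul_zero]
  by_cases hqq : f q q = 0
  · refine ⟨q + z, hqr.add hz, ?_, fun j => by rw [(hs S).add_left, hqd, hzd, add_zero]⟩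
    rw [(hs S).add_left, (hs S).add_right, (hs S).add_right, hqq, hzz, hqz, S.hf.herm z q, hqz, map_one]
    simpa [one_add_one_eq_two] using h2
  · exact ⟨q, hqr, hqq, hqd⟩

/-- Rational isotropic vectors span the rational perpendicular. -/
theorem iso_induction {b : ι → F} (hb : Rat F₀ b) (hb0 : b ≠ 0) {P : (ι → F) → Prop}
    (hiso : ∀ e, Rat F₀ e → f e b = 0 → f e e = 0 → P e)
    (hadd : ∀ x y, Rat F₀ x → Rat F₀ y → f x b = 0 → f y b = 0 → P x → P y → P (x + y)) {v : ι → F}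
    (hv : Rat F₀ v) (hvb : f v b = 0) : P v := by
  obtain ⟨σ₀, B, hB, -, hBv⟩ := descend S
  let b' : ι → F₀ := fun i => ⟨b i, hb i⟩
  let v' : ι → F₀ := fun i => ⟨v i, hv i⟩
  haveI : Fintype F₀ := Fintype.ofFinite F₀
  have h := UMaxSL.perp_induction hB (by have := S.big; omega) (w := b')
    (fun e => hb0 (funext fun i => congrArg Subtype.val (congrFun e i))) (P := fun x => P fun i => (x i : F))
    (fun e h1 h2 => hiso _ (fun i => (e i).2)
      (by have := congrArg Subtype.val h1; rw [hBv] at this; exact this)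
      (by have := congrArg Subtype.val h2; rw [hBv] at this; exact this))
    (fun x y h1 h2 hx hy => by
      have := hadd _ _ (fun i => (x i).2) (fun i => (y i).2)
        (by have := congrArg Subtype.val h1; rw [hBv] at this; exact this)
        (by have := congrArg Subtype.val h2; rw [hBv] at this; exact this) hx hy
      exact this)
    (v := v') (Subtype.ext (by rw [hBv]; exact hvb))
  exact h

/-- Rational isotropic vectors span everything. -/
theorem rat_induction {P : (ι → F) → Prop} (hiso : ∀ e, Rat F₀ e → f e e = 0 → P e)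
    (hadd : ∀ x y, Rat F₀ x → Rat F₀ y → P x → P y → P (x + y)) {v : ι → F} (hv : Rat F₀ v) : P v := by
  obtain ⟨b, hb0, hb, -, hbv⟩ := exists_iso S (k := 1) (by have := S.big; omega) (fun _ => v) fun _ => hv
  exact iso_induction S hb hb0 (fun e he _ h => hiso e he h) (fun x y hx hy _ _ => hadd x y hx hy) hv
    (symm_zero S (hbv 0))

/-- A rational group element moving one isotropic vector to another. -/
theorem exists_move {b b' : ι → F} (hb : Rat F₀ b) (hb' : Rat F₀ b') (hb0 : b ≠ 0) (hb0' : b' ≠ 0)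
    (h1 : f b b = 0) (h1' : f b' b' = 0) :
    ∃ y ∈ K, (∀ i j, (y : Matrix ι ι F) i j ∈ F₀) ∧ (y : Matrix ι ι F) *ᵥ b = b' := by
  obtain ⟨σ₀, B, hB, -, hBv⟩ := descend S
  haveI : Fintype F₀ := Fintype.ofFinite F₀
  obtain ⟨A, hA, hAi, hAb⟩ := UMaxSL.exists_move_vec hB S.big
    (K := similarityGroup B ⊓ specialLinear ι F₀) le_rfl (v := fun i => ⟨b i, hb i⟩) (v' := fun i => ⟨b' i, hb' i⟩)
    (fun e => hb0 (funext fun i => congrArg Subtype.val (congrFun e i)))
    (fun e => hb0' (funext fun i => congrArg Subtype.val (congrFun e i)))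
    (Subtype.ext (by rw [hBv]; exact h1)) (Subtype.ext (by rw [hBv]; exact h1'))
  obtain ⟨y, hy⟩ : ∃ y, y = Matrix.GeneralLinearGroup.map (F₀.subtype : F₀ →+* F) A := ⟨_, rfl⟩
  have hyx : ∀ x : ι → F₀, (y : Matrix ι ι F) *ᵥ (fun i => (x i : F)) =
      fun i => ((((A : Matrix ι ι F₀) *ᵥ x) i : F₀) : F) := fun x => by
    funext i
    rw [hy]
    exact (RingHom.map_mulVec (F₀.subtype : F₀ →+* F) (A : Matrix ι ι F₀) x i).symm
  have hyr : ∀ i j, (y : Matrix ι ι F) i j ∈ F₀ := fun i j => hy ▸ ((A : Matrix ι ι F₀) i j).2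
  refine ⟨y, S.base y (fun u v => ?_) ?_ hyr, hyr, ?_⟩
  · have hL : ∀ w v, (∀ i : ι, f ((y : Matrix ι ι F) *ᵥ Pi.single i 1) w = f (Pi.single i 1) v) → ∀ u,
        f ((y : Matrix ι ι F) *ᵥ u) w = f u v := fun w v h u => by
      conv_lhs => rw [pi_eq_sum_univ' u]
      conv_rhs => rw [pi_eq_sum_univ' u]
      rw [Matrix.mulVec_sum, f_sum_left S, f_sum_left S]
      refine Finset.sum_congr rfl fun i _ => ?_
      rw [Matrix.mulVec_smul, (hs S).smul_left, (hs S).smul_left, h i]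
    refine hL _ _ (fun i => ?_) u
    rw [S.hf.herm, S.hf.herm (Pi.single i 1)]
    congr 1
    refine hL _ _ (fun j => ?_) v
    have e : ∀ i : ι, (Pi.single i (1 : F) : ι → F) = fun t => (((Pi.single i 1 : ι → F₀) t : F₀) : F) := fun i =>
      funext fun t => by by_cases ht : t = i <;> simp [ht]
    rw [e i, e j, hyx, hyx, ← hBv, ← hBv, hAi]
  · have hd : (A : Matrix ι ι F₀).det = 1 := mem_specialLinear_iff.mp hA.2
    rw [hy]
    calc ((A : Matrix ι ι F₀).map (F₀.subtype : F₀ →+* F)).det = (F₀.subtype : F₀ →+* F) (A : Matrix ι ι F₀).det :=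
          ((F₀.subtype : F₀ →+* F).map_det _).symm
      _ = 1 := by rw [hd, map_one]
  · rw [show b = fun i => (((⟨b i, hb i⟩ : F₀)) : F) from rfl, hyx, hAb]

/-- Rational skew maps on a rational isotropic plane. -/
theorem exists_plane {b z : ι → F} (hb : Rat F₀ b) (hz : Rat F₀ z) (h1 : f b b = 0) (h2 : f z z = 0)
    (h3 : f b z = 0) {A B C : F} (hA : A ∈ F₀) (hB : B ∈ F₀) (hC : C ∈ F₀) (hA' : A + σ A = 0) (hC' : C + σ C = 0) :
    In K (pl σ f b z A B C) := by
  have h3' := symm_zero S h3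
  obtain ⟨u₁, hu₁⟩ : ∃ u₁, u₁ = σ A • b + σ B • z := ⟨_, rfl⟩
  obtain ⟨u₂, hu₂⟩ : ∃ u₂, u₂ = (-B) • b + σ C • z := ⟨_, rfl⟩
  obtain ⟨g₁, hg₁, ht₁⟩ := UMaxSL.exists_tv S.hf (v := b) (u := u₁)
    (by rw [hu₁, (hs S).add_right, (hs S).smul_right, (hs S).smul_right, h1, h3, mul_zero, mul_zero, add_zero]) 1
  obtain ⟨g₂, hg₂, ht₂⟩ := UMaxSL.exists_tv S.hf (v := z) (u := u₂)
    (by rw [hu₂, (hs S).add_right, (hs S).smul_right, (hs S).smul_right, h2, h3', mul_zero, mul_zero, add_zero]) 1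
  have hx : ∀ x, ((g₁ * g₂ : GL ι F) : Matrix ι ι F) *ᵥ x = x + pl σ f b z A B C x := fun x => by
    rw [gl_mul_mulVec, ht₂, ht₁]
    simp only [hu₁, hu₂, pl, (hs S).add_left, (hs S).smul_left, (hs S).add_right, (hs S).smul_right,
      S.hf.involutive, map_neg, h2, h3', h1, h3]
    module
  refine ⟨g₁ * g₂, S.base _ (fun u v => ?_) ?_ (fun i j => ?_), hx⟩
  · rw [hx, hx]
    simp only [pl, (hs S).add_left, (hs S).smul_left, (hs S).add_right, (hs S).smul_right, h1, h2, h3, h3',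
      map_add, map_mul, map_neg, S.hf.involutive, ← S.hf.herm]
    linear_combination (f u b * f b v) * hA' + (f u z * f z v) * hC'
  · rw [Units.val_mul, Matrix.det_mul, mem_specialLinear_iff.mp hg₁, mem_specialLinear_iff.mp hg₂, one_mul]
  · have h := congrFun (hx (Pi.single j 1)) i
    rw [Matrix.mulVec_single_one, Matrix.col_apply] at h
    rw [h]
    exact add_mem (rat_single j i) (add_mem
      (mul_mem (add_mem (mul_mem hA (S.rat _ _ (rat_single j) hb)) (mul_mem hB (S.rat _ _ (rat_single j) hz))) (hb i))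
      (mul_mem (add_mem (mul_mem (neg_mem (S.stab _ hB)) (S.rat _ _ (rat_single j) hb))
        (mul_mem hC (S.rat _ _ (rat_single j) hz))) (hz i)))

/-- Rational transvections. -/
theorem exists_rat_tq {b : ι → F} (hb : Rat F₀ b) (h1 : f b b = 0) {A : F} (hA : A ∈ F₀) (hA' : A + σ A = 0) :
    In K (tq f b A) :=
  (exists_plane S hb hb h1 h1 h1 hA (zero_mem _) (zero_mem _) hA' (by rw [map_zero, add_zero])).congr fun x =>
    (congrFun (tq_pl S b b A) x).symm

/-- A rational element fixing one vector of an isotropic pair and shearing the other. -/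
theorem exists_shift {b z : ι → F} (hb : Rat F₀ b) (hz : Rat F₀ z) (hind : ∀ k : F, k • b ≠ z)
    (h1 : f b b = 0) (h2 : f z z = 0) (h3 : f b z = 0) {e : F} (he : e ∈ F₀) :
    ∃ y ∈ K, (y : Matrix ι ι F) *ᵥ b = b ∧ (y : Matrix ι ι F) *ᵥ z = z + e • b := by
  obtain ⟨q, hq, hqq, hqb, -, hzq, -⟩ := exists_partner S hb hb hz
    (fun k l h => hind (k + l) (by rw [add_smul, h])) h2 (symm_zero S h3) (symm_zero S h3)
  obtain ⟨y, hy, hyx⟩ := exists_plane S hb hq h1 hqq (symm_zero S hqb) (zero_mem _) he (zero_mem _)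
    (by rw [map_zero, add_zero]) (by rw [map_zero, add_zero])
  refine ⟨y, hy, ?_, ?_⟩
  · rw [hyx, pl, symm_zero S hqb, h1]; simp
  · rw [hyx, pl, hzq, symm_zero S h3]; simp

end Cfsg.Agent.Classical.USub
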