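/-
Overgroups of a Hermitian subfield group: some irrational transvection has its centre orthogonal to a rational
isotropic vector. The proof compares two commuting involutions.
-/
import Cfsg.Agent.Lib.Classical.USubBasic
import Cfsg.Agent.S0801

set_option autoImplicit false
set_option linter.unusedSectionVars false
set_option linter.style.haveILetI false

namespace Cfsg.Agent.Classical.USub

open Matrix Cfsg.Geo
open Cfsg.Agent.Classical

universe u

variable {ι : Type} [Fintype ι] [DecidableEq ι] {F : Type u} [Field F] [Fintype F] {F₀ : Subfield F} {σ : F ≃+* F}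
  {f : (ι → F) → (ι → F) → F} {K : Subgroup (GL ι F)}

/-- Proportional to a rational matrix. -/
def Good (σ : F ≃+* F) (F₀ : Subfield F) (g : GL ι F) : Prop :=
  ∀ k l k' l', (g : Matrix ι ι F) k k' * σ ((g : Matrix ι ι F) l l') ∈ F₀

/-- Two involutions that are not conjugate commute with a third one, which links their classes. -/
theorem exists_commuting {G : Type*} [Group G] [Finite G] {K : Subgroup G} {a b : G} (haK : a ∈ K) (hbK : b ∈ K)
    (ha : a * a = 1) (hb : b * b = 1) (hconj : ∀ y ∈ K, y * a * y⁻¹ ≠ b) :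
    ∃ j ∈ K, j * j = 1 ∧ j ≠ 1 ∧ j * a = a * j ∧ j * b = b * j ∧
      ∃ y ∈ K, y * a * y⁻¹ = j * a ∨ y * b * y⁻¹ = j * a := by
  obtain ⟨x, hx⟩ : ∃ x, x = a * b := ⟨_, rfl⟩
  have ha' : a⁻¹ = a := inv_eq_of_mul_eq_one_right ha
  have hb' : b⁻¹ = b := inv_eq_of_mul_eq_one_right hb
  have hxa : ∀ k : ℕ, a * x ^ k * a⁻¹ = (x ^ k)⁻¹ := fun k => by
    rw [← conj_pow, ← inv_pow, hx]
    congr 1
    rw [_root_.mul_inv_rev, ha', hb', ← mul_assoc, ha, one_mul]
  have hxb : ∀ k : ℕ, b * x ^ k * b⁻¹ = (x ^ k)⁻¹ := fun k => by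
    rw [← conj_pow, ← inv_pow, hx]
    congr 1
    rw [_root_.mul_inv_rev, ha', hb', mul_assoc, mul_assoc, hb, mul_one]
  have hxK : ∀ k : ℕ, x ^ k ∈ K := fun k => pow_mem (hx ▸ mul_mem haK hbK) k
  have hinv : ∀ k : ℕ, a * (x ^ k)⁻¹ = x ^ k * a := fun k => by
    rw [← hxa, ha', ← mul_assoc, ← mul_assoc, ha, one_mul]
  rcases Nat.even_or_odd (orderOf x) with ⟨m, hm⟩ | ⟨i, hi⟩
  · have hpos := orderOf_pos x
    have hj2 : x ^ m * x ^ m = 1 := by rw [← pow_add, ← hm, pow_orderOf_eq_one]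
    have hji : (x ^ m)⁻¹ = x ^ m := inv_eq_of_mul_eq_one_right hj2
    refine ⟨x ^ m, hxK m, hj2, pow_ne_one_of_lt_orderOf (by omega) (by omega), ?_, ?_, ?_⟩
    · have := hinv m; rw [hji] at this; exact this.symm
    · have h := hxb m
      rw [hji, mul_inv_eq_iff_eq_mul] at h
      exact h.symm
    rcases Nat.even_or_odd m with ⟨i, hi⟩ | ⟨i, hi⟩
    · refine ⟨x ^ i, hxK i, Or.inl ?_⟩
      rw [mul_assoc, hinv, ← mul_assoc, ← pow_add, ← hi]
    · refine ⟨x ^ i * a, mul_mem (hxK i) haK, Or.inr ?_⟩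
      rw [_root_.mul_inv_rev, ha', ← mul_assoc, mul_assoc (x ^ i) a b, ← hx, ← pow_succ, mul_assoc, hinv, ← mul_assoc,
        ← pow_add, show i + 1 + i = m by omega]
  · exfalso
    refine hconj (x ^ i) (hxK i) ?_
    rw [mul_assoc, hinv, ← mul_assoc, ← pow_add]
    have h1 : x ^ (i + i) * x = 1 := by rw [← pow_succ, show i + i + 1 = orderOf x by omega, pow_orderOf_eq_one]
    rw [eq_inv_of_mul_eq_one_left h1, hx, _root_.mul_inv_rev, ha', hb', mul_assoc, ha, mul_one]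

variable (S : Setup F₀ σ f K)

include S

theorem gl_ne_zero (g : GL ι F) {u : ι → F} (hu : u ≠ 0) : (g : Matrix ι ι F) *ᵥ u ≠ 0 :=
  fun e => hu (gl_mulVec_injective g (e.trans (Matrix.mulVec_zero _).symm))

/-- Under the orthogonality hypothesis one rational image forces proportionality. -/
theorem good_of_image (H : ∀ g ∈ K, ∀ u b : ι → F, u ≠ 0 → b ≠ 0 → Rat F₀ u → Rat F₀ b → f u u = 0 → f b b = 0 →
      f ((g : Matrix ι ι F) *ᵥ u) b = 0 → ¬ Bad σ F₀ ((g : Matrix ι ι F) *ᵥ u))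
    {g : GL ι F} (hg : g ∈ K) {u : ι → F} (hu0 : u ≠ 0) (hu : Rat F₀ u) (huu : f u u = 0)
    (hgood : ¬ Bad σ F₀ ((g : Matrix ι ι F) *ᵥ u)) : Good σ F₀ g := by
  obtain ⟨θ, hθ, hθσ⟩ := S.nt
  let Q : (ι → F) → (ι → F) → Prop := fun a b => ∀ k l,
    ((g : Matrix ι ι F) *ᵥ a) k * σ (((g : Matrix ι ι F) *ᵥ b) l) ∈ F₀
  have hstep : ∀ {a v : ι → F}, a ≠ 0 → Rat F₀ a → f a a = 0 → Q a a → v ≠ 0 → Rat F₀ v → f v v = 0 → f v a = 0 →
      Q v v := by
    intro a v ha0 ha haa hQ hv0 hv hvv hva k l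
    obtain ⟨k₀, hk₀⟩ : ∃ k, ((g : Matrix ι ι F) *ᵥ a) k ≠ 0 := by
      by_contra hcon
      push Not at hcon
      exact gl_ne_zero S g ha0 (funext hcon)
    obtain ⟨c, hc⟩ : ∃ c, c = σ (((g : Matrix ι ι F) *ᵥ a) k₀) := ⟨_, rfl⟩
    by_contra hbad
    refine H g hg v (c • ((g : Matrix ι ι F) *ᵥ a)) hv0 (smul_ne_zero ?_ (gl_ne_zero S g ha0)) hv (fun i => ?_) hvv ?_ ?_
      ⟨k, l, hbad⟩
    · rw [hc]; simpa using hk₀
    · rw [Pi.smul_apply, smul_eq_mul, hc, mul_comm]; exact hQ i k₀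
    · rw [(hs S).smul_left, (hs S).smul_right, S.iso g hg, haa, mul_zero, mul_zero]
    · rw [(hs S).smul_right, S.iso g hg, hva, mul_zero]
  have huQ : Q u u := fun k l => by
    by_contra hbad
    exact hgood ⟨k, l, hbad⟩
  have hself : ∀ {v : ι → F}, Rat F₀ v → f v v = 0 → Q v v := by
    intro v hv hvv
    by_cases hv0 : v = 0
    · intro k l; rw [hv0, Matrix.mulVec_zero, Pi.zero_apply, zero_mul]; exact zero_mem _
    obtain ⟨z, hz0, hz, hzz, hzo⟩ := exists_iso S (k := 2) (by have := S.big; omega) ![u, v]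
      (fun j => by fin_cases j <;> assumption)
    exact hstep hz0 hz hzz (hstep hu0 hu huu huQ hz0 hz hzz (hzo 0)) hv0 hv hvv (symm_zero S (hzo 1))
  have horth : ∀ {a b : ι → F}, Rat F₀ a → Rat F₀ b → f a a = 0 → f b b = 0 → f a b = 0 → Q a b := by
    intro a b ha hb haa hbb hab k l
    have hba := symm_zero S hab
    have h : ∀ t ∈ F₀, σ t * (((g : Matrix ι ι F) *ᵥ a) k * σ (((g : Matrix ι ι F) *ᵥ b) l)) +
        t * (((g : Matrix ι ι F) *ᵥ b) k * σ (((g : Matrix ι ι F) *ᵥ a) l)) ∈ F₀ := fun t ht => by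
      have h1 := hself (ha.add (hb.smul ht)) (by
        rw [(hs S).add_left, (hs S).add_right, (hs S).add_right, (hs S).smul_left, (hs S).smul_left, (hs S).smul_right,
          (hs S).smul_right, haa, hab, hba, hbb]
        ring) k l
      rw [Matrix.mulVec_add, Matrix.mulVec_smul] at h1
      simp only [Pi.add_apply, Pi.smul_apply, smul_eq_mul, map_add, map_mul] at h1
      have h2 := sub_mem (sub_mem h1 (hself ha haa k l))
        (mul_mem (mul_mem ht (S.stab t ht)) (hself hb hbb k l))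
      ring_nf at h2 ⊢
      exact h2
    have h1 := h 1 (one_mem _)
    rw [map_one, one_mul, one_mul] at h1
    have h3 := sub_mem (h θ hθ) (mul_mem hθ h1)
    have hne : σ θ - θ ≠ 0 := sub_ne_zero.mpr hθσ
    have h4 := mul_mem (inv_mem (sub_mem (S.stab θ hθ) hθ)) h3
    rwa [show ∀ X Y : F, σ θ * X + θ * Y - θ * (X + Y) = (σ θ - θ) * X from fun X Y => by ring,
      inv_mul_cancel_left₀ hne] at h4
  have hiso : ∀ {a b : ι → F}, Rat F₀ a → Rat F₀ b → f a a = 0 → f b b = 0 → Q a b := by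
    intro a b ha hb haa hbb k l
    obtain ⟨z, hz0, hz, hzz, hzo⟩ := exists_iso S (k := 2) (by have := S.big; omega) ![a, b]
      (fun j => by fin_cases j <;> assumption)
    obtain ⟨m, hm⟩ : ∃ m, ((g : Matrix ι ι F) *ᵥ z) m ≠ 0 := by
      by_contra hcon
      push Not at hcon
      exact gl_ne_zero S g hz0 (funext hcon)
    have h1 := mul_mem (mul_mem (horth ha hz haa hzz (symm_zero S (hzo 0)) k m) (horth hz hb hzz hbb (hzo 1) m l))
      (inv_mem (hself hz hzz m m))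
    have hm' : σ (((g : Matrix ι ι F) *ᵥ z) m) ≠ 0 := by simpa using hm
    rwa [show ∀ X Y : F, X * σ (((g : Matrix ι ι F) *ᵥ z) m) * (((g : Matrix ι ι F) *ᵥ z) m * Y) *
      (((g : Matrix ι ι F) *ᵥ z) m * σ (((g : Matrix ι ι F) *ᵥ z) m))⁻¹ = X * Y from fun X Y => by field_simp] at h1
  have hall : ∀ {a b : ι → F}, Rat F₀ a → Rat F₀ b → Q a b := by
    intro a b ha hb
    refine rat_induction S (P := fun a => Q a b) (fun e he hee => ?_) (fun x y _ _ hx hy k l => ?_) ha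
    · refine rat_induction S (P := fun b => Q e b) (fun e' he' he'' => hiso he he' hee he'') (fun x y _ _ hx hy k l => ?_) hb
      rw [Matrix.mulVec_add, Pi.add_apply, map_add, mul_add]
      exact add_mem (hx k l) (hy k l)
    · rw [Matrix.mulVec_add, Pi.add_apply, add_mul]
      exact add_mem (hx k l) (hy k l)
  intro k l k' l'
  have := hall (rat_single (F₀ := F₀) k') (rat_single (F₀ := F₀) l') k l
  rwa [Matrix.mulVec_single_one, Matrix.mulVec_single_one, Matrix.col_apply, Matrix.col_apply] at this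

/-- A proportional involution is rational. -/
theorem rat_of_good {j : GL ι F} (hj : j * j = 1) (hgood : Good σ F₀ j) : ∀ a b, (j : Matrix ι ι F) a b ∈ F₀ := by
  obtain ⟨i₀⟩ : Nonempty ι := Fintype.card_pos_iff.mp (by have := S.big; omega)
  obtain ⟨k, k', hk⟩ : ∃ k k', (j : Matrix ι ι F) k k' ≠ 0 := by
    by_contra hcon
    push Not at hcon
    have h := congrFun (congrFun (congrArg (fun g : GL ι F => (g : Matrix ι ι F)) hj) i₀) i₀
    simp [Matrix.mul_apply, hcon] at h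
  obtain ⟨c, hc⟩ : ∃ c, c = σ ((j : Matrix ι ι F) k k') := ⟨_, rfl⟩
  have hc0 : c ≠ 0 := by rw [hc]; simpa using hk
  have hent : ∀ a b, c * (j : Matrix ι ι F) a b ∈ F₀ := fun a b => by rw [hc, mul_comm]; exact hgood a k b k'
  have hcc : c * c ∈ F₀ := by
    have h := congrFun (congrFun (congrArg (fun g : GL ι F => (g : Matrix ι ι F)) hj) i₀) i₀
    simp only [Units.val_mul, Units.val_one, Matrix.mul_apply, Matrix.one_apply_eq] at h
    have e : c * c = ∑ t, c * (j : Matrix ι ι F) i₀ t * (c * (j : Matrix ι ι F) t i₀) := by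
      rw [← mul_one (c * c), ← h, Finset.mul_sum]
      exact Finset.sum_congr rfl fun t _ => by ring
    rw [e]
    exact sum_mem fun t _ => mul_mem (hent _ _) (hent _ _)
  have hcF := S.sq c hcc
  intro a b
  have := mul_mem (inv_mem hcF) (hent a b)
  rwa [inv_mul_cancel_left₀ hc0] at this

/-- A rational reflection product. -/
theorem exists_neg (h2 : (2 : F) ≠ 0) {d d' : ι → F} (hd : Rat F₀ d) (hd' : Rat F₀ d') (h : f d d' = 0)
    (hdd : f d d ≠ 0) (hdd' : f d' d' ≠ 0) :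
    ∃ g ∈ K, g * g = 1 ∧ (∀ i j, (g : Matrix ι ι F) i j ∈ F₀) ∧ ∀ x, (g : Matrix ι ι F) *ᵥ x =
      x + ((-2 / f d d * f x d) • d + (-2 / f d' d' * f x d') • d') := by
  have h' := symm_zero S h
  have hdet : ∀ {e : ι → F}, f e e ≠ 0 → (1 : F) + -2 / f e e * f e e = -1 := fun {e} he => by
    rw [div_mul_cancel₀ _ he]; ring
  obtain ⟨g₁, hd₁, ht₁⟩ := UMaxSL.exists_map S.hf d d (-2 / f d d) (by rw [hdet hdd]; simp)
  obtain ⟨g₂, hd₂, ht₂⟩ := UMaxSL.exists_map S.hf d' d' (-2 / f d' d') (by rw [hdet hdd']; simp)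
  have hx : ∀ x, ((g₁ * g₂ : GL ι F) : Matrix ι ι F) *ᵥ x =
      x + ((-2 / f d d * f x d) • d + (-2 / f d' d' * f x d') • d') := fun x => by
    rw [gl_mul_mulVec, ht₂, ht₁, (hs S).add_left, (hs S).smul_left, h']
    module
  have hi : ∀ {e : ι → F}, f e e ≠ 0 → -2 / f e e + σ (-2 / f e e) + -2 / f e e * σ (-2 / f e e) * f e e = 0 :=
    fun {e} he => by
      rw [map_div₀, ← S.hf.herm e e, map_neg, map_ofNat]
      field_simp
      ring
  have hmem : ∀ i j, ((g₁ * g₂ : GL ι F) : Matrix ι ι F) i j ∈ F₀ := fun i j => by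
    have h := congrFun (hx (Pi.single j 1)) i
    rw [Matrix.mulVec_single_one, Matrix.col_apply] at h
    rw [h]
    have h2m : (-2 : F) ∈ F₀ := neg_mem (by rw [show (2 : F) = 1 + 1 by norm_num]; exact add_mem (one_mem _) (one_mem _))
    exact add_mem (rat_single j i) (add_mem
      (mul_mem (mul_mem (div_mem h2m (S.rat _ _ hd hd)) (S.rat _ _ (rat_single j) hd)) (hd i))
      (mul_mem (mul_mem (div_mem h2m (S.rat _ _ hd' hd')) (S.rat _ _ (rat_single j) hd')) (hd' i)))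
  refine ⟨g₁ * g₂, S.base _ (fun u v => ?_) ?_ hmem, gl_ext_mulVec fun x => ?_, hmem, hx⟩
  · rw [gl_mul_mulVec, gl_mul_mulVec, UMaxSL.tv_isometry S.hf ht₁ (hi hdd), UMaxSL.tv_isometry S.hf ht₂ (hi hdd')]
  · rw [Units.val_mul, Matrix.det_mul, hd₁, hd₂, hdet hdd, hdet hdd']; norm_num
  · rw [gl_mul_mulVec, hx, hx, Units.val_one, Matrix.one_mulVec]
    simp only [(hs S).add_left, (hs S).smul_left, h, h']
    match_scalars <;> field_simp <;> ring

/-- An element fixing a line modulo nothing else is a reflection, hence of determinant `-1`. -/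
theorem det_reflection (h2 : (2 : F) ≠ 0) {j : GL ι F} (hj : j * j = 1) (hj1 : j ≠ 1) {r : ι → F}
    (h : ∀ x, ∃ k : F, (j : Matrix ι ι F) *ᵥ x - x = k • r) (hdet : (j : Matrix ι ι F).det = 1) : False := by
  have hr : r ≠ 0 := fun e => hj1 (gl_ext_mulVec fun x => by
    obtain ⟨k, hk⟩ := h x
    rw [e, smul_zero, sub_eq_zero] at hk
    rw [hk, Units.val_one, Matrix.one_mulVec])
  choose k hk using h
  obtain ⟨φ, hφ⟩ : ∃ φ : ι → F, φ = fun t => k (Pi.single t 1) := ⟨_, rfl⟩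
  have hM : (j : Matrix ι ι F) = 1 + Matrix.replicateCol Unit r * Matrix.replicateRow Unit φ := by
    refine Matrix.ext fun a t => ?_
    have h := congrFun (hk (Pi.single t 1)) a
    rw [Matrix.mulVec_single_one, Pi.sub_apply, Matrix.col_apply, sub_eq_iff_eq_add] at h
    rw [h, hφ]
    simp [Matrix.mul_apply, Matrix.replicateCol_apply, Matrix.replicateRow_apply, Matrix.one_apply, Pi.single_apply]
    ring
  have hjx : ∀ x, (j : Matrix ι ι F) *ᵥ x = x + (φ ⬝ᵥ x) • r := fun x => by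
    rw [hM, Matrix.add_mulVec, Matrix.one_mulVec, ← Matrix.mulVec_mulVec]
    congr 1
    funext i
    simp [Matrix.mulVec, dotProduct, Matrix.replicateCol_apply, Matrix.replicateRow_apply, Finset.sum_mul, mul_comm,
      mul_left_comm]
  obtain ⟨x₀, hx₀⟩ : ∃ x, φ ⬝ᵥ x ≠ 0 := by
    by_contra hcon
    push Not at hcon
    exact hj1 (gl_ext_mulVec fun x => by rw [hjx, hcon, zero_smul, add_zero, Units.val_one, Matrix.one_mulVec])
  have hjj := congrArg (fun g : GL ι F => (g : Matrix ι ι F) *ᵥ x₀) hj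
  simp only [gl_mul_mulVec, Units.val_one, Matrix.one_mulVec] at hjj
  rw [hjx, hjx x₀, dotProduct_add, dotProduct_smul, smul_eq_mul] at hjj
  have hjj' : ((φ ⬝ᵥ x₀) * (2 + φ ⬝ᵥ r)) • r = 0 := by
    rw [← sub_eq_zero] at hjj
    rw [← hjj]
    module
  have hφr : φ ⬝ᵥ r = -2 := by
    have := ((mul_eq_zero.mp ((smul_eq_zero.mp hjj').resolve_right hr)).resolve_left hx₀)
    linear_combination this
  have hd : (j : Matrix ι ι F).det = 1 + φ ⬝ᵥ r := by rw [hM, Matrix.det_one_add_replicateCol_mul_replicateRow]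
  rw [hdet, hφr] at hd
  exact h2 (by linear_combination hd)

/-- An irrational element of norm type between two centres gives an irrational transvection with rational centre:
the two transvection groups generate a two dimensional special linear group over a larger field. -/
theorem exists_irrational (h2 : (2 : F) ≠ 0) {g : GL ι F} (hg : g ∈ K) {b b₀ : ι → F} (hb : Rat F₀ b)
    (hbb : f b b = 0) (hb₀ : Rat F₀ b₀) (hb₀b₀ : f b₀ b₀ = 0)
    (hN : f ((g : Matrix ι ι F) *ᵥ b) b₀ * σ (f ((g : Matrix ι ι F) *ᵥ b) b₀) ∉ F₀) :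
    ∃ c, c ∉ F₀ ∧ c + σ c = 0 ∧ In K (tq f b₀ c) := by
  classical
  obtain ⟨θ₀, hθ₀, hθσ⟩ := S.nt
  obtain ⟨θ, hθdef⟩ : ∃ θ, θ = θ₀ - σ θ₀ := ⟨_, rfl⟩
  have hθ : θ ∈ F₀ := hθdef ▸ sub_mem hθ₀ (S.stab _ hθ₀)
  have hθ0 : θ ≠ 0 := fun e => hθσ (sub_eq_zero.mp (hθdef.symm.trans e)).symm
  have hσθ : θ + σ θ = 0 := by rw [hθdef, map_sub, S.hf.involutive]; ring
  obtain ⟨u, hu⟩ : ∃ u, u = (g : Matrix ι ι F) *ᵥ b := ⟨_, rfl⟩
  rw [← hu] at hN
  obtain ⟨X, hX⟩ : ∃ X, X = f u b₀ := ⟨_, rfl⟩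
  rw [← hX] at hN
  have hX0 : X ≠ 0 := fun e => hN (by rw [e, zero_mul]; exact zero_mem _)
  have hσX : σ X ≠ 0 := (map_ne_zero σ).mpr hX0
  have huu : f u u = 0 := by rw [hu, S.iso g hg, hbb]
  have hb₀u : f b₀ u = σ X := by rw [hX]; exact S.hf.herm b₀ u
  obtain ⟨v, hv⟩ : ∃ v, v = X⁻¹ • u := ⟨_, rfl⟩
  have huv : u = X • v := by rw [hv, smul_smul, mul_inv_cancel₀ hX0, one_smul]
  have hvb : f v b₀ = 1 := by rw [hv, (hs S).smul_left, ← hX, inv_mul_cancel₀ hX0]
  have hbv : f b₀ v = 1 := by rw [S.hf.herm, hvb, map_one]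
  have hvv : f v v = 0 := by rw [hv, (hs S).smul_left, (hs S).smul_right, huu, mul_zero, mul_zero]
  obtain ⟨N, hNdef⟩ : ∃ N, N = X * σ X := ⟨_, rfl⟩
  rw [← hNdef] at hN
  have hN0 : N ≠ 0 := hNdef ▸ mul_ne_zero hX0 hσX
  obtain ⟨lam, hlam⟩ : ∃ lam, lam = θ * N := ⟨_, rfl⟩
  have hlam0 : lam ≠ 0 := hlam ▸ mul_ne_zero hθ0 hN0
  obtain ⟨e₂, he₂⟩ : ∃ e₂, e₂ = lam • v := ⟨_, rfl⟩
  obtain ⟨α, hα⟩ : ∃ α, α = θ * lam := ⟨_, rfl⟩
  have hαF : α ∉ F₀ := fun h => hN (by
    have := mul_mem (inv_mem (mul_mem hθ hθ)) h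
    rwa [hα, hlam, ← mul_assoc θ θ N, inv_mul_cancel_left₀ (mul_ne_zero hθ0 hθ0)] at this)
  have hα0 : α ≠ 0 := fun e => hαF (e ▸ zero_mem _)
  let L : Subfield F := Subfield.closure {α}
  have hαL : α ∈ L := Subfield.subset_closure rfl
  haveI : Fintype L := Fintype.ofFinite L
  let G : Subgroup (Matrix.SpecialLinearGroup (Fin 2) L) :=
    { carrier := {A | ∃ h ∈ K,
        (h : Matrix ι ι F) *ᵥ b₀ = ((A.1 0 0 : L) : F) • b₀ + ((A.1 1 0 : L) : F) • e₂ ∧
        (h : Matrix ι ι F) *ᵥ e₂ = ((A.1 0 1 : L) : F) • b₀ + ((A.1 1 1 : L) : F) • e₂ ∧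
        ∀ x, f x b₀ = 0 → f x v = 0 → (h : Matrix ι ι F) *ᵥ x = x}
      one_mem' := ⟨1, one_mem _, by simp, by simp, fun x _ _ => by simp⟩
      mul_mem' := by
        rintro A B ⟨h, hh, h1, h3, h4⟩ ⟨k, hk, k1, k3, k4⟩
        refine ⟨h * k, mul_mem hh hk, ?_, ?_, fun x hx hx' => by rw [gl_mul_mulVec, k4 x hx hx', h4 x hx hx']⟩
        · rw [gl_mul_mulVec, k1, Matrix.mulVec_add, Matrix.mulVec_smul, Matrix.mulVec_smul, h1, h3]
          simp only [Matrix.SpecialLinearGroup.coe_mul, Matrix.mul_apply, Fin.sum_univ_two, Subfield.coe_add,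
            Subfield.coe_mul]
          module
        · rw [gl_mul_mulVec, k3, Matrix.mulVec_add, Matrix.mulVec_smul, Matrix.mulVec_smul, h1, h3]
          simp only [Matrix.SpecialLinearGroup.coe_mul, Matrix.mul_apply, Fin.sum_univ_two, Subfield.coe_add,
            Subfield.coe_mul]
          module
      inv_mem' := by
        rintro A ⟨h, hh, h1, h3, h4⟩
        have hd : ((A.1 0 0 : L) : F) * ((A.1 1 1 : L) : F) - ((A.1 0 1 : L) : F) * ((A.1 1 0 : L) : F) = 1 := by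
          have hA := A.2
          rw [Matrix.det_fin_two] at hA
          exact_mod_cast hA
        have hi : (A⁻¹).1 = A.1.adjugate := Matrix.SpecialLinearGroup.coe_inv A
        refine ⟨h⁻¹, inv_mem hh, gl_mulVec_injective h ?_, gl_mulVec_injective h ?_,
          fun x hx hx' => gl_mulVec_injective h ?_⟩
        · simp only []
          rw [gl_mulVec_inv_cancel, hi, Matrix.adjugate_fin_two, Matrix.mulVec_add, Matrix.mulVec_smul,
            Matrix.mulVec_smul, h1, h3]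
          simp only [Matrix.of_apply, Matrix.cons_val', Matrix.cons_val_zero, Matrix.cons_val_one,
            Matrix.cons_val_fin_one, NegMemClass.coe_neg]
          match_scalars <;> first | ring1 | linear_combination hd | linear_combination -hd
        · simp only []
          rw [gl_mulVec_inv_cancel, hi, Matrix.adjugate_fin_two, Matrix.mulVec_add, Matrix.mulVec_smul,
            Matrix.mulVec_smul, h1, h3]
          simp only [Matrix.of_apply, Matrix.cons_val', Matrix.cons_val_zero, Matrix.cons_val_one,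
            Matrix.cons_val_fin_one, NegMemClass.coe_neg]
          match_scalars <;> first | ring1 | linear_combination hd | linear_combination -hd
        · simp only []
          rw [gl_mulVec_inv_cancel, h4 x hx hx'] }
  obtain ⟨t₀, ht₀, ht₀x⟩ := exists_rat_tq S hb₀ hb₀b₀ hθ hσθ
  obtain ⟨t₁, ht₁, ht₁x⟩ := (exists_rat_tq S hb hbb hθ hσθ).conj_tq S hg
  simp only [tq, ← hu] at ht₀x ht₁x
  have hgens : ∀ A : Matrix.SpecialLinearGroup (Fin 2) L, ((A : Matrix (Fin 2) (Fin 2) L) = !![1, 0; 1, 1] ∨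
      (A : Matrix (Fin 2) (Fin 2) L) = !![1, ⟨α, hαL⟩; 0, 1]) → A ∈ G := by
    rintro A (hA | hA)
    · refine ⟨t₁, ht₁, ?_, ?_, fun x _ hx' => ?_⟩
      · rw [ht₁x, hb₀u, hA]
        simp [huv, he₂, hlam, hNdef, smul_smul, mul_comm, mul_left_comm]
      · rw [ht₁x, hA, he₂, huv, (hs S).smul_left, (hs S).smul_right, hvv]
        simp
      · rw [ht₁x, huv, (hs S).smul_right, hx']
        simp
    · refine ⟨t₀, ht₀, ?_, ?_, fun x hx _ => ?_⟩
      · rw [ht₀x, hb₀b₀, hA]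
        simp
      · rw [ht₀x, hA, he₂, (hs S).smul_left, hvb]
        simp [hα, add_comm]
      · rw [ht₀x, hx]
        simp
  have hgen : Subfield.closure ({(⟨α, hαL⟩ : L)} : Set L) = ⊤ := by
    refine eq_top_iff.mpr fun x _ => ?_
    have hle : L ≤ (Subfield.closure ({(⟨α, hαL⟩ : L)} : Set L)).map L.subtype :=
      Subfield.closure_le.mpr fun y hy => ⟨⟨α, hαL⟩, Subfield.subset_closure rfl, (Set.mem_singleton_iff.mp hy).symm⟩
    obtain ⟨y, hy, hyx⟩ := hle x.2
    rwa [show y = x from Subtype.ext hyx] at hy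
  have h2L : (2 : L) ≠ 0 := fun e => h2 ((map_ofNat L.subtype 2).symm.trans ((congrArg L.subtype e).trans (map_zero _)))
  rcases Cfsg.Agent.S0801.result h2L (⟨α, hαL⟩ : L) (fun e => hα0 (congrArg Subtype.val e)) hgen with
    ⟨htop, -⟩ | ⟨-, hsq, -⟩
  swap
  · refine absurd (S.sq α ?_) hαF
    have h := congrArg Subtype.val hsq
    simp only [SubmonoidClass.coe_pow, NegMemClass.coe_neg, OneMemClass.coe_one] at h
    rw [← pow_two, h]
    exact neg_mem (one_mem _)
  obtain ⟨A, hA⟩ : ∃ A : Matrix.SpecialLinearGroup (Fin 2) L,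
      (A : Matrix (Fin 2) (Fin 2) L) = !![1, ⟨α, hαL⟩ * ⟨α, hαL⟩; 0, 1] :=
    ⟨⟨_, by rw [Matrix.det_fin_two_of]; ring⟩, rfl⟩
  obtain ⟨h, hh, h1, h3, h4⟩ : A ∈ G :=
    ((Subgroup.closure_le G).mpr fun B hB => hgens B hB) (htop ▸ Subgroup.mem_top A)
  have hh' : In K (tq f b₀ (α * α / lam)) := by
    refine ⟨h, hh, fun x => ?_⟩
    obtain ⟨r, hr⟩ : ∃ r, r = x - f x b₀ • v - f x v • b₀ := ⟨_, rfl⟩
    have hr1 : f r b₀ = 0 := by
      rw [hr, f_sub_left S, f_sub_left S, (hs S).smul_left, (hs S).smul_left, hvb, hb₀b₀]; ring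
    have hr2 : f r v = 0 := by
      rw [hr, f_sub_left S, f_sub_left S, (hs S).smul_left, (hs S).smul_left, hvv, hbv]; ring
    have hb₀' : (h : Matrix ι ι F) *ᵥ b₀ = b₀ := by rw [h1, hA]; simp
    have hv' : (h : Matrix ι ι F) *ᵥ v = v + (α * α / lam) • b₀ := by
      have hv2 : v = lam⁻¹ • e₂ := by rw [he₂, smul_smul, inv_mul_cancel₀ hlam0, one_smul]
      conv_lhs => rw [hv2, Matrix.mulVec_smul, h3, hA]
      rw [hv2]
      simp [smul_add, smul_smul, div_eq_mul_inv, mul_comm, add_comm]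
    have hrx : x = f x b₀ • v + f x v • b₀ + r := by rw [hr]; abel
    conv_lhs => rw [hrx, Matrix.mulVec_add, Matrix.mulVec_add, Matrix.mulVec_smul, Matrix.mulVec_smul, hv', hb₀',
      h4 r hr1 hr2]
    rw [tq, hr]
    module
  refine ⟨α * α / lam, fun h => hN ?_, skew_of_In S (fun e => ?_) hb₀b₀ hh', hh'⟩
  · have := mul_mem (inv_mem (mul_mem (mul_mem hθ hθ) hθ)) h
    rwa [hα, show θ * lam * (θ * lam) / lam = θ * θ * θ * N by rw [hlam]; field_simp,
      inv_mul_cancel_left₀ (mul_ne_zero (mul_ne_zero hθ0 hθ0) hθ0)] at this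
  · rw [e, f_zero_right S] at hX
    exact hX0 hX

/-- Odd characteristic. -/
theorem contra_odd (h2 : (2 : F) ≠ 0) (H : ∀ g ∈ K, ∀ u b : ι → F, u ≠ 0 → b ≠ 0 → Rat F₀ u → Rat F₀ b → f u u = 0 →
      f b b = 0 → f ((g : Matrix ι ι F) *ᵥ u) b = 0 → ¬ Bad σ F₀ ((g : Matrix ι ι F) *ᵥ u))
    {g : GL ι F} (hg : g ∈ K) : Good σ F₀ g := by
  classical
  obtain ⟨θ₀, hθ₀, hθσ⟩ := S.nt
  obtain ⟨b, hb0, hb, hbb, -⟩ := exists_iso S (k := 0) (by have := S.big; omega) Fin.elim0 fun j => j.elim0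
  refine good_of_image S H hg hb0 hb hbb ?_
  obtain ⟨w, hw⟩ : ∃ w, w = (g : Matrix ι ι F) *ᵥ b := ⟨_, rfl⟩
  rw [← hw]
  by_cases hex : ∃ a, a ≠ 0 ∧ Rat F₀ a ∧ f a a = 0 ∧ f w a = 0
  · obtain ⟨a, ha0, ha, haa, hwa⟩ := hex
    exact hw ▸ H g hg b a hb0 ha0 hb ha hbb haa (hw ▸ hwa)
  push Not at hex
  -- all norms are rational
  have hnorm : ∀ {a : ι → F}, Rat F₀ a → f a a = 0 → f w a * σ (f w a) ∈ F₀ := by
    intro a ha haa
    by_contra hN
    have ha0 : a ≠ 0 := fun e => hN (by rw [e, f_zero_right S, zero_mul]; exact zero_mem _)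
    obtain ⟨c, hc, hcσ, t, htK, htx⟩ := exists_irrational S h2 hg hb hbb ha haa (hw ▸ hN)
    obtain ⟨u, hu, huu, -, -, hau, hua⟩ := exists_partner S Rat.zero Rat.zero ha
      (fun k l e => ha0 (by simpa using e.symm)) haa (f_zero_right S a) (f_zero_right S a)
    obtain ⟨z, hz0, hz, hzz, hzo⟩ := exists_iso S (k := 2) (by have := S.big; omega) ![a, u]
      (fun j => by fin_cases j <;> assumption)
    have hza : f z a = 0 := hzo 0
    have hzu : f z u = 0 := hzo 1
    have hu0 : u ≠ 0 := fun e => one_ne_zero (hau.symm.trans (e ▸ f_zero_right S a))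
    have htu : (t : Matrix ι ι F) *ᵥ u = u + c • a := by rw [htx, tq, hua, mul_one]
    refine H t htK u z hu0 hz0 hu hz huu hzz (by
      rw [htu, (hs S).add_left, (hs S).smul_left, symm_zero S hzu, symm_zero S hza, mul_zero, add_zero]) ?_
    rw [htu]
    by_contra hgood
    refine hc ?_
    -- pair the image with the two rational vectors
    have key : ∀ p q : ι → F, Rat F₀ p → Rat F₀ q → f (u + c • a) p * σ (f (u + c • a) q) ∈ F₀ := by
      intro p q hp hq
      rw [pi_eq_sum_univ' (u + c • a), f_sum_left S, f_sum_left S, map_sum, Finset.sum_mul_sum]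
      refine sum_mem fun i _ => sum_mem fun j _ => ?_
      rw [(hs S).smul_left, (hs S).smul_left, map_mul, mul_mul_mul_comm]
      refine mul_mem (by_contra fun h => hgood ⟨i, j, h⟩) (mul_mem (S.rat _ _ (rat_single i) hp) ?_)
      exact S.stab _ (S.rat _ _ (rat_single j) hq)
    have h1 := key u a hu ha
    simp only [(hs S).add_left, (hs S).smul_left, huu, hau, hua, haa, mul_one, mul_zero, zero_add, add_zero,
      map_one] at h1
    exact h1
  -- polarisation
  have horth : ∀ {p q : ι → F}, Rat F₀ p → Rat F₀ q → f p p = 0 → f q q = 0 → f p q = 0 →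
      f w p * σ (f w q) ∈ F₀ := by
    intro p q hp hq hpp hqq hpq
    have h : ∀ t ∈ F₀, t * (σ (f w q) * f w p) + σ t * (f w q * σ (f w p)) ∈ F₀ := fun t ht => by
      have h1 := hnorm (hp.add (hq.smul ht)) (by
        rw [(hs S).add_left, (hs S).add_right, (hs S).add_right, (hs S).smul_left, (hs S).smul_left, (hs S).smul_right,
          (hs S).smul_right, hpp, hpq, symm_zero S hpq, hqq]
        ring)
      rw [(hs S).add_right, (hs S).smul_right, map_add, map_mul, S.hf.involutive] at h1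
      have h3 := sub_mem (sub_mem h1 (hnorm hp hpp)) (mul_mem (mul_mem ht (S.stab t ht)) (hnorm hq hqq))
      ring_nf at h3 ⊢
      exact h3
    have h1 := h 1 (one_mem _)
    rw [map_one, one_mul, one_mul] at h1
    have h3 := sub_mem (h θ₀ hθ₀) (mul_mem (S.stab θ₀ hθ₀) h1)
    have hne : θ₀ - σ θ₀ ≠ 0 := sub_ne_zero.mpr (Ne.symm hθσ)
    have h4 := mul_mem (inv_mem (sub_mem hθ₀ (S.stab θ₀ hθ₀))) h3
    rw [show ∀ A B : F, θ₀ * A + σ θ₀ * B - σ θ₀ * (A + B) = (θ₀ - σ θ₀) * A from fun A B => by ring,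
      inv_mul_cancel_left₀ hne, mul_comm] at h4
    exact h4
  have hiso : ∀ {p q : ι → F}, Rat F₀ p → Rat F₀ q → f p p = 0 → f q q = 0 → f w p * σ (f w q) ∈ F₀ := by
    intro p q hp hq hpp hqq
    obtain ⟨z, hz0, hz, hzz, hzo⟩ := exists_iso S (k := 2) (by have := S.big; omega) ![p, q]
      (fun j => by fin_cases j <;> assumption)
    have hz1 : f w z ≠ 0 := hex z hz0 hz hzz
    have hz2 : σ (f w z) ≠ 0 := (map_ne_zero σ).mpr hz1
    have h1 := mul_mem (mul_mem (horth hp hz hpp hzz (symm_zero S (hzo 0))) (horth hz hq hzz hqq (hzo 1)))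
      (inv_mem (hnorm hz hzz))
    rwa [show f w p * σ (f w z) * (f w z * σ (f w q)) * (f w z * σ (f w z))⁻¹ = f w p * σ (f w q) by
      field_simp] at h1
  have hall : ∀ {p q : ι → F}, Rat F₀ p → Rat F₀ q → f w p * σ (f w q) ∈ F₀ := by
    intro p q hp hq
    refine rat_induction S (P := fun p => f w p * σ (f w q) ∈ F₀) (fun e he hee => ?_)
      (fun x y _ _ hx hy => by rw [(hs S).add_right, add_mul]; exact add_mem hx hy) hp
    exact rat_induction S (P := fun q => f w e * σ (f w q) ∈ F₀) (fun e' he' he'e' => hiso he he' hee he'e')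
      (fun x y _ _ hx hy => by rw [(hs S).add_right, map_add, mul_add]; exact add_mem hx hy) hq
  obtain ⟨z, hz0, hz, hzz, -⟩ := exists_iso S (k := 0) (by have := S.big; omega) Fin.elim0 fun j => j.elim0
  obtain ⟨c, hc⟩ : ∃ c, c = σ (f w z) := ⟨_, rfl⟩
  have hc0 : c ≠ 0 := hc ▸ (map_ne_zero σ).mpr (hex z hz0 hz hzz)
  have hrat : Rat F₀ (c • w) := rat_of_pair S fun x hx => by
    have h1 := S.stab _ (hall hx hz)
    rw [map_mul, ← S.hf.herm, ← hc] at h1
    rw [(hs S).smul_right, mul_comm]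
    rwa [hc, S.hf.involutive] at h1 ⊢
  rintro ⟨k, l, hkl⟩
  refine hkl ?_
  have h1 := mul_mem (mul_mem (hrat k) (S.stab _ (hrat l))) (inv_mem (show σ c * c ∈ F₀ by rw [hc, S.hf.involutive]; exact hall hz hz))
  simp only [Pi.smul_apply, smul_eq_mul, map_mul] at h1
  have hσc : σ c ≠ 0 := (map_ne_zero σ).mpr hc0
  rwa [show c * w k * (σ c * σ (w l)) * (σ c * c)⁻¹ = w k * σ (w l) by field_simp] at h1

/-- Characteristic two. -/
theorem contra_two (h2 : (2 : F) = 0) (H : ∀ g ∈ K, ∀ u b : ι → F, u ≠ 0 → b ≠ 0 → Rat F₀ u → Rat F₀ b → f u u = 0 →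
      f b b = 0 → f ((g : Matrix ι ι F) *ᵥ u) b = 0 → ¬ Bad σ F₀ ((g : Matrix ι ι F) *ᵥ u))
    {g : GL ι F} (hg : g ∈ K) : Good σ F₀ g := by
  classical
  by_contra hgn
  obtain ⟨θ, hθ, hθσ⟩ := S.nt
  obtain ⟨c, hc⟩ : ∃ c : F, c = 1 := ⟨_, rfl⟩
  have hcc : c + σ c = 0 := by rw [hc, map_one]; linear_combination h2
  have hcF : c ∈ F₀ := hc ▸ one_mem _
  obtain ⟨b, hb0, hb, hbb, -⟩ := exists_iso S (k := 0) (by have := S.big; omega) Fin.elim0 fun j => j.elim0
  obtain ⟨p, hp, hpp, -, -, hbp, hpb⟩ := exists_partner S Rat.zero Rat.zero hb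
    (fun k l e => hb0 (by simpa using e.symm)) hbb (f_zero_right S b) (f_zero_right S b)
  obtain ⟨b', hb'0, hb', hb'b', hb'o⟩ := exists_iso S (k := 2) (by have := S.big; omega) ![b, p]
    (fun j => by fin_cases j <;> assumption)
  have hb'b : f b' b = 0 := hb'o 0
  have hb'p : f b' p = 0 := hb'o 1
  have hbb' := symm_zero S hb'b
  obtain ⟨p', hp', -, hp'b, -, -, hp'b'⟩ := exists_partner S hb hb hb'
    (fun k l e => by
      have := congrArg (fun w => f w p) e
      simp only [(hs S).add_left, (hs S).smul_left, hbp, hb'p, mul_one] at this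
      rw [← add_smul, this, zero_smul] at e
      exact hb'0 e.symm) hb'b' hb'b hb'b
  obtain ⟨a, haK, hax⟩ := exists_plane S hb hb' hbb hb'b' hbb' hcF (zero_mem _) hcF hcc hcc
  have hax' : ∀ x, (a : Matrix ι ι F) *ᵥ x = x + (f x b • b + f x b' • b') := fun x => by
    rw [hax, pl, hc]
    simp
  obtain ⟨t, htK, htx⟩ := exists_rat_tq S hb hbb hcF hcc
  have htx' : ∀ x, (t : Matrix ι ι F) *ᵥ x = x + f x b • b := fun x => by rw [htx, tq, hc, one_mul]
  have haa : a * a = 1 := gl_ext_mulVec fun x => by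
    rw [gl_mul_mulVec, hax', hax', Units.val_one, Matrix.one_mulVec]
    simp only [(hs S).add_left, (hs S).smul_left, hbb, hb'b', hbb', hb'b]
    match_scalars <;> simp [← two_mul, h2]
  have htt : t * t = 1 := gl_ext_mulVec fun x => by
    rw [gl_mul_mulVec, htx', htx', Units.val_one, Matrix.one_mulVec]
    simp only [(hs S).add_left, (hs S).smul_left, hbb]
    match_scalars <;> simp [← two_mul, h2]
  obtain ⟨j, hjK, hjj, hj1, hja, hjs, -⟩ := exists_commuting haK (mul_mem (mul_mem hg htK) (inv_mem hg)) haa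
    (show g * t * g⁻¹ * (g * t * g⁻¹) = 1 by
      rw [show g * t * g⁻¹ * (g * t * g⁻¹) = g * (t * t) * g⁻¹ by group, htt]; group)
    (fun y _ e => by
      obtain ⟨z, hz⟩ : ∃ z, z = g⁻¹ * y := ⟨_, rfl⟩
      have e' : a = z⁻¹ * t * z := by
        rw [hz, show (g⁻¹ * y)⁻¹ * t * (g⁻¹ * y) = y⁻¹ * (g * t * g⁻¹) * y by group, ← e]; group
      have himg : ∀ x, f x b • b + f x b' • b' = f ((z : Matrix ι ι F) *ᵥ x) b • (((z⁻¹ : GL ι F) : Matrix ι ι F) *ᵥ b) :=
        fun x => by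
          have h := hax' x
          rw [e', gl_mul_mulVec, gl_mul_mulVec, htx', Matrix.mulVec_add, gl_inv_mulVec_cancel, Matrix.mulVec_smul] at h
          exact (add_left_cancel h).symm
      have h1 := himg p
      have h2' := himg p'
      rw [hpb, symm_zero S hb'p, one_smul, zero_smul, add_zero] at h1
      rw [hp'b, hp'b', one_smul, zero_smul, zero_add] at h2'
      obtain ⟨α, hα⟩ : ∃ α, α = f ((z : Matrix ι ι F) *ᵥ p) b := ⟨_, rfl⟩
      rw [← hα] at h1
      have hα0 : α ≠ 0 := fun h0 => hb0 (by rw [h1, h0, zero_smul])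
      obtain ⟨β, hβ⟩ : ∃ β, β = f ((z : Matrix ι ι F) *ᵥ p') b := ⟨_, rfl⟩
      rw [← hβ] at h2'
      have e2 : b' = (β / α) • b := by rw [h1, smul_smul, div_mul_cancel₀ _ hα0, ← h2']
      have := congrArg (fun w => f w p) e2
      simp only [(hs S).smul_left, hbp, hb'p, mul_one] at this
      exact hb'0 (by rw [e2, ← this, zero_smul]))
  have hgood : Good σ F₀ j := good_of_image S H hjK hb0 hb hbb (H j hjK b b hb0 hb0 hb hb hbb hbb (by
    have h1 : (a : Matrix ι ι F) *ᵥ p = p + b := by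
      rw [hax', hpb, symm_zero S hb'p, one_smul, zero_smul, add_zero]
    have h := congrArg (fun k : GL ι F => (k : Matrix ι ι F) *ᵥ p) hja
    simp only [gl_mul_mulVec, h1, Matrix.mulVec_add] at h
    rw [hax', add_right_inj] at h
    rw [h]
    simp [(hs S).add_left, (hs S).smul_left, hbb, hb'b]))
  have hjr := rat_of_good S hjj hgood
  have hj'j : g⁻¹ * j * g * (g⁻¹ * j * g) = 1 := by
    rw [show g⁻¹ * j * g * (g⁻¹ * j * g) = g⁻¹ * (j * j) * g by group, hjj]; group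
  have hj'K : g⁻¹ * j * g ∈ K := mul_mem (mul_mem (inv_mem hg) hjK) hg
  have hgood' : Good σ F₀ (g⁻¹ * j * g) := good_of_image S H hj'K hb0 hb hbb
    (H _ hj'K b b hb0 hb0 hb hb hbb hbb (by
      have hc' : g⁻¹ * j * g * t = t * (g⁻¹ * j * g) := by
        calc g⁻¹ * j * g * t = g⁻¹ * (j * (g * t * g⁻¹)) * g := by group
          _ = g⁻¹ * (g * t * g⁻¹ * j) * g := by rw [hjs]
          _ = _ := by group
      have h1 : (t : Matrix ι ι F) *ᵥ p = p + b := by rw [htx', hpb, one_smul]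
      have h := congrArg (fun k : GL ι F => (k : Matrix ι ι F) *ᵥ p) hc'
      rw [gl_mul_mulVec (g⁻¹ * j * g) t, gl_mul_mulVec t, h1, Matrix.mulVec_add, htx', add_right_inj] at h
      rw [h, (hs S).smul_left, hbb, mul_zero]))
  have hj'r := rat_of_good S hj'j hgood'
  have hne : ∀ k : GL ι F, k ≠ 1 → ∃ i, (k : Matrix ι ι F) *ᵥ Pi.single i 1 - Pi.single i 1 ≠ 0 := fun k hk => by
    by_contra hcon
    push Not at hcon
    refine hk (Units.ext (Matrix.ext_of_mulVec_single fun i => ?_))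
    rw [Units.val_one, Matrix.one_mulVec]
    exact sub_eq_zero.mp (hcon i)
  obtain ⟨i, hi⟩ := hne j hj1
  obtain ⟨i', hi'⟩ := hne (g⁻¹ * j * g) (fun e => hj1 (by
    rw [show j = g * (g⁻¹ * j * g) * g⁻¹ by group, e]; group))
  have hjiso : ∀ (k : GL ι F), k ∈ K → k * k = 1 → ∀ x y,
      f ((k : Matrix ι ι F) *ᵥ x - x) ((k : Matrix ι ι F) *ᵥ y - y) = 0 := fun k hk hkk x y => by
    rw [f_sub_left S, f_sub_right S, f_sub_right S, S.iso k hk]
    have : f x ((k : Matrix ι ι F) *ᵥ y) = f ((k : Matrix ι ι F) *ᵥ x) y := by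
      rw [← S.iso k hk x, ← gl_mul_mulVec, hkk, Units.val_one, Matrix.one_mulVec]
    rw [this]
    linear_combination (f x y - f ((k : Matrix ι ι F) *ᵥ x) y) * h2
  refine hgn (good_of_image S H hg hi' ((rat_mulVec hj'r (rat_single i')).sub (rat_single i'))
    (hjiso _ hj'K hj'j _ _) (H g hg _ _ hi' hi ((rat_mulVec hj'r (rat_single i')).sub (rat_single i'))
      ((rat_mulVec hjr (rat_single i)).sub (rat_single i)) (hjiso _ hj'K hj'j _ _) (hjiso _ hjK hjj _ _) ?_))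
  rw [Matrix.mulVec_sub, gl_mul_mulVec, gl_mul_mulVec, gl_mulVec_inv_cancel]
  exact hjiso j hjK hjj _ _

/-- An irrational transvection orthogonal to a rational isotropic vector. -/
theorem exists_caseA {g : GL ι F} (hg : g ∈ K) (hgn : ¬ Good σ F₀ g) :
    ∃ k ∈ K, ∃ u b : ι → F, u ≠ 0 ∧ b ≠ 0 ∧ Rat F₀ u ∧ Rat F₀ b ∧ f u u = 0 ∧ f b b = 0 ∧
      f ((k : Matrix ι ι F) *ᵥ u) b = 0 ∧ Bad σ F₀ ((k : Matrix ι ι F) *ᵥ u) := by
  by_contra hcon
  push Not at hcon
  have H : ∀ g ∈ K, ∀ u b : ι → F, u ≠ 0 → b ≠ 0 → Rat F₀ u → Rat F₀ b → f u u = 0 → f b b = 0 →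
      f ((g : Matrix ι ι F) *ᵥ u) b = 0 → ¬ Bad σ F₀ ((g : Matrix ι ι F) *ᵥ u) :=
    fun g hg u b h1 h2 h3 h4 h5 h6 h7 => hcon g hg u b h1 h2 h3 h4 h5 h6 h7
  by_cases h2 : (2 : F) = 0
  · exact hgn (contra_two S h2 H hg)
  · exact hgn (contra_odd S h2 H hg)

end Cfsg.Agent.Classical.USub
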