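/-
Rational involutions with small commutator space, and the propagation from them.
-/
import Cfsg.Agent.Lib.Classical.OSubAllGood
import Cfsg.Agent.Lib.Classical.OrthOmegaTwo
import Cfsg.Agent.Lib.Classical.OrthIndex
import Cfsg.Agent.Lib.Classical.USubCaseA

set_option autoImplicit false
set_option linter.unusedSectionVars false
set_option linter.style.haveILetI false

namespace Cfsg.Agent.Classical.OSubAll

open Matrix Module QuadraticMap OCount ORefl OOmega Cfsg.Geo
open Cfsg.Agent.Classical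
open Cfsg.Agent.Small.QuadBasis (q_add q_smul p_smul_left p_smul_right p_self)

variable {ι : Type} [Fintype ι] [DecidableEq ι] {F : Type*} [Field F] [Fintype F] {F₀ : Subfield F} [Fintype F₀]
  {Q : QuadraticForm F (ι → F)} {T : (ι → F₀) → ι → F} {Q₀ : QuadraticForm F₀ (ι → F₀)} {K : Subgroup (GL ι F)}

/-- The polar form. -/
local notation "⟪" x ", " y "⟫" => QuadraticMap.polar Q x y

/-- The rational polar form. -/
local notation "⟪" x ", " y "⟫₀" => QuadraticMap.polar Q₀ x y

/-- The image of the element minus one. -/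
def moved (g : GL ι F) : Submodule F (ι → F) := LinearMap.range (Matrix.toLin' ((g : Matrix ι ι F) - 1))

omit [Fintype F] [Fintype F₀] in
theorem mem_moved {g : GL ι F} {v : ι → F} : v ∈ moved g ↔ ∃ y, (g : Matrix ι ι F) *ᵥ y - y = v := by
  simp [moved, LinearMap.mem_range, Matrix.toLin'_apply, Matrix.sub_mulVec]

omit [Fintype F] [Fintype F₀] in
theorem sub_mem_moved (g : GL ι F) (y : ι → F) : (g : Matrix ι ι F) *ᵥ y - y ∈ moved g := mem_moved.mpr ⟨y, rfl⟩

omit [Fintype F] [Fintype F₀] in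
theorem moved_conj (g h : GL ι F) : moved (g * h * g⁻¹) = (moved h).map (Matrix.toLin' (g : Matrix ι ι F)) := by
  ext v
  rw [Submodule.mem_map]
  constructor
  · intro hv
    obtain ⟨y, rfl⟩ := mem_moved.mp hv
    refine ⟨_, sub_mem_moved h (((g⁻¹ : GL ι F) : Matrix ι ι F) *ᵥ y), ?_⟩
    rw [Matrix.toLin'_apply, Matrix.mulVec_sub, gl_mulVec_inv_cancel, gl_mul_mulVec, gl_mul_mulVec]
  · rintro ⟨u, hu, rfl⟩
    obtain ⟨y, rfl⟩ := mem_moved.mp hu
    refine mem_moved.mpr ⟨(g : Matrix ι ι F) *ᵥ y, ?_⟩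
    rw [Matrix.toLin'_apply, Matrix.mulVec_sub, gl_mul_mulVec, gl_mul_mulVec, gl_inv_mulVec_cancel]

omit [Fintype F] [Fintype F₀] in
theorem finrank_moved_conj (g h : GL ι F) : finrank F (moved (g * h * g⁻¹)) = finrank F (moved h) := by
  rw [moved_conj]
  exact ((Submodule.equivMapOfInjective _ (fun p q e => gl_mulVec_injective g (by
    rwa [Matrix.toLin'_apply, Matrix.toLin'_apply] at e)) _).finrank_eq).symm

omit [Fintype F] [Fintype F₀] in
theorem finrank_moved_mul (g h : GL ι F) :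
    finrank F (moved (g * h)) ≤ finrank F (moved g) + finrank F (moved h) := by
  refine (Submodule.finrank_mono ?_).trans (Submodule.finrank_add_le_finrank_add_finrank _ _)
  intro v hv
  obtain ⟨y, rfl⟩ := mem_moved.mp hv
  rw [gl_mul_mulVec, ← sub_add_sub_cancel _ ((h : Matrix ι ι F) *ᵥ y) y]
  exact Submodule.add_mem_sup (sub_mem_moved g _) (sub_mem_moved h _)

omit [Fintype F] [Fintype F₀] in
theorem moved_commute {g h : GL ι F} (e : g * h = h * g) {v : ι → F} (hv : v ∈ moved h) :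
    (g : Matrix ι ι F) *ᵥ v ∈ moved h := by
  obtain ⟨y, rfl⟩ := mem_moved.mp hv
  refine mem_moved.mpr ⟨(g : Matrix ι ι F) *ᵥ y, ?_⟩
  rw [Matrix.mulVec_sub, ← gl_mul_mulVec, ← e, gl_mul_mulVec]

omit [Fintype F] [Fintype F₀] in
theorem moved_eq_bot {g : GL ι F} (h : moved g = ⊥) : g = 1 := by
  refine gl_ext_mulVec fun y => ?_
  have h1 := sub_mem_moved g y
  rw [h, Submodule.mem_bot, sub_eq_zero] at h1
  rw [h1, Units.val_one, Matrix.one_mulVec]

/-- A rational vector with which propagation works. -/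
def Pointed (Q₀ : QuadraticForm F₀ (ι → F₀)) (x : ι → F₀) : Prop :=
  x ≠ 0 ∧ (Q₀ x = 0 ∨ (2 : F) ≠ 0 ∧ Q₀ x ≠ 0)

variable (S : Setup Q T Q₀ K)

include S

theorem moved_rational {j : GL ι F} (hrat : ∀ x, ∃ w, (j : Matrix ι ι F) *ᵥ T x = T w) :
    ∃ A : Submodule F₀ (ι → F₀), moved j = Tsp T A := by
  refine ⟨Submodule.span F₀ {v | ∃ x, (j : Matrix ι ι F) *ᵥ T x - T x = T v}, le_antisymm ?_ ?_⟩
  · intro v hv
    obtain ⟨y, rfl⟩ := mem_moved.mp hv
    obtain ⟨μ, rfl⟩ := S.T_span y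
    rw [Matrix.mulVec_sum, ← Finset.sum_sub_distrib]
    refine Submodule.sum_mem _ fun i _ => ?_
    rw [Matrix.mulVec_smul, ← smul_sub]
    refine Submodule.smul_mem _ _ ?_
    obtain ⟨w, hw⟩ := hrat (Pi.single i 1)
    have e : (j : Matrix ι ι F) *ᵥ T (Pi.single i 1) - T (Pi.single i 1) = T (w - Pi.single i 1) := by
      rw [hw, T_sub S]
    rw [e]
    exact mem_Tsp S (Submodule.subset_span ⟨_, e⟩)
  · rw [Tsp, Submodule.span_le]
    rintro _ ⟨v, hv, rfl⟩
    rw [SetLike.mem_coe] at hv ⊢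
    induction hv using Submodule.span_induction with
    | mem v hv => obtain ⟨x, hx⟩ := hv; rw [← hx]; exact sub_mem_moved j _
    | zero => rw [T_zero S]; exact Submodule.zero_mem _
    | add p q _ _ hp hq => rw [S.T_add]; exact Submodule.add_mem _ hp hq
    | smul c p _ hp => rw [S.T_smul]; exact Submodule.smul_mem _ _ hp

theorem moved_eigen {j : GL ι F} (hj2 : j * j = 1) {v : ι → F} (hv : v ∈ moved j) :
    (j : Matrix ι ι F) *ᵥ v = -v := by
  obtain ⟨y, rfl⟩ := mem_moved.mp hv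
  rw [Matrix.mulVec_sub, ← gl_mul_mulVec, hj2, Units.val_one, Matrix.one_mulVec, neg_sub]

/-- The commutator space of a rational involution is non-degenerate in odd characteristic. -/
theorem moved_nondeg (h2 : (2 : F) ≠ 0) {j : GL ι F} (hjK : j ∈ K) (hj2 : j * j = 1)
    {A : Submodule F₀ (ι → F₀)} (hA : moved j = Tsp T A) : A ⊓ perp Q₀ A = ⊥ := by
  rw [eq_bot_iff]
  rintro v ⟨hvA, hvp⟩
  refine (Submodule.mem_bot F₀).mpr (S.pnd₀ v fun x => Subtype.ext ?_)
  have h1 : ⟪(j : Matrix ι ι F) *ᵥ T x - T x, T v⟫ = 0 := Tsp_perp S (hA ▸ sub_mem_moved j _) hvp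
  have h3 := iso_polar S hjK (T x) ((j : Matrix ι ι F) *ᵥ T v)
  rw [← gl_mul_mulVec, hj2, Units.val_one, Matrix.one_mulVec, moved_eigen S hj2 (v := T v) (hA ▸ mem_Tsp S (show v ∈ A from hvA)),
    polar_neg_right] at h3
  rw [polar_sub_left, h3, sub_eq_zero, neg_eq_iff_add_eq_zero, ← two_mul, mul_eq_zero] at h1
  rw [← T_polar S, polar_comm, h1.resolve_left h2]
  rfl

/-- An element of the derived group moves more than one non-singular point, characteristic two. -/
theorem not_reflection (h2 : (2 : F) = 0) {j : GL ι F} (hj : j ∈ omegaGL ⇑Q) (hj1 : j ≠ 1) {u : ι → F}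
    (hu : Q u ≠ 0) (hle : moved j ≤ Submodule.span F {u}) : False := by
  haveI : CharP F 2 := CharTwo.of_one_ne_zero_of_two_eq_zero one_ne_zero h2
  have hu0 : u ≠ 0 := fun h => hu (by rw [h, QuadraticMap.map_zero])
  have hiso : ∀ x, Q ((j : Matrix ι ι F) *ᵥ x) = Q x := fun x => ONotMax.omega_isometry hj x
  obtain ⟨d, -, hd⟩ := exists_sep S.pnd (A := (⊥ : Submodule F (ι → F))) (a := u) (by rw [Submodule.mem_bot]; exact hu0)
  obtain ⟨φ, hφ⟩ : ∃ φ : (ι → F) →ₗ[F] F, φ = (Q.polarBilin d).comp (Matrix.toLin' ((j : Matrix ι ι F) - 1)) :=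
    ⟨_, rfl⟩
  have hjy : ∀ y, (j : Matrix ι ι F) *ᵥ y = y + φ y • u := fun y => by
    obtain ⟨c, hc⟩ := Submodule.mem_span_singleton.mp (hle (sub_mem_moved j y))
    have : φ y = c := by
      rw [hφ, LinearMap.comp_apply, Matrix.toLin'_apply, Matrix.sub_mulVec, Matrix.one_mulVec, ← hc]
      change ⟪d, c • u⟫ = c
      rw [p_smul_right, hd, mul_one]
    rw [this, hc, add_sub_cancel]
  obtain ⟨ψ, hψ⟩ : ∃ ψ : (ι → F) →ₗ[F] F, ψ = (Q u)⁻¹ • Q.polarBilin u := ⟨_, rfl⟩
  have hψy : ∀ y, ψ y = (Q u)⁻¹ * ⟪u, y⟫ := fun y => by rw [hψ]; rfl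
  have hor : ∀ y, φ y = 0 ∨ φ y = ψ y := fun y => by
    by_cases h0 : φ y = 0
    · exact Or.inl h0
    right
    have h := hiso y
    rw [hjy, q_add, q_smul, p_smul_right, polar_comm Q y u] at h
    have h' : φ y * (φ y * Q u + ⟪u, y⟫) = 0 := by linear_combination h
    rw [mul_eq_zero, or_iff_right h0] at h'
    rw [hψy, eq_inv_mul_iff_mul_eq₀ hu]
    linear_combination h' - ⟪u, y⟫ * h2
  have hall : ∀ y, φ y = ψ y := by
    intro y
    by_contra hy
    have hy0 : φ y = 0 := (hor y).resolve_right hy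
    obtain ⟨z, hz⟩ : ∃ z, φ z ≠ 0 := by
      by_contra hcon
      push Not at hcon
      exact hj1 (gl_ext_mulVec fun x => by rw [hjy, hcon, zero_smul, add_zero, Units.val_one, Matrix.one_mulVec])
    have hzψ : φ z = ψ z := (hor z).resolve_left hz
    rcases hor (y + z) with h | h
    · rw [map_add, hy0, zero_add] at h
      exact hz h
    · rw [map_add, map_add, hy0, zero_add, hzψ, right_eq_add] at h
      exact hy (by rw [hy0, h])
  rw [omegaGL, OOmega.omega_eq_map] at hj
  obtain ⟨-, ⟨y, hy, rfl⟩, hyj⟩ := hj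
  change (toMat Q y).1 = j at hyj
  have e : y = OOmega.rf Q u := Subtype.ext (LinearEquiv.ext fun x => by
    rw [← toMat_apply y x, hyj, hjy, hall, hψy]
    change _ = ORefl.refl Q u x
    rw [ORefl.refl_apply]
    linear_combination (norm := module) ((Q u)⁻¹ * ⟪u, x⟫) • (congrArg (· • u) h2))
  obtain ⟨D, hD⟩ := OOmega.exists_dickson (Q := Q) S.pnd
  have := Abelianization.commutator_subset_ker D hy
  rw [e, MonoidHom.mem_ker, hD u hu, ← ofAdd_zero] at this
  exact one_ne_zero (Multiplicative.ofAdd.injective this)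

/-- The data of a rational involution with a small commutator space. -/
theorem invol_data (h14 : 14 ≤ Fintype.card ι) {j : GL ι F} (hjK : j ∈ K) (hjΩ : j ∈ omegaGL ⇑Q) (hj2 : j * j = 1) (hj1 : j ≠ 1)
    (hrat : ∀ x, ∃ w, (j : Matrix ι ι F) *ᵥ T x = T w) (h6 : finrank F (moved j) ≤ 6)
    (h4 : (2 : F) = 0 → finrank F (moved j) ≤ 4) :
    ∃ (A : Submodule F₀ (ι → F₀)) (x : ι → F₀), moved j = Tsp T A ∧ Room Q₀ A ∧ x ∈ A ∧ Pointed (F := F) Q₀ x := by
  obtain ⟨A, hA⟩ := moved_rational S hrat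
  have hd : finrank F₀ A = finrank F (moved j) := by rw [hA, finrank_Tsp S]
  have hn : 14 ≤ finrank F₀ (ι → F₀) := by rw [Module.finrank_pi]; exact h14
  have hA0 : A ≠ ⊥ := fun e => hj1 (moved_eq_bot (by
    refine Submodule.finrank_eq_zero.mp ?_
    rw [← hd, e, finrank_bot]))
  obtain ⟨x, hx, hx0⟩ := Submodule.exists_mem_ne_zero_of_ne_bot hA0
  by_cases h2 : (2 : F) = 0
  · refine ⟨A, ?_⟩
    have hroom : Room Q₀ A := room_of_small hn (by have := h4 h2; omega)
    by_cases hxQ : Q₀ x = 0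
    · exact ⟨x, hA, hroom, hx, hx0, Or.inl hxQ⟩
    obtain ⟨y, hy, hyx⟩ : ∃ y ∈ A, y ∉ Submodule.span F₀ {x} := SetLike.not_le_iff_exists.mp fun hle => by
      refine not_reflection S h2 hjΩ hj1 (u := T x) (by rw [S.hT]; exact fun e => hxQ (Subtype.ext e)) ?_
      rw [hA, Tsp, Submodule.span_le]
      rintro _ ⟨v, hv, rfl⟩
      obtain ⟨c, rfl⟩ := Submodule.mem_span_singleton.mp (hle hv)
      rw [SetLike.mem_coe, S.T_smul]
      exact Submodule.smul_mem _ _ (Submodule.mem_span_singleton_self _)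
    have h20 : (2 : F₀) = 0 := Subtype.ext h2
    have hxy : ⟪y, x⟫₀ = 0 := by
      refine Subtype.ext ?_
      rw [← T_polar S]
      obtain ⟨p, hp⟩ := mem_moved.mp (hA ▸ mem_Tsp S hy : T y ∈ moved j)
      obtain ⟨q, hq⟩ := mem_moved.mp (hA ▸ mem_Tsp S hx : T x ∈ moved j)
      rw [← hp, ← hq, polar_sub_left, polar_sub_right, polar_sub_right, iso_polar S hjK]
      have h3 := iso_polar S hjK p ((j : Matrix ι ι F) *ᵥ q)
      rw [← gl_mul_mulVec, hj2, Units.val_one, Matrix.one_mulVec] at h3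
      rw [h3, ZeroMemClass.coe_zero]
      linear_combination (⟪p, q⟫ - ⟪p, (j : Matrix ι ι F) *ᵥ q⟫) * h2
    obtain ⟨c, hc⟩ := Cfsg.Agent.Small.QuadBasis.exists_sq h20 (Q₀ y / Q₀ x)
    refine ⟨y + c • x, hA, hroom, A.add_mem hy (A.smul_mem _ hx), fun e => hyx ?_, Or.inl ?_⟩
    · rw [eq_neg_of_add_eq_zero_left e]
      exact neg_mem (Submodule.smul_mem _ _ (Submodule.mem_span_singleton_self x))
    · rw [q_add, q_smul, p_smul_right, hxy, hc, div_mul_cancel₀ _ hxQ]
      linear_combination (Q₀ y) * h20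
  · refine ⟨A, x, hA, ?_, hx, hx0, ?_⟩
    · rw [Room, moved_nondeg S h2 hjK hj2 hA, finrank_bot]
      omega
    · by_cases hxQ : Q₀ x = 0
      · exact Or.inl hxQ
      · exact Or.inr ⟨h2, hxQ⟩

/-- Propagation from a pointed vector. -/
theorem good_of_pointed (h14 : 14 ≤ Fintype.card ι) (hI : ¬ Irr Q T Q₀ K) {A : Submodule F₀ (ι → F₀)} (hA : Room Q₀ A) {g : GL ι F} (hg : g ∈ K)
    {x : ι → F₀} (hx : Pointed (F := F) Q₀ x) (hgx : (g : Matrix ι ι F) *ᵥ T x ∈ Tsp T A) : Good T g := by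
  obtain ⟨hx0, hx' | ⟨h2, hx'⟩⟩ := hx
  · exact good_of_point S hI h14 hA hg hx' hx0 hgx
  · exact good_of_vector S hI h14 h2 hA hg hx' hgx

/-- A proportional involution with a small commutator space is rational. -/
theorem rat_of_good' (h8 : 8 ≤ Fintype.card ι) {j : GL ι F} (hjK : j ∈ K) (hj2 : j * j = 1)
    (hd : 2 * finrank F (moved j) + 1 ≤ Fintype.card ι) (hg : Good T j) :
    ∀ x, ∃ w, (j : Matrix ι ι F) *ᵥ T x = T w := by
  obtain ⟨μ, hμ, hw⟩ := hg
  choose w hw using hw
  suffices hμ₀ : μ ∈ F₀ from fun x => ⟨(⟨μ, hμ₀⟩ : F₀) • w x, by rw [hw, S.T_smul]⟩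
  have hn : finrank F₀ (ι → F₀) = Fintype.card ι := Module.finrank_pi F₀
  obtain ⟨z, hz, hz0⟩ : ∃ z, Q₀ z = 0 ∧ z ≠ 0 := by
    obtain ⟨z, hz, -, hzt⟩ := exists_sing_list S.pnd₀ ![(0 : ι → F₀)] ![(0 : ι → F₀)] (by omega)
    exact ⟨z, hz, fun e => hzt (by rw [e]; exact zero_mem _)⟩
  have hμμ : μ * μ ∈ F₀ := by
    obtain ⟨d, -, hd⟩ := exists_sep S.pnd₀ (A := (⊥ : Submodule F₀ (ι → F₀))) (a := z)
      (by rw [Submodule.mem_bot]; exact hz0)
    have h := iso_polar S hjK (T d) (T z)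
    rw [hw, hw, p_smul_left, p_smul_right, ← mul_assoc, T_polar S, T_polar S, hd, Subfield.coe_one] at h
    rw [eq_inv_of_mul_eq_one_left h]
    exact inv_mem (Subtype.coe_prop _)
  obtain ⟨d, hd'⟩ : ∃ d : F₀, (d : F) = μ * μ := ⟨⟨_, hμμ⟩, rfl⟩
  by_cases h2 : (2 : F) = 0
  · obtain ⟨r, hr⟩ := Cfsg.Agent.Small.QuadBasis.exists_sq (F := F₀) (Subtype.ext h2) d
    have e : ((r : F) - μ) * ((r : F) - μ) = 0 := by
      have hr' : (r : F) * r = μ * μ := by rw [← hd', ← hr]; rfl
      linear_combination hr' + (μ * μ - (r : F) * μ) * h2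
    rw [← sub_eq_zero.mp (mul_self_eq_zero.mp e)]
    exact r.2
  by_contra hbad
  have hTinj : ∀ {a b}, T a = T b → a = b := fun {a b} e =>
    sub_eq_zero.mp (T_injective S (by rw [T_sub S, e, sub_self]))
  have hww : ∀ x, T x = T (d • w (w x)) := fun x => by
    rw [S.T_smul, hd', mul_smul, ← hw, ← Matrix.mulVec_smul, ← hw, ← gl_mul_mulVec, hj2, Units.val_one,
      Matrix.one_mulVec]
  have wlin : ∀ (c : F₀) x y, w (c • x + y) = c • w x + w y := fun c x y => hTinj (by
    have h := hw (c • x + y)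
    rw [S.T_add, S.T_smul, Matrix.mulVec_add, Matrix.mulVec_smul, hw, hw] at h
    refine smul_right_injective (ι → F) hμ ?_
    change μ • _ = μ • _
    rw [← h, S.T_add, S.T_smul]
    module)
  let W : (ι → F₀) →ₗ[F₀] (ι → F₀) :=
    { toFun := w
      map_add' := fun x y => by have := wlin 1 x y; rwa [one_smul, one_smul] at this
      map_smul' := fun c x => by
        have h0 : w 0 = 0 := by
          have := wlin 1 0 0
          rwa [one_smul, one_smul, add_zero, left_eq_add] at this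
        have := wlin c x 0
        rwa [add_zero, h0, add_zero] at this }
  have hnot : ∀ c : F₀, d * c * c ≠ 1 := fun c hc => by
    have hc' : μ * μ * c * c = 1 := by rw [← hd']; exact_mod_cast congrArg Subtype.val hc
    have : (μ * c - 1) * (μ * c + 1) = 0 := by linear_combination hc'
    rcases mul_eq_zero.mp this with e | e
    · exact hbad (by rw [eq_inv_of_mul_eq_one_left (sub_eq_zero.mp e)]; exact inv_mem c.2)
    · have e' : μ * -(c : F) = 1 := by linear_combination -e
      exact hbad (by rw [eq_inv_of_mul_eq_one_left e']; exact inv_mem (neg_mem c.2))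
  have key : ∀ k ≤ finrank F (moved j) + 1, ∃ x : Fin k → ι → F₀, LinearIndependent F₀ (Sum.elim x (fun i => W (x i))) := by
    intro k
    induction k with
    | zero => exact fun _ => ⟨![], linearIndependent_empty_type⟩
    | succ k ih =>
      intro hk
      obtain ⟨x, hx⟩ := ih (by omega)
      obtain ⟨U, hU⟩ : ∃ U, U = Submodule.span F₀ (Set.range (Sum.elim x (fun i => W (x i)))) := ⟨_, rfl⟩
      obtain ⟨y, -, hy⟩ : ∃ y ∈ (⊤ : Submodule F₀ (ι → F₀)), y ∉ U := SetLike.not_le_iff_exists.mp fun hle => by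
        have h1 := Submodule.finrank_mono hle
        rw [hU, finrank_span_eq_card hx, finrank_top, Fintype.card_sum, Fintype.card_fin] at h1
        omega
      have hWU : ∀ v ∈ U, W v ∈ U := by
        intro v hv
        have hle : U.map W ≤ U := by
          rw [hU, Submodule.map_span, Submodule.span_le]
          rintro _ ⟨_, ⟨i | i, rfl⟩, rfl⟩
          · exact Submodule.subset_span ⟨Sum.inr i, rfl⟩
          · have e : x i = d • W (W (x i)) := hTinj (hww (x i))
            have hd0 : d ≠ 0 := fun e0 => mul_ne_zero hμ hμ (by rw [← hd', e0]; rfl)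
            simp only [SetLike.mem_coe, Sum.elim_inr]
            rw [show W (W (x i)) = d⁻¹ • x i by
              nth_rewrite 2 [e]; rw [smul_smul, inv_mul_cancel₀ hd0, one_smul]]
            exact Submodule.smul_mem _ _ (Submodule.subset_span ⟨Sum.inl i, rfl⟩)
        exact hle (Submodule.mem_map_of_mem hv)
      have hWy : ∀ c : F₀, W y - c • y ∉ U := fun c hm => by
        have h1 := U.smul_mem d (U.add_mem (hWU _ hm) (U.smul_mem c hm))
        rw [map_sub, _root_.map_smul] at h1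
        have h2' : (1 - d * c * c) • y ∈ U := by
          convert h1 using 1
          have e : y = d • W (W y) := hTinj (hww y)
          rw [sub_smul, one_smul]
          nth_rewrite 1 [e]
          module
        refine hy ?_
        have h0 : (1 - d * c * c : F₀) ≠ 0 := sub_ne_zero.mpr (Ne.symm (hnot c))
        have := U.smul_mem (1 - d * c * c)⁻¹ h2'
        rwa [smul_smul, inv_mul_cancel₀ h0, one_smul] at this
      refine ⟨Fin.cons y x, ?_⟩
      rw [Fintype.linearIndependent_iff] at hx ⊢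
      intro c hc
      rw [Fintype.sum_sum_type, Fin.sum_univ_succ, Fin.sum_univ_succ] at hc
      simp only [Sum.elim_inl, Sum.elim_inr, Fin.cons_zero, Fin.cons_succ] at hc
      have hrest : ∀ a b : Fin k → F₀, ∑ i, a i • x i + ∑ i, b i • W (x i) ∈ U := fun a b => by
        rw [hU]
        exact Submodule.add_mem _
          (Submodule.sum_mem _ fun i _ => Submodule.smul_mem _ _ (Submodule.subset_span ⟨Sum.inl i, rfl⟩))
          (Submodule.sum_mem _ fun i _ => Submodule.smul_mem _ _ (Submodule.subset_span ⟨Sum.inr i, rfl⟩))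
      have hm : c (Sum.inl 0) • y + c (Sum.inr 0) • W y ∈ U := by
        have := U.neg_mem (hrest (fun i => c (Sum.inl i.succ)) (fun i => c (Sum.inr i.succ)))
        convert this using 1
        linear_combination (norm := module) hc
      have hb : c (Sum.inr 0) = 0 := by
        by_contra hb
        refine hWy (-(c (Sum.inr 0))⁻¹ * c (Sum.inl 0)) ?_
        have := U.smul_mem (c (Sum.inr 0))⁻¹ hm
        rw [smul_add, smul_smul, smul_smul, inv_mul_cancel₀ hb, one_smul] at this
        convert this using 1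
        module
      have ha : c (Sum.inl 0) = 0 := by
        by_contra ha
        rw [hb, zero_smul, add_zero] at hm
        have := U.smul_mem (c (Sum.inl 0))⁻¹ hm
        rw [smul_smul, inv_mul_cancel₀ ha, one_smul] at this
        exact hy this
      have h0 := hx (Sum.elim (fun i => c (Sum.inl i.succ)) (fun i => c (Sum.inr i.succ))) (by
        rw [Fintype.sum_sum_type]
        simp only [Sum.elim_inl, Sum.elim_inr]
        rw [ha, hb] at hc
        linear_combination (norm := module) hc)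
      rintro (i | i)
      · induction i using Fin.cases with
        | zero => exact ha
        | succ i => exact h0 (Sum.inl i)
      · induction i using Fin.cases with
        | zero => exact hb
        | succ i => exact h0 (Sum.inr i)
  obtain ⟨x, hx⟩ := key _ le_rfl
  have hli : LinearIndependent F fun i => (j : Matrix ι ι F) *ᵥ T (x i) - T (x i) := by
    have h := Fintype.linearIndependent_iff.mp (linIndep_T S hx)
    rw [Fintype.linearIndependent_iff]
    intro c hc i
    have := h (Sum.elim (fun i => -c i) (fun i => c i * μ)) (by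
      rw [Fintype.sum_sum_type, ← hc, ← Finset.sum_add_distrib]
      refine Finset.sum_congr rfl fun i _ => ?_
      simp only [Sum.elim_inl, Sum.elim_inr, hw]
      change _ + _ • T (w (x i)) = _
      module) (Sum.inl i)
    simpa using this
  have h7 := Submodule.finrank_mono (show Submodule.span F (Set.range fun i => (j : Matrix ι ι F) *ᵥ T (x i) - T (x i))
      ≤ moved j from Submodule.span_le.mpr (by rintro _ ⟨i, rfl⟩; exact sub_mem_moved j _))
  rw [finrank_span_eq_card hli, Fintype.card_fin] at h7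
  omega

/-- A proportional involution with a small commutator space is rational. -/
theorem rat_of_good (h14 : 14 ≤ Fintype.card ι) {j : GL ι F} (hjK : j ∈ K) (hj2 : j * j = 1) (hd : finrank F (moved j) ≤ 6) (hg : Good T j) :
    ∀ x, ∃ w, (j : Matrix ι ι F) *ᵥ T x = T w :=
  rat_of_good' S (by omega) hjK hj2 (by omega) hg

/-- Everything is proportional to rational. -/
theorem all_good (h14 : 14 ≤ Fintype.card ι) (hI : ¬ Irr Q T Q₀ K) (hKΩ : K ≤ omegaGL ⇑Q) {a a' : GL ι F} (haK : a ∈ K) (ha'K : a' ∈ K)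
    (ha2 : a * a = 1) (ha'2 : a' * a' = 1) (ha1 : a ≠ 1) (ha'1 : a' ≠ 1)
    (har : ∀ x, ∃ w, (a : Matrix ι ι F) *ᵥ T x = T w) (ha'r : ∀ x, ∃ w, (a' : Matrix ι ι F) *ᵥ T x = T w)
    (had : finrank F (moved a) ≤ 2) (ha'd : finrank F (moved a') ≤ 4) (ha'd2 : (2 : F) = 0 → finrank F (moved a') ≤ 2)
    (hnc : ∀ y ∈ K, y * a * y⁻¹ ≠ a') {g : GL ι F} (hg : g ∈ K) : Good T g := by
  obtain ⟨b, hb⟩ : ∃ b, b = g * a' * g⁻¹ := ⟨_, rfl⟩
  have hbK : b ∈ K := hb ▸ mul_mem (mul_mem hg ha'K) (inv_mem hg)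
  have hb2 : b * b = 1 := by
    rw [hb, show g * a' * g⁻¹ * (g * a' * g⁻¹) = g * (a' * a') * g⁻¹ by group, ha'2]; group
  have hb1 : b ≠ 1 := fun e => ha'1 (by
    rw [show a' = g⁻¹ * (g * a' * g⁻¹) * g by group, ← hb, e]; group)
  obtain ⟨j, hjK, hj2, hj1, hja, hjb, y, hyK, hy⟩ := USub.exists_commuting haK hbK ha2 hb2 (fun y hy e =>
    hnc (g⁻¹ * y) (mul_mem (inv_mem hg) hy) (by
      rw [show g⁻¹ * y * a * (g⁻¹ * y)⁻¹ = g⁻¹ * (y * a * y⁻¹) * g by group, e, hb]; group))
  have hja' : finrank F (moved (j * a)) ≤ 4 ∧ ((2 : F) = 0 → finrank F (moved (j * a)) ≤ 2) := by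
    rcases hy with e | e
    · rw [← e, finrank_moved_conj]; exact ⟨by omega, fun _ => had⟩
    · rw [← e, finrank_moved_conj, hb, finrank_moved_conj]; exact ⟨ha'd, ha'd2⟩
  have hjd : finrank F (moved j) ≤ finrank F (moved (j * a)) + finrank F (moved a) := by
    have h := finrank_moved_mul (j * a) a
    rwa [mul_assoc, ha2, mul_one] at h
  have hj6 : finrank F (moved j) ≤ 6 := by omega
  obtain ⟨Aa, xa, hAa, hAaR, hxa, hxaP⟩ := invol_data S h14 haK (hKΩ haK) ha2 ha1 har (by omega) (fun _ => by omega)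
  have hjg : Good T j := good_of_pointed S h14 hI hAaR hjK hxaP (hAa ▸ moved_commute hja (hAa ▸ mem_Tsp S hxa))
  obtain ⟨Aj, xj, hAj, hAjR, hxj, hxjP⟩ := invol_data S h14 hjK (hKΩ hjK) hj2 hj1 (rat_of_good S h14 hjK hj2 hj6 hjg) hj6
    (fun h2 => by have := hja'.2 h2; omega)
  have hbg : Good T b := good_of_pointed S h14 hI hAjR hbK hxjP (hAj ▸ moved_commute hjb.symm (hAj ▸ mem_Tsp S hxj))
  have hbd : finrank F (moved b) = finrank F (moved a') := by rw [hb, finrank_moved_conj]
  obtain ⟨Ab, xb, hAb, hAbR, hxb, hxbP⟩ := invol_data S h14 hbK (hKΩ hbK) hb2 hb1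
    (rat_of_good S h14 hbK hb2 (by omega) hbg) (by omega) (fun h2 => by have := ha'd2 h2; omega)
  obtain ⟨A', x', hA', -, hx', hx'P⟩ := invol_data S h14 ha'K (hKΩ ha'K) ha'2 ha'1 ha'r (by omega)
    (fun h2 => by have := ha'd2 h2; omega)
  refine good_of_pointed S h14 hI hAbR hg hx'P ?_
  rw [← hAb, hb, moved_conj, Submodule.mem_map]
  exact ⟨T x', hA' ▸ mem_Tsp S hx', Matrix.toLin'_apply _ _⟩

end Cfsg.Agent.Classical.OSubAll
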