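/-
The subfield subgroups are maximal in the orthogonal groups, every characteristic.
-/
import Cfsg.Agent.Lib.Classical.OSubAllInvol
import Cfsg.Agent.Lib.Classical.OrthEvenBase
import Cfsg.Agent.Lib.Classical.FormPower

set_option autoImplicit false
set_option linter.unusedSectionVars false
set_option linter.style.haveILetI false

namespace Cfsg.Agent.Classical.OSubAll

open Matrix Module QuadraticMap OCount ORefl OOmega Cfsg.Geo
open Cfsg.Agent.Classical
open Cfsg.Agent.Small.QuadBasis (q_add q_smul p_smul_left p_smul_right p_self)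

variable {ι : Type} [Fintype ι] [DecidableEq ι] {F : Type*} [Field F] [Fintype F] {F₀ : Subfield F} [Fintype F₀]
  {Q : QuadraticForm F (ι → F)} {T : (ι → F₀) → ι → F} {Q₀ : QuadraticForm F₀ (ι → F₀)} {K : Subgroup (GL ι F)}

omit [Fintype F₀] in
/-- The derived group is generated by the root elements. -/
theorem root_eq (hQ : PND Q) (hn : 5 ≤ Fintype.card ι) : commutator ↥(Iso Q) = rootGroup Q := by
  obtain ⟨e, f, W, -, he, hf, hef, hW, hd, ho⟩ := OEven.exists_pair_comp hQ (by omega)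
  obtain ⟨u, hu, hu0, hQu⟩ := Cfsg.Agent.Small.QuadBasis.exists_singular Q (W := W) (by omega)
  obtain ⟨z, hz, hQz, huz, -⟩ := Cfsg.Agent.Small.QuadBasis.exists_pair Q hW hu hu0 hQu
  exact commutator_eq_root_of_pair hQ (Or.inr (by rw [Module.finrank_pi]; omega)) (p := (e, f)) ⟨he, hf, hef⟩
    ⟨(⟨u, mem_comp.mpr (ho u hu)⟩, ⟨z, mem_comp.mpr (ho z hz)⟩), hQu, hQz, huz⟩

local notation "⟪" x ", " y "⟫₀" => QuadraticMap.polar Q₀ x y

variable (S : Setup Q T Q₀ K)

include S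

/-- A rational vector of value one orthogonal to a few. -/
theorem exists_unit {k : ℕ} (s : Fin k → ι → F₀) (hk : 2 * k + 3 ≤ Fintype.card ι) :
    ∃ d, Q₀ d = 1 ∧ ∀ i, QuadraticMap.polar Q₀ d (s i) = 0 := by
  have hn : finrank F₀ (ι → F₀) = Fintype.card ι := Module.finrank_pi F₀
  obtain ⟨z, hz, hzs, hzt⟩ := exists_sing_list S.pnd₀ s s (by omega)
  obtain ⟨w, hwp, hw, hzw⟩ := exists_partner (A := Submodule.span F₀ (Set.range s)) S.pnd₀ hz
    (perp_span (by rintro b ⟨i, rfl⟩; exact hzs i)) hzt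
  refine ⟨z + w, by rw [q_add, hz, hw, hzw]; ring, fun i => ?_⟩
  rw [polar_add_left, hzs, mem_perp.mp hwp _ (Submodule.subset_span ⟨i, rfl⟩), add_zero]

omit S in
/-- The form of the product of two orthogonal reflections of value one. -/
theorem refl_two {p q : ι → F} (hp : Q p = 1) (hq : Q q = 1) (hpq : QuadraticMap.polar Q p q = 0) (x : ι → F) :
    ORefl.refl Q p (ORefl.refl Q q x) = x - QuadraticMap.polar Q p x • p - QuadraticMap.polar Q q x • q := by
  rw [ORefl.refl_apply, ORefl.refl_apply, hp, hq, inv_one, one_mul, one_mul, polar_sub_right, p_smul_right, hpq]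
  module

/-- The two rational involutions, odd characteristic. -/
theorem exists_invols_odd (h14 : 14 ≤ Fintype.card ι) (h2 : (2 : F) ≠ 0)
    (hin : ∀ g : GL ι F, g ∈ omegaGL ⇑Q → (∀ x, ∃ w, (g : Matrix ι ι F) *ᵥ T x = T w) → g ∈ K) :
    ∃ a a' : GL ι F, a ∈ K ∧ a' ∈ K ∧ a * a = 1 ∧ a' * a' = 1 ∧ a ≠ 1 ∧ a' ≠ 1 ∧
      (∀ x, ∃ w, (a : Matrix ι ι F) *ᵥ T x = T w) ∧ (∀ x, ∃ w, (a' : Matrix ι ι F) *ᵥ T x = T w) ∧
      finrank F (moved a) ≤ 2 ∧ finrank F (moved a') ≤ 4 ∧ ((2 : F) = 0 → finrank F (moved a') ≤ 2) ∧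
      ∀ y ∈ K, y * a * y⁻¹ ≠ a' := by
  obtain ⟨d₁, h1, -⟩ := exists_unit S (k := 0) ![] (by omega)
  obtain ⟨d₂, h2', h2s⟩ := exists_unit S ![d₁] (by omega)
  obtain ⟨d₃, h3, h3s⟩ := exists_unit S ![d₁, d₂] (by omega)
  obtain ⟨d₄, h4, h4s⟩ := exists_unit S ![d₁, d₂, d₃] (by omega)
  have mk : ∀ p q : ι → F₀, Q₀ p = 1 → Q₀ q = 1 → ⟪p, q⟫₀ = 0 → ∃ a : GL ι F, a ∈ K ∧ a * a = 1 ∧
      (∀ x, ∃ w, (a : Matrix ι ι F) *ᵥ T x = T w) ∧ moved a ≤ Submodule.span F (Set.range ![T p, T q]) ∧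
      ∀ x, (a : Matrix ι ι F) *ᵥ x = x - QuadraticMap.polar Q (T p) x • T p - QuadraticMap.polar Q (T q) x • T q := by
    intro p q hp hq hpq
    have hp' : Q (T p) = 1 := by rw [S.hT, hp, Subfield.coe_one]
    have hq' : Q (T q) = 1 := by rw [S.hT, hq, Subfield.coe_one]
    obtain ⟨a, ha, hax⟩ := ONotMax.exists_refl_pair S.pnd (u := T p) (w := T q) (by rw [hp']; exact one_ne_zero)
      (hq'.trans hp'.symm)
    have hform : ∀ x, (a : Matrix ι ι F) *ᵥ x =
        x - QuadraticMap.polar Q (T p) x • T p - QuadraticMap.polar Q (T q) x • T q := fun x => by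
      rw [hax, refl_two hp' hq' (T_orth S hpq)]
    have hrat : ∀ x, ∃ w, (a : Matrix ι ι F) *ᵥ T x = T w := fun x => by
      refine ⟨x - ⟪p, x⟫₀ • p - ⟪q, x⟫₀ • q, ?_⟩
      rw [hform, T_polar S, T_polar S, T_sub S, T_sub S, S.T_smul, S.T_smul]
    refine ⟨a, hin a ha hrat, gl_ext_mulVec fun x => ?_, hrat, fun v hv => ?_, hform⟩
    · rw [gl_mul_mulVec, hform, hform, Units.val_one, Matrix.one_mulVec]
      simp only [polar_sub_right, p_smul_right, p_self, hp', hq', T_orth S hpq, T_orth' S hpq]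
      module
    · obtain ⟨y, rfl⟩ := mem_moved.mp hv
      rw [hform]
      have m0 : T p ∈ Submodule.span F (Set.range ![T p, T q]) := Submodule.subset_span ⟨0, rfl⟩
      have m1 : T q ∈ Submodule.span F (Set.range ![T p, T q]) := Submodule.subset_span ⟨1, rfl⟩
      convert Submodule.neg_mem _ (Submodule.add_mem _
        (Submodule.smul_mem _ (QuadraticMap.polar Q (T p) y) m0)
        (Submodule.smul_mem _ (QuadraticMap.polar Q (T q) y) m1)) using 1
      abel
  have o12 : ⟪d₁, d₂⟫₀ = 0 := by rw [polar_comm]; exact h2s 0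
  have o13 : ⟪d₁, d₃⟫₀ = 0 := by rw [polar_comm]; exact h3s 0
  have o23 : ⟪d₂, d₃⟫₀ = 0 := by rw [polar_comm]; exact h3s 1
  have o14 : ⟪d₁, d₄⟫₀ = 0 := by rw [polar_comm]; exact h4s 0
  have o24 : ⟪d₂, d₄⟫₀ = 0 := by rw [polar_comm]; exact h4s 1
  have o34 : ⟪d₃, d₄⟫₀ = 0 := by rw [polar_comm]; exact h4s 2
  obtain ⟨a, haK, ha2, har, ham, haf⟩ := mk d₁ d₂ h1 h2' o12
  obtain ⟨c, hcK, hc2, hcr, hcm, hcf⟩ := mk d₃ d₄ h3 h4 o34
  have had : finrank F (moved a) ≤ 2 := (Submodule.finrank_mono ham).trans (finrank_span_list (F := F) _)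
  have hcd : finrank F (moved c) ≤ 2 := (Submodule.finrank_mono hcm).trans (finrank_span_list (F := F) _)
  have hform : ∀ x, ((a * c : GL ι F) : Matrix ι ι F) *ᵥ x = x - QuadraticMap.polar Q (T d₁) x • T d₁ -
      QuadraticMap.polar Q (T d₂) x • T d₂ - QuadraticMap.polar Q (T d₃) x • T d₃ -
      QuadraticMap.polar Q (T d₄) x • T d₄ := fun x => by
    rw [gl_mul_mulVec, haf, hcf]
    simp only [polar_sub_right, p_smul_right, T_orth S o13, T_orth S o14, T_orth S o23, T_orth S o24]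
    module
  have hac : a * c = c * a := gl_ext_mulVec fun x => by
    rw [hform, gl_mul_mulVec, hcf, haf]
    simp only [polar_sub_right, p_smul_right, T_orth' S o13, T_orth' S o14, T_orth' S o23, T_orth' S o24]
    module
  have hself : ∀ d, Q₀ d = 1 → QuadraticMap.polar Q (T d) (T d) = 2 := fun d hd => by
    rw [p_self, S.hT, hd, Subfield.coe_one, mul_one]
  have hbig : finrank F (moved (a * c)) ≥ 4 := by
    have hli0 : LinearIndependent F₀ ![d₁, d₂, d₃, d₄] := by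
      rw [Fintype.linearIndependent_iff]
      intro k hk i
      have h20 : (2 : F₀) ≠ 0 := fun e => h2 (congrArg Subtype.val e)
      have h := congrArg (fun v => ⟪![d₁, d₂, d₃, d₄] i, v⟫₀) hk
      simp only [Fin.sum_univ_four, polar_add_right, p_smul_right, polar_zero_right] at h
      fin_cases i <;> simpa [p_self, h1, h2', h3, h4, o12, o13, o14, o23, o24, o34, polar_comm Q₀ d₂ d₁,
        polar_comm Q₀ d₃ d₁, polar_comm Q₀ d₄ d₁, polar_comm Q₀ d₃ d₂, polar_comm Q₀ d₄ d₂, polar_comm Q₀ d₄ d₃,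
        h20] using h
    have h := Submodule.finrank_mono (show Submodule.span F (Set.range fun i => T (![d₁, d₂, d₃, d₄] i)) ≤
        moved (a * c) from Submodule.span_le.mpr ?_)
    · rwa [finrank_span_eq_card (linIndep_T S hli0), Fintype.card_fin] at h
    rintro _ ⟨i, rfl⟩
    refine mem_moved.mpr ⟨(-(2 : F)⁻¹) • T (![d₁, d₂, d₃, d₄] i), ?_⟩
    rw [Matrix.mulVec_smul, hform]
    fin_cases i <;> simp only [Fin.zero_eta, Fin.mk_one, Fin.reduceFinMk, Matrix.cons_val_zero, Matrix.cons_val_one,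
      Matrix.cons_val, hself d₁ h1, hself d₂ h2', hself d₃ h3, hself d₄ h4, T_orth S o12, T_orth S o13, T_orth S o14,
      T_orth S o23, T_orth S o24, T_orth S o34, T_orth' S o12, T_orth' S o13, T_orth' S o14, T_orth' S o23,
      T_orth' S o24, T_orth' S o34] <;> match_scalars <;> field_simp <;> ring
  refine ⟨a, a * c, haK, mul_mem haK hcK, ha2, ?_, fun e => ?_, fun e => ?_, har, fun x => ?_, had,
    (finrank_moved_mul a c).trans (by omega), fun e => absurd e h2, fun y _ e => ?_⟩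
  · calc a * c * (a * c) = a * (c * a) * c := by group
      _ = (a * a) * (c * c) := by rw [← hac]; group
      _ = 1 := by rw [ha2, hc2, one_mul]
  · have h := finrank_moved_mul a c
    rw [e, show moved (1 : GL ι F) = ⊥ from by
      rw [eq_bot_iff]; intro v hv; obtain ⟨y, rfl⟩ := mem_moved.mp hv; simp, finrank_bot] at h
    rw [e] at hbig
    omega
  · rw [e, show moved (1 : GL ι F) = ⊥ from by
      rw [eq_bot_iff]; intro v hv; obtain ⟨y, rfl⟩ := mem_moved.mp hv; simp, finrank_bot] at hbig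
    omega
  · obtain ⟨w, hw⟩ := hcr x
    obtain ⟨w', hw'⟩ := har w
    exact ⟨w', by rw [gl_mul_mulVec, hw, hw']⟩
  · have := finrank_moved_conj y a
    rw [e] at this
    omega

/-- The two rational involutions, characteristic two. -/
theorem exists_invols_two (h2 : (2 : F) = 0) :
    ∃ a a' : GL ι F, a ∈ K ∧ a' ∈ K ∧ a * a = 1 ∧ a' * a' = 1 ∧ a ≠ 1 ∧ a' ≠ 1 ∧
      (∀ x, ∃ w, (a : Matrix ι ι F) *ᵥ T x = T w) ∧ (∀ x, ∃ w, (a' : Matrix ι ι F) *ᵥ T x = T w) ∧
      finrank F (moved a) ≤ 2 ∧ finrank F (moved a') ≤ 4 ∧ ((2 : F) = 0 → finrank F (moved a') ≤ 2) ∧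
      ∀ y ∈ K, y * a * y⁻¹ ≠ a' := by
  have hn := dim₀ S
  obtain ⟨e, he, -, het⟩ := exists_sing_list S.pnd₀ ![(0 : ι → F₀)] ![(0 : ι → F₀)] (by omega)
  have he0 : e ≠ 0 := fun h => het (by rw [h]; exact zero_mem _)
  obtain ⟨v, hv, hvs, hvt⟩ := exists_sing_list S.pnd₀ ![e] ![e] (by omega)
  obtain ⟨v', hv', hv's⟩ := exists_unit S ![e] (by have := S.hn; omega)
  obtain ⟨x, -, hx⟩ := exists_sep S.pnd₀ (A := (⊥ : Submodule F₀ (ι → F₀))) (a := e)
    (by rw [Submodule.mem_bot]; exact he0)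
  have hev : ⟪e, v⟫₀ = 0 := by rw [polar_comm]; exact hvs 0
  have hev' : ⟪e, v'⟫₀ = 0 := by rw [polar_comm]; exact hv's 0
  have mk : ∀ p : ι → F₀, ⟪e, p⟫₀ = 0 → ∃ a : GL ι F, a ∈ K ∧ a * a = 1 ∧
      (∀ x, ∃ w, (a : Matrix ι ι F) *ᵥ T x = T w) ∧ moved a ≤ Submodule.span F (Set.range ![T e, T p]) ∧
      ∀ x, (a : Matrix ι ι F) *ᵥ x = eichler (⇑Q) (T e) (T p) x := by
    intro p hp
    obtain ⟨a, haK, hax⟩ := S.base e p he hp
    refine ⟨a, haK, gl_ext_mulVec fun x => ?_, fun x => ?_, fun u hu => ?_, hax⟩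
    · have hpp : T p + T p = 0 := by rw [← two_smul F (T p), h2, zero_smul]
      rw [gl_mul_mulVec, hax, hax, eichler_comp S.hQ (T_iso S he) (T_orth S hp) (T_orth S hp), hpp, eichler_zero S,
        Units.val_one, Matrix.one_mulVec]
    · refine ⟨x + ⟪x, e⟫₀ • p - (⟪x, p⟫₀ + Q₀ p * ⟪x, e⟫₀) • e, ?_⟩
      rw [hax, eichler, T_polar S, T_polar S, S.hT, T_sub S, S.T_add, S.T_smul, S.T_smul, Subfield.coe_add,
        Subfield.coe_mul]
    · obtain ⟨y, rfl⟩ := mem_moved.mp hu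
      rw [hax, eichler]
      have m0 : T e ∈ Submodule.span F (Set.range ![T e, T p]) := Submodule.subset_span ⟨0, rfl⟩
      have m1 : T p ∈ Submodule.span F (Set.range ![T e, T p]) := Submodule.subset_span ⟨1, rfl⟩
      convert Submodule.sub_mem _
        (Submodule.smul_mem _ (QuadraticMap.polar (⇑Q) y (T e)) m1)
        (Submodule.smul_mem _ (QuadraticMap.polar (⇑Q) y (T p) + Q (T p) * QuadraticMap.polar (⇑Q) y (T e)) m0) using 1
      abel
  obtain ⟨a, haK, ha2, har, ham, haf⟩ := mk v hev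
  obtain ⟨a', ha'K, ha'2, ha'r, ha'm, ha'f⟩ := mk v' hev'
  have img : ∀ {p : ι → F₀} {b : GL ι F}, ⟪e, p⟫₀ = 0 →
      (∀ x, (b : Matrix ι ι F) *ᵥ x = eichler (⇑Q) (T e) (T p) x) →
      ∃ c : F₀, T (p + c • e) ∈ moved b := fun {p b} _ hb => by
    refine ⟨-(⟪x, p⟫₀ + Q₀ p * ⟪x, e⟫₀), mem_moved.mpr ⟨T x, ?_⟩⟩
    rw [hb, eichler, T_polar S, T_polar S, S.hT, S.T_add, S.T_smul, Subfield.coe_neg, Subfield.coe_add,
      Subfield.coe_mul, hx, Subfield.coe_one]
    module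
  obtain ⟨c, hc⟩ := img hev haf
  obtain ⟨c', hc'⟩ := img hev' ha'f
  have hsing : ∀ u ∈ moved a, Q u = 0 := by
    intro u hu
    obtain ⟨k, hk⟩ := (Submodule.mem_span_range_iff_exists_fun F).mp (ham hu)
    rw [← hk, Fin.sum_univ_two]
    simp only [Matrix.cons_val_zero, Matrix.cons_val_one]
    rw [q_add, q_smul, q_smul, p_smul_left, p_smul_right, T_iso S he, T_iso S hv, T_orth S hev]
    ring
  have hQ' : Q (T (v' + c' • e)) = 1 := by
    rw [S.hT, q_add, q_smul, p_smul_right, hv', he, polar_comm, hev', mul_zero, mul_zero, add_zero, add_zero,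
      Subfield.coe_one]
  refine ⟨a, a', haK, ha'K, ha2, ha'2, fun h => ?_, fun h => ?_, har, ha'r,
    (Submodule.finrank_mono ham).trans (finrank_span_list (F := F) _),
    ((Submodule.finrank_mono ha'm).trans (finrank_span_list (F := F) _)).trans (by norm_num),
    fun _ => (Submodule.finrank_mono ha'm).trans (finrank_span_list (F := F) _), fun y hy h => ?_⟩
  · subst h
    obtain ⟨z, hz⟩ := mem_moved.mp hc
    rw [Units.val_one, Matrix.one_mulVec, sub_self] at hz
    refine hvt ?_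
    rw [eq_neg_of_add_eq_zero_left (T_injective S hz.symm)]
    exact Submodule.neg_mem _ (Submodule.smul_mem _ _ (Submodule.subset_span ⟨0, rfl⟩))
  · subst h
    obtain ⟨z, hz⟩ := mem_moved.mp hc'
    rw [Units.val_one, Matrix.one_mulVec, sub_self] at hz
    rw [← hz, QuadraticMap.map_zero] at hQ'
    exact zero_ne_one hQ'
  · rw [← h, moved_conj, Submodule.mem_map] at hc'
    obtain ⟨u, hu, hu'⟩ := hc'
    rw [← hu', Matrix.toLin'_apply, S.iso y hy, hsing u hu] at hQ'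
    exact zero_ne_one hQ'

omit S [Fintype F₀] in
/-- The subfield group is maximal once the elements of an overgroup without irrational coefficients are good. -/
theorem isMaximal_of_good {Q : (ι → F) → F} (hQ : IsNondegenerateQuadraticForm Q) (hn : 8 ≤ Fintype.card ι)
    (F₀ : Subfield F) {r : ℕ} (hr : r.Prime) (hcard : Fintype.card F = Nat.card F₀ ^ r) (P : GL ι F)
    (hP : IsQuadFormRationalStructure Q F₀ P)
    (hgood : ∀ (K : Subgroup (GL ι F)) (_ : Fintype F₀) (Qf : QuadraticForm F (ι → F))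
      (T : (ι → F₀) → ι → F) (Q₀ : QuadraticForm F₀ (ι → F₀)), ⇑Qf = Q → Setup Qf T Q₀ K →
      ¬ Irr Qf T Q₀ K → K ≤ omegaGL ⇑Qf →
      (∀ g : GL ι F, g ∈ omegaGL ⇑Qf → (∀ x, ∃ w, (g : Matrix ι ι F) *ᵥ T x = T w) → g ∈ K) →
      ∀ g ∈ K, Good T g) :
    IsMaximalIn (omegaGL Q) (subfieldSubgroup F₀ P ⊓ omegaGL Q) := by
  classical
  obtain ⟨Qf, rfl, hPND⟩ := ONotMax.exists_qform hQ
  haveI : Fintype F₀ := Fintype.ofFinite F₀
  have hne : F₀ ≠ ⊤ := OEven.subfield_ne_top_of_card hr hcard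
  refine ⟨lt_of_le_of_ne inf_le_right fun e => ?_, fun K hK hKΩ => or_iff_not_imp_left.mpr fun hnK =>
    le_antisymm hKΩ ?_⟩
  · obtain ⟨N, hN, hNN, ht⟩ := OEven.exists_family hPND (by omega)
    exact OEven.not_le_subfield_of_family hN hNN (fun t => by
      obtain ⟨g, hg, hgm, -⟩ := ht t
      exact ⟨g, hg, hgm⟩) hne P (inf_eq_right.mp e)
  let T : (ι → F₀) → ι → F := fun u => (P : Matrix ι ι F) *ᵥ fun i => (u i : F)
  have hTadd : ∀ u w, T (u + w) = T u + T w := fun u w => by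
    simp only [T]
    rw [← Matrix.mulVec_add]
    congr 1
  have hTsmul : ∀ (c : F₀) u, T (c • u) = (c : F) • T u := fun c u => by
    simp only [T]
    rw [← Matrix.mulVec_smul]
    congr 1
  have hsingle : ∀ i, (fun j => ((Pi.single i (1 : F₀) : ι → F₀) j : F)) = Pi.single i 1 := fun i => by
    funext j
    by_cases hj : j = i <;> simp [hj]
  have hTspan : ∀ v : ι → F, ∃ μ : ι → F, v = ∑ i, μ i • T (Pi.single i 1) := fun v => by
    refine ⟨((P⁻¹ : GL ι F) : Matrix ι ι F) *ᵥ v, ?_⟩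
    simp only [T, hsingle, ← Matrix.mulVec_smul, ← Matrix.mulVec_sum]
    rw [← pi_eq_sum_univ' (((P⁻¹ : GL ι F) : Matrix ι ι F) *ᵥ v), gl_mulVec_inv_cancel]
  obtain ⟨q, hq⟩ : ∃ q : (ι → F₀) → F₀, ∀ u, (q u : F) = Qf (T u) :=
    ⟨fun u => ⟨Qf (T u), hP _ fun i => (u i).2⟩, fun u => rfl⟩
  have hpol : ∀ u w, ((QuadraticMap.polar q u w : F₀) : F) = QuadraticMap.polar (⇑Qf) (T u) (T w) := fun u w => by
    simp only [QuadraticMap.polar, Subfield.coe_sub, hq, hTadd]
  obtain ⟨Q₀, hQ₀⟩ : ∃ Q₀ : QuadraticForm F₀ (ι → F₀), ⇑Q₀ = q :=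
    ⟨QuadraticMap.ofPolar q
      (fun a x => Subtype.ext (by rw [hq, hTsmul, q_smul, smul_eq_mul, Subfield.coe_mul, Subfield.coe_mul, hq]))
      (fun x y z => Subtype.ext (by rw [Subfield.coe_add, hpol, hpol, hpol, hTadd, polar_add_left]))
      (fun a x y => Subtype.ext (by rw [smul_eq_mul, Subfield.coe_mul, hpol, hpol, hTsmul, p_smul_left])), rfl⟩
  subst hQ₀
  have hpnd₀ : PND Q₀ := fun v hv => by
    have h0 : T v = 0 := hPND _ fun y => by
      obtain ⟨μ, rfl⟩ := hTspan y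
      change Qf.polarBilin (T v) _ = 0
      rw [map_sum]
      refine Finset.sum_eq_zero fun i _ => ?_
      rw [_root_.map_smul]
      change μ i • QuadraticMap.polar (⇑Qf) (T v) _ = 0
      rw [← hpol, hv, ZeroMemClass.coe_zero, smul_zero]
    exact funext fun i => Subtype.ext (congrFun (gl_mulVec_injective P (h0.trans (Matrix.mulVec_zero _).symm)) i)
  have hmem : ∀ (g : GL ι F) (ν : F), ν ≠ 0 → (∀ x, ∃ w, (g : Matrix ι ι F) *ᵥ T x = ν • T w) →
      g ∈ subfieldSubgroup F₀ P := fun g ν hν h => by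
    refine mem_subfieldSubgroup_of_scaled (inv_ne_zero hν) fun i l => ?_
    obtain ⟨w, hw⟩ := h (Pi.single l 1)
    simp only [T] at hw
    rw [hsingle] at hw
    have h1 : ((P⁻¹ * g * P : GL ι F) : Matrix ι ι F) *ᵥ Pi.single l 1 = ν • fun k => (w k : F) := by
      rw [gl_mul_mulVec, gl_mul_mulVec, hw, Matrix.mulVec_smul, gl_inv_mulVec_cancel]
    have h2' := congrFun h1 i
    rw [Matrix.mulVec_single_one, Matrix.col_apply, Pi.smul_apply, smul_eq_mul] at h2'
    rw [h2', inv_mul_cancel_left₀ hν]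
    exact (w i).2
  have hin : ∀ g : GL ι F, g ∈ omegaGL ⇑Qf → (∀ x, ∃ w, (g : Matrix ι ι F) *ᵥ T x = T w) → g ∈ K := fun g hg h =>
    hK ⟨hmem g 1 one_ne_zero fun x => by simpa using h x, hg⟩
  have S : Setup Qf T Q₀ K :=
    { hQ := hQ
      pnd := hPND
      pnd₀ := hpnd₀
      hn := hn
      T_add := hTadd
      T_smul := hTsmul
      T_span := hTspan
      hT := fun u => (hq u).symm
      iso := fun k hk x => ONotMax.omega_isometry (hKΩ hk) x
      base := fun a y ha hay => by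
        obtain ⟨g, hg, hgx⟩ := ONotMax.exists_siegel hPND (by omega) (e := T a) (v := T y)
          (by rw [← hq, ha]; rfl) (by rw [← hpol, hay]; rfl)
        have hgx' : ∀ x, (g : Matrix ι ι F) *ᵥ x = eichler (⇑Qf) (T a) (T y) x := fun x => by
          rw [hgx, eichler, QuadraticMap.polar_comm _ x (T a), QuadraticMap.polar_comm _ x (T y)]
        refine ⟨g, hin g hg fun x => ⟨eichler (⇑Q₀) a y x, ?_⟩, hgx'⟩
        rw [hgx', eichler, eichler, ← hpol, ← hpol, ← hq, ← Subfield.coe_mul, ← Subfield.coe_add, ← hTsmul, ← hTsmul,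
          ← hTadd]
        exact (sub_eq_of_eq_add (by rw [← hTadd, sub_add_cancel])) }
  by_cases hI : Irr Qf T Q₀ K
  · rintro _ ⟨x, hx, rfl⟩
    rw [SetLike.mem_coe, OOmega.omega_eq_map, root_eq hPND (by omega)] at hx
    obtain ⟨y, hy, rfl⟩ := hx
    change (toMat Qf y).1 ∈ K
    induction hy using Subgroup.closure_induction with
    | mem y hy =>
      obtain ⟨e, v, he, hv, -, hy⟩ := hy
      obtain ⟨k, hk, hkx⟩ := full S hr hcard hI he hv
      convert hk using 1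
      refine gl_ext_mulVec fun z => ?_
      rw [toMat_apply, hy, ORefl.siegel_apply, hkx, eichler, QuadraticMap.polar_comm _ z e,
        QuadraticMap.polar_comm _ z v]
    | one => rw [map_one]; exact one_mem K
    | mul a b _ _ iha ihb => rw [map_mul, Subgroup.coe_mul]; exact mul_mem iha ihb
    | inv a _ iha => rw [map_inv, Subgroup.coe_inv]; exact inv_mem iha
  exfalso
  refine hnK (le_antisymm (le_inf (fun g hg => ?_) hKΩ) hK)
  obtain ⟨μ, hμ, h⟩ := hgood K inferInstance Qf T Q₀ rfl S hI hKΩ hin g hg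
  exact hmem g μ hμ h

omit S [Fintype F₀] in
/-- The subfield group is maximal. -/
theorem isMaximal {Q : (ι → F) → F} (hQ : IsNondegenerateQuadraticForm Q) (hn : 14 ≤ Fintype.card ι)
    (F₀ : Subfield F) {r : ℕ} (hr : r.Prime) (hcard : Fintype.card F = Nat.card F₀ ^ r) (P : GL ι F)
    (hP : IsQuadFormRationalStructure Q F₀ P) :
    IsMaximalIn (omegaGL Q) (subfieldSubgroup F₀ P ⊓ omegaGL Q) := by
  classical
  refine isMaximal_of_good hQ (le_trans (by norm_num) hn) F₀ hr hcard P hP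
    fun K _ Qf T Q₀ _ S hI hKΩ hin g hg => ?_
  obtain ⟨a, a', haK, ha'K, ha2, ha'2, ha1, ha'1, har, ha'r, had, ha'd, ha'd2, hnc⟩ :=
    if h2 : (2 : F) = 0 then exists_invols_two S h2 else exists_invols_odd S hn h2 hin
  exact all_good S hn hI hKΩ haK ha'K ha2 ha'2 ha1 ha'1 har ha'r had ha'd ha'd2 hnc hg

end Cfsg.Agent.Classical.OSubAll
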