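/-
The subfield subgroups are maximal in the orthogonal groups of dimension at least eight without totally singular
half, in characteristic two.
-/
import Cfsg.Agent.Lib.Classical.OSubAllMaximal

set_option autoImplicit false
set_option linter.unusedSectionVars false
set_option linter.style.haveILetI false

namespace Cfsg.Agent.Classical.OSubAll

open Matrix Module QuadraticMap OCount ORefl OOmega Cfsg.Geo
open Cfsg.Agent.Classical
open Cfsg.Agent.Small.QuadBasis (q_add q_smul p_smul_left p_smul_right p_self)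

variable {ι : Type} [Fintype ι] [DecidableEq ι] {F : Type*} [Field F] [Fintype F] {F₀ : Subfield F} [Fintype F₀]
  {Q : QuadraticForm F (ι → F)} {T : (ι → F₀) → ι → F} {Q₀ : QuadraticForm F₀ (ι → F₀)} {K : Subgroup (GL ι F)}

/-- The polar form. -/
local notation "⟪" x ", " y "⟫" => QuadraticMap.polar Q x y

/-- The rational polar form. -/
local notation "⟪" x ", " y "⟫₀" => QuadraticMap.polar Q₀ x y

variable (S : Setup Q T Q₀ K)

include S

/-- An image of a rational singular point in a totally singular rational subspace is rational. -/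
theorem point_ts (hI : ¬ Irr Q T Q₀ K) {A : Submodule F₀ (ι → F₀)} (hA : ∀ a ∈ A, Q₀ a = 0)
    (hA2 : 2 * finrank F₀ A < Fintype.card ι) {g : GL ι F} (hg : g ∈ K) {z : ι → F₀} (hz : Q₀ z = 0) (hz0 : z ≠ 0)
    (hgz : (g : Matrix ι ι F) *ᵥ T z ∈ Tsp T A) :
    ∃ (μ : F) (w : ι → F₀), μ ≠ 0 ∧ (g : Matrix ι ι F) *ᵥ T z = μ • T w := by
  classical
  obtain ⟨u, hu⟩ : ∃ u, u = (g : Matrix ι ι F) *ᵥ T z := ⟨_, rfl⟩
  rw [← hu] at hgz ⊢
  have hu0 : u ≠ 0 := fun e => hz0 (T_injective S (gl_mulVec_injective g (by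
    dsimp only; rw [← hu, e, Matrix.mulVec_zero])))
  suffices h : ∃ (μ : F) (w : ι → F₀), u = μ • T w by
    obtain ⟨μ, w, hw⟩ := h
    exact ⟨μ, w, fun e => hu0 (by rw [hw, e, zero_smul]), hw⟩
  have hA0 : A ≠ ⊥ := fun e => by
    subst e
    rw [Tsp, Submodule.bot_coe, Set.image_singleton, T_zero S, Submodule.span_singleton_eq_bot.mpr rfl,
      Submodule.mem_bot] at hgz
    exact hu0 hgz
  obtain ⟨a₁, ha₁, ha₁0⟩ := Submodule.exists_mem_ne_zero_of_ne_bot hA0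
  have hAp : A ≤ perp Q₀ A := fun x hx => mem_perp.mpr fun y hy => by
    rw [QuadraticMap.polar, hA x hx, hA y hy, hA _ (A.add_mem hx hy), sub_zero, sub_zero]
  have huA : ∀ a ∈ A, ⟪u, T a⟫ = 0 := fun a ha => Tsp_perp S hgz (hAp ha)
  by_cases hall : ∀ a ∈ A, ∀ v ∈ perp Q₀ (Submodule.span F₀ {z}), ⟪(g : Matrix ι ι F) *ᵥ T v, T a⟫ = 0
  · have h1 : ((g⁻¹ : GL ι F) : Matrix ι ι F) *ᵥ T a₁ ∈ Tsp T (Submodule.span F₀ {z}) :=
      mem_Tsp_of_perp S fun e he => by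
        rw [conj_polar S hg, polar_comm]; exact hall a₁ ha₁ e he
    have hle : Tsp T (Submodule.span F₀ {z}) ≤ Submodule.span F {T z} := by
      rw [Tsp, Submodule.span_le]
      rintro _ ⟨v, hv, rfl⟩
      obtain ⟨k, rfl⟩ := Submodule.mem_span_singleton.mp hv
      rw [SetLike.mem_coe, S.T_smul]
      exact Submodule.smul_mem _ _ (Submodule.mem_span_singleton_self _)
    obtain ⟨c, hc⟩ := Submodule.mem_span_singleton.mp (hle h1)
    have hc' : T a₁ = c • u := by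
      rw [hu, ← Matrix.mulVec_smul, hc, gl_mulVec_inv_cancel]
    have hc0 : c ≠ 0 := fun e => ha₁0 (T_injective S (by rw [hc', e, zero_smul]))
    exact ⟨c⁻¹, a₁, by rw [hc', smul_smul, inv_mul_cancel₀ hc0, one_smul]⟩
  push Not at hall
  obtain ⟨a, ha, v₀, hv₀, hne⟩ := hall
  obtain ⟨y, hy⟩ : ∃ y, y = (g : Matrix ι ι F) *ᵥ T v₀ := ⟨_, rfl⟩
  rw [← hy] at hne
  have hzv : ⟪z, v₀⟫₀ = 0 := by
    rw [polar_comm]; exact mem_perp.mp hv₀ z (Submodule.mem_span_singleton_self z)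
  have huy : ⟪u, y⟫ = 0 := by rw [hu, hy, iso_polar S hg, T_orth S hzv]
  have hQu : Q u = 0 := by rw [hu, S.iso g hg, T_iso S hz]
  have hin : InE Q K u y := by rw [hu, hy]; exact InE.conj S (S.base z v₀ hz hzv) hg
  obtain ⟨v, v', hv, hv', hvv⟩ : ∃ v v', v ∈ perp Q₀ A ∧ v' ∈ perp Q₀ A ∧ ⟪v, v'⟫₀ ≠ 0 := by
    by_contra hcon
    push Not at hcon
    have hle : perp Q₀ A ≤ perp Q₀ (perp Q₀ A) := fun x hx => mem_perp.mpr fun w hw => hcon x w hx hw
    have h1 := Submodule.finrank_mono hle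
    have h2 := finrank_perp S.pnd₀ (perp Q₀ A)
    have h3 := finrank_perp S.pnd₀ A
    rw [Module.finrank_pi] at h2 h3
    omega
  obtain ⟨c, hc⟩ : ∃ c, c = ⟪y, T a⟫ := ⟨_, rfl⟩
  rw [← hc] at hne
  have hav : ⟪a, v⟫₀ = 0 := by rw [polar_comm]; exact mem_perp.mp hv a ha
  obtain ⟨hd, hud⟩ := diff S hQu huy (hA a ha) hav (huA a ha) (Tsp_perp S hgz hv) hin
  obtain ⟨e, he, he0⟩ : ∃ e : F, e = c * ((⟪v, v'⟫₀ : F₀) : F) ∧ e ≠ 0 :=
    ⟨_, rfl, mul_ne_zero hne fun h => hvv (Subtype.ext h)⟩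
  have key : ∀ a' ∈ A, InE Q K u ((-e) • T a') := by
    intro a' ha'
    have ha'v : ⟪a', v'⟫₀ = 0 := by rw [polar_comm]; exact mem_perp.mp hv' a' ha'
    obtain ⟨hd', -⟩ := diff S hQu hud (hA a' ha') ha'v (huA a' ha') (Tsp_perp S hgz hv') hd
    convert hd' using 1
    have e1 : ⟪a, a'⟫₀ = 0 := mem_perp.mp (hAp ha) a' ha'
    have e2 : ⟪v, a'⟫₀ = 0 := mem_perp.mp hv a' ha'
    have e3 : ⟪a, v'⟫₀ = 0 := by rw [polar_comm]; exact mem_perp.mp hv' a ha
    simp only [polar_sub_left, p_smul_left, T_orth S e1, T_orth S e2, T_orth S e3, T_polar S v v', ← hc, he]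
    module
  have hmod : ∀ a' ∈ A, a' ≠ 0 → ∃ (w : ι → F₀) (κ : F), u = (-e)⁻¹ • (T w + κ • T a') := by
    intro a' ha' ha'0
    have h1 := InE.scale S (InE.swap S hQu (by rw [q_smul, T_iso S (hA a' ha'), mul_zero]) (key a' ha'))
    obtain ⟨w, κ, hw⟩ := real_mod S hI (hA a' ha') ha'0
      (by rw [p_smul_right, polar_neg_right, polar_comm, huA a' ha', neg_zero, mul_zero]) h1
    refine ⟨-w, -κ, ?_⟩
    rw [T_neg S, neg_smul, ← neg_add, ← hw, smul_neg, smul_smul, inv_mul_cancel₀ (neg_ne_zero.mpr he0), one_smul,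
      neg_neg]
  by_cases hle : A ≤ Submodule.span F₀ {a₁}
  · obtain ⟨c', hc'⟩ := Submodule.mem_span_singleton.mp ((show Tsp T A ≤ Submodule.span F {T a₁} by
      rw [Tsp, Submodule.span_le]
      rintro _ ⟨x, hx, rfl⟩
      obtain ⟨k, rfl⟩ := Submodule.mem_span_singleton.mp (hle hx)
      rw [SetLike.mem_coe, S.T_smul]
      exact Submodule.smul_mem _ _ (Submodule.mem_span_singleton_self _)) hgz)
    exact ⟨c', a₁, hc'.symm⟩
  obtain ⟨a₂, ha₂, hind⟩ := SetLike.not_le_iff_exists.mp hle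
  have ha₂0 : a₂ ≠ 0 := fun h => hind (h ▸ zero_mem _)
  obtain ⟨w₁, κ₁, h1⟩ := hmod a₁ ha₁ ha₁0
  obtain ⟨w₂, κ₂, h2⟩ := hmod a₂ ha₂ ha₂0
  have hind' : a₁ ∉ Submodule.span F₀ {a₂} := fun h => by
    obtain ⟨k, hk⟩ := Submodule.mem_span_singleton.mp h
    have hk0 : k ≠ 0 := fun h0 => ha₁0 (by rw [← hk, h0, zero_smul])
    exact hind (Submodule.mem_span_singleton.mpr ⟨k⁻¹, by rw [← hk, smul_smul, inv_mul_cancel₀ hk0, one_smul]⟩)
  obtain ⟨d, hd', hda⟩ := exists_sep S.pnd₀ hind'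
  have h12 : T w₁ + κ₁ • T a₁ = T w₂ + κ₂ • T a₂ :=
    smul_right_injective (ι → F) (inv_ne_zero (neg_ne_zero.mpr he0)) (h1.symm.trans h2)
  have h3 := congrArg (fun x => ⟪x, T d⟫) h12
  simp only [polar_add_left, p_smul_left, T_polar S, polar_comm Q₀ a₁ d, hda, polar_comm Q₀ a₂ d,
    mem_perp.mp hd' a₂ (Submodule.mem_span_singleton_self a₂), Subfield.coe_one, Subfield.coe_zero, mul_one,
    mul_zero, add_zero] at h3
  refine ⟨(-e)⁻¹, w₁ + (⟪w₂, d⟫₀ - ⟪w₁, d⟫₀) • a₁, ?_⟩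
  rw [h1, S.T_add, S.T_smul, Subfield.coe_sub, ← h3, add_sub_cancel_left]

/-- A rational point spreads to its singular neighbours. -/
theorem img_ts (hI : ¬ Irr Q T Q₀ K) {g : GL ι F} (hg : g ∈ K) {b d v : ι → F₀} {μ : F} (hμ : μ ≠ 0)
    (hb : Q₀ b = 0) (hb0 : b ≠ 0) (hv : (g : Matrix ι ι F) *ᵥ T b = μ • T v) (hd : Q₀ d = 0) (hd0 : d ≠ 0)
    (hbd : ⟪b, d⟫₀ = 0) : ∃ (ρ : F) (v' : ι → F₀), ρ ≠ 0 ∧ (g : Matrix ι ι F) *ᵥ T d = ρ • T v' := by
  classical
  obtain ⟨w', hw'⟩ := neighbour_span S hI hg hμ hb hb0 hv hbd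
  have hv0 : Q₀ v = 0 := by
    have h := S.iso g hg (T b)
    rw [hv, q_smul, T_iso S hb, S.hT, mul_eq_zero] at h
    exact Subtype.ext (h.resolve_left (mul_ne_zero hμ hμ))
  by_cases hts : ⟪w', v⟫₀ = 0 ∧ Q₀ w' = 0
  · refine point_ts S hI (A := Submodule.span F₀ (Set.range ![w', v])) (fun x hx => ?_) ?_ hg hd hd0 hw'
    · obtain ⟨k, rfl⟩ := (Submodule.mem_span_range_iff_exists_fun F₀).mp hx
      simp [Fin.sum_univ_two, q_add, q_smul, p_smul_left, p_smul_right, hts.1, hts.2, hv0]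
    · have := finrank_span_list (F := F₀) ![w', v]
      have := S.hn
      omega
  have hle : Tsp T (Submodule.span F₀ (Set.range ![w', v])) ≤ Submodule.span F {T w', T v} := by
    rw [Tsp, Submodule.span_le]
    rintro _ ⟨x, hx, rfl⟩
    obtain ⟨k, rfl⟩ := (Submodule.mem_span_range_iff_exists_fun F₀).mp hx
    simp only [SetLike.mem_coe, Fin.sum_univ_two, S.T_add, S.T_smul, Matrix.cons_val_zero, Matrix.cons_val_one]
    exact Submodule.add_mem _ (Submodule.smul_mem _ _ (Submodule.subset_span (by simp)))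
      (Submodule.smul_mem _ _ (Submodule.subset_span (by simp)))
  obtain ⟨α, β, hαβ⟩ := Submodule.mem_span_pair.mp (hle hw')
  have hα : α = 0 := by
    have h1 : ⟪(g : Matrix ι ι F) *ᵥ T d, T v⟫ = 0 := by
      have h := iso_polar S hg (T d) (T b)
      rw [hv, p_smul_right, T_orth' S hbd, mul_eq_zero] at h
      exact h.resolve_left hμ
    have h2 : Q ((g : Matrix ι ι F) *ᵥ T d) = 0 := by rw [S.iso g hg, T_iso S hd]
    rw [← hαβ, polar_add_left, p_smul_left, p_smul_left, p_self, S.hT, hv0, Subfield.coe_zero,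
      T_polar S, mul_zero, mul_zero, add_zero, mul_eq_zero] at h1
    by_contra hα
    have hp : ⟪w', v⟫₀ = 0 := Subtype.ext (h1.resolve_left hα)
    rw [← hαβ, q_add, q_smul, q_smul, p_smul_left, p_smul_right, S.hT, S.hT, hv0, Subfield.coe_zero, T_polar S,
      hp, Subfield.coe_zero, mul_zero, mul_zero, mul_zero, add_zero, add_zero, mul_eq_zero] at h2
    exact hts ⟨hp, Subtype.ext (h2.resolve_left (mul_ne_zero hα hα))⟩
  rw [hα, zero_smul, zero_add] at hαβ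
  refine ⟨β, v, fun e => hd0 (T_injective S (gl_mulVec_injective g ?_)), hαβ.symm⟩
  dsimp only
  rw [← hαβ, e, zero_smul, Matrix.mulVec_zero]

/-- A point mapped into a totally singular rational subspace makes the element good. -/
theorem good_of_ts (hI : ¬ Irr Q T Q₀ K) {A : Submodule F₀ (ι → F₀)} (hA : ∀ a ∈ A, Q₀ a = 0)
    (hA2 : 2 * finrank F₀ A < Fintype.card ι) {g : GL ι F} (hg : g ∈ K) {z : ι → F₀} (hz : Q₀ z = 0) (hz0 : z ≠ 0)
    (hgz : (g : Matrix ι ι F) *ᵥ T z ∈ Tsp T A) : Good T g := by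
  obtain ⟨μ, w, hμ, hw⟩ := point_ts S hI hA hA2 hg hz hz0 hgz
  exact good_of_img S hI hg hμ hz hz0 hw fun b d v hb hb0 hv hd hd0 hbd => img_ts S hI hg hμ hb hb0 hv hd hd0 hbd

/-- In characteristic two the multiplier of a proportional element is rational. -/
theorem rat_of_good_two (h2 : (2 : F) = 0) {j : GL ι F} (hjK : j ∈ K) (hg : Good T j) :
    ∀ x, ∃ w, (j : Matrix ι ι F) *ᵥ T x = T w := by
  obtain ⟨μ, hμ, hw⟩ := hg
  choose w hw using hw
  suffices hμ₀ : μ ∈ F₀ from fun x => ⟨(⟨μ, hμ₀⟩ : F₀) • w x, by rw [hw, S.T_smul]⟩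
  have hn := dim₀ S
  obtain ⟨z, hz, -, hzt⟩ := exists_sing_list S.pnd₀ ![(0 : ι → F₀)] ![(0 : ι → F₀)] (by omega)
  obtain ⟨d, -, hd⟩ := exists_sep S.pnd₀ (A := (⊥ : Submodule F₀ (ι → F₀))) (a := z)
    (by rw [Submodule.mem_bot]; exact fun e => hzt (by rw [e]; exact zero_mem _))
  have h := iso_polar S hjK (T d) (T z)
  rw [hw, hw, p_smul_left, p_smul_right, ← mul_assoc, T_polar S, T_polar S, hd, Subfield.coe_one] at h
  have hμμ : μ * μ ∈ F₀ := by
    rw [eq_inv_of_mul_eq_one_left h]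
    exact inv_mem (Subtype.coe_prop _)
  obtain ⟨r, hr⟩ := Cfsg.Agent.Small.QuadBasis.exists_sq (F := F₀) (Subtype.ext h2) ⟨_, hμμ⟩
  have hr' : (r : F) * r = μ * μ := congrArg Subtype.val hr
  have e : ((r : F) - μ) * ((r : F) - μ) = 0 := by linear_combination hr' + (μ * μ - (r : F) * μ) * h2
  rw [← sub_eq_zero.mp (mul_self_eq_zero.mp e)]
  exact r.2

/-- The singular part of the commutator space of a rational involution, when it is small. -/
theorem invol_two' (h2 : (2 : F) = 0) {j : GL ι F} (hjK : j ∈ K) (hjΩ : j ∈ omegaGL ⇑Q) (hj2 : j * j = 1)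
    (hj1 : j ≠ 1) (hrat : ∀ x, ∃ w, (j : Matrix ι ι F) *ᵥ T x = T w)
    (hsmall : ∀ U ≤ moved j, IsTotallySingularQuad ⇑Q U → 2 * finrank F U < Fintype.card ι) :
    ∃ (A : Submodule F₀ (ι → F₀)) (x : ι → F₀), (∀ a ∈ A, Q₀ a = 0) ∧ 2 * finrank F₀ A < Fintype.card ι ∧
      (∀ v ∈ moved j, Q v = 0 → v ∈ Tsp T A) ∧ T x ∈ moved j ∧ x ∈ A ∧ x ≠ 0 := by
  classical
  obtain ⟨B, hB⟩ := moved_rational S hrat
  have h20 : (2 : F₀) = 0 := Subtype.ext h2
  have hpol : ∀ a ∈ B, ∀ b ∈ B, ⟪a, b⟫₀ = 0 := fun a ha b hb => by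
    refine Subtype.ext ?_
    rw [← T_polar S]
    obtain ⟨p, hp⟩ := mem_moved.mp (hB ▸ mem_Tsp S ha : T a ∈ moved j)
    obtain ⟨q, hq⟩ := mem_moved.mp (hB ▸ mem_Tsp S hb : T b ∈ moved j)
    rw [← hp, ← hq, polar_sub_left, polar_sub_right, polar_sub_right, iso_polar S hjK]
    have h3 := iso_polar S hjK p ((j : Matrix ι ι F) *ᵥ q)
    rw [← gl_mul_mulVec, hj2, Units.val_one, Matrix.one_mulVec] at h3
    rw [h3, ZeroMemClass.coe_zero]
    linear_combination (⟪p, q⟫ - ⟪p, (j : Matrix ι ι F) *ᵥ q⟫) * h2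
  let A : Submodule F₀ (ι → F₀) :=
    { carrier := {a | a ∈ B ∧ Q₀ a = 0}
      add_mem' := fun {a b} ha hb => ⟨B.add_mem ha.1 hb.1, by
        rw [q_add, ha.2, hb.2, hpol a ha.1 b hb.1]; ring⟩
      zero_mem' := ⟨B.zero_mem, QuadraticMap.map_zero _⟩
      smul_mem' := fun c a ha => ⟨B.smul_mem c ha.1, by rw [q_smul, ha.2, mul_zero]⟩ }
  have hTp : ∀ p ∈ Tsp T A, ∀ q ∈ Tsp T A, ⟪p, q⟫ = 0 := fun p hp q hq => by
    induction hq using Submodule.span_induction with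
    | mem q hq =>
      obtain ⟨a, ha, rfl⟩ := hq
      exact Tsp_perp S hp (mem_perp.mpr fun b hb => hpol a ha.1 b hb.1)
    | zero => exact polar_zero_right Q p
    | add x y _ _ hx hy => rw [polar_add_right, hx, hy, add_zero]
    | smul c x _ hx => rw [p_smul_right, hx, mul_zero]
  have hTQ : ∀ v ∈ Tsp T A, Q v = 0 := fun v hv => by
    induction hv using Submodule.span_induction with
    | mem v hv => obtain ⟨a, ha, rfl⟩ := hv; exact T_iso S ha.2
    | zero => exact QuadraticMap.map_zero _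
    | add p q hp hq hp0 hq0 =>
      rw [q_add, hp0, hq0, hTp p hp q hq]; ring
    | smul c p _ hp => rw [q_smul, hp, mul_zero]
  have hA2 : 2 * finrank F₀ A < Fintype.card ι := by
    rw [← finrank_Tsp S]; exact hsmall _ (hB ▸ Submodule.span_mono (Set.image_mono fun a ha => ha.1)) hTQ
  have hsing : ∀ v ∈ moved j, Q v = 0 → v ∈ Tsp T A := by
    intro v hv hQv
    rw [hB] at hv
    by_cases hall : ∀ a ∈ B, Q₀ a = 0
    · refine Submodule.span_mono ?_ hv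
      rintro _ ⟨a, ha, rfl⟩
      exact ⟨a, ⟨ha, hall a ha⟩, rfl⟩
    push Not at hall
    obtain ⟨y, hy, hQy⟩ := hall
    have hdec : ∀ v ∈ Tsp T B, ∃ s ∈ Tsp T A, ∃ c : F, v = s + c • T y := fun v hv => by
      induction hv using Submodule.span_induction with
      | mem v hv =>
        obtain ⟨a, ha, rfl⟩ := hv
        obtain ⟨t, ht⟩ := Cfsg.Agent.Small.QuadBasis.exists_sq h20 (Q₀ a * (Q₀ y)⁻¹)
        refine ⟨T (a + t • y), mem_Tsp S ⟨B.add_mem ha (B.smul_mem _ hy), ?_⟩, -(t : F), ?_⟩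
        · rw [q_add, q_smul, p_smul_right, hpol a ha y hy, ht, inv_mul_cancel_right₀ hQy]
          linear_combination (Q₀ a) * h20
        · rw [S.T_add, S.T_smul]; module
      | zero => exact ⟨0, zero_mem _, 0, by simp⟩
      | add p q _ _ hp hq =>
        obtain ⟨s, hs, c, rfl⟩ := hp
        obtain ⟨s', hs', c', rfl⟩ := hq
        exact ⟨s + s', add_mem hs hs', c + c', by module⟩
      | smul k p _ hp =>
        obtain ⟨s, hs, c, rfl⟩ := hp
        exact ⟨k • s, Submodule.smul_mem _ _ hs, k * c, by module⟩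
    obtain ⟨s, hs, c, rfl⟩ := hdec v hv
    have hperp : ⟪s, T y⟫ = 0 := Tsp_perp S hs (mem_perp.mpr fun a ha => hpol y hy a ha.1)
    rw [q_add, hTQ s hs, q_smul, p_smul_right, hperp, mul_zero, add_zero, zero_add, S.hT, mul_eq_zero] at hQv
    rcases hQv with h | h
    · rw [mul_self_eq_zero.mp h, zero_smul, add_zero]; exact hs
    · exact absurd (Subtype.ext h) hQy
  obtain ⟨x, hx, hx0⟩ : ∃ x ∈ A, x ≠ 0 := by
    have hB0 : B ≠ ⊥ := fun e => hj1 (moved_eq_bot (by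
      refine Submodule.finrank_eq_zero.mp ?_
      rw [hB, finrank_Tsp S, e, finrank_bot]))
    obtain ⟨x, hx, hx0⟩ := Submodule.exists_mem_ne_zero_of_ne_bot hB0
    by_cases hQx : Q₀ x = 0
    · exact ⟨x, ⟨hx, hQx⟩, hx0⟩
    obtain ⟨y, hy, hyx⟩ : ∃ y ∈ B, y ∉ Submodule.span F₀ {x} := SetLike.not_le_iff_exists.mp fun hle => by
      refine not_reflection S h2 hjΩ hj1 (u := T x) (by rw [S.hT]; exact fun e => hQx (Subtype.ext e)) ?_
      rw [hB, Tsp, Submodule.span_le]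
      rintro _ ⟨v, hv, rfl⟩
      obtain ⟨c, rfl⟩ := Submodule.mem_span_singleton.mp (hle hv)
      rw [SetLike.mem_coe, S.T_smul]
      exact Submodule.smul_mem _ _ (Submodule.mem_span_singleton_self _)
    obtain ⟨c, hc⟩ := Cfsg.Agent.Small.QuadBasis.exists_sq h20 (Q₀ y / Q₀ x)
    refine ⟨y + c • x, ⟨B.add_mem hy (B.smul_mem _ hx), ?_⟩, fun e => hyx ?_⟩
    · rw [q_add, q_smul, p_smul_right, hpol y hy x hx, hc, div_mul_cancel₀ _ hQx]
      linear_combination (Q₀ y) * h20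
    · rw [eq_neg_of_add_eq_zero_left e]
      exact neg_mem (Submodule.smul_mem _ _ (Submodule.mem_span_singleton_self x))
  exact ⟨A, x, fun a ha => ha.2, hA2, hsing, hB ▸ mem_Tsp S hx.1, hx, hx0⟩

variable (hno : ∀ U : Submodule F (ι → F), IsTotallySingularQuad ⇑Q U → 2 * finrank F U < Fintype.card ι)

include hno

/-- The singular part of the commutator space of a rational involution. -/
theorem invol_two (h2 : (2 : F) = 0) {j : GL ι F} (hjK : j ∈ K) (hjΩ : j ∈ omegaGL ⇑Q) (hj2 : j * j = 1)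
    (hj1 : j ≠ 1) (hrat : ∀ x, ∃ w, (j : Matrix ι ι F) *ᵥ T x = T w) :
    ∃ (A : Submodule F₀ (ι → F₀)) (x : ι → F₀), (∀ a ∈ A, Q₀ a = 0) ∧ 2 * finrank F₀ A < Fintype.card ι ∧
      (∀ v ∈ moved j, Q v = 0 → v ∈ Tsp T A) ∧ T x ∈ moved j ∧ x ∈ A ∧ x ≠ 0 :=
  invol_two' S h2 hjK hjΩ hj2 hj1 hrat fun U _ hU => hno U hU

/-- In characteristic two everything is proportional to rational. -/
theorem all_good_two (h2 : (2 : F) = 0) (hI : ¬ Irr Q T Q₀ K) (hKΩ : K ≤ omegaGL ⇑Q) {g : GL ι F} (hg : g ∈ K) :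
    Good T g := by
  obtain ⟨a, a', haK, ha'K, ha2, ha'2, ha1, ha'1, har, ha'r, -, -, -, hnc⟩ := exists_invols_two S h2
  obtain ⟨b, hb⟩ : ∃ b, b = g * a' * g⁻¹ := ⟨_, rfl⟩
  have hbK : b ∈ K := hb ▸ mul_mem (mul_mem hg ha'K) (inv_mem hg)
  have hb2 : b * b = 1 := by
    rw [hb, show g * a' * g⁻¹ * (g * a' * g⁻¹) = g * (a' * a') * g⁻¹ by group, ha'2]; group
  have hb1 : b ≠ 1 := fun e => ha'1 (by
    rw [show a' = g⁻¹ * (g * a' * g⁻¹) * g by group, ← hb, e]; group)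
  obtain ⟨j, hjK, hj2, hj1, hja, hjb, -⟩ := USub.exists_commuting haK hbK ha2 hb2 (fun y hy e =>
    hnc (g⁻¹ * y) (mul_mem (inv_mem hg) hy) (by
      rw [show g⁻¹ * y * a * (g⁻¹ * y)⁻¹ = g⁻¹ * (y * a * y⁻¹) * g by group, e, hb]; group))
  have step : ∀ {i k : GL ι F}, i ∈ K → i * i = 1 → i ≠ 1 → (∀ x, ∃ w, (i : Matrix ι ι F) *ᵥ T x = T w) →
      k ∈ K → k * i = i * k → Good T k := by
    intro i k hiK hi2 hi1 hir hkK hki
    obtain ⟨A, x, hA, hA2, hsing, hxm, hxA, hx0⟩ := invol_two S hno h2 hiK (hKΩ hiK) hi2 hi1 hir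
    exact good_of_ts S hI hA hA2 hkK (hA x hxA) hx0
      (hsing _ (moved_commute hki hxm) (by rw [S.iso k hkK, T_iso S (hA x hxA)]))
  have hjr := rat_of_good_two S h2 hjK (step haK ha2 ha1 har hjK hja)
  have hbr := rat_of_good_two S h2 hbK (step hjK hj2 hj1 hjr hbK hjb.symm)
  obtain ⟨Ab, -, hAb, hAb2, hsingb, -, -, -⟩ := invol_two S hno h2 hbK (hKΩ hbK) hb2 hb1 hbr
  obtain ⟨A', x', hA', -, -, hx'm, hx'A, hx'0⟩ := invol_two S hno h2 ha'K (hKΩ ha'K) ha'2 ha'1 ha'r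
  refine good_of_ts S hI hAb hAb2 hg (hA' x' hx'A) hx'0 (hsingb _ ?_ (by rw [S.iso g hg, T_iso S (hA' x' hx'A)]))
  rw [hb, moved_conj, Submodule.mem_map]
  exact ⟨T x', hx'm, Matrix.toLin'_apply _ _⟩

omit S hno [Fintype F₀] in
/-- The subfield group is maximal in characteristic two without totally singular half. -/
theorem isMaximal_two {Q : (ι → F) → F} (hQ : IsNondegenerateQuadraticForm Q) (hn : 8 ≤ Fintype.card ι)
    (h2 : (2 : F) = 0)
    (hno : ∀ U : Submodule F (ι → F), IsTotallySingularQuad Q U → 2 * finrank F U < Fintype.card ι)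
    (F₀ : Subfield F) {r : ℕ} (hr : r.Prime) (hcard : Fintype.card F = Nat.card F₀ ^ r) (P : GL ι F)
    (hP : IsQuadFormRationalStructure Q F₀ P) :
    IsMaximalIn (omegaGL Q) (subfieldSubgroup F₀ P ⊓ omegaGL Q) :=
  isMaximal_of_good hQ hn F₀ hr hcard P hP fun _ _ _ _ _ hQf S hI hKΩ _ _ hg =>
    all_good_two S (fun U hU => hno U (hQf ▸ hU)) h2 hI hKΩ hg

end Cfsg.Agent.Classical.OSubAll
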