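/-
The subfield subgroups are maximal in the orthogonal groups of dimension at least ten.
-/
import Cfsg.Agent.Lib.Classical.OSubAllEight
import Cfsg.Agent.Lib.Classical.OSubSmall.Maximal

set_option autoImplicit false
set_option linter.unusedSectionVars false
set_option linter.style.haveILetI false

namespace Cfsg.Agent.Classical.OSubAll

open Matrix Module QuadraticMap OCount ORefl OOmega Cfsg.Geo
open Cfsg.Agent.Classical
open Cfsg.Agent.Small.QuadBasis (q_add q_smul p_smul_left p_smul_right p_self)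

variable {ι : Type} [Fintype ι] [DecidableEq ι] {F : Type*} [Field F] [Fintype F] {F₀ : Subfield F} [Fintype F₀]
  {Q : QuadraticForm F (ι → F)} {T : (ι → F₀) → ι → F} {Q₀ : QuadraticForm F₀ (ι → F₀)} {K : Subgroup (GL ι F)}

theorem ringChar_ne_two {R : Type*} [Ring R] (h : (2 : R) ≠ 0) : ringChar R ≠ 2 := fun e => h (by
  haveI := ringChar.of_eq e
  exact CharTwo.two_eq_zero)

/-- The polar form. -/
local notation "⟪" x ", " y "⟫" => QuadraticMap.polar Q x y

/-- The rational polar form. -/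
local notation "⟪" x ", " y "⟫₀" => QuadraticMap.polar Q₀ x y

variable (S : Setup Q T Q₀ K)

include S

/-- In characteristic two everything is proportional to rational, dimension at least ten. -/
theorem all_good_two_ten (h10 : 10 ≤ Fintype.card ι) (h2 : (2 : F) = 0) (hI : ¬ Irr Q T Q₀ K)
    (hKΩ : K ≤ omegaGL ⇑Q) {g : GL ι F} (hg : g ∈ K) : Good T g := by
  obtain ⟨a, a', haK, ha'K, ha2, ha'2, ha1, ha'1, har, ha'r, had, -, ha'd2, hnc⟩ := exists_invols_two S h2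
  obtain ⟨b, hb⟩ : ∃ b, b = g * a' * g⁻¹ := ⟨_, rfl⟩
  have hbK : b ∈ K := hb ▸ mul_mem (mul_mem hg ha'K) (inv_mem hg)
  have hb2 : b * b = 1 := by
    rw [hb, show g * a' * g⁻¹ * (g * a' * g⁻¹) = g * (a' * a') * g⁻¹ by group, ha'2]; group
  have hb1 : b ≠ 1 := fun e => ha'1 (by
    rw [show a' = g⁻¹ * (g * a' * g⁻¹) * g by group, ← hb, e]; group)
  obtain ⟨j, hjK, hj2, hj1, hja, hjb, y, hyK, hy⟩ := USub.exists_commuting haK hbK ha2 hb2 (fun y hy e =>
    hnc (g⁻¹ * y) (mul_mem (inv_mem hg) hy) (by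
      rw [show g⁻¹ * y * a * (g⁻¹ * y)⁻¹ = g⁻¹ * (y * a * y⁻¹) * g by group, e, hb]; group))
  have hbd : finrank F (moved b) ≤ 2 := by rw [hb, finrank_moved_conj]; exact ha'd2 h2
  have hjd : finrank F (moved j) ≤ 4 := by
    have h := finrank_moved_mul (j * a) a
    rw [mul_assoc, ha2, mul_one] at h
    have hja' : finrank F (moved (j * a)) ≤ 2 := by
      rcases hy with e | e <;> rw [← e, finrank_moved_conj]
      exacts [had, hbd]
    omega
  have small : ∀ {i : GL ι F}, finrank F (moved i) ≤ 4 → ∀ U ≤ moved i, IsTotallySingularQuad ⇑Q U →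
      2 * finrank F U < Fintype.card ι := fun {i} hi U hU _ => by
    have := Submodule.finrank_mono hU
    omega
  have step : ∀ {i k : GL ι F}, i ∈ K → i * i = 1 → i ≠ 1 → (∀ x, ∃ w, (i : Matrix ι ι F) *ᵥ T x = T w) →
      finrank F (moved i) ≤ 4 → k ∈ K → k * i = i * k → Good T k := by
    intro i k hiK hi2 hi1 hir hid hkK hki
    obtain ⟨A, x, hA, hA2, hsing, hxm, hxA, hx0⟩ := invol_two' S h2 hiK (hKΩ hiK) hi2 hi1 hir (small hid)
    exact good_of_ts S hI hA hA2 hkK (hA x hxA) hx0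
      (hsing _ (moved_commute hki hxm) (by rw [S.iso k hkK, T_iso S (hA x hxA)]))
  have hjr := rat_of_good_two S h2 hjK (step haK ha2 ha1 har (by omega) hjK hja)
  have hbr := rat_of_good_two S h2 hbK (step hjK hj2 hj1 hjr hjd hbK hjb.symm)
  obtain ⟨Ab, -, hAb, hAb2, hsingb, -, -, -⟩ := invol_two' S h2 hbK (hKΩ hbK) hb2 hb1 hbr (small (by omega))
  obtain ⟨A', x', hA', -, -, hx'm, hx'A, hx'0⟩ :=
    invol_two' S h2 ha'K (hKΩ ha'K) ha'2 ha'1 ha'r (small (by have := ha'd2 h2; omega))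
  refine good_of_ts S hI hAb hAb2 hg (hA' x' hx'A) hx'0 (hsingb _ ?_ (by rw [S.iso g hg, T_iso S (hA' x' hx'A)]))
  rw [hb, moved_conj, Submodule.mem_map]
  exact ⟨T x', hx'm, Matrix.toLin'_apply _ _⟩

/-- A rational vector of a given value orthogonal to a few. -/
theorem exists_val {k : ℕ} (s : Fin k → ι → F₀) (hk : 2 * k + 3 ≤ Fintype.card ι) (c : F₀) :
    ∃ d, Q₀ d = c ∧ ∀ i, ⟪d, s i⟫₀ = 0 := by
  have hn : finrank F₀ (ι → F₀) = Fintype.card ι := Module.finrank_pi F₀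
  obtain ⟨z, hz, hzs, hzt⟩ := exists_sing_list S.pnd₀ s s (by omega)
  obtain ⟨w, hwp, hw, hzw⟩ := exists_partner (A := Submodule.span F₀ (Set.range s)) S.pnd₀ hz
    (perp_span (by rintro b ⟨i, rfl⟩; exact hzs i)) hzt
  refine ⟨z + c • w, by rw [q_add, q_smul, p_smul_right, hz, hw, hzw]; ring, fun i => ?_⟩
  rw [polar_add_left, p_smul_left, hzs, mem_perp.mp hwp _ (Submodule.subset_span ⟨i, rfl⟩), mul_zero, add_zero]

/-- The data of a rational involution with a commutator space of dimension at most four, odd characteristic. -/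
theorem invol_data_ten (h10 : 10 ≤ Fintype.card ι) (h2 : (2 : F) ≠ 0) {j : GL ι F} (hjK : j ∈ K) (hj2 : j * j = 1)
    (hj1 : j ≠ 1) (hrat : ∀ x, ∃ w, (j : Matrix ι ι F) *ᵥ T x = T w) (h4 : finrank F (moved j) ≤ 4) :
    ∃ (A : Submodule F₀ (ι → F₀)) (x : ι → F₀), moved j = Tsp T A ∧ Room Q₀ A ∧ x ∈ A ∧ Pointed (F := F) Q₀ x := by
  obtain ⟨A, hA⟩ := moved_rational S hrat
  have hd : finrank F₀ A = finrank F (moved j) := by rw [hA, finrank_Tsp S]
  obtain ⟨x, hx, hx0⟩ := Submodule.exists_mem_ne_zero_of_ne_bot (p := A) fun e => hj1 (moved_eq_bot (by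
    refine Submodule.finrank_eq_zero.mp ?_
    rw [← hd, e, finrank_bot]))
  refine ⟨A, x, hA, ?_, hx, hx0, ?_⟩
  · rw [Room, moved_nondeg S h2 hjK hj2 hA, finrank_bot, Module.finrank_pi]
    omega
  · by_cases hxQ : Q₀ x = 0
    · exact Or.inl hxQ
    · exact Or.inr ⟨h2, hxQ⟩

/-- Propagation from a pointed vector, dimension at least ten. -/
theorem good_of_pointed_ten (h10 : 10 ≤ Fintype.card ι) (hI : ¬ Irr Q T Q₀ K) {A : Submodule F₀ (ι → F₀)}
    (hA : Room Q₀ A) {g : GL ι F} (hg : g ∈ K) {x : ι → F₀} (hx : Pointed (F := F) Q₀ x)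
    (hgx : (g : Matrix ι ι F) *ᵥ T x ∈ Tsp T A) : Good T g := by
  obtain ⟨hx0, hx' | ⟨h2, hx'⟩⟩ := hx
  · exact good_of_point' S hI h10 hA hg hx' hx0 hgx
  · exact good_of_vector' S hI h10 h2 hA hg hx' hgx

/-- A product of two reflections with rational axes, when the value ratio is a square. -/
theorem exists_pair_invol (h2 : (2 : F) ≠ 0)
    (hin : ∀ g : GL ι F, g ∈ omegaGL ⇑Q → (∀ x, ∃ w, (g : Matrix ι ι F) *ᵥ T x = T w) → g ∈ K)
    {p q : ι → F₀} {c : F₀} {s : F} (hp : Q₀ p = 1) (hq : Q₀ q = c) (hs : s * s = (c : F)) (hc : c ≠ 0)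
    (hpq : ⟪p, q⟫₀ = 0) :
    ∃ a : GL ι F, a ∈ K ∧ a * a = 1 ∧ a ≠ 1 ∧ (∀ x, ∃ w, (a : Matrix ι ι F) *ᵥ T x = T w) ∧
      finrank F (moved a) ≤ 2 ∧ T p ∈ moved a ∧ T q ∈ moved a ∧
      moved a ≤ Submodule.span F (Set.range ![T p, T q]) := by
  have hc' : (c : F) ≠ 0 := fun e => hc (Subtype.ext e)
  have hs0 : s ≠ 0 := fun e => hc' (by rw [← hs, e, mul_zero])
  have hp' : Q (T p) = 1 := by rw [S.hT, hp, Subfield.coe_one]
  obtain ⟨q', hq'd⟩ : ∃ q', q' = s⁻¹ • T q := ⟨_, rfl⟩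
  have hq' : Q q' = 1 := by rw [hq'd, q_smul, S.hT, hq, ← hs]; field_simp
  have hpq' : ⟪T p, q'⟫ = 0 := by rw [hq'd, p_smul_right, T_orth S hpq, mul_zero]
  obtain ⟨a, ha, hax⟩ := ONotMax.exists_refl_pair S.pnd (u := T p) (w := q') (by rw [hp']; exact one_ne_zero)
    (hq'.trans hp'.symm)
  have hform : ∀ x, (a : Matrix ι ι F) *ᵥ x = x - ⟪T p, x⟫ • T p - ((c : F)⁻¹ * ⟪T q, x⟫) • T q := fun x => by
    rw [hax, refl_two hp' hq' hpq', hq'd, p_smul_left, smul_smul, ← hs]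
    congr 2
    field_simp
  have hrat : ∀ x, ∃ w, (a : Matrix ι ι F) *ᵥ T x = T w := fun x => by
    refine ⟨x - ⟪p, x⟫₀ • p - (c⁻¹ * ⟪q, x⟫₀) • q, ?_⟩
    rw [hform, T_polar S, T_polar S, T_sub S, T_sub S, S.T_smul, S.T_smul, Subfield.coe_mul, Subfield.coe_inv]
  have hpp : ⟪T p, T p⟫ = 2 := by rw [p_self, hp', mul_one]
  have hqq : ⟪T q, T q⟫ = 2 * (c : F) := by rw [p_self, S.hT, hq]
  have mp : T p ∈ moved a := mem_moved.mpr ⟨(-(2 : F)⁻¹) • T p, by
    rw [Matrix.mulVec_smul, hform, hpp, T_orth' S hpq]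
    match_scalars <;> field_simp <;> ring⟩
  have mq : T q ∈ moved a := mem_moved.mpr ⟨(-(2 : F)⁻¹) • T q, by
    rw [Matrix.mulVec_smul, hform, hqq, T_orth S hpq]
    match_scalars <;> field_simp <;> ring⟩
  have hle : moved a ≤ Submodule.span F (Set.range ![T p, T q]) := fun v hv => by
    obtain ⟨y, rfl⟩ := mem_moved.mp hv
    rw [hform]
    have m0 : T p ∈ Submodule.span F (Set.range ![T p, T q]) := Submodule.subset_span ⟨0, rfl⟩
    have m1 : T q ∈ Submodule.span F (Set.range ![T p, T q]) := Submodule.subset_span ⟨1, rfl⟩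
    convert Submodule.neg_mem _ (Submodule.add_mem _ (Submodule.smul_mem _ ⟪T p, y⟫ m0)
      (Submodule.smul_mem _ ((c : F)⁻¹ * ⟪T q, y⟫) m1)) using 1
    abel
  refine ⟨a, hin a ha hrat, gl_ext_mulVec fun x => ?_, fun e => ?_, hrat,
    (Submodule.finrank_mono hle).trans (finrank_span_list (F := F) _), mp, mq, hle⟩
  · rw [gl_mul_mulVec, hform, hform, Units.val_one, Matrix.one_mulVec]
    simp only [polar_sub_right, p_smul_right, hpp, hqq, T_orth S hpq, T_orth' S hpq]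
    match_scalars <;> field_simp <;> ring
  · subst e
    obtain ⟨z, hz⟩ := mem_moved.mp mp
    rw [Units.val_one, Matrix.one_mulVec, sub_self] at hz
    rw [← hz, QuadraticMap.map_zero] at hp'
    exact zero_ne_one hp'

/-- Everything is proportional to rational, odd characteristic and square rational values, dimension at least ten. -/
theorem all_good_odd_ten (h10 : 10 ≤ Fintype.card ι) (h2 : (2 : F) ≠ 0) (hsq : ∀ c : F₀, ∃ s : F, s * s = (c : F))
    (hI : ¬ Irr Q T Q₀ K)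
    (hin : ∀ g : GL ι F, g ∈ omegaGL ⇑Q → (∀ x, ∃ w, (g : Matrix ι ι F) *ᵥ T x = T w) → g ∈ K)
    {g : GL ι F} (hg : g ∈ K) : Good T g := by
  have h20 : (2 : F₀) ≠ 0 := fun e =>
    h2 ((map_ofNat F₀.subtype 2).symm.trans ((congrArg F₀.subtype e).trans (map_zero _)))
  obtain ⟨c, hc⟩ : ∃ c : F₀, ¬ IsSquare c :=
    FiniteField.exists_nonsquare (ringChar_ne_two h20)
  have hc0 : c ≠ 0 := fun e => hc (e ▸ IsSquare.zero)
  obtain ⟨d₁, h1, -⟩ := exists_unit S (k := 0) ![] (by omega)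
  obtain ⟨d₂, h2', h2s⟩ := exists_unit S ![d₁] (by omega)
  obtain ⟨q, hq, hqs⟩ := exists_val S ![d₁] (by omega) c
  have o12 : ⟪d₁, d₂⟫₀ = 0 := by rw [polar_comm]; exact h2s 0
  have o1q : ⟪d₁, q⟫₀ = 0 := by rw [polar_comm]; exact hqs 0
  obtain ⟨s, hs⟩ := hsq c
  obtain ⟨a, haK, ha2, ha1, har, had, hm₁, hm₂, -⟩ :=
    exists_pair_invol S h2 hin h1 h2' (s := 1) (by rw [Subfield.coe_one, one_mul]) one_ne_zero o12
  obtain ⟨a', ha'K, ha'2, ha'1, ha'r, ha'd, -, -, hle'⟩ := exists_pair_invol S h2 hin h1 hq hs hc0 o1q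
  have hnc : ∀ y ∈ K, y * a * y⁻¹ ≠ a' := by
    intro y hy e
    obtain ⟨B, hB⟩ : ∃ B, B = Submodule.span F₀ (Set.range ![d₁, q]) := ⟨_, rfl⟩
    have hspan : ∀ {v}, v ∈ moved a → (y : Matrix ι ι F) *ᵥ v ∈ Submodule.span F (Set.range ![T d₁, T q]) :=
      fun {v} hv => hle' (by rw [← e, moved_conj, Submodule.mem_map]; exact ⟨v, hv, Matrix.toLin'_apply _ _⟩)
    have hgood : Good T y := good_of_vector' S hI h10 h2 (hB ▸ room_two S h10 ![d₁, q]) hy
      (x := d₁) (by rw [h1]; exact one_ne_zero) (by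
        refine (Submodule.span_le.mpr ?_ : Submodule.span F (Set.range ![T d₁, T q]) ≤ Tsp T B) (hspan hm₁)
        rintro _ ⟨i, rfl⟩
        fin_cases i
        · exact mem_Tsp S (hB ▸ Submodule.subset_span ⟨0, rfl⟩)
        · exact mem_Tsp S (hB ▸ Submodule.subset_span ⟨1, rfl⟩))
    obtain ⟨μ, hμ, hw⟩ := hgood
    obtain ⟨w₁, hw₁⟩ := hw d₁
    obtain ⟨w₂, hw₂⟩ := hw d₂
    have hcoord : ∀ {x w : ι → F₀}, T x ∈ moved a → (y : Matrix ι ι F) *ᵥ T x = μ • T w →
        ∃ α β : F₀, w = α • d₁ + β • q := by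
      intro x w hx hxw
      have hm := hspan hx
      rw [hxw] at hm
      have hm' := Submodule.smul_mem _ μ⁻¹ hm
      rw [smul_smul, inv_mul_cancel₀ hμ, one_smul, Submodule.mem_span_range_iff_exists_fun] at hm'
      obtain ⟨k, hk⟩ := hm'
      simp only [Fin.sum_univ_two, Matrix.cons_val_zero, Matrix.cons_val_one] at hk
      refine ⟨⟪w, d₁⟫₀ / 2, ⟪w, q⟫₀ / (2 * c), sub_eq_zero.mp (T_injective S ?_)⟩
      have e1 : ⟪T w, T d₁⟫ = k 0 * 2 := by
        rw [← hk, polar_add_left, p_smul_left, p_smul_left, T_orth' S o1q, p_self, S.hT, h1, Subfield.coe_one]; ring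
      have e2 : ⟪T w, T q⟫ = k 1 * (2 * (c : F)) := by
        rw [← hk, polar_add_left, p_smul_left, p_smul_left, T_orth S o1q, p_self, S.hT, hq]; ring
      rw [T_polar S] at e1 e2
      have hc' : (c : F) ≠ 0 := fun e' => hc0 (Subtype.ext e')
      rw [T_sub S, S.T_add, S.T_smul, S.T_smul, Subfield.coe_div, Subfield.coe_div, Subfield.coe_mul,
        show ((2 : F₀) : F) = 2 from map_ofNat F₀.subtype 2, e1, e2, mul_div_cancel_right₀ _ h2,
        mul_div_cancel_right₀ _ (mul_ne_zero h2 hc'), hk, sub_self]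
    obtain ⟨α, β, rfl⟩ := hcoord hm₁ hw₁
    obtain ⟨γ, δ, rfl⟩ := hcoord hm₂ hw₂
    have q1 := S.iso y hy (T d₁)
    have q2 := S.iso y hy (T d₂)
    have q3 := iso_polar S hy (T d₁) (T d₂)
    rw [hw₁, q_smul, S.hT, S.hT, h1, Subfield.coe_one] at q1
    rw [hw₂, q_smul, S.hT, S.hT, h2', Subfield.coe_one] at q2
    rw [hw₁, hw₂, p_smul_left, p_smul_right, ← mul_assoc, T_polar S, T_orth S o12] at q3
    obtain ⟨d, hd⟩ : ∃ d : F₀, (d : F) = μ * μ := by
      refine ⟨(Q₀ (α • d₁ + β • q))⁻¹, ?_⟩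
      rw [Subfield.coe_inv]
      exact (eq_inv_of_mul_eq_one_left q1).symm
    rw [← hd] at q1 q2 q3
    have p1 : d * (α * α + c * (β * β)) = 1 := by
      refine Eq.trans ?_ (Subtype.ext (by rw [Subfield.coe_mul]; exact q1) : d * Q₀ (α • d₁ + β • q) = 1)
      rw [q_add, q_smul, q_smul, p_smul_left, p_smul_right, h1, hq, o1q]; ring
    have p2 : d * (γ * γ + c * (δ * δ)) = 1 := by
      refine Eq.trans ?_ (Subtype.ext (by rw [Subfield.coe_mul]; exact q2) : d * Q₀ (γ • d₁ + δ • q) = 1)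
      rw [q_add, q_smul, q_smul, p_smul_left, p_smul_right, h1, hq, o1q]; ring
    have p3 : d * (α * γ + c * (β * δ)) = 0 := by
      have h : d * ⟪α • d₁ + β • q, γ • d₁ + δ • q⟫₀ = 0 :=
        Subtype.ext (by rw [Subfield.coe_mul, Subfield.coe_zero]; exact q3)
      rw [polar_add_left, polar_add_right, polar_add_right] at h
      simp only [p_smul_left, p_smul_right, p_self, h1, hq, o1q, polar_comm Q₀ q d₁] at h
      exact mul_left_cancel₀ h20 (by rw [mul_zero]; linear_combination h)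
    refine hc ⟨(d * (α * δ - β * γ))⁻¹, ?_⟩
    rw [← mul_inv]
    exact eq_inv_of_mul_eq_one_left (by
      linear_combination d * (γ * γ + c * (δ * δ)) * p1 + p2 - d * (α * γ + c * (β * δ)) * p3)
  obtain ⟨b, hb⟩ : ∃ b, b = g * a' * g⁻¹ := ⟨_, rfl⟩
  have hbK : b ∈ K := hb ▸ mul_mem (mul_mem hg ha'K) (inv_mem hg)
  have hb2 : b * b = 1 := by
    rw [hb, show g * a' * g⁻¹ * (g * a' * g⁻¹) = g * (a' * a') * g⁻¹ by group, ha'2]; group
  have hb1 : b ≠ 1 := fun e => ha'1 (by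
    rw [show a' = g⁻¹ * (g * a' * g⁻¹) * g by group, ← hb, e]; group)
  obtain ⟨j, hjK, hj2, hj1, hja, hjb, y, hyK, hy⟩ := USub.exists_commuting haK hbK ha2 hb2 (fun y hy e =>
    hnc (g⁻¹ * y) (mul_mem (inv_mem hg) hy) (by
      rw [show g⁻¹ * y * a * (g⁻¹ * y)⁻¹ = g⁻¹ * (y * a * y⁻¹) * g by group, e, hb]; group))
  have hbd : finrank F (moved b) ≤ 2 := by rw [hb, finrank_moved_conj]; exact ha'd
  have hjd : finrank F (moved j) ≤ 4 := by
    have h := finrank_moved_mul (j * a) a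
    rw [mul_assoc, ha2, mul_one] at h
    have hja' : finrank F (moved (j * a)) ≤ 2 := by
      rcases hy with e | e <;> rw [← e, finrank_moved_conj]
      exacts [had, hbd]
    omega
  obtain ⟨Aa, xa, hAa, hAaR, hxa, hxaP⟩ := invol_data_ten S h10 h2 haK ha2 ha1 har (by omega)
  have hjg : Good T j := good_of_pointed_ten S h10 hI hAaR hjK hxaP (hAa ▸ moved_commute hja (hAa ▸ mem_Tsp S hxa))
  obtain ⟨Aj, xj, hAj, hAjR, hxj, hxjP⟩ :=
    invol_data_ten S h10 h2 hjK hj2 hj1 (rat_of_good' S (by omega) hjK hj2 (by omega) hjg) hjd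
  have hbg : Good T b :=
    good_of_pointed_ten S h10 hI hAjR hbK hxjP (hAj ▸ moved_commute hjb.symm (hAj ▸ mem_Tsp S hxj))
  obtain ⟨Ab, xb, hAb, hAbR, -, -⟩ :=
    invol_data_ten S h10 h2 hbK hb2 hb1 (rat_of_good' S (by omega) hbK hb2 (by omega) hbg) (by omega)
  obtain ⟨A', x', hA', -, hx', hx'P⟩ := invol_data_ten S h10 h2 ha'K ha'2 ha'1 ha'r (by omega)
  refine good_of_pointed_ten S h10 hI hAbR hg hx'P ?_
  rw [← hAb, hb, moved_conj, Submodule.mem_map]
  exact ⟨T x', hA' ▸ mem_Tsp S hx', Matrix.toLin'_apply _ _⟩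

omit S [Fintype F₀] in
/-- The elements of a quadratically extended subfield are squares. -/
theorem sq_of_quadratic (h2 : (2 : F) ≠ 0) (F₀ : Subfield F) (hcard : Fintype.card F = Nat.card F₀ ^ 2) (c : F₀) :
    ∃ s : F, s * s = (c : F) := by
  haveI : Fintype F₀ := Fintype.ofFinite F₀
  by_cases hc : c = 0
  · exact ⟨0, by simp [hc]⟩
  have hc' : (c : F) ≠ 0 := fun e => hc (Subtype.ext e)
  have hodd := FiniteField.odd_card_of_char_ne_two (F := F) (ringChar_ne_two h2)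
  obtain ⟨s, hs⟩ := (FiniteField.isSquare_iff (ringChar_ne_two h2) hc').mpr (by
    rw [Nat.card_eq_fintype_card] at hcard
    obtain ⟨m, hm⟩ : Odd (Fintype.card F₀) := by
      have := Nat.odd_iff.mpr hodd
      rw [hcard] at this
      exact Nat.Odd.of_mul_left (by rwa [pow_two] at this)
    have h1 := FiniteField.pow_card_sub_one_eq_one c hc
    rw [hm, Nat.add_sub_cancel] at h1
    have h1' : (c : F) ^ (2 * m) = 1 := by rw [← SubmonoidClass.coe_pow, h1, Subfield.coe_one]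
    rw [hcard, hm, show ((2 * m + 1) ^ 2) / 2 = 2 * m * (m + 1) by
      rw [show (2 * m + 1) ^ 2 = 2 * (2 * m * (m + 1)) + 1 by ring]; omega, pow_mul, h1', one_pow])
  exact ⟨s, hs.symm⟩

omit S [Fintype F₀] in
/-- The subfield group is maximal, dimension at least ten. -/
theorem isMaximal_ten {Q : (ι → F) → F} (hQ : IsNondegenerateQuadraticForm Q) (hn : 10 ≤ Fintype.card ι)
    (F₀ : Subfield F) {r : ℕ} (hr : r.Prime) (hcard : Fintype.card F = Nat.card F₀ ^ r) (P : GL ι F)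
    (hP : IsQuadFormRationalStructure Q F₀ P) :
    IsMaximalIn (omegaGL Q) (subfieldSubgroup F₀ P ⊓ omegaGL Q) := by
  classical
  by_cases h2 : (2 : F) = 0
  · exact isMaximal_of_good hQ (by omega) F₀ hr hcard P hP fun _ _ _ _ _ _ S hI hKΩ _ _ hg =>
      all_good_two_ten S hn h2 hI hKΩ hg
  rcases hr.eq_two_or_odd' with rfl | hodd
  · exact isMaximal_of_good hQ (by omega) F₀ hr hcard P hP fun _ _ _ _ _ _ S hI _ hin _ hg =>
      all_good_odd_ten S hn h2 (sq_of_quadratic h2 F₀ hcard) hI hin hg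
  · exact OSub7.isMaximal hQ h2 (by omega) hr (Or.inr hodd) hcard P hP

end Cfsg.Agent.Classical.OSubAll
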