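/-
A rational structure on a quadratic space: Eichler elements in an overgroup of the rational ones.
-/
import Cfsg.Agent.Lib.Classical.OInUTools
import Cfsg.Agent.Lib.Classical.OrthNotMax

set_option autoImplicit false
set_option linter.unusedSectionVars false
set_option linter.style.haveILetI false

namespace Cfsg.Agent.Classical.OSub

open Matrix Cfsg.Geo
open Cfsg.Agent.Classical

variable {ι : Type} [Fintype ι] [DecidableEq ι] {F : Type*} [Field F] {F₀ : Subfield F}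
  {Q : (ι → F) → F} {T : (ι → F₀) → ι → F} {Q₀ : (ι → F₀) → F₀} {K : Subgroup (GL ι F)}

/-- The polar form. -/
local notation "⟪" x ", " y "⟫" => QuadraticMap.polar Q x y

/-- The rational polar form. -/
local notation "⟪" x ", " y "⟫₀" => QuadraticMap.polar Q₀ x y

/-- The Eichler element with centre `a` and vector `y` lies in the group. -/
def InE (Q : (ι → F) → F) (K : Subgroup (GL ι F)) (a y : ι → F) : Prop :=
  ∃ k ∈ K, ∀ x, (k : Matrix ι ι F) *ᵥ x = eichler Q a y x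

/-- The setting. -/
structure Setup (Q : (ι → F) → F) (T : (ι → F₀) → ι → F) (Q₀ : (ι → F₀) → F₀) (K : Subgroup (GL ι F)) : Prop where
  hQ : IsNondegenerateQuadraticForm Q
  D : OSim.Data Q₀
  big : 13 ≤ Fintype.card ι
  two : (2 : F) ≠ 0
  T_add : ∀ u w, T (u + w) = T u + T w
  T_smul : ∀ (c : F₀) u, T (c • u) = (c : F) • T u
  T_span : ∀ v : ι → F, ∃ μ : ι → F, v = ∑ i, μ i • T (Pi.single i 1)
  hT : ∀ u, Q (T u) = (Q₀ u : F)
  iso : ∀ k ∈ K, ∀ x, Q ((k : Matrix ι ι F) *ᵥ x) = Q x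
  base : ∀ a y, Q₀ a = 0 → QuadraticMap.polar Q₀ a y = 0 → InE Q K (T a) (T y)

variable (S : Setup Q T Q₀ K)

include S

theorem B_symm (x y : ι → F) : ⟪x, y⟫ = ⟪y, x⟫ := QuadraticMap.polar_comm _ _ _

theorem add_left (x y z : ι → F) : ⟪x + y, z⟫ = ⟪x, z⟫ + ⟪y, z⟫ := S.hQ.polar_bilinear.add_left x y z

theorem smul_left (c : F) (x z : ι → F) : ⟪c • x, z⟫ = c * ⟪x, z⟫ := S.hQ.polar_bilinear.smul_left c x z

theorem add_right (x y z : ι → F) : ⟪x, y + z⟫ = ⟪x, y⟫ + ⟪x, z⟫ := S.hQ.polar_bilinear.add_right x y z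

theorem smul_right (c : F) (x z : ι → F) : ⟪x, c • z⟫ = c * ⟪x, z⟫ := S.hQ.polar_bilinear.smul_right c x z

theorem zero_left (z : ι → F) : ⟪0, z⟫ = 0 := by rw [← zero_smul F (0 : ι → F), smul_left S, zero_mul]

theorem zero_right (z : ι → F) : ⟪z, 0⟫ = 0 := by rw [← zero_smul F (0 : ι → F), smul_right S, zero_mul]

theorem neg_left (x z : ι → F) : ⟪-x, z⟫ = -⟪x, z⟫ := by rw [← neg_one_smul F x, smul_left S, neg_one_mul]

theorem neg_right (x z : ι → F) : ⟪x, -z⟫ = -⟪x, z⟫ := by rw [← neg_one_smul F z, smul_right S, neg_one_mul]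

theorem sub_left (x y z : ι → F) : ⟪x - y, z⟫ = ⟪x, z⟫ - ⟪y, z⟫ := by
  rw [sub_eq_add_neg, add_left S, neg_left S, sub_eq_add_neg]

theorem sub_right (x y z : ι → F) : ⟪x, y - z⟫ = ⟪x, y⟫ - ⟪x, z⟫ := by
  rw [sub_eq_add_neg, add_right S, neg_right S, sub_eq_add_neg]

theorem self_eq (x : ι → F) : ⟪x, x⟫ = 2 * Q x := polar_self_eq S.hQ x

theorem self_zero {x : ι → F} (h : Q x = 0) : ⟪x, x⟫ = 0 := by rw [self_eq S, h, mul_zero]

theorem quad_neg (x : ι → F) : Q (-x) = Q x := by rw [← neg_one_smul F x, S.hQ.smul]; ring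

theorem T_zero : T 0 = 0 := by rw [← zero_smul F₀ (0 : ι → F₀), S.T_smul, Subfield.coe_zero, zero_smul]

theorem T_neg (u : ι → F₀) : T (-u) = -T u := by
  rw [← neg_one_smul F₀ u, S.T_smul, Subfield.coe_neg, Subfield.coe_one, neg_one_smul]

theorem T_sub (u w : ι → F₀) : T (u - w) = T u - T w := by
  rw [sub_eq_add_neg, S.T_add, T_neg S, sub_eq_add_neg]

theorem T_polar (u w : ι → F₀) : ⟪T u, T w⟫ = ((⟪u, w⟫₀ : F₀) : F) := by
  simp only [QuadraticMap.polar, ← S.T_add, S.hT, Subfield.coe_sub]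

theorem T_orth {u w : ι → F₀} (h : ⟪u, w⟫₀ = 0) : ⟪T u, T w⟫ = 0 := by rw [T_polar S, h]; rfl

theorem T_iso {u : ι → F₀} (h : Q₀ u = 0) : Q (T u) = 0 := by rw [S.hT, h]; rfl

theorem eq_zero_of_perp {v : ι → F} (h : ∀ u, ⟪v, T u⟫ = 0) : v = 0 := by
  by_contra hv
  obtain ⟨x, hx⟩ := (S.hQ.nondegenerate v hv).2
  obtain ⟨μ, rfl⟩ := S.T_span x
  refine hx ?_
  let L : (ι → F) →ₗ[F] F :=
    { toFun := fun y => ⟪v, y⟫, map_add' := fun a b => add_right S v a b,
      map_smul' := fun c y => smul_right S c v y }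
  change L _ = 0
  rw [map_sum]
  refine Finset.sum_eq_zero fun i _ => ?_
  rw [map_smul]
  change μ i • ⟪v, _⟫ = 0
  rw [h, smul_zero]

/-- A vector pairing rationally with all rational vectors is rational. -/
theorem exists_real {v : ι → F} (h : ∀ u, ⟪v, T u⟫ ∈ F₀) : ∃ w, v = T w := by
  obtain ⟨w, hw⟩ := OSim.exists_rep S.D
    { toFun := fun u => (⟨⟪v, T u⟫, h u⟩ : F₀)
      map_add' := fun u u' => Subtype.ext (by simp only [S.T_add, add_right S, Subfield.coe_add])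
      map_smul' := fun c u => Subtype.ext (by simp only [S.T_smul, smul_right S, RingHom.id_apply, smul_eq_mul,
        Subfield.coe_mul]) }
  refine ⟨w, sub_eq_zero.mp (eq_zero_of_perp S fun u => ?_)⟩
  have e := congrArg Subtype.val (hw u)
  rw [sub_left S, T_polar S, OSim.symm S.D w u, e]
  exact sub_self _

theorem T_injective {u : ι → F₀} (h : T u = 0) : u = 0 :=
  OSim.eq_zero_of_perp S.D fun x => Subtype.ext (by rw [← T_polar S, h, zero_right S]; rfl)

theorem iso_polar {k : GL ι F} (hk : k ∈ K) (x y : ι → F) :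
    ⟪(k : Matrix ι ι F) *ᵥ x, (k : Matrix ι ι F) *ᵥ y⟫ = ⟪x, y⟫ := by
  simp only [QuadraticMap.polar, ← Matrix.mulVec_add, S.iso k hk]

theorem conj_polar {k : GL ι F} (hk : k ∈ K) (x y : ι → F) :
    ⟪((k⁻¹ : GL ι F) : Matrix ι ι F) *ᵥ x, y⟫ = ⟪x, (k : Matrix ι ι F) *ᵥ y⟫ := by
  rw [← iso_polar S hk, gl_mulVec_inv_cancel]

theorem InE.conj {a y : ι → F} (h : InE Q K a y) {k : GL ι F} (hk : k ∈ K) :
    InE Q K ((k : Matrix ι ι F) *ᵥ a) ((k : Matrix ι ι F) *ᵥ y) := by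
  obtain ⟨g, hg, hgv⟩ := h
  refine ⟨k * g * k⁻¹, mul_mem (mul_mem hk hg) (inv_mem hk), fun x => ?_⟩
  rw [gl_mul_mulVec, gl_mul_mulVec, hgv, eichler, eichler, Matrix.mulVec_sub, Matrix.mulVec_add,
    gl_mulVec_inv_cancel, Matrix.mulVec_smul, Matrix.mulVec_smul, conj_polar S hk, conj_polar S hk, S.iso k hk]

theorem eichler_zero (a x : ι → F) : eichler Q a 0 x = x := by
  simp [eichler, zero_right S, quad_zero S.hQ]

theorem inE_zero (a : ι → F) : InE Q K a 0 := ⟨1, one_mem K, fun x => by simp [eichler_zero S]⟩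

theorem InE.add {a y y' : ι → F} (ha : Q a = 0) (hy : ⟪a, y⟫ = 0) (hy' : ⟪a, y'⟫ = 0) (h : InE Q K a y)
    (h' : InE Q K a y') : InE Q K a (y + y') := by
  obtain ⟨g, hg, hgv⟩ := h
  obtain ⟨g', hg', hgv'⟩ := h'
  exact ⟨g * g', mul_mem hg hg', fun x => by rw [gl_mul_mulVec, hgv', hgv, eichler_comp S.hQ ha hy hy']⟩

theorem InE.neg {a y : ι → F} (ha : Q a = 0) (hy : ⟪a, y⟫ = 0) (h : InE Q K a y) : InE Q K a (-y) := by
  obtain ⟨g, hg, hgv⟩ := h
  refine ⟨g⁻¹, inv_mem hg, fun x => gl_mulVec_injective g ?_⟩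
  dsimp only
  rw [gl_mulVec_inv_cancel, hgv, eichler_comp S.hQ ha hy (by rw [neg_right S, hy, neg_zero]), add_neg_cancel,
    eichler_zero S]

theorem InE.scale {a y : ι → F} {l : F} (h : InE Q K (l • a) y) : InE Q K a (l • y) := by
  obtain ⟨g, hg, hgv⟩ := h
  refine ⟨g, hg, fun x => ?_⟩
  rw [hgv, eichler, eichler, smul_right S, smul_right S, S.hQ.smul, smul_smul, smul_smul]
  congr 1
  · rw [mul_comm]
  · congr 1; ring

theorem InE.unscale {a y : ι → F} {l : F} (h : InE Q K a (l • y)) : InE Q K (l • a) y := by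
  obtain ⟨g, hg, hgv⟩ := h
  refine ⟨g, hg, fun x => ?_⟩
  rw [hgv, eichler, eichler, smul_right S, smul_right S, S.hQ.smul, smul_smul, smul_smul]
  congr 1
  · rw [mul_comm]
  · congr 1; ring

theorem InE.swap {a y : ι → F} (ha : Q a = 0) (hy : Q y = 0) (h : InE Q K a y) : InE Q K y (-a) := by
  obtain ⟨g, hg, hgv⟩ := h
  refine ⟨g, hg, fun x => ?_⟩
  rw [hgv, eichler, eichler, hy, quad_neg S, ha, neg_right S]
  simp only [zero_mul, add_zero, neg_smul, smul_neg]
  abel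

theorem InE.shift {a y : ι → F} (ha : Q a = 0) (hy : ⟪a, y⟫ = 0) (s : F) (h : InE Q K a y) :
    InE Q K a (y + s • a) := by
  refine InE.add S ha hy (by rw [smul_right S, self_zero S ha, mul_zero]) h ⟨1, one_mem K, fun x => ?_⟩
  simp only [Units.val_one, Matrix.one_mulVec, eichler, smul_right S, S.hQ.smul, ha]
  module

theorem push_apply {e z : ι → F} (hez : ⟪e, z⟫ = 0) {k : GL ι F}
    (hk : ∀ x, (k : Matrix ι ι F) *ᵥ x = eichler Q e z x) {y : ι → F} (hye : ⟪y, e⟫ = 0) (hyz : ⟪y, z⟫ = 0) :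
    (k : Matrix ι ι F) *ᵥ y = y := by
  rw [hk, eichler, hye, hyz]; simp

/-- The second difference of a rational Eichler element. -/
theorem second_diff {a y : ι → F} {e z : ι → F₀} (ha : Q a = 0) (hy : ⟪a, y⟫ = 0) (he : Q₀ e = 0)
    (hez : ⟪e, z⟫₀ = 0) (hae : ⟪a, T e⟫ = 0) (haz : ⟪a, T z⟫ = 0) (h : InE Q K a y) :
    InE Q K a ((-2 * (Q₀ z : F) * ⟪y, T e⟫) • T e) := by
  have hez' : ⟪T e, T z⟫ = 0 := T_orth S hez
  have move : ∀ z', ⟪e, z'⟫₀ = 0 → ⟪a, T z'⟫ = 0 → InE Q K a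
      (y + ⟪y, T e⟫ • T z' - (⟪y, T z'⟫ + (Q₀ z' : F) * ⟪y, T e⟫) • T e) ∧
      ⟪a, y + ⟪y, T e⟫ • T z' - (⟪y, T z'⟫ + (Q₀ z' : F) * ⟪y, T e⟫) • T e⟫ = 0 := by
    intro z' hz' haz'
    obtain ⟨k, hk, hkv⟩ := S.base e z' he hz'
    refine ⟨?_, ?_⟩
    · have := InE.conj S h hk
      rwa [push_apply S (T_orth S hz') hkv hae haz', hkv, eichler, S.hT] at this
    · rw [sub_right S, add_right S, smul_right S, smul_right S, hy, hae, haz']; ring
  have hzn : ⟪e, -z⟫₀ = 0 := by rw [OSim.neg_right S.D, hez, neg_zero]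
  have hazn : ⟪a, T (-z)⟫ = 0 := by rw [T_neg S, neg_right S, haz, neg_zero]
  obtain ⟨h1, p1⟩ := move z hez haz
  obtain ⟨h2, p2⟩ := move (-z) hzn hazn
  have hyn : ⟪a, -y⟫ = 0 := by rw [neg_right S, hy, neg_zero]
  have hn := InE.neg S ha hy h
  have h12 := InE.add S ha p1 p2 h1 h2
  have p12 := add_right S a _ _ ▸ (by rw [p1, p2, add_zero] :
    ⟪a, y + ⟪y, T e⟫ • T z - (⟪y, T z⟫ + (Q₀ z : F) * ⟪y, T e⟫) • T e⟫ +
    ⟪a, y + ⟪y, T e⟫ • T (-z) - (⟪y, T (-z)⟫ + (Q₀ (-z) : F) * ⟪y, T e⟫) • T e⟫ = 0)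
  have h3 := InE.add S ha p12 hyn h12 hn
  have h4 := InE.add S ha (by rw [add_right S, p12, hyn, add_zero]) hyn h3 hn
  have hQn : Q₀ (-z) = Q₀ z := by
    rw [← neg_one_smul F₀ z, OSim.quad_smul S.D]; ring
  convert h4 using 1
  rw [T_neg S, neg_right S, hQn]
  module

/-- An irrational coefficient on a rational pair. -/
def Irr (Q : (ι → F) → F) (T : (ι → F₀) → ι → F) (Q₀ : (ι → F₀) → F₀) (K : Subgroup (GL ι F)) : Prop :=
  ∃ (a c : ι → F₀) (l : F), Q₀ a = 0 ∧ Q₀ c = 0 ∧ QuadraticMap.polar Q₀ a c = 0 ∧ a ≠ 0 ∧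
    c ∉ Submodule.span F₀ (Set.range ![a]) ∧ l ∉ F₀ ∧ InE Q K (T a) (l • T c)

omit S in
/-- The coefficient works on every rational pair. -/
def Coef (Q : (ι → F) → F) (T : (ι → F₀) → ι → F) (Q₀ : (ι → F₀) → F₀) (K : Subgroup (GL ι F)) (l : F) : Prop :=
  ∀ a c, Q₀ a = 0 → Q₀ c = 0 → QuadraticMap.polar Q₀ a c = 0 → InE Q K (T a) (l • T c)

variable [Fintype F₀]

/-- An irrational pairing with a rational isotropic vector. -/
theorem irr_of_pairing {a e : ι → F₀} {y : ι → F} (ha : Q₀ a = 0) (ha0 : a ≠ 0) (hy : ⟪T a, y⟫ = 0) (he : Q₀ e = 0)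
    (hae : ⟪a, e⟫₀ = 0) (hind : e ∉ Submodule.span F₀ (Set.range ![a])) (hbad : ⟪y, T e⟫ ∉ F₀)
    (h : InE Q K (T a) y) : Irr Q T Q₀ K := by
  obtain ⟨z, hz, hzs⟩ := OSim.exists_aniso S.D ![a, e] (by have := S.big; omega)
  have hez : ⟪e, z⟫₀ = 0 := by rw [OSim.symm S.D]; exact hzs 1
  have h1 := second_diff S (T_iso S ha) hy he hez (T_orth S hae)
    (T_orth S (by rw [OSim.symm S.D]; exact hzs 0)) h
  refine ⟨a, e, _, ha, he, hae, ha0, hind, fun hm => hbad ?_, h1⟩
  have h2 : (-2 : F) ∈ F₀ := neg_mem (by rw [← one_add_one_eq_two]; exact add_mem (one_mem _) (one_mem _))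
  have hne : (-2 : F) * (Q₀ z : F) ≠ 0 := mul_ne_zero (neg_ne_zero.mpr S.two) (fun e' => hz (Subtype.ext e'))
  have := mul_mem (inv_mem (mul_mem h2 (Q₀ z).2)) hm
  rwa [inv_mul_cancel_left₀ hne] at this

/-- One pair serves all. -/
theorem coef_of_pair {a c : ι → F₀} {l : F} (ha : Q₀ a = 0) (hc : Q₀ c = 0) (hac : ⟪a, c⟫₀ = 0) (ha0 : a ≠ 0)
    (hind : c ∉ Submodule.span F₀ (Set.range ![a])) (h : InE Q K (T a) (l • T c)) : Coef Q T Q₀ K l := by
  have one_move : ∀ a c c', Q₀ a = 0 → Q₀ c = 0 → Q₀ c' = 0 → ⟪a, c⟫₀ = 0 → ⟪a, c'⟫₀ = 0 → ⟪c, c'⟫₀ = 0 →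
      c ∉ Submodule.span F₀ (Set.range ![a]) → c' ∉ Submodule.span F₀ (Set.range ![a, c]) →
      InE Q K (T a) (l • T c) → InE Q K (T a) (l • T c') := by
    intro a c c' ha hc hc' hac hac' hcc hind hind' h
    obtain ⟨u, hu, hus, huc⟩ := OSim.exists_iso_val S.D (s := ![a, c' - c]) (a := c) (fun hm => by
      obtain ⟨x, y, e⟩ := OSim.mem_span2 S.D hm
      by_cases hy : y = 0
      · refine hind ?_
        rw [e, hy, zero_smul, add_zero]
        exact Submodule.smul_mem _ _ (Submodule.subset_span ⟨0, rfl⟩)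
      refine hind' ?_
      have h' : y • c' = (1 + y) • c + (-x) • a := by linear_combination (norm := module) -e
      rw [show c' = y⁻¹ • ((1 + y) • c + (-x) • a) by rw [← h', smul_smul, inv_mul_cancel₀ hy, one_smul]]
      exact Submodule.smul_mem _ _ (add_mem (Submodule.smul_mem _ _ (Submodule.subset_span ⟨1, rfl⟩))
        (Submodule.smul_mem _ _ (Submodule.subset_span ⟨0, rfl⟩)))) (by have := S.big; omega)
    have hua : ⟪u, a⟫₀ = 0 := hus 0
    have huw : ⟪u, c' - c⟫₀ = 0 := hus 1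
    obtain ⟨k, hk, hkv⟩ := S.base u (c' - c) hu huw
    have e1 : (k : Matrix ι ι F) *ᵥ T a = T a := push_apply S (T_orth S huw) hkv
      (T_orth S (by rw [OSim.symm S.D]; exact hua))
      (T_orth S (by rw [OSim.sub_right S.D, hac', hac, sub_self]))
    have e2 : (k : Matrix ι ι F) *ᵥ T c = T c' := by
      have hQ0 : Q₀ (c' - c) = 0 := by
        rw [sub_eq_add_neg, OSim.quad_sum S.D, ← neg_one_smul F₀ c, OSim.quad_smul S.D, hc', hc,
          OSim.smul_right S.D, OSim.symm S.D c' c, hcc]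
        ring
      rw [hkv, eichler, S.hT, hQ0, T_polar S c u, OSim.symm S.D c u, huc, T_orth S (u := c) (w := c' - c)
        (by rw [OSim.sub_right S.D, hcc, OSim.self_zero S.D hc, sub_self]), Subfield.coe_one, one_smul,
        Subfield.coe_zero, zero_mul, add_zero, zero_smul, sub_zero, ← S.T_add, add_sub_cancel]
    have := InE.conj S h hk
    rwa [e1, Matrix.mulVec_smul, e2] at this
  have move : ∀ a c c', Q₀ a = 0 → Q₀ c = 0 → Q₀ c' = 0 → ⟪a, c⟫₀ = 0 → ⟪a, c'⟫₀ = 0 →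
      c ∉ Submodule.span F₀ (Set.range ![a]) → c' ∉ Submodule.span F₀ (Set.range ![a]) →
      InE Q K (T a) (l • T c) → InE Q K (T a) (l • T c') := by
    intro a c c' ha hc hc' hac hac' hind hind' h
    obtain ⟨b, hb, hbs, hbt⟩ := OSim.exists_iso S.D ![a, c, c'] ![a, c, c'] (by norm_num) (by norm_num) (by have := S.big; omega)
    have hab : ⟪a, b⟫₀ = 0 := by rw [OSim.symm S.D]; exact hbs 0
    have hb1 : b ∉ Submodule.span F₀ (Set.range ![a]) := fun hm => hbt (Submodule.span_mono (by simp) hm)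
    refine one_move a b c' ha hb hc' hab hac' (hbs 2) hb1 (fun hm => ?_)
      (one_move a c b ha hc hb hac hab (by rw [OSim.symm S.D]; exact hbs 1) hind
        (fun hm => hbt (Submodule.span_mono (by
          intro x hx; simp only [Matrix.range_cons, Matrix.range_empty, Set.mem_union, Set.mem_singleton_iff] at hx ⊢
          tauto) hm)) h)
    obtain ⟨x, y, e⟩ := OSim.mem_span2 S.D hm
    by_cases hy : y = 0
    · refine hind' ?_
      rw [e, hy, zero_smul, add_zero]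
      exact Submodule.smul_mem _ _ (Submodule.subset_span ⟨0, rfl⟩)
    refine hbt ?_
    rw [show b = y⁻¹ • c' + (-(y⁻¹ * x)) • a by
      rw [e, smul_add, smul_smul, smul_smul, inv_mul_cancel₀ hy]; module]
    exact add_mem (Submodule.smul_mem _ _ (Submodule.subset_span ⟨2, rfl⟩))
      (Submodule.smul_mem _ _ (Submodule.subset_span ⟨0, rfl⟩))
  have flip : ∀ {a c : ι → F₀}, Q₀ a = 0 → Q₀ c = 0 → ⟪a, c⟫₀ = 0 → InE Q K (T a) (l • T c) →
      InE Q K (T c) (l • T a) := by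
    intro a c ha hc hac h
    have h1 := InE.scale S (InE.swap S (T_iso S ha) (by rw [S.hQ.smul, T_iso S hc, mul_zero]) h)
    have h2 := InE.neg S (T_iso S hc) (by
      rw [smul_right S, neg_right S, T_orth S (by rw [OSim.symm S.D]; exact hac), neg_zero, mul_zero]) h1
    rwa [smul_neg, neg_neg] at h2
  intro a' c' ha' hc' hac'
  by_cases ha'0 : a' = 0
  · rw [ha'0, T_zero S]
    exact ⟨1, one_mem K, fun x => by simp [eichler, zero_right S, smul_right S]⟩
  by_cases hc'a : c' ∈ Submodule.span F₀ (Set.range ![a'])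
  · obtain ⟨k, rfl⟩ := OSim.mem_span1 S.D hc'a
    have := InE.shift S (T_iso S ha') (zero_right S _) (l * (k : F)) (inE_zero S (T a'))
    rwa [zero_add, ← smul_smul, ← S.T_smul] at this
  obtain ⟨b, hb, hbs, hbt⟩ := OSim.exists_iso S.D ![a, a'] ![a, a'] (by norm_num) (by norm_num) (by have := S.big; omega)
  have hab : ⟪a, b⟫₀ = 0 := by rw [OSim.symm S.D]; exact hbs 0
  have hab' : ⟪a', b⟫₀ = 0 := by rw [OSim.symm S.D]; exact hbs 1
  have nb : ∀ x, x ≠ 0 → x ∈ Set.range ![a, a'] → x ∉ Submodule.span F₀ (Set.range ![b]) := fun x hx hxr hm => by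
    obtain ⟨k, hk⟩ := OSim.mem_span1 S.D hm
    have hk0 : k ≠ 0 := fun e => hx (by rw [hk, e, zero_smul])
    refine hbt ?_
    rw [show b = k⁻¹ • x by rw [hk, smul_smul, inv_mul_cancel₀ hk0, one_smul]]
    exact Submodule.smul_mem _ _ (Submodule.subset_span hxr)
  have h1 := move a c b ha hc hb hac hab hind (fun hm => hbt (Submodule.span_mono (by simp) hm)) h
  have h2 := move b a a' hb ha ha' (hbs 0) (hbs 1) (nb a ha0 ⟨0, rfl⟩) (nb a' ha'0 ⟨1, rfl⟩) (flip ha hb hab h1)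
  exact move a' b c' ha' hb hc' hab' hac' (fun hm => hbt (Submodule.span_mono (by simp) hm)) hc'a
    (flip hb ha' (hbs 1) h2)

theorem coef_mul {x y : F} (hx : Coef Q T Q₀ K x) (hy : Coef Q T Q₀ K y) : Coef Q T Q₀ K (x * y) := by
  obtain ⟨a, ha, -, hat⟩ := OSim.exists_iso S.D ![(0 : ι → F₀)] ![(0 : ι → F₀)] (by norm_num) (by norm_num) (by have := S.big; omega)
  have ha0 : a ≠ 0 := fun e => hat (by rw [e]; exact zero_mem _)
  obtain ⟨d, hd, hds, hdt⟩ := OSim.exists_iso S.D ![a] ![a] (by norm_num) (by norm_num) (by have := S.big; omega)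
  obtain ⟨c, hc, hcs, hct⟩ := OSim.exists_iso S.D ![a, d] ![a, d] (by norm_num) (by norm_num) (by have := S.big; omega)
  obtain ⟨c', hc', hcs', hcc⟩ := OSim.exists_iso_val S.D (s := ![a, d]) (a := c) hct (by have := S.big; omega)
  have hda : ⟪d, a⟫₀ = 0 := hds 0
  have hca : ⟪c, a⟫₀ = 0 := hcs 0
  have hcd : ⟪c, d⟫₀ = 0 := hcs 1
  have hc'a : ⟪c', a⟫₀ = 0 := hcs' 0
  have hc'd : ⟪c', d⟫₀ = 0 := hcs' 1
  obtain ⟨k, hk, hkv⟩ := hx a c ha hc (by rw [OSim.symm S.D]; exact hca)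
  have e1 : (k : Matrix ι ι F) *ᵥ T c' = T c' + (-x) • T a := by
    rw [hkv, eichler, smul_right S, T_orth S hc'a, T_polar S c' c, hcc, Subfield.coe_one]
    module
  have e2 : (k : Matrix ι ι F) *ᵥ T d = T d := by
    rw [hkv, eichler, T_orth S hda, smul_right S, T_orth S (by rw [OSim.symm S.D]; exact hcd)]
    simp
  have h1 := InE.conj S (hy c' d hc' hd hc'd) hk
  rw [e1, Matrix.mulVec_smul, e2] at h1
  have hQk : Q (T c' + (-x) • T a) = 0 := by
    rw [quad_add (Q := Q), T_iso S hc', S.hQ.smul, T_iso S ha, smul_right S, T_orth S hc'a]; ring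
  have h2 := InE.scale S (InE.swap S hQk (by rw [S.hQ.smul, T_iso S hd, mul_zero]) h1)
  have hdc' : ⟪d, c'⟫₀ = 0 := by rw [OSim.symm S.D]; exact hc'd
  have h3 := InE.add S (T_iso S hd) (by
      rw [smul_right S, neg_right S, add_right S, smul_right S, T_orth S hdc', T_orth S hda]; ring)
    (by rw [smul_right S, T_orth S hdc', mul_zero]) h2 (hy d c' hd hc' hdc')
  refine coef_of_pair S hd ha hda (fun e => hdt (by rw [e]; exact zero_mem _)) (fun hm => ?_) ?_
  · obtain ⟨r, hr⟩ := OSim.mem_span1 S.D hm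
    have hr0 : r ≠ 0 := fun e => ha0 (by rw [hr, e, zero_smul])
    refine hdt ?_
    rw [show d = r⁻¹ • a by rw [hr, smul_smul, inv_mul_cancel₀ hr0, one_smul]]
    exact Submodule.smul_mem _ _ (Submodule.subset_span ⟨0, rfl⟩)
  · convert h3 using 1
    module

/-- All coefficients, once one is irrational. -/
theorem coef_all [Fintype F] {r : ℕ} (hr : r.Prime) (hcard : Fintype.card F = Nat.card F₀ ^ r)
    (h : Irr Q T Q₀ K) (l : F) : Coef Q T Q₀ K l := by
  obtain ⟨a, c, l₀, ha, hc, hac, ha0, hind, hl₀, hin⟩ := h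
  have hbase : ∀ x : F₀, Coef Q T Q₀ K (x : F) := fun x a c ha hc hac => by
    have := S.base a (x • c) ha (by rw [OSim.smul_right S.D, hac, mul_zero])
    rwa [S.T_smul] at this
  have hadd : ∀ x y, Coef Q T Q₀ K x → Coef Q T Q₀ K y → Coef Q T Q₀ K (x + y) := fun x y hx hy a c ha hc hac => by
    rw [add_smul]
    exact InE.add S (T_iso S ha) (by rw [smul_right S, T_orth S hac, mul_zero])
      (by rw [smul_right S, T_orth S hac, mul_zero]) (hx a c ha hc hac) (hy a c ha hc hac)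
  have hpow : ∀ x, Coef Q T Q₀ K x → ∀ n : ℕ, Coef Q T Q₀ K (x ^ n) := fun x hx n => by
    induction n with
    | zero => simpa using hbase 1
    | succ n ih => rw [pow_succ]; exact coef_mul S ih hx
  let F₁ : Subfield F :=
    { carrier := {x | Coef Q T Q₀ K x}
      mul_mem' := fun hx hy => coef_mul S hx hy
      one_mem' := by simpa using hbase 1
      add_mem' := fun hx hy => hadd _ _ hx hy
      zero_mem' := by simpa using hbase 0
      neg_mem' := fun {x} hx => by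
        have := coef_mul S (hbase (-1)) hx
        simpa using this
      inv_mem' := fun x hx => by
        by_cases hx0 : x = 0
        · simpa [hx0] using hbase 0
        have h1 := FiniteField.pow_card_sub_one_eq_one x hx0
        have h2 := Fintype.one_lt_card (α := F)
        have e : x⁻¹ = x ^ (Fintype.card F - 2) := by
          refine inv_eq_of_mul_eq_one_right ?_
          rw [← pow_succ', show Fintype.card F - 2 + 1 = Fintype.card F - 1 by omega, h1]
        rw [e]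
        exact hpow x hx _ }
  have hle : F₀ ≤ F₁ := fun x hx => hbase ⟨x, hx⟩
  haveI : Fintype F₁ := Fintype.ofFinite F₁
  have htop : F₁ = ⊤ := by
    letI : Algebra F₀ F₁ := (Subfield.inclusion hle).toAlgebra
    have e1 := Module.natCard_eq_pow_finrank (K := F₀) (V := F₁)
    have e2 := Module.natCard_eq_pow_finrank (K := F₁) (V := F)
    rw [e1, ← pow_mul, Nat.card_eq_fintype_card (α := F), hcard] at e2
    have hq : 1 < Nat.card F₀ := Finite.one_lt_card
    have hjk := Nat.pow_right_injective hq e2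
    have hne : Module.finrank F₀ F₁ ≠ 1 := fun e => by
      rw [e, pow_one] at e1
      have : (F₀ : Set F) = (F₁ : Set F) := Set.eq_of_subset_of_ncard_le hle
        (by rw [← Nat.card_coe_set_eq, ← Nat.card_coe_set_eq]; exact e1.le) (Set.toFinite _)
      exact hl₀ (by
        rw [← SetLike.mem_coe, this]
        exact coef_of_pair S ha hc hac ha0 hind hin)
    rcases Nat.Prime.eq_one_or_self_of_dvd hr _ (Dvd.intro _ hjk.symm) with e | e
    · exact absurd e hne
    · rw [e] at e1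
      exact SetLike.coe_injective (Set.eq_of_subset_of_ncard_le (Set.subset_univ _)
        (by rw [Subfield.coe_top, Set.ncard_univ, ← Nat.card_coe_set_eq]; exact (Nat.card_eq_fintype_card.trans hcard).trans_le e1.ge)
        (Set.toFinite _))
  exact (show l ∈ F₁ from htop ▸ Subfield.mem_top l)

/-- All Eichler elements. -/
theorem full [Fintype F] {r : ℕ} (hr : r.Prime) (hcard : Fintype.card F = Nat.card F₀ ^ r) (h : Irr Q T Q₀ K)
    {e y : ι → F} (he : Q e = 0) (hey : ⟪e, y⟫ = 0) : InE Q K e y := by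
  have hC := coef_all S hr hcard h
  -- rational centres
  have hreal : ∀ a, Q₀ a = 0 → ∀ y, ⟪T a, y⟫ = 0 → InE Q K (T a) y := by
    intro a ha
    by_cases ha0 : a = 0
    · intro y _
      rw [ha0, T_zero S]
      exact ⟨1, one_mem K, fun x => by simp [eichler, zero_right S]⟩
    have hrat : ∀ w, ⟪a, w⟫₀ = 0 → ∀ l : F, InE Q K (T a) (l • T w) := by
      intro w haw l
      by_cases hw : Q₀ w = 0
      · exact hC l a w ha hw haw
      have hwa : w ∉ Submodule.span F₀ (Set.range ![a]) := fun hm => by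
        obtain ⟨k, rfl⟩ := OSim.mem_span1 S.D hm
        exact hw (by rw [OSim.quad_smul S.D, ha, mul_zero])
      obtain ⟨u, hu, hus, huw⟩ := OSim.exists_iso_val S.D hwa (by have := S.big; omega)
      have hau : ⟪a, u⟫₀ = 0 := by rw [OSim.symm S.D]; exact hus 0
      have hc1 : ⟪a, w + (-Q₀ w) • u⟫₀ = 0 := by
        rw [OSim.add_right S.D, OSim.smul_right S.D, haw, hau, mul_zero, add_zero]
      have h1 := hC l a (w + (-Q₀ w) • u) ha (by
        rw [OSim.quad_sum S.D, OSim.quad_smul S.D, hu, OSim.smul_right S.D, OSim.symm S.D w u, huw]; ring) hc1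
      have h2 := hC (l * (Q₀ w : F)) a u ha hu hau
      have h3 := InE.add S (T_iso S ha) (by rw [smul_right S, T_orth S hc1, mul_zero])
        (by rw [smul_right S, T_orth S hau, mul_zero]) h1 h2
      convert h3 using 1
      rw [S.T_add, S.T_smul, Subfield.coe_neg]
      module
    intro y hy
    obtain ⟨d, -, hda⟩ := OSim.exists_sep S.D (s := ![(0 : ι → F₀)]) (a := a) (fun hm => by
      obtain ⟨c, hc⟩ := OSim.mem_span1 S.D hm
      exact ha0 (by rw [hc, smul_zero]))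
    obtain ⟨μ, hμ⟩ := S.T_span y
    obtain ⟨w, hw⟩ : ∃ w : ι → ι → F₀, ∀ i, w i = Pi.single i 1 - ⟪Pi.single i 1, a⟫₀ • d := ⟨_, fun _ => rfl⟩
    have hwa : ∀ i, ⟪a, w i⟫₀ = 0 := fun i => by
      rw [hw, OSim.sub_right S.D, OSim.smul_right S.D, OSim.symm S.D a d, hda, OSim.symm S.D a]; ring
    let L : (ι → F) →ₗ[F] F :=
      { toFun := fun z => ⟪T a, z⟫, map_add' := fun p q => add_right S _ p q,
        map_smul' := fun c z => smul_right S c _ z }
    have hsum : y = ∑ i, μ i • T (w i) := by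
      have h0 : ∑ i, μ i * ((⟪Pi.single i 1, a⟫₀ : F₀) : F) = 0 := by
        have : L y = 0 := hy
        rw [hμ, map_sum] at this
        rw [← this]
        refine Finset.sum_congr rfl fun i _ => ?_
        rw [map_smul, smul_eq_mul]
        change _ = μ i * ⟪T a, T _⟫
        rw [T_polar S, OSim.symm S.D a]
      calc y = ∑ i, μ i • T (Pi.single i 1) := hμ
        _ = ∑ i, μ i • T (w i) + (∑ i, μ i * ((⟪Pi.single i 1, a⟫₀ : F₀) : F)) • T d := by
          rw [Finset.sum_smul, ← Finset.sum_add_distrib]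
          refine Finset.sum_congr rfl fun i _ => ?_
          rw [hw, T_sub S, S.T_smul]
          module
        _ = _ := by rw [h0, zero_smul, add_zero]
    rw [hsum]
    suffices hs : ∀ s : Finset ι, InE Q K (T a) (∑ i ∈ s, μ i • T (w i)) ∧
        ⟪T a, ∑ i ∈ s, μ i • T (w i)⟫ = 0 from (hs Finset.univ).1
    intro s
    induction s using Finset.induction with
    | empty => exact ⟨by rw [Finset.sum_empty]; exact inE_zero S _, by rw [Finset.sum_empty]; exact zero_right S _⟩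
    | insert i s hi ih =>
      have h0 : ⟪T a, μ i • T (w i)⟫ = 0 := by rw [smul_right S, T_orth S (hwa i), mul_zero]
      rw [Finset.sum_insert hi]
      exact ⟨InE.add S (T_iso S ha) h0 ih.2 (hrat _ (hwa i) _) ih.1, by rw [add_right S, h0, ih.2, add_zero]⟩
  by_cases he0 : e = 0
  · subst he0
    exact ⟨1, one_mem K, fun x => by simp [eichler, zero_right S]⟩
  -- a rational isotropic vector seeing the centre
  obtain ⟨a, ha, hea⟩ : ∃ a, Q₀ a = 0 ∧ ⟪e, T a⟫ ≠ 0 := by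
    by_contra hcon
    push Not at hcon
    refine he0 (eq_zero_of_perp S fun u => ?_)
    by_cases hu : Q₀ u = 0
    · exact hcon u hu
    obtain ⟨b, hb, -, hbu⟩ := OSim.exists_iso_val S.D (s := ![(0 : ι → F₀)]) (a := u) (fun hm => by
      obtain ⟨c, hc⟩ := OSim.mem_span1 S.D hm
      exact hu (by rw [hc, smul_zero, OSim.quad_zero' S.D])) (by have := S.big; omega)
    have h1 := hcon (u + (-Q₀ u) • b) (by
      rw [OSim.quad_sum S.D, OSim.quad_smul S.D, hb, OSim.smul_right S.D, OSim.symm S.D u b, hbu]; ring)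
    rw [S.T_add, S.T_smul, add_right S, smul_right S, hcon b hb, mul_zero, add_zero] at h1
    exact h1
  have ha0 : a ≠ 0 := fun h0 => hea (by rw [h0, T_zero S, zero_right S])
  obtain ⟨a₂, ha₂, -, ha2a⟩ := OSim.exists_iso_val S.D (s := ![(0 : ι → F₀)]) (a := a) (fun hm => by
    obtain ⟨c, hc⟩ := OSim.mem_span1 S.D hm
    exact ha0 (by rw [hc, smul_zero])) (by have := S.big; omega)
  obtain ⟨φ, hφ⟩ : ∃ φ, φ = ⟪e, T a⟫ := ⟨_, rfl⟩
  rw [← hφ] at hea
  obtain ⟨α, hα⟩ : ∃ α, α = ⟪e, T a₂⟫ := ⟨_, rfl⟩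
  obtain ⟨y₀, hy₀⟩ : ∃ y₀, y₀ = (-φ⁻¹) • (e - α • T a - φ • T a₂) := ⟨_, rfl⟩
  have haa₂ : ⟪T a, T a₂⟫ = 1 := by rw [T_polar S, OSim.symm S.D, ha2a]; rfl
  have hay : ⟪T a, y₀⟫ = 0 := by
    rw [hy₀, smul_right S, sub_right S, sub_right S, smul_right S, smul_right S, self_zero S (T_iso S ha), haa₂,
      B_symm S (T a) e, ← hφ]
    ring
  obtain ⟨k, hk, hkv⟩ := hreal a ha y₀ hay
  obtain ⟨ψ, hψ⟩ : ∃ ψ, ψ = α - (⟪e, y₀⟫ + Q y₀ * φ) := ⟨_, rfl⟩
  have hke : (k : Matrix ι ι F) *ᵥ e = ψ • T a + φ • T a₂ := by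
    rw [hkv, eichler, ← hφ, hψ]
    have e1 : φ • y₀ = -(e - α • T a - φ • T a₂) := by
      rw [hy₀, smul_smul, mul_neg, mul_inv_cancel₀ hea, neg_one_smul]
    rw [e1]
    module
  have hψ0 : ψ = 0 := by
    have h0 := S.iso k hk e
    rw [hke, he, quad_add (Q := Q), S.hQ.smul, S.hQ.smul, T_iso S ha, T_iso S ha₂, smul_left S, smul_right S, haa₂] at h0
    simpa [hea] using h0
  rw [hψ0, zero_smul, zero_add] at hke
  have hz : InE Q K (φ • T a₂) ((k : Matrix ι ι F) *ᵥ y) := InE.unscale S (hreal a₂ ha₂ _ (by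
    rw [smul_right S, ← smul_left S, ← hke, iso_polar S hk, hey]))
  rw [← hke] at hz
  have := InE.conj S hz (inv_mem hk)
  rwa [gl_inv_mulVec_cancel, gl_inv_mulVec_cancel] at this

end Cfsg.Agent.Classical.OSub
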