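/-
An element carrying a rational splitting to a rational splitting is proportional to a rational one, or gives an
irrational coefficient.
-/
import Cfsg.Agent.Lib.Classical.OSubTools

set_option autoImplicit false
set_option linter.unusedSectionVars false
set_option linter.style.haveILetI false

namespace Cfsg.Agent.Classical.OSub

open Matrix Cfsg.Geo
open Cfsg.Agent.Classical

variable {ι : Type} [Fintype ι] [DecidableEq ι] {F : Type*} [Field F] {F₀ : Subfield F} [Fintype F₀]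
  {Q : (ι → F) → F} {T : (ι → F₀) → ι → F} {Q₀ : (ι → F₀) → F₀} {K : Subgroup (GL ι F)}

/-- The polar form. -/
local notation "⟪" x ", " y "⟫" => QuadraticMap.polar Q x y

/-- The rational polar form. -/
local notation "⟪" x ", " y "⟫₀" => QuadraticMap.polar Q₀ x y

/-- Proportional to a rational map. -/
def Good (T : (ι → F₀) → ι → F) (g : GL ι F) : Prop :=
  ∃ μ : F, μ ≠ 0 ∧ μ * μ ∈ F₀ ∧ ∀ x, ∃ w, (g : Matrix ι ι F) *ᵥ T x = μ • T w

/-- A family whose span is non-degenerate. -/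
def Splits (Q₀ : (ι → F₀) → F₀) {k : ℕ} (s : Fin k → ι → F₀) : Prop :=
  ∀ v, ∃ p ∈ Submodule.span F₀ (Set.range s), ∀ j, QuadraticMap.polar Q₀ (v - p) (s j) = 0

variable (S : Setup Q T Q₀ K)

include S

theorem span_perp {k : ℕ} {s : Fin k → ι → F₀} {v : ι → F₀} (h : ∀ j, ⟪v, s j⟫₀ = 0) {p : ι → F₀}
    (hp : p ∈ Submodule.span F₀ (Set.range s)) : ⟪v, p⟫₀ = 0 := by
  induction hp using Submodule.span_induction with
  | mem x hx => obtain ⟨i, rfl⟩ := hx; exact h i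
  | zero => exact OSim.zero_right S.D v
  | add x y _ _ hx hy => rw [OSim.add_right S.D, hx, hy, add_zero]
  | smul c x _ hx => rw [OSim.smul_right S.D, hx, mul_zero]

theorem splits_zero {k : ℕ} {s : Fin k → ι → F₀} (hs : Splits Q₀ s) {v : ι → F₀}
    (hv : v ∈ Submodule.span F₀ (Set.range s)) (h : ∀ j, ⟪v, s j⟫₀ = 0) : v = 0 := by
  refine OSim.eq_zero_of_perp S.D fun x => ?_
  obtain ⟨p, hp, hxp⟩ := hs x
  have h1 := span_perp S hxp hv
  rw [OSim.sub_left S.D, OSim.symm S.D p v, span_perp S h hp, sub_zero] at h1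
  exact h1

/-- Isotropic vectors orthogonal to a family see everything outside its span. -/
theorem exists_iso_see {k : ℕ} {s : Fin k → ι → F₀} {a : ι → F₀}
    (hrad : ∀ v ∈ Submodule.span F₀ (Set.range s), (∀ j, ⟪v, s j⟫₀ = 0) → v ∈ Submodule.span F₀ (Set.range ![a]))
    (hk : k + 4 ≤ Fintype.card ι) {x : ι → F₀} (hx : x ∉ Submodule.span F₀ (Set.range s)) :
    ∃ z, Q₀ z = 0 ∧ (∀ j, ⟪z, s j⟫₀ = 0) ∧ ⟪z, x⟫₀ ≠ 0 := by
  obtain ⟨e, he, hes, het⟩ := OSim.exists_iso_wide S.D s ![a] (by omega)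
  have het' : e ∉ Submodule.span F₀ (Set.range s) := fun hm => het (hrad e hm hes)
  by_cases hex : ⟪e, x⟫₀ = 0
  swap
  · exact ⟨e, he, hes, hex⟩
  obtain ⟨y, hys, hye⟩ := OSim.exists_sep S.D het'
  obtain ⟨x0, hx0s, hx0x⟩ := OSim.exists_sep S.D hx
  have key : ∀ r, (∀ i, ⟪r, s i⟫₀ = 0) → ⟪r, e⟫₀ ≠ 0 → ⟪r, x⟫₀ ≠ 0 →
      ∃ z, Q₀ z = 0 ∧ (∀ j, ⟪z, s j⟫₀ = 0) ∧ ⟪z, x⟫₀ ≠ 0 := by
    intro r hrs hre hrx
    refine ⟨r + (-Q₀ r * (⟪r, e⟫₀)⁻¹) • e, ?_, fun i => ?_, ?_⟩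
    · rw [OSim.quad_sum S.D, OSim.quad_smul S.D, he, OSim.smul_right S.D, mul_assoc, inv_mul_cancel₀ hre]; ring
    · rw [OSim.add_left S.D, OSim.smul_left S.D, hrs, hes, mul_zero, add_zero]
    · rwa [OSim.add_left S.D, OSim.smul_left S.D, hex, mul_zero, add_zero]
  by_cases h1 : ⟪x0, e⟫₀ = 0
  swap
  · exact key x0 hx0s h1 (by rw [hx0x]; exact one_ne_zero)
  by_cases h2 : ⟪y, x⟫₀ = 0
  swap
  · exact key y hys (by rw [hye]; exact one_ne_zero) h2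
  exact key (x0 + y) (fun i => by rw [OSim.add_left S.D, hx0s, hys, add_zero])
    (by rw [OSim.add_left S.D, h1, hye, zero_add]; exact one_ne_zero)
    (by rw [OSim.add_left S.D, hx0x, h2, add_zero]; exact one_ne_zero)

/-- An additive property of isotropic vectors orthogonal to a family holds on the whole orthogonal space. -/
theorem perp_induction {k : ℕ} {s : Fin k → ι → F₀} {a : ι → F₀} (ha : Q₀ a = 0)
    (hrad : ∀ v ∈ Submodule.span F₀ (Set.range s), (∀ j, ⟪v, s j⟫₀ = 0) → v ∈ Submodule.span F₀ (Set.range ![a]))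
    (hk : k + 4 ≤ Fintype.card ι) {P : (ι → F₀) → Prop} (hiso : ∀ e, Q₀ e = 0 → (∀ j, ⟪e, s j⟫₀ = 0) → P e)
    (hadd : ∀ x y, P x → P y → P (x + y)) {v : ι → F₀} (hv : ∀ j, ⟪v, s j⟫₀ = 0) : P v := by
  by_cases hQv : Q₀ v = 0
  · exact hiso v hQv hv
  have hvs : v ∉ Submodule.span F₀ (Set.range s) := fun hm => by
    obtain ⟨c, rfl⟩ := OSim.mem_span1 S.D (hrad v hm hv)
    exact hQv (by rw [OSim.quad_smul S.D, ha, mul_zero])
  obtain ⟨z, hz, hzs, hzv⟩ := exists_iso_see S hrad hk hvs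
  have h1 : Q₀ (v + (-Q₀ v * (⟪z, v⟫₀)⁻¹) • z) = 0 := by
    rw [OSim.quad_sum S.D, OSim.quad_smul S.D, hz, OSim.smul_right S.D, OSim.symm S.D v z, mul_assoc,
      inv_mul_cancel₀ hzv]
    ring
  have h := hadd _ _ (hiso _ h1 fun j => by rw [OSim.add_left S.D, OSim.smul_left S.D, hv, hzs, mul_zero, add_zero])
    (hiso ((Q₀ v * (⟪z, v⟫₀)⁻¹) • z) (by rw [OSim.quad_smul S.D, hz, mul_zero])
      fun j => by rw [OSim.smul_left S.D, hzs, mul_zero])
  rwa [neg_mul, neg_smul, neg_add_cancel_right] at h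

/-- Products of pairings are rational. -/
theorem prod_rational (hI : ¬ Irr Q T Q₀ K) {k₂ : ℕ} (hk₂ : k₂ ≤ 6) {s₂ : Fin k₂ → ι → F₀} {u s : ι → F} {σ : F₀}
    (hu : Q u = 0) (hus : ⟪u, s⟫ = 0) (hsQ : Q s = (σ : F)) (hσ : σ ≠ 0) (hin : InE Q K u s)
    (hperp : ∀ w, (∀ j, ⟪w, s₂ j⟫₀ = 0) → ⟪s, T w⟫ = 0) {a e : ι → F₀} (ha : Q₀ a = 0) (he : Q₀ e = 0)
    (hae : ⟪a, e⟫₀ = 0) (hind : e ∉ Submodule.span F₀ (Set.range ![a])) (ha0 : a ≠ 0)
    (has : ∀ j, ⟪a, s₂ j⟫₀ = 0) : ⟪u, T a⟫ * ⟪u, T e⟫ ∈ F₀ := by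
  obtain ⟨w, hw, hws, hwt⟩ := OSim.exists_iso_wide S.D (Fin.cons e (Fin.cons a s₂) : Fin (k₂ + 2) → ι → F₀) ![a, e]
    (by have := S.big; omega)
  simp only [Fin.forall_fin_succ, Fin.cons_zero, Fin.cons_succ] at hws
  obtain ⟨hwe, hwa, hws₂⟩ := hws
  obtain ⟨α, hα⟩ : ∃ α, α = ⟪u, T a⟫ := ⟨_, rfl⟩
  obtain ⟨β, hβ⟩ : ∃ β, β = ⟪u, T w⟫ := ⟨_, rfl⟩
  obtain ⟨h, hh, hhv⟩ := S.base a w ha (by rw [OSim.symm S.D]; exact hwa)
  have haw : ⟪a, w⟫₀ = 0 := by rw [OSim.symm S.D]; exact hwa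
  have hsfix : (h : Matrix ι ι F) *ᵥ s = s := push_apply S (T_orth S haw) hhv (hperp a has) (hperp w hws₂)
  obtain ⟨u', hu'⟩ : ∃ u', u' = u + (α • T w - β • T a) := ⟨_, rfl⟩
  have hhu : (h : Matrix ι ι F) *ᵥ u = u' := by
    rw [hhv, eichler, T_iso S hw, hu', ← hα, ← hβ]
    module
  obtain ⟨t, ht⟩ : ∃ t, t = α • T w - β • T a := ⟨_, rfl⟩
  have hut : ⟪u, t⟫ = 0 := by rw [ht, sub_right S, smul_right S, smul_right S, ← hα, ← hβ]; ring
  have htQ : Q t = 0 := by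
    rw [ht, sub_eq_add_neg, quad_add (Q := Q), quad_neg S, S.hQ.smul, S.hQ.smul, T_iso S hw, T_iso S ha, neg_right S,
      smul_left S, smul_right S, T_orth S hwa]
    ring
  have hst : ⟪s, t⟫ = 0 := by
    rw [ht, sub_right S, smul_right S, smul_right S, hperp w hws₂, hperp a has]; ring
  have hu'e : u' = u + t := by rw [hu', ht]
  have hu'Q : Q u' = 0 := by rw [hu'e, quad_add (Q := Q), hu, htQ, hut]; ring
  have hu's : ⟪u', s⟫ = 0 := by rw [hu'e, add_left S, hus, B_symm S t, hst, add_zero]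
  have hu'u : ⟪u', u⟫ = 0 := by rw [hu'e, add_left S, self_zero S hu, B_symm S t, hut, add_zero]
  have h1 : InE Q K u' s := by
    have := InE.conj S hin hh
    rwa [hhu, hsfix] at this
  obtain ⟨k, hk, hkv⟩ := id hin
  obtain ⟨l, hl⟩ : ∃ l : F, l = -2 * (σ : F) := ⟨_, rfl⟩
  have h2 : InE Q K u' (l • u) := by
    have h3 := InE.conj S h1 hk
    rw [push_apply S hus hkv hu'u hu's] at h3
    have e1 : (k : Matrix ι ι F) *ᵥ s = s + l • u := by
      rw [hkv, eichler, B_symm S s u, hus, self_eq S, hsQ, hl]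
      module
    rw [e1] at h3
    have := InE.add S hu'Q (y := s + l • u) (y' := -s) (by rw [add_right S, smul_right S, hu's, hu'u]; ring)
      (by rw [neg_right S, hu's, neg_zero]) h3 (InE.neg S hu'Q hu's h1)
    rwa [add_neg_cancel_comm] at this
  have h3 : InE Q K t (l • u) := by
    have a1 := InE.scale S (InE.swap S hu'Q (by rw [S.hQ.smul, hu, mul_zero]) h2)
    have a2 := InE.shift S hu (by rw [smul_right S, neg_right S, B_symm S u, hu'u, neg_zero, mul_zero]) l a1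
    rw [show l • -u' + l • u = (-l) • t by rw [hu'e]; module] at a2
    have a3 := InE.scale S (InE.swap S hu (by rw [S.hQ.smul, htQ, mul_zero]) a2)
    rwa [neg_smul_neg] at a3
  obtain ⟨z, hz, hzs⟩ := OSim.exists_aniso S.D ![e, a, w] (by have := S.big; omega)
  have hze : ⟪e, z⟫₀ = 0 := by rw [OSim.symm S.D]; exact hzs 0
  have hte : ⟪t, T e⟫ = 0 := by
    rw [ht, sub_left S, smul_left S, smul_left S, T_orth S hwe, T_orth S hae]; ring
  have htz : ⟪t, T z⟫ = 0 := by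
    rw [ht, sub_left S, smul_left S, smul_left S, T_orth S (by rw [OSim.symm S.D]; exact hzs 2),
      T_orth S (by rw [OSim.symm S.D]; exact hzs 1)]
    ring
  have h4 := second_diff S htQ (by rw [smul_right S, B_symm S t, hut, mul_zero]) he hze hte htz h3
  rw [smul_left S] at h4
  have h5 := InE.scale S (InE.swap S htQ (by rw [S.hQ.smul, T_iso S he, mul_zero]) h4)
  obtain ⟨e', he', he's, he'w⟩ := OSim.exists_iso_val S.D (s := ![e, a]) (a := w) (fun hm => hwt (by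
    obtain ⟨c, d, rfl⟩ := OSim.mem_span2 S.D hm
    exact add_mem (Submodule.smul_mem _ _ (Submodule.subset_span ⟨1, rfl⟩))
      (Submodule.smul_mem _ _ (Submodule.subset_span ⟨0, rfl⟩)))) (by have := S.big; omega)
  have he'e : ⟪e', e⟫₀ = 0 := he's 0
  have he'a : ⟪e', a⟫₀ = 0 := he's 1
  have he0 : e ≠ 0 := fun e1 => hind (by rw [e1]; exact zero_mem _)
  have hind' : e' ∉ Submodule.span F₀ (Set.range ![e]) := fun hm => by
    obtain ⟨c, rfl⟩ := OSim.mem_span1 S.D hm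
    rw [OSim.smul_left S.D, OSim.symm S.D e w, hwe, mul_zero] at he'w
    exact zero_ne_one he'w
  by_contra hbad
  refine hI (irr_of_pairing S he he0 ?_ he' (by rw [OSim.symm S.D]; exact he'e) hind' (fun hm => hbad ?_) h5)
  · rw [smul_right S, neg_right S, B_symm S (T e), hte, neg_zero, mul_zero]
  · have e1 : ⟪-t, T e'⟫ = -α := by
      rw [ht, neg_left S, sub_left S, smul_left S, smul_left S, T_polar S, T_polar S, OSim.symm S.D w e', he'w,
        OSim.symm S.D a e', he'a, Subfield.coe_one, Subfield.coe_zero]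
      ring
    rw [smul_left S, e1, hl] at hm
    have hc : (-4 : F) * (σ : F) * (Q₀ z : F) ∈ F₀ :=
      mul_mem (mul_mem (neg_mem (by rw [show (4 : F) = 1 + 1 + 1 + 1 by norm_num];
                                    exact add_mem (add_mem (add_mem (one_mem _) (one_mem _)) (one_mem _)) (one_mem _))) σ.2)
        (Q₀ z).2
    have hne : (-4 : F) * (σ : F) * (Q₀ z : F) ≠ 0 :=
      mul_ne_zero (mul_ne_zero (neg_ne_zero.mpr (by rw [show (4 : F) = 2 * 2 by norm_num]; exact mul_ne_zero S.two S.two))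
        (fun e' => hσ (Subtype.ext e'))) (fun e' => hz (Subtype.ext e'))
    have hm' := mul_mem (inv_mem hc) hm
    rw [← hα]
    convert hm' using 1
    have n1 : (σ : F) ≠ 0 := fun e' => hσ (Subtype.ext e')
    have n2 : (Q₀ z : F) ≠ 0 := fun e' => hz (Subtype.ext e')
    have n3 : (4 : F) ≠ 0 := by rw [show (4 : F) = 2 * 2 by norm_num]; exact mul_ne_zero S.two S.two
    field_simp
    ring

/-- An isotropic image is proportional to a rational vector. -/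
theorem image_rational (hI : ¬ Irr Q T Q₀ K) {k₂ : ℕ} (hk₂ : k₂ ≤ 6) {s₂ : Fin k₂ → ι → F₀} (hs₂ : Splits Q₀ s₂)
    {u s : ι → F} {σ : F₀} (hu : Q u = 0) (hu0 : u ≠ 0) (hus : ⟪u, s⟫ = 0) (hsQ : Q s = (σ : F)) (hσ : σ ≠ 0)
    (hin : InE Q K u s) (hperp : ∀ w, (∀ j, ⟪w, s₂ j⟫₀ = 0) → ⟪s, T w⟫ = 0) (hu2 : ∀ j, ⟪u, T (s₂ j)⟫ = 0) :
    ∃ (α : F) (w : ι → F₀), α ≠ 0 ∧ α * α ∈ F₀ ∧ u = α • T w := by
  have h0 : Q₀ (0 : ι → F₀) = 0 := OSim.quad_zero' S.D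
  have hrad0 : ∀ v ∈ Submodule.span F₀ (Set.range s₂), (∀ j, ⟪v, s₂ j⟫₀ = 0) →
      v ∈ Submodule.span F₀ (Set.range ![(0 : ι → F₀)]) :=
    fun v hv h => by rw [splits_zero S hs₂ hv h]; exact zero_mem _
  have hspan : ∀ p ∈ Submodule.span F₀ (Set.range s₂), ⟪u, T p⟫ = 0 := fun p hp => by
    induction hp using Submodule.span_induction with
    | mem x hx => obtain ⟨i, rfl⟩ := hx; exact hu2 i
    | zero => rw [T_zero S]; exact zero_right S u
    | add x y _ _ hx hy => rw [S.T_add, add_right S, hx, hy, add_zero]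
    | smul c x _ hx => rw [S.T_smul, smul_right S, hx, mul_zero]
  obtain ⟨a, ha, has, hua⟩ : ∃ a, Q₀ a = 0 ∧ (∀ j, ⟪a, s₂ j⟫₀ = 0) ∧ ⟪u, T a⟫ ≠ 0 := by
    by_contra hcon
    push Not at hcon
    refine hu0 (eq_zero_of_perp S fun v => ?_)
    obtain ⟨p, hp, hvp⟩ := hs₂ v
    have h1 : ⟪u, T (v - p)⟫ = 0 := perp_induction S (P := fun x => ⟪u, T x⟫ = 0) h0 hrad0
      (by have := S.big; omega) (fun e he hes => hcon e he hes)
      (fun x y hx hy => by rw [S.T_add, add_right S, hx, hy, add_zero]) hvp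
    rw [T_sub S, sub_right S, hspan p hp, sub_zero] at h1
    exact h1
  have ha0 : a ≠ 0 := fun e => hua (by rw [e, T_zero S]; exact zero_right S u)
  obtain ⟨α, hα⟩ : ∃ α, α = ⟪u, T a⟫ := ⟨_, rfl⟩
  rw [← hα] at hua
  obtain ⟨b₀, hb₀, hb₀s, hb₀t⟩ := OSim.exists_iso_wide S.D (Fin.cons a s₂ : Fin (k₂ + 1) → ι → F₀) ![a]
    (by have := S.big; omega)
  simp only [Fin.forall_fin_succ, Fin.cons_zero, Fin.cons_succ] at hb₀s
  obtain ⟨hb₀a, hb₀s⟩ := hb₀s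
  rw [OSim.symm S.D] at hb₀a
  have hαα : α * α ∈ F₀ := by
    have h1 := prod_rational S hI hk₂ hu hus hsQ hσ hin hperp ha hb₀ hb₀a hb₀t ha0 has
    have h2 := prod_rational S hI hk₂ hu hus hsQ hσ hin hperp ha (e := a + b₀)
      (by rw [OSim.quad_sum S.D, ha, hb₀, hb₀a]; ring)
      (by rw [OSim.add_right S.D, OSim.self_zero S.D ha, hb₀a, add_zero])
      (fun hm => hb₀t (by
        have := sub_mem hm (Submodule.subset_span ⟨0, rfl⟩ : a ∈ Submodule.span F₀ (Set.range ![a]))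
        rwa [add_sub_cancel_left] at this)) ha0 has
    rw [S.T_add, add_right S, ← hα] at h2
    rw [← hα] at h1
    have := sub_mem h2 h1
    ring_nf at this ⊢
    exact this
  -- values on one hyperplane
  have hyper : ∀ a', Q₀ a' = 0 → a' ≠ 0 → (∀ j, ⟪a', s₂ j⟫₀ = 0) →
      (∃ c : F₀, ⟪u, T a'⟫ = (c : F) * α ∧ c ≠ 0) →
      ∀ v, (∀ j, ⟪v, s₂ j⟫₀ = 0) → ⟪v, a'⟫₀ = 0 → ∃ c : F₀, ⟪u, T v⟫ = (c : F) * α := by
    intro a' ha' ha'0 ha's hval v hv hva'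
    obtain ⟨c₀, hc₀, hc₀0⟩ := hval
    have hrad : ∀ x ∈ Submodule.span F₀ (Set.range (Fin.cons a' s₂ : Fin (k₂ + 1) → ι → F₀)),
        (∀ j, ⟪x, (Fin.cons a' s₂ : Fin (k₂ + 1) → ι → F₀) j⟫₀ = 0) → x ∈ Submodule.span F₀ (Set.range ![a']) := by
      intro x hx hxs
      simp only [Fin.forall_fin_succ, Fin.cons_zero, Fin.cons_succ] at hxs
      rw [Fin.range_cons, Submodule.mem_span_insert] at hx
      obtain ⟨c, p, hp, rfl⟩ := hx
      have : p = 0 := splits_zero S hs₂ hp fun j => by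
        have := hxs.2 j
        rwa [OSim.add_left S.D, OSim.smul_left S.D, ha's, mul_zero, zero_add] at this
      rw [this, add_zero]
      exact Submodule.smul_mem _ _ (Submodule.subset_span ⟨0, rfl⟩)
    refine perp_induction S (s := (Fin.cons a' s₂ : Fin (k₂ + 1) → ι → F₀)) ha' hrad (by have := S.big; omega)
      (P := fun x => ∃ c : F₀, ⟪u, T x⟫ = (c : F) * α) (fun b hb hbs => ?_) (fun x y hx hy => ?_)
      (v := v) (by simp only [Fin.forall_fin_succ, Fin.cons_zero, Fin.cons_succ]; exact ⟨hva', hv⟩)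
    · simp only [Fin.forall_fin_succ, Fin.cons_zero, Fin.cons_succ] at hbs
      by_cases hb' : b ∈ Submodule.span F₀ (Set.range ![a'])
      · obtain ⟨c, rfl⟩ := OSim.mem_span1 S.D hb'
        exact ⟨c * c₀, by rw [S.T_smul, smul_right S, hc₀, Subfield.coe_mul, mul_assoc]⟩
      have h1 := prod_rational S hI hk₂ hu hus hsQ hσ hin hperp ha' hb (by rw [OSim.symm S.D]; exact hbs.1) hb' ha'0 ha's
      rw [hc₀] at h1
      have hc0' : (c₀ : F) ≠ 0 := fun e => hc₀0 (Subtype.ext e)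
      refine ⟨⟨_, mul_mem (inv_mem (mul_mem c₀.2 hαα)) h1⟩, ?_⟩
      change ⟪u, T b⟫ = ((c₀ : F) * (α * α))⁻¹ * ((c₀ : F) * α * ⟪u, T b⟫) * α
      field_simp
    · obtain ⟨c, hc⟩ := hx
      obtain ⟨c', hc'⟩ := hy
      exact ⟨c + c', by rw [S.T_add, add_right S, hc, hc', Subfield.coe_add, add_mul]⟩
  have ha1 : ∃ c : F₀, ⟪u, T a⟫ = (c : F) * α ∧ c ≠ 0 := ⟨1, by rw [← hα]; simp, one_ne_zero⟩
  obtain ⟨b₁, hb₁, hb₁a, hb₁t, hb₁s, hb₁v⟩ : ∃ b, Q₀ b = 0 ∧ ⟪a, b⟫₀ = 0 ∧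
      b ∉ Submodule.span F₀ (Set.range ![a]) ∧ (∀ j, ⟪b, s₂ j⟫₀ = 0) ∧
      ∃ c : F₀, ⟪u, T b⟫ = (c : F) * α ∧ c ≠ 0 := by
    obtain ⟨c, hc⟩ := hyper a ha ha0 has ha1 b₀ hb₀s (by rw [OSim.symm S.D]; exact hb₀a)
    by_cases hc0 : c = 0
    · refine ⟨a + b₀, by rw [OSim.quad_sum S.D, ha, hb₀, hb₀a]; ring,
        by rw [OSim.add_right S.D, OSim.self_zero S.D ha, hb₀a, add_zero], fun hm => hb₀t (by
          have := sub_mem hm (Submodule.subset_span ⟨0, rfl⟩ : a ∈ Submodule.span F₀ (Set.range ![a]))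
          rwa [add_sub_cancel_left] at this),
        fun j => by rw [OSim.add_left S.D, has, hb₀s, add_zero], 1, ?_, one_ne_zero⟩
      rw [S.T_add, add_right S, hc, hc0, ← hα]
      simp
    · exact ⟨b₀, hb₀, hb₀a, hb₀t, hb₀s, c, hc, hc0⟩
  have hab : a ∉ Submodule.span F₀ (Set.range (Fin.cons b₁ s₂ : Fin (k₂ + 1) → ι → F₀)) := fun hm => by
    rw [Fin.range_cons, Submodule.mem_span_insert] at hm
    obtain ⟨c, p, hp, e⟩ := hm
    have : p = 0 := splits_zero S hs₂ hp fun j => by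
      have := has j
      rwa [e, OSim.add_left S.D, OSim.smul_left S.D, hb₁s, mul_zero, zero_add] at this
    rw [this, add_zero] at e
    have hc0 : c ≠ 0 := fun h => ha0 (by rw [e, h, zero_smul])
    refine hb₁t ?_
    rw [show b₁ = c⁻¹ • a by rw [e, smul_smul, inv_mul_cancel₀ hc0, one_smul]]
    exact Submodule.smul_mem _ _ (Submodule.subset_span ⟨0, rfl⟩)
  obtain ⟨d, hds, hda⟩ := OSim.exists_sep S.D hab
  simp only [Fin.forall_fin_succ, Fin.cons_zero, Fin.cons_succ] at hds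
  have hb₁0 : b₁ ≠ 0 := fun e => hb₁t (by rw [e]; exact zero_mem _)
  have hall : ∀ v, ⟪α⁻¹ • u, T v⟫ ∈ F₀ := by
    intro v
    obtain ⟨p, hp, hvp⟩ := hs₂ v
    obtain ⟨c₁, hc₁⟩ := hyper a ha ha0 has ha1 ((v - p) - ⟪v - p, a⟫₀ • d)
      (fun j => by rw [OSim.sub_left S.D, OSim.smul_left S.D, hvp, hds.2, mul_zero, sub_zero])
      (by rw [OSim.sub_left S.D, OSim.smul_left S.D, hda, mul_one, sub_self])
    obtain ⟨c₂, hc₂⟩ := hyper b₁ hb₁ hb₁0 hb₁s hb₁v d hds.2 hds.1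
    rw [T_sub S, T_sub S, S.T_smul, sub_right S, sub_right S, smul_right S, hspan p hp, hc₂, sub_zero,
      sub_eq_iff_eq_add] at hc₁
    rw [smul_left S, hc₁, mul_add, mul_comm (c₁ : F), ← mul_assoc, inv_mul_cancel₀ hua, one_mul,
      show α⁻¹ * ((⟪v - p, a⟫₀ : F₀) * ((c₂ : F) * α)) = (⟪v - p, a⟫₀ : F₀) * (c₂ : F) by field_simp]
    exact add_mem c₁.2 (mul_mem (Subtype.coe_prop _) c₂.2)
  obtain ⟨w, hw⟩ := exists_real S hall
  exact ⟨α, w, hua, hαα, by rw [← hw, smul_smul, mul_inv_cancel₀ hua, one_smul]⟩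

/-- Two rational vectors whose images are multiples of rational vectors share the multiplier. -/
theorem share {g : GL ι F} {z b : ι → F₀} {μ ρ τ : F} {w₁ w₂ w : ι → F₀} (hμ : μ ≠ 0)
    (hind : b ∉ Submodule.span F₀ (Set.range ![z])) (hz0 : z ≠ 0)
    (h1 : (g : Matrix ι ι F) *ᵥ T z = μ • T w₁) (h2 : (g : Matrix ι ι F) *ᵥ T b = ρ • T w₂)
    (h3 : (g : Matrix ι ι F) *ᵥ T (z + b) = τ • T w) : ∃ c : F₀, ρ = (c : F) * μ := by
  have indT : ∀ (x : F) , T b ≠ x • T z := by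
    intro x e
    obtain ⟨v, -, hvz⟩ := OSim.exists_sep S.D (s := ![(0 : ι → F₀)]) (a := z) (fun hm => by
      obtain ⟨c, hc⟩ := OSim.mem_span1 S.D hm
      exact hz0 (by rw [hc, smul_zero]))
    have h := congrArg (fun y => ⟪y, T v⟫) e
    simp only [smul_left S, T_polar S, OSim.symm S.D z v, hvz, Subfield.coe_one, mul_one] at h
    refine hind ?_
    have hb : b = ⟪b, v⟫₀ • z := by
      refine sub_eq_zero.mp (T_injective S ?_)
      rw [T_sub S, S.T_smul, e, ← h, sub_self]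
    rw [hb]
    exact Submodule.smul_mem _ _ (Submodule.subset_span ⟨0, rfl⟩)
  have hw₁ : w₁ ≠ 0 := fun e => hz0 (T_injective S (gl_mulVec_injective g (by
    dsimp only; rw [h1, e, T_zero S, smul_zero, Matrix.mulVec_zero])))
  have hnot : w₁ ∉ Submodule.span F₀ (Set.range ![w₂]) := fun hm => by
    obtain ⟨k, hk⟩ := OSim.mem_span1 S.D hm
    by_cases hk0 : (k : F) * μ = 0
    · exact hw₁ (by rw [hk, show k = 0 from Subtype.ext ((mul_eq_zero.mp hk0).resolve_right hμ), zero_smul])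
    refine indT (ρ * ((k : F) * μ)⁻¹) (gl_mulVec_injective g ?_)
    dsimp only
    rw [Matrix.mulVec_smul, h1, h2, hk, S.T_smul, smul_smul, smul_smul]
    have hk' := left_ne_zero_of_mul hk0
    congr 1
    field_simp
  have hnot2 : w₂ ∉ Submodule.span F₀ (Set.range ![w₁]) := fun hm => by
    obtain ⟨k, hk⟩ := OSim.mem_span1 S.D hm
    refine indT (ρ * (k : F) * μ⁻¹) (gl_mulVec_injective g ?_)
    dsimp only
    rw [Matrix.mulVec_smul, h1, h2, hk, S.T_smul, smul_smul, smul_smul, mul_assoc _ μ⁻¹, inv_mul_cancel₀ hμ, mul_one]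
  obtain ⟨x, hxs, hx⟩ := OSim.exists_sep S.D hnot
  obtain ⟨x', hxs', hx'⟩ := OSim.exists_sep S.D hnot2
  rw [S.T_add, Matrix.mulVec_add, h1, h2] at h3
  have e1 := congrArg (fun y => ⟪y, T x⟫) h3
  have e2 := congrArg (fun y => ⟪y, T x'⟫) h3
  have hx2 : ⟪x, w₂⟫₀ = 0 := hxs 0
  have hx'1 : ⟪x', w₁⟫₀ = 0 := hxs' 0
  simp only [add_left S, smul_left S, T_polar S, OSim.symm S.D w₁, OSim.symm S.D w₂, hx, hx', hx2, hx'1,
    Subfield.coe_one, Subfield.coe_zero, mul_one, mul_zero, add_zero, zero_add] at e1 e2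
  have hw0 : ((⟪w, x⟫₀ : F₀) : F) ≠ 0 := fun e => hμ (by rw [e1, e, mul_zero])
  refine ⟨⟪w, x'⟫₀ / ⟪w, x⟫₀, ?_⟩
  rw [e2, e1, Subfield.coe_div]
  field_simp

/-- The key lemma. -/
theorem good_of_split (hI : ¬ Irr Q T Q₀ K) {g : GL ι F} (hg : g ∈ K) {k₁ k₂ : ℕ} (hk₁ : k₁ ≤ 6) (hk₂ : k₂ ≤ 6)
    {s₁ : Fin k₁ → ι → F₀} {s₂ : Fin k₂ → ι → F₀} (hs₁ : Splits Q₀ s₁) (hs₂ : Splits Q₀ s₂)
    {x₁ : ι → F₀} (hx₁ : x₁ ∈ Submodule.span F₀ (Set.range s₁)) (hx₁Q : Q₀ x₁ ≠ 0)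
    (h12 : ∀ i w, (∀ j, ⟪w, s₂ j⟫₀ = 0) → ⟪(g : Matrix ι ι F) *ᵥ T (s₁ i), T w⟫ = 0)
    (h21 : ∀ c, (∀ i, ⟪c, s₁ i⟫₀ = 0) → ∀ j, ⟪(g : Matrix ι ι F) *ᵥ T c, T (s₂ j)⟫ = 0) : Good T g := by
  have h0 : Q₀ (0 : ι → F₀) = 0 := OSim.quad_zero' S.D
  have hrad0 : ∀ v ∈ Submodule.span F₀ (Set.range s₁), (∀ j, ⟪v, s₁ j⟫₀ = 0) →
      v ∈ Submodule.span F₀ (Set.range ![(0 : ι → F₀)]) :=
    fun v hv h => by rw [splits_zero S hs₁ hv h]; exact zero_mem _
  have h12' : ∀ p ∈ Submodule.span F₀ (Set.range s₁), ∀ w, (∀ j, ⟪w, s₂ j⟫₀ = 0) →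
      ⟪(g : Matrix ι ι F) *ᵥ T p, T w⟫ = 0 := by
    intro p hp w hw
    induction hp using Submodule.span_induction with
    | mem x hx => obtain ⟨i, rfl⟩ := hx; exact h12 i w hw
    | zero => rw [T_zero S, Matrix.mulVec_zero]; exact zero_left S _
    | add x y _ _ hx hy => rw [S.T_add, Matrix.mulVec_add, add_left S, hx, hy, add_zero]
    | smul c x _ hx => rw [S.T_smul, Matrix.mulVec_smul, smul_left S, hx, mul_zero]
  have himg : ∀ c, Q₀ c = 0 → (∀ i, ⟪c, s₁ i⟫₀ = 0) → c ≠ 0 → ∃ (α : F) (w : ι → F₀), α ≠ 0 ∧ α * α ∈ F₀ ∧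
      (g : Matrix ι ι F) *ᵥ T c = α • T w := by
    intro c hc hcs hc0
    have hcx : ⟪c, x₁⟫₀ = 0 := span_perp S hcs hx₁
    exact image_rational S hI hk₂ hs₂ (u := (g : Matrix ι ι F) *ᵥ T c) (s := (g : Matrix ι ι F) *ᵥ T x₁) (σ := Q₀ x₁)
      (by rw [S.iso g hg]; exact T_iso S hc)
      (fun e => hc0 (T_injective S (gl_mulVec_injective g (e.trans (Matrix.mulVec_zero _).symm))))
      (by rw [iso_polar S hg]; exact T_orth S hcx) (by rw [S.iso g hg, S.hT]) hx₁Q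
      (InE.conj S (S.base c x₁ hc hcx) hg) (h12' x₁ hx₁) (h21 c hcs)
  obtain ⟨z1, hz1, hz1s, hz1t⟩ := OSim.exists_iso_wide S.D s₁ ![(0 : ι → F₀)] (by have := S.big; omega)
  have hz10 : z1 ≠ 0 := fun e => hz1t (by rw [e]; exact zero_mem _)
  obtain ⟨μ, w₁, hμ, hμμ, h1⟩ := himg z1 hz1 hz1s hz10
  have step : ∀ z b, Q₀ z = 0 → Q₀ b = 0 → ⟪z, b⟫₀ = 0 → (∀ i, ⟪z, s₁ i⟫₀ = 0) → (∀ i, ⟪b, s₁ i⟫₀ = 0) →
      z ≠ 0 → b ∉ Submodule.span F₀ (Set.range ![z]) → (∃ w, (g : Matrix ι ι F) *ᵥ T z = μ • T w) →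
      ∃ w, (g : Matrix ι ι F) *ᵥ T b = μ • T w := by
    intro z b hz hb hzb hzs hbs hz0 hind hzw
    obtain ⟨wz, hwz⟩ := hzw
    have hb0 : b ≠ 0 := fun e => hind (by rw [e]; exact zero_mem _)
    obtain ⟨ρ, w₂, -, -, h2⟩ := himg b hb hbs hb0
    obtain ⟨τ, w, -, -, h3⟩ := himg (z + b) (by rw [OSim.quad_sum S.D, hz, hb, hzb]; ring)
      (fun i => by rw [OSim.add_left S.D, hzs, hbs, add_zero]) (fun e => hind (by
        rw [eq_neg_of_add_eq_zero_right e]; exact neg_mem (Submodule.subset_span ⟨0, rfl⟩)))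
    obtain ⟨c, hc⟩ := share S hμ hind hz0 hwz h2 h3
    exact ⟨c • w₂, by rw [h2, hc, S.T_smul, smul_smul, mul_comm]⟩
  have hiso : ∀ z, Q₀ z = 0 → (∀ i, ⟪z, s₁ i⟫₀ = 0) → ∃ w, (g : Matrix ι ι F) *ᵥ T z = μ • T w := by
    intro z hz hzs
    by_cases hz0 : z = 0
    · exact ⟨0, by rw [hz0, T_zero S, Matrix.mulVec_zero, smul_zero]⟩
    obtain ⟨b, hb, hbs, hbt⟩ := OSim.exists_iso_wide S.D (Fin.cons z1 (Fin.cons z s₁) : Fin (k₁ + 2) → ι → F₀)
      ![z1, z] (by have := S.big; omega)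
    simp only [Fin.forall_fin_succ, Fin.cons_zero, Fin.cons_succ] at hbs
    obtain ⟨hbz1, hbz, hbs⟩ := hbs
    have hb0 : b ≠ 0 := fun e => hbt (by rw [e]; exact zero_mem _)
    refine step b z hb hz hbz hbs hzs hb0 (fun hm => hbt ?_) (step z1 b hz1 hb (by rw [OSim.symm S.D]; exact hbz1)
      hz1s hbs hz10 (fun hm => hbt (Submodule.span_mono (by simp) hm)) ⟨w₁, h1⟩)
    obtain ⟨c, hc⟩ := OSim.mem_span1 S.D hm
    have hc0 : c ≠ 0 := fun e => hz0 (by rw [hc, e, zero_smul])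
    rw [show b = c⁻¹ • z by rw [hc, smul_smul, inv_mul_cancel₀ hc0, one_smul]]
    exact Submodule.smul_mem _ _ (Submodule.subset_span ⟨1, rfl⟩)
  have hL : ∀ c, (∀ i, ⟪c, s₁ i⟫₀ = 0) → ∃ w, (g : Matrix ι ι F) *ᵥ T c = μ • T w := fun c hc =>
    perp_induction S (P := fun x => ∃ w, (g : Matrix ι ι F) *ᵥ T x = μ • T w) h0 hrad0
      (by have := S.big; omega) hiso (fun x y ⟨wx, hx⟩ ⟨wy, hy⟩ =>
        ⟨wx + wy, by rw [S.T_add, S.T_add, Matrix.mulVec_add, hx, hy, smul_add]⟩) hc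
  have hS : ∀ p ∈ Submodule.span F₀ (Set.range s₁), ∃ w, (g : Matrix ι ι F) *ᵥ T p = μ • T w := by
    intro p hp
    obtain ⟨y, hy⟩ : ∃ y, y = μ • ((g : Matrix ι ι F) *ᵥ T p) := ⟨_, rfl⟩
    have hz1p : ⟪z1, p⟫₀ = 0 := span_perp S hz1s hp
    have hin : InE Q K (T w₁) y := by
      have := InE.conj S (S.base z1 p hz1 hz1p) hg
      rw [h1] at this
      exact hy ▸ InE.scale S this
    have hw₁0 : w₁ ≠ 0 := fun e => hz10 (T_injective S (gl_mulVec_injective g (by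
      dsimp only; rw [h1, e, T_zero S, smul_zero, Matrix.mulVec_zero])))
    have hw₁Q : Q₀ w₁ = 0 := by
      have := congrArg Q h1
      rw [S.iso g hg, S.hQ.smul, T_iso S hz1, S.hT] at this
      exact Subtype.ext ((mul_eq_zero.mp this.symm).resolve_left (pow_ne_zero 2 hμ))
    have hwy : ⟪T w₁, y⟫ = 0 := by
      rw [hy, smul_right S]
      have := iso_polar S hg (T z1) (T p)
      rw [h1, smul_left S, T_orth S hz1p, mul_eq_zero] at this
      rw [this.resolve_left hμ, mul_zero]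
    have hrat : ∀ e, Q₀ e = 0 → ⟪w₁, e⟫₀ = 0 → ⟪y, T e⟫ ∈ F₀ := fun e he hwe => by
      by_cases hew : e ∈ Submodule.span F₀ (Set.range ![w₁])
      · obtain ⟨c, rfl⟩ := OSim.mem_span1 S.D hew
        rw [S.T_smul, smul_right S, B_symm S y, hwy, mul_zero]
        exact zero_mem _
      by_contra hbad
      exact hI (irr_of_pairing S hw₁Q hw₁0 hwy he hwe hew hbad hin)
    have hyr : ∀ v, ⟪y, T v⟫ ∈ F₀ := by
      intro v
      obtain ⟨p', hp', hvp⟩ := hs₂ v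
      have h1' : ⟪y, T (v - p')⟫ = 0 := by rw [hy, smul_left S, h12' p hp _ hvp, mul_zero]
      rw [T_sub S, sub_right S, sub_eq_zero] at h1'
      rw [h1']
      have hwp : ⟪w₁, p'⟫₀ = 0 := by
        refine span_perp S (fun j => ?_) hp'
        have := h21 z1 hz1s j
        rw [h1, smul_left S, T_polar S, mul_eq_zero] at this
        exact Subtype.ext (this.resolve_left hμ)
      by_cases hp'Q : Q₀ p' = 0
      · exact hrat p' hp'Q hwp
      obtain ⟨b, hb, hbs, hbp⟩ := OSim.exists_iso_val S.D (s := ![w₁]) (a := p') (fun hm => by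
        obtain ⟨c, rfl⟩ := OSim.mem_span1 S.D hm
        exact hp'Q (by rw [OSim.quad_smul S.D, hw₁Q, mul_zero])) (by have := S.big; omega)
      have hwb : ⟪w₁, b⟫₀ = 0 := by rw [OSim.symm S.D]; exact hbs 0
      have h2 := hrat (p' + (-Q₀ p') • b) (by
          rw [OSim.quad_sum S.D, OSim.quad_smul S.D, hb, OSim.smul_right S.D, OSim.symm S.D p' b, hbp]; ring)
        (by rw [OSim.add_right S.D, OSim.smul_right S.D, hwp, hwb, mul_zero, add_zero])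
      have h3 := hrat b hb hwb
      rw [S.T_add, S.T_smul, add_right S, smul_right S] at h2
      have h4 := sub_mem h2 (mul_mem (-Q₀ p').2 h3)
      rwa [add_sub_cancel_right] at h4
    obtain ⟨w, hw⟩ := exists_real S hyr
    refine ⟨(⟨μ * μ, hμμ⟩ : F₀)⁻¹ • w, ?_⟩
    rw [S.T_smul, ← hw, hy, smul_smul, smul_smul, Subfield.coe_inv]
    change _ = (μ * (μ * μ)⁻¹ * μ) • _
    rw [show μ * (μ * μ)⁻¹ * μ = 1 by field_simp, one_smul]
  refine ⟨μ, hμ, hμμ, fun x => ?_⟩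
  obtain ⟨p, hp, hxp⟩ := hs₁ x
  obtain ⟨wp, hwp⟩ := hS p hp
  obtain ⟨wc, hwc⟩ := hL _ hxp
  refine ⟨wp + wc, ?_⟩
  rw [S.T_add, smul_add, ← hwp, ← hwc, ← Matrix.mulVec_add, ← S.T_add, add_sub_cancel]

end Cfsg.Agent.Classical.OSub
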