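/-
Rational involutions: their splittings, and the elements that commute with them.
-/
import Cfsg.Agent.Lib.Classical.OSubKey
import Cfsg.Agent.Lib.Classical.USubCaseA

set_option autoImplicit false
set_option linter.unusedSectionVars false
set_option linter.style.haveILetI false

namespace Cfsg.Agent.Classical.OSub

open Matrix Cfsg.Geo
open Cfsg.Agent.Classical

variable {ι : Type} [Fintype ι] [DecidableEq ι] {F : Type*} [Field F] {F₀ : Subfield F} [Fintype F₀]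
  {Q : (ι → F) → F} {T : (ι → F₀) → ι → F} {Q₀ : (ι → F₀) → F₀} {K : Subgroup (GL ι F)}

/-- The polar form. -/
local notation "⟪" x ", " y "⟫" => QuadraticMap.polar Q x y

/-- The rational polar form. -/
local notation "⟪" x ", " y "⟫₀" => QuadraticMap.polar Q₀ x y

/-- Orthogonal vectors of value one. -/
def Orth1 (Q₀ : (ι → F₀) → F₀) {k : ℕ} (d : Fin k → ι → F₀) : Prop :=
  (∀ i, QuadraticMap.polar Q₀ (d i) (d i) = 2) ∧ ∀ i l, i ≠ l → QuadraticMap.polar Q₀ (d i) (d l) = 0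

/-- Minus one on the span of the family, one on its orthogonal space. -/
def Neg (Q : (ι → F) → F) (T : (ι → F₀) → ι → F) {k : ℕ} (d : Fin k → ι → F₀) (a : GL ι F) : Prop :=
  ∀ x, (a : Matrix ι ι F) *ᵥ x = x - ∑ i, QuadraticMap.polar Q (T (d i)) x • T (d i)

variable (S : Setup Q T Q₀ K)

include S

theorem Neg.neg {k : ℕ} {d : Fin k → ι → F₀} {a : GL ι F} (ha : Neg Q T d a) (hd : Orth1 Q₀ d) (i : Fin k) :
    (a : Matrix ι ι F) *ᵥ T (d i) = -T (d i) := by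
  rw [ha, Finset.sum_eq_single i (fun l _ hl => by rw [T_orth S (hd.2 l i hl), zero_smul])
    (fun h => absurd (Finset.mem_univ i) h), T_polar S, hd.1]
  have e : ((2 : F₀) : F) = 2 := map_ofNat F₀.subtype 2
  rw [e]
  module

theorem Neg.fix {k : ℕ} {d : Fin k → ι → F₀} {a : GL ι F} (ha : Neg Q T d a) {w : ι → F₀}
    (hw : ∀ i, ⟪w, d i⟫₀ = 0) : (a : Matrix ι ι F) *ᵥ T w = T w := by
  rw [ha, Finset.sum_eq_zero (fun i _ => by
    rw [T_orth S (by rw [OSim.symm S.D]; exact hw i), zero_smul]), sub_zero]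

theorem orth_of_eigen {j : GL ι F} (hj : j ∈ K) {x y : ι → F} (hx : (j : Matrix ι ι F) *ᵥ x = -x)
    (hy : (j : Matrix ι ι F) *ᵥ y = y) : ⟪x, y⟫ = 0 := by
  have h := iso_polar S hj x y
  rw [hx, hy, neg_left S] at h
  have : (2 : F) * ⟪x, y⟫ = 0 := by linear_combination -h
  exact (mul_eq_zero.mp this).resolve_left S.two

theorem orth1_splits {k : ℕ} {d : Fin k → ι → F₀} (hd : Orth1 Q₀ d) : Splits Q₀ d := by
  intro v
  refine ⟨∑ i, ((2 : F₀)⁻¹ * ⟪v, d i⟫₀) • d i,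
    Submodule.sum_mem _ fun i _ => Submodule.smul_mem _ _ (Submodule.subset_span ⟨i, rfl⟩), fun j => ?_⟩
  let L : (ι → F₀) →ₗ[F₀] F₀ :=
    { toFun := fun x => ⟪x, d j⟫₀, map_add' := fun p q => OSim.add_left S.D p q _,
      map_smul' := fun c z => OSim.smul_left S.D c z _ }
  change L (v - _) = 0
  rw [map_sub, map_sum, Finset.sum_eq_single j (fun i _ hi => by
    rw [map_smul]; change _ • ⟪d i, d j⟫₀ = 0; rw [hd.2 i j hi, smul_zero]) (fun h => absurd (Finset.mem_univ j) h),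
    map_smul]
  change ⟪v, d j⟫₀ - _ • ⟪d j, d j⟫₀ = 0
  rw [hd.1, smul_eq_mul]
  have := S.D.h2
  field_simp
  ring

theorem orth1_quad {k : ℕ} {d : Fin k → ι → F₀} (hd : Orth1 Q₀ d) (i : Fin k) : Q₀ (d i) = 1 := by
  have h := hd.1 i
  rw [OSim.self_eq S.D] at h
  exact mul_left_cancel₀ S.D.h2 (h.trans (mul_one _).symm)

theorem exists_unit_perp {k : ℕ} (s : Fin k → ι → F₀) (hk : k ≤ 3) :
    ∃ d, Q₀ d = 1 ∧ ∀ i, ⟪d, s i⟫₀ = 0 := by
  obtain ⟨e, he, hes, het⟩ := OSim.exists_iso S.D s s hk (by omega) (by have := S.big; omega)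
  obtain ⟨z, hz, hzs, hze⟩ := OSim.exists_iso_val S.D het (by have := S.big; omega)
  refine ⟨e + z, ?_, fun i => by rw [OSim.add_left S.D, hes, hzs, add_zero]⟩
  rw [OSim.quad_sum S.D, he, hz, OSim.symm S.D, hze]
  ring

theorem exists_orth1_four : ∃ d₁ d₂ d₃ d₄, Orth1 Q₀ ![d₁, d₂] ∧ Orth1 Q₀ ![d₁, d₂, d₃, d₄] := by
  obtain ⟨d₁, h1, -⟩ := exists_unit_perp S (k := 0) ![] (by norm_num)
  obtain ⟨d₂, h2, h2s⟩ := exists_unit_perp S ![d₁] (by norm_num)
  obtain ⟨d₃, h3, h3s⟩ := exists_unit_perp S ![d₁, d₂] (by norm_num)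
  obtain ⟨d₄, h4, h4s⟩ := exists_unit_perp S ![d₁, d₂, d₃] (by norm_num)
  have a21 : ⟪d₂, d₁⟫₀ = 0 := h2s 0
  have a31 : ⟪d₃, d₁⟫₀ = 0 := h3s 0
  have a32 : ⟪d₃, d₂⟫₀ = 0 := h3s 1
  have a41 : ⟪d₄, d₁⟫₀ = 0 := h4s 0
  have a42 : ⟪d₄, d₂⟫₀ = 0 := h4s 1
  have a43 : ⟪d₄, d₃⟫₀ = 0 := h4s 2
  refine ⟨d₁, d₂, d₃, d₄, ⟨fun i => ?_, fun i l hil => ?_⟩, ⟨fun i => ?_, fun i l hil => ?_⟩⟩
  · fin_cases i <;> simp [OSim.self_eq S.D, h1, h2]
  · fin_cases i <;> fin_cases l <;>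
      first | exact absurd rfl hil | simp [OSim.symm S.D d₁ d₂, a21]
  · fin_cases i <;> simp [OSim.self_eq S.D, h1, h2, h3, h4]
  · fin_cases i <;> fin_cases l <;>
      first | exact absurd rfl hil | simp [OSim.symm S.D d₁, OSim.symm S.D d₂ d₃, OSim.symm S.D d₂ d₄,
        OSim.symm S.D d₃ d₄, a21, a31, a32, a41, a42, a43]

/-- The range of a conjugate of such an involution. -/
theorem conj_range {k : ℕ} {d : Fin k → ι → F₀} {a h c : GL ι F} (ha : Neg Q T d a) (e : h * a * h⁻¹ = c)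
    (x : ι → F) :
    x - (c : Matrix ι ι F) *ᵥ x ∈
      Submodule.span F (Set.range fun i => (h : Matrix ι ι F) *ᵥ T (d i)) := by
  rw [← e, gl_mul_mulVec, gl_mul_mulVec, ha, Matrix.mulVec_sub, gl_mulVec_inv_cancel, sub_sub_cancel,
    Matrix.mulVec_sum]
  exact Submodule.sum_mem _ fun i _ => by
    rw [Matrix.mulVec_smul]; exact Submodule.smul_mem _ _ (Submodule.subset_span ⟨i, rfl⟩)

/-- Two and four are not conjugate. -/
theorem not_conj {d : Fin 2 → ι → F₀} {e : Fin 4 → ι → F₀} (hd : Orth1 Q₀ d) (he : Orth1 Q₀ e) {a a' h : GL ι F}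
    (ha : Neg Q T d a) (ha' : Neg Q T e a') (hh : h ∈ K) (hc : h * a * h⁻¹ = a') : False := by
  obtain ⟨u, hu⟩ : ∃ u : Fin 4 → ι → F, ∀ i, u i = ((h⁻¹ : GL ι F) : Matrix ι ι F) *ᵥ T (e i) := ⟨_, fun _ => rfl⟩
  have hB : ∀ i l, ⟪u i, u l⟫ = if i = l then 2 else 0 := fun i l => by
    rw [hu, hu, iso_polar S (inv_mem hh), T_polar S]
    by_cases hil : i = l
    · rw [if_pos hil, hil, he.1]; exact map_ofNat F₀.subtype 2
    · rw [if_neg hil, he.2 i l hil]; rfl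
  have hau : ∀ i, (a : Matrix ι ι F) *ᵥ u i = -u i := fun i => by
    have h1 : a = h⁻¹ * a' * h := by rw [← hc]; group
    rw [h1, gl_mul_mulVec, gl_mul_mulVec, hu, gl_mulVec_inv_cancel, Neg.neg S ha' he, Matrix.mulVec_neg]
  have hd01 : ⟪T (d 0), T (d 1)⟫ = 0 := T_orth S (hd.2 0 1 (by decide))
  have hd00 : ∀ m, ⟪T (d m), T (d m)⟫ = 2 := fun m => by rw [T_polar S, hd.1]; exact map_ofNat F₀.subtype 2
  have hco : ∀ i, ∃ x y : F, u i = x • T (d 0) + y • T (d 1) := fun i => by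
    have h1 := ha (u i)
    rw [hau, Fin.sum_univ_two] at h1
    refine ⟨(2 : F)⁻¹ * ⟪T (d 0), u i⟫, (2 : F)⁻¹ * ⟪T (d 1), u i⟫, ?_⟩
    have h2 : (2 : F) • u i = ⟪T (d 0), u i⟫ • T (d 0) + ⟪T (d 1), u i⟫ • T (d 1) := by
      linear_combination (norm := module) -h1
    rw [← smul_smul, ← smul_smul, ← smul_add, ← h2, smul_smul, inv_mul_cancel₀ S.two, one_smul]
  choose x y hxy using hco
  have key : ∀ i l, x i * x l + y i * y l = if i = l then 1 else 0 := fun i l => by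
    have h1 := hB i l
    rw [hxy i, hxy l] at h1
    simp only [add_left S, add_right S, smul_left S, smul_right S, hd00, hd01, B_symm S (T (d 1)) (T (d 0))] at h1
    refine mul_left_cancel₀ S.two ?_
    by_cases hil : i = l
    · rw [if_pos hil] at h1 ⊢; linear_combination h1
    · rw [if_neg hil] at h1 ⊢; linear_combination h1
  have k00 : x 0 * x 0 + y 0 * y 0 = 1 := by simpa using key 0 0
  have k11 : x 1 * x 1 + y 1 * y 1 = 1 := by simpa using key 1 1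
  have k22 : x 2 * x 2 + y 2 * y 2 = 1 := by simpa using key 2 2
  have k01 : x 0 * x 1 + y 0 * y 1 = 0 := by simpa using key 0 1
  have k02 : x 0 * x 2 + y 0 * y 2 = 0 := by simpa using key 0 2
  have k12 : x 1 * x 2 + y 1 * y 2 = 0 := by simpa using key 1 2
  obtain ⟨Δ, hΔ⟩ : ∃ Δ, Δ = x 0 * y 1 - x 1 * y 0 := ⟨_, rfl⟩
  have hΔ1 : Δ * Δ = 1 := by
    rw [hΔ]; linear_combination (x 1 * x 1 + y 1 * y 1) * k00 + k11 - (x 0 * x 1 + y 0 * y 1) * k01
  have hne : Δ ≠ 0 := fun e' => one_ne_zero (α := F) (by rw [← hΔ1, e', mul_zero])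
  have hx2 : x 2 = 0 := (mul_eq_zero.mp (show Δ * x 2 = 0 by
    rw [hΔ]; linear_combination y 1 * k02 - y 0 * k12)).resolve_left hne
  have hy2 : y 2 = 0 := (mul_eq_zero.mp (show Δ * y 2 = 0 by
    rw [hΔ]; linear_combination x 0 * k12 - x 1 * k02)).resolve_left hne
  rw [hx2, hy2, mul_zero, add_zero] at k22
  exact zero_ne_one k22

/-- An element commuting with such an involution is proportional to a rational one. -/
theorem good_of_commute (hI : ¬ Irr Q T Q₀ K) {k : ℕ} (hk : k ≤ 6) (hk0 : 0 < k) {d : Fin k → ι → F₀}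
    (hd : Orth1 Q₀ d) {a : GL ι F} (ha : Neg Q T d a) (haK : a ∈ K) {j : GL ι F} (hj : j ∈ K)
    (hcomm : j * a = a * j) : Good T j := by
  have hc : ∀ x, (a : Matrix ι ι F) *ᵥ ((j : Matrix ι ι F) *ᵥ x) = (j : Matrix ι ι F) *ᵥ ((a : Matrix ι ι F) *ᵥ x) :=
    fun x => by rw [← gl_mul_mulVec, ← gl_mul_mulVec, hcomm]
  refine good_of_split S hI hj hk hk (orth1_splits S hd) (orth1_splits S hd) (x₁ := d ⟨0, hk0⟩)
    (Submodule.subset_span ⟨_, rfl⟩) (by rw [orth1_quad S hd]; exact one_ne_zero) (fun i w hw => ?_)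
    (fun c hcs l => ?_)
  · exact orth_of_eigen S haK (by rw [hc, Neg.neg S ha hd, Matrix.mulVec_neg]) (Neg.fix S ha hw)
  · rw [B_symm S]
    exact orth_of_eigen S haK (Neg.neg S ha hd l) (by rw [hc, Neg.fix S ha hcs])

theorem linIndep_T {k : ℕ} {w : Fin k → ι → F₀} (hw : LinearIndependent F₀ w) :
    LinearIndependent F fun i => T (w i) := by
  rw [Fintype.linearIndependent_iff]
  intro c hc i
  rcases k with _ | k
  · exact i.elim0
  obtain ⟨x, hxs, hxi⟩ := OSim.exists_sep S.D (s := w ∘ i.succAbove) (a := w i) (by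
    rw [Set.range_comp, Fin.range_succAbove]; exact hw.notMem_span_image (by simp))
  let L : (ι → F) →ₗ[F] F :=
    { toFun := fun y => ⟪T x, y⟫, map_add' := fun p q => add_right S _ p q,
      map_smul' := fun r z => smul_right S r _ z }
  have h : L (∑ l, c l • T (w l)) = 0 := by rw [hc, map_zero]
  rw [map_sum, Finset.sum_eq_single i (fun l _ hl => by
    obtain ⟨m, rfl⟩ := Fin.exists_succAbove_eq hl
    have h0 : ⟪T x, T (w (i.succAbove m))⟫ = 0 := T_orth S (hxs m)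
    rw [map_smul]
    change _ • ⟪T x, _⟫ = 0
    rw [h0, smul_zero]) (fun h => absurd (Finset.mem_univ i) h), map_smul] at h
  change c i • ⟪T x, _⟫ = 0 at h
  rwa [T_polar S, hxi, Subfield.coe_one, smul_eq_mul, mul_one] at h

/-- The splitting of a rational involution. -/
theorem exists_split {j : GL ι F} (hjK : j ∈ K) (hj2 : j * j = 1) (hj1 : j ≠ 1)
    (hrat : ∀ x, ∃ w, (j : Matrix ι ι F) *ᵥ T x = T w) {N : ℕ} (hN : N ≤ 6) (z : Fin N → ι → F)
    (hz : ∀ x, x - (j : Matrix ι ι F) *ᵥ x ∈ Submodule.span F (Set.range z)) :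
    ∃ (k : ℕ) (s : Fin k → ι → F₀), k ≤ 6 ∧ Splits Q₀ s ∧
      (∃ x₁ ∈ Submodule.span F₀ (Set.range s), Q₀ x₁ ≠ 0) ∧
      (∀ i, (j : Matrix ι ι F) *ᵥ T (s i) = -T (s i)) ∧
      ∀ c, (∀ i, ⟪c, s i⟫₀ = 0) → (j : Matrix ι ι F) *ᵥ T c = T c := by
  have hjj : ∀ x, (j : Matrix ι ι F) *ᵥ ((j : Matrix ι ι F) *ᵥ x) = x := fun x => by
    rw [← gl_mul_mulVec, hj2, Units.val_one, Matrix.one_mulVec]
  let W : Submodule F₀ (ι → F₀) :=
    { carrier := {w | (j : Matrix ι ι F) *ᵥ T w = -T w}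
      add_mem' := fun {p q} (hp : _ = _) (hq : _ = _) => by
        show _ = _
        rw [S.T_add, Matrix.mulVec_add, hp, hq, neg_add]
      zero_mem' := by
        show _ = _
        rw [T_zero S, Matrix.mulVec_zero, neg_zero]
      smul_mem' := fun r p (hp : _ = _) => by
        show _ = _
        rw [S.T_smul, Matrix.mulVec_smul, hp, smul_neg] }
  let b := Module.finBasis F₀ W
  obtain ⟨s, hs⟩ : ∃ s : Fin (Module.finrank F₀ W) → ι → F₀, ∀ i, s i = (b i : ι → F₀) := ⟨_, fun _ => rfl⟩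
  have hsW : ∀ i, (j : Matrix ι ι F) *ᵥ T (s i) = -T (s i) := fun i => by rw [hs]; exact (b i).2
  have hspan : Submodule.span F₀ (Set.range s) = W := by
    rw [show s = W.subtype ∘ b from funext hs, Set.range_comp, Submodule.span_image, b.span_eq,
      Submodule.map_subtype_top]
  have hdec : ∀ v, ∃ p ∈ W, (j : Matrix ι ι F) *ᵥ T (v - p) = T (v - p) := fun v => by
    obtain ⟨w, hw⟩ := hrat v
    have hw' : (j : Matrix ι ι F) *ᵥ T w = T v := by rw [← hw, hjj]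
    refine ⟨(2 : F₀)⁻¹ • (v - w), ?_, ?_⟩
    · show _ = _
      rw [S.T_smul, T_sub S, Matrix.mulVec_smul, Matrix.mulVec_sub, hw, hw', ← smul_neg, neg_sub]
    · have e : (((2 : F₀)⁻¹ : F₀) : F) = (2 : F)⁻¹ := by rw [Subfield.coe_inv]; rfl
      rw [T_sub S, S.T_smul, T_sub S, Matrix.mulVec_sub, Matrix.mulVec_smul, Matrix.mulVec_sub, hw, hw', e]
      have := S.two
      match_scalars <;> field_simp <;> ring
  have hsplit : Splits Q₀ s := fun v => by
    obtain ⟨p, hp, hfix⟩ := hdec v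
    refine ⟨p, hspan.symm ▸ hp, fun i => Subtype.ext ?_⟩
    rw [← T_polar S, B_symm S]
    exact orth_of_eigen S hjK (hsW i) hfix
  have hperp : ∀ c, (∀ i, ⟪c, s i⟫₀ = 0) → (j : Matrix ι ι F) *ᵥ T c = T c := fun c hc => by
    obtain ⟨p, hp, hfix⟩ := hdec c
    have hp0 : p = 0 := by
      refine splits_zero S hsplit (hspan.symm ▸ hp) fun i => ?_
      have h1 : ⟪T (c - p), T (s i)⟫ = 0 := by rw [B_symm S]; exact orth_of_eigen S hjK (hsW i) hfix
      rw [T_polar S, OSim.sub_left S.D, hc, zero_sub, Subfield.coe_neg, neg_eq_zero] at h1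
      exact Subtype.ext h1
    rwa [hp0, sub_zero] at hfix
  have hk : Module.finrank F₀ W ≤ 6 := by
    have hli : LinearIndependent F₀ s := by
      rw [show s = W.subtype ∘ b from funext hs]
      exact b.linearIndependent.map' W.subtype (Submodule.ker_subtype W)
    have h1 := finrank_span_eq_card (linIndep_T S hli)
    have h2 : Submodule.span F (Set.range fun i => T (s i)) ≤ Submodule.span F (Set.range z) := by
      rw [Submodule.span_le]
      rintro _ ⟨i, rfl⟩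
      have h := Submodule.smul_mem _ (2 : F)⁻¹ (hz (T (s i)))
      rwa [hsW, sub_neg_eq_add, ← two_smul F (T (s i)), smul_smul, inv_mul_cancel₀ S.two, one_smul] at h
    have h3 : Module.finrank F (Submodule.span F (Set.range z)) ≤ Fintype.card (Fin N) := finrank_range_le_card z
    have h4 := Submodule.finrank_mono h2
    rw [h1, Fintype.card_fin] at h4
    rw [Fintype.card_fin] at h3
    omega
  refine ⟨_, s, hk, hsplit, ?_, hsW, hperp⟩
  by_contra hcon
  push Not at hcon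
  have hbot : ∀ v ∈ W, v = 0 := fun v hv => by
    rw [← hspan] at hv
    refine splits_zero S hsplit hv fun i => ?_
    have hi : s i ∈ Submodule.span F₀ (Set.range s) := Submodule.subset_span ⟨i, rfl⟩
    have := hcon (v + s i) (add_mem hv hi)
    rw [OSim.quad_sum S.D, hcon v hv, hcon _ hi] at this
    simpa using this
  refine hj1 (gl_ext_mulVec fun v => ?_)
  obtain ⟨μ, rfl⟩ := S.T_span v
  rw [Units.val_one, Matrix.one_mulVec, Matrix.mulVec_sum]
  refine Finset.sum_congr rfl fun i _ => ?_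
  obtain ⟨p, hp, hfix⟩ := hdec (Pi.single i 1)
  rw [hbot p hp, sub_zero] at hfix
  rw [Matrix.mulVec_smul, hfix]

/-- A proportional element of determinant one in odd dimension is rational. -/
theorem rat_of_good (P : GL ι F) (hTP : ∀ u, T u = (P : Matrix ι ι F) *ᵥ fun i => (u i : F))
    (hodd : Odd (Fintype.card ι)) {g : GL ι F} (hdet : (g : Matrix ι ι F).det = 1) (hg : Good T g) :
    ∀ x, ∃ w, (g : Matrix ι ι F) *ᵥ T x = T w := by
  obtain ⟨μ, hμ, hμμ, h⟩ := hg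
  choose w hw using h
  obtain ⟨M, hM⟩ : ∃ M : Matrix ι ι F₀, ∀ i l, M i l = w (Pi.single l 1) i :=
    ⟨Matrix.of fun i l => w (Pi.single l 1) i, fun _ _ => rfl⟩
  have hsingle : ∀ l, (fun i => ((Pi.single l (1 : F₀) : ι → F₀) i : F)) = Pi.single l 1 := fun l => by
    funext i
    by_cases hi : i = l <;> simp [hi]
  have e : ((P⁻¹ * g * P : GL ι F) : Matrix ι ι F) = μ • M.map F₀.subtype := by
    refine Matrix.ext_of_mulVec_single fun l => ?_
    have h1 := hw (Pi.single l 1)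
    rw [hTP, hsingle, hTP] at h1
    rw [gl_mul_mulVec, gl_mul_mulVec, h1, Matrix.mulVec_smul, gl_inv_mulVec_cancel]
    funext i
    rw [Matrix.mulVec_single_one]
    simp [hM]
  have hd : μ ^ Fintype.card ι * ((M.det : F₀) : F) = 1 := by
    have h1 : (M.map F₀.subtype).det = ((M.det : F₀) : F) := (RingHom.map_det F₀.subtype M).symm
    rw [← h1, ← Matrix.det_smul, ← e, Units.val_mul, Units.val_mul, Matrix.det_units_conj', hdet]
  obtain ⟨k, hk⟩ := hodd
  have h3 : μ ^ Fintype.card ι ∈ F₀ := by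
    rw [eq_inv_of_mul_eq_one_left hd]; exact inv_mem M.det.2
  have hμ' : μ ∈ F₀ := by
    have := mul_mem h3 (inv_mem (pow_mem hμμ k))
    rwa [hk, show μ ^ (2 * k + 1) = (μ * μ) ^ k * μ by rw [pow_succ, pow_mul, _root_.sq],
      mul_comm ((μ * μ) ^ k) μ, mul_inv_cancel_right₀ (pow_ne_zero _ (mul_ne_zero hμ hμ))] at this
  intro x
  exact ⟨(⟨μ, hμ'⟩ : F₀) • w x, by rw [hw, S.T_smul]⟩

/-- Everything is proportional to rational. -/
theorem all_good [Finite F] (hI : ¬ Irr Q T Q₀ K) (P : GL ι F)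
    (hTP : ∀ u, T u = (P : Matrix ι ι F) *ᵥ fun i => (u i : F)) (hodd : Odd (Fintype.card ι))
    (hdet : ∀ k ∈ K, (k : Matrix ι ι F).det = 1)
    {d₁ d₂ d₃ d₄ : ι → F₀} (hd : Orth1 Q₀ ![d₁, d₂]) (he : Orth1 Q₀ ![d₁, d₂, d₃, d₄]) {a a' : GL ι F}
    (ha : Neg Q T ![d₁, d₂] a) (ha' : Neg Q T ![d₁, d₂, d₃, d₄] a') (haK : a ∈ K) (ha'K : a' ∈ K)
    (haa : a * a = 1) (ha'a' : a' * a' = 1) {g : GL ι F} (hg : g ∈ K) : Good T g := by
  have hbK : g * a' * g⁻¹ ∈ K := mul_mem (mul_mem hg ha'K) (inv_mem hg)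
  have hb2 : g * a' * g⁻¹ * (g * a' * g⁻¹) = 1 := by
    rw [show g * a' * g⁻¹ * (g * a' * g⁻¹) = g * (a' * a') * g⁻¹ by group, ha'a']; group
  obtain ⟨j, hjK, hj2, hj1, hja, hjb, y, hyK, hy⟩ := USub.exists_commuting haK hbK haa hb2 (fun y hy e =>
    not_conj S hd he ha ha' (mul_mem (inv_mem hg) hy) (by
      rw [show g⁻¹ * y * a * (g⁻¹ * y)⁻¹ = g⁻¹ * (y * a * y⁻¹) * g by group, e]; group))
  have hjr := rat_of_good S P hTP hodd (hdet j hjK)
    (good_of_commute S hI (by norm_num) (by norm_num) hd ha haK hjK hja)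
  -- a small family for the range of `1 - j`
  obtain ⟨k, hk, u, hu⟩ : ∃ k, k ≤ 4 ∧ ∃ u : Fin k → ι → F,
      ∀ x, x - ((j * a : GL ι F) : Matrix ι ι F) *ᵥ x ∈ Submodule.span F (Set.range u) := by
    rcases hy with e | e
    · exact ⟨2, by norm_num, _, fun x => conj_range S ha e x⟩
    · exact ⟨4, le_refl 4, _, fun x => conj_range S ha' (h := y * g) (by rw [← e]; group) x⟩
  obtain ⟨z, hz⟩ : ∃ z : Fin (k + 2) → ι → F,
      z = Fin.append u fun i => (j : Matrix ι ι F) *ᵥ T (![d₁, d₂] i) := ⟨_, rfl⟩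
  have hzj : ∀ x, x - (j : Matrix ι ι F) *ᵥ x ∈ Submodule.span F (Set.range z) := fun x => by
    rw [show x - (j : Matrix ι ι F) *ᵥ x =
      (x - ((j * a : GL ι F) : Matrix ι ι F) *ᵥ x) +
        (j : Matrix ι ι F) *ᵥ ((a : Matrix ι ι F) *ᵥ x - x) by
      rw [gl_mul_mulVec, Matrix.mulVec_sub]; abel]
    refine add_mem (Submodule.span_mono ?_ (hu x)) ?_
    · rintro _ ⟨i, rfl⟩
      exact ⟨Fin.castAdd 2 i, by rw [hz, Fin.append_left]⟩
    · rw [ha x, sub_sub_cancel_left, Matrix.mulVec_neg, Matrix.mulVec_sum]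
      refine neg_mem (Submodule.sum_mem _ fun i _ => ?_)
      rw [Matrix.mulVec_smul]
      exact Submodule.smul_mem _ _ (Submodule.subset_span ⟨Fin.natAdd k i, by rw [hz, Fin.append_right]⟩)
  obtain ⟨j', hj'⟩ : ∃ j', j' = g⁻¹ * j * g := ⟨_, rfl⟩
  have hj'K : j' ∈ K := hj' ▸ mul_mem (mul_mem (inv_mem hg) hjK) hg
  have hj'2 : j' * j' = 1 := by
    rw [hj', show g⁻¹ * j * g * (g⁻¹ * j * g) = g⁻¹ * (j * j) * g by group, hj2]; group
  have hj'1 : j' ≠ 1 := fun e => hj1 (by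
    rw [show j = g * (g⁻¹ * j * g) * g⁻¹ by group, ← hj', e]; group)
  have hgj : g * j' = j * g := by rw [hj']; group
  have hj'a : j' * a' = a' * j' := by
    rw [hj', show g⁻¹ * j * g * a' = g⁻¹ * (j * (g * a' * g⁻¹)) * g by group, hjb]; group
  have hj'r := rat_of_good S P hTP hodd (hdet j' hj'K)
    (good_of_commute S hI (by norm_num) (by norm_num) he ha' ha'K hj'K hj'a)
  obtain ⟨z', hz'⟩ : ∃ z' : Fin (k + 2) → ι → F, ∀ i, z' i = ((g⁻¹ : GL ι F) : Matrix ι ι F) *ᵥ z i :=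
    ⟨_, fun _ => rfl⟩
  have hzj' : ∀ x, x - (j' : Matrix ι ι F) *ᵥ x ∈ Submodule.span F (Set.range z') := fun x => by
    obtain ⟨c, hc⟩ := (Submodule.mem_span_range_iff_exists_fun F).mp (hzj ((g : Matrix ι ι F) *ᵥ x))
    refine (Submodule.mem_span_range_iff_exists_fun F).mpr ⟨c, gl_mulVec_injective g ?_⟩
    dsimp only
    rw [Matrix.mulVec_sum, Matrix.mulVec_sub, ← gl_mul_mulVec g j', hgj, gl_mul_mulVec, ← hc]
    exact Finset.sum_congr rfl fun i _ => by rw [Matrix.mulVec_smul, hz', gl_mulVec_inv_cancel]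
  obtain ⟨k₁, s₁, hk₁, hs₁, ⟨x₁, hx₁, hx₁Q⟩, hs₁n, hs₁f⟩ := exists_split S hj'K hj'2 hj'1 hj'r (by omega) z' hzj'
  obtain ⟨k₂, s₂, hk₂, hs₂, -, hs₂n, hs₂f⟩ := exists_split S hjK hj2 hj1 hjr (by omega) z hzj
  have hmove : ∀ x, (j : Matrix ι ι F) *ᵥ ((g : Matrix ι ι F) *ᵥ x) =
      (g : Matrix ι ι F) *ᵥ ((j' : Matrix ι ι F) *ᵥ x) := fun x => by
    rw [← gl_mul_mulVec, ← gl_mul_mulVec, hgj]
  refine good_of_split S hI hg hk₁ hk₂ hs₁ hs₂ hx₁ hx₁Q (fun i w hw => ?_) (fun c hc l => ?_)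
  · exact orth_of_eigen S hjK (by rw [hmove, hs₁n, Matrix.mulVec_neg]) (hs₂f w hw)
  · rw [B_symm S]
    exact orth_of_eigen S hjK (hs₂n l) (by rw [hmove, hs₁f c hc])

end Cfsg.Agent.Classical.OSub
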