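/-
The subfield subgroups are maximal in the odd dimensional orthogonal groups.
-/
import Cfsg.Agent.Lib.Classical.OSubInvol
import Cfsg.Agent.Lib.Classical.OrthEvenBase
import Cfsg.Agent.Lib.Classical.OrthIndex
import Cfsg.Agent.Lib.Classical.FormPower

set_option autoImplicit false
set_option linter.unusedSectionVars false
set_option linter.style.haveILetI false

namespace Cfsg.Agent.Classical.OSub

open Matrix Cfsg.Geo
open Cfsg.Agent.Classical

variable {ι : Type} [Fintype ι] [DecidableEq ι] {F : Type*} [Field F] [Fintype F]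

theorem neg_sq {F₀ : Subfield F} [Fintype F₀] {Q : (ι → F) → F} {T : (ι → F₀) → ι → F} {Q₀ : (ι → F₀) → F₀}
    {K : Subgroup (GL ι F)} (S : Setup Q T Q₀ K) {k : ℕ} {d : Fin k → ι → F₀} (hd : Orth1 Q₀ d) {a : GL ι F}
    (ha : Neg Q T d a) : a * a = 1 := by
  refine gl_ext_mulVec fun x => ?_
  rw [gl_mul_mulVec, ha x, Matrix.mulVec_sub, Matrix.mulVec_sum, ha x, Units.val_one, Matrix.one_mulVec]
  simp only [Matrix.mulVec_smul, Neg.neg S ha hd, smul_neg, Finset.sum_neg_distrib]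
  abel

/-- The subfield group is maximal. -/
theorem isMaximal {Q : (ι → F) → F} (hQ : IsNondegenerateQuadraticForm Q) (h2 : (2 : F) ≠ 0)
    (hodd : Odd (Fintype.card ι)) (hn : 13 ≤ Fintype.card ι) {F₀ : Subfield F} {r : ℕ} (hr : r.Prime)
    (hcard : Fintype.card F = Nat.card F₀ ^ r) (P : GL ι F) (hP : IsQuadFormRationalStructure Q F₀ P) :
    IsMaximalIn (omegaGL Q) (subfieldSubgroup F₀ P ⊓ omegaGL Q) := by
  classical
  obtain ⟨Qf, rfl, hPND⟩ := ONotMax.exists_qform hQ
  haveI : Fintype F₀ := Fintype.ofFinite F₀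
  have hne : F₀ ≠ ⊤ := fun e => by
    subst e
    rw [Nat.card_congr (Subfield.topEquiv (K := F)).toEquiv, Nat.card_eq_fintype_card] at hcard
    exact hr.one_lt.ne (Nat.pow_right_injective (Fintype.one_lt_card (α := F)) ((pow_one _).trans hcard))
  refine ⟨lt_of_le_of_ne inf_le_right fun e => ?_, fun K hK hKΩ => or_iff_not_imp_left.mpr fun hnK =>
    le_antisymm hKΩ ?_⟩
  · obtain ⟨N, hN, hNN, ht⟩ := OEven.exists_family hPND (by omega)
    exact OEven.not_le_subfield_of_family hN hNN (fun t => by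
      obtain ⟨g, hg, hgm, -⟩ := ht t
      exact ⟨g, hg, hgm⟩) hne P (inf_eq_right.mp e)
  let T : (ι → F₀) → ι → F := fun u => (P : Matrix ι ι F) *ᵥ fun i => (u i : F)
  have hTadd : ∀ u w, T (u + w) = T u + T w := fun u w => by
    simp only [T]
    rw [← Matrix.mulVec_add]
    congr 1
  have hTsmul : ∀ (c : F₀) u, T (c • u) = (c : F) • T u := fun c u => by
    simp only [T]
    rw [← Matrix.mulVec_smul]
    congr 1
  have hsingle : ∀ i, (fun j => ((Pi.single i (1 : F₀) : ι → F₀) j : F)) = Pi.single i 1 := fun i => by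
    funext j
    by_cases hj : j = i <;> simp [hj]
  have hTspan : ∀ v : ι → F, ∃ μ : ι → F, v = ∑ i, μ i • T (Pi.single i 1) := fun v => by
    refine ⟨((P⁻¹ : GL ι F) : Matrix ι ι F) *ᵥ v, ?_⟩
    simp only [T, hsingle, ← Matrix.mulVec_smul, ← Matrix.mulVec_sum]
    rw [← pi_eq_sum_univ' (((P⁻¹ : GL ι F) : Matrix ι ι F) *ᵥ v), gl_mulVec_inv_cancel]
  let Q₀ : (ι → F₀) → F₀ := fun u => ⟨Qf (T u), hP _ fun i => (u i).2⟩
  have hQT : ∀ u, Qf (T u) = (Q₀ u : F) := fun u => rfl
  have hpol : ∀ u w, ((QuadraticMap.polar Q₀ u w : F₀) : F) = QuadraticMap.polar (⇑Qf) (T u) (T w) := fun u w => by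
    simp only [QuadraticMap.polar, Q₀, Subfield.coe_sub, hTadd]
  have hb := hQ.polar_bilinear
  have D : OSim.Data Q₀ := by
    refine ⟨⟨fun c v => Subtype.ext ?_, ⟨fun x y v => Subtype.ext ?_, fun c x v => Subtype.ext ?_,
      fun v x y => Subtype.ext ?_, fun c v x => Subtype.ext ?_⟩, fun v hv => ?_⟩, fun e => h2 ?_, le_trans (by norm_num) hn⟩
    · simp only [Q₀, hTsmul, hQ.smul, Subfield.coe_mul, SubmonoidClass.coe_pow]
    · rw [Subfield.coe_add, hpol, hpol, hpol, hTadd, hb.add_left]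
    · rw [Subfield.coe_mul, hpol, hpol, hTsmul, hb.smul_left]
    · rw [Subfield.coe_add, hpol, hpol, hpol, hTadd, hb.add_right]
    · rw [Subfield.coe_mul, hpol, hpol, hTsmul, hb.smul_right]
    · have hv0 : T v ≠ 0 := fun e =>
        hv (funext fun i => Subtype.ext (congrFun (gl_mulVec_injective P (e.trans (Matrix.mulVec_zero _).symm)) i))
      obtain ⟨x, hx⟩ : ∃ x, QuadraticMap.polar (⇑Qf) (T v) (T x) ≠ 0 := by
        by_contra hcon
        push Not at hcon
        obtain ⟨y, hy⟩ := (hQ.nondegenerate _ hv0).2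
        obtain ⟨μ, rfl⟩ := hTspan y
        refine hy ?_
        let L : (ι → F) →ₗ[F] F :=
          { toFun := fun z => QuadraticMap.polar (⇑Qf) (T v) z, map_add' := fun a b => hb.add_right _ a b,
            map_smul' := fun c z => hb.smul_right c _ z }
        change L _ = 0
        rw [map_sum]
        refine Finset.sum_eq_zero fun i _ => ?_
        rw [map_smul]
        change μ i • QuadraticMap.polar (⇑Qf) _ _ = 0
        rw [hcon, smul_zero]
      refine ⟨⟨x, fun e => hx ?_⟩, ⟨x, fun e => hx ?_⟩⟩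
      · rw [← hpol, QuadraticMap.polar_comm, e]; rfl
      · rw [← hpol, e]; rfl
    · exact (map_ofNat F₀.subtype 2).symm.trans ((congrArg F₀.subtype e).trans (map_zero _))
  have hmem : ∀ g : GL ι F, (∀ x, ∃ w, (g : Matrix ι ι F) *ᵥ T x = T w) → g ∈ subfieldSubgroup F₀ P := fun g h => by
    refine mem_subfieldSubgroup_of_scaled one_ne_zero fun i l => ?_
    obtain ⟨w, hw⟩ := h (Pi.single l 1)
    simp only [T] at hw
    rw [hsingle] at hw
    have h1 : ((P⁻¹ * g * P : GL ι F) : Matrix ι ι F) *ᵥ Pi.single l 1 = fun k => (w k : F) := by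
      rw [gl_mul_mulVec, gl_mul_mulVec, hw, gl_inv_mulVec_cancel]
    have h2' := congrFun h1 i
    rw [Matrix.mulVec_single_one, Matrix.col_apply] at h2'
    rw [one_mul, h2']
    exact (w i).2
  have hsiegel : ∀ e v, Qf e = 0 → QuadraticMap.polar (⇑Qf) e v = 0 →
      ∃ g ∈ omegaGL ⇑Qf, ∀ x, (g : Matrix ι ι F) *ᵥ x = eichler (⇑Qf) e v x := fun e v he hv => by
    obtain ⟨g, hg, hgx⟩ := ONotMax.exists_siegel hPND (by omega) he hv
    exact ⟨g, hg, fun x => by rw [hgx, eichler, QuadraticMap.polar_comm _ x e, QuadraticMap.polar_comm _ x v]⟩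
  have S : Setup (⇑Qf) T Q₀ K :=
    { hQ := hQ
      D := D
      big := hn
      two := h2
      T_add := hTadd
      T_smul := hTsmul
      T_span := hTspan
      hT := hQT
      iso := fun k hk x => ONotMax.omega_isometry (hKΩ hk) x
      base := fun a y ha hay => by
        obtain ⟨g, hg, hgx⟩ := hsiegel (T a) (T y) (by rw [hQT, ha]; rfl) (by rw [← hpol, hay]; rfl)
        refine ⟨g, hK ⟨hmem g fun x => ⟨eichler Q₀ a y x, ?_⟩, hg⟩, hgx⟩
        rw [hgx, eichler, eichler, ← hpol, ← hpol, hQT, ← Subfield.coe_mul, ← Subfield.coe_add, ← hTsmul, ← hTsmul,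
          ← hTadd]
        exact (sub_eq_of_eq_add (by rw [← hTadd, sub_add_cancel])) }
  by_cases hI : Irr (⇑Qf) T Q₀ K
  · -- all root elements
    rintro _ ⟨x, hx, rfl⟩
    rw [SetLike.mem_coe, OOmega.omega_eq_map, OOmega.commutator_eq_root h2 hPND
      (by rw [Module.finrank_fintype_fun_eq_card]; omega)] at hx
    obtain ⟨y, hy, rfl⟩ := hx
    change (ORefl.toMat Qf y).1 ∈ K
    induction hy using Subgroup.closure_induction with
    | mem y hy =>
      obtain ⟨e, v, he, hv, -, hy⟩ := hy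
      obtain ⟨k, hk, hkx⟩ := full S hr hcard hI he hv
      convert hk using 1
      refine gl_ext_mulVec fun z => ?_
      rw [ORefl.toMat_apply, hy, ORefl.siegel_apply, hkx, eichler, QuadraticMap.polar_comm _ z e,
        QuadraticMap.polar_comm _ z v]
    | one => rw [map_one]; exact one_mem _
    | mul a b _ _ iha ihb => rw [map_mul, Subgroup.coe_mul]; exact mul_mem iha ihb
    | inv a _ iha => rw [map_inv, Subgroup.coe_inv]; exact inv_mem iha
  exfalso
  refine hnK (le_antisymm (le_inf (fun g hg => ?_) hKΩ) hK)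
  obtain ⟨d₁, d₂, d₃, d₄, hd, he⟩ := exists_orth1_four S
  have hd34 : Orth1 Q₀ ![d₃, d₄] := by
    refine ⟨fun i => ?_, fun i l hil => ?_⟩
    · fin_cases i
      exacts [he.1 2, he.1 3]
    · fin_cases i <;> fin_cases l <;> try exact absurd rfl hil
      exacts [he.2 2 3 (by decide), he.2 3 2 (by decide)]
  have mk : ∀ {u w : ι → F₀}, Orth1 Q₀ ![u, w] →
      ∃ a : GL ι F, a ∈ omegaGL ⇑Qf ∧ Neg (⇑Qf) T ![u, w] a := fun {u w} h => by
    have hu : Qf (T u) = 1 := (hQT u).trans (by rw [show Q₀ u = 1 from orth1_quad S h 0]; rfl)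
    have hw : Qf (T w) = 1 := (hQT w).trans (by rw [show Q₀ w = 1 from orth1_quad S h 1]; rfl)
    obtain ⟨a, ha, hax⟩ := ONotMax.exists_refl_pair hPND (u := T u) (w := T w) (by rw [hu]; exact one_ne_zero)
      (hw.trans hu.symm)
    refine ⟨a, ha, fun x => ?_⟩
    have huw : QuadraticMap.polar (⇑Qf) (T u) (T w) = 0 := T_orth S (h.2 0 1 (by decide))
    rw [hax, ORefl.refl_apply, ORefl.refl_apply, hu, hw, inv_one, one_mul, one_mul, sub_right S, smul_right S, huw,
      mul_zero, sub_zero, Fin.sum_univ_two]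
    simp only [Matrix.cons_val_zero, Matrix.cons_val_one]
    module
  obtain ⟨a, haΩ, ha⟩ := mk hd
  obtain ⟨c, hcΩ, hc⟩ := mk hd34
  have rat : ∀ {u w : ι → F₀} {b : GL ι F}, Neg (⇑Qf) T ![u, w] b →
      ∀ x, ∃ v, (b : Matrix ι ι F) *ᵥ T x = T v := fun {u w b} hb' x => by
    refine ⟨x - (QuadraticMap.polar Q₀ u x • u + QuadraticMap.polar Q₀ w x • w), ?_⟩
    rw [hb' (T x), Fin.sum_univ_two, T_sub S, hTadd, hTsmul, hTsmul, hpol, hpol]
    simp only [Matrix.cons_val_zero, Matrix.cons_val_one]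
  have ha' : Neg (⇑Qf) T ![d₁, d₂, d₃, d₄] (a * c) := fun x => by
    have o : ∀ i l, i ≠ l → QuadraticMap.polar (⇑Qf) (T (![d₁, d₂, d₃, d₄] i)) (T (![d₁, d₂, d₃, d₄] l)) = 0 :=
      fun i l h => T_orth S (he.2 i l h)
    have o13 : QuadraticMap.polar (⇑Qf) (T d₁) (T d₃) = 0 := o 0 2 (by decide)
    have o14 : QuadraticMap.polar (⇑Qf) (T d₁) (T d₄) = 0 := o 0 3 (by decide)
    have o23 : QuadraticMap.polar (⇑Qf) (T d₂) (T d₃) = 0 := o 1 2 (by decide)
    have o24 : QuadraticMap.polar (⇑Qf) (T d₂) (T d₄) = 0 := o 1 3 (by decide)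
    rw [gl_mul_mulVec, hc x, ha, Fin.sum_univ_two, Fin.sum_univ_two, Fin.sum_univ_four]
    simp only [Matrix.cons_val_zero, Matrix.cons_val_one, Matrix.cons_val, sub_right S, add_right S, smul_right S,
      o13, o14, o23, o24, mul_zero, add_zero, sub_zero]
    module
  have hin : ∀ {b : GL ι F}, b ∈ omegaGL ⇑Qf → (∀ x, ∃ v, (b : Matrix ι ι F) *ᵥ T x = T v) → b ∈ K :=
    fun {b} hb' h => hK ⟨hmem b h, hb'⟩
  have haK := hin haΩ (rat ha)
  have hgood := all_good S hI P (fun u => rfl) hodd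
    (fun k hk => mem_specialLinear_iff.mp (omegaGL_le_specialLinear (hKΩ hk))) hd he ha ha' haK
    (mul_mem haK (hin hcΩ (rat hc))) (neg_sq S hd ha) (neg_sq S he ha') hg
  exact hmem g (rat_of_good S P (fun u => rfl) hodd
    (mem_specialLinear_iff.mp (omegaGL_le_specialLinear (hKΩ hg))) hgood)

end Cfsg.Agent.Classical.OSub
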