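import Cfsg.Agent.Lib.Classical.OrthRoot

/-!
# Simplicity of the derived group modulo its centre

Iwasawa's argument on the singular points, with Siegel transformations doing all the work: they
give transitivity of normal subgroups, perfectness, and an abelian group attached to each point.
-/

set_option autoImplicit false
set_option linter.unusedSectionVars false

namespace Cfsg.Agent.Classical.OOmega

open Module QuadraticMap OCount ORefl
open scoped commutatorElement

variable {F : Type*} [Field F] {V : Type*} [AddCommGroup V] [Module F V] [FiniteDimensional F V]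
  {Q : QuadraticForm F V}

/-- A Siegel transformation as an element of the isometry group. -/
def el {e v : V} (he : Q e = 0) (hv : polar Q e v = 0) : ↥(Iso Q) := ⟨siegel he hv, siegel_mem he hv⟩

theorem el_apply {e v : V} (he : Q e = 0) (hv : polar Q e v = 0) (x : V) :
    (el he hv).1 x = x + polar Q e x • v - (polar Q v x + Q v * polar Q e x) • e := rfl

theorem el_congr {e v e' v' : V} (he : Q e = 0) (hv : polar Q e v = 0) (he' : Q e' = 0) (hv' : polar Q e' v' = 0)
    (h1 : e = e') (h2 : v = v') : el he hv = el he' hv' := by subst h1 h2; rfl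

theorem el_mul {e v w : V} (he : Q e = 0) (hv : polar Q e v = 0) (hw : polar Q e w = 0) :
    el he hv * el he hw = el he (v := v + w) (by rw [polar_add_right, hv, hw, add_zero]) :=
  Subtype.ext (siegel_mul he hv hw)

theorem el_inv {e v : V} (he : Q e = 0) (hv : polar Q e v = 0) :
    (el he hv)⁻¹ = el he (v := -v) (by rw [polar_neg_right, hv, neg_zero]) := by
  refine inv_eq_of_mul_eq_one_left (Subtype.ext (LinearEquiv.ext fun x => ?_))
  rw [el_mul, el_apply, neg_add_cancel, QuadraticMap.map_zero, polar_zero_left]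
  simp

theorem el_conj (g : ↥(Iso Q)) {e v : V} (he : Q e = 0) (hv : polar Q e v = 0) :
    g * el he hv * g⁻¹ = el (e := g.1 e) (v := g.1 v) ((g.2 e).trans he) ((polar_iso g.2 e v).trans hv) :=
  Subtype.ext (conj_siegel g.2 he hv)

theorem el_scale {e v : V} (c : F) (he : Q e = 0) (hv : polar Q e v = 0) :
    el (e := c • e) (v := v) (by rw [QuadraticMap.map_smul, he, smul_zero])
      (by rw [polar_smul_left, hv, smul_zero]) =
      el he (v := c • v) (by rw [polar_smul_right, hv, smul_zero]) := by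
  refine Subtype.ext (LinearEquiv.ext fun x => ?_)
  rw [el_apply, el_apply, polar_smul_left, polar_smul_left, QuadraticMap.map_smul]
  simp only [smul_eq_mul]
  module

variable (Q) in
/-- Three mutually orthogonal hyperbolic pairs. -/
structure ThreePairs where
  e : V
  f : V
  w : V
  w' : V
  u : V
  z : V
  hp : IsHPair Q (e, f)
  hq : IsHPair Q (w, w')
  hs : IsHPair Q (u, z)
  ew : polar Q e w = 0
  ew' : polar Q e w' = 0
  fw : polar Q f w = 0
  fw' : polar Q f w' = 0
  eu : polar Q e u = 0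
  ez : polar Q e z = 0
  fu : polar Q f u = 0
  fz : polar Q f z = 0
  wu : polar Q w u = 0
  wz : polar Q w z = 0
  w'u : polar Q w' u = 0
  w'z : polar Q w' z = 0

variable (P : ThreePairs Q)

theorem six_le (hQ : PND Q) (P : ThreePairs Q) : 6 ≤ finrank F V := by
  have h1 := finrank_comp P.hp
  have hQ1 := res_pnd hQ P.hp
  have hq' : IsHPair (res Q (P.e, P.f)) (⟨P.w, mem_comp.mpr ⟨P.ew, P.fw⟩⟩, ⟨P.w', mem_comp.mpr ⟨P.ew', P.fw'⟩⟩) :=
    ⟨P.hq.1, P.hq.2.1, P.hq.2.2⟩
  have h2 := finrank_comp hq'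
  have hQ2 := res_pnd hQ1 hq'
  have hs' : IsHPair (res (res Q (P.e, P.f)) (⟨P.w, mem_comp.mpr ⟨P.ew, P.fw⟩⟩, ⟨P.w', mem_comp.mpr ⟨P.ew', P.fw'⟩⟩))
      (⟨⟨P.u, mem_comp.mpr ⟨P.eu, P.fu⟩⟩, mem_comp.mpr ⟨P.wu, P.w'u⟩⟩,
        ⟨⟨P.z, mem_comp.mpr ⟨P.ez, P.fz⟩⟩, mem_comp.mpr ⟨P.wz, P.w'z⟩⟩) := ⟨P.hs.1, P.hs.2.1, P.hs.2.2⟩
  have h3 := finrank_comp hs'
  omega

/-- The derived group is the root group. -/
theorem eq_root [Finite F] (hQ : PND Q) (P : ThreePairs Q) : commutator ↥(Iso Q) = rootGroup Q := by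
  have h6 := six_le hQ P
  exact commutator_eq_root_of_pair hQ (Or.inr (by omega)) (p := (P.e, P.f)) P.hp
    ⟨(⟨P.w, mem_comp.mpr ⟨P.ew, P.fw⟩⟩, ⟨P.w', mem_comp.mpr ⟨P.ew', P.fw'⟩⟩), P.hq.1, P.hq.2.1, P.hq.2.2⟩

theorem el_mem (hQ : PND Q) (P : ThreePairs Q) {e v : V} (he : Q e = 0) (hv : polar Q e v = 0) :
    el he hv ∈ commutator ↥(Iso Q) :=
  siegel_mem_commutator hQ (Or.inr (by have := six_le hQ P; omega)) he hv

/-- The commutator that produces a Siegel transformation. -/
theorem el_mem_derived (hQ : PND Q) (P : ThreePairs Q) {e w w' v : V} (he : Q e = 0) (hq : IsHPair Q (w, w'))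
    (hew : polar Q e w = 0) (hew' : polar Q e w' = 0) (hev : polar Q e v = 0) (hwv : polar Q w v = 0)
    (hwv' : polar Q w' v = 0) :
    el he (v := v - Q v • w') (by rw [polar_sub_right, polar_smul_right, hev, hew', smul_zero, sub_zero]) ∈
      ⁅commutator ↥(Iso Q), commutator ↥(Iso Q)⁆ := by
  have hw'w : polar Q w' w = 1 := by rw [polar_comm]; exact hq.2.2
  have hm := Subgroup.commutator_mem_commutator (el_mem hQ P (e := w') hq.2.1 hwv') (el_mem hQ P he hew)
  rw [commutatorElement_def, el_conj, el_inv he hew] at hm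
  convert hm using 1
  have hgw : (el (e := w') hq.2.1 hwv').1 w = w + v - Q v • w' := by
    rw [el_apply, hw'w, polar_comm Q v w, hwv, one_smul, mul_one, zero_add]
  have hge : (el (e := w') hq.2.1 hwv').1 e = e := by
    rw [el_apply, polar_comm Q w' e, hew', polar_comm Q v e, hev]; simp
  rw [el_congr _ _ he (v' := w + v - Q v • w')
    (by rw [polar_sub_right, polar_add_right, polar_smul_right, hew, hev, hew']; simp) hge hgw, el_mul]
  exact el_congr _ _ _ _ rfl (by abel)

/-- All Siegel transformations at the first point are products of commutators. -/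
theorem el_first_mem_derived (hQ : PND Q) (P : ThreePairs Q) {v : V} (hv : polar Q P.e v = 0) :
    el P.hp.1 hv ∈ ⁅commutator ↥(Iso Q), commutator ↥(Iso Q)⁆ := by
  have hsing : ∀ x : V, ∀ (hx : polar Q P.e x = 0), Q x = 0 → polar Q P.u x = 0 → polar Q P.z x = 0 →
      el P.hp.1 hx ∈ ⁅commutator ↥(Iso Q), commutator ↥(Iso Q)⁆ := by
    intro x hx hQx hux hzx
    have := el_mem_derived hQ P P.hp.1 P.hs P.eu P.ez hx hux hzx
    rwa [el_congr _ _ P.hp.1 hx rfl (by rw [hQx, zero_smul, sub_zero])] at this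
  obtain ⟨r, hr⟩ : ∃ r, r = v - polar Q P.w' v • P.w - polar Q P.w v • P.w' := ⟨_, rfl⟩
  have hrc := mem_comp.mp (hr ▸ exists_split (p := (P.w, P.w')) P.hq v : r ∈ comp Q (P.w, P.w'))
  have her : polar Q P.e r = 0 := by
    rw [hr, polar_sub_right, polar_sub_right, polar_smul_right, polar_smul_right, hv, P.ew, P.ew']; simp
  have key := el_mem_derived hQ P P.hp.1 P.hq P.ew P.ew' her hrc.1 hrc.2
  have e1 : polar Q P.e (polar Q P.w' v • P.w) = 0 := by rw [polar_smul_right, P.ew, smul_zero]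
  have e2 : polar Q P.e ((polar Q P.w v + Q r) • P.w') = 0 := by rw [polar_smul_right, P.ew', smul_zero]
  have m1 := hsing _ e1 (by rw [QuadraticMap.map_smul, P.hq.1, smul_zero])
    (by rw [polar_smul_right, polar_comm Q P.u P.w, P.wu, smul_zero])
    (by rw [polar_smul_right, polar_comm Q P.z P.w, P.wz, smul_zero])
  have m2 := hsing _ e2 (by rw [QuadraticMap.map_smul, P.hq.2.1, smul_zero])
    (by rw [polar_smul_right, polar_comm Q P.u P.w', P.w'u, smul_zero])
    (by rw [polar_smul_right, polar_comm Q P.z P.w', P.w'z, smul_zero])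
  convert mul_mem (mul_mem key m1) m2 using 1
  rw [el_mul, el_mul]
  exact el_congr _ _ _ _ rfl (by rw [hr]; module)

/-- The derived group is perfect. -/
theorem commutator_perfect [Finite F] (hQ : PND Q) (P : ThreePairs Q) :
    ⁅commutator ↥(Iso Q), commutator ↥(Iso Q)⁆ = commutator ↥(Iso Q) := by
  refine le_antisymm (Subgroup.commutator_le_self _) ?_
  conv_lhs => rw [eq_root hQ P]
  refine (Subgroup.closure_le _).mpr ?_
  rintro g ⟨a, v, ha, hv, -, hg⟩
  rw [SetLike.mem_coe, show g = el ha hv from Subtype.ext hg]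
  by_cases ha0 : a = 0
  · rw [show el ha hv = 1 from Subtype.ext (LinearEquiv.ext fun x => by rw [el_apply, ha0]; simp)]
    exact one_mem _
  have he0 : P.e ≠ 0 := fun e => by
    have := P.hp.2.2
    change polar Q P.e P.f = 1 at this
    rw [e, polar_zero_left] at this
    exact zero_ne_one this
  obtain ⟨h, hh⟩ := exists_conj hQ he0 ha0 (ha.trans P.hp.1.symm)
  have hv' : polar Q P.e (h.1.symm v) = 0 := by
    rw [← polar_iso h.2, hh, h.1.apply_symm_apply, hv]
  have := (Subgroup.commutator_normal _ _).conj_mem _ (el_first_mem_derived hQ P hv') h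
  rwa [el_conj, el_congr _ _ ha hv hh (h.1.apply_symm_apply v)] at this

/-- Some element of `N` carries the line of `a` to that of `x`. -/
def Reach (N : Subgroup ↥(commutator ↥(Iso Q))) (a x : V) : Prop :=
  ∃ n ∈ N, ∃ c : F, c ≠ 0 ∧ n.1.1 a = c • x

variable {N : Subgroup ↥(commutator ↥(Iso Q))}

theorem Reach.symm' {a x : V} (h : Reach N a x) : Reach N x a := by
  obtain ⟨n, hn, c, hc, he⟩ := h
  refine ⟨n⁻¹, inv_mem hn, c⁻¹, inv_ne_zero hc, ?_⟩
  change n.1.1.symm x = _
  rw [LinearEquiv.symm_apply_eq, map_smul, he, smul_smul, inv_mul_cancel₀ hc, one_smul]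

theorem Reach.trans' {a b x : V} (h : Reach N a b) (h' : Reach N b x) : Reach N a x := by
  obtain ⟨n, hn, c, hc, he⟩ := h
  obtain ⟨n', hn', c', hc', he'⟩ := h'
  refine ⟨n' * n, mul_mem hn' hn, c * c', mul_ne_zero hc hc', ?_⟩
  change n'.1.1 (n.1.1 a) = _
  rw [he, map_smul, he', smul_smul]

variable [N.Normal]

/-- From one non-orthogonal point to all. -/
theorem reach_nonperp (hQ : PND Q) (P : ThreePairs Q) {a b c : V} (ha : Q a = 0) (hb : Q b = 0) (hc : Q c = 0)
    (hab : polar Q a b ≠ 0) (hac : polar Q a c ≠ 0) (h : Reach N a b) : Reach N a c := by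
  obtain ⟨n, hn, k, hk, he⟩ := h
  obtain ⟨b', hb'⟩ : ∃ b', b' = (polar Q a b)⁻¹ • b := ⟨_, rfl⟩
  obtain ⟨c', hc'⟩ : ∃ c', c' = (polar Q a c)⁻¹ • c := ⟨_, rfl⟩
  have hb1 : polar Q a b' = 1 := by rw [hb', polar_smul_right, smul_eq_mul, inv_mul_cancel₀ hab]
  have hc1 : polar Q a c' = 1 := by rw [hc', polar_smul_right, smul_eq_mul, inv_mul_cancel₀ hac]
  have hQb : Q b' = 0 := by rw [hb', QuadraticMap.map_smul, hb, smul_zero]
  have hQc : Q c' = 0 := by rw [hc', QuadraticMap.map_smul, hc, smul_zero]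
  obtain ⟨u, hu⟩ : ∃ u, u = c' - b' - polar Q b' c' • a := ⟨_, rfl⟩
  have hau : polar Q a u = 0 := by
    rw [hu, polar_sub_right, polar_sub_right, polar_smul_right, hb1, hc1, polar_self_zero ha]; simp
  have hbu : polar Q u b' = 0 := by
    rw [hu, polar_sub_left, polar_sub_left, polar_smul_left, polar_comm Q c' b', polar_self_zero hQb, hb1]; simp
  have hQu : Q u = -polar Q b' c' := by
    rw [hu, map_sub_two, map_sub_two, QuadraticMap.map_smul, hQc, hQb, ha, polar_sub_left, polar_smul_right,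
      polar_smul_right, polar_comm Q c' a, hc1, polar_comm Q b' a, hb1, polar_comm Q c' b']
    simp
  obtain ⟨g, hg⟩ : ∃ g : ↥(commutator ↥(Iso Q)), g = ⟨el ha hau, el_mem hQ P ha hau⟩ := ⟨_, rfl⟩
  have hga : g.1.1 a = a := by
    rw [hg, el_apply, polar_self_zero ha, polar_comm Q u a, hau]; simp
  have hgb : g.1.1 b' = c' := by
    rw [hg, el_apply, hb1, hbu, hQu, hu]; module
  refine ⟨g * n * g⁻¹, Subgroup.Normal.conj_mem inferInstance n hn g,
    k * polar Q a b * (polar Q a c)⁻¹, mul_ne_zero (mul_ne_zero hk hab) (inv_ne_zero hac), ?_⟩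
  change g.1.1 (n.1.1 (g.1.1.symm a)) = _
  conv_lhs => rw [show g.1.1.symm a = a by rw [LinearEquiv.symm_apply_eq, hga]]
  rw [he, show b = polar Q a b • b' by rw [hb', smul_smul, mul_inv_cancel₀ hab, one_smul], map_smul, map_smul, hgb,
    hc', smul_smul, smul_smul, polar_smul_right, hb1, smul_eq_mul, mul_one]

/-- A normal subgroup moving one singular line is transitive on them. -/
theorem reach_all (hQ : PND Q) (P : ThreePairs Q) {a x : V} (ha0 : a ≠ 0) (ha : Q a = 0)
    (hax : ∀ c : F, x ≠ c • a) (h : Reach N a x) {p : V} (hp : Q p = 0) (hp0 : p ≠ 0) : Reach N a p := by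
  have h6 := six_le hQ P
  have hx : Q x = 0 := by
    obtain ⟨n, -, c, hc, he⟩ := h
    have := n.1.2 a
    rw [he, QuadraticMap.map_smul, ha, smul_eq_mul, mul_eq_zero] at this
    exact this.resolve_left (mul_ne_zero hc hc)
  -- a non-orthogonal point
  obtain ⟨y, hy, hay, hreach⟩ : ∃ y, Q y = 0 ∧ polar Q a y ≠ 0 ∧ Reach N a y := by
    by_cases h0 : polar Q a x ≠ 0
    · exact ⟨x, hx, h0, h⟩
    push Not at h0
    have hx0 : x ≠ 0 := fun e => hax 0 (by rw [e, zero_smul])
    obtain ⟨z₀, hz₀, hz₀a⟩ := exists_polar_sep hQ (H := Submodule.span F {x}) (x := a)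
      (fun hm => by
        obtain ⟨c, hc⟩ := Submodule.mem_span_singleton.mp hm
        have hc0 : c ≠ 0 := fun e => ha0 (by rw [← hc, e, zero_smul])
        exact hax c⁻¹ (by rw [← hc, smul_smul, inv_mul_cancel₀ hc0, one_smul])) 1
    have hz₀x : polar Q z₀ x = 0 := hz₀ x (Submodule.mem_span_singleton_self x)
    obtain ⟨z, hz⟩ : ∃ z, z = z₀ - Q z₀ • a := ⟨_, rfl⟩
    have hza : polar Q a z = 1 := by
      rw [hz, polar_sub_right, polar_smul_right, polar_comm Q a z₀, hz₀a, polar_self_zero ha]; simp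
    have hzx : polar Q z x = 0 := by rw [hz, polar_sub_left, polar_smul_left, hz₀x, h0]; simp
    have hQz : Q z = 0 := by
      rw [hz, map_sub_two, QuadraticMap.map_smul, ha, polar_smul_right, hz₀a]; simp
    have hpair : IsHPair Q (a, z) := ⟨ha, hQz, hza⟩
    have hR := finrank_comp hpair
    have hRQ := res_pnd hQ hpair
    obtain ⟨xR, hxR⟩ : ∃ xR : comp Q (a, z), (xR : V) = x := ⟨⟨x, mem_comp.mpr ⟨h0, hzx⟩⟩, rfl⟩
    obtain ⟨w₀, hw₀⟩ := exists_pair hRQ (e := xR) (fun e => hx0 (by rw [← hxR, e]; rfl))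
      (by rw [res_apply, hxR]; exact hx)
    have hR2 := finrank_comp hw₀
    have hR2Q := res_pnd hRQ hw₀
    obtain ⟨v, hv⟩ : ∃ v, res (res Q (a, z)) (xR, w₀) v ≠ 0 := by
      by_contra hcon
      push Not at hcon
      haveI : Nontrivial (comp (res Q (a, z)) (xR, w₀)) := Module.nontrivial_of_finrank_pos (R := F) (by omega)
      obtain ⟨v, hv⟩ := exists_ne (0 : comp (res Q (a, z)) (xR, w₀))
      exact hv (hR2Q v fun w => by rw [polar, hcon, hcon, hcon]; ring)
    obtain ⟨v1, v2⟩ := mem_comp.mp v.1.2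
    have hvx : polar Q (v.1 : V) x = 0 := by
      rw [polar_comm, ← hxR]
      exact (mem_comp.mp v.2).1
    have hav : polar Q a (v.1 : V) = 0 := v1
    have hzv : polar Q z (v.1 : V) = 0 := v2
    obtain ⟨n, hn, k, hk, he⟩ := h
    obtain ⟨g, hg⟩ : ∃ g : ↥(commutator ↥(Iso Q)), g = ⟨el hQz hzv, el_mem hQ P hQz hzv⟩ := ⟨_, rfl⟩
    have hgx : g.1.1 x = x := by rw [hg, el_apply, hzx, hvx]; simp
    refine ⟨g.1.1 a, (g.1.2 a).trans ha, ?_, (g * n * g⁻¹)⁻¹ * n,
      mul_mem (inv_mem (Subgroup.Normal.conj_mem inferInstance n hn g)) hn, 1, one_ne_zero, ?_⟩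
    · rw [hg, el_apply, polar_comm Q z a, hza, polar_comm Q (v.1 : V) a, hav, polar_sub_right, polar_add_right,
        polar_self_zero ha, polar_smul_right, polar_smul_right, hav, hza]
      simpa [res_apply] using hv
    · change (g * n * g⁻¹).1.1.symm (n.1.1 a) = _
      rw [one_smul, LinearEquiv.symm_apply_eq, he]
      change _ = g.1.1 (n.1.1 (g.1.1.symm (g.1.1 a)))
      rw [LinearEquiv.symm_apply_apply, he, map_smul, hgx]
  by_cases hap : polar Q a p ≠ 0
  · exact reach_nonperp hQ P ha hy hp hay hap hreach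
  push Not at hap
  by_cases hd : ∃ c : F, p = c • a
  · obtain ⟨c, rfl⟩ := hd
    have hc : c ≠ 0 := fun e => hp0 (by rw [e, zero_smul])
    exact ⟨1, one_mem _, c⁻¹, inv_ne_zero hc, by rw [smul_smul, inv_mul_cancel₀ hc, one_smul]; rfl⟩
  push Not at hd
  obtain ⟨q₁, hq₁, hq₁p⟩ := exists_polar_sep hQ (H := Submodule.span F {a}) (x := p)
    (fun hm => by
      obtain ⟨c, hc⟩ := Submodule.mem_span_singleton.mp hm
      exact hd c hc.symm) 1
  obtain ⟨q₂, hq₂, hq₂a⟩ := exists_polar_sep hQ (H := Submodule.span F {p}) (x := a)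
    (fun hm => by
      obtain ⟨c, hc⟩ := Submodule.mem_span_singleton.mp hm
      have hc0 : c ≠ 0 := fun e => ha0 (by rw [← hc, e, zero_smul])
      exact hd c⁻¹ (by rw [← hc, smul_smul, inv_mul_cancel₀ hc0, one_smul])) 1
  have hq₁a : polar Q q₁ a = 0 := hq₁ a (Submodule.mem_span_singleton_self a)
  have hq₂p : polar Q q₂ p = 0 := hq₂ p (Submodule.mem_span_singleton_self p)
  obtain ⟨q, hq⟩ : ∃ q, q = q₁ + q₂ - Q (q₁ + q₂) • a := ⟨_, rfl⟩
  have hqa : polar Q q a = 1 := by
    rw [hq, polar_sub_left, polar_add_left, polar_smul_left, hq₁a, hq₂a, polar_self_zero ha]; simp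
  have hqp : polar Q q p = 1 := by rw [hq, polar_sub_left, polar_add_left, polar_smul_left, hq₁p, hq₂p, hap]; simp
  have hQq : Q q = 0 := by
    rw [hq, map_sub_two, QuadraticMap.map_smul, ha, polar_smul_right, polar_add_left, hq₁a, hq₂a]; simp
  have h1 : Reach N a q := reach_nonperp hQ P ha hy hQq hay
    (by rw [polar_comm, hqa]; exact one_ne_zero) hreach
  exact h1.trans' (reach_nonperp hQ P hQq ha hp (by rw [hqa]; exact one_ne_zero) (by rw [hqp]; exact one_ne_zero)
    h1.symm')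

/-- A normal subgroup moving one singular line is everything. -/
theorem eq_top_of_moves [Finite F] (hQ : PND Q) (P : ThreePairs Q) {n : ↥(commutator ↥(Iso Q))} (hn : n ∈ N)
    {a : V} (ha : Q a = 0) (hmove : ∀ c : F, n.1.1 a ≠ c • a) : N = ⊤ := by
  have ha0 : a ≠ 0 := fun e => hmove 0 (by rw [e, map_zero, zero_smul])
  obtain ⟨π, hπ⟩ : ∃ π, π = QuotientGroup.mk' N := ⟨_, rfl⟩
  have himg : ∀ (b v : V) (hb : Q b = 0) (hv : polar Q b v = 0), ∃ (v' : V) (hv' : polar Q a v' = 0),
      π ⟨el hb hv, el_mem hQ P hb hv⟩ = π ⟨el ha hv', el_mem hQ P ha hv'⟩ := by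
    intro b v hb hv
    by_cases hb0 : b = 0
    · refine ⟨0, polar_zero_right _ _, congrArg π (Subtype.ext (Subtype.ext (LinearEquiv.ext fun x => ?_)))⟩
      rw [el_apply, el_apply, hb0]; simp
    obtain ⟨m, hm, c, hc, he⟩ := reach_all hQ P ha0 ha hmove
      ⟨n, hn, 1, one_ne_zero, by rw [one_smul]⟩ hb hb0
    have hv' : polar Q a (m.1.1.symm (c⁻¹ • v)) = 0 := by
      rw [← polar_iso m.1.2, he, m.1.1.apply_symm_apply, polar_smul_left, polar_smul_right, hv, smul_zero, smul_zero]
    refine ⟨_, hv', ?_⟩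
    have e1 : m.1 * el ha hv' * (m.1)⁻¹ = el hb hv := by
      rw [el_conj, el_congr _ _ (e' := c • b) (v' := c⁻¹ • v) (by rw [QuadraticMap.map_smul, hb, smul_zero])
        (by rw [polar_smul_left, polar_smul_right, hv, smul_zero, smul_zero]) he (m.1.1.apply_symm_apply _),
        el_scale c hb (by rw [polar_smul_right, hv, smul_zero])]
      exact el_congr _ _ _ _ rfl (by rw [smul_smul, mul_inv_cancel₀ hc, one_smul])
    have e2 : (⟨el hb hv, el_mem hQ P hb hv⟩ : ↥(commutator ↥(Iso Q))) =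
        m * ⟨el ha hv', el_mem hQ P ha hv'⟩ * m⁻¹ := Subtype.ext e1.symm
    rw [e2, map_mul, map_mul, map_inv,
      show π m = 1 by rw [hπ, QuotientGroup.mk'_apply, QuotientGroup.eq_one_iff]; exact hm]
    simp
  obtain ⟨S, hS⟩ : ∃ S : Set ↥(commutator ↥(Iso Q)),
      S = {g | ∃ (b v : V) (hb : Q b = 0) (hv : polar Q b v = 0), g.1 = el hb hv} := ⟨_, rfl⟩
  have hgen : ∀ g : ↥(commutator ↥(Iso Q)), g ∈ Subgroup.closure S := by
    rintro ⟨g, hg⟩
    have hg' : g ∈ rootGroup Q := eq_root hQ P ▸ hg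
    suffices H : ∀ x ∈ rootGroup Q, ∃ hx : x ∈ commutator ↥(Iso Q), (⟨x, hx⟩ : ↥(commutator ↥(Iso Q))) ∈
        Subgroup.closure S from (H g hg').2
    intro x hx
    refine Subgroup.closure_induction ?_ ⟨one_mem _, one_mem (Subgroup.closure S)⟩ ?_ ?_ hx
    · rintro y ⟨b, v, hb, hv, -, hy⟩
      have hy' : y = el hb hv := Subtype.ext hy
      exact ⟨hy' ▸ el_mem hQ P hb hv, Subgroup.subset_closure (hS ▸ ⟨b, v, hb, hv, hy'⟩)⟩
    · rintro y y' _ _ ⟨h1, h1'⟩ ⟨h2, h2'⟩
      exact ⟨mul_mem h1 h2, mul_mem h1' h2'⟩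
    · rintro y _ ⟨h1, h1'⟩
      exact ⟨inv_mem h1, inv_mem h1'⟩
  have hS2 : ∀ g ∈ S, ∀ h ∈ S, π g * π h = π h * π g := by
    rw [hS]
    rintro g ⟨b, v, hb, hv, hg⟩ h ⟨b', v', hb', hv', hh⟩
    obtain ⟨x, hx, ex⟩ := himg b v hb hv
    obtain ⟨y, hy, ey⟩ := himg b' v' hb' hv'
    rw [show g = ⟨el hb hv, el_mem hQ P hb hv⟩ from Subtype.ext hg,
      show h = ⟨el hb' hv', el_mem hQ P hb' hv'⟩ from Subtype.ext hh, ex, ey, ← map_mul, ← map_mul]
    exact congrArg π (Subtype.ext (by
      change el ha hx * el ha hy = el ha hy * el ha hx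
      rw [el_mul, el_mul]
      exact el_congr _ _ _ _ rfl (add_comm _ _)))
  have hle : commutator ↥(commutator ↥(Iso Q)) ≤ N := by
    rw [show commutator ↥(commutator ↥(Iso Q)) = ⁅(⊤ : Subgroup ↥(commutator ↥(Iso Q))), ⊤⁆ from commutator_def _,
      Subgroup.commutator_le]
    intro g hgt h hht; clear hgt hht
    rw [← QuotientGroup.eq_one_iff, ← QuotientGroup.mk'_apply, ← hπ, map_commutatorElement]
    refine commutatorElement_eq_one_iff_mul_comm.mpr ?_
    have : ∀ s ∈ S, π s * π h = π h * π s := fun s hs => by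
      induction hgen h using Subgroup.closure_induction with
      | mem y hy => exact hS2 s hs y hy
      | one => rw [map_one, one_mul, mul_one]
      | mul y y' _ _ i1 i2 => rw [map_mul, ← mul_assoc, i1, mul_assoc, i2, mul_assoc]
      | inv y _ i1 => rw [map_inv]; exact Commute.inv_right i1
    induction hgen g using Subgroup.closure_induction with
    | mem y hy => exact this y hy
    | one => rw [map_one, one_mul, mul_one]
    | mul y y' _ _ i1 i2 => rw [map_mul, mul_assoc, i2, ← mul_assoc, i1, mul_assoc]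
    | inv y _ i1 => rw [map_inv]; exact Commute.inv_left i1
  refine eq_top_iff.mpr (le_trans (le_of_eq ?_) hle)
  apply Subgroup.map_injective (Subgroup.subtype_injective (commutator ↥(Iso Q)))
  rw [Subgroup.map_subtype_commutator, commutator_perfect hQ P, ← MonoidHom.range_eq_map, Subgroup.range_subtype]

/-- The derived group modulo its centre is simple. -/
theorem isSimple [Finite F] (hQ : PND Q) (P : ThreePairs Q) :
    IsSimpleGroup (↥(commutator ↥(Iso Q)) ⧸ Subgroup.center ↥(commutator ↥(Iso Q))) := by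
  haveI : Nontrivial (↥(commutator ↥(Iso Q)) ⧸ Subgroup.center ↥(commutator ↥(Iso Q))) := by
    refine QuotientGroup.nontrivial_iff.mpr fun hc => ?_
    have hab : commutator ↥(commutator ↥(Iso Q)) = ⊥ := by
      rw [show commutator ↥(commutator ↥(Iso Q)) = ⁅(⊤ : Subgroup ↥(commutator ↥(Iso Q))), ⊤⁆ from commutator_def _,
        Subgroup.commutator_eq_bot_iff_le_centralizer, Subgroup.coe_top,
        Subgroup.centralizer_univ, hc]
    have h1 := congrArg (Subgroup.map (commutator ↥(Iso Q)).subtype) hab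
    rw [Subgroup.map_subtype_commutator, commutator_perfect hQ P, Subgroup.map_bot] at h1
    have := el_mem hQ P P.hp.1 P.ew
    rw [h1, Subgroup.mem_bot] at this
    have h2 := congrArg (fun g : ↥(Iso Q) => g.1 P.f) this
    change (el P.hp.1 P.ew).1 P.f = P.f at h2
    rw [el_apply, show polar Q P.e P.f = 1 from P.hp.2.2, polar_comm Q P.w P.f, P.fw, P.hq.1] at h2
    have h3 := congrArg (polar Q P.w') h2
    have hw'w : polar Q P.w' P.w = 1 := by rw [polar_comm]; exact P.hq.2.2
    simp only [one_smul, zero_mul, add_zero, zero_smul, sub_zero, polar_add_right, hw'w,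
      polar_comm Q P.w' P.f, P.fw', zero_add] at h3
    exact one_ne_zero h3
  refine ⟨fun K hK => ?_⟩
  obtain ⟨N, hN⟩ : ∃ N, N = K.comap (QuotientGroup.mk' (Subgroup.center ↥(commutator ↥(Iso Q)))) := ⟨_, rfl⟩
  haveI : N.Normal := hN ▸ Subgroup.Normal.comap hK _
  by_cases hcent : N ≤ Subgroup.center ↥(commutator ↥(Iso Q))
  · left
    rw [eq_bot_iff]
    intro x hx
    obtain ⟨y, rfl⟩ := QuotientGroup.mk'_surjective _ x
    rw [Subgroup.mem_bot, QuotientGroup.mk'_apply, QuotientGroup.eq_one_iff]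
    exact hcent (hN ▸ hx)
  · right
    obtain ⟨n, hn, hnc⟩ := SetLike.not_le_iff_exists.mp hcent
    have hmove : ∃ a, Q a = 0 ∧ ∀ c : F, n.1.1 a ≠ c • a := by
      by_contra hcon
      push Not at hcon
      refine hnc (Subgroup.mem_center_iff.mpr fun k => Subtype.ext (Subtype.ext (LinearEquiv.ext fun x => ?_)))
      change k.1.1 (n.1.1 x) = n.1.1 (k.1.1 x)
      rcases central_of_lines hQ (p := (P.e, P.f)) P.hp (u := P.w) (z := P.w') (mem_comp.mpr ⟨P.ew, P.fw⟩)
        (mem_comp.mpr ⟨P.ew', P.fw'⟩) P.hq hcon with e | e <;> rw [e]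
      · rfl
      · rw [negI_apply, negI_apply, map_neg]
    obtain ⟨a, ha, hm⟩ := hmove
    have := eq_top_of_moves hQ P hn ha hm
    rw [hN] at this
    apply Subgroup.comap_injective (QuotientGroup.mk'_surjective _)
    rw [this, Subgroup.comap_top]

end Cfsg.Agent.Classical.OOmega
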