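/-
Ω does not exchange the two families of maximal totally singular subspaces.
-/
import Cfsg.Agent.Lib.Classical.OrthIndex
import Cfsg.Agent.Lib.Classical.OrthNotMax
import Cfsg.Agent.Lib.Small.Orth.Subspaces

set_option autoImplicit false
set_option linter.unusedSectionVars false

namespace Cfsg.Agent.Classical.Radical

open Matrix Module QuadraticMap Cfsg.Geo OCount
open Cfsg.Agent.Classical

variable {ι : Type} [Fintype ι] [DecidableEq ι] {F : Type*} [Field F] [Fintype F] {Q : QuadraticForm F (ι → F)}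

/-- An element of Ω moves a maximal totally singular subspace by an even codimension. -/
theorem omega_even_inter (hQ : PND Q) {m : ℕ} (hm : Fintype.card ι = 2 * m) (h4 : Fintype.card ι ≠ 4)
    {U : Submodule F (ι → F)} (hU : ∀ u ∈ U, Q u = 0) (hUd : finrank F U = m) {g : GL ι F} (hg : g ∈ omegaGL ⇑Q) :
    Even (m - finrank F ↥(U ⊓ U.map (Matrix.toLin' (g : Matrix ι ι F)))) := by
  obtain ⟨x, hx, rfl⟩ := hg
  rw [SetLike.mem_coe, OOmega.omega_eq_map] at hx
  obtain ⟨y, hy, rfl⟩ := hx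
  obtain ⟨vs, hvs, rfl⟩ := Cfsg.Agent.Small.Orth.exists_list hQ
    (Or.inr (by rwa [Module.finrank_fintype_fun_eq_card])) y
  have hev := ((Cfsg.Agent.Small.Orth.mem_commutator_iff hQ vs hvs).mp hy).1
  have hpar := (Cfsg.Agent.Small.Orth.even_inter_iff hQ (by rw [Module.finrank_fintype_fun_eq_card, hm]) hU hUd vs
    hvs).mpr hev
  have e : (Matrix.toLin' (((ORefl.toMat Q (Cfsg.Agent.Small.Orth.prodRf Q vs)).1 : GL ι F) : Matrix ι ι F)) =
      ((Cfsg.Agent.Small.Orth.prodRf Q vs).1 : (ι → F) →ₗ[F] (ι → F)) :=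
    LinearMap.ext fun u => by rw [Matrix.toLin'_apply]; exact ORefl.toMat_apply _ u
  change Even (m - finrank F ↥(U ⊓ U.map (Matrix.toLin' (((ORefl.toMat Q (Cfsg.Agent.Small.Orth.prodRf Q vs)).1 : GL ι F) : Matrix ι ι F))))
  rw [e]
  exact hpar

end Cfsg.Agent.Classical.Radical
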