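import Cfsg.Agent.Lib.Classical.OrthForms
import Mathlib.LinearAlgebra.SymplecticGroup

/-!
# `O_{2m+1} ≅ Sp_{2m}` in characteristic two

An isometry fixes the radical vector; the action modulo it is symplectic, and a symplectic matrix
lifts uniquely because every element of a finite field of characteristic two is a square.
-/

set_option autoImplicit false
set_option linter.unusedSectionVars false

namespace Cfsg.Agent.Classical.OrthTwo

open Module Matrix QuadraticMap

variable {F : Type*} [Field F] [CharP F 2] {m : ℕ}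

variable (F m) in
/-- The form `x₀² + Σ xᵢyᵢ`. -/
noncomputable abbrev Qo : QuadraticForm F (Unit ⊕ (Fin m ⊕ Fin m) → F) :=
  OOmega.formOf m (Equiv.sumComm Unit (Fin m ⊕ Fin m)) (OCount.lineForm F)

/-- The alternating form on the last coordinates. -/
def bil (u v : Fin m ⊕ Fin m → F) : F := ∑ i : Fin m, (u (.inl i) * v (.inr i) + u (.inr i) * v (.inl i))

theorem J_apply (u v : Fin m ⊕ Fin m → F) : u ⬝ᵥ (Matrix.J (Fin m) F *ᵥ v) = bil u v := by
  simp [dotProduct, Matrix.mulVec, Matrix.J, Fintype.sum_sum_type, bil, Matrix.one_apply, Finset.sum_add_distrib,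
    CharTwo.neg_eq]

theorem polar_Qo (x y : Unit ⊕ (Fin m ⊕ Fin m) → F) :
    polar (Qo F m) x y = bil (fun k => x (.inr k)) fun k => y (.inr k) := by
  simp only [polar]
  rw [congrFun (OOmega.coe_odd (F := F) m), congrFun (OOmega.coe_odd (F := F) m), congrFun (OOmega.coe_odd (F := F) m)]
  simp only [Cfsg.quadFormOdd, Pi.add_apply, bil, Finset.sum_add_distrib, add_mul, mul_add, CharTwo.add_sq,
    CharTwo.sub_eq_add]
  rw [Finset.sum_congr rfl fun i _ => mul_comm (y (.inr (.inl i))) (x (.inr (.inr i)))]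
  ring_nf
  simp [CharTwo.two_eq_zero]

theorem value_single_inl : Qo F m (Pi.single (.inl ()) 1) = 1 := by
  rw [congrFun (OOmega.coe_odd (F := F) m)]; simp [Cfsg.quadFormOdd]

theorem bil_single (u : Fin m ⊕ Fin m → F) (k : Fin m ⊕ Fin m) :
    bil u (Pi.single k 1) = u k.swap := by
  rcases k with k | k <;> simp [bil, Pi.single_apply]

variable (g : ↥(Cfsg.isometryGroup F (Cfsg.quadFormOdd m F)))

theorem pres (x : Unit ⊕ (Fin m ⊕ Fin m) → F) : Qo F m (g.1.1 *ᵥ x) = Qo F m x := by
  rw [congrFun (OOmega.coe_odd (F := F) m), congrFun (OOmega.coe_odd (F := F) m)]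
  exact g.2 x x

theorem polar_pres (x y : Unit ⊕ (Fin m ⊕ Fin m) → F) :
    polar (Qo F m) (g.1.1 *ᵥ x) (g.1.1 *ᵥ y) = polar (Qo F m) x y := by
  simp only [polar, ← Matrix.mulVec_add, pres g]

theorem fix_radical : g.1.1 *ᵥ Pi.single (.inl ()) 1 = Pi.single (.inl ()) 1 := by
  have h0 : ∀ k, (g.1.1 *ᵥ Pi.single (.inl ()) 1 : Unit ⊕ (Fin m ⊕ Fin m) → F) (.inr k) = 0 := by
    intro k
    obtain ⟨y, hy⟩ : ∃ y, g.1.1 *ᵥ y = Pi.single (.inr k.swap) 1 := ⟨g.1⁻¹.1 *ᵥ Pi.single (.inr k.swap) 1, by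
      rw [Matrix.mulVec_mulVec, ← Units.val_mul, mul_inv_cancel, Units.val_one, Matrix.one_mulVec]⟩
    have h := polar_pres g (Pi.single (.inl ()) 1) y
    rw [hy, polar_Qo, polar_Qo, show (fun l => (Pi.single (.inr k.swap) (1 : F) : Unit ⊕ (Fin m ⊕ Fin m) → F) (.inr l)) =
      Pi.single k.swap 1 from funext fun l => by simp [Pi.single_apply], bil_single, Sum.swap_swap] at h
    rw [h]
    simp [bil]
  funext k
  rcases k with k | k
  · have h := pres g (Pi.single (.inl ()) 1)
    rw [value_single_inl, congrFun (OOmega.coe_odd (F := F) m)] at h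
    simp only [Cfsg.quadFormOdd, h0, mul_zero, Finset.sum_const_zero, add_zero] at h
    rw [Pi.single_eq_same]
    exact CharTwo.sq_inj.mp (h.trans (one_pow 2).symm)
  · rw [h0]; simp

/-- The action modulo the radical. -/
def low : Matrix (Fin m ⊕ Fin m) (Fin m ⊕ Fin m) F := g.1.1.submatrix Sum.inr Sum.inr

theorem col_zero (k : Fin m ⊕ Fin m) : g.1.1 (.inr k) (.inl ()) = 0 := by
  have := congrFun (fix_radical g) (.inr k)
  simpa [Matrix.mulVec_single_one] using this

theorem col_one : g.1.1 (.inl ()) (.inl ()) = 1 := by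
  have := congrFun (fix_radical g) (.inl ())
  simpa [Matrix.mulVec_single_one] using this

theorem low_mem : low g ∈ Matrix.symplecticGroup (Fin m) F := by
  rw [SymplecticGroup.mem_iff']
  ext i j
  have h := polar_pres g (Pi.single (.inr i) 1) (Pi.single (.inr j) 1)
  rw [polar_Qo, polar_Qo] at h
  rw [Matrix.mul_assoc, Matrix.mul_apply_eq_vecMul]
  have e : ((low g)ᵀ i) ᵥ* (Matrix.J (Fin m) F * low g) = fun j => bil (fun k => low g k i) fun k => low g k j := by
    funext j
    rw [← J_apply]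
    rfl
  rw [e]
  have e1 : ∀ l, (fun k => (g.1.1 *ᵥ Pi.single (.inr l) 1 : Unit ⊕ (Fin m ⊕ Fin m) → F) (.inr k)) =
      fun k => low g k l := fun l => funext fun k => by simp [Matrix.mulVec_single_one, low]
  rw [e1, e1] at h
  change bil (fun k => low g k i) (fun k => low g k j) = _
  rw [h, ← J_apply]
  simp [Matrix.mulVec, dotProduct, Pi.single_apply]

variable (F m) in
/-- The homomorphism. -/
def hom : ↥(Cfsg.isometryGroup F (Cfsg.quadFormOdd m F)) →* Matrix.symplecticGroup (Fin m) F :=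
  MonoidHom.mk' (fun g => ⟨low g, low_mem g⟩) fun g h => Subtype.ext (by
    ext i j
    change (g.1.1 * h.1.1) (.inr i) (.inr j) = (low g * low h) i j
    rw [Matrix.mul_apply, Matrix.mul_apply, Fintype.sum_sum_type]
    simp [low, col_zero g])

theorem hom_val : (hom F m g).1 = low g := rfl

theorem hom_injective : Function.Injective (hom F m) := by
  rw [← MonoidHom.ker_eq_bot_iff, Subgroup.eq_bot_iff_forall]
  intro g hg
  have hl : low g = 1 := congrArg Subtype.val (MonoidHom.mem_ker.mp hg)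
  refine Subtype.ext (Units.ext ?_)
  ext i j
  rcases i with i | i <;> rcases j with j | j
  · exact col_one g
  · have h := pres g (Pi.single (.inr j) 1)
    rw [congrFun (OOmega.coe_odd (F := F) m), congrFun (OOmega.coe_odd (F := F) m)] at h
    have e : ∀ k, g.1.1 (.inr k) (.inr j) = (1 : Matrix (Fin m ⊕ Fin m) (Fin m ⊕ Fin m) F) k j := fun k =>
      congrFun (congrFun hl k) j
    simp [Cfsg.quadFormOdd, Matrix.mulVec_single_one, e, Matrix.one_apply, Pi.single_apply] at h
    simpa using h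
  · exact (col_zero g i).trans (Matrix.one_apply_ne (by simp)).symm
  · have := congrFun (congrFun hl i) j
    simpa [low, Matrix.one_apply] using this

theorem hom_surjective [Finite F] : Function.Surjective (hom F m) := by
  intro A
  obtain ⟨r, hr⟩ : ∃ r : Fin m ⊕ Fin m → F, ∀ j, r j ^ 2 =
      Cfsg.quadFormPlus m F (A.1 *ᵥ Pi.single j 1) + Cfsg.quadFormPlus m F (Pi.single j 1) := by
    refine ⟨fun j => (FiniteField.isSquare_of_char_two (ringChar.eq F 2)
      (Cfsg.quadFormPlus m F (A.1 *ᵥ Pi.single j 1) + Cfsg.quadFormPlus m F (Pi.single j 1))).choose, fun j => ?_⟩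
    rw [_root_.sq]
    exact (FiniteField.isSquare_of_char_two (ringChar.eq F 2) _).choose_spec.symm
  obtain ⟨M, hM⟩ : ∃ M : Matrix (Unit ⊕ (Fin m ⊕ Fin m)) (Unit ⊕ (Fin m ⊕ Fin m)) F,
      M = Matrix.fromBlocks 1 (Matrix.of fun _ j => r j) 0 A.1 := ⟨_, rfl⟩
  have hu : IsUnit M := by
    rw [Matrix.isUnit_iff_isUnit_det, hM, Matrix.det_fromBlocks_zero₂₁, Matrix.det_one, one_mul]
    exact SymplecticGroup.symplectic_det A.2
  have hA : ∀ u v, bil (A.1 *ᵥ u) (A.1 *ᵥ v) = bil u v := fun u v => by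
    rw [← J_apply, ← J_apply, Matrix.mulVec_mulVec, Matrix.dotProduct_mulVec, Matrix.vecMul_mulVec,
      ← Matrix.dotProduct_mulVec, ← Matrix.mul_assoc, SymplecticGroup.mem_iff'.mp A.2]
  have hMr : ∀ x k, (M *ᵥ x) (.inr k) = (A.1 *ᵥ fun l => x (.inr l)) k := fun x k => by
    simp [hM, Matrix.mulVec, dotProduct, Fintype.sum_sum_type]
  have hMl : ∀ x, (M *ᵥ x) (.inl ()) = x (.inl ()) + ∑ j, r j * x (.inr j) := fun x => by
    simp [hM, Matrix.mulVec, dotProduct, Fintype.sum_sum_type, Matrix.fromBlocks]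
  have hq : QuadraticMap.comp (Qo F m) (Matrix.mulVecLin M) = Qo F m := by
    refine OCount.quad_ext (fun i => ?_) fun i j => ?_
    · rw [QuadraticMap.comp_apply, Matrix.mulVecLin_apply, congrFun (OOmega.coe_odd (F := F) m),
        congrFun (OOmega.coe_odd (F := F) m)]
      simp only [Cfsg.quadFormOdd, hMr, hMl]
      rcases i with i | i
      · rw [show (fun l => (Pi.single (Sum.inl i) (1 : F) : Unit ⊕ (Fin m ⊕ Fin m) → F) (.inr l)) = 0 from
          funext fun l => by simp]
        simp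
      · rw [show (fun l => (Pi.single (Sum.inr i) (1 : F) : Unit ⊕ (Fin m ⊕ Fin m) → F) (.inr l)) = Pi.single i 1 from
          funext fun l => by simp [Pi.single_apply]]
        have h := hr i
        simp only [Cfsg.quadFormPlus] at h
        simp only [Pi.single_apply, Sum.inr.injEq, reduceCtorEq, if_false, zero_add, mul_ite, mul_one, mul_zero,
          Finset.sum_ite_eq', Finset.mem_univ, if_true] at h ⊢
        rw [h]
        ring_nf
        simp [CharTwo.two_eq_zero]
    · have e : ∀ x y, polar (⇑(QuadraticMap.comp (Qo F m) (Matrix.mulVecLin M))) x y =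
          polar (Qo F m) (M *ᵥ x) (M *ᵥ y) := fun x y => by
        simp only [polar, QuadraticMap.comp_apply, map_add, Matrix.mulVecLin_apply]
      rw [e, polar_Qo, polar_Qo,
        show (fun k => (M *ᵥ Pi.single i 1) (.inr k)) = A.1 *ᵥ fun l => (Pi.single i (1 : F) : Unit ⊕ (Fin m ⊕ Fin m) → F) (.inr l) from
          funext fun k => hMr _ k,
        show (fun k => (M *ᵥ Pi.single j 1) (.inr k)) = A.1 *ᵥ fun l => (Pi.single j (1 : F) : Unit ⊕ (Fin m ⊕ Fin m) → F) (.inr l) from
          funext fun k => hMr _ k, hA]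
  refine ⟨⟨hu.unit, fun x _ => ?_⟩, Subtype.ext ?_⟩
  · change Cfsg.quadFormOdd m F (M *ᵥ x) = Cfsg.quadFormOdd m F x
    rw [← congrFun (OOmega.coe_odd (F := F) m), ← congrFun (OOmega.coe_odd (F := F) m)]
    exact congrArg (fun q : QuadraticForm F _ => q x) hq
  · ext i j
    change M (.inr i) (.inr j) = A.1 i j
    rw [hM, Matrix.fromBlocks_apply₂₂]

theorem equiv [Finite F] :
    Nonempty (↥(Cfsg.isometryGroup F (Cfsg.quadFormOdd m F)) ≃* Matrix.symplecticGroup (Fin m) F) :=
  ⟨MulEquiv.ofBijective (hom F m) ⟨hom_injective, hom_surjective⟩⟩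

end Cfsg.Agent.Classical.OrthTwo
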