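/-
The subgroup theorem for even-dimensional orthogonal groups, as a list of geometric outcomes.
-/
import Cfsg.Agent.Lib.Classical.OrthEvenBase
import Cfsg.Agent.Lib.Classical.FormAschbacher
import Cfsg.Agent.Lib.Classical.FormOtherForms
import Cfsg.Agent.Lib.Classical.FormSubfield
import Cfsg.Agent.Lib.Classical.FormOrthLines
import Cfsg.Agent.Lib.Classical.FormReducible
import Cfsg.Agent.Lib.Classical.OrthogonalMembers

set_option autoImplicit false
set_option linter.unusedSectionVars false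
set_option linter.style.haveILetI false

namespace Cfsg.Agent.Classical

open Matrix Cfsg.Geo
open scoped Kronecker

variable {ι : Type} [Fintype ι] [DecidableEq ι] {F : Type*} [Field F]

/-- What a subgroup of an even-dimensional orthogonal group can preserve. -/
inductive EOutcome [Fintype F] (Q : (ι → F) → F) (H : Subgroup (GL ι F)) : Prop
  | ts (W : Submodule F (ι → F)) (h0 : W ≠ ⊥) (hW : IsTotallySingularQuad Q W) (hle : H ≤ subspaceStabilizer W)
  | line (v : ι → F) (h2 : (2 : F) = 0) (hv : Q v ≠ 0) (hle : H ≤ subspaceStabilizer (Submodule.span F {v}))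
  | nondeg (W : Submodule F (ι → F)) (h0 : W ≠ ⊥) (hW : IsNondegenerateOn (QuadraticMap.polar Q) W)
      (hd : 2 * Module.finrank F W < Fintype.card ι) (hle : H ≤ subspaceStabilizer W)
  | halves (k : ℕ) (D : Fin 2 → Submodule F (ι → F)) (hk : 2 * k = Fintype.card ι)
      (hD : IsNondegenerateMDecomposition (QuadraticMap.polar Q) k D) (hle : H ≤ decompositionStabilizer D)
  | decomp (t k : ℕ) (D : Fin t → Submodule F (ι → F)) (hirr : ActsIrreducibly (matrixSet H))
      (hD : IsOrthogonalMDecomposition Q k D) (hle : H ≤ decompositionStabilizer D)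
  | tspair (k : ℕ) (D : Fin 2 → Submodule F (ι → F)) (hirr : ActsIrreducibly (matrixSet H)) (hk : 2 * k = Fintype.card ι)
      (hD : IsMDecomposition k D) (hts : ∀ i, IsTotallySingularQuad Q (D i)) (hle : H ≤ decompositionStabilizer D)
  | field (r : ℕ) (K : Subalgebra F (Matrix ι ι F)) (hr : r.Prime) (hdvd : r ∣ Fintype.card ι) (hK : IsFieldSubalgebra r K)
      (hirr : ActsIrreducibly (matrixSet H))
      (hadj : IsAdjointClosedFor (QuadraticMap.polar Q) K) (hle : H ≤ subalgebraNormalizer K)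
  | tensor (d k : ℕ) (e : ι ≃ Fin d × Fin k) (P : GL ι F) (G₁ : Matrix (Fin d) (Fin d) F) (G₂ : Matrix (Fin k) (Fin k) F)
      (l : F) (hd : 2 ≤ d) (hk : 2 ≤ k) (hirr : ActsIrreducibly (matrixSet H))
      (hT : TensorGram (RingEquiv.refl F) 1 (QuadraticMap.polar Q) e P G₁ G₂ l)
      (hkr : ∀ g ∈ H, ∃ (a : GL (Fin d) F) (b : GL (Fin k) F),
        matCoord e P (g : Matrix ι ι F) = (a : Matrix (Fin d) (Fin d) F) ⊗ₖ (b : Matrix (Fin k) (Fin k) F))
  | symp (M : Subgroup (GL ι F)) (hM : M ≤ H) (hn : NormalIn H M) (ha : ActsAbsolutelyIrreducibly (matrixSet M))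
      (hne : ∃ x ∈ M, ∃ y ∈ M, x * y ≠ y * x) (hc : ∀ x ∈ M, ∀ y ∈ M, x * y * x⁻¹ * y⁻¹ ∈ scalars ι F)
  | subfield (F₁ : Subfield F) (r : ℕ) (P : GL ι F) (ζ : F) (hr : r.Prime) (hc : Fintype.card F = Nat.card F₁ ^ r)
      (hζ : ζ ≠ 0) (hrat : IsQuadFormRationalStructure (fun v => ζ * Q v) F₁ P) (hle : H ≤ subfieldSubgroup F₁ P)
  | power (k t : ℕ) (e : ι ≃ (Fin t → Fin k)) (B : GL ι F) (c : F) (G₀ : Matrix (Fin k) (Fin k) F) (l : F)
      (hk : 2 ≤ k) (ht : 2 ≤ t) (hirr : ActsIrreducibly (matrixSet H))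
      (hG : PowerGram (RingEquiv.refl F) 1 (QuadraticMap.polar Q) e B c G₀ l)
      (hle : H ≤ tensorWreathSubgroup k t e B)

variable [Fintype F] {Q : (ι → F) → F} (hQ : IsNondegenerateQuadraticForm Q)

include hQ

/-- The singular vectors of a totally isotropic subspace in characteristic two. -/
def singularPart (h2 : (2 : F) = 0) (W : Submodule F (ι → F)) (hW : IsTotallySingularFor (QuadraticMap.polar Q) W) :
    Submodule F (ι → F) where
  carrier := {v | v ∈ W ∧ Q v = 0}
  add_mem' {a b} ha hb := by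
    refine ⟨W.add_mem ha.1 hb.1, ?_⟩
    have : Q (a + b) = Q a + Q b + QuadraticMap.polar Q a b := by simp only [QuadraticMap.polar]; ring
    rw [this, ha.2, hb.2, hW a ha.1 b hb.1, add_zero, add_zero]
  zero_mem' := ⟨W.zero_mem, by simpa using hQ.smul 0 0⟩
  smul_mem' c a ha := ⟨W.smul_mem c ha.1, by rw [hQ.smul, ha.2, mul_zero]⟩

theorem finrank_le_singularPart (h2 : (2 : F) = 0) (W : Submodule F (ι → F))
    (hW : IsTotallySingularFor (QuadraticMap.polar Q) W) :
    Module.finrank F W ≤ Module.finrank F (singularPart hQ h2 W hW) + 1 := by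
  classical
  set S := singularPart hQ h2 W hW
  by_cases hall : W ≤ S
  · exact (Submodule.finrank_mono hall).trans (Nat.le_succ _)
  obtain ⟨u, hu, huS⟩ := SetLike.not_le_iff_exists.mp hall
  have hQu : Q u ≠ 0 := fun h => huS ⟨hu, h⟩
  have hle : W ≤ S ⊔ Submodule.span F {u} := by
    intro w hw
    obtain ⟨c, hc⟩ := Cfsg.Agent.Small.QuadBasis.exists_sq h2 (Q w / Q u)
    have hm : w + c • u ∈ S := by
      refine ⟨W.add_mem hw (W.smul_mem c hu), ?_⟩
      have : Q (w + c • u) = Q w + Q (c • u) + QuadraticMap.polar Q w (c • u) := by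
        simp only [QuadraticMap.polar]; ring
      rw [this, hQ.smul, sq, hc, div_mul_cancel₀ _ hQu, hW w hw _ (W.smul_mem c hu), add_zero, ← two_mul, h2, zero_mul]
    refine Submodule.mem_sup.mpr ⟨_, hm, -(c • u), Submodule.neg_mem _ (Submodule.smul_mem _ _
      (Submodule.mem_span_singleton_self u)), by abel⟩
  have h1 := Submodule.finrank_mono hle
  have h3 := Submodule.finrank_sup_add_finrank_inf_eq S (Submodule.span F {u})
  rw [finrank_span_singleton (show u ≠ 0 from fun e => hQu (by rw [e]; simpa using hQ.smul 0 0))] at h3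
  omega

/-- An element moving one totally isotropic subspace to another moves the singular part accordingly. -/
theorem mem_singularPart_of_map (h2 : (2 : F) = 0) {W W' : Submodule F (ι → F)}
    (hW : IsTotallySingularFor (QuadraticMap.polar Q) W) (hW' : IsTotallySingularFor (QuadraticMap.polar Q) W')
    {g : GL ι F} (hg : g ∈ isometryGroup F Q) (hm : ∀ v ∈ W, (g : Matrix ι ι F) *ᵥ v ∈ W') {v : ι → F}
    (hv : v ∈ singularPart hQ h2 W hW) : (g : Matrix ι ι F) *ᵥ v ∈ singularPart hQ h2 W' hW' :=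
  ⟨hm v hv.1, by rw [mem_isometryGroup_iff.mp hg]; exact hv.2⟩

omit hQ in
theorem totallySingular_of_polar (h2 : (2 : F) ≠ 0) (hQ : IsNondegenerateQuadraticForm Q) {W : Submodule F (ι → F)}
    (hW : IsTotallySingularFor (QuadraticMap.polar Q) W) : IsTotallySingularQuad Q W := fun w hw => by
  have := hW w hw w hw
  rw [polar_self_eq hQ] at this
  exact (mul_eq_zero.mp this).resolve_left h2

theorem eOutcome_of_isotropic {H : Subgroup (GL ι F)} (hI : H ≤ isometryGroup F Q) {W : Submodule F (ι → F)} (h0 : W ≠ ⊥)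
    (hW : IsTotallySingularFor (QuadraticMap.polar Q) W) (hle : H ≤ subspaceStabilizer W) : EOutcome Q H := by
  classical
  by_cases h2 : (2 : F) = 0
  swap
  · exact .ts W h0 (totallySingular_of_polar h2 hQ hW) hle
  by_cases hS : singularPart hQ h2 W hW = ⊥
  swap
  · exact .ts _ hS (fun v hv => hv.2) fun g hg => mem_subspaceStabilizer_iff.mpr fun v hv =>
      mem_singularPart_of_map hQ h2 hW hW (hI hg) (mem_subspaceStabilizer_iff.mp (hle hg)) hv
  have hd := finrank_le_singularPart hQ h2 W hW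
  rw [hS, finrank_bot, zero_add] at hd
  obtain ⟨v, hv, hv0⟩ := Submodule.exists_mem_ne_zero_of_ne_bot h0
  have hWv : Submodule.span F {v} = W := Submodule.eq_of_le_of_finrank_le
    ((Submodule.span_singleton_le_iff_mem _ _).mpr hv) (by rw [finrank_span_singleton hv0]; exact hd)
  refine .line v h2 (fun h => hv0 ?_) (hWv ▸ hle)
  have : v ∈ singularPart hQ h2 W hW := ⟨hv, h⟩
  rwa [hS, Submodule.mem_bot] at this

/-- The subfield case: the rational structure carries a multiple of the form. -/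
theorem eOutcome_of_subfield {H : Subgroup (GL ι F)} (hn2 : 2 ≤ Fintype.card ι) (hI : H ≤ isometryGroup F Q)
    {N : Subgroup (GL ι F)} (hNH : N ≤ H) (hNn : NormalIn H N) (hNa : ActsAbsolutelyIrreducibly (matrixSet N))
    {F₀ : Subfield F} (h0 : F₀ ≠ ⊤) (hreal : RealisableOver F₀ (matrixSet N)) : EOutcome Q H := by
  classical
  haveI : Nonempty ι := Fintype.card_pos_iff.mp (by omega)
  have hf := reflexForm_of_quadratic hQ
  have hNI := hNH.trans hI
  obtain ⟨F₁, r, B, a, A₀, hr, hcard, hS⟩ := hf.subfield_gram hNn hNa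
    (quad_fixes_polar (by rintro _ ⟨g, hg, rfl⟩ v; exact mem_isometryGroup_iff.mp (hNI hg) v)) h0 hreal
  refine .subfield F₁ r B⁻¹ a⁻¹ hr hcard (inv_ne_zero hS.ne_zero) (fun u hu => ?_) hS.le
  set Bi := ((B⁻¹ : GL ι F) : Matrix ι ι F) with hBi
  change a⁻¹ * Q (Bi *ᵥ u) ∈ F₁
  have hpol : ∀ u v : ι → F, (∀ i, u i ∈ F₁) → (∀ i, v i ∈ F₁) →
      a⁻¹ * QuadraticMap.polar Q (Bi *ᵥ u) (Bi *ᵥ v) ∈ F₁ := by
    intro u v hu hv
    rw [hBi, hS.gram, ← mul_assoc, inv_mul_cancel₀ hS.ne_zero, one_mul]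
    exact sum_mem fun k _ => mul_mem (hu k) (sum_mem fun m _ => mul_mem (hS.entries k m) (hv m))
  by_cases h2 : (2 : F) = 0
  swap
  · have h := hpol u u hu hu
    rw [polar_self_eq hQ, mul_left_comm] at h
    have h2F : (2 : F) ∈ F₁ := by simpa [one_add_one_eq_two] using add_mem F₁.one_mem F₁.one_mem
    have := div_mem h h2F
    rwa [mul_div_cancel_left₀ _ h2] at this
  -- characteristic two
  obtain ⟨p, hchar⟩ := CharP.exists F
  obtain ⟨⟨e, he⟩, hp, hce⟩ := FiniteField.card F p
  change Fintype.card F = p ^ e at hce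
  obtain ⟨b, -, -, -, hiff⟩ := subfield_card_eq hp hce F₁
  haveI : ExpChar F p := ExpChar.prime hp
  set τ := iterateFrobenius F p b with hτ
  have hτfix : ∀ y, τ y = y ↔ y ∈ F₁ := fun y => by rw [hiff, hτ, iterateFrobenius_def]
  let D : (ι → F) → F := fun u => a⁻¹ * Q (Bi *ᵥ u)
  have hDadd : ∀ u v, D (u + v) = D u + D v + a⁻¹ * QuadraticMap.polar Q (Bi *ᵥ u) (Bi *ᵥ v) := fun u v => by
    simp only [D, QuadraticMap.polar, Matrix.mulVec_add]; ring
  have hDsmul : ∀ (c : F) u, D (c • u) = c ^ 2 * D u := fun c u => by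
    simp only [D, Matrix.mulVec_smul, hQ.smul]; ring
  have hD0 : D 0 = 0 := by
    simp only [D, Matrix.mulVec_zero]
    rw [show Q 0 = 0 by simpa using hQ.smul 0 0, mul_zero]
  let E : (ι → F) → F := fun u => τ (D u) - D u
  let E' : (ι → F) → F := fun x => ∑ i, x i ^ 2 * E (Pi.single i 1)
  have hE : ∀ u, (∀ i, u i ∈ F₁) → E u = E' u := by
    have key : ∀ (s : Finset ι) (u : ι → F), (∀ i, u i ∈ F₁) → (∀ i ∉ s, u i = 0) →
        E u = ∑ i ∈ s, u i ^ 2 * E (Pi.single i 1) := by
      intro s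
      induction s using Finset.induction with
      | empty =>
        intro u _ hu0
        rw [show u = 0 from funext fun i => hu0 i (Finset.notMem_empty i), Finset.sum_empty]
        simp [E, hD0]
      | insert j s hj ih =>
        intro u hu hu0
        set u' := Function.update u j 0 with hu'
        have hu'F : ∀ i, u' i ∈ F₁ := fun i => by
          rw [hu', Function.update_apply]; split_ifs
          · exact F₁.zero_mem
          · exact hu i
        have e : u = u' + u j • Pi.single j 1 := by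
          funext i
          rcases eq_or_ne i j with rfl | h
          · simp [hu']
          · simp [hu', h]
        have hsF : ∀ i, (Pi.single j 1 : ι → F) i ∈ F₁ := fun i => by
          rw [Pi.single_apply]; split_ifs
          · exact F₁.one_mem
          · exact F₁.zero_mem
        have hP := (hτfix _).mpr (hpol u' _ hu'F (fun i => by simpa using mul_mem (hu j) (hsF i)) :
          a⁻¹ * QuadraticMap.polar Q (Bi *ᵥ u') (Bi *ᵥ (u j • Pi.single j 1)) ∈ F₁)
        have ihu := ih u' hu'F fun i hi => by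
          rcases eq_or_ne i j with rfl | h
          · simp [hu']
          · rw [hu', Function.update_of_ne h]; exact hu0 i (by simp [h, hi])
        have hsum : ∑ i ∈ s, u' i ^ 2 * E (Pi.single i 1) = ∑ i ∈ s, u i ^ 2 * E (Pi.single i 1) :=
          Finset.sum_congr rfl fun i hi => by
            rw [hu', Function.update_of_ne (fun h : i = j => hj (h ▸ hi))]
        rw [Finset.sum_insert hj, ← hsum, ← ihu]
        conv_lhs => rw [e]
        simp only [E, hDadd u', hDsmul, map_add, map_mul, map_pow, hP, (hτfix _).mpr (hu j)]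
        ring
    exact fun u hu => key Finset.univ u hu fun i hi => absurd (Finset.mem_univ i) hi
  have hE'Y : ∀ x ∈ N, ∀ v, E' (((B * x * B⁻¹ : GL ι F) : Matrix ι ι F) *ᵥ v) = E' v := by
    intro x hx v
    set Y := ((B * x * B⁻¹ : GL ι F) : Matrix ι ι F) with hY
    have hYF := hS.rational x hx
    have hDY : ∀ u, D (Y *ᵥ u) = D u := fun u => by
      have hbY : Bi * Y = (x : Matrix ι ι F) * Bi := by
        rw [hBi, hY, ← Units.val_mul, ← Units.val_mul]; congr 1; group
      simp only [D, Matrix.mulVec_mulVec, hbY]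
      rw [← Matrix.mulVec_mulVec, mem_isometryGroup_iff.mp (hNI hx)]
    haveI : CharP F 2 := CharTwo.of_one_ne_zero_of_two_eq_zero one_ne_zero h2
    have hsq : ∀ i, (Y *ᵥ v) i ^ 2 = ∑ j, Y i j ^ 2 * v j ^ 2 := fun i => by
      simp only [Matrix.mulVec, dotProduct, CharTwo.sum_sq, mul_pow]
    have hcol : ∀ j, ∑ i, Y i j ^ 2 * E (Pi.single i 1) = E (Pi.single j 1) := fun j => by
      have h1 := hE (Y *ᵥ Pi.single j 1) fun i => by rw [Matrix.mulVec_single_one]; exact hYF i j
      simp only [E, hDY] at h1 ⊢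
      rw [h1]
      simp [E', E, Matrix.mulVec_single_one]
    simp only [E', hsq, Finset.sum_mul]
    rw [Finset.sum_comm]
    refine Finset.sum_congr rfl fun j _ => ?_
    rw [← hcol j, Finset.mul_sum]
    exact Finset.sum_congr rfl fun i _ => by ring
  -- the kernel of the semilinear map is invariant, hence everything
  haveI : CharP F 2 := CharTwo.of_one_ne_zero_of_two_eq_zero one_ne_zero h2
  have hEadd : ∀ x y, E' (x + y) = E' x + E' y := fun x y => by
    simp [E', CharTwo.add_sq, add_mul, Finset.sum_add_distrib]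
  have hEsmul : ∀ (c : F) x, E' (c • x) = c ^ 2 * E' x := fun c x => by
    simp [E', Finset.mul_sum, mul_pow, mul_assoc]
  let T : Submodule F (ι → F) :=
    { carrier := {v | E' (((B : GL ι F) : Matrix ι ι F) *ᵥ v) = 0}
      add_mem' := fun {p q} hp hq => by
        change E' _ = 0
        rw [Matrix.mulVec_add, hEadd, show E' _ = 0 from hp, show E' _ = 0 from hq, add_zero]
      zero_mem' := by simp [E']
      smul_mem' := fun c p hp => by
        change E' _ = 0
        rw [Matrix.mulVec_smul, hEsmul, show E' _ = 0 from hp, mul_zero] }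
  have hTtop : T = ⊤ := by
    rcases hNa.1 T (by
      rintro _ ⟨x, hx, rfl⟩
      refine map_toLin'_le.mpr fun v hv => ?_
      change E' ((B : Matrix ι ι F) *ᵥ ((x : Matrix ι ι F) *ᵥ v)) = 0
      have e : (B : Matrix ι ι F) *ᵥ ((x : Matrix ι ι F) *ᵥ v) =
          ((B * x * B⁻¹ : GL ι F) : Matrix ι ι F) *ᵥ ((B : Matrix ι ι F) *ᵥ v) := by
        rw [Matrix.mulVec_mulVec, Matrix.mulVec_mulVec, ← Units.val_mul, ← Units.val_mul]
        congr 2; group
      rw [e, hE'Y x hx]
      exact hv) with h | h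
    · exfalso
      obtain ⟨i, j, hij⟩ : ∃ i j : ι, i ≠ j := Fintype.exists_pair_of_one_lt_card (by omega)
      obtain ⟨c, d, hcd, hzero⟩ : ∃ c d : F, (c ≠ 0 ∨ d ≠ 0) ∧
          c ^ 2 * E (Pi.single i 1) + d ^ 2 * E (Pi.single j 1) = 0 := by
        obtain ⟨c, hc⟩ := Cfsg.Agent.Small.QuadBasis.exists_sq h2 (E (Pi.single j 1))
        obtain ⟨d, hd⟩ := Cfsg.Agent.Small.QuadBasis.exists_sq h2 (E (Pi.single i 1))
        by_cases h : c = 0 ∧ d = 0
        · refine ⟨1, 0, Or.inl one_ne_zero, ?_⟩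
          have : E (Pi.single i 1) = 0 := by rw [← hd, h.2, mul_zero]
          rw [this]; ring
        · refine ⟨c, d, not_and_or.mp h, ?_⟩
          rw [sq, sq, hc, hd]
          linear_combination (E (Pi.single j 1) * E (Pi.single i 1)) * h2
      set w := c • (Pi.single i 1 : ι → F) + d • Pi.single j 1 with hw
      have hsingle : ∀ k, E' (Pi.single k 1) = E (Pi.single k 1) := fun k => by
        simp [E', Pi.single_apply, Finset.sum_eq_single k]
      have hmem : ((B⁻¹ : GL ι F) : Matrix ι ι F) *ᵥ w ∈ T := by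
        change E' _ = 0
        rw [gl_mulVec_inv_cancel, hw, hEadd, hEsmul, hEsmul, hsingle, hsingle, hzero]
      rw [h, Submodule.mem_bot] at hmem
      have hw0 : w = 0 := by
        have := congrArg (fun z => (B : Matrix ι ι F) *ᵥ z) hmem
        simpa [gl_mulVec_inv_cancel] using this
      rcases hcd with hc' | hd'
      · exact hc' (by simpa [hw, hij] using congrFun hw0 i)
      · exact hd' (by simpa [hw, hij.symm] using congrFun hw0 j)
    · exact h
  have huT : ((B⁻¹ : GL ι F) : Matrix ι ι F) *ᵥ u ∈ T := by rw [hTtop]; trivial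
  change E' _ = 0 at huT
  rw [gl_mulVec_inv_cancel, ← hE u hu] at huT
  exact (hτfix _).mp (sub_eq_zero.mp huT)

/-- A commutative adjoint-closed algebra normalised by an irreducible group. -/
theorem algebra_members (hcard : 4 ≤ Fintype.card ι) {H : Subgroup (GL ι F)} (hI : H ≤ isometryGroup F Q) [Nonempty ι]
    (hirr : ActsIrreducibly (matrixSet H)) {Z : Subalgebra F (Matrix ι ι F)} (hZ : ∀ x ∈ Z, ∀ y ∈ Z, x * y = y * x)
    (hn : H ≤ subalgebraNormalizer Z) (hZadj : ∀ z ∈ Z, formAdj (RingEquiv.refl F) (QuadraticMap.polar Q) z ∈ Z)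
    (hns : ∃ z ∈ Z, ∀ c : F, z ≠ c • (1 : Matrix ι ι F)) :
    (∃ (t k : ℕ) (D : Fin t → Submodule F (ι → F)), IsOrthogonalMDecomposition Q k D ∧ H ≤ decompositionStabilizer D) ∨
    (∃ (k : ℕ) (D : Fin 2 → Submodule F (ι → F)), 2 * k = Fintype.card ι ∧ IsMDecomposition k D ∧
      (∀ i, IsTotallySingularQuad Q (D i)) ∧ H ≤ decompositionStabilizer D) ∨
    (∃ (r : ℕ) (K : Subalgebra F (Matrix ι ι F)), r.Prime ∧ r ∣ Fintype.card ι ∧ IsFieldSubalgebra r K ∧
      IsAdjointClosedFor (QuadraticMap.polar Q) K ∧ H ≤ subalgebraNormalizer K) := by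
  classical
  have hf := reflexForm_of_quadratic hQ
  have hfix : FixesForm (matrixSet H) (QuadraticMap.polar Q) :=
    quad_fixes_polar (by rintro _ ⟨g, hg, rfl⟩ v; exact mem_isometryGroup_iff.mp (hI hg) v)
  rcases hf.comm_algebra_cases hirr hfix hZ hn hZadj with
    hs | ⟨t, k, D, hD, h⟩ | ⟨k, D, hD, hts, h, -⟩ | ⟨r, K, hr, hK, hKadj, h, -⟩
  · obtain ⟨z, hz, hz'⟩ := hns
    obtain ⟨c, hc⟩ := hs z hz
    exact absurd hc (hz' c)
  · exact Or.inl ⟨t, k, D, orth_isometric hQ hirr hI hD h, h⟩
  · have hk : 2 * k = Fintype.card ι := IsMDecomposition.card_eq hD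
    by_cases h2 : (2 : F) = 0
    swap
    · exact Or.inr (Or.inl ⟨k, D, hk, hD, fun i => totallySingular_of_polar h2 hQ (hts i), h⟩)
    -- in characteristic two the singular parts span an invariant subspace
    set S := fun i => singularPart hQ h2 (D i) (hts i) with hSdef
    have hle : ∀ i, S i ≤ D i := fun i v hv => hv.1
    have hdim : ∀ i, k ≤ Module.finrank F (S i) + 1 := fun i =>
      (hD.finrank_eq i).symm.le.trans (finrank_le_singularPart hQ h2 (D i) (hts i))
    rcases hirr (⨆ i, S i) (by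
        rintro _ ⟨g, hg, rfl⟩
        obtain ⟨π, hπ⟩ := h hg
        rw [Submodule.map_iSup]
        refine iSup_le fun i => le_iSup_of_le (π i) (map_toLin'_le.mpr fun v hv => ?_)
        exact mem_singularPart_of_map hQ h2 (hts i) (hts (π i)) (hI hg)
          (fun w hw => hπ i ▸ Submodule.mem_map_of_mem (f := Matrix.toLin' (g : Matrix ι ι F)) hw) hv) with
      hb | ht
    · exfalso
      have h1 := hdim 0
      rw [show S 0 = ⊥ from eq_bot_iff.mpr ((le_iSup S 0).trans hb.le), finrank_bot] at h1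
      omega
    refine Or.inr (Or.inl ⟨k, D, hk, hD, fun i w hw => ?_, h⟩)
    suffices hSD : D i ≤ S i from (hSD hw).2
    have hsum : Module.finrank F (⊤ : Submodule F (ι → F)) ≤ Module.finrank F (S 0) + Module.finrank F (S 1) := by
      rw [← ht]
      have : (⨆ j, S j) ≤ S 0 ⊔ S 1 := iSup_le fun j => by fin_cases j; exacts [le_sup_left, le_sup_right]
      exact (Submodule.finrank_mono this).trans (Submodule.finrank_add_le_finrank_add_finrank _ _)
    rw [finrank_top, Module.finrank_fintype_fun_eq_card] at hsum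
    have hb0 := (Submodule.finrank_mono (hle 0)).trans (hD.finrank_eq 0).le
    have hb1 := (Submodule.finrank_mono (hle 1)).trans (hD.finrank_eq 1).le
    refine (Submodule.eq_of_le_of_finrank_le (hle i) ?_).ge
    rw [hD.finrank_eq]
    rcases (show i = 0 ∨ i = 1 by omega) with rfl | rfl <;> omega
  · refine Or.inr (Or.inr ⟨r, K, hr, ?_, hK, hKadj, h⟩)
    exact fieldSubalgebra_finrank_dvd hK

/-- The subgroup theorem. -/
theorem even_structure (hn : 4 ≤ Fintype.card ι) {H : Subgroup (GL ι F)} (hI : H ≤ isometryGroup F Q) :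
    EOutcome Q H ∨ InOrthogonalResidualClass H := by
  classical
  have hn2 : 2 ≤ Fintype.card ι := by omega
  haveI : Nonempty ι := Fintype.card_pos_iff.mp (by omega)
  have hf := reflexForm_of_quadratic hQ
  have hfix : FixesForm (matrixSet H) (QuadraticMap.polar Q) :=
    quad_fixes_polar (by rintro _ ⟨g, hg, rfl⟩ v; exact mem_isometryGroup_iff.mp (hI hg) v)
  rcases form_aschbacher hn2 hf hfix (EOutcome Q H)
      (fun hred => by
        rcases hf.reducible_cases hfix hred with ⟨W, h0, hts, h⟩ | ⟨W, h0, hnd, hlt, h⟩ | ⟨k, D, hk, hD, h⟩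
        · exact eOutcome_of_isotropic hQ hI h0 hts h
        · exact .nondeg W h0 hnd hlt h
        · exact .halves k D hk hD h)
      (fun hirr M hMH hMn _ hns => by
        rcases algebra_members hQ hn hI hirr
          (fun x hx y hy => (mem_commutantCentre.mp hx).2 y (mem_commutantCentre.mp hy).1)
          (normalizer_le_centreNormalizer hMn) (fun z hz => hf.commutantCentre_adj hfix hMH hz) hns with
          ⟨t, k, D, hD, h⟩ | ⟨k, D, hk, hD, hts, h⟩ | ⟨r, K, hr, hdvd, hK, hadj, h⟩
        exacts [.decomp t k D hirr hD h, .tspair k D hirr hk hD hts h, .field r K hr hdvd hK hirr hadj h])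
      (fun hirr d k e P G₁ G₂ l hd hk hT hkr => .tensor d k e P G₁ G₂ l hd hk hirr hT hkr)
      (fun M hMH hMn hMa hne hc _ => .symp M hMH hMn hMa hne hc)
      (fun N hNH hNn hNa F₀ h0 hreal => eOutcome_of_subfield hQ hn2 hI hNH hNn hNa h0 hreal)
      (fun hirr k t e B P hk ht hle hPH _ _ hW => by
        obtain ⟨c, G₀, l, hG⟩ := hf.power_gram hk ht e B hPH hfix hW
        exact .power k t e B c G₀ l hk ht hirr hG hle) with
    h | ⟨P, hP⟩
  · exact Or.inl h
  refine Or.inr ⟨P, hP, fun ⟨σ, g, hu, hgu⟩ => ?_⟩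
  obtain ⟨F₀, h0, hr⟩ := realisable_of_two_forms hP.absIrred hQ.polar_bilinear hQ.nondegenerate
    (fun s ⟨x, hx, e⟩ => hfix s ⟨x, hP.le hx, e⟩) hu hgu
  exact hP.no_subfield F₀ h0 hr

end Cfsg.Agent.Classical
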