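/-
Consequences of the geometric outcomes for the type of an even-dimensional quadratic form.
-/
import Cfsg.Agent.Lib.Classical.OrthEvenMember
import Cfsg.Agent.Lib.Classical.FormTensorQuad
import Cfsg.Agent.Lib.Classical.FormPower

set_option autoImplicit false
set_option linter.unusedSectionVars false
set_option linter.style.haveILetI false

namespace Cfsg.Agent.Classical.OEven

open Matrix Module Cfsg.Geo
open Cfsg.Agent.Classical
open scoped Kronecker

variable {ι : Type} [Fintype ι] [DecidableEq ι] {F : Type*} [Field F]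

/-- A group on a decomposition into two members fixes both of them or exchanges them by an isometry. -/
theorem fixed_or_isometric {Q : (ι → F) → F} {H : Subgroup (GL ι F)} (hI : H ≤ isometryGroup F Q) {k : ℕ}
    {D : Fin 2 → Submodule F (ι → F)} (hD : IsNondegenerateMDecomposition (QuadraticMap.polar Q) k D)
    (hle : H ≤ decompositionStabilizer D) :
    (∀ i, H ≤ subspaceStabilizer (D i)) ∨ IsOrthogonalMDecomposition Q k D := by
  classical
  by_cases hfix : ∀ g ∈ H, (D 0).map (Matrix.toLin' (g : Matrix ι ι F)) = D 0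
  · refine Or.inl fun i g hg => mem_subspaceStabilizer_iff.mpr (map_toLin'_le.mp ?_)
    obtain ⟨π, hπ⟩ := hle hg
    have hinj : D 0 ≠ D 1 := fun e => by
      have h1 := hD.decomp.indep.pairwiseDisjoint (show (0 : Fin 2) ≠ 1 by decide)
      have h2 := hD.decomp.finrank_eq 0
      have h3 := hD.decomp.pos
      rw [Function.onFun, ← e, disjoint_self] at h1
      rw [h1, finrank_bot] at h2
      omega
    rcases (show i = 0 ∨ i = 1 by omega) with rfl | rfl
    · exact (hfix g hg).le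
    · rw [hπ]
      rcases (show π 1 = 0 ∨ π 1 = 1 by omega) with h | h
      · exfalso
        rcases (show π 0 = 0 ∨ π 0 = 1 by omega) with h' | h'
        · exact absurd (π.injective (h'.trans h.symm)) (by decide)
        · have e := hfix g hg
          rw [hπ, h'] at e
          exact hinj e.symm
      · rw [h]
  push Not at hfix
  obtain ⟨g, hg, hgne⟩ := hfix
  obtain ⟨π, hπ⟩ := hle hg
  have h01 : (D 0).map (Matrix.toLin' (g : Matrix ι ι F)) = D 1 := by
    rw [hπ] at hgne ⊢
    rcases (show π 0 = 0 ∨ π 0 = 1 by omega) with h | h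
    · exact absurd (by rw [h]) hgne
    · rw [h]
  obtain ⟨e, he⟩ : AreIsometricFor Q (D 0) (D 1) := by
    refine ⟨(Submodule.equivMapOfInjective (Matrix.toLin' (g : Matrix ι ι F))
      (fun u v h => gl_mulVec_injective g (by simpa using h)) (D 0)).trans (LinearEquiv.ofEq _ _ h01), fun w => ?_⟩
    simp only [LinearEquiv.trans_apply, LinearEquiv.coe_ofEq_apply, Submodule.coe_equivMapOfInjective_apply]
    exact mem_isometryGroup_iff.mp (hI hg) (w : ι → F)
  refine Or.inr ⟨hD, fun i j => ?_⟩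
  rcases (show i = 0 ∨ i = 1 by omega) with rfl | rfl <;> rcases (show j = 0 ∨ j = 1 by omega) with rfl | rfl
  · exact ⟨LinearEquiv.refl F _, fun w => rfl⟩
  · exact ⟨e, he⟩
  · exact ⟨e.symm, fun w => by
      have := he (e.symm w)
      rw [LinearEquiv.apply_symm_apply] at this
      exact this.symm⟩
  · exact ⟨LinearEquiv.refl F _, fun w => rfl⟩

variable {Q : (ι → F) → F} (hQ : IsNondegenerateQuadraticForm Q)

include hQ

/-- An extraspecial-type group contains an involution anticommuting with some member. -/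
theorem involution_of_symplectic (hn : 5 ≤ Fintype.card ι) {M : Subgroup (GL ι F)} (hI : M ≤ isometryGroup F Q)
    (ha : ActsAbsolutelyIrreducibly (matrixSet M)) (hne : ∃ x ∈ M, ∃ y ∈ M, x * y ≠ y * x)
    (hc : ∀ x ∈ M, ∀ y ∈ M, x * y * x⁻¹ * y⁻¹ ∈ scalars ι F) :
    (2 : F) ≠ 0 ∧ (∀ g ∈ M, (g : Matrix ι ι F) * g = 1 ∨ (g : Matrix ι ι F) * g = -1) ∧
      (∀ g ∈ M, ∀ h ∈ M, (g : Matrix ι ι F) * h = (h : Matrix ι ι F) * g ∨
        (g : Matrix ι ι F) * h = -((h : Matrix ι ι F) * g)) ∧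
      ∃ x ∈ M, ∃ y ∈ M, (x : Matrix ι ι F) * x = 1 ∧ (x : Matrix ι ι F) * y = -((y : Matrix ι ι F) * x) := by
  classical
  haveI : Nonempty ι := Fintype.card_pos_iff.mp (by omega)
  have hf := reflexForm_of_quadratic hQ
  set f := QuadraticMap.polar Q with hfdef
  have hiso : ∀ g ∈ M, ∀ u v, f ((g : Matrix ι ι F) *ᵥ u) ((g : Matrix ι ι F) *ᵥ v) = f u v := fun g hg u v => by
    simp only [hfdef, QuadraticMap.polar, ← Matrix.mulVec_add, mem_isometryGroup_iff.mp (hI hg)]
  have hsc : ∀ g ∈ M, ∀ c : F, (g : Matrix ι ι F) = c • 1 → c = 1 ∨ c = -1 := by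
    intro g hg c hgc
    obtain ⟨i⟩ := ‹Nonempty ι›
    obtain ⟨w, hw⟩ := (hf.nondeg (Pi.single i 1) (by simp)).1
    have e := hiso g hg w (Pi.single i 1)
    rw [hgc, Matrix.smul_mulVec, Matrix.one_mulVec, Matrix.smul_mulVec, Matrix.one_mulVec, hf.semi.smul_left,
      hf.semi.smul_right, ← mul_assoc] at e
    exact mul_self_eq_one_iff.mp ((mul_eq_right₀ hw).mp e)
  have hpm : ∀ x ∈ M, ∀ y ∈ M, (x : Matrix ι ι F) * y = (y : Matrix ι ι F) * x ∨
      (x : Matrix ι ι F) * y = -((y : Matrix ι ι F) * x) := by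
    intro x hx y hy
    obtain ⟨c, hcz⟩ := (mem_scalars_iff _).mp (hc x hx y hy)
    have e : x * y = (x * y * x⁻¹ * y⁻¹) * (y * x) := by group
    have e' := congrArg Units.val e
    rw [Units.val_mul, Units.val_mul _ (y * x), hcz, Matrix.smul_mul, Matrix.one_mul, Units.val_mul] at e'
    rcases hsc _ (mul_mem (mul_mem (mul_mem hx hy) (inv_mem hx)) (inv_mem hy)) c hcz with h | h
    · rw [h, one_smul] at e'; exact Or.inl e'
    · rw [h, neg_one_smul] at e'; exact Or.inr e'
  obtain ⟨x₀, hx₀, y₀, hy₀, hxy₀⟩ := hne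
  have hxy : (x₀ : Matrix ι ι F) * y₀ = -((y₀ : Matrix ι ι F) * x₀) :=
    (hpm x₀ hx₀ y₀ hy₀).resolve_left fun h => hxy₀ (Units.ext h)
  have h2 : (2 : F) ≠ 0 := by
    intro h2
    apply hxy₀
    refine Units.ext (hxy.trans ?_)
    haveI : CharP F 2 := CharTwo.of_one_ne_zero_of_two_eq_zero one_ne_zero h2
    ext i j
    simp [Matrix.neg_apply, CharTwo.neg_eq]
  have hsq : ∀ x ∈ M, (x : Matrix ι ι F) * x = 1 ∨ (x : Matrix ι ι F) * x = -1 := by
    intro x hx
    obtain ⟨c, hc'⟩ := ha.2 ((x : Matrix ι ι F) * x) (by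
      rintro _ ⟨y, hy, rfl⟩
      rcases hpm x hx y hy with h | h
      · rw [Matrix.mul_assoc, h, ← Matrix.mul_assoc, h, Matrix.mul_assoc]
      · rw [Matrix.mul_assoc, h, Matrix.mul_neg, ← Matrix.mul_assoc, h, Matrix.neg_mul, neg_neg, Matrix.mul_assoc])
    rcases hsc (x * x) (mul_mem hx hx) c (by rw [Units.val_mul]; exact hc') with h | h
    · exact Or.inl (by rw [hc', h, one_smul])
    · exact Or.inr (by rw [hc', h, neg_one_smul])
  -- an involution anticommuting with some member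
  refine ⟨h2, hsq, hpm, ?_⟩
  by_contra hcon
  push Not at hcon
  set X := (x₀ : Matrix ι ι F) with hXdef
  set Y := (y₀ : Matrix ι ι F) with hYdef
  have hYX : Y * X = -(X * Y) := by rw [hxy, neg_neg]
  have hXX : X * X = -1 := (hsq x₀ hx₀).resolve_left fun h => hcon x₀ hx₀ y₀ hy₀ h hxy
  have hYY : Y * Y = -1 := (hsq y₀ hy₀).resolve_left fun h => hcon y₀ hy₀ x₀ hx₀ h hYX
  have hXu := x₀.isUnit
  rw [← hXdef] at hXu
  -- whatever commutes with both is a scalar
  have hcomm : ∀ z ∈ M, (z : Matrix ι ι F) * X = X * z → (z : Matrix ι ι F) * Y = Y * z →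
      ∃ c : F, (z : Matrix ι ι F) = c • 1 := by
    intro z hz hzX hzY
    by_contra hns
    push Not at hns
    obtain ⟨w, hw, hzw⟩ : ∃ w ∈ M, (z : Matrix ι ι F) * w ≠ (w : Matrix ι ι F) * z := by
      by_contra hall
      push Not at hall
      obtain ⟨c, hc'⟩ := ha.2 (z : Matrix ι ι F) (by rintro _ ⟨w, hw, rfl⟩; exact hall w hw)
      exact hns c hc'
    have hZZ : (z : Matrix ι ι F) * z = -1 := (hsq z hz).resolve_left fun h =>
      hcon z hz w hw h ((hpm z hz w hw).resolve_left hzw)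
    refine hcon (x₀ * z) (mul_mem hx₀ hz) y₀ hy₀ ?_ ?_
    · rw [Units.val_mul, ← hXdef]
      calc X * (z : Matrix ι ι F) * (X * z) = X * ((z : Matrix ι ι F) * X) * z := by simp only [Matrix.mul_assoc]
        _ = (X * X) * ((z : Matrix ι ι F) * z) := by rw [hzX]; simp only [Matrix.mul_assoc]
        _ = 1 := by rw [hXX, hZZ, Matrix.neg_mul, Matrix.mul_neg, neg_neg, Matrix.one_mul]
    · rw [Units.val_mul, ← hXdef, ← hYdef]
      calc X * (z : Matrix ι ι F) * Y = (X * Y) * z := by rw [Matrix.mul_assoc, hzY, Matrix.mul_assoc]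
        _ = -(Y * (X * z)) := by rw [hxy, Matrix.neg_mul, Matrix.mul_assoc]
  obtain ⟨i⟩ := ‹Nonempty ι›
  set v : ι → F := Pi.single i 1
  let gen : Fin 4 → ι → F := ![v, X *ᵥ v, Y *ᵥ v, X *ᵥ (Y *ᵥ v)]
  set U := Submodule.span F (Set.range gen)
  have g0 : v ∈ U := Submodule.subset_span ⟨0, rfl⟩
  have g1 : X *ᵥ v ∈ U := Submodule.subset_span ⟨1, rfl⟩
  have g2 : Y *ᵥ v ∈ U := Submodule.subset_span ⟨2, rfl⟩
  have g3 : X *ᵥ (Y *ᵥ v) ∈ U := Submodule.subset_span ⟨3, rfl⟩
  have hXU : ∀ u ∈ U, X *ᵥ u ∈ U := by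
    intro u hu
    have h := Submodule.mem_map_of_mem (f := Matrix.toLin' X) hu
    rw [Matrix.toLin'_apply] at h
    refine (?_ : U.map (Matrix.toLin' X) ≤ U) h
    rw [Submodule.map_span, Submodule.span_le]
    rintro _ ⟨_, ⟨j, rfl⟩, rfl⟩
    rw [Matrix.toLin'_apply]
    fin_cases j
    · exact g1
    · simpa [gen, Matrix.mulVec_mulVec, hXX, Matrix.neg_mulVec] using U.neg_mem g0
    · exact g3
    · simpa [gen, Matrix.mulVec_mulVec, ← Matrix.mul_assoc, hXX, Matrix.neg_mulVec] using U.neg_mem g2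
  have hYU : ∀ u ∈ U, Y *ᵥ u ∈ U := by
    intro u hu
    have h := Submodule.mem_map_of_mem (f := Matrix.toLin' Y) hu
    rw [Matrix.toLin'_apply] at h
    refine (?_ : U.map (Matrix.toLin' Y) ≤ U) h
    rw [Submodule.map_span, Submodule.span_le]
    rintro _ ⟨_, ⟨j, rfl⟩, rfl⟩
    rw [Matrix.toLin'_apply]
    fin_cases j
    · exact g2
    · have := U.neg_mem g3
      simpa [gen, Matrix.mulVec_mulVec, hYX, Matrix.neg_mulVec] using this
    · simpa [gen, Matrix.mulVec_mulVec, hYY, Matrix.neg_mulVec] using U.neg_mem g0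
    · simpa [gen, Matrix.mulVec_mulVec, ← Matrix.mul_assoc, hYX, Matrix.neg_mul, Matrix.neg_mulVec,
        Matrix.mul_assoc X, hYY, Matrix.mul_neg] using g1
  have hscal : ∀ (z' : GL ι F) (c : F), (z' : Matrix ι ι F) = c • 1 → ∀ u ∈ U, (z' : Matrix ι ι F) *ᵥ u ∈ U :=
    fun z' c h u hu => by rw [h, Matrix.smul_mulVec, Matrix.one_mulVec]; exact U.smul_mem c hu
  rcases ha.1 U (by
    rintro _ ⟨z, hz, rfl⟩
    refine map_toLin'_le.mpr fun u hu => ?_
    -- multiply by a member of the quaternion group to commute with both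
    have key : ∀ q ∈ M, (∀ u ∈ U, ((q⁻¹ : GL ι F) : Matrix ι ι F) *ᵥ u ∈ U) →
        ((z * q : GL ι F) : Matrix ι ι F) * X = X * ((z * q : GL ι F) : Matrix ι ι F) →
        ((z * q : GL ι F) : Matrix ι ι F) * Y = Y * ((z * q : GL ι F) : Matrix ι ι F) →
        (z : Matrix ι ι F) *ᵥ u ∈ U := by
      intro q hq hqU h1 h2'
      obtain ⟨c, hc'⟩ := hcomm (z * q) (mul_mem hz hq) h1 h2'
      have e : (z : Matrix ι ι F) *ᵥ u = ((z * q : GL ι F) : Matrix ι ι F) *ᵥ (((q⁻¹ : GL ι F) : Matrix ι ι F) *ᵥ u) := by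
        rw [Matrix.mulVec_mulVec, ← Units.val_mul, mul_inv_cancel_right]
      rw [e]
      exact hscal _ c hc' _ (hqU u hu)
    have hxi : ∀ u ∈ U, ((x₀⁻¹ : GL ι F) : Matrix ι ι F) *ᵥ u ∈ U := fun u hu => by
      have e : ((x₀⁻¹ : GL ι F) : Matrix ι ι F) = -X := by
        refine (Units.inv_eq_of_mul_eq_one_right (a := -X) ?_)
        rw [← hXdef, Matrix.mul_neg, hXX, neg_neg]
      rw [e, Matrix.neg_mulVec]
      exact U.neg_mem (hXU u hu)
    have hyi : ∀ u ∈ U, ((y₀⁻¹ : GL ι F) : Matrix ι ι F) *ᵥ u ∈ U := fun u hu => by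
      have e : ((y₀⁻¹ : GL ι F) : Matrix ι ι F) = -Y := by
        refine (Units.inv_eq_of_mul_eq_one_right (a := -Y) ?_)
        rw [← hYdef, Matrix.mul_neg, hYY, neg_neg]
      rw [e, Matrix.neg_mulVec]
      exact U.neg_mem (hYU u hu)
    rcases hpm z hz x₀ hx₀ with hzx | hzx <;> rcases hpm z hz y₀ hy₀ with hzy | hzy <;>
      rw [← hXdef] at hzx <;> rw [← hYdef] at hzy
    · refine key 1 (one_mem M) (fun u hu => by simpa using hu) ?_ ?_ <;> simpa using ‹_›
    · refine key x₀ hx₀ hxi ?_ ?_ <;> rw [Units.val_mul, ← hXdef]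
      · rw [← Matrix.mul_assoc X, ← hzx]
      · rw [Matrix.mul_assoc, hxy, Matrix.mul_neg, ← Matrix.mul_assoc, hzy, Matrix.neg_mul, neg_neg, Matrix.mul_assoc]
    · refine key y₀ hy₀ hyi ?_ ?_ <;> rw [Units.val_mul, ← hYdef]
      · rw [Matrix.mul_assoc, hYX, Matrix.mul_neg, ← Matrix.mul_assoc, hzx, Matrix.neg_mul, neg_neg, Matrix.mul_assoc]
      · rw [← Matrix.mul_assoc Y, ← hzy]
    · refine key (x₀ * y₀) (mul_mem hx₀ hy₀) (fun u hu => ?_) ?_ ?_
      · rw [_root_.mul_inv_rev, Units.val_mul, ← Matrix.mulVec_mulVec]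
        exact hyi _ (hxi u hu)
      · rw [Units.val_mul, Units.val_mul, ← hXdef, ← hYdef]
        calc (z : Matrix ι ι F) * (X * Y) * X = ((z : Matrix ι ι F) * X) * (Y * X) := by simp only [Matrix.mul_assoc]
          _ = X * (z : Matrix ι ι F) * (X * Y) := by rw [hzx, hYX, Matrix.neg_mul, Matrix.mul_neg, neg_neg]
          _ = X * ((z : Matrix ι ι F) * (X * Y)) := by rw [Matrix.mul_assoc]
      · rw [Units.val_mul, Units.val_mul, ← hXdef, ← hYdef]
        calc (z : Matrix ι ι F) * (X * Y) * Y = ((z : Matrix ι ι F) * (X * Y)) * Y := rfl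
          _ = -((z : Matrix ι ι F) * Y) * (X * Y) := by
              rw [hxy, Matrix.mul_neg, Matrix.neg_mul, Matrix.neg_mul, ← Matrix.mul_assoc (z : Matrix ι ι F),
                Matrix.mul_assoc _ X Y, hxy, Matrix.mul_neg]
          _ = Y * ((z : Matrix ι ι F) * (X * Y)) := by rw [hzy, neg_neg, Matrix.mul_assoc]) with h | h
  · rw [h, Submodule.mem_bot] at g0
    simp [v] at g0
  · have hd : finrank F U ≤ 4 := (finrank_range_le_card gen).trans (by simp)
    rw [h, finrank_top, Module.finrank_fintype_fun_eq_card] at hd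
    omega

/-- A symplectic-type normal subgroup yields two isometric orthogonal halves. -/
theorem halves_of_symplectic (hn : 5 ≤ Fintype.card ι) {M : Subgroup (GL ι F)} (hI : M ≤ isometryGroup F Q)
    (ha : ActsAbsolutelyIrreducibly (matrixSet M)) (hne : ∃ x ∈ M, ∃ y ∈ M, x * y ≠ y * x)
    (hc : ∀ x ∈ M, ∀ y ∈ M, x * y * x⁻¹ * y⁻¹ ∈ scalars ι F) :
    (2 : F) ≠ 0 ∧ ∃ (k : ℕ) (D : Fin 2 → Submodule F (ι → F)),
      2 * k = Fintype.card ι ∧ IsOrthogonalMDecomposition Q k D := by
  classical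
  haveI : Nonempty ι := Fintype.card_pos_iff.mp (by omega)
  have hf := reflexForm_of_quadratic hQ
  set f := QuadraticMap.polar Q with hfdef
  have hiso : ∀ g ∈ M, ∀ u v, f ((g : Matrix ι ι F) *ᵥ u) ((g : Matrix ι ι F) *ᵥ v) = f u v := fun g hg u v => by
    simp only [hfdef, QuadraticMap.polar, ← Matrix.mulVec_add, mem_isometryGroup_iff.mp (hI hg)]
  obtain ⟨h2, -, -, x, hx, y, hy, hX, hXY⟩ := involution_of_symplectic hQ hn hI ha hne hc
  refine ⟨h2, ?_⟩
  set X := (x : Matrix ι ι F) with hXdef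
  set Y := (y : Matrix ι ι F) with hYdef
  let D : Fin 2 → Submodule F (ι → F) :=
    ![LinearMap.ker (Matrix.toLin' X - LinearMap.id), LinearMap.ker (Matrix.toLin' X + LinearMap.id)]
  have m0 : ∀ v, v ∈ D 0 ↔ X *ᵥ v = v := fun v => by simp [D, sub_eq_zero]
  have m1 : ∀ v, v ∈ D 1 ↔ X *ᵥ v = -v := fun v => by simp [D, add_eq_zero_iff_eq_neg]
  have hXinv : ∀ v, X *ᵥ (X *ᵥ v) = v := fun v => by rw [Matrix.mulVec_mulVec, hX, Matrix.one_mulVec]
  have hsum : ∀ v, ∃ a ∈ D 0, ∃ b ∈ D 1, v = a + b := fun v => by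
    refine ⟨(2 : F)⁻¹ • (v + X *ᵥ v), (m0 _).mpr ?_, (2 : F)⁻¹ • (v - X *ᵥ v), (m1 _).mpr ?_, ?_⟩
    · rw [Matrix.mulVec_smul, Matrix.mulVec_add, hXinv, add_comm]
    · rw [Matrix.mulVec_smul, Matrix.mulVec_sub, hXinv, ← smul_neg, neg_sub]
    · rw [← smul_add, show v + X *ᵥ v + (v - X *ᵥ v) = (2 : F) • v by rw [two_smul]; abel, smul_smul,
        inv_mul_cancel₀ h2, one_smul]
  have horth : ∀ a ∈ D 0, ∀ b ∈ D 1, f a b = 0 := fun a ha' b hb => by
    have e := hiso x hx a b
    rw [← hXdef, (m0 a).mp ha', (m1 b).mp hb, ← neg_one_smul F b, hf.semi.smul_right] at e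
    have e' : (-1 : F) * f a b = f a b := e
    exact (mul_eq_zero.mp (show (2 : F) * f a b = 0 by linear_combination -e')).resolve_left h2
  have hsymm : ∀ a b, f a b = f b a := fun a b => QuadraticMap.polar_comm _ a b
  have hdisj : ∀ v, v ∈ D 0 → v ∈ D 1 → v = 0 := fun v h h' => by
    have e := ((m0 v).mp h).symm.trans ((m1 v).mp h')
    have : (2 : F) • v = 0 := by rw [two_smul]; nth_rewrite 1 [e]; exact neg_add_cancel v
    exact (smul_eq_zero.mp this).resolve_left h2
  have hYmap : ∀ (v : ι → F) (s : F), X *ᵥ v = s • v → X *ᵥ (Y *ᵥ v) = (-s) • (Y *ᵥ v) := fun v s hv => by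
    rw [Matrix.mulVec_mulVec, hXY, Matrix.neg_mulVec, ← Matrix.mulVec_mulVec, hv, Matrix.mulVec_smul, neg_smul]
  have hY0 : ∀ v ∈ D 0, Y *ᵥ v ∈ D 1 := fun v hv => (m1 _).mpr (by
    rw [hYmap v 1 (by rw [one_smul]; exact (m0 v).mp hv), neg_smul, one_smul])
  have hY1 : ∀ v ∈ D 1, Y *ᵥ v ∈ D 0 := fun v hv => (m0 _).mpr (by
    rw [hYmap v (-1) (by rw [neg_smul, one_smul]; exact (m1 v).mp hv), neg_neg, one_smul])
  have hdeq : finrank F (D 0) = finrank F (D 1) := le_antisymm
    (by rw [← finrank_map_gl y (D 0)]; exact Submodule.finrank_mono (map_toLin'_le.mpr hY0))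
    (by rw [← finrank_map_gl y (D 1)]; exact Submodule.finrank_mono (map_toLin'_le.mpr hY1))
  have hcompl : IsCompl (D 0) (D 1) := by
    refine ⟨disjoint_iff.mpr ((Submodule.eq_bot_iff _).mpr fun v hv => hdisj v hv.1 hv.2), codisjoint_iff.mpr ?_⟩
    refine eq_top_iff.mpr fun v _ => ?_
    obtain ⟨a, ha', b, hb, rfl⟩ := hsum v
    exact Submodule.add_mem_sup ha' hb
  have hk : 2 * finrank F (D 0) = Fintype.card ι := by
    have := Submodule.finrank_add_eq_of_isCompl hcompl
    rw [Module.finrank_fintype_fun_eq_card] at this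
    omega
  have hnd : IsNondegenerateMDecomposition f (finrank F (D 0)) D := by
    refine ⟨⟨le_rfl, by omega, ?_, ?_, ?_⟩, ?_, ?_⟩
    · intro i; rcases (show i = 0 ∨ i = 1 by omega) with rfl | rfl; exacts [rfl, hdeq.symm]
    · intro i
      rcases (show i = 0 ∨ i = 1 by omega) with rfl | rfl
      · refine hcompl.disjoint.mono_right (iSup₂_le fun j hj => ?_)
        rcases (show j = 0 ∨ j = 1 by omega) with rfl | rfl; exacts [absurd rfl hj, le_rfl]
      · refine hcompl.disjoint.symm.mono_right (iSup₂_le fun j hj => ?_)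
        rcases (show j = 0 ∨ j = 1 by omega) with rfl | rfl; exacts [le_rfl, absurd rfl hj]
    · refine top_le_iff.mp (hcompl.sup_eq_top.ge.trans (sup_le (le_iSup D 0) (le_iSup D 1)))
    · intro i w hw hw0
      obtain ⟨z, hz⟩ := (hf.nondeg w hw0).1
      obtain ⟨a, ha', b, hb, rfl⟩ := hsum z
      rw [hf.semi.add_left] at hz
      rcases (show i = 0 ∨ i = 1 by omega) with rfl | rfl
      · rw [hsymm b, horth w hw b hb, add_zero] at hz
        exact ⟨⟨a, ha', hz⟩, a, ha', by rwa [hsymm]⟩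
      · rw [horth a ha' w hw, zero_add] at hz
        exact ⟨⟨b, hb, hz⟩, b, hb, by rwa [hsymm]⟩
    · intro i j hij
      rcases (show i = 0 ∨ i = 1 by omega) with rfl | rfl <;> rcases (show j = 0 ∨ j = 1 by omega) with rfl | rfl
      · exact absurd rfl hij
      · exact horth
      · exact fun a ha' b hb => by rw [hsymm]; exact horth b hb a ha'
      · exact absurd rfl hij
  refine ⟨_, D, hk, ?_⟩
  have hstab : Subgroup.closure {y} ≤ decompositionStabilizer D := by
    rw [Subgroup.closure_le, Set.singleton_subset_iff]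
    refine ⟨Equiv.swap 0 1, fun i => ?_⟩
    rcases (show i = 0 ∨ i = 1 by omega) with rfl | rfl
    · rw [Equiv.swap_apply_left]
      exact Submodule.eq_of_le_of_finrank_eq (map_toLin'_le.mpr hY0) ((finrank_map_gl y (D 0)).trans hdeq)
    · rw [Equiv.swap_apply_right]
      exact Submodule.eq_of_le_of_finrank_eq (map_toLin'_le.mpr hY1) ((finrank_map_gl y (D 1)).trans hdeq.symm)
  rcases fixed_or_isometric (H := Subgroup.closure {y})
      ((Subgroup.closure_le _).mpr (Set.singleton_subset_iff.mpr (hI hy))) hnd hstab with h | h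
  · exfalso
    obtain ⟨a, ha', ha0⟩ := Submodule.exists_mem_ne_zero_of_ne_bot (p := D 0) fun h0 => by
      rw [h0, finrank_bot] at hk; omega
    have h1 := mem_subspaceStabilizer_iff.mp (h 0 (Subgroup.mem_closure_singleton_self y)) a ha'
    exact ha0 (gl_mulVec_injective y (by simpa [← hYdef] using hdisj _ h1 (hY0 a ha')))
  · exact h

variable [Fintype F]

theorem odd_dim_two_ne_zero {W : Submodule F (ι → F)} (hW : IsNondegenerateOn (QuadraticMap.polar Q) W)
    (hodd : Odd (finrank F W)) : (2 : F) ≠ 0 := by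
  classical
  intro h2
  obtain ⟨Qf, rfl, -⟩ := ONotMax.exists_qform hQ
  obtain ⟨k, hk⟩ := hodd
  have hN : Cfsg.Agent.Small.QuadBasis.Nondeg Qf W := fun x hx h => by
    by_contra h0
    obtain ⟨y, hy, hxy⟩ := (hW x hx h0).2
    exact hxy (h y hy)
  obtain ⟨e, f, W₀, -, -, hN₀, hd₀, -⟩ := Cfsg.Agent.Small.QuadBasis.exists_frame Qf 1 (Or.inl rfl) k W hN hk
  obtain ⟨v, hv, hv0⟩ := Submodule.exists_mem_ne_zero_of_ne_bot (p := W₀) fun e => by
    rw [e, finrank_bot] at hd₀; omega
  refine hv0 (hN₀ v hv fun y hy => ?_)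
  obtain ⟨c, hc⟩ := exists_smul_eq_of_finrank_eq_one hd₀ (x := (⟨v, hv⟩ : W₀))
    (fun e => hv0 (congrArg Subtype.val e)) ⟨y, hy⟩
  have : y = c • v := (congrArg Subtype.val hc).symm
  rw [this, QuadraticMap.polar_smul_right, QuadraticMap.polar_self, two_nsmul, ← two_mul, h2, zero_mul, smul_zero]

/-- Forms with the same polar form fixed by an irreducible group agree. -/
theorem quad_eq_of_irreducible (hn : 2 ≤ Fintype.card ι) (h2 : (2 : F) = 0) {Q' : (ι → F) → F}
    (hQ' : IsNondegenerateQuadraticForm Q') (hpol : ∀ u v, QuadraticMap.polar Q' u v = QuadraticMap.polar Q u v)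
    {H : Subgroup (GL ι F)} (hirr : ActsIrreducibly (matrixSet H)) (hI : H ≤ isometryGroup F Q)
    (hI' : FixesQuadForm (matrixSet H) Q') : Q' = Q := by
  classical
  let D : (ι → F) → F := fun v => Q' v - Q v
  have hDadd : ∀ u v, D (u + v) = D u + D v := fun u v => by
    have := hpol u v
    simp only [QuadraticMap.polar] at this
    simp only [D]
    linear_combination this
  have hDsmul : ∀ (c : F) u, D (c • u) = c ^ 2 * D u := fun c u => by simp only [D, hQ.smul, hQ'.smul]; ring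
  let T : Submodule F (ι → F) :=
    { carrier := {v | D v = 0}
      add_mem' := fun {p q} hp hq => by change D _ = 0; rw [hDadd, show D p = 0 from hp, show D q = 0 from hq, add_zero]
      zero_mem' := by change D 0 = 0; simpa using hDsmul 0 0
      smul_mem' := fun c p hp => by change D _ = 0; rw [hDsmul, show D p = 0 from hp, mul_zero] }
  rcases hirr T (by
    rintro _ ⟨g, hg, rfl⟩
    refine map_toLin'_le.mpr fun v hv => ?_
    change D _ = 0
    simp only [D, hI' _ (coe_mem_matrixSet hg), mem_isometryGroup_iff.mp (hI hg)]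
    exact hv) with h | h
  · exfalso
    obtain ⟨i, j, hij⟩ : ∃ i j : ι, i ≠ j := Fintype.exists_pair_of_one_lt_card (by omega)
    obtain ⟨c, hc⟩ := Cfsg.Agent.Small.QuadBasis.exists_sq h2 (D (Pi.single j 1))
    obtain ⟨d, hd⟩ := Cfsg.Agent.Small.QuadBasis.exists_sq h2 (D (Pi.single i 1))
    by_cases hd0 : d = 0
    · have : (Pi.single i (1 : F) : ι → F) ∈ T := by change D _ = 0; rw [← hd, hd0, mul_zero]
      rw [h, Submodule.mem_bot] at this
      simp at this
    · have : c • (Pi.single i 1 : ι → F) + d • Pi.single j 1 ∈ T := by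
        change D _ = 0
        rw [hDadd, hDsmul, hDsmul, sq, sq, hc, hd]
        linear_combination (D (Pi.single j 1) * D (Pi.single i 1)) * h2
      rw [h, Submodule.mem_bot] at this
      exact hd0 (by simpa [hij.symm] using congrFun this j)
  · funext v
    have : v ∈ T := h ▸ Submodule.mem_top
    exact sub_eq_zero.mp this

/-- A tensor decomposition with a factor of dimension two: plus type. -/
theorem plus_of_tensor_two {k : ℕ} (hk : 2 ≤ k) {H : Subgroup (GL ι F)} (hirr : ActsIrreducibly (matrixSet H))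
    (hI : H ≤ isometryGroup F Q) {e : ι ≃ Fin 2 × Fin k} {P : GL ι F} {G₁ : Matrix (Fin 2) (Fin 2) F}
    {G₂ : Matrix (Fin k) (Fin k) F} {l : F}
    (hT : TensorGram (RingEquiv.refl F) 1 (QuadraticMap.polar Q) e P G₁ G₂ l)
    (hkr : ∀ g ∈ H, ∃ (a : GL (Fin 2) F) (b : GL (Fin k) F),
      matCoord e P (g : Matrix ι ι F) = (a : Matrix (Fin 2) (Fin 2) F) ⊗ₖ (b : Matrix (Fin k) (Fin k) F))
    (hm : (2 : F) = 0 ∨ l = -1 ∨ Even k) : IsPlusTypeOn Q ⊤ := by
  classical
  have hf := reflexForm_of_quadratic hQ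
  have hcard : Fintype.card ι = 2 * k := by
    rw [Fintype.card_congr e, Fintype.card_prod, Fintype.card_fin, Fintype.card_fin]
  have hfix : FixesForm (matrixSet H) (QuadraticMap.polar Q) :=
    quad_fixes_polar (by rintro _ ⟨g, hg, rfl⟩ v; exact mem_isometryGroup_iff.mp (hI hg) v)
  let S : Finset (Fin 2 × Fin k) := Finset.univ.filter fun x => x.1 = 0
  have hS : 2 * S.card = Fintype.card ι := by
    have : S = ({0} : Finset (Fin 2)) ×ˢ (Finset.univ : Finset (Fin k)) := by ext ⟨a, b⟩; simp [S, eq_comm]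
    rw [this, Finset.card_product, Finset.card_singleton, Finset.card_univ, Fintype.card_fin, one_mul, hcard]
  have hgS : G₁ 0 0 = 0 → ∀ x ∈ S, ∀ y ∈ S, gramCoord (RingEquiv.refl F) (QuadraticMap.polar Q) e P x y = 0 := by
    intro h x hx y hy
    simp only [S, Finset.mem_filter, Finset.mem_univ, true_and] at hx hy
    rw [hT.gram, Matrix.kronecker_apply, hx, hy, h, zero_mul]
  by_cases h2 : (2 : F) = 0
  · obtain ⟨hs₁, hd₁⟩ := hT.diag_left h2 le_rfl (by omega) hf hirr hfix hkr
    have hT' := hT.prodComm (by simp) (fun _ => rfl)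
    obtain ⟨hs₂, hd₂⟩ := hT'.diag_left h2 hk (by omega) hf hirr hfix fun g hg => by
      obtain ⟨a, b, hab⟩ := hkr g hg
      refine ⟨b, a, ?_⟩
      ext ⟨i, x⟩ ⟨j, y⟩
      have := congrFun (congrFun hab (x, i)) (y, j)
      rw [Matrix.kronecker_apply] at this ⊢
      rw [mul_comm]
      exact this
    have hfs : IsSymplecticForm (QuadraticMap.polar Q) := by
      refine ⟨hQ.polar_bilinear, fun u w => ?_, fun u => ?_, hQ.nondegenerate⟩
      · rw [QuadraticMap.polar_comm Q w u]
        linear_combination (QuadraticMap.polar Q u w) * h2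
      · rw [polar_self_eq hQ, h2, zero_mul]
    obtain ⟨Q', hQ', hpol, hI', hvan⟩ := hT.quad_pure h2 hfs hs₁ hd₁ hs₂ hd₂ hfix hkr
    have hQQ := quad_eq_of_irreducible hQ (by omega) h2 hQ' hpol hirr hI hI'
    rw [hQQ] at hvan
    refine plus_of_coord hQ e P S hS (fun x _ => hvan _ ⟨Pi.single x.1 1, Pi.single x.2 1, fun y => ?_⟩) (hgS (hd₁ 0))
    obtain ⟨a, b⟩ := x
    obtain ⟨a', b'⟩ := y
    simp only [Pi.single_apply, Prod.mk.injEq]
    split_ifs <;> simp_all
  rcases mul_self_eq_one_iff.mp (hT.norm : l * l = 1) with hl | hl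
  · have hke : Even k := by
      rcases hm with h | h | h
      · exact absurd h h2
      · exact absurd (hl.symm.trans h) fun e => h2 (by linear_combination e)
      · exact h
    refine plus_of_coord_det hQ h2 hcard e P ?_
    rw [hT.gram, Matrix.det_kronecker, Fintype.card_fin, Fintype.card_fin, hke.neg_one_pow, one_mul]
    obtain ⟨k', rfl⟩ := hke
    exact ⟨G₁.det ^ k' * G₂.det, by ring⟩
  · have hd₁ : G₁ 0 0 = 0 := by
      have := hT.swap_left 0 0
      rw [hl, RingEquiv.refl_apply] at this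
      exact (mul_eq_zero.mp (show (2 : F) * G₁ 0 0 = 0 by linear_combination this)).resolve_left h2
    refine plus_of_coord hQ e P S hS (fun x hx => ?_) (hgS hd₁)
    have h1 := hgS hd₁ x hx x hx
    have h3 := (semiForm_of_bilinear hQ.polar_bilinear).coord_apply e P (Pi.single x (1 : F)) (Pi.single x (1 : F))
    rw [polar_self_eq hQ] at h3
    refine (mul_eq_zero.mp (h3.trans ?_)).resolve_left h2
    simpa [dotProduct, Matrix.mulVec, Pi.single_apply] using h1

/-- A tensor power of a plane: plus type. -/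
theorem plus_of_power_two {t : ℕ} (ht : 2 ≤ t) {H : Subgroup (GL ι F)} (hirr : ActsIrreducibly (matrixSet H))
    (hI : H ≤ isometryGroup F Q) {e : ι ≃ (Fin t → Fin 2)} {P : GL ι F} {c : F} {G₀ : Matrix (Fin 2) (Fin 2) F} {l : F}
    (hG : PowerGram (RingEquiv.refl F) 1 (QuadraticMap.polar Q) e P c G₀ l)
    (hle : H ≤ tensorWreathSubgroup 2 t e P) : IsPlusTypeOn Q ⊤ := by
  classical
  have hf := reflexForm_of_quadratic hQ
  obtain ⟨s, rfl⟩ : ∃ s, t = s + 1 := ⟨t - 1, by omega⟩
  have hcard : Fintype.card ι = 2 * 2 ^ s := by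
    rw [Fintype.card_congr e, Fintype.card_fun, Fintype.card_fin, Fintype.card_fin, pow_succ, mul_comm]
  have hfix : FixesForm (matrixSet H) (QuadraticMap.polar Q) :=
    quad_fixes_polar (by rintro _ ⟨g, hg, rfl⟩ v; exact mem_isometryGroup_iff.mp (hI hg) v)
  let S : Finset (Fin (s + 1) → Fin 2) := Finset.univ.filter fun x => x 0 = 0
  have hS : 2 * S.card = Fintype.card ι := by
    have : S.card = 2 ^ s := by
      rw [show 2 ^ s = Fintype.card (Fin s → Fin 2) by simp, ← Finset.card_univ]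
      refine Finset.card_nbij' Fin.tail (fun z => Fin.cons 0 z) (fun x _ => Finset.mem_univ _) (fun z _ => by simp [S])
        (fun x hx => ?_) (fun z _ => Fin.tail_cons _ _)
      simp only [S, Finset.coe_filter, Finset.mem_univ, true_and, Set.mem_setOf_eq] at hx
      change Fin.cons 0 (Fin.tail x) = x
      rw [← hx, Fin.cons_self_tail]
    rw [this, hcard]
  have hgS : G₀ 0 0 = 0 → ∀ x ∈ S, ∀ y ∈ S, gramCoord (RingEquiv.refl F) (QuadraticMap.polar Q) e P x y = 0 := by
    intro h x hx y hy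
    simp only [S, Finset.mem_filter, Finset.mem_univ, true_and] at hx hy
    rw [hG.gram, Matrix.smul_apply, pureM, Matrix.of_apply,
      Finset.prod_eq_zero (Finset.mem_univ (0 : Fin (s + 1))) (by rw [hx, hy, h]), smul_zero]
  by_cases h2 : (2 : F) = 0
  · have hs : ∀ i j, G₀ j i = G₀ i j := fun i j => by
      have := hG.swap i j
      rcases mul_self_eq_one_iff.mp (hG.norm : l * l = 1) with hl | hl <;> rw [hl, RingEquiv.refl_apply] at this
      · rwa [one_mul] at this
      · linear_combination this - G₀ i j * h2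
    have hd := power_diag h2 hf le_rfl (by omega) hG.gram hG.ne_zero hG.det_ne_zero hs hirr hfix hle
    have hfs : IsSymplecticForm (QuadraticMap.polar Q) := by
      refine ⟨hQ.polar_bilinear, fun u w => ?_, fun u => ?_, hQ.nondegenerate⟩
      · rw [QuadraticMap.polar_comm Q w u]
        linear_combination (QuadraticMap.polar Q u w) * h2
      · rw [polar_self_eq hQ, h2, zero_mul]
    obtain ⟨Q', hQ', hpol, hI', hvan⟩ := quad_of_power_pure h2 hfs ht e P hG.gram hs hd hfix hle
    have hQQ := quad_eq_of_irreducible hQ (by have := Nat.one_le_two_pow (n := s); omega) h2 hQ' hpol hirr hI hI'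
    rw [hQQ] at hvan
    refine plus_of_coord hQ e P S hS (fun x _ => hvan _ ⟨fun i => Pi.single (x i) 1, fun y => ?_⟩) (hgS (hd 0))
    by_cases h : y = x
    · subst h; simp
    · obtain ⟨i, hi⟩ := Function.ne_iff.mp h
      rw [Pi.single_eq_of_ne h, Finset.prod_eq_zero (Finset.mem_univ i) (Pi.single_eq_of_ne hi 1)]
  rcases mul_self_eq_one_iff.mp (hG.norm : l * l = 1) with hl | hl
  · refine plus_of_coord_det hQ h2 hcard e P ?_
    have hev : Even (2 ^ s) := (Nat.even_pow' (by omega)).mpr even_two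
    rw [hev.neg_one_pow, one_mul, hG.gram]
    set G' : Matrix (Fin s → Fin 2) (Fin s → Fin 2) F := pureM fun _ => G₀
    have he : (c • pureM fun _ : Fin (s + 1) => G₀) = ((c • G₀) ⊗ₖ G').submatrix
        (Fin.consEquiv fun _ : Fin (s + 1) => Fin 2).symm (Fin.consEquiv fun _ : Fin (s + 1) => Fin 2).symm := by
      ext x y
      simp [pureM, G', Fin.consEquiv, Fin.prod_univ_succ, Fin.tail, mul_assoc]
    rw [he, Matrix.det_submatrix_equiv_self, Matrix.det_kronecker, Fintype.card_fin]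
    obtain ⟨u, hu⟩ := hev
    rw [show Fintype.card (Fin s → Fin 2) = u + u by rw [← hu]; simp]
    exact ⟨(c • G₀).det ^ u * G'.det, by ring⟩
  · have hd₀ : G₀ 0 0 = 0 := by
      have := hG.swap 0 0
      rw [hl, RingEquiv.refl_apply] at this
      exact (mul_eq_zero.mp (show (2 : F) * G₀ 0 0 = 0 by linear_combination this)).resolve_left h2
    refine plus_of_coord hQ e P S hS (fun x hx => ?_) (hgS hd₀)
    have h1 := hgS hd₀ x hx x hx
    have h3 := (semiForm_of_bilinear hQ.polar_bilinear).coord_apply e P (Pi.single x (1 : F)) (Pi.single x (1 : F))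
    rw [polar_self_eq hQ] at h3
    refine (mul_eq_zero.mp (h3.trans ?_)).resolve_left h2
    simpa [dotProduct, Matrix.mulVec, Pi.single_apply] using h1

end Cfsg.Agent.Classical.OEven
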