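/-
Fields of odd degree in orthogonal groups of twice that dimension: a pair of totally singular halves or a field
of degree two.
-/
import Cfsg.Agent.Lib.Classical.OrthEvenCases
import Cfsg.Agent.Lib.Classical.FormField

set_option autoImplicit false
set_option linter.unusedSectionVars false
set_option linter.style.haveILetI false

namespace Cfsg.Agent.Classical.OField

open Matrix Module Cfsg.Geo
open Cfsg.Agent.Classical

variable {ι : Type} [Fintype ι] [DecidableEq ι] {F : Type*} [Field F]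

/-- The orbit map of a vector. -/
def orbit (K : Subalgebra F (Matrix ι ι F)) (v : ι → F) : K →ₗ[F] (ι → F) where
  toFun k := (k : Matrix ι ι F) *ᵥ v
  map_add' a b := Matrix.add_mulVec _ _ _
  map_smul' c a := Matrix.smul_mulVec c _ _

theorem orbit_apply (K : Subalgebra F (Matrix ι ι F)) (v : ι → F) (k : K) :
    orbit K v k = (k : Matrix ι ι F) *ᵥ v := rfl

/-- A line over a field of matrices. -/
def line (K : Subalgebra F (Matrix ι ι F)) (v : ι → F) : Submodule F (ι → F) := LinearMap.range (orbit K v)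

theorem mem_line {K : Subalgebra F (Matrix ι ι F)} {v x : ι → F} :
    x ∈ line K v ↔ ∃ k ∈ K, k *ᵥ v = x := by
  constructor
  · rintro ⟨k, rfl⟩; exact ⟨k, k.2, rfl⟩
  · rintro ⟨k, hk, rfl⟩; exact ⟨⟨k, hk⟩, rfl⟩

variable {r : ℕ} {K : Subalgebra F (Matrix ι ι F)} (hK : IsFieldSubalgebra r K)

include hK

theorem eq_zero_of_mulVec {k : Matrix ι ι F} (hk : k ∈ K) {v : ι → F} (hv : v ≠ 0) (h : k *ᵥ v = 0) : k = 0 := by
  by_contra hk0
  obtain ⟨y, hy, hky⟩ := hK.inv k hk hk0
  rw [hK.comm k hk y hy] at hky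
  refine hv ?_
  have := congrArg (y *ᵥ ·) h
  simpa [Matrix.mulVec_mulVec, hky] using this

theorem orbit_injective {v : ι → F} (hv : v ≠ 0) : Function.Injective (orbit K v) :=
  (injective_iff_map_eq_zero _).mpr fun k h => Subtype.ext (eq_zero_of_mulVec hK k.2 hv h)

theorem finrank_line {v : ι → F} (hv : v ≠ 0) : finrank F (line K v) = r :=
  (LinearMap.finrank_range_of_inj (orbit_injective hK hv)).trans hK.finrank_eq

theorem line_inf {v u : ι → F} (hu : u ∉ line K v) : line K v ⊓ line K u = ⊥ := by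
  refine (Submodule.eq_bot_iff _).mpr fun x ⟨h1, h2⟩ => ?_
  obtain ⟨a, ha, rfl⟩ := mem_line.mp h1
  obtain ⟨b, hb, hbu⟩ := mem_line.mp h2
  by_contra hx
  have hb0 : b ≠ 0 := fun e => hx (by rw [← hbu, e, Matrix.zero_mulVec])
  obtain ⟨y, hy, hby⟩ := hK.inv b hb hb0
  rw [hK.comm b hb y hy] at hby
  refine hu (mem_line.mpr ⟨y * a, K.mul_mem hy ha, ?_⟩)
  rw [← Matrix.mulVec_mulVec, ← hbu, Matrix.mulVec_mulVec, hby, Matrix.one_mulVec]

/-- The coordinates with respect to two independent vectors. -/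
noncomputable def pairEquiv (hcard : Fintype.card ι = 2 * r) {v u : ι → F} (hv : v ≠ 0) (hu : u ∉ line K v) :
    (K × K) ≃ₗ[F] (ι → F) :=
  LinearEquiv.ofBijective ((orbit K v).coprod (orbit K u)) <| by
    have hu0 : u ≠ 0 := fun e => hu (e ▸ Submodule.zero_mem _)
    have hinj : Function.Injective ((orbit K v).coprod (orbit K u)) := by
      rw [injective_iff_map_eq_zero]
      rintro ⟨a, b⟩ h
      rw [LinearMap.coprod_apply] at h
      have h' : orbit K v a ∈ line K v ⊓ line K u := ⟨⟨a, rfl⟩, by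
        rw [eq_neg_of_add_eq_zero_left h]; exact Submodule.neg_mem _ ⟨b, rfl⟩⟩
      rw [line_inf hK hu, Submodule.mem_bot] at h'
      rw [h', zero_add] at h
      exact Prod.ext ((injective_iff_map_eq_zero _).mp (orbit_injective hK hv) a h')
        ((injective_iff_map_eq_zero _).mp (orbit_injective hK hu0) b h)
    refine ⟨hinj, (LinearMap.injective_iff_surjective_of_finrank_eq_finrank ?_).mp hinj⟩
    rw [Module.finrank_prod, hK.finrank_eq, Module.finrank_fintype_fun_eq_card, hcard, two_mul]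

theorem pairEquiv_apply (hcard : Fintype.card ι = 2 * r) {v u : ι → F} (hv : v ≠ 0) (hu : u ∉ line K v) (a b : K) :
    pairEquiv hK hcard hv hu (a, b) = (a : Matrix ι ι F) *ᵥ v + (b : Matrix ι ι F) *ᵥ u := rfl

theorem exists_coords (hcard : Fintype.card ι = 2 * r) {v u : ι → F} (hv : v ≠ 0) (hu : u ∉ line K v) (x : ι → F) :
    ∃ a ∈ K, ∃ b ∈ K, x = a *ᵥ v + b *ᵥ u := by
  obtain ⟨⟨a, b⟩, rfl⟩ := (pairEquiv hK hcard hv hu).surjective x
  exact ⟨a, a.2, b, b.2, rfl⟩

/-- Two matrices commuting with the field and agreeing on two independent vectors agree. -/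
theorem ext_comm (hcard : Fintype.card ι = 2 * r) {v u : ι → F} (hv : v ≠ 0) (hu : u ∉ line K v)
    {X Y : Matrix ι ι F} (hX : ∀ k ∈ K, X * k = k * X) (hY : ∀ k ∈ K, Y * k = k * Y) (h1 : X *ᵥ v = Y *ᵥ v)
    (h2 : X *ᵥ u = Y *ᵥ u) : X = Y := by
  refine Matrix.toLin'.injective (LinearMap.ext fun x => ?_)
  obtain ⟨a, ha, b, hb, rfl⟩ := exists_coords hK hcard hv hu x
  simp only [Matrix.toLin'_apply, Matrix.mulVec_add, Matrix.mulVec_mulVec, hX a ha, hX b hb, hY a ha, hY b hb]
  simp only [← Matrix.mulVec_mulVec, h1, h2]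

/-- A matrix commuting with the field, with prescribed values on two independent vectors. -/
theorem exists_comm (hcard : Fintype.card ι = 2 * r) {v u : ι → F} (hv : v ≠ 0) (hu : u ∉ line K v)
    (a b c d : K) :
    ∃ X : Matrix ι ι F, (∀ k ∈ K, X * k = k * X) ∧
      ∀ α β : K, X *ᵥ ((α : Matrix ι ι F) *ᵥ v + (β : Matrix ι ι F) *ᵥ u) =
        ((α * a + β * c : K) : Matrix ι ι F) *ᵥ v + ((α * b + β * d : K) : Matrix ι ι F) *ᵥ u := by
  let ψ := pairEquiv hK hcard hv hu
  let M : (K × K) →ₗ[F] (K × K) :=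
    { toFun := fun p => (p.1 * a + p.2 * c, p.1 * b + p.2 * d)
      map_add' := fun p q => Prod.ext (by simp [add_mul]; abel) (by simp [add_mul]; abel)
      map_smul' := fun t p => Prod.ext (by simp [smul_add]) (by simp [smul_add]) }
  let L : (ι → F) →ₗ[F] (ι → F) := ψ.toLinearMap ∘ₗ M ∘ₗ ψ.symm.toLinearMap
  have hL : ∀ α β : K, L (ψ (α, β)) = ψ (α * a + β * c, α * b + β * d) := fun α β => by
    simp only [L, LinearMap.comp_apply, LinearEquiv.coe_coe, LinearEquiv.symm_apply_apply]; rfl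
  refine ⟨LinearMap.toMatrix' L, fun k hk => ?_, fun α β => ?_⟩
  · refine Matrix.toLin'.injective (LinearMap.ext fun x => ?_)
    obtain ⟨⟨α, β⟩, rfl⟩ := ψ.surjective x
    have hmul : ∀ p q : K, k *ᵥ ψ (p, q) = ψ (⟨k, hk⟩ * p, ⟨k, hk⟩ * q) := fun p q => by
      simp only [ψ, pairEquiv_apply, Matrix.mulVec_add, Matrix.mulVec_mulVec]; rfl
    rw [Matrix.toLin'_mul, Matrix.toLin'_mul, Matrix.toLin'_toMatrix']
    change L (Matrix.toLin' k (ψ (α, β))) = Matrix.toLin' k (L (ψ (α, β)))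
    rw [Matrix.toLin'_apply, hmul, hL, hL, Matrix.toLin'_apply, hmul, mul_assoc, mul_assoc, mul_assoc, mul_assoc,
      ← mul_add, ← mul_add]
  · rw [← Matrix.toLin'_apply, Matrix.toLin'_toMatrix']
    exact hL α β

omit hK

variable {Q : (ι → F) → F} (hQ : IsNondegenerateQuadraticForm Q)

local notation "f" => QuadraticMap.polar Q

/-- What the structure needs of the element completing the field to a quadratic algebra. -/
structure Completes (H : Subgroup (GL ι F)) (K : Subalgebra F (Matrix ι ι F)) (ω N : Matrix ι ι F) (ε : F) : Prop where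
  comm : ∀ k ∈ K, ω * k = k * ω
  adj : ω + formAdj (RingEquiv.refl F) (QuadraticMap.polar Q) ω = ε • 1
  mem : N ∈ K
  quadr : ω * ω = ε • ω - N
  moves : ∀ g ∈ H, ∃ μ ∈ K, ∃ ν ∈ K, (g : Matrix ι ι F) * ω * ((g⁻¹ : GL ι F) : Matrix ι ι F) = μ * ω + ν
  eps : (2 : F) = 0 ∧ ε = 1 ∨ (2 : F) ≠ 0 ∧ ε = 0
  quad : (2 : F) = 0 → ∀ x, Q x = QuadraticMap.polar Q (ω *ᵥ x) x
  nonzero : (2 : F) ≠ 0 → N ≠ 0

include hQ

theorem polar_symm (x y : ι → F) : f x y = f y x := QuadraticMap.polar_comm _ _ _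

theorem eq_of_polar {x y : ι → F} (h : ∀ z, f x z = f y z) : x = y := by
  by_contra hne
  obtain ⟨z, hz⟩ := (hQ.nondegenerate (x - y) (sub_ne_zero.mpr hne)).2
  apply hz
  have hb := hQ.polar_bilinear
  rw [sub_eq_add_neg, hb.add_left, ← neg_one_smul F y, hb.smul_left, h z]
  ring

theorem adj_commutes (hself : IsSelfAdjointFor f K) {X : Matrix ι ι F} (hX : ∀ k ∈ K, X * k = k * X) :
    ∀ k ∈ K, formAdj (RingEquiv.refl F) f X * k = k * formAdj (RingEquiv.refl F) f X := by
  intro k hk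
  have hf := reflexForm_of_quadratic hQ
  have h := congrArg (formAdj (RingEquiv.refl F) f) (hX k hk)
  rw [hf.adj_mul, hf.adj_mul, hf.isSelfAdjointFor_iff.mp hself k hk] at h
  exact h.symm

theorem conj_commutes (hK : IsFieldSubalgebra r K) {g : GL ι F} (hg : g ∈ subalgebraNormalizer K)
    {X : Matrix ι ι F} (hX : ∀ k ∈ K, X * k = k * X) :
    ∀ k ∈ K, (g : Matrix ι ι F) * X * ((g⁻¹ : GL ι F) : Matrix ι ι F) * k =
      k * ((g : Matrix ι ι F) * X * ((g⁻¹ : GL ι F) : Matrix ι ι F)) := by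
  intro k hk
  set k' := ((g⁻¹ : GL ι F) : Matrix ι ι F) * k * (g : Matrix ι ι F) with hk'def
  have e : (g : Matrix ι ι F) * k' * ((g⁻¹ : GL ι F) : Matrix ι ι F) = k := by
    rw [hk'def]
    simp only [← Matrix.mul_assoc, Units.mul_inv, Matrix.one_mul]
    rw [Matrix.mul_assoc, Units.mul_inv, Matrix.mul_one]
  have hk' : k' ∈ K := (hg k').mpr (by rw [e]; exact hk)
  conv_lhs => rw [← e]
  conv_rhs => rw [← e]
  have h1 : ∀ A B : Matrix ι ι F, (g : Matrix ι ι F) * A * ((g⁻¹ : GL ι F) : Matrix ι ι F) *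
      ((g : Matrix ι ι F) * B * ((g⁻¹ : GL ι F) : Matrix ι ι F)) =
      (g : Matrix ι ι F) * (A * B) * ((g⁻¹ : GL ι F) : Matrix ι ι F) := fun A B => by
    simp only [Matrix.mul_assoc]
    rw [← Matrix.mul_assoc ((g⁻¹ : GL ι F) : Matrix ι ι F) (g : Matrix ι ι F), Units.inv_mul, Matrix.one_mul]
  rw [h1, h1, hX k' hk']

section CharTwo

variable [Fintype F] (h2 : (2 : F) = 0) (hself : IsSelfAdjointFor (QuadraticMap.polar Q) K)
  (hcard : Fintype.card ι = 2 * r)

include h2 hK hself hcard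

theorem alternating_field [Nonempty ι] : ∀ k ∈ K, ∀ v, f (k *ᵥ v) v = 0 := by
  refine field_alternating ?_ hK hself
  refine ⟨hQ.polar_bilinear, fun u w => ?_, fun u => ?_, hQ.nondegenerate⟩
  · rw [QuadraticMap.polar_comm Q w u]
    linear_combination (f u w) * h2
  · rw [polar_self_eq hQ, h2, zero_mul]

theorem polarPerp_line [Nonempty ι] {v : ι → F} (hv : v ≠ 0) : polarPerp hQ (line K v) = line K v := by
  have halt := alternating_field hK hQ h2 hself hcard
  refine (Submodule.eq_of_le_of_finrank_le (fun x hx y hy => ?_) ?_).symm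
  · obtain ⟨a, ha, rfl⟩ := mem_line.mp hx
    obtain ⟨b, hb, rfl⟩ := mem_line.mp hy
    rw [polar_symm hQ, hself a ha, polar_symm hQ, Matrix.mulVec_mulVec]
    exact halt _ (K.mul_mem ha hb) v
  · have h1 := finrank_polarPerp hQ (line K v)
    rw [finrank_line hK hv] at h1 ⊢
    omega

/-- What commutes with the field and is alternating over it belongs to it. -/
theorem mem_of_alt [Nonempty ι] (hr : 0 < r) {X : Matrix ι ι F} (hX : ∀ k ∈ K, X * k = k * X)
    (h : ∀ k ∈ K, ∀ v, f (k *ᵥ (X *ᵥ v)) v = 0) : X ∈ K := by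
  have heig : ∀ v, v ≠ 0 → ∃ a ∈ K, a *ᵥ v = X *ᵥ v := fun v hv => by
    refine mem_line.mp (polarPerp_line hK hQ h2 hself hcard hv ▸ fun w hw => ?_)
    obtain ⟨k, hk, rfl⟩ := mem_line.mp hw
    rw [hself k hk, polar_symm hQ]
    exact h k hk v
  obtain ⟨i⟩ := ‹Nonempty ι›
  set v : ι → F := Pi.single i 1
  have hv : v ≠ 0 := by simp [v]
  obtain ⟨u, hu⟩ : ∃ u, u ∉ line K v := by
    by_contra hcon
    push Not at hcon
    have h1 := finrank_line hK hv
    rw [show line K v = ⊤ from eq_top_iff.mpr fun x _ => hcon x, finrank_top, Module.finrank_fintype_fun_eq_card,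
      hcard] at h1
    omega
  have hu0 : u ≠ 0 := fun e => hu (e ▸ Submodule.zero_mem _)
  obtain ⟨a, ha, hav⟩ := heig v hv
  obtain ⟨b, hb, hbu⟩ := heig u hu0
  obtain ⟨c, hc, hcw⟩ := heig (v + u) (fun e => hu (by
    rw [eq_neg_of_add_eq_zero_right e]; exact Submodule.neg_mem _ (mem_line.mpr ⟨1, K.one_mem, Matrix.one_mulVec v⟩)))
  have h3 : pairEquiv hK hcard hv hu (⟨c, hc⟩, ⟨c, hc⟩) = pairEquiv hK hcard hv hu (⟨a, ha⟩, ⟨b, hb⟩) := by
    rw [pairEquiv_apply, pairEquiv_apply, ← Matrix.mulVec_add, hcw, Matrix.mulVec_add, hav, hbu]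
  have h4 := (pairEquiv hK hcard hv hu).injective h3
  have hac : c = a := congrArg (fun p : K × K => (p.1 : Matrix ι ι F)) h4
  have hcb : c = b := congrArg (fun p : K × K => (p.2 : Matrix ι ι F)) h4
  have : X = a := ext_comm hK hcard hv hu hX (fun k hk => hK.comm a ha k hk) hav.symm (by rw [← hbu, ← hcb, hac])
  exact this ▸ ha

theorem exists_completes_two [Nonempty ι] (hr : 0 < r) {H : Subgroup (GL ι F)} (hI : H ≤ isometryGroup F Q)
    (hle : H ≤ subalgebraNormalizer K) : ∃ ω N, Completes (Q := Q) H K ω N 1 := by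
  classical
  have hb := hQ.polar_bilinear
  have hf := reflexForm_of_quadratic hQ
  haveI : CharP F 2 := CharTwo.of_one_ne_zero_of_two_eq_zero one_ne_zero h2
  have halt := alternating_field hK hQ h2 hself hcard
  haveI : Finite K := Finite.of_injective _ Subtype.val_injective
  have hKadd : ∀ a : K, a + a = 0 := fun a => Subtype.ext (by
    ext i j
    simp only [AddMemClass.coe_add, Matrix.add_apply, ZeroMemClass.coe_zero, Matrix.zero_apply]
    rw [← two_mul, h2, zero_mul])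
  have hsq : Function.Injective fun l : K => l * l := fun a b hab => by
    have e : (a + b) * (a + b) = 0 := by
      have hba : b * a = a * b := Subtype.ext (hK.comm b b.2 a a.2)
      have hab' : a * a = b * b := hab
      rw [add_mul, mul_add, mul_add, hba, hab', show b * b + a * b + (a * b + b * b) =
        (b * b + b * b) + (a * b + a * b) by abel, hKadd, hKadd, add_zero]
    have h0 : a + b = 0 := Subtype.ext ((fieldSubalgebra_mul_eq_zero hK (a + b).2 (congrArg Subtype.val e)).elim id id)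
    exact add_right_cancel (h0.trans (hKadd b).symm)
  let sq : K ≃ K := Equiv.ofBijective _ ⟨hsq, Finite.injective_iff_surjective.mp hsq⟩
  have hsqa : ∀ l, sq l = l * l := fun l => rfl
  have hQadd : ∀ x y, Q (x + y) = Q x + Q y + f x y := fun x y => by simp only [QuadraticMap.polar]; ring
  have hline : ∀ v : ι → F, ∀ a b : K, f ((a : Matrix ι ι F) *ᵥ v) ((b : Matrix ι ι F) *ᵥ v) = 0 := fun v a b => by
    rw [← hself _ b.2, Matrix.mulVec_mulVec]
    exact halt _ (K.mul_mem b.2 a.2) v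
  -- the form on a line as a functional
  have hθ : ∀ v : ι → F, ∃ θ : K →ₗ[F] F, ∀ l : K, θ (l * l) = Q ((l : Matrix ι ι F) *ᵥ v) := by
    intro v
    refine ⟨{ toFun := fun k => Q ((sq.symm k : K) *ᵥ v), map_add' := fun a b => ?_, map_smul' := fun c a => ?_ },
      fun l => ?_⟩
    · have e : sq.symm (a + b) = sq.symm a + sq.symm b := by
        rw [Equiv.symm_apply_eq, hsqa]
        have h1 : ∀ k, sq.symm k * sq.symm k = k := fun k => by rw [← hsqa, sq.apply_symm_apply]
        have hcm : sq.symm b * sq.symm a = sq.symm a * sq.symm b :=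
          Subtype.ext (hK.comm _ (sq.symm b).2 _ (sq.symm a).2)
        rw [add_mul, mul_add, mul_add, h1, h1, hcm, show a + sq.symm a * sq.symm b + (sq.symm a * sq.symm b + b) =
          a + b + (sq.symm a * sq.symm b + sq.symm a * sq.symm b) by abel, hKadd, add_zero]
      change Q (_ *ᵥ v) = Q (_ *ᵥ v) + Q (_ *ᵥ v)
      rw [e, AddMemClass.coe_add, Matrix.add_mulVec, hQadd, hline, add_zero]
    · obtain ⟨s, hs⟩ := Cfsg.Agent.Small.QuadBasis.exists_sq h2 c
      have e : sq.symm (c • a) = s • sq.symm a := by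
        rw [Equiv.symm_apply_eq, hsqa, smul_mul_smul_comm, ← hsqa, sq.apply_symm_apply, hs]
      change Q (_ *ᵥ v) = c * Q (_ *ᵥ v)
      rw [e, SetLike.val_smul, Matrix.smul_mulVec, hQ.smul, pow_two, hs]
    · change Q ((sq.symm (l * l) : K) *ᵥ v) = _
      rw [← hsqa, sq.symm_apply_apply]
  obtain ⟨i⟩ := ‹Nonempty ι›
  set v : ι → F := Pi.single i 1
  have hv : v ≠ 0 := by simp [v]
  obtain ⟨u, hu⟩ : ∃ u, u ∉ line K v := by
    by_contra hcon
    push Not at hcon
    have h1 := finrank_line hK hv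
    rw [show line K v = ⊤ from eq_top_iff.mpr fun x _ => hcon x, finrank_top, Module.finrank_fintype_fun_eq_card,
      hcard] at h1
    omega
  -- the pairing of the two lines is perfect
  let Φ : K →ₗ[F] Module.Dual F K := LinearMap.mk₂ F (fun b k => f ((k * b : K) *ᵥ u) v)
    (fun b b' k => by rw [mul_add, AddMemClass.coe_add, Matrix.add_mulVec, hb.add_left])
    (fun c b k => by rw [mul_smul_comm, SetLike.val_smul, Matrix.smul_mulVec, hb.smul_left]; rfl)
    (fun b k k' => by rw [add_mul, AddMemClass.coe_add, Matrix.add_mulVec, hb.add_left])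
    (fun c b k => by rw [smul_mul_assoc, SetLike.val_smul, Matrix.smul_mulVec, hb.smul_left]; rfl)
  have hΦ : Function.Injective Φ := by
    rw [injective_iff_map_eq_zero]
    intro b hb0
    by_contra hne
    obtain ⟨y, hy, hby⟩ := hK.inv b b.2 fun e => hne (Subtype.ext e)
    apply hu
    rw [← polarPerp_line hK hQ h2 hself hcard hv]
    intro w hw
    obtain ⟨k, hk, rfl⟩ := mem_line.mp hw
    rw [hself k hk, polar_symm hQ]
    have h1 := congrArg (fun φ : Module.Dual F K => φ (⟨k, hk⟩ * ⟨y, hy⟩)) hb0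
    simp only [Φ, LinearMap.mk₂_apply, LinearMap.zero_apply, MulMemClass.coe_mul] at h1
    rwa [Matrix.mul_assoc, hK.comm y hy b b.2, hby, Matrix.mul_one] at h1
  have hΦs : Function.Surjective Φ :=
    (LinearMap.injective_iff_surjective_of_finrank_eq_finrank Subspace.dual_finrank_eq.symm).mp hΦ
  obtain ⟨θv, hθv⟩ := hθ v
  obtain ⟨θu, hθu⟩ := hθ u
  obtain ⟨b, hbv⟩ := hΦs θv
  obtain ⟨c, hcu⟩ := hΦs θu
  have hpb : ∀ k : K, f ((k * b : K) *ᵥ u) v = θv k := fun k => by rw [← hbv]; rfl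
  have hpc : ∀ k : K, f ((k * c : K) *ᵥ u) v = θu k := fun k => by rw [← hcu]; rfl
  obtain ⟨ω, hωK, hω⟩ := exists_comm hK hcard hv hu 1 b c 0
  have hQω : ∀ x, Q x = f (ω *ᵥ x) x := by
    intro x
    obtain ⟨a, ha, d, hd, rfl⟩ := exists_coords hK hcard hv hu x
    obtain ⟨α, rfl⟩ : ∃ α : K, (α : Matrix ι ι F) = a := ⟨⟨a, ha⟩, rfl⟩
    obtain ⟨β, rfl⟩ : ∃ β : K, (β : Matrix ι ι F) = d := ⟨⟨d, hd⟩, rfl⟩
    rw [hω, hQadd, hb.add_left, hb.add_right, hb.add_right, hline, mul_one, mul_zero, add_zero, ← hθv, ← hθu, ← hpb,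
      ← hpc, hline]
    simp only [AddMemClass.coe_add, MulMemClass.coe_mul, Matrix.add_mulVec, hb.add_left]
    have key : ∀ p q : K, ∀ y z, f ((p : Matrix ι ι F) *ᵥ y) ((q : Matrix ι ι F) *ᵥ z) =
        f ((q * p : K) *ᵥ y) z := fun p q y z => by
      rw [← hself _ q.2, Matrix.mulVec_mulVec]; rfl
    have e1 : f ((α : Matrix ι ι F) *ᵥ v) ((β : Matrix ι ι F) *ᵥ u) =
        f ((β * α : K) *ᵥ v) u := key α β v u
    have e2 : f (((β : Matrix ι ι F) * (c : Matrix ι ι F)) *ᵥ v) ((β : Matrix ι ι F) *ᵥ u) =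
        f (((β * β * c : K)) *ᵥ u) v := by
      rw [polar_symm hQ (((β * β * c : K) : Matrix ι ι F) *ᵥ u) v, ← hself _ (β * β * c).2,
        show ((β : Matrix ι ι F) * (c : Matrix ι ι F)) = ((β * c : K) : Matrix ι ι F) from rfl, key, mul_assoc]
    have e3 : f (((α : Matrix ι ι F) * (b : Matrix ι ι F)) *ᵥ u) ((α : Matrix ι ι F) *ᵥ v) =
        f (((α * α * b : K)) *ᵥ u) v := by
      rw [show ((α : Matrix ι ι F) * (b : Matrix ι ι F)) = ((α * b : K) : Matrix ι ι F) from rfl, key, mul_assoc]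
    rw [e1, e2, e3]
    simp only [MulMemClass.coe_mul]
    ring
  have hadj : ω + formAdj (RingEquiv.refl F) f ω = (1 : F) • 1 := by
    rw [one_smul]
    refine Matrix.toLin'.injective (LinearMap.ext fun x => eq_of_polar hQ fun z => ?_)
    simp only [Matrix.toLin'_apply, Matrix.add_mulVec, Matrix.one_mulVec, hb.add_left]
    have e : f (formAdj (RingEquiv.refl F) f ω *ᵥ x) z = f (ω *ᵥ z) x := by
      rw [polar_symm hQ, ← hf.adj_spec]
    have hp : f x z = Q (x + z) - Q x - Q z := rfl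
    rw [e, hp, hQω (x + z), hQω x, hQω z, Matrix.mulVec_add, hb.add_left, hb.add_right, hb.add_right]
    ring
  set τ := formAdj (RingEquiv.refl F) f ω with hτ
  have hτK : ∀ k ∈ K, τ * k = k * τ := adj_commutes hQ hself hωK
  have hτeq : τ = (1 : F) • 1 - ω := eq_sub_of_add_eq' hadj
  refine ⟨ω, ω * τ, hωK, hadj, ?_, ?_, fun g hg => ?_, Or.inl ⟨h2, rfl⟩, fun _ => hQω, fun h => absurd h2 h⟩
  · refine mem_of_alt hK hQ h2 hself hcard hr (fun k hk => by
      rw [Matrix.mul_assoc, hτK k hk, ← Matrix.mul_assoc, hωK k hk, Matrix.mul_assoc]) fun k hk x => ?_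
    rw [Matrix.mulVec_mulVec, ← Matrix.mul_assoc, ← hωK k hk, Matrix.mul_assoc, ← Matrix.mulVec_mulVec,
      hf.adj_spec, ← Matrix.mulVec_mulVec]
    exact halt k hk _
  · rw [hτeq, Matrix.mul_sub, Matrix.mul_smul, Matrix.mul_one]
    abel
  · set ω' := (g : Matrix ι ι F) * ω * ((g⁻¹ : GL ι F) : Matrix ι ι F) with hω'
    have hω'Q : ∀ x, f (ω' *ᵥ x) x = Q x := fun x => by
      have hiso := fun y => mem_isometryGroup_iff.mp (hI hg) y
      have hpres : ∀ y z, f ((g : Matrix ι ι F) *ᵥ y) ((g : Matrix ι ι F) *ᵥ z) = f y z := fun y z => by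
        simp only [QuadraticMap.polar, ← Matrix.mulVec_add, hiso]
      set y := ((g⁻¹ : GL ι F) : Matrix ι ι F) *ᵥ x
      have hy : (g : Matrix ι ι F) *ᵥ y = x := gl_mulVec_inv_cancel g x
      rw [← hy, hω', ← Matrix.mulVec_mulVec, ← Matrix.mulVec_mulVec, gl_inv_mulVec_cancel, hpres, hiso, hQω y]
    have hD : ω' - ω ∈ K := by
      have hω'K := conj_commutes hQ hK (hle hg) hωK
      refine mem_of_alt hK hQ h2 hself hcard hr (fun k hk => by
        rw [Matrix.sub_mul, Matrix.mul_sub, hωK k hk, hω'K k hk]) fun k hk x => ?_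
      obtain ⟨l, hl⟩ := (Finite.injective_iff_surjective.mp hsq) ⟨k, hk⟩
      have hl' : k = (l : Matrix ι ι F) * l := (congrArg Subtype.val hl).symm
      rw [hl', ← Matrix.mulVec_mulVec, hself _ l.2, Matrix.mulVec_mulVec, Matrix.mul_sub, ← hωK _ l.2, ← hω'K _ l.2,
        ← Matrix.sub_mul, ← Matrix.mulVec_mulVec]
      set w := (l : Matrix ι ι F) *ᵥ x
      rw [Matrix.sub_mulVec, sub_eq_add_neg, hb.add_left, ← neg_one_smul F (ω *ᵥ w), hb.smul_left, hω'Q, ← hQω]
      ring
    exact ⟨1, K.one_mem, _, hD, by rw [Matrix.one_mul]; abel⟩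

end CharTwo

section CharOdd

variable [Fintype F] (h2 : (2 : F) ≠ 0) (hself : IsSelfAdjointFor (QuadraticMap.polar Q) K)
  (hcard : Fintype.card ι = 2 * r)

include h2 hK hself hcard

theorem exists_completes_odd [Nonempty ι] (hr : 0 < r) {H : Subgroup (GL ι F)} (hI : H ≤ isometryGroup F Q)
    (hle : H ≤ subalgebraNormalizer K) : ∃ ω N, Completes (Q := Q) H K ω N 0 := by
  classical
  have hb := hQ.polar_bilinear
  have hf := reflexForm_of_quadratic hQ
  set τ := formAdj (RingEquiv.refl F) f with hτ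
  obtain ⟨v, hQv⟩ : ∃ v, Q v ≠ 0 := by
    by_contra hcon
    push Not at hcon
    obtain ⟨i⟩ := ‹Nonempty ι›
    obtain ⟨z, hz⟩ := (hQ.nondegenerate (Pi.single i 1) (by simp)).1
    exact hz (by simp only [QuadraticMap.polar, hcon]; ring)
  have hv : v ≠ 0 := fun e => hQv (by rw [e]; simpa using hQ.smul 0 0)
  have hfv : f v v ≠ 0 := by rw [polar_self_eq hQ]; exact mul_ne_zero h2 hQv
  have hnd : ∀ x ∈ line K v, x ∈ polarPerp hQ (line K v) → x = 0 := by
    intro x hx hp
    obtain ⟨a, ha, rfl⟩ := mem_line.mp hx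
    by_contra hne
    obtain ⟨y, hy, hay⟩ := hK.inv a ha fun e => hne (by rw [e, Matrix.zero_mulVec])
    apply hfv
    have := hp (y *ᵥ v) (mem_line.mpr ⟨y, hy, rfl⟩)
    rw [polar_symm hQ, ← hself y hy, Matrix.mulVec_mulVec, hK.comm y hy a ha, hay, Matrix.one_mulVec] at this
    exact this
  obtain ⟨u, hup, hu0⟩ := Submodule.exists_mem_ne_zero_of_ne_bot (p := polarPerp hQ (line K v)) fun e => by
    have h1 := finrank_polarPerp hQ (line K v)
    rw [e, finrank_bot, finrank_line hK hv] at h1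
    omega
  have hu : u ∉ line K v := fun h => hu0 (hnd u h hup)
  have hperp : polarPerp hQ (line K v) = line K u := by
    refine (Submodule.eq_of_le_of_finrank_le (fun x hx w hw => ?_) ?_).symm
    · obtain ⟨a, ha, rfl⟩ := mem_line.mp hx
      obtain ⟨b, hb', rfl⟩ := mem_line.mp hw
      rw [← hself a ha, Matrix.mulVec_mulVec]
      exact hup _ (mem_line.mpr ⟨a * b, K.mul_mem ha hb', rfl⟩)
    · have h1 := finrank_polarPerp hQ (line K v)
      rw [finrank_line hK hv] at h1
      rw [finrank_line hK hu0]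
      omega
  have hperp' : polarPerp hQ (line K u) = line K v := by rw [← hperp, polarPerp_polarPerp]
  -- a skew element sends a vector to the orthogonal of its line
  have hskew : ∀ X : Matrix ι ι F, (∀ k ∈ K, X * k = k * X) → τ X = -X → ∀ w, X *ᵥ w ∈ polarPerp hQ (line K w) := by
    intro X hX hXs w z hz
    obtain ⟨k, hk, rfl⟩ := mem_line.mp hz
    have e1 : f (X *ᵥ (k *ᵥ w)) w = -f (k *ᵥ w) (X *ᵥ w) := by
      rw [hf.adj_spec, ← hτ, hXs, Matrix.neg_mulVec, ← neg_one_smul F (X *ᵥ w), hb.smul_right, neg_one_mul]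
    have e2 : f (X *ᵥ (k *ᵥ w)) w = f (k *ᵥ w) (X *ᵥ w) := by
      rw [Matrix.mulVec_mulVec, hX k hk, ← Matrix.mulVec_mulVec, hself k hk, polar_symm hQ]
    exact (mul_eq_zero.mp (show (2 : F) * f (k *ᵥ w) (X *ᵥ w) = 0 by linear_combination e1 - e2)).resolve_left h2
  have hkill : ∀ X : Matrix ι ι F, (∀ k ∈ K, X * k = k * X) → τ X = -X → X *ᵥ v = 0 → X = 0 := by
    intro X hX hXs hXv
    refine ext_comm hK hcard hv hu hX (fun k _ => by rw [Matrix.zero_mul, Matrix.mul_zero]) (by rw [hXv, Matrix.zero_mulVec]) ?_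
    rw [Matrix.zero_mulVec]
    refine eq_of_polar hQ fun z => ?_
    obtain ⟨a, ha, b, hb', rfl⟩ := exists_coords hK hcard hv hu z
    have h1 : f (X *ᵥ u) (a *ᵥ v) = 0 := by
      rw [hf.adj_spec, ← hτ, hXs, Matrix.neg_mulVec, Matrix.mulVec_mulVec, hX a ha, ← Matrix.mulVec_mulVec, hXv,
        Matrix.mulVec_zero, neg_zero, hf.zero_right]
    have h3 : f (X *ᵥ u) (b *ᵥ u) = 0 := by
      rw [polar_symm hQ]; exact hskew X hX hXs u _ (mem_line.mpr ⟨b, hb', rfl⟩)
    rw [hb.add_right, h1, h3, add_zero, hf.zero_left]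
  obtain ⟨ω, hωK, hωs, hω0⟩ : ∃ ω : Matrix ι ι F, (∀ k ∈ K, ω * k = k * ω) ∧ τ ω = -ω ∧ ω ≠ 0 := by
    by_contra hcon
    push Not at hcon
    have hfix : ∀ X : Matrix ι ι F, (∀ k ∈ K, X * k = k * X) → τ X = X := fun X hX => by
      have h0 := hcon (X - τ X) (fun k hk => by
        rw [Matrix.sub_mul, Matrix.mul_sub, hX k hk]; exact congrArg _ (adj_commutes hQ hself hX k hk)) (by
        rw [neg_sub, sub_eq_add_neg, hτ, hf.adj_add, ← neg_one_smul F (formAdj _ _ X), hf.adj_smul, hf.adj_adj,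
          RingEquiv.refl_apply, neg_one_smul, ← sub_eq_add_neg])
      exact (sub_eq_zero.mp h0).symm
    obtain ⟨X₁, hX₁, hX₁v⟩ := exists_comm hK hcard hv hu 1 0 0 0
    obtain ⟨X₂, hX₂, hX₂v⟩ := exists_comm hK hcard hv hu 0 1 0 0
    have e1 : X₁ *ᵥ v = v ∧ X₁ *ᵥ u = 0 := ⟨by simpa using hX₁v 1 0, by simpa using hX₁v 0 1⟩
    have e2 : X₂ *ᵥ v = u := by simpa using hX₂v 1 0
    have h12 : τ (X₁ * X₂) = X₁ * X₂ := hfix _ fun k hk => by
      rw [Matrix.mul_assoc, hX₂ k hk, ← Matrix.mul_assoc, hX₁ k hk, Matrix.mul_assoc]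
    rw [hτ, hf.adj_mul, ← hτ, hfix X₁ hX₁, hfix X₂ hX₂] at h12
    have h := congrArg (· *ᵥ v) h12
    simp only [← Matrix.mulVec_mulVec, e1.1, e2, e1.2] at h
    exact hu0 h
  obtain ⟨a, ha, hav⟩ := mem_line.mp (hperp ▸ hskew ω hωK hωs v)
  obtain ⟨b, hb', hbu⟩ := mem_line.mp (hperp' ▸ hskew ω hωK hωs u)
  have ha0 : a ≠ 0 := fun e => hω0 (hkill ω hωK hωs (by rw [← hav, e, Matrix.zero_mulVec]))
  obtain ⟨ai, hai, haai⟩ := hK.inv a ha ha0
  have hsq : ω * ω = a * b := by
    refine ext_comm hK hcard hv hu (fun k hk => by rw [Matrix.mul_assoc, hωK k hk, ← Matrix.mul_assoc, hωK k hk, Matrix.mul_assoc])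
      (fun k hk => by rw [Matrix.mul_assoc, hK.comm b hb' k hk, ← Matrix.mul_assoc, hK.comm a ha k hk, Matrix.mul_assoc]) ?_ ?_
    · rw [← Matrix.mulVec_mulVec, ← hav, Matrix.mulVec_mulVec, hωK a ha, ← Matrix.mulVec_mulVec, ← hbu, Matrix.mulVec_mulVec]
    · rw [← Matrix.mulVec_mulVec, ← hbu, Matrix.mulVec_mulVec, hωK b hb', ← Matrix.mulVec_mulVec, ← hav, Matrix.mulVec_mulVec,
        hK.comm b hb' a ha]
  refine ⟨ω, -(a * b), hωK, by rw [← hτ, hωs, add_neg_cancel, zero_smul], K.neg_mem (K.mul_mem ha hb'),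
    by rw [zero_smul, hsq]; abel, fun g hg => ?_, Or.inr ⟨h2, rfl⟩, fun h => absurd h h2, fun _ h0 => ?_⟩
  · set ω' := (g : Matrix ι ι F) * ω * ((g⁻¹ : GL ι F) : Matrix ι ι F) with hω'
    have hω'K := conj_commutes hQ hK (hle hg) hωK
    have hω's : τ ω' = -ω' := by
      rw [hω', hτ, hf.adj_conj (fun x y => by
        simp only [QuadraticMap.polar, ← Matrix.mulVec_add, mem_isometryGroup_iff.mp (hI hg)]), ← hτ, hωs,
        Matrix.mul_neg, Matrix.neg_mul]
    obtain ⟨a', ha', hav'⟩ := mem_line.mp (hperp ▸ hskew ω' hω'K hω's v)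
    set μ := a' * ai with hμ
    have hμK : μ ∈ K := K.mul_mem ha' hai
    have h0 : μ * ω - ω' = 0 := by
      refine hkill _ (fun k hk => ?_) ?_ ?_
      · rw [Matrix.sub_mul, Matrix.mul_sub, hω'K k hk, Matrix.mul_assoc, hωK k hk, ← Matrix.mul_assoc,
          hK.comm μ hμK k hk, Matrix.mul_assoc]
      · rw [sub_eq_add_neg, hτ, hf.adj_add, hf.adj_mul, ← neg_one_smul F ω', hf.adj_smul, ← hτ,
          hωs, hω's, show τ μ = μ from hf.isSelfAdjointFor_iff.mp hself μ hμK, RingEquiv.refl_apply, Matrix.neg_mul, hωK μ hμK,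
          neg_one_smul, neg_one_smul]
        abel
      · rw [Matrix.sub_mulVec, ← Matrix.mulVec_mulVec, ← hav, ← hav', Matrix.mulVec_mulVec, hμ, Matrix.mul_assoc,
          hK.comm ai hai a ha, haai, Matrix.mul_one, sub_self]
    exact ⟨μ, hμK, 0, K.zero_mem, by rw [add_zero]; exact (sub_eq_zero.mp h0).symm⟩
  · have hab : a * b = 0 := neg_eq_zero.mp h0
    have hb0 : b = 0 := (fieldSubalgebra_mul_eq_zero hK ha hab).resolve_left ha0
    rw [hb0, Matrix.zero_mulVec] at hbu
    refine hω0 (hkill ω hωK hωs (eq_of_polar hQ fun z => ?_))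
    obtain ⟨c, hc, d, hd, rfl⟩ := exists_coords hK hcard hv hu z
    have h1 : f (ω *ᵥ v) (d *ᵥ u) = 0 := by
      rw [hf.adj_spec, ← hτ, hωs, Matrix.neg_mulVec, Matrix.mulVec_mulVec, hωK d hd, ← Matrix.mulVec_mulVec, ← hbu,
        Matrix.mulVec_zero, neg_zero, hf.zero_right]
    have h3 : f (ω *ᵥ v) (c *ᵥ v) = 0 := by
      rw [polar_symm hQ]; exact hskew ω hωK hωs v _ (mem_line.mpr ⟨c, hc, rfl⟩)
    rw [hb.add_right, h1, h3, add_zero, hf.zero_left]

end CharOdd

/-- A field of odd degree in dimension twice that degree. -/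
theorem reduce [Fintype F] {r : ℕ} (hr : r.Prime) (hodd : Odd r) (hcard : Fintype.card ι = 2 * r)
    {H : Subgroup (GL ι F)} (hI : H ≤ isometryGroup F Q) {K : Subalgebra F (Matrix ι ι F)}
    (hK : IsFieldSubalgebra r K) (hadj : IsAdjointClosedFor f K) (hle : H ≤ subalgebraNormalizer K) :
    (∃ D : Fin 2 → Submodule F (ι → F), IsMDecomposition r D ∧ (∀ i, IsTotallySingularQuad Q (D i)) ∧
      H ≤ decompositionStabilizer D) ∨
    ∃ K₂ : Subalgebra F (Matrix ι ι F), IsFieldSubalgebra 2 K₂ ∧ IsAdjointClosedFor f K₂ ∧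
      ¬ IsSelfAdjointFor f K₂ ∧ H ≤ subalgebraNormalizer K₂ := by
  classical
  have hrpos := hr.pos
  haveI : Nonempty ι := Fintype.card_pos_iff.mp (by omega)
  have hb := hQ.polar_bilinear
  have hf := reflexForm_of_quadratic hQ
  have hself : IsSelfAdjointFor f K := by
    by_contra hns
    obtain ⟨j, hj⟩ := hodd
    have := hf.field_degree_two (fun _ => rfl) hr hK hadj hns
    omega
  obtain ⟨ω, N, ε, hC⟩ : ∃ ω N ε, Completes (Q := Q) H K ω N ε := by
    by_cases h2 : (2 : F) = 0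
    · obtain ⟨ω, N, h⟩ := exists_completes_two hK hQ h2 hself hcard hrpos hI hle
      exact ⟨ω, N, 1, h⟩
    · obtain ⟨ω, N, h⟩ := exists_completes_odd hK hQ h2 hself hcard hrpos hI hle
      exact ⟨ω, N, 0, h⟩
  set τ := formAdj (RingEquiv.refl F) f with hτ
  have hτω : τ ω = ε • 1 - ω := eq_sub_of_add_eq' hC.adj
  have hsA := hf.isSelfAdjointFor_iff.mp hself
  have hεK : (ε • 1 : Matrix ι ι F) ∈ K := K.smul_mem K.one_mem ε
  have hωnK : ω ∉ K := fun h => by
    have e : (2 : F) • ω = ε • 1 := by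
      rw [← hC.adj, hsA ω h, two_smul]
    rcases hC.eps with ⟨h2, hε⟩ | ⟨h2, hε⟩
    · rw [h2, zero_smul, hε, one_smul] at e
      exact one_ne_zero e.symm
    · rw [hε, zero_smul] at e
      have hω0 : ω = 0 := (smul_eq_zero.mp e).resolve_left h2
      have := hC.quadr
      rw [hω0, Matrix.mul_zero, smul_zero, zero_sub, eq_comm, neg_eq_zero] at this
      exact hC.nonzero h2 this
  -- the quadratic polynomial in the field
  by_cases hroot : ∃ s ∈ K, s * s - ε • s + N = 0
  · left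
    obtain ⟨s, hs, hs0⟩ := hroot
    set t := ε • 1 - s with ht
    have htK : t ∈ K := K.sub_mem hεK hs
    set d := s - t with hd
    have hdK : d ∈ K := K.sub_mem hs htK
    have hd0 : d ≠ 0 := fun h => by
      rw [hd, ht] at h
      rcases hC.eps with ⟨h2, hε⟩ | ⟨h2, hε⟩
      · rw [hε, one_smul, sub_sub_eq_add_sub, ← two_smul F s, h2, zero_smul, zero_sub, neg_eq_zero] at h
        exact one_ne_zero h
      · rw [hε, zero_smul, zero_sub, sub_neg_eq_add, ← two_smul F s] at h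
        have hs' : s = 0 := (smul_eq_zero.mp h).resolve_left h2
        rw [hs', Matrix.mul_zero, smul_zero, sub_zero, zero_add] at hs0
        exact hC.nonzero h2 hs0
    obtain ⟨di, hdi, hddi⟩ := hK.inv d hdK hd0
    have hprod : ∀ a ∈ K, (ω - a) * (ω - (ε • 1 - a)) = -(a * a - ε • a + N) := fun a ha => by
      rw [Matrix.sub_mul, Matrix.mul_sub, Matrix.mul_sub, hC.quadr, Matrix.mul_sub, Matrix.mul_sub, Matrix.mul_smul,
        Matrix.mul_smul, Matrix.mul_one, Matrix.mul_one, hC.comm a ha]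
      abel
    let D : Fin 2 → Submodule F (ι → F) :=
      ![LinearMap.ker (Matrix.toLin' (ω - s)), LinearMap.ker (Matrix.toLin' (ω - t))]
    have m0 : ∀ x, x ∈ D 0 ↔ ω *ᵥ x = s *ᵥ x := fun x => by simp [D, Matrix.sub_mulVec, sub_eq_zero]
    have m1 : ∀ x, x ∈ D 1 ↔ ω *ᵥ x = t *ᵥ x := fun x => by simp [D, Matrix.sub_mulVec, sub_eq_zero]
    have hts0 : t * t - ε • t + N = 0 := by
      rw [← hs0, ht, Matrix.sub_mul, Matrix.mul_sub, Matrix.mul_sub, Matrix.smul_mul, Matrix.one_mul, Matrix.smul_mul,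
        Matrix.one_mul, Matrix.mul_smul, Matrix.mul_one, smul_sub, smul_smul]
      abel
    have htt : ε • 1 - t = s := by rw [ht]; abel
    have hsum : ∀ x, ∃ a ∈ D 0, ∃ b ∈ D 1, x = a + b := by
      intro x
      refine ⟨di *ᵥ ((ω - t) *ᵥ x), (m0 _).mpr ?_, -(di *ᵥ ((ω - s) *ᵥ x)), (m1 _).mpr ?_, ?_⟩
      · have h := hprod s hs
        rw [← ht, hs0, neg_zero] at h
        have e0 : ω * di - s * di = di * (ω - s) := by rw [hC.comm di hdi, ← hK.comm di hdi s hs, Matrix.mul_sub]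
        rw [← sub_eq_zero, Matrix.mulVec_mulVec, Matrix.mulVec_mulVec, Matrix.mulVec_mulVec, Matrix.mulVec_mulVec,
          ← Matrix.sub_mulVec, ← Matrix.sub_mul, e0, Matrix.mul_assoc, h, Matrix.mul_zero, Matrix.zero_mulVec]
      · have h := hprod t htK
        rw [htt, hts0, neg_zero] at h
        have e0 : ω * di - t * di = di * (ω - t) := by rw [hC.comm di hdi, ← hK.comm di hdi t htK, ← Matrix.mul_sub]
        rw [Matrix.mulVec_neg, Matrix.mulVec_neg, neg_inj, ← sub_eq_zero, Matrix.mulVec_mulVec, Matrix.mulVec_mulVec,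
          Matrix.mulVec_mulVec, Matrix.mulVec_mulVec, ← Matrix.sub_mulVec,
          ← Matrix.sub_mul, e0, Matrix.mul_assoc, h, Matrix.mul_zero, Matrix.zero_mulVec]
      · rw [← sub_eq_add_neg, ← Matrix.mulVec_sub, ← Matrix.sub_mulVec, Matrix.mulVec_mulVec,
          show ω - t - (ω - s) = d by rw [hd]; abel, hK.comm di hdi d hdK, hddi, Matrix.one_mulVec]
    have hiso : ∀ a b : Matrix ι ι F, a ∈ K → b ∈ K → ε • 1 - a = b → a - b ≠ 0 →
        ∀ x y, ω *ᵥ x = a *ᵥ x → ω *ᵥ y = a *ᵥ y → f x y = 0 := by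
      intro a b ha hb' hab hne x y hx hy
      obtain ⟨c, hc, hcc⟩ := hK.inv (a - b) (K.sub_mem ha hb') hne
      have hx' : ω *ᵥ (c *ᵥ x) = a *ᵥ (c *ᵥ x) := by
        rw [Matrix.mulVec_mulVec, hC.comm c hc, ← Matrix.mulVec_mulVec, hx, Matrix.mulVec_mulVec, Matrix.mulVec_mulVec,
          hK.comm c hc a ha]
      set z := c *ᵥ x
      have e1 : f (a *ᵥ z) y = f (b *ᵥ z) y := by
        conv_lhs => rw [← hx', hf.adj_spec, ← hτ, hτω]
        rw [hself b hb', Matrix.sub_mulVec, hy, ← Matrix.sub_mulVec, hab]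
      have : f ((a - b) *ᵥ z) y = 0 := by
        rw [Matrix.sub_mulVec, sub_eq_add_neg, hb.add_left, ← neg_one_smul F (b *ᵥ z), hb.smul_left, e1]; ring
      rwa [Matrix.mulVec_mulVec, hcc, Matrix.one_mulVec] at this
    have hqs : ∀ a, a ∈ K → ε • 1 - a - a ≠ 0 → ∀ x, ω *ᵥ x = a *ᵥ x → Q x = 0 := by
      intro a ha hne x hx
      by_cases h2 : (2 : F) = 0
      · rw [hC.quad h2 x, hx]
        exact alternating_field hK hQ h2 hself hcard a ha x
      · have := hiso a _ ha (K.sub_mem hεK ha) rfl (by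
          rw [← neg_sub]; exact neg_ne_zero.mpr hne) x x hx hx
        rw [polar_self_eq hQ] at this
        exact (mul_eq_zero.mp this).resolve_left h2
    have hts : ∀ i, IsTotallySingularQuad Q (D i) := by
      intro i w hw
      rcases (show i = 0 ∨ i = 1 by omega) with rfl | rfl
      · exact hqs s hs (by rw [← ht, ← neg_sub s t]; exact neg_ne_zero.mpr hd0) w ((m0 w).mp hw)
      · exact hqs t htK (by rw [htt]; exact hd0) w ((m1 w).mp hw)
    have hdisj : ∀ x, x ∈ D 0 → x ∈ D 1 → x = 0 := fun x h h' => by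
      by_contra hx
      refine hd0 (eq_zero_of_mulVec hK hdK hx ?_)
      rw [hd, Matrix.sub_mulVec, ← (m0 x).mp h, (m1 x).mp h', sub_self]
    have hcompl : IsCompl (D 0) (D 1) := by
      refine ⟨disjoint_iff.mpr ((Submodule.eq_bot_iff _).mpr fun v hv => hdisj v hv.1 hv.2), codisjoint_iff.mpr ?_⟩
      refine eq_top_iff.mpr fun v _ => ?_
      obtain ⟨a, ha, b, hb', rfl⟩ := hsum v
      exact Submodule.add_mem_sup ha hb'
    have hdim : ∀ i, finrank F (D i) = r := by
      obtain ⟨Qf, rfl, hP⟩ := ONotMax.exists_qform hQ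
      have h01 := Submodule.finrank_add_eq_of_isCompl hcompl
      rw [Module.finrank_fintype_fun_eq_card, hcard] at h01
      have b0 := Witt.finrank_le_half Qf (ORefl.nondeg hP) (W := D 0) (hts 0)
      have b1 := Witt.finrank_le_half Qf (ORefl.nondeg hP) (W := D 1) (hts 1)
      rw [Module.finrank_fintype_fun_eq_card, hcard] at b0 b1
      intro i
      rcases (show i = 0 ∨ i = 1 by omega) with rfl | rfl <;> omega
    have hD : IsMDecomposition r D := by
      refine ⟨le_rfl, hrpos, hdim, ?_, ?_⟩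
      · intro i
        rcases (show i = 0 ∨ i = 1 by omega) with rfl | rfl
        · refine hcompl.disjoint.mono_right (iSup₂_le fun j hj => ?_)
          rcases (show j = 0 ∨ j = 1 by omega) with rfl | rfl; exacts [absurd rfl hj, le_rfl]
        · refine hcompl.disjoint.symm.mono_right (iSup₂_le fun j hj => ?_)
          rcases (show j = 0 ∨ j = 1 by omega) with rfl | rfl; exacts [le_rfl, absurd rfl hj]
      · exact top_le_iff.mp (hcompl.sup_eq_top.ge.trans (sup_le (le_iSup D 0) (le_iSup D 1)))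
    refine ⟨D, hD, hts, fun g hg => ?_⟩
    obtain ⟨μ, hμ, ν, hν, hmove⟩ := hC.moves g hg
    have hμ0 : μ ≠ 0 := fun h => by
      rw [h, Matrix.zero_mul, zero_add] at hmove
      refine hωnK ((hle hg ω).mpr ?_)
      rw [hmove]; exact hν
    obtain ⟨μi, hμi, hμμ⟩ := hK.inv μ hμ hμ0
    rw [hK.comm μ hμ μi hμi] at hμμ
    have himg : ∀ a ∈ K, ∃ a' ∈ K, ∀ x, ω *ᵥ x = a *ᵥ x → ω *ᵥ ((g : Matrix ι ι F) *ᵥ x) = a' *ᵥ ((g : Matrix ι ι F) *ᵥ x) := by
      intro a ha
      refine ⟨μi * ((g : Matrix ι ι F) * a * ((g⁻¹ : GL ι F) : Matrix ι ι F) - ν),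
        K.mul_mem hμi (K.sub_mem ((hle hg a).mp ha) hν), fun x hx => ?_⟩
      set y := (g : Matrix ι ι F) *ᵥ x
      have e1 : (μ * ω + ν) *ᵥ y = ((g : Matrix ι ι F) * a * ((g⁻¹ : GL ι F) : Matrix ι ι F)) *ᵥ y := by
        rw [← hmove]
        simp only [y, Matrix.mulVec_mulVec, Matrix.mul_assoc, Units.inv_mul, Matrix.mul_one]
        simp only [← Matrix.mulVec_mulVec, hx]
      rw [← Matrix.mulVec_mulVec, Matrix.sub_mulVec, ← e1, Matrix.add_mulVec, add_sub_cancel_right,
        ← Matrix.mulVec_mulVec, Matrix.mulVec_mulVec (M := μi) (N := μ), hμμ, Matrix.one_mulVec]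
    have hcase : ∀ i, ∃ j, ∀ x ∈ D i, (g : Matrix ι ι F) *ᵥ x ∈ D j := by
      intro i
      obtain ⟨a, ha, hDa⟩ : ∃ a ∈ K, ∀ x, x ∈ D i ↔ ω *ᵥ x = a *ᵥ x := by
        rcases (show i = 0 ∨ i = 1 by omega) with rfl | rfl
        exacts [⟨s, hs, m0⟩, ⟨t, htK, m1⟩]
      obtain ⟨a', ha', himg'⟩ := himg a ha
      obtain ⟨x₀, hx₀, hx₀0⟩ := Submodule.exists_mem_ne_zero_of_ne_bot (p := D i) fun e => by
        have := hdim i
        rw [e, finrank_bot] at this
        omega
      have hy0 : (g : Matrix ι ι F) *ᵥ x₀ ≠ 0 := fun h => hx₀0 (gl_mulVec_injective g (by simpa using h))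
      have hy := himg' x₀ ((hDa x₀).mp hx₀)
      set y := (g : Matrix ι ι F) *ᵥ x₀
      have hroot' : (a' - s) * (a' - t) = 0 := by
        refine eq_zero_of_mulVec hK (K.mul_mem (K.sub_mem ha' hs) (K.sub_mem ha' htK)) hy0 ?_
        have h := hprod s hs
        rw [← ht, hs0, neg_zero] at h
        have e2 : (ω - t) *ᵥ y = (a' - t) *ᵥ y := by rw [Matrix.sub_mulVec, hy, ← Matrix.sub_mulVec]
        rw [← Matrix.mulVec_mulVec, ← e2]
        have e3 : (a' - t) *ᵥ (ω *ᵥ y) = (a' - t) *ᵥ (a' *ᵥ y) := by rw [hy]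
        calc (a' - s) *ᵥ ((ω - t) *ᵥ y) = (a' - s) *ᵥ ((a' - t) *ᵥ y) := by rw [e2]
          _ = (ω - s) *ᵥ ((a' - t) *ᵥ y) := by
              have hk : a' - t ∈ K := K.sub_mem ha' htK
              have e4 : a' *ᵥ ((a' - t) *ᵥ y) = ω *ᵥ ((a' - t) *ᵥ y) := by
                calc a' *ᵥ ((a' - t) *ᵥ y) = (a' - t) *ᵥ (a' *ᵥ y) := by
                      rw [Matrix.mulVec_mulVec y a', hK.comm a' ha' _ hk, ← Matrix.mulVec_mulVec]
                  _ = (a' - t) *ᵥ (ω *ᵥ y) := e3.symm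
                  _ = _ := by rw [Matrix.mulVec_mulVec y (a' - t), ← hC.comm _ hk, ← Matrix.mulVec_mulVec]
              rw [Matrix.sub_mulVec a', Matrix.sub_mulVec ω, e4]
          _ = 0 := by rw [← e2, Matrix.mulVec_mulVec, h, Matrix.zero_mulVec]
      rcases fieldSubalgebra_mul_eq_zero hK (K.sub_mem ha' hs) hroot' with h | h
      · exact ⟨0, fun x hx => (m0 _).mpr (by rw [himg' x ((hDa x).mp hx), sub_eq_zero.mp h])⟩
      · exact ⟨1, fun x hx => (m1 _).mpr (by rw [himg' x ((hDa x).mp hx), sub_eq_zero.mp h])⟩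
    choose π hπ using hcase
    have hmap : ∀ i, (D i).map (Matrix.toLin' (g : Matrix ι ι F)) = D (π i) := fun i =>
      Submodule.eq_of_le_of_finrank_eq (map_toLin'_le.mpr (hπ i)) ((finrank_map_gl g (D i)).trans (by rw [hdim, hdim]))
    have hne : D 0 ≠ D 1 := fun h => by
      obtain ⟨x, hx, hx0⟩ := Submodule.exists_mem_ne_zero_of_ne_bot (p := D 0) fun e => by
        have := hdim 0
        rw [e, finrank_bot] at this
        omega
      exact hx0 (hdisj x hx (h ▸ hx))
    have hinj : Function.Injective π := by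
      intro i j e
      by_contra hij
      have h := (hmap i).trans ((congrArg D e).trans (hmap j).symm)
      have hgi : Function.Injective (Matrix.toLin' (g : Matrix ι ι F)) :=
        fun p q hpq => gl_mulVec_injective g (by simpa using hpq)
      have h' := Submodule.map_injective_of_injective hgi h
      rcases (show i = 0 ∨ i = 1 by omega) with rfl | rfl <;> rcases (show j = 0 ∨ j = 1 by omega) with rfl | rfl
      exacts [hij rfl, hne h', hne h'.symm, hij rfl]
    exact ⟨Equiv.ofBijective π (Finite.injective_iff_bijective.mp hinj), hmap⟩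
  right
  push Not at hroot
  -- a constant of the ground field without roots
  haveI : Finite K := Finite.of_injective _ Subtype.val_injective
  haveI : Fintype K := Fintype.ofFinite _
  obtain ⟨ν₀, hν₀⟩ : ∃ ν : F, ∀ x : F, x * x - ε * x ≠ ν := by
    by_contra hcon
    push Not at hcon
    have hsurj : Function.Surjective fun x : F => x * x - ε * x := hcon
    have hinj := Finite.injective_iff_surjective.mpr hsurj
    rcases hC.eps with ⟨h2, hε⟩ | ⟨h2, hε⟩ <;> subst hε
    · exact zero_ne_one (hinj (a₁ := (0 : F)) (a₂ := 1) (by change _ = _; ring))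
    · exact h2 (by linear_combination (hinj (a₁ := (1 : F)) (a₂ := -1) (by change _ = _; ring) : (1 : F) = -1))
  set N₀ : Matrix ι ι F := ν₀ • 1 with hN₀
  have hN₀K : N₀ ∈ K := K.smul_mem K.one_mem ν₀
  -- the constant has no root in the field either
  have hnoroot : ∀ x ∈ K, x * x - ε • x ≠ N₀ := by
    intro x hx hxe
    let L : Module.End F K := Algebra.lmul F K ⟨x, hx⟩
    have hL : L * L - ε • L = ν₀ • 1 := by
      apply LinearMap.ext
      intro k
      apply Subtype.ext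
      have e := congrArg (· * (k : Matrix ι ι F)) hxe
      simp only [hN₀, Matrix.sub_mul, Matrix.smul_mul, Matrix.one_mul, Matrix.mul_assoc] at e
      exact e
    let bs := Module.finBasisOfFinrankEq F K hK.finrank_eq
    set M := LinearMap.toMatrix bs bs L with hMdef
    have hM : M * M - ε • M = ν₀ • (1 : Matrix (Fin r) (Fin r) F) := by
      have := congrArg (LinearMap.toMatrix bs bs) hL
      rwa [show LinearMap.toMatrix bs bs (L * L - ε • L) = LinearMap.toMatrix bs bs (L * L) - LinearMap.toMatrix bs bs (ε • L) from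
        LinearMap.map_sub (LinearMap.toMatrix bs bs).toLinearMap (L * L) (ε • L), LinearMap.toMatrix_mul, LinearEquiv.map_smul, LinearEquiv.map_smul,
        LinearMap.toMatrix_one] at this
    rcases hC.eps with ⟨h2, hε⟩ | ⟨h2, hε⟩
    · rw [hε, one_smul] at hM
      have e := congrArg Matrix.trace hM
      rw [Matrix.trace_sub, Matrix.trace_smul, Matrix.trace_one, Fintype.card_fin] at e
      have htr : (M * M).trace = M.trace * M.trace := by
        simp only [Matrix.trace, Matrix.diag, Matrix.mul_apply, Finset.sum_mul_sum]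
        rw [← Fintype.sum_prod_type', ← Fintype.sum_prod_type', ← sub_eq_zero, ← Finset.sum_sub_distrib]
        refine Finset.sum_ninvolution Prod.swap (fun p => ?_) (fun p hp e' => hp ?_) (fun p => Finset.mem_univ _)
          Prod.swap_swap
        · simp only [Prod.fst_swap, Prod.snd_swap]
          linear_combination (M p.1 p.2 * M p.2 p.1 - M p.1 p.1 * M p.2 p.2) * h2
        · rw [show p.2 = p.1 from congrArg Prod.fst e', sub_self]
      have hr1 : (r : F) = 1 := by
        obtain ⟨j, rfl⟩ := hodd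
        push_cast
        rw [h2]; ring
      refine hν₀ M.trace ?_
      rw [hε, ← htr, one_mul, e, smul_eq_mul, hr1, mul_one]
    · rw [hε, zero_smul, sub_zero] at hM
      have e := congrArg Matrix.det hM
      rw [Matrix.det_mul, Matrix.det_smul, Matrix.det_one, Fintype.card_fin, mul_one] at e
      obtain ⟨j, rfl⟩ := hodd
      have hν : ν₀ ≠ 0 := fun h => hν₀ 0 (by rw [h]; ring)
      refine hν₀ (M.det / ν₀ ^ j) ?_
      rw [hε, zero_mul, sub_zero, div_mul_div_comm, e, ← pow_add, show 2 * j + 1 = (j + j) + 1 by omega, pow_succ]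
      field_simp
  -- index two
  letI : CommRing K := { K.toRing with mul_comm := fun a b => Subtype.ext (hK.comm a a.2 b b.2) }
  haveI : Nontrivial K := ⟨⟨0, 1, fun e => zero_ne_one (congrArg Subtype.val e)⟩⟩
  have hfield : IsField K := by
    refine ⟨exists_pair_ne K, mul_comm, fun {a} ha => ?_⟩
    obtain ⟨y, hy, hay⟩ := hK.inv a a.2 (fun e => ha (Subtype.ext e))
    exact ⟨⟨y, hy⟩, Subtype.ext hay⟩
  letI : Field K := hfield.toField
  have hnegN : ∀ x : K, x * x - ε • x ≠ -⟨N, hC.mem⟩ := fun x h => hroot x x.2 (by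
    have := congrArg Subtype.val h
    simp only [AddSubgroupClass.coe_sub, MulMemClass.coe_mul, SetLike.val_smul, NegMemClass.coe_neg] at this
    rw [this, neg_add_cancel])
  have hnN₀ : ∀ x : K, x * x - ε • x ≠ ⟨N₀, hN₀K⟩ := fun x h => hnoroot x x.2 (congrArg Subtype.val h)
  obtain ⟨ω', hω'e, hω'adj, hω'Z⟩ : ∃ ω' : Matrix ι ι F, ω' * ω' - ε • ω' = N₀ ∧ τ ω' = ε • 1 - ω' ∧
      ∃ μ ∈ K, ∃ ν ∈ K, μ ≠ 0 ∧ ω' = μ * ω + ν := by
    rcases hC.eps with ⟨h2, hε⟩ | ⟨h2, hε⟩
    · haveI : CharP F 2 := CharTwo.of_one_ne_zero_of_two_eq_zero one_ne_zero h2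
      haveI : CharP K 2 := charP_of_injective_algebraMap (algebraMap F K).injective 2
      let φ : K →+ K :=
        { toFun := fun x => x * x - ε • x
          map_zero' := by simp
          map_add' := fun x y => by
            rw [smul_add, add_mul, mul_add, mul_add, mul_comm y x]
            linear_combination (x * y) * (CharTwo.two_eq_zero (R := K)) }
      have hidx : φ.range.index = 2 := by
        have hker : Nat.card φ.ker = 2 := by
          rw [Nat.card_eq_two_iff]
          refine ⟨⟨0, φ.ker.zero_mem⟩, ⟨1, ?_⟩, ?_, ?_⟩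
          · rw [AddMonoidHom.mem_ker]
            change (1 : K) * 1 - ε • 1 = 0
            rw [hε, one_smul, one_mul, sub_self]
          · intro h; exact zero_ne_one (congrArg Subtype.val h)
          · refine Set.eq_univ_of_forall fun x => ?_
            obtain ⟨x, hx⟩ := x
            rw [AddMonoidHom.mem_ker] at hx
            have hx' : x * (x - 1) = 0 := by
              have : x * x - ε • x = 0 := hx
              rw [hε, one_smul] at this
              rw [mul_sub, mul_one]; exact this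
            rcases mul_eq_zero.mp hx' with h | h
            · exact Or.inl (Subtype.ext h)
            · exact Or.inr (Subtype.ext (sub_eq_zero.mp h))
        have h1 := φ.range.card_mul_index
        have h2' := AddSubgroup.card_eq_card_quotient_mul_card_addSubgroup φ.ker
        rw [Nat.card_congr (QuotientAddGroup.quotientKerEquivRange φ).toEquiv, hker] at h2'
        exact Nat.eq_of_mul_eq_mul_left Nat.card_pos (h1.trans h2')
      have hmem := (AddSubgroup.add_mem_iff_of_index_two hidx (a := -⟨N, hC.mem⟩) (b := ⟨N₀, hN₀K⟩)).mpr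
        (iff_of_false (fun ⟨x, hx⟩ => hnegN x hx) (fun ⟨x, hx⟩ => hnN₀ x hx))
      obtain ⟨⟨c, hc⟩, hcv⟩ := hmem
      have hc' : c * c - ε • c = -N + N₀ := congrArg Subtype.val hcv
      refine ⟨ω + c, ?_, ?_, 1, K.one_mem, c, hc, one_ne_zero, by rw [Matrix.one_mul]⟩
      · rw [Matrix.add_mul, Matrix.mul_add, Matrix.mul_add, hC.comm c hc, hC.quadr, smul_add]
        have e2 : c * ω + c * ω = 0 := by
          rw [← two_smul F, h2, zero_smul]
        calc ε • ω - N + c * ω + (c * ω + c * c) - (ε • ω + ε • c) =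
            (c * ω + c * ω) + (c * c - ε • c) - N := by abel
          _ = N₀ := by
              rw [e2, hc', zero_add, show -N + N₀ - N = N₀ - (N + N) by abel, ← two_smul F N, h2, zero_smul, sub_zero]
      · rw [hτ, hf.adj_add, hsA c hc, ← hτ, hτω]
        have e2 : c + c = 0 := by rw [← two_smul F c, h2, zero_smul]
        calc ε • (1 : Matrix ι ι F) - ω + c = ε • 1 - (ω + c) + (c + c) := by abel
          _ = _ := by rw [e2, add_zero]
    · have hne2 : ringChar K ≠ 2 := fun h => h2 (by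
        have := ringChar.Nat.cast_ringChar (R := K)
        rw [h] at this
        have e : algebraMap F K 2 = 0 := by rw [map_ofNat]; exact_mod_cast this
        exact (map_eq_zero _).mp e)
      set A : K := -⟨N, hC.mem⟩ with hA
      set B : K := ⟨N₀, hN₀K⟩ with hB
      have hA' : ¬ IsSquare A := fun ⟨x, hx⟩ => hnegN x (by rw [hε, zero_smul, sub_zero, hx])
      have hB' : ¬ IsSquare B := fun ⟨x, hx⟩ => hnN₀ x (by rw [hε, zero_smul, sub_zero, hx])
      have hA0 : A ≠ 0 := fun h => hA' ⟨0, by rw [h, mul_zero]⟩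
      have hB0 : B ≠ 0 := fun h => hB' ⟨0, by rw [h, mul_zero]⟩
      obtain ⟨s, hs⟩ : IsSquare (B / A) := by
        rw [FiniteField.isSquare_iff hne2 (div_ne_zero hB0 hA0), div_pow]
        have hA1 := (FiniteField.pow_dichotomy hne2 hA0).resolve_left fun h => hA' ((FiniteField.isSquare_iff hne2 hA0).mpr h)
        have hB1 := (FiniteField.pow_dichotomy hne2 hB0).resolve_left fun h => hB' ((FiniteField.isSquare_iff hne2 hB0).mpr h)
        rw [hA1, hB1, div_self (neg_ne_zero.mpr one_ne_zero)]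
      have hs0 : (s : Matrix ι ι F) ≠ 0 := fun h => div_ne_zero hB0 hA0 (by
        rw [hs, show s = 0 from Subtype.ext h, mul_zero])
      have hsB : s * s * A = B := by rw [← hs, div_mul_cancel₀ _ hA0]
      have hsB' : (s : Matrix ι ι F) * s * (-N) = N₀ := congrArg Subtype.val hsB
      refine ⟨s * ω, ?_, ?_, s, s.2, 0, K.zero_mem, hs0, by rw [add_zero]⟩
      · rw [hε, zero_smul, sub_zero, ← hsB', Matrix.mul_assoc, ← Matrix.mul_assoc ω, hC.comm s s.2, Matrix.mul_assoc,
          hC.quadr, hε, zero_smul, zero_sub, Matrix.mul_assoc]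
      · rw [hε, zero_smul, zero_sub, hτ, hf.adj_mul, hsA s s.2, ← hτ, hτω, hε, zero_smul, zero_sub, Matrix.neg_mul,
          hC.comm s s.2]
  obtain ⟨μ₀, hμ₀, ν₁, hν₁, hμ₀0, hω'def⟩ := hω'Z
  have hω'C : ∀ k ∈ K, ω' * k = k * ω' := fun k hk => by
    rw [hω'def, Matrix.add_mul, Matrix.mul_add, Matrix.mul_assoc, hC.comm k hk, ← Matrix.mul_assoc,
      hK.comm μ₀ hμ₀ k hk, Matrix.mul_assoc, hK.comm ν₁ hν₁ k hk]
  -- inverting `a + b ω'`
  have hnorm : ∀ a ∈ K, ∀ b ∈ K, a * a + ε • (a * b) - b * b * N₀ = 0 → a = 0 ∧ b = 0 := by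
    intro a ha b hb' h
    by_cases hb0 : b = 0
    · subst hb0
      simp only [Matrix.mul_zero, smul_zero, add_zero, Matrix.zero_mul, sub_zero] at h
      exact ⟨(fieldSubalgebra_mul_eq_zero hK ha h).elim id id, rfl⟩
    exfalso
    obtain ⟨a', rfl⟩ : ∃ a' : K, (a' : Matrix ι ι F) = a := ⟨⟨a, ha⟩, rfl⟩
    obtain ⟨b', rfl⟩ : ∃ b' : K, (b' : Matrix ι ι F) = b := ⟨⟨b, hb'⟩, rfl⟩
    have hb'0 : b' ≠ 0 := fun e => hb0 (congrArg Subtype.val e)
    have hB : a' * a' + ε • (a' * b') - b' * b' * ⟨N₀, hN₀K⟩ = 0 := Subtype.ext h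
    refine hnN₀ (-a' / b') ?_
    have hB2 : a' * a' + algebraMap F K ε * (a' * b') - b' * b' * ⟨N₀, hN₀K⟩ = 0 := by rw [← Algebra.smul_def]; exact hB
    rw [Algebra.smul_def]
    field_simp
    linear_combination hB2
  let K₂ : Subalgebra F (Matrix ι ι F) :=
    { carrier := {x | ∃ α β : F, x = α • 1 + β • ω'}
      mul_mem' := by
        rintro x y ⟨a, b, rfl⟩ ⟨c, d, rfl⟩
        refine ⟨a * c + b * d * ν₀, a * d + b * c + b * d * ε, ?_⟩
        have e : ω' * ω' = ν₀ • (1 : Matrix ι ι F) + ε • ω' := by rw [← hN₀, ← hω'e]; abel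
        simp only [Matrix.add_mul, Matrix.mul_add, Matrix.smul_mul, Matrix.mul_smul, Matrix.one_mul, Matrix.mul_one, e,
          smul_add, smul_smul]
        module
      one_mem' := ⟨1, 0, by simp⟩
      add_mem' := by
        rintro x y ⟨a, b, rfl⟩ ⟨c, d, rfl⟩
        exact ⟨a + c, b + d, by module⟩
      zero_mem' := ⟨0, 0, by simp⟩
      algebraMap_mem' := fun c => ⟨c, 0, by rw [Algebra.algebraMap_eq_smul_one]; simp⟩ }
  have hmem : ∀ x, x ∈ K₂ ↔ ∃ α β : F, x = α • 1 + β • ω' := fun x => Iff.rfl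
  have hω'K2 : ω' ∈ K₂ := ⟨0, 1, by simp⟩
  have hω'nK : ω' ∉ K := fun h => hnoroot ω' h hω'e
  have hindep : ∀ α β : F, α • (1 : Matrix ι ι F) + β • ω' = 0 → α = 0 ∧ β = 0 := fun α β h => by
    by_cases hβ : β = 0
    · subst hβ
      rw [zero_smul, add_zero] at h
      exact ⟨(smul_eq_zero.mp h).resolve_right one_ne_zero, rfl⟩
    · exfalso
      refine hω'nK ?_
      have : ω' = (-(β⁻¹ * α)) • (1 : Matrix ι ι F) := by
        rw [← smul_right_inj hβ, smul_smul, mul_neg, ← mul_assoc, mul_inv_cancel₀ hβ, one_mul, neg_smul]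
        exact eq_neg_of_add_eq_zero_right h
      rw [this]
      exact K.smul_mem K.one_mem _
  have hfld : IsFieldSubalgebra 2 K₂ := by
    refine ⟨?_, ?_, ?_⟩
    · rintro x ⟨a, b, rfl⟩ y ⟨c, d, rfl⟩
      simp only [Matrix.add_mul, Matrix.mul_add, Matrix.smul_mul, Matrix.mul_smul, Matrix.one_mul, Matrix.mul_one,
        smul_add, smul_smul]
      module
    · rintro x ⟨a, b, rfl⟩ hx0
      set n := a * a + ε * a * b - b * b * ν₀ with hn
      have hn0 : n ≠ 0 := fun h => hx0 (by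
        obtain ⟨h1, h3⟩ := hnorm (a • 1) (K.smul_mem K.one_mem a) (b • 1) (K.smul_mem K.one_mem b) (by
          simp only [hN₀, Matrix.smul_mul, Matrix.mul_smul, Matrix.one_mul, smul_smul]
          rw [← add_smul, ← sub_smul]
          rw [show a * a + ε * (b * a) - ν₀ * (b * b) = n by rw [hn]; ring, h, zero_smul])
        rw [h1, show b • ω' = (b • (1 : Matrix ι ι F)) * ω' by rw [Matrix.smul_mul, Matrix.one_mul], h3,
          Matrix.zero_mul, add_zero])
      refine ⟨_, ⟨(a + b * ε) / n, -b / n, rfl⟩, ?_⟩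
      have e : ω' * ω' = ν₀ • (1 : Matrix ι ι F) + ε • ω' := by rw [← hN₀, ← hω'e]; abel
      simp only [Matrix.add_mul, Matrix.mul_add, Matrix.smul_mul, Matrix.mul_smul, Matrix.one_mul, Matrix.mul_one, e,
        smul_add, smul_smul]
      match_scalars
      · field_simp
        rw [hn]; ring
      · field_simp
        ring
    · have hspan : Subalgebra.toSubmodule K₂ = Submodule.span F (Set.range ![(1 : Matrix ι ι F), ω']) := by
        ext x
        rw [Subalgebra.mem_toSubmodule, hmem, show Set.range ![(1 : Matrix ι ι F), ω'] = {1, ω'} by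
          simp [Matrix.range_cons, Set.pair_comm], Submodule.mem_span_pair]
        simp only [eq_comm]
      rw [← Subalgebra.finrank_toSubmodule, hspan, finrank_span_eq_card (LinearIndependent.pair_iff.mpr hindep),
        Fintype.card_fin]
  refine ⟨K₂, hfld, hf.isAdjointClosedFor_iff.mpr ?_, fun hs => ?_, ?_⟩
  · rintro x ⟨a, b, rfl⟩
    refine ⟨a + b * ε, -b, ?_⟩
    rw [hτ] at hω'adj
    rw [hf.adj_add, hf.adj_smul, hf.adj_smul, hf.adj_one, hω'adj, RingEquiv.refl_apply, RingEquiv.refl_apply]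
    module
  · have e := (hf.isSelfAdjointFor_iff.mp hs ω' hω'K2).symm.trans hω'adj
    have e2 : (2 : F) • ω' = ε • 1 := by rw [two_smul]; nth_rewrite 1 [e]; abel
    rcases hC.eps with ⟨h2, hε⟩ | ⟨h2, hε⟩
    · rw [h2, zero_smul, hε, one_smul] at e2
      exact one_ne_zero e2.symm
    · rw [hε, zero_smul] at e2
      exact hω'nK ((smul_eq_zero.mp e2).resolve_left h2 ▸ K.zero_mem)
  have hconj : ∀ g ∈ H, ∀ x ∈ K₂, (g : Matrix ι ι F) * x * ((g⁻¹ : GL ι F) : Matrix ι ι F) ∈ K₂ := by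
    intro g hg
    set c := (g : Matrix ι ι F) * ω' * ((g⁻¹ : GL ι F) : Matrix ι ι F) with hc
    have hmc : ∀ A B : Matrix ι ι F, (g : Matrix ι ι F) * (A * B) * ((g⁻¹ : GL ι F) : Matrix ι ι F) =
        ((g : Matrix ι ι F) * A * ((g⁻¹ : GL ι F) : Matrix ι ι F)) *
          ((g : Matrix ι ι F) * B * ((g⁻¹ : GL ι F) : Matrix ι ι F)) := fun A B => by
      simp only [Matrix.mul_assoc]
      rw [← Matrix.mul_assoc ((g⁻¹ : GL ι F) : Matrix ι ι F) (g : Matrix ι ι F), Units.inv_mul, Matrix.one_mul]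
    -- the image is a root in the quadratic algebra
    obtain ⟨p, hp, q, hq, hcpq⟩ : ∃ p ∈ K, ∃ q ∈ K, c = p * ω' + q := by
      obtain ⟨μ, hμ, ν, hν, hmove⟩ := hC.moves g hg
      obtain ⟨mi, hmi, hmmi⟩ := hK.inv μ₀ hμ₀ hμ₀0
      rw [hK.comm μ₀ hμ₀ mi hmi] at hmmi
      have hω : ω = mi * ω' - mi * ν₁ := by
        rw [hω'def, Matrix.mul_add, ← Matrix.mul_assoc, hmmi, Matrix.one_mul]; abel
      set g₁ := (g : Matrix ι ι F) * μ₀ * ((g⁻¹ : GL ι F) : Matrix ι ι F)
      set g₂ := (g : Matrix ι ι F) * ν₁ * ((g⁻¹ : GL ι F) : Matrix ι ι F)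
      have hg₁ : g₁ ∈ K := (hle hg μ₀).mp hμ₀
      have hg₂ : g₂ ∈ K := (hle hg ν₁).mp hν₁
      refine ⟨g₁ * (μ * mi), K.mul_mem hg₁ (K.mul_mem hμ hmi), g₁ * ν - g₁ * (μ * (mi * ν₁)) + g₂,
        K.add_mem (K.sub_mem (K.mul_mem hg₁ hν) (K.mul_mem hg₁ (K.mul_mem hμ (K.mul_mem hmi hν₁)))) hg₂, ?_⟩
      rw [hc, hω'def, Matrix.mul_add, Matrix.add_mul, hmc, hmove]
      conv_lhs => rw [hω]
      rw [← hω'def]
      simp only [g₁, g₂, Matrix.mul_add, Matrix.mul_sub, Matrix.mul_assoc]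
      abel
    have hceq : c * c - ε • c = N₀ := by
      have h := congrArg (fun A => (g : Matrix ι ι F) * A * ((g⁻¹ : GL ι F) : Matrix ι ι F)) hω'e
      simp only [Matrix.mul_sub, Matrix.sub_mul, hmc, Matrix.mul_smul, Matrix.smul_mul, ← hc] at h
      rwa [hN₀, Matrix.mul_smul, Matrix.smul_mul, Matrix.mul_one, Units.mul_inv, ← hN₀] at h
    have hroot2 : c = ω' ∨ c = ε • 1 - ω' := by
      have hcω : c * ω' = ω' * c := by
        rw [hcpq, Matrix.add_mul, Matrix.mul_add, ← hω'C q hq, Matrix.mul_assoc, ← Matrix.mul_assoc ω', hω'C p hp,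
          Matrix.mul_assoc]
      have hprod : (c - ω') * (c - (ε • 1 - ω')) = 0 := by
        rw [Matrix.sub_mul, Matrix.mul_sub, Matrix.mul_sub, Matrix.mul_sub, Matrix.mul_sub, Matrix.mul_smul,
          Matrix.mul_smul, Matrix.mul_one, Matrix.mul_one, ← hcω]
        calc c * c - (ε • c - c * ω') - (c * ω' - (ε • ω' - ω' * ω')) =
            (c * c - ε • c) - (ω' * ω' - ε • ω') := by abel
          _ = 0 := by rw [hceq, hω'e, sub_self]
      by_cases h1 : c - ω' = 0
      · exact Or.inl (sub_eq_zero.mp h1)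
      right
      set a := q with ha
      set b := p - 1 with hb'
      have hbK : b ∈ K := K.sub_mem hp K.one_mem
      have hx : c - ω' = a + b * ω' := by rw [hcpq, hb', Matrix.sub_mul, Matrix.one_mul]; abel
      have hnab : a * a + ε • (a * b) - b * b * N₀ ≠ 0 := fun h => by
        obtain ⟨ha0, hb0⟩ := hnorm a hq b hbK h
        exact h1 (by rw [hx, ha0, hb0, Matrix.zero_mul, add_zero])
      have hyx : (a + ε • b - b * ω') * (a + b * ω') = a * a + ε • (a * b) - b * b * N₀ := by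
        rw [← hω'e]
        simp only [Matrix.add_mul, Matrix.mul_add, Matrix.sub_mul, Matrix.mul_sub, Matrix.smul_mul, Matrix.mul_smul,
          Matrix.mul_assoc, ← Matrix.mul_assoc ω' a, ← Matrix.mul_assoc ω' b, hω'C a hq, hω'C b hbK]
        simp only [← Matrix.mul_assoc, hK.comm b hbK a hq]
        abel
      obtain ⟨y, hy, hny⟩ := hK.inv _ (K.sub_mem (K.add_mem (K.mul_mem hq hq) (K.smul_mem (K.mul_mem hq hbK) ε))
        (K.mul_mem (K.mul_mem hbK hbK) hN₀K)) hnab
      rw [hK.comm _ (K.sub_mem (K.add_mem (K.mul_mem hq hq) (K.smul_mem (K.mul_mem hq hbK) ε))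
        (K.mul_mem (K.mul_mem hbK hbK) hN₀K)) y hy] at hny
      refine sub_eq_zero.mp ?_
      calc c - (ε • 1 - ω') = y * ((a + ε • b - b * ω') * (a + b * ω')) * (c - (ε • 1 - ω')) := by
            rw [hyx, hny, Matrix.one_mul]
        _ = 0 := by rw [← hx, Matrix.mul_assoc, Matrix.mul_assoc _ (c - ω'), hprod, Matrix.mul_zero, Matrix.mul_zero]
    rintro x ⟨a, b, rfl⟩
    rw [Matrix.mul_add, Matrix.add_mul, Matrix.mul_smul, Matrix.smul_mul, Matrix.mul_smul, Matrix.smul_mul,
      Matrix.mul_one, Units.mul_inv, ← hc]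
    refine K₂.add_mem (K₂.smul_mem K₂.one_mem a) (K₂.smul_mem ?_ b)
    rcases hroot2 with h | h <;> rw [h]
    · exact hω'K2
    · exact K₂.sub_mem (K₂.smul_mem K₂.one_mem ε) hω'K2
  exact fun g hg x => ⟨hconj g hg x, fun h => by
    have := hconj g⁻¹ (inv_mem hg) _ h
    simpa [← Matrix.mul_assoc, Matrix.mul_assoc _ _ (g : Matrix ι ι F)] using this⟩

end Cfsg.Agent.Classical.OField
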