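/-
Quadratic fields of matrices in orthogonal groups of dimension twice an odd number.
-/
import Cfsg.Agent.Lib.Classical.OrthEvenField

set_option autoImplicit false
set_option linter.unusedSectionVars false
set_option linter.style.haveILetI false

namespace Cfsg.Agent.Classical.OField

open Matrix Module Cfsg.Geo
open Cfsg.Agent.Classical

variable {ι : Type} [Fintype ι] [DecidableEq ι] {F : Type*} [Field F]

/-- A vector outside an invariant subspace spans a line meeting it trivially. -/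
theorem grow {r : ℕ} {K : Subalgebra F (Matrix ι ι F)} (hK : IsFieldSubalgebra r K) {U : Submodule F (ι → F)}
    (hU : ∀ k ∈ K, ∀ u ∈ U, k *ᵥ u ∈ U) {w : ι → F} (hw : w ∉ U) :
    finrank F ↥(U ⊔ line K w) = finrank F U + r ∧ ∀ k ∈ K, ∀ u ∈ U ⊔ line K w, k *ᵥ u ∈ U ⊔ line K w := by
  refine ⟨?_, fun k hk u hu => ?_⟩
  · have hdisj : U ⊓ line K w = ⊥ := by
      refine (Submodule.eq_bot_iff _).mpr fun x ⟨h1, h2⟩ => ?_
      obtain ⟨a, ha, rfl⟩ := mem_line.mp h2
      by_contra hx
      have ha0 : a ≠ 0 := fun e => hx (by rw [e, Matrix.zero_mulVec])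
      obtain ⟨y, hy, hay⟩ := hK.inv a ha ha0
      rw [hK.comm a ha y hy] at hay
      refine hw ?_
      have := hU y hy _ h1
      rwa [Matrix.mulVec_mulVec, hay, Matrix.one_mulVec] at this
    have hw0 : w ≠ 0 := fun e => hw (e ▸ U.zero_mem)
    have := Submodule.finrank_sup_add_finrank_inf_eq U (line K w)
    rw [hdisj, finrank_bot, finrank_line hK hw0] at this
    omega
  · obtain ⟨a, ha, b, hb, rfl⟩ := Submodule.mem_sup.mp hu
    obtain ⟨l, hl, rfl⟩ := mem_line.mp hb
    rw [Matrix.mulVec_add, Matrix.mulVec_mulVec]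
    exact Submodule.add_mem_sup (hU k hk a ha) (mem_line.mpr ⟨k * l, K.mul_mem hk hl, rfl⟩)

variable {Q : (ι → F) → F} (hQ : IsNondegenerateQuadraticForm Q)

local notation "f" => QuadraticMap.polar Q

include hQ

/-- In characteristic two no quadratic field is self-adjoint when half the dimension is odd. -/
theorem not_selfAdjoint_two [Fintype F] (h2 : (2 : F) = 0) {m : ℕ} (hcard : Fintype.card ι = 2 * m) (hm : Odd m)
    {K : Subalgebra F (Matrix ι ι F)} (hK : IsFieldSubalgebra 2 K) : ¬ IsSelfAdjointFor f K := by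
  intro hself
  classical
  obtain ⟨m', rfl⟩ := hm
  haveI : Nonempty ι := Fintype.card_pos_iff.mp (by omega)
  have hb := hQ.polar_bilinear
  have halt : ∀ k ∈ K, ∀ v, f (k *ᵥ v) v = 0 := by
    refine field_alternating ⟨hb, fun u w => ?_, fun u => ?_, hQ.nondegenerate⟩ hK hself
    · rw [QuadraticMap.polar_comm Q w u]
      linear_combination (f u w) * h2
    · rw [polar_self_eq hQ, h2, zero_mul]
  have hstep : ∀ j, j ≤ m' + 1 → ∃ U : Submodule F (ι → F), finrank F U = 2 * j ∧
      (∀ k ∈ K, ∀ u ∈ U, k *ᵥ u ∈ U) ∧ U ≤ polarPerp hQ U := by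
    intro j
    induction j with
    | zero => exact fun _ => ⟨⊥, by simp, fun k _ u hu => by simp [(Submodule.mem_bot F).mp hu], bot_le⟩
    | succ j ih =>
      intro hj
      obtain ⟨U, hd, hinv, hiso⟩ := ih (by omega)
      obtain ⟨w, hw, hwU⟩ : ∃ w ∈ polarPerp hQ U, w ∉ U := by
        by_contra hcon
        push Not at hcon
        have h1 := Submodule.finrank_mono (show polarPerp hQ U ≤ U from hcon)
        have h2' := finrank_polarPerp hQ U
        omega
      obtain ⟨h1, h2'⟩ := grow hK hinv hwU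
      refine ⟨U ⊔ line K w, by omega, h2', fun x hx => ?_⟩
      rw [mem_polarPerp]
      intro y hy
      obtain ⟨a, ha, b, hb', rfl⟩ := Submodule.mem_sup.mp hx
      obtain ⟨a', ha', b', hb'', rfl⟩ := Submodule.mem_sup.mp hy
      obtain ⟨p, hp, rfl⟩ := mem_line.mp hb'
      obtain ⟨q, hq, rfl⟩ := mem_line.mp hb''
      have e1 : f a' a = 0 := mem_polarPerp hQ |>.mp (hiso ha) a' ha'
      have e2 : f a' (p *ᵥ w) = 0 := by
        rw [← hself p hp]
        exact mem_polarPerp hQ |>.mp hw _ (hinv p hp a' ha')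
      have e3 : f (q *ᵥ w) a = 0 := by
        rw [hself q hq, QuadraticMap.polar_comm]
        exact mem_polarPerp hQ |>.mp hw _ (hinv q hq a ha)
      have e4 : f (q *ᵥ w) (p *ᵥ w) = 0 := by
        rw [← hself p hp, Matrix.mulVec_mulVec]
        exact halt _ (K.mul_mem hp hq) w
      rw [hb.add_left, hb.add_right, hb.add_right, e1, e2, e3, e4]
      simp
  obtain ⟨U, hd, -, hiso⟩ := hstep (m' + 1) le_rfl
  have h1 := Submodule.finrank_mono hiso
  have h2' := finrank_polarPerp hQ U
  omega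

/-- The elements of a quadratic field that is not self-adjoint act as similitudes. -/
theorem similitude [Fintype F] (hn : 2 ≤ Fintype.card ι) {H : Subgroup (GL ι F)} (hirr : ActsIrreducibly (matrixSet H))
    (hI : H ≤ isometryGroup F Q) {K : Subalgebra F (Matrix ι ι F)} (hK : IsFieldSubalgebra 2 K)
    (hadj : IsAdjointClosedFor f K) (hns : ¬ IsSelfAdjointFor f K) (hle : H ≤ subalgebraNormalizer K) :
    ∀ k ∈ K, ∃ c : F, ∀ v, Q (k *ᵥ v) = c * Q v := by
  classical
  haveI : Nonempty ι := Fintype.card_pos_iff.mp (by omega)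
  have hf := reflexForm_of_quadratic hQ
  have hb := hQ.polar_bilinear
  rw [hf.isAdjointClosedFor_iff] at hadj
  rw [hf.isSelfAdjointFor_iff] at hns
  push Not at hns
  obtain ⟨z, hz, hzne⟩ := hns
  -- what the adjoint fixes is scalar
  have hfixed : ∀ s ∈ K, formAdj (RingEquiv.refl F) f s = s → ∃ c : F, s = c • (1 : Matrix ι ι F) := by
    intro s hs hs'
    by_contra hcon
    push Not at hcon
    have hli : LinearIndependent F ![(1 : K), ⟨s, hs⟩] := by
      refine LinearIndependent.pair_iff.mpr fun a b hab => ?_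
      have e : a • (1 : Matrix ι ι F) + b • s = 0 := congrArg Subtype.val hab
      by_cases hb0 : b = 0
      · rw [hb0, zero_smul, add_zero] at e
        exact ⟨(smul_eq_zero.mp e).resolve_right one_ne_zero, hb0⟩
      · exfalso
        refine hcon (-(b⁻¹ * a)) ?_
        rw [neg_smul, mul_smul, eq_neg_of_add_eq_zero_left e, smul_neg, neg_neg, smul_smul, inv_mul_cancel₀ hb0,
          one_smul]
    have hspan := hli.span_eq_top_of_card_eq_finrank (by rw [hK.finrank_eq, Fintype.card_fin])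
    have hall : ∀ k : K, formAdj (RingEquiv.refl F) f (k : Matrix ι ι F) = k := by
      intro k
      have hk : k ∈ Submodule.span F (Set.range ![(1 : K), ⟨s, hs⟩]) := hspan ▸ Submodule.mem_top
      rw [Submodule.mem_span_range_iff_exists_fun] at hk
      obtain ⟨c, rfl⟩ := hk
      simp [Fin.sum_univ_two, hf.adj_add, hf.adj_smul, hf.adj_one, hs']
    exact hzne (hall ⟨z, hz⟩)
  have hnorm : ∀ k ∈ K, ∃ c : F, formAdj (RingEquiv.refl F) f k * k = c • (1 : Matrix ι ι F) := by
    intro k hk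
    refine hfixed _ (K.mul_mem (hadj k hk) hk) ?_
    rw [hf.adj_mul, hf.adj_adj]
  by_cases h2 : (2 : F) = 0
  swap
  · intro k hk
    obtain ⟨c, hc⟩ := hnorm k hk
    refine ⟨c, fun v => mul_left_cancel₀ h2 ?_⟩
    rw [← polar_self_eq hQ, mul_left_comm, ← polar_self_eq hQ, hf.adj_spec, Matrix.mulVec_mulVec, hc,
      Matrix.smul_mulVec, Matrix.one_mulVec, hb.smul_right]
  haveI : CharP F 2 := CharTwo.of_one_ne_zero_of_two_eq_zero one_ne_zero h2
  have hneg : ∀ M : Matrix ι ι F, -M = M := fun M => by ext i j; simp [CharTwo.neg_eq]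
  obtain ⟨c, hc⟩ := hfixed (z + formAdj (RingEquiv.refl F) f z) (K.add_mem hz (hadj z hz))
    (by rw [hf.adj_add, hf.adj_adj, add_comm])
  have hc0 : c ≠ 0 := fun e => hzne (by
    rw [e, zero_smul] at hc
    rw [eq_neg_of_add_eq_zero_right hc, hneg])
  set ω := c⁻¹ • z with hω
  have hωK : ω ∈ K := K.smul_mem hz _
  set τω := formAdj (RingEquiv.refl F) f ω with hτω
  have hω1 : ω + τω = 1 := by
    rw [hτω, hω, hf.adj_smul, RingEquiv.refl_apply, ← smul_add, hc, smul_smul, inv_mul_cancel₀ hc0, one_smul]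
  obtain ⟨N, hN⟩ := hnorm ω hωK
  have hfix : FixesForm (matrixSet H) f :=
    quad_fixes_polar (by rintro _ ⟨g, hg, rfl⟩ v; exact mem_isometryGroup_iff.mp (hI hg) v)
  have hswap : ∀ u v, f (ω *ᵥ v) u = f (τω *ᵥ u) v := fun u v => by
    rw [hτω, ← hf.adj_spec', QuadraticMap.polar_comm]
  let Q' : (ι → F) → F := fun v => f (ω *ᵥ v) v
  have hpol : ∀ u v, QuadraticMap.polar Q' u v = f u v := fun u v => by
    calc QuadraticMap.polar Q' u v = f (ω *ᵥ u) v + f (ω *ᵥ v) u := by
          show f (ω *ᵥ (u + v)) (u + v) - f (ω *ᵥ u) u - f (ω *ᵥ v) v = _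
          rw [Matrix.mulVec_add, hb.add_left, hb.add_right, hb.add_right]; ring
      _ = f u v := by rw [hswap u v, ← hb.add_left, ← Matrix.add_mulVec, hω1, Matrix.one_mulVec]
  have hQ' : IsNondegenerateQuadraticForm Q' := by
    have e : QuadraticMap.polar Q' = f := funext fun u => funext fun v => hpol u v
    refine ⟨fun a v => ?_, e ▸ hb, e ▸ hQ.nondegenerate⟩
    simp only [Q', Matrix.mulVec_smul, hb.smul_left, hb.smul_right]; ring
  have hQQ : Q' = Q := by
    refine OEven.quad_eq_of_irreducible hQ hn h2 hQ' hpol hirr hI ?_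
    rintro _ ⟨g, hg, rfl⟩ v
    set x := ((g⁻¹ : GL ι F) : Matrix ι ι F) * ω * (g : Matrix ι ι F) with hx
    have hxK : x ∈ K := by
      have h := (hle hg x).mpr
      refine h ?_
      rw [hx]
      simp only [← Matrix.mul_assoc, Units.mul_inv, Matrix.one_mul]
      rw [Matrix.mul_assoc, Units.mul_inv, Matrix.mul_one]
      exact hωK
    have hquad : ω * ω = ω - N • 1 := by
      have e := congrArg (· * ω) hω1
      simp only [Matrix.add_mul, Matrix.one_mul] at e
      rw [hN] at e
      exact eq_sub_of_add_eq e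
    have hxquad : x * x = x - N • 1 := by
      rw [hx]
      calc ((g⁻¹ : GL ι F) : Matrix ι ι F) * ω * (g : Matrix ι ι F) *
            (((g⁻¹ : GL ι F) : Matrix ι ι F) * ω * (g : Matrix ι ι F))
          = ((g⁻¹ : GL ι F) : Matrix ι ι F) * ω * ((g : Matrix ι ι F) * ((g⁻¹ : GL ι F) : Matrix ι ι F)) * ω *
              (g : Matrix ι ι F) := by simp only [Matrix.mul_assoc]
        _ = _ := by
          rw [Units.mul_inv, Matrix.mul_one, Matrix.mul_assoc _ ω ω, hquad, Matrix.mul_sub, Matrix.sub_mul,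
            Matrix.mul_smul _ N, Matrix.mul_one, Matrix.smul_mul N, Units.inv_mul]
    have hcases : x = ω ∨ x = ω + 1 := by
      have h0 : (x - ω) * (x - (ω + 1)) = 0 := by
        rw [Matrix.sub_mul, Matrix.mul_sub, Matrix.mul_sub, Matrix.mul_add, Matrix.mul_add, Matrix.mul_one, Matrix.mul_one,
          hxquad, hquad, hK.comm ω hωK x hxK]
        have e2 : ∀ M : Matrix ι ι F, M + M = 0 := fun M => by nth_rewrite 2 [← hneg M]; exact add_neg_cancel M
        calc x - N • (1 : Matrix ι ι F) - (x * ω + x) - (x * ω - (ω - N • 1 + ω)) =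
            -(x * ω + x * ω) + (ω + ω) - (N • (1 : Matrix ι ι F) + N • 1) := by abel
          _ = 0 := by rw [e2, e2, e2]; simp
      rcases fieldSubalgebra_mul_eq_zero hK (K.sub_mem hxK hωK) h0 with h | h
      · exact Or.inl (sub_eq_zero.mp h)
      · exact Or.inr (sub_eq_zero.mp h)
    simp only [Q']
    have e : ω *ᵥ ((g : Matrix ι ι F) *ᵥ v) = (g : Matrix ι ι F) *ᵥ (x *ᵥ v) := by
      rw [hx]
      simp only [Matrix.mulVec_mulVec, ← Matrix.mul_assoc, Units.mul_inv, Matrix.one_mul]
    rw [e, hfix _ (coe_mem_matrixSet hg)]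
    rcases hcases with h | h <;> rw [h]
    rw [Matrix.add_mulVec, Matrix.one_mulVec, hb.add_left, polar_self_eq hQ, h2, zero_mul, add_zero]
  intro k hk
  obtain ⟨c', hc'⟩ := hnorm k hk
  refine ⟨c', fun v => ?_⟩
  rw [← hQQ]
  simp only [Q']
  rw [Matrix.mulVec_mulVec, hK.comm ω hωK k hk, ← Matrix.mulVec_mulVec, QuadraticMap.polar_comm, hf.adj_spec,
    Matrix.mulVec_mulVec, hc', Matrix.smul_mulVec, Matrix.one_mulVec, hb.smul_right, QuadraticMap.polar_comm]

/-- A space of plus type has no quadratic field of similitudes when half its dimension is odd. -/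
theorem not_similitude_plus [Fintype F] {m : ℕ} (hcard : Fintype.card ι = 2 * m) (hm : Odd m)
    (hplus : IsPlusTypeOn Q ⊤) {K : Subalgebra F (Matrix ι ι F)} (hK : IsFieldSubalgebra 2 K)
    (hadj : IsAdjointClosedFor f K) : ¬ ∀ k ∈ K, ∃ c : F, ∀ v, Q (k *ᵥ v) = c * Q v := by
  intro hsim
  classical
  obtain ⟨Qf, rfl, hP⟩ := ONotMax.exists_qform hQ
  have hf := reflexForm_of_quadratic hQ
  rw [hf.isAdjointClosedFor_iff] at hadj
  obtain ⟨L, -, hL, hLd⟩ := hplus
  rw [finrank_top, Module.finrank_pi, hcard] at hLd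
  obtain ⟨m', rfl⟩ := hm
  have hstep : ∀ j, j ≤ m' + 1 → ∃ U : Submodule F (ι → F), finrank F U = 2 * j ∧
      (∀ k ∈ K, ∀ u ∈ U, k *ᵥ u ∈ U) ∧ IsTotallySingularQuad (⇑Qf) U := by
    intro j
    induction j with
    | zero =>
      exact fun _ => ⟨⊥, by simp, fun k _ u hu => by simp [(Submodule.mem_bot F).mp hu],
        fun u hu => by rw [(Submodule.mem_bot F).mp hu]; exact QuadraticMap.map_zero Qf⟩
    | succ j ih =>
      intro hj
      obtain ⟨U, hd, hinv, hts⟩ := ih (by omega)
      obtain ⟨W, hUW, hWd, hW⟩ := Witt.exists_extend Qf (ORefl.nondeg hP) (U := U) (L := L) hts hL (by omega)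
      obtain ⟨w, hw, hwU⟩ : ∃ w ∈ W, w ∉ U := by
        by_contra hcon
        push Not at hcon
        have := Submodule.finrank_mono (show W ≤ U from hcon)
        omega
      obtain ⟨h1, h2⟩ := grow hK hinv hwU
      refine ⟨U ⊔ line K w, by omega, h2, fun x hx => ?_⟩
      obtain ⟨a, ha, b, hb, rfl⟩ := Submodule.mem_sup.mp hx
      obtain ⟨k, hk, rfl⟩ := mem_line.mp hb
      obtain ⟨c, hc⟩ := hsim k hk
      have e : QuadraticMap.polar (⇑Qf) a (k *ᵥ w) = 0 := by
        have hm' : formAdj (RingEquiv.refl F) (QuadraticMap.polar ⇑Qf) k *ᵥ a ∈ U := hinv _ (hadj k hk) a ha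
        rw [QuadraticMap.polar_comm, hf.adj_spec, QuadraticMap.polar,
          hW _ (W.add_mem hw (hUW hm')), hW _ hw, hts _ hm', sub_zero, sub_zero]
      rw [Witt.q_add, hts a ha, hc, hW w hw, e, mul_zero, add_zero, add_zero]
  obtain ⟨U, hd, -, hts⟩ := hstep (m' + 1) le_rfl
  have h1 := Witt.finrank_le_half Qf (ORefl.nondeg hP) (W := U) hts
  rw [Module.finrank_pi] at h1
  omega

end Cfsg.Agent.Classical.OField
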