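/-
Orthogonal decompositions of even-dimensional spaces into lines and into planes.
-/
import Cfsg.Agent.Lib.Classical.OrthEvenCases
import Cfsg.Agent.Lib.Classical.DecompFamily
import Cfsg.Agent.Lib.Classical.FieldSubalgebra

set_option autoImplicit false
set_option linter.unusedSectionVars false
set_option linter.style.haveILetI false

namespace Cfsg.Agent.Classical.OEven

open Matrix Module Cfsg.Geo
open Cfsg.Agent.Classical

variable {ι : Type} [Fintype ι] [DecidableEq ι] {F : Type*} [Field F]

/-- Independent vectors in the members of a decomposition form a basis. -/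
theorem exists_member_basis {t k : ℕ} {D : Fin t → Submodule F (ι → F)} (hD : IsMDecomposition k D)
    (w : Fin t → Fin k → ι → F) (hw : ∀ i j, w i j ∈ D i) (hli : ∀ i, LinearIndependent F (w i)) :
    ∃ u : Basis (Fin t × Fin k) F (ι → F), ∀ x, u x = w x.1 x.2 := by
  let v : Fin t × Fin k → ι → F := fun x => w x.1 x.2
  have hspan : ⊤ ≤ Submodule.span F (Set.range v) := by
    rw [← hD.iSup_eq_top, iSup_le_iff]
    intro i
    have he : Submodule.span F (Set.range (w i)) = D i :=
      Submodule.eq_of_le_of_finrank_eq (Submodule.span_le.mpr (by rintro _ ⟨j, rfl⟩; exact hw i j))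
        (by rw [finrank_span_eq_card (hli i), Fintype.card_fin, hD.finrank_eq])
    rw [← he]
    exact Submodule.span_mono (by rintro _ ⟨j, rfl⟩; exact ⟨(i, j), rfl⟩)
  have htk : Fintype.card (Fin t × Fin k) = finrank F (ι → F) := by
    rw [Module.finrank_pi, Fintype.card_prod, Fintype.card_fin, Fintype.card_fin]
    have := Cfsg.Agent.Classical.IsMDecomposition.card_eq hD
    omega
  exact ⟨basisOfTopLeSpanOfCardEqFinrank v hspan htk, fun x => by simp [v]⟩

variable [Fintype F] {Q : (ι → F) → F} (hQ : IsNondegenerateQuadraticForm Q)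
include hQ

/-- A group with coordinates in a subfield on a rational basis lies in a subfield group. -/
theorem rational_of_frame {κ : Type} [Fintype κ] [DecidableEq κ] (u : Basis κ F (ι → F)) (F₀ : Subfield F) {ζ : F}
    (hq : ∀ j, ζ * Q (u j) ∈ F₀) (hp : ∀ j l, ζ * QuadraticMap.polar Q (u j) (u l) ∈ F₀)
    {H : Subgroup (GL ι F)} (hH : ∀ g ∈ H, ∀ j l, u.repr ((g : Matrix ι ι F) *ᵥ u j) l ∈ F₀) :
    ∃ P : GL ι F, IsQuadFormRationalStructure (fun v => ζ * Q v) F₀ P ∧ H ≤ subfieldSubgroup F₀ P := by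
  classical
  have e : ι ≃ κ := Fintype.equivOfCardEq (by rw [← finrank_eq_card_basis u, Module.finrank_pi])
  set B := u.reindex e.symm with hB
  let M : Matrix ι ι F := LinearMap.toMatrix' B.equivFun.symm.toLinearMap
  let M' : Matrix ι ι F := LinearMap.toMatrix' B.equivFun.toLinearMap
  let P : GL ι F := ⟨M, M', by rw [← LinearMap.toMatrix'_comp]; simp, by rw [← LinearMap.toMatrix'_comp]; simp⟩
  have hPv : ∀ x : ι → F, (P : Matrix ι ι F) *ᵥ x = B.equivFun.symm x := fun x => by
    change M *ᵥ x = _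
    rw [← Matrix.toLin'_apply, Matrix.toLin'_toMatrix']; rfl
  have hPi : ∀ x : ι → F, ((P⁻¹ : GL ι F) : Matrix ι ι F) *ᵥ x = B.equivFun x := fun x => by
    change M' *ᵥ x = _
    rw [← Matrix.toLin'_apply, Matrix.toLin'_toMatrix']; rfl
  have hb := hQ.polar_bilinear
  refine ⟨P, fun x hx => ?_, fun g hg => ?_⟩
  · have key : ∀ s : Finset ι, ζ * Q (∑ i ∈ s, x i • B i) ∈ F₀ := by
      intro s
      induction s using Finset.induction with
      | empty => simp [show Q 0 = 0 by simpa using hQ.smul 0 0]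
      | insert i s hi ih =>
        rw [Finset.sum_insert hi]
        have hsum : ∀ s' : Finset ι, ζ * QuadraticMap.polar Q (x i • B i) (∑ l ∈ s', x l • B l) ∈ F₀ := by
          intro s'
          induction s' using Finset.induction with
          | empty =>
            rw [Finset.sum_empty, ← zero_smul F (0 : ι → F), hb.smul_right, zero_mul, mul_zero]
            exact F₀.zero_mem
          | insert l s' hl ih' =>
            rw [Finset.sum_insert hl, hb.add_right, mul_add]
            refine add_mem ?_ ih'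
            rw [hb.smul_left, hb.smul_right, mul_left_comm, mul_left_comm ζ (x l), hB, Basis.reindex_apply,
              Basis.reindex_apply]
            exact mul_mem (hx i) (mul_mem (hx l) (hp _ _))
        have e2 : Q (x i • B i + ∑ l ∈ s, x l • B l) = Q (x i • B i) + Q (∑ l ∈ s, x l • B l) +
            QuadraticMap.polar Q (x i • B i) (∑ l ∈ s, x l • B l) := by simp only [QuadraticMap.polar]; ring
        rw [e2, mul_add, mul_add]
        refine add_mem (add_mem ?_ ih) (hsum s)
        rw [hQ.smul, mul_left_comm, hB, Basis.reindex_apply]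
        exact mul_mem (pow_mem (hx i) 2) (hq _)
    change ζ * Q _ ∈ F₀
    rw [hPv, Basis.equivFun_symm_apply]
    exact key Finset.univ
  · rw [mem_subfieldSubgroup]
    refine Subgroup.mem_sup_left (mem_range_map_subfield fun i j => ?_)
    have e1 : ((P⁻¹ * g * P : GL ι F) : Matrix ι ι F) *ᵥ Pi.single j 1 = B.equivFun ((g : Matrix ι ι F) *ᵥ B j) := by
      rw [Units.val_mul, Units.val_mul, ← Matrix.mulVec_mulVec, ← Matrix.mulVec_mulVec, hPv, hPi]
      congr 2
      simp [Basis.equivFun_symm_apply, Pi.single_apply]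
    have e2 := congrFun e1 i
    rw [Matrix.mulVec_single_one] at e2
    change (P⁻¹ * g * P : GL ι F).1 i j ∈ F₀
    rw [show (P⁻¹ * g * P : GL ι F).1 i j = _ from e2, Basis.equivFun_apply, hB, Basis.repr_reindex_apply,
      Basis.reindex_apply]
    exact hH g hg _ _

omit hQ [Fintype F] in
theorem sq_one {a : F} (h : a * a = 1) : a = 1 ∨ a = -1 := mul_self_eq_one_iff.mp h

/-- Ω does not preserve a decomposition into orthogonal lines. -/
theorem omega_not_lines (hn : 5 ≤ Fintype.card ι) (h2 : (2 : F) ≠ 0) {t : ℕ} {D : Fin t → Submodule F (ι → F)}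
    (hD : IsMDecomposition 1 D) : ¬ omegaGL Q ≤ decompositionStabilizer D := by
  intro hle
  obtain ⟨Qf, rfl, hP⟩ := ONotMax.exists_qform hQ
  obtain rfl : t = Fintype.card ι := by
    have := Cfsg.Agent.Classical.IsMDecomposition.card_eq hD
    omega
  obtain ⟨N, hN, hNN, hfam⟩ := exists_family hP hn
  obtain ⟨g, hg, hgm, -⟩ := hfam 1
  rw [one_smul] at hgm
  have h1 := eq_one_of_monomial_unipotent h2 hD (hle hg) (by rw [hgm, add_sub_cancel_left, hNN])
  rw [h1, Units.val_one, left_eq_add] at hgm
  exact hN hgm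

/-- Ω does not preserve a decomposition into orthogonal planes. -/
theorem omega_not_planes (hn : 5 ≤ Fintype.card ι) {t : ℕ} {D : Fin t → Submodule F (ι → F)}
    (hD : IsNondegenerateMDecomposition (QuadraticMap.polar Q) 2 D) : ¬ omegaGL Q ≤ decompositionStabilizer D := by
  intro hle
  classical
  obtain ⟨Qf, rfl, hP⟩ := ONotMax.exists_qform hQ
  have ht := hD.decomp.two_le
  let i₀ : Fin t := ⟨0, by omega⟩
  have hne : ∀ e v : ι → F, Qf e = 0 → QuadraticMap.polar ⇑Qf e v = 0 → Qf v ≠ 0 →
      ∀ i, ∀ x ∈ D i, x + QuadraticMap.polar ⇑Qf e x • v -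
        (QuadraticMap.polar ⇑Qf v x + Qf v * QuadraticMap.polar ⇑Qf e x) • e ∈ D i := by
    intro e v he hev hv
    obtain ⟨g, hg, hgx⟩ := ONotMax.exists_siegel hP (by omega) he hev
    obtain ⟨π, hπ⟩ := hle hg
    intro i x hx
    rw [← hgx]
    have hfix : π i = i := by
      by_contra hij
      have hd := Submodule.disjoint_def.mp (hD.decomp.indep.pairwiseDisjoint (Ne.symm hij))
      have himg : ∀ a ∈ D i, (g : Matrix ι ι F) *ᵥ a ∈ D (π i) := fun a ha => by rw [← hπ]; exact ⟨a, ha, rfl⟩
      let T : D i →ₗ[F] (ι → F) := ((Matrix.toLin' (g : Matrix ι ι F)) - LinearMap.id) ∘ₗ (D i).subtype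
      have hT : ∀ a : D i, T a = (g : Matrix ι ι F) *ᵥ (a : ι → F) - a := fun a => by simp [T]
      have hinj : Function.Injective T := by
        rw [injective_iff_map_eq_zero]
        intro a ha
        rw [hT, sub_eq_zero] at ha
        exact Subtype.ext (hd a a.2 (ha ▸ himg a a.2))
      have hle' : LinearMap.range T ≤ Submodule.span F {v, e} := by
        rintro _ ⟨a, rfl⟩
        rw [hT, hgx, Submodule.mem_span_pair]
        exact ⟨QuadraticMap.polar ⇑Qf e a, -(QuadraticMap.polar ⇑Qf v a + Qf v * QuadraticMap.polar ⇑Qf e a),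
          by rw [neg_smul]; abel⟩
      have hspd : finrank F (Submodule.span F ({v, e} : Set (ι → F))) ≤ 2 := by
        rw [show ({v, e} : Set (ι → F)) = Set.range ![v, e] by simp [Matrix.range_cons, Set.pair_comm]]
        exact (finrank_range_le_card _).trans (by simp)
      have hTd : finrank F (LinearMap.range T) = 2 := by
        rw [LinearMap.finrank_range_of_inj hinj, hD.decomp.finrank_eq]
      have heq : LinearMap.range T = Submodule.span F {v, e} :=
        Submodule.eq_of_le_of_finrank_le hle' (by omega)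
      have hpp : ∀ a b : D i, QuadraticMap.polar ⇑Qf (T a) (T b) = 2 * QuadraticMap.polar ⇑Qf (a : ι → F) b := fun a b => by
        rw [hT, hT, QuadraticMap.polar_sub_left, QuadraticMap.polar_sub_right, QuadraticMap.polar_sub_right,
          hD.orthogonal (π i) i hij _ (himg a a.2) _ b.2, hD.orthogonal i (π i) (Ne.symm hij) _ a.2 _ (himg b b.2)]
        have : QuadraticMap.polar ⇑Qf ((g : Matrix ι ι F) *ᵥ (a : ι → F)) ((g : Matrix ι ι F) *ᵥ (b : ι → F)) =
            QuadraticMap.polar ⇑Qf (a : ι → F) b := by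
          simp only [QuadraticMap.polar, ← Matrix.mulVec_add, ONotMax.omega_isometry hg]
        rw [this]; ring
      have hQT : ∀ a : D i, Qf (T a) = 2 * Qf (a : ι → F) := fun a => by
        rw [hT, sub_eq_add_neg, Witt.q_add, QuadraticMap.map_neg, ONotMax.omega_isometry hg, QuadraticMap.polar_neg_right,
          hD.orthogonal (π i) i hij _ (himg a a.2) _ a.2, neg_zero]
        ring
      by_cases h2 : (2 : F) = 0
      · obtain ⟨a, ha⟩ := (heq ▸ Submodule.subset_span (Or.inl rfl) : v ∈ LinearMap.range T)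
        exact hv (by rw [← ha, hQT, h2, zero_mul])
      obtain ⟨b, hb⟩ := (heq ▸ Submodule.subset_span (Or.inr rfl) : e ∈ LinearMap.range T)
      have hb0 : (b : ι → F) = 0 := by
        by_contra hb0
        obtain ⟨c, hc, hcb⟩ := (hD.nondegenerate i b b.2 hb0).2
        obtain ⟨p, q, hpq⟩ := Submodule.mem_span_pair.mp (hle' ⟨⟨c, hc⟩, rfl⟩)
        have h0 : QuadraticMap.polar ⇑Qf (T b) (T ⟨c, hc⟩) = 0 := by
          rw [hb, ← hpq, QuadraticMap.polar_add_right, QuadraticMap.polar_smul_right, QuadraticMap.polar_smul_right, hev,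
            QuadraticMap.polar_self, he]
          simp
        rw [hpp] at h0
        exact hcb ((mul_eq_zero.mp h0).resolve_left h2)
      have he0 : e = 0 := by rw [← hb, hT, hb0, Matrix.mulVec_zero, sub_zero]
      have : finrank F (Submodule.span F ({v, e} : Set (ι → F))) ≤ 1 := by
        rw [he0, Set.pair_comm, Submodule.span_insert_zero]
        exact (finrank_span_le_card _).trans (by simp)
      rw [← heq, hTd] at this
      omega
    have : (g : Matrix ι ι F) *ᵥ x ∈ D (π i) := by rw [← hπ]; exact ⟨x, hx, rfl⟩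
    rwa [hfix] at this
  have hall : ∀ e v : ι → F, Qf e = 0 → QuadraticMap.polar ⇑Qf e v = 0 → ∀ x ∈ D i₀,
      x + QuadraticMap.polar ⇑Qf e x • v -
        (QuadraticMap.polar ⇑Qf v x + Qf v * QuadraticMap.polar ⇑Qf e x) • e ∈ D i₀ := by
    intro e v he hev x hx
    by_cases hv : Qf v ≠ 0
    · exact hne e v he hev hv i₀ x hx
    push Not at hv
    obtain ⟨w, hew, hvw, hw⟩ : ∃ w, QuadraticMap.polar ⇑Qf e w = 0 ∧ QuadraticMap.polar ⇑Qf v w = 0 ∧ Qf w ≠ 0 := by
      by_contra hcon
      push Not at hcon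
      let φ : (ι → F) →ₗ[F] (Fin 2 → F) := LinearMap.pi ![QuadraticMap.polarBilin Qf e, QuadraticMap.polarBilin Qf v]
      have h1 := LinearMap.finrank_range_add_finrank_ker φ
      have h1' := Submodule.finrank_le (LinearMap.range φ)
      have h3 := Witt.finrank_le_half Qf (ORefl.nondeg hP) (W := LinearMap.ker φ) fun w hw =>
        hcon w (by simpa [φ] using congrFun (LinearMap.mem_ker.mp hw) 0)
          (by simpa [φ] using congrFun (LinearMap.mem_ker.mp hw) 1)
      rw [Module.finrank_pi] at h1 h1' h3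
      rw [Fintype.card_fin] at h1'
      omega
    have h1 := hne e (-w) he (by rw [QuadraticMap.polar_neg_right, hew, neg_zero])
      (by rwa [QuadraticMap.map_neg]) i₀ x hx
    have h2 := hne e (v + w) he (by rw [QuadraticMap.polar_add_right, hev, hew, add_zero])
      (by rw [Witt.q_add, hv, hvw, zero_add, add_zero]; exact hw) i₀ _ h1
    have hee : QuadraticMap.polar ⇑Qf e e = 0 := by rw [QuadraticMap.polar_self, he, smul_zero]
    have hve : QuadraticMap.polar ⇑Qf v e = 0 := by rwa [QuadraticMap.polar_comm]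
    have hwe : QuadraticMap.polar ⇑Qf w e = 0 := by rwa [QuadraticMap.polar_comm]
    have hww : QuadraticMap.polar ⇑Qf w w = 2 * Qf w := Cfsg.Agent.Small.QuadBasis.p_self Qf w
    convert h2 using 1
    simp only [QuadraticMap.polar_add_right, QuadraticMap.polar_sub_right, QuadraticMap.polar_smul_right,
      QuadraticMap.polar_add_left, QuadraticMap.polar_neg_left, QuadraticMap.polar_neg_right, QuadraticMap.map_neg,
      Witt.q_add, hv, hvw, hee, hve, hwe, hew, hev, hww, smul_eq_mul]
    module
  rcases eq_bot_or_top_of_siegel hP hn (W := D i₀) hall with h | h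
  · have := hD.decomp.finrank_eq i₀
    rw [h, finrank_bot] at this
    omega
  · have := hD.decomp.finrank_eq i₀
    rw [h, finrank_top, Module.finrank_pi] at this
    omega

/-- Lines in any even dimension: the field is a prime field or the group is realised over a subfield. -/
theorem lines_cases_any {m : ℕ} (hcard : Fintype.card ι = 2 * m) {H : Subgroup (GL ι F)}
    (hI : H ≤ isometryGroup F Q) {t : ℕ} {D : Fin t → Submodule F (ι → F)}
    (hD : IsOrthogonalMDecomposition Q 1 D) (hle : H ≤ decompositionStabilizer D) :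
    (2 : F) ≠ 0 ∧ (((Fintype.card F).Prime ∧ (Odd m → (IsPlusTypeOn Q ⊤ ↔ IsSquare (-1 : F)))) ∨
      ∃ (F₀ : Subfield F) (r : ℕ) (P : GL ι F) (ζ : F), r.Prime ∧ Fintype.card F = Nat.card F₀ ^ r ∧ ζ ≠ 0 ∧
        IsQuadFormRationalStructure (fun v => ζ * Q v) F₀ P ∧ H ≤ subfieldSubgroup F₀ P) := by
  classical
  have ht := hD.decomp.decomp.two_le
  let i₀ : Fin t := ⟨0, by omega⟩
  have h2 := odd_dim_two_ne_zero hQ (hD.decomp.nondegenerate i₀) (by rw [hD.decomp.decomp.finrank_eq]; exact odd_one)
  refine ⟨h2, ?_⟩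
  obtain ⟨v₀, hv₀, hv₀0⟩ := Submodule.exists_mem_ne_zero_of_ne_bot (p := D i₀) fun e => by
    have := hD.decomp.decomp.finrank_eq i₀
    rw [e, finrank_bot] at this
    omega
  have hb := hQ.polar_bilinear
  set c := Q v₀
  have hspan₀ : ∀ i, ∀ w ∈ D i, w ≠ 0 → ∀ x ∈ D i, ∃ a : F, a • w = x := fun i w hw hw0 x hx => by
    obtain ⟨a, ha⟩ := (finrank_eq_one_iff_of_nonzero' (⟨w, hw⟩ : D i) (fun e => hw0 (congrArg Subtype.val e))).mp
      (hD.decomp.decomp.finrank_eq i) ⟨x, hx⟩
    exact ⟨a, congrArg Subtype.val ha⟩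
  have hc : c ≠ 0 := fun hc0 => by
    obtain ⟨x, hx, hxv⟩ := (hD.decomp.nondegenerate i₀ v₀ hv₀ hv₀0).2
    obtain ⟨a, rfl⟩ := hspan₀ i₀ v₀ hv₀ hv₀0 x hx
    exact hxv (by rw [hb.smul_right, polar_self_eq hQ, show Q v₀ = 0 from hc0, mul_zero, mul_zero])
  choose L hL using fun i => hD.isometric i₀ i
  let w : Fin t → ι → F := fun i => (L i ⟨v₀, hv₀⟩ : ι → F)
  have hwm : ∀ i, w i ∈ D i := fun i => (L i _).2
  have hwq : ∀ i, Q (w i) = c := fun i => hL i _
  have hw0 : ∀ i, w i ≠ 0 := fun i e => hc (by rw [← hwq i, e]; simpa using hQ.smul 0 0)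
  have hwp : ∀ i l, QuadraticMap.polar Q (w i) (w l) = if i = l then 2 * c else 0 := fun i l => by
    split_ifs with h
    · rw [h, polar_self_eq hQ, hwq]
    · exact hD.decomp.orthogonal i l h _ (hwm i) _ (hwm l)
  obtain ⟨u, hu⟩ := exists_member_basis hD.decomp.decomp (fun i (_ : Fin 1) => w i) (fun i _ => hwm i)
    (fun i => linearIndependent_unique_iff.mpr (hw0 i))
  have htn : t = 2 * m := by
    have := Cfsg.Agent.Classical.IsMDecomposition.card_eq hD.decomp.decomp
    omega
  have hne : ringChar F ≠ 2 := fun h => h2 (by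
    have := ringChar.Nat.cast_ringChar (R := F)
    rw [h] at this
    exact_mod_cast this)
  have htype : Odd m → (IsPlusTypeOn Q ⊤ ↔ IsSquare (-1 : F)) := fun hodd => by
    rw [plus_iff_basis_det hQ h2 hcard u,
      show (Matrix.of fun x y => QuadraticMap.polar Q (u x) (u y)) = Matrix.diagonal fun _ => 2 * c by
        ext ⟨i, a⟩ ⟨l, b⟩
        simp [hu, hwp, Matrix.diagonal_apply, Fin.fin_one_eq_zero],
      Matrix.det_diagonal, Finset.prod_const, Finset.card_univ, Fintype.card_prod, Fintype.card_fin, Fintype.card_fin,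
      htn, hodd.neg_one_pow, mul_one]
    have h0 : (2 * c) ^ m ≠ 0 := pow_ne_zero _ (mul_ne_zero h2 hc)
    constructor
    · rintro ⟨s, hs⟩
      refine ⟨s / (2 * c) ^ m, ?_⟩
      rw [div_mul_div_comm, ← hs, two_mul m, pow_add]
      field_simp
    · rintro ⟨s, hs⟩
      exact ⟨s * (2 * c) ^ m, by rw [two_mul m, pow_add]; linear_combination ((2 * c) ^ m * (2 * c) ^ m) * hs⟩
  obtain ⟨p, hchar⟩ := CharP.exists F
  obtain ⟨⟨e, he⟩, hp, hce⟩ := FiniteField.card F p
  change Fintype.card F = p ^ e at hce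
  rcases Nat.lt_or_ge 1 e with he1 | he1
  swap
  · obtain rfl : e = 1 := by omega
    rw [pow_one] at hce
    exact Or.inl ⟨hce ▸ hp, htype⟩
  obtain ⟨F₁, hF₁, -⟩ := exists_subfield_pow (b := 1) hp hce (one_dvd e) one_pos
  have hF₁top : F₁ ≠ ⊤ := fun h => by
    rw [h, Nat.card_congr (Subfield.topEquiv : (⊤ : Subfield F) ≃+* F).toEquiv, Nat.card_eq_fintype_card, hce] at hF₁
    have := Nat.pow_right_injective hp.two_le hF₁
    omega
  obtain ⟨F₀, r, hr, hc₀, -, -⟩ := exists_prime_index_subfield F₁ hF₁top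
  have h2mem : (2 : F) ∈ F₀ := by simpa [one_add_one_eq_two] using add_mem F₀.one_mem F₀.one_mem
  obtain ⟨P, hP, hPH⟩ := rational_of_frame hQ u F₀ (ζ := c⁻¹) (fun x => by
      rw [hu, hwq, inv_mul_cancel₀ hc]; exact F₀.one_mem)
    (fun x y => by
      rw [hu, hu, hwp]
      split_ifs
      · rw [mul_left_comm, inv_mul_cancel₀ hc, mul_one]; exact h2mem
      · rw [mul_zero]; exact F₀.zero_mem)
    (H := H) (fun g hg x y => by
      obtain ⟨π, hπ⟩ := hle hg
      have hm : (g : Matrix ι ι F) *ᵥ w x.1 ∈ D (π x.1) := by rw [← hπ]; exact ⟨_, hwm x.1, rfl⟩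
      obtain ⟨a, ha⟩ := hspan₀ _ _ (hwm _) (hw0 _) _ hm
      have ha2 : a * a = 1 := by
        have h1 := mem_isometryGroup_iff.mp (hI hg) (w x.1)
        rw [← ha, hQ.smul, hwq, hwq, _root_.sq] at h1
        exact mul_right_cancel₀ hc (by rw [one_mul]; exact h1)
      rw [hu, ← ha, LinearEquiv.map_smul, show w (π x.1) = u (π x.1, 0) from (hu (π x.1, 0)).symm, Basis.repr_self,
        Finsupp.smul_apply, Finsupp.single_apply, smul_eq_mul]
      split_ifs
      · rw [mul_one]
        rcases sq_one ha2 with h | h <;> rw [h]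
        exacts [F₀.one_mem, neg_mem F₀.one_mem]
      · rw [mul_zero]; exact F₀.zero_mem)
  exact Or.inr ⟨F₀, r, P, c⁻¹, hr, hc₀, inv_ne_zero hc, hP, hPH⟩

/-- Lines: the field is a prime field or the group is realised over a subfield. -/
theorem lines_cases {m : ℕ} (hcard : Fintype.card ι = 2 * m) (hodd : Odd m) {H : Subgroup (GL ι F)}
    (hI : H ≤ isometryGroup F Q) {t : ℕ} {D : Fin t → Submodule F (ι → F)}
    (hD : IsOrthogonalMDecomposition Q 1 D) (hle : H ≤ decompositionStabilizer D) :
    (2 : F) ≠ 0 ∧ (((Fintype.card F).Prime ∧ (IsPlusTypeOn Q ⊤ ↔ IsSquare (-1 : F))) ∨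
      ∃ (F₀ : Subfield F) (r : ℕ) (P : GL ι F) (ζ : F), r.Prime ∧ Fintype.card F = Nat.card F₀ ^ r ∧ ζ ≠ 0 ∧
        IsQuadFormRationalStructure (fun v => ζ * Q v) F₀ P ∧ H ≤ subfieldSubgroup F₀ P) := by
  obtain ⟨h2, h⟩ := lines_cases_any hQ hcard hI hD hle
  exact ⟨h2, h.imp_left fun h => ⟨h.1, h.2 hodd⟩⟩

/-- Hyperbolic pairs in isometric planes of plus type. -/
theorem exists_plane_pairs {t : ℕ} {D : Fin t → Submodule F (ι → F)} (hD : IsOrthogonalMDecomposition Q 2 D)
    (i₀ : Fin t) (hplus : IsPlusTypeOn Q (D i₀)) :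
    ∃ E E' : Fin t → ι → F, (∀ i, E i ∈ D i) ∧ (∀ i, E' i ∈ D i) ∧
      (∀ (i : Fin t) (a b : F), Q (a • E i + b • E' i) = a * b) ∧
      (∀ i, LinearIndependent F ![E i, E' i]) ∧
      ∀ i, ∀ w ∈ D i, ∃ a b : F, w = a • E i + b • E' i := by
  classical
  have hb := hQ.polar_bilinear
  have hadd : ∀ x y, Q (x + y) = Q x + Q y + QuadraticMap.polar Q x y := fun x y => by
    simp only [QuadraticMap.polar]; ring
  obtain ⟨U, hU, hUq, hUd⟩ := hplus
  rw [hD.decomp.decomp.finrank_eq] at hUd
  obtain ⟨e, he, he0⟩ := Submodule.exists_mem_ne_zero_of_ne_bot (p := U) fun h => by rw [h, finrank_bot] at hUd; omega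
  have heq : Q e = 0 := hUq e he
  obtain ⟨x, hx, hex⟩ := (hD.decomp.nondegenerate i₀ e (hU he) he0).2
  set x' := (QuadraticMap.polar Q e x)⁻¹ • x with hx'
  have hex' : QuadraticMap.polar Q e x' = 1 := by rw [hx', hb.smul_right, inv_mul_cancel₀ hex]
  have hx'm : x' ∈ D i₀ := (D i₀).smul_mem _ hx
  clear_value x'
  set e' := x' + (-Q x') • e with he'def
  have hee : QuadraticMap.polar Q e e = 0 := by rw [polar_self_eq hQ, heq, mul_zero]
  have he'q : Q e' = 0 := by
    rw [he'def, hadd, hQ.smul, heq, hb.smul_right, QuadraticMap.polar_comm Q x' e, hex']; ring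
  have hee' : QuadraticMap.polar Q e e' = 1 := by rw [he'def, hb.add_right, hb.smul_right, hee, hex', mul_zero, add_zero]
  have he'm : e' ∈ D i₀ := (D i₀).add_mem hx'm ((D i₀).smul_mem _ (hU he))
  choose L hL using fun i => hD.isometric i₀ i
  let E : Fin t → ι → F := fun i => (L i ⟨e, hU he⟩ : ι → F)
  let E' : Fin t → ι → F := fun i => (L i ⟨e', he'm⟩ : ι → F)
  have hval : ∀ (i : Fin t) (a b : F), Q (a • E i + b • E' i) = a * b := fun i a b => by
    have : a • E i + b • E' i = (L i (a • ⟨e, hU he⟩ + b • ⟨e', he'm⟩) : ι → F) := by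
      rw [map_add, LinearEquiv.map_smul, LinearEquiv.map_smul]; rfl
    rw [this, hL]
    change Q (a • e + b • e') = _
    rw [hadd, hQ.smul, hQ.smul, heq, he'q, hb.smul_left, hb.smul_right, hee']; ring
  have hli : ∀ i, LinearIndependent F ![E i, E' i] := fun i => by
    refine LinearIndependent.pair_iff.mpr fun a b hab => ?_
    have h0 : ∀ p q : F, Q ((a • E i + b • E' i) + (p • E i + q • E' i)) = p * q := fun p q => by
      rw [hab, zero_add, hval]
    have h1 : ∀ p q : F, (a + p) * (b + q) = p * q := fun p q => by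
      rw [← hval i, ← h0 p q]; congr 1; module
    constructor
    · linear_combination h1 0 1 - h1 0 0
    · linear_combination h1 1 0 - h1 0 0
  refine ⟨E, E', fun i => (L i _).2, fun i => (L i _).2, hval, hli, fun i w hw => ?_⟩
  have hsp : Submodule.span F (Set.range ![E i, E' i]) = D i :=
    Submodule.eq_of_le_of_finrank_eq (Submodule.span_le.mpr (by
      rintro _ ⟨j, rfl⟩
      fin_cases j
      exacts [(L i _).2, (L i _).2])) (by rw [finrank_span_eq_card (hli i), Fintype.card_fin, hD.decomp.decomp.finrank_eq])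
  rw [← hsp, Submodule.mem_span_range_iff_exists_fun] at hw
  obtain ⟨c, hc⟩ := hw
  exact ⟨c 0, c 1, by rw [← hc, Fin.sum_univ_two]; rfl⟩

/-- Five isometric planes: the space has plus type exactly when they do. -/
theorem planes_type {D : Fin 5 → Submodule F (ι → F)} (hD : IsOrthogonalMDecomposition Q 2 D) (i : Fin 5) :
    IsPlusTypeOn Q (D i) ↔ IsPlusTypeOn Q ⊤ := by
  classical
  have hcard : Fintype.card ι = 10 := by
    have := Cfsg.Agent.Classical.IsMDecomposition.card_eq hD.decomp.decomp
    omega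
  have hb := hQ.polar_bilinear
  obtain ⟨Qf, hQf, hP⟩ := ONotMax.exists_qform hQ
  subst hQf
  constructor
  · intro hp
    obtain ⟨E, E', hEm, hEm', hval, hli, -⟩ := exists_plane_pairs hQ hD i hp
    obtain ⟨u, hu⟩ := exists_member_basis hD.decomp.decomp (fun j => ![E j, E' j]) (fun j s => by
      fin_cases s
      exacts [hEm j, hEm' j]) hli
    refine plus_of_spans hQ (totallySingular_span hQ E (fun j => by simpa using hval j 1 0)
      (fun j l h => hD.decomp.orthogonal j l h _ (hEm j) _ (hEm l))) ?_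
    have hliE : LinearIndependent F E := by
      have := u.linearIndependent.comp (fun j : Fin 5 => (j, (0 : Fin 2))) (fun _ _ h => congrArg Prod.fst h)
      rwa [show (⇑u ∘ fun j : Fin 5 => (j, (0 : Fin 2))) = E from funext fun j => by simp [hu]] at this
    rw [finrank_span_eq_card hliE, Fintype.card_fin, hcard]
  · intro hV
    by_contra hnot
    have haniso : ∀ j, ∀ x ∈ D j, Qf x = 0 → x = 0 := by
      intro j x hx hx0
      by_contra hne
      obtain ⟨L, hL⟩ := hD.isometric j i
      refine hnot ⟨Submodule.span F {(L ⟨x, hx⟩ : ι → F)}, (Submodule.span_singleton_le_iff_mem _ _).mpr (L _).2,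
        fun w hw => ?_, ?_⟩
      · obtain ⟨c, rfl⟩ := Submodule.mem_span_singleton.mp hw
        rw [QuadraticMap.map_smul, hL, hx0, smul_zero]
      · rw [finrank_span_singleton (fun e => hne (congrArg Subtype.val (L.injective
          ((Subtype.ext e : L ⟨x, hx⟩ = 0).trans L.map_zero.symm)))), hD.decomp.decomp.finrank_eq]
    obtain ⟨p, hchar⟩ := CharP.exists F
    haveI : NeZero p := ⟨fun h => by subst h; haveI : CharZero F := CharP.charP_to_charZero F; exact not_finite F⟩
    obtain ⟨a, b, hab⟩ := CharP.sq_add_sq F p (-1)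
    push_cast at hab
    choose L hL using fun j => hD.isometric 0 j
    let T : D 0 × D 0 →ₗ[F] (ι → F) :=
      ((D 0).subtype ∘ₗ (L 0).toLinearMap ∘ₗ LinearMap.fst F _ _) +
        ((D 1).subtype ∘ₗ (L 1).toLinearMap ∘ₗ ((a : F) • LinearMap.fst F _ _ - (b : F) • LinearMap.snd F _ _)) +
        ((D 2).subtype ∘ₗ (L 2).toLinearMap ∘ₗ ((b : F) • LinearMap.fst F _ _ + (a : F) • LinearMap.snd F _ _)) +
        ((D 3).subtype ∘ₗ (L 3).toLinearMap ∘ₗ LinearMap.snd F _ _)
    have hT : ∀ x y, T (x, y) = (L 0 x : ι → F) + (L 1 ((a : F) • x - (b : F) • y) : ι → F) +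
        (L 2 ((b : F) • x + (a : F) • y) : ι → F) + (L 3 y : ι → F) := fun x y => rfl
    have ho : ∀ {j l : Fin 5}, j ≠ l → ∀ (x : D j) (y : D l), QuadraticMap.polar ⇑Qf (x : ι → F) (y : ι → F) = 0 :=
      fun h x y => hD.decomp.orthogonal _ _ h _ x.2 _ y.2
    have hpz : ∀ j (x : D j), (∀ y : D j, QuadraticMap.polar ⇑Qf (x : ι → F) (y : ι → F) = 0) → x = 0 := by
      intro j x h
      by_contra hne
      obtain ⟨y, hy, hxy⟩ := (hD.decomp.nondegenerate j x x.2 fun e => hne (Subtype.ext e)).2
      exact hxy (h ⟨y, hy⟩)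
    have hinj : Function.Injective T := by
      rw [injective_iff_map_eq_zero]
      rintro ⟨x, y⟩ h
      rw [hT] at h
      refine Prod.ext ((L 0).injective ((hpz 0 _ fun z => ?_).trans (L 0).map_zero.symm))
        ((L 3).injective ((hpz 3 _ fun z => ?_).trans (L 3).map_zero.symm))
      · have e := congrArg (fun v => QuadraticMap.polar ⇑Qf v (z : ι → F)) h
        simpa [QuadraticMap.polar_add_left, ho (show (1 : Fin 5) ≠ 0 by decide), ho (show (2 : Fin 5) ≠ 0 by decide),
          ho (show (3 : Fin 5) ≠ 0 by decide)] using e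
      · have e := congrArg (fun v => QuadraticMap.polar ⇑Qf v (z : ι → F)) h
        simpa [QuadraticMap.polar_add_left, ho (show (0 : Fin 5) ≠ 3 by decide), ho (show (1 : Fin 5) ≠ 3 by decide),
          ho (show (2 : Fin 5) ≠ 3 by decide)] using e
    have hts : IsTotallySingularQuad (⇑Qf) (LinearMap.range T) := by
      rintro _ ⟨⟨x, y⟩, rfl⟩
      rw [hT, Witt.q_add, Witt.q_add, Witt.q_add, QuadraticMap.polar_add_left, QuadraticMap.polar_add_left,
        QuadraticMap.polar_add_left, ho (by decide), ho (by decide), ho (by decide), ho (by decide), ho (by decide),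
        ho (by decide), hL, hL, hL, hL, Submodule.coe_sub, Submodule.coe_add, Submodule.coe_smul, Submodule.coe_smul,
        Submodule.coe_smul, Submodule.coe_smul, sub_eq_add_neg, Witt.q_add, Witt.q_add, QuadraticMap.map_neg,
        QuadraticMap.map_smul, QuadraticMap.map_smul, QuadraticMap.map_smul, QuadraticMap.map_smul,
        QuadraticMap.polar_neg_right, QuadraticMap.polar_smul_left, QuadraticMap.polar_smul_left,
        QuadraticMap.polar_smul_right, QuadraticMap.polar_smul_right]
      simp only [smul_eq_mul]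
      linear_combination (Qf (x : ι → F) + Qf (y : ι → F)) * hab
    have hTd : finrank F (LinearMap.range T) = 4 := by
      rw [LinearMap.finrank_range_of_inj hinj, Module.finrank_prod, hD.decomp.decomp.finrank_eq]
    obtain ⟨U₅, -, hU₅, hU₅d⟩ := hV
    rw [finrank_top, Module.finrank_pi, hcard] at hU₅d
    obtain ⟨W, hTW, hWd, hW⟩ := Witt.exists_extend Qf (ORefl.nondeg hP) (U := LinearMap.range T) (L := U₅) hts hU₅
      (by omega)
    have hsum : polarPerp hQ (LinearMap.range T) = LinearMap.range T ⊔ D 4 := by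
      refine (Submodule.eq_of_le_of_finrank_le (sup_le (fun v hv => ?_) fun v hv => ?_) ?_).symm
      · exact (mem_polarPerp hQ).mpr fun w hw => by
          rw [QuadraticMap.polar, hts _ ((LinearMap.range T).add_mem hw hv), hts w hw, hts v hv, sub_zero, sub_zero]
      · refine (mem_polarPerp hQ).mpr ?_
        rintro _ ⟨⟨x, y⟩, rfl⟩
        rw [hT, QuadraticMap.polar_add_left, QuadraticMap.polar_add_left, QuadraticMap.polar_add_left,
          ho (by decide) _ (⟨v, hv⟩ : D 4), ho (by decide) _ (⟨v, hv⟩ : D 4), ho (by decide) _ (⟨v, hv⟩ : D 4),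
          ho (by decide) _ (⟨v, hv⟩ : D 4)]
        simp
      · have hdisj : LinearMap.range T ⊓ D 4 = ⊥ :=
          (Submodule.eq_bot_iff _).mpr fun v ⟨h1, h2⟩ => haniso 4 v h2 (hts v h1)
        have h1 := Submodule.finrank_sup_add_finrank_inf_eq (LinearMap.range T) (D 4)
        have h2 := finrank_polarPerp hQ (LinearMap.range T)
        have h3 := hD.decomp.decomp.finrank_eq 4
        rw [hdisj, finrank_bot] at h1
        omega
    obtain ⟨w, hw, hwT⟩ : ∃ w ∈ W, w ∉ LinearMap.range T := by
      by_contra hcon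
      push Not at hcon
      have := Submodule.finrank_mono (show W ≤ LinearMap.range T from hcon)
      omega
    have hwp : w ∈ polarPerp hQ (LinearMap.range T) := (mem_polarPerp hQ).mpr fun v hv => by
      rw [QuadraticMap.polar, hW _ (W.add_mem (hTW hv) hw), hW v (hTW hv), hW w hw, sub_zero, sub_zero]
    rw [hsum] at hwp
    obtain ⟨v, hv, d, hd, rfl⟩ := Submodule.mem_sup.mp hwp
    refine hwT ?_
    have hd0 : Qf d = 0 := hW d (by simpa using W.sub_mem hw (hTW hv))
    rw [haniso 4 d hd hd0, add_zero]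
    exact hv

/-- An isometry carries a vector of value one in a plane to such a vector in a plane. -/
theorem plane_move {H : Subgroup (GL ι F)} (hI : H ≤ isometryGroup F Q) {t : ℕ}
    {D : Fin t → Submodule F (ι → F)} (hle : H ≤ decompositionStabilizer D) {E E' : Fin t → ι → F}
    (hspan : ∀ i, ∀ w ∈ D i, ∃ a b : F, w = a • E i + b • E' i)
    (hval : ∀ (i : Fin t) (a b : F), Q (a • E i + b • E' i) = a * b)
    {g : GL ι F} (hg : g ∈ H) {i : Fin t} {x : ι → F} (hx : x ∈ D i) (hx1 : Q x = 1) :
    ∃ (j : Fin t) (a b : F), a * b = 1 ∧ (g : Matrix ι ι F) *ᵥ x = a • E j + b • E' j := by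
  obtain ⟨π, hπ⟩ := hle hg
  obtain ⟨a, b, hab⟩ := hspan (π i) _ (show (g : Matrix ι ι F) *ᵥ x ∈ D (π i) by rw [← hπ]; exact ⟨x, hx, rfl⟩)
  refine ⟨π i, a, b, ?_, hab⟩
  rw [← hval (π i), ← hab, mem_isometryGroup_iff.mp (hI hg), hx1]

/-- Planes of plus type over fields with at most three elements are never irreducible. -/
theorem planes_reducible (hq : Fintype.card F ≤ 3) {H : Subgroup (GL ι F)} (hI : H ≤ isometryGroup F Q)
    (hirr : ActsIrreducibly (matrixSet H)) {t : ℕ} {D : Fin t → Submodule F (ι → F)}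
    (hD : IsOrthogonalMDecomposition Q 2 D) (i₀ : Fin t) (hplus : IsPlusTypeOn Q (D i₀)) :
    ¬ H ≤ decompositionStabilizer D := by
  intro hle
  classical
  obtain ⟨E, E', hEm, hEm', hval, hli, hspan⟩ := exists_plane_pairs hQ hD i₀ hplus
  have hunit : ∀ a b : F, a * b = 1 → a = b := by
    intro a b hab
    have ha : a ≠ 0 := left_ne_zero_of_mul_eq_one hab
    have h3 : a * a = 1 := by
      have hc : 2 ≤ Fintype.card F := Fintype.one_lt_card
      have h1 := FiniteField.pow_card_sub_one_eq_one a ha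
      rcases (show Fintype.card F = 2 ∨ Fintype.card F = 3 by omega) with e | e <;> rw [e] at h1
      · have : a = 1 := by simpa using h1
        rw [this, mul_one]
      · simpa [pow_two] using h1
    exact mul_left_cancel₀ ha (h3.trans hab.symm)
  let v : Fin t → ι → F := fun i => E i + E' i
  have hv : ∀ i, Q (v i) = 1 := fun i => by simpa [v] using hval i 1 1
  rcases hirr (Submodule.span F (Set.range v)) (by
      rintro _ ⟨g, hg, rfl⟩
      rw [Submodule.map_span, Submodule.span_le]
      rintro _ ⟨_, ⟨i, rfl⟩, rfl⟩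
      obtain ⟨j, a, b, hab, e⟩ := plane_move hQ hI hle hspan hval hg ((D i).add_mem (hEm i) (hEm' i)) (hv i)
      rw [Matrix.toLin'_apply, e, ← hunit a b hab, ← smul_add]
      exact Submodule.smul_mem _ a (Submodule.subset_span ⟨j, rfl⟩)) with h | h
  · have h0 : v i₀ ∈ (⊥ : Submodule F (ι → F)) := h ▸ Submodule.subset_span ⟨i₀, rfl⟩
    have h1 := hv i₀
    rw [(Submodule.mem_bot F).mp h0, show Q 0 = 0 by simpa using hQ.smul 0 0] at h1
    exact zero_ne_one h1
  · have h1 := finrank_range_le_card (R := F) v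
    rw [Set.finrank, h, finrank_top, Module.finrank_pi, Fintype.card_fin] at h1
    have h2 := Cfsg.Agent.Classical.IsMDecomposition.card_eq hD.decomp.decomp
    have h3 := hD.decomp.decomp.two_le
    omega

/-- Planes of plus type over the field of four elements: a subfield group. -/
theorem planes_four (hq : Fintype.card F = 4) {H : Subgroup (GL ι F)} (hI : H ≤ isometryGroup F Q) {t : ℕ}
    {D : Fin t → Submodule F (ι → F)} (hD : IsOrthogonalMDecomposition Q 2 D) (i₀ : Fin t)
    (hplus : IsPlusTypeOn Q (D i₀)) (hle : H ≤ decompositionStabilizer D) :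
    ∃ (F₀ : Subfield F) (P : GL ι F), Fintype.card F = Nat.card F₀ ^ 2 ∧
      IsQuadFormRationalStructure (fun v => 1 * Q v) F₀ P ∧ H ≤ subfieldSubgroup F₀ P := by
  classical
  haveI := char_two_of_card_four hq
  obtain ⟨E, E', hEm, hEm', hval, hli, hspan⟩ := exists_plane_pairs hQ hD i₀ hplus
  obtain ⟨F₀, hF₀, -⟩ := exists_subfield_pow (b := 1) Nat.prime_two (hq.trans (show (4 : ℕ) = 2 ^ 2 by norm_num))
    (one_dvd 2) one_pos
  obtain ⟨ω, hω0, hω1⟩ : ∃ ω : F, ω ≠ 0 ∧ ω ≠ 1 := by
    by_contra hcon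
    push Not at hcon
    have : (Finset.univ : Finset F) ⊆ {0, 1} := fun x _ => by
      by_cases hx : x = 0
      · simp [hx]
      · simp [hcon x hx]
    have := Finset.card_le_card this
    rw [Finset.card_univ, hq] at this
    have := Finset.card_le_two (a := (0 : F)) (b := 1)
    omega
  have hω3 : ω ^ 3 = 1 := by
    have := FiniteField.pow_card_sub_one_eq_one ω hω0
    rwa [hq] at this
  have hω : ω * ω + ω + 1 = 0 := by
    have : (ω - 1) * (ω * ω + ω + 1) = 0 := by linear_combination hω3
    exact (mul_eq_zero.mp this).resolve_left (sub_ne_zero.mpr hω1)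
  have h2 : (2 : F) = 0 := CharTwo.two_eq_zero
  let x : Fin t → Fin 2 → ι → F := fun i => ![E i + E' i, ω • E i + (ω * ω) • E' i]
  have hxm : ∀ i s, x i s ∈ D i := fun i s => by
    fin_cases s
    exacts [(D i).add_mem (hEm i) (hEm' i), (D i).add_mem ((D i).smul_mem _ (hEm i)) ((D i).smul_mem _ (hEm' i))]
  have hxli : ∀ i, LinearIndependent F (x i) := fun i => by
    refine LinearIndependent.pair_iff.mpr fun a b hab => ?_
    obtain ⟨e1, e2⟩ := LinearIndependent.pair_iff.mp (hli i) (a + b * ω) (a + b * (ω * ω)) (by rw [← hab]; module)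
    have : b * (ω * (ω - 1)) = 0 := by linear_combination e2 - e1
    have hb0 : b = 0 := (mul_eq_zero.mp this).resolve_right (mul_ne_zero hω0 (sub_ne_zero.mpr hω1))
    exact ⟨by linear_combination e1 - ω * hb0, hb0⟩
  obtain ⟨u, hu⟩ := exists_member_basis hD.decomp.decomp x hxm hxli
  have hxq : ∀ i s, Q (x i s) = 1 := fun i s => by
    fin_cases s
    · simpa [x] using hval i 1 1
    · simpa [x] using (hval i ω (ω * ω)).trans (by linear_combination hω3)
  have hxp : ∀ i s i' s', QuadraticMap.polar Q (x i s) (x i' s') ∈ F₀ := by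
    intro i s i' s'
    rcases eq_or_ne i i' with rfl | hne
    · rcases eq_or_ne s s' with rfl | hs
      · rw [polar_self_eq hQ, h2, zero_mul]; exact F₀.zero_mem
      · have e : QuadraticMap.polar Q (x i 0) (x i 1) = 1 := by
          rw [QuadraticMap.polar, hxq, hxq]
          have : x i 0 + x i 1 = (1 + ω) • E i + (1 + ω * ω) • E' i := by simp [x]; module
          rw [this, hval]
          linear_combination hω + hω3 - h2
        rcases (show s = 0 ∨ s = 1 by omega) with rfl | rfl <;> rcases (show s' = 0 ∨ s' = 1 by omega) with rfl | rfl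
        exacts [absurd rfl hs, e ▸ F₀.one_mem, (QuadraticMap.polar_comm Q _ _).trans e ▸ F₀.one_mem, absurd rfl hs]
    · rw [hD.decomp.orthogonal i i' hne _ (hxm i s) _ (hxm i' s')]; exact F₀.zero_mem
  obtain ⟨P, hP, hPH⟩ := rational_of_frame hQ u F₀ (ζ := 1) (fun y => by rw [hu, hxq, one_mul]; exact F₀.one_mem)
    (fun y z => by rw [hu, hu, one_mul]; exact hxp _ _ _ _) (H := H) (fun g hg y z => by
      rw [hu]
      obtain ⟨j, a, b, hab, e⟩ := plane_move hQ hI hle hspan hval hg (hxm y.1 y.2) (hxq y.1 y.2)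
      have ha0 : a ≠ 0 := left_ne_zero_of_mul_eq_one hab
      have hcases : a = 1 ∨ a = ω ∨ a = ω * ω := by
        by_contra hcon
        push Not at hcon
        have hsub : ({0, 1, ω, ω * ω, a} : Finset F) ⊆ Finset.univ := Finset.subset_univ _
        have h5 := Finset.card_le_card hsub
        have hωω0 : ω * ω ≠ 0 := mul_ne_zero hω0 hω0
        have hωω1 : ω * ω ≠ 1 := fun h => hω1 (by linear_combination hω3 - ω * h)
        have hωω : ω * ω ≠ ω := fun h => hω1 (mul_left_cancel₀ hω0 (by rw [mul_one]; exact h))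
        rw [Finset.card_univ, hq, Finset.card_insert_of_notMem (by simp [Ne.symm hω0, Ne.symm hωω0, Ne.symm ha0]),
          Finset.card_insert_of_notMem (by simp [Ne.symm hω1, Ne.symm hωω1, Ne.symm hcon.1]),
          Finset.card_insert_of_notMem (by simp [Ne.symm hωω, Ne.symm hcon.2.1]),
          Finset.card_insert_of_notMem (by simp [Ne.symm hcon.2.2]), Finset.card_singleton] at h5
        omega
      have hcoef : ∃ c d : F, c ∈ F₀ ∧ d ∈ F₀ ∧ (g : Matrix ι ι F) *ᵥ x y.1 y.2 = c • u (j, 0) + d • u (j, 1) := by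
        have hb' : b = a * a := by
          rcases hcases with rfl | rfl | rfl
          · linear_combination hab
          · exact mul_left_cancel₀ hω0 (by linear_combination hab - hω3)
          · exact mul_left_cancel₀ (mul_ne_zero hω0 hω0) (by linear_combination hab - (ω ^ 3 + 1) * hω3)
        simp only [hu, x, Matrix.cons_val_zero, Matrix.cons_val_one]
        rw [e, hb']
        rcases hcases with rfl | rfl | rfl
        · exact ⟨1, 0, F₀.one_mem, F₀.zero_mem, by module⟩
        · exact ⟨0, 1, F₀.zero_mem, F₀.one_mem, by module⟩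
        · refine ⟨1, 1, F₀.one_mem, F₀.one_mem, ?_⟩
          have e1 : ω * ω = 1 + ω := by linear_combination hω - h2 - ω * h2
          have e2 : ω * ω * (ω * ω) = 1 + ω * ω := by linear_combination ω * hω3 + hω - h2 - ω * ω * h2
          rw [one_smul, one_smul, e2]
          nth_rewrite 1 [e1]
          module
      obtain ⟨c, d, hc, hd, e'⟩ := hcoef
      rw [e', map_add, LinearEquiv.map_smul, LinearEquiv.map_smul, Basis.repr_self, Basis.repr_self,
        Finsupp.add_apply, Finsupp.smul_apply, Finsupp.smul_apply, Finsupp.single_apply, Finsupp.single_apply,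
        smul_eq_mul, smul_eq_mul]
      refine add_mem ?_ ?_ <;> split_ifs
      · rwa [mul_one]
      · rw [mul_zero]; exact F₀.zero_mem
      · rwa [mul_one]
      · rw [mul_zero]; exact F₀.zero_mem)
  exact ⟨F₀, P, by rw [hq, hF₀]; norm_num, hP, hPH⟩

/-- Ten planes' worth of lines: planes of plus type over the field of five elements. -/
theorem planes_five (hq : Fintype.card F = 5) {H : Subgroup (GL ι F)} (hI : H ≤ isometryGroup F Q)
    {t : ℕ} {D : Fin t → Submodule F (ι → F)} (hD : IsOrthogonalMDecomposition Q 2 D) (i₀ : Fin t)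
    (hplus : IsPlusTypeOn Q (D i₀)) (hle : H ≤ decompositionStabilizer D) :
    ∃ D' : Fin (t * 2) → Submodule F (ι → F), IsOrthogonalMDecomposition Q 1 D' ∧ H ≤ decompositionStabilizer D' := by
  classical
  haveI : CharP F 5 := by
    obtain ⟨p, hchar⟩ := CharP.exists F
    obtain ⟨e, hp, hc⟩ := FiniteField.card F p
    have : p ∣ 5 := by rw [← hq, hc]; exact dvd_pow_self _ (PNat.ne_zero e)
    obtain rfl : p = 5 := (Nat.prime_dvd_prime_iff_eq hp (by norm_num)).mp this
    exact hchar
  have h5 : (5 : F) = 0 := by exact_mod_cast CharP.cast_eq_zero F 5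
  have h2 : (2 : F) ≠ 0 := fun h => one_ne_zero (α := F) (by linear_combination h5 - 2 * h)
  obtain ⟨E, E', hEm, hEm', hval, hli, hspan⟩ := exists_plane_pairs hQ hD i₀ hplus
  let r : Fin (t * 2) ≃ Fin t × Fin 2 := finProdFinEquiv.symm
  let x : Fin t → Fin 2 → ι → F := fun i => ![E i + E' i, (2 : F) • E i + (3 : F) • E' i]
  have hxm : ∀ i s, x i s ∈ D i := fun i s => by
    fin_cases s
    exacts [(D i).add_mem (hEm i) (hEm' i), (D i).add_mem ((D i).smul_mem _ (hEm i)) ((D i).smul_mem _ (hEm' i))]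
  have hxq : ∀ i s, Q (x i s) = 1 := fun i s => by
    fin_cases s
    · simpa [x] using hval i 1 1
    · simpa [x] using (hval i 2 3).trans (by linear_combination h5)
  have hx01 : ∀ i, QuadraticMap.polar Q (x i 0) (x i 1) = 0 := fun i => by
    rw [QuadraticMap.polar, hxq, hxq]
    have : x i 0 + x i 1 = (3 : F) • E i + (4 : F) • E' i := by simp [x]; module
    rw [this, hval]
    linear_combination 2 * h5
  let b : Fin (t * 2) × Fin 1 → ι → F := fun y => x (r y.1).1 (r y.1).2
  have hcard : Fintype.card ι = t * 2 := by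
    have := Cfsg.Agent.Classical.IsMDecomposition.card_eq hD.decomp.decomp
    omega
  have hgram : ∀ y z, QuadraticMap.polar Q (b y) (b z) = if y.1 = z.1 then (Matrix.of fun _ _ => (2 : F)) y.2 z.2 else 0 := by
    intro y z
    split_ifs with h
    · simp only [b, h, polar_self_eq hQ, hxq, mul_one, Matrix.of_apply]
    · simp only [b]
      have hr : r y.1 ≠ r z.1 := r.injective.ne h
      rcases hy : r y.1 with ⟨i, s⟩
      rcases hz : r z.1 with ⟨i', s'⟩
      rw [hy, hz] at hr
      rcases eq_or_ne i i' with rfl | hne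
      · have hs : s ≠ s' := fun e => hr (by rw [e])
        rcases (show s = 0 ∨ s = 1 by omega) with rfl | rfl <;> rcases (show s' = 0 ∨ s' = 1 by omega) with rfl | rfl
        exacts [absurd rfl hs, hx01 i, (QuadraticMap.polar_comm Q _ _).trans (hx01 i), absurd rfl hs]
      · exact hD.decomp.orthogonal i i' hne _ (hxm i s) _ (hxm i' s')
  have hnd := (reflexForm_of_quadratic hQ).nondeg_decomp_of_family (t := t * 2) (k := 1) (by have := hD.decomp.decomp.two_le; omega) one_pos
    (by rw [hcard, mul_one]) b (G := Matrix.of fun _ _ => (2 : F)) (by simpa using h2) hgram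
  refine ⟨blockSpan b, ⟨hnd, fun i l => ?_⟩, fun g hg => ?_⟩
  · have hne : ∀ i, b (i, 0) ≠ 0 := fun i e => zero_ne_one (α := F) (by
      rw [← hxq (r i).1 (r i).2, show x (r i).1 (r i).2 = b (i, 0) from rfl, e]; simpa using (hQ.smul 0 0).symm)
    have hbs : ∀ i, blockSpan b i = Submodule.span F {b (i, 0)} := fun i => by
      rw [blockSpan, Set.range_unique]
    refine ⟨((LinearEquiv.ofEq _ _ (hbs i)).trans (LinearEquiv.toSpanNonzeroSingleton F _ _ (hne i)).symm).trans
      ((LinearEquiv.toSpanNonzeroSingleton F _ _ (hne l)).trans (LinearEquiv.ofEq _ _ (hbs l).symm)), fun w => ?_⟩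
    obtain ⟨c, hc⟩ : ∃ c : F, c • b (i, 0) = (w : ι → F) := Submodule.mem_span_singleton.mp (hbs i ▸ w.2)
    have e : (LinearEquiv.toSpanNonzeroSingleton F _ _ (hne i)).symm (LinearEquiv.ofEq _ _ (hbs i) w) = c := by
      rw [LinearEquiv.symm_apply_eq]
      exact Subtype.ext hc.symm
    simp only [LinearEquiv.trans_apply, e, LinearEquiv.coe_ofEq_apply, LinearEquiv.toSpanNonzeroSingleton_apply]
    rw [← hc, hQ.smul, hQ.smul]
    simp only [b, hxq]
  · refine mem_stabilizer_of_family hnd.decomp fun i => ?_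
    obtain ⟨j, a, c, hac, e⟩ := plane_move hQ hI hle hspan hval hg (hxm (r i).1 (r i).2) (hxq _ _)
    have ha0 : a ≠ 0 := left_ne_zero_of_mul_eq_one hac
    have h4 : a ^ 4 = 1 := by
      have := FiniteField.pow_card_sub_one_eq_one a ha0
      rwa [hq] at this
    have hprod : (a - 1) * (a + 1) * ((a - 2) * (a + 2)) = 0 := by linear_combination h4 + (1 - a ^ 2) * h5
    have hcases : ∃ (s : Fin 2) (k : F), a • E j + c • E' j = k • x j s := by
      rcases mul_eq_zero.mp hprod with h | h <;> rcases mul_eq_zero.mp h with h' | h'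
      · obtain rfl : a = 1 := sub_eq_zero.mp h'
        obtain rfl : c = 1 := by linear_combination hac
        exact ⟨0, 1, by simp [x]⟩
      · obtain rfl : a = -1 := eq_neg_of_add_eq_zero_left h'
        obtain rfl : c = -1 := by linear_combination -hac
        exact ⟨0, -1, by simp [x]⟩
      · obtain rfl : a = 2 := sub_eq_zero.mp h'
        obtain rfl : c = 3 := mul_left_cancel₀ ha0 (by linear_combination hac - h5)
        exact ⟨1, 1, by simp [x]⟩
      · obtain rfl : a = -2 := eq_neg_of_add_eq_zero_left h'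
        obtain rfl : c = -3 := mul_left_cancel₀ ha0 (by linear_combination hac - h5)
        exact ⟨1, -1, by simp [x]⟩
    obtain ⟨s, k, hk⟩ := hcases
    refine ⟨r.symm (j, s), fun l => ?_⟩
    simp only [b]
    rw [e, hk]
    refine Submodule.smul_mem _ _ ?_
    have := mem_blockSpan b (r.symm (j, s)) 0
    simpa [b] using this

/-- Planes of minus type over the field of three elements do not give maximal subgroups. -/
theorem planes_three_minus (hq : Fintype.card F = 3) {t : ℕ}
    {D : Fin t → Submodule F (ι → F)} (hD : IsOrthogonalMDecomposition Q 2 D) (i₀ : Fin t)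
    (hminus : ¬ IsPlusTypeOn Q (D i₀)) :
    ∃ K : Subgroup (GL ι F), decompositionStabilizer D ⊓ omegaGL Q < K ∧ K < omegaGL Q := by
  obtain ⟨Qf, rfl, hP⟩ := ONotMax.exists_qform hQ
  obtain ⟨y, hy, hy1, hyp⟩ := ONotMax.plane_frame hq (hD.decomp.decomp.finrank_eq i₀) (hD.decomp.nondegenerate i₀) hminus
  obtain ⟨x, hx, hxv, hxp⟩ := ONotMax.frame_transport hD.isometric i₀ y hy hy1 hyp
  exact ONotMax.frame_not_max hP hq hD.decomp.decomp hD.decomp.orthogonal le_rfl (by norm_num) one_ne_zero x hx hxv hxp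

end Cfsg.Agent.Classical.OEven
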