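/-
Halves of an orthogonal space of dimension twice an odd number: singular halves, non-degenerate halves, and
groups of symplectic type.
-/
import Cfsg.Agent.Lib.Classical.OrthEvenCases
import Cfsg.Agent.Lib.Small.Orth.Bridge
import Cfsg.Agent.Lib.Small.QuadDisc

set_option autoImplicit false
set_option linter.unusedSectionVars false
set_option linter.style.haveILetI false

namespace Cfsg.Agent.Classical.OEven

open Matrix Module Cfsg.Geo
open Cfsg.Agent.Classical

variable {ι : Type} [Fintype ι] [DecidableEq ι] {F : Type*} [Field F] [Fintype F]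
variable {Q : (ι → F) → F} (hQ : IsNondegenerateQuadraticForm Q)
include hQ

/-- Elements of Ω keep the family of a maximal totally singular subspace. -/
theorem omega_parity {m : ℕ} (hcard : Fintype.card ι = 2 * m) (hm : 3 ≤ m) {U : Submodule F (ι → F)}
    (hU : IsTotallySingularQuad Q U) (hUd : finrank F U = m) {g : GL ι F} (hg : g ∈ omegaGL Q) :
    Even (m - finrank F ↥(U ⊓ U.map (Matrix.toLin' (g : Matrix ι ι F)))) := by
  classical
  obtain ⟨Qf, hQf, hP⟩ := ONotMax.exists_qform hQ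
  obtain ⟨γ, hγ, rfl⟩ := hg
  obtain ⟨vs, hvs, hM⟩ := Cfsg.Agent.Small.Orth.exists_list_mat hQf hP (Or.inr (by omega)) γ
  have h := ((Cfsg.Agent.Small.Orth.mem_omega hQf hP γ vs hvs hM).mp hγ).1
  rw [← Cfsg.Agent.Small.Orth.even_inter_iff hP (by rw [Module.finrank_pi, hcard]) (U := U)
    (fun w hw => by rw [hQf]; exact hU w hw) hUd vs hvs] at h
  have e : Matrix.toLin' ((γ : GL ι F) : Matrix ι ι F) =
      ((Cfsg.Agent.Small.Orth.prodRf Qf vs).1 : (ι → F) →ₗ[F] ι → F) :=
    LinearMap.ext fun x => (Matrix.toLin'_apply _ x).trans (hM x)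
  change Even (m - finrank F ↥(U ⊓ U.map (Matrix.toLin' ((γ : GL ι F) : Matrix ι ι F))))
  rw [e]
  exact h

/-- What fixes a hyperplane of a maximal totally singular subspace fixes the subspace. -/
theorem fixes_half {m : ℕ} (hcard : Fintype.card ι = 2 * m) (hm : 3 ≤ m) {U W : Submodule F (ι → F)}
    (hU : IsTotallySingularQuad Q U) (hUd : finrank F U = m) (hWU : W ≤ U) (hWd : finrank F W + 1 = m)
    {H : Subgroup (GL ι F)} (hH : H ≤ omegaGL Q) (hle : H ≤ subspaceStabilizer W) : H ≤ subspaceStabilizer U := by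
  intro g hg
  have hW : W ≤ U ⊓ U.map (Matrix.toLin' (g : Matrix ι ι F)) := by
    have h1 : W.map (Matrix.toLin' (g : Matrix ι ι F)) = W :=
      Submodule.eq_of_le_of_finrank_eq (map_toLin'_le.mpr (mem_subspaceStabilizer_iff.mp (hle hg))) (finrank_map_gl g W)
    exact le_inf hWU (h1.symm.le.trans (Submodule.map_mono hWU))
  have he := omega_parity hQ hcard hm hU hUd (hH hg)
  have h1 := Submodule.finrank_mono hW
  have h2 := Submodule.finrank_mono (inf_le_left : U ⊓ U.map (Matrix.toLin' (g : Matrix ι ι F)) ≤ U)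
  have hd : finrank F ↥(U ⊓ U.map (Matrix.toLin' (g : Matrix ι ι F))) = m := by
    obtain ⟨j, hj⟩ := he
    omega
  refine mem_subspaceStabilizer_iff.mpr (map_toLin'_le.mp ?_)
  have e : U ⊓ U.map (Matrix.toLin' (g : Matrix ι ι F)) = U.map (Matrix.toLin' (g : Matrix ι ι F)) :=
    Submodule.eq_of_le_of_finrank_eq inf_le_right (by rw [finrank_map_gl g U, hd, hUd])
  exact e.symm.le.trans inf_le_left

/-- Ω does not exchange complementary totally singular halves of odd dimension. -/
theorem not_tspair {m : ℕ} (hcard : Fintype.card ι = 2 * m) (hm : 3 ≤ m) (hodd : Odd m) {H : Subgroup (GL ι F)}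
    (hH : H ≤ omegaGL Q) (hirr : ActsIrreducibly (matrixSet H)) {D : Fin 2 → Submodule F (ι → F)}
    (hD : IsMDecomposition m D) (hts : ∀ i, IsTotallySingularQuad Q (D i)) : ¬ H ≤ decompositionStabilizer D := by
  intro hle
  have h01 : D 0 ⊓ D 1 = ⊥ := disjoint_iff.mp (hD.indep.pairwiseDisjoint (show (0 : Fin 2) ≠ 1 by decide))
  have hfix : H ≤ subspaceStabilizer (D 0) := by
    intro g hg
    obtain ⟨π, hπ⟩ := hle hg
    rcases (show π 0 = 0 ∨ π 0 = 1 by omega) with h | h
    · exact mem_subspaceStabilizer_iff.mpr (map_toLin'_le.mp ((hπ 0).trans (by rw [h])).le)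
    · exfalso
      have he := omega_parity hQ hcard hm (hts 0) (hD.finrank_eq 0) (hH hg)
      rw [hπ, h, h01, finrank_bot, Nat.sub_zero] at he
      exact Nat.not_even_iff_odd.mpr hodd he
  rcases hirr (D 0) (fun s ⟨x, hx, e⟩ => e ▸ map_toLin'_le.mpr (mem_subspaceStabilizer_iff.mp (hfix hx))) with h | h
  · have := hD.finrank_eq 0
    rw [h, finrank_bot] at this
    omega
  · have := hD.finrank_eq 0
    rw [h, finrank_top, Module.finrank_pi] at this
    omega

/-- Two non-degenerate halves of odd dimension: isometric exactly when the type agrees with the class of `-1`. -/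
theorem halves_iff {m : ℕ} (hcard : Fintype.card ι = 2 * m) (hodd : Odd m) {D : Fin 2 → Submodule F (ι → F)}
    (hD : IsNondegenerateMDecomposition (QuadraticMap.polar Q) m D) :
    (2 : F) ≠ 0 ∧ (AreIsometricFor Q (D 0) (D 1) ↔ (IsPlusTypeOn Q ⊤ ↔ IsSquare (-1 : F))) := by
  classical
  have h2 := odd_dim_two_ne_zero hQ (hD.nondegenerate 0) (by rw [hD.decomp.finrank_eq]; exact hodd)
  refine ⟨h2, ?_⟩
  obtain ⟨Qf, rfl, hP⟩ := ONotMax.exists_qform hQ
  let b : ∀ i, Basis (Fin m) F (D i) := fun i => Module.finBasisOfFinrankEq F (D i) (hD.decomp.finrank_eq i)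
  let Qi : Fin 2 → QuadraticForm F (Fin m → F) := fun i =>
    Qf.comp ((D i).subtype ∘ₗ (b i).equivFun.symm.toLinearMap)
  let G : Fin 2 → Matrix (Fin m) (Fin m) F := fun i =>
    Matrix.of fun a c => QuadraticMap.polar ⇑Qf (b i a : ι → F) (b i c)
  have hQi : ∀ i v, Qi i v = Qf (((b i).equivFun.symm v : D i) : ι → F) := fun i v => rfl
  have hpolQ : ∀ i u v, QuadraticMap.polar ⇑(Qi i) u v = QuadraticMap.polar ⇑Qf
      (((b i).equivFun.symm u : D i) : ι → F) ((b i).equivFun.symm v : D i) := fun i u v => by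
    simp only [QuadraticMap.polar, hQi, map_add, Submodule.coe_add]
  have hGi : ∀ i, (Matrix.of fun a c => QuadraticMap.polar ⇑(Qi i) (Pi.single a 1) (Pi.single c 1)) = G i := fun i => by
    ext a c
    simp only [G, Matrix.of_apply, hpolQ]
    simp [Pi.single_apply, Basis.equivFun_symm_apply]
  have hndi : ∀ i, (QuadraticMap.polarBilin (Qi i)).Nondegenerate := fun i => by
    have key : ∀ v, (∀ w, QuadraticMap.polar ⇑(Qi i) v w = 0) → v = 0 := fun v hv => by
      by_contra hne
      have h0 : ((b i).equivFun.symm v : D i) ≠ 0 := fun e =>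
        hne ((b i).equivFun.symm.injective (e.trans (b i).equivFun.symm.map_zero.symm))
      obtain ⟨x, hx, hxv⟩ := (hD.nondegenerate i _ ((b i).equivFun.symm v).2 fun e => h0 (Subtype.ext e)).2
      apply hxv
      have := hv ((b i).equivFun ⟨x, hx⟩)
      rwa [hpolQ, LinearEquiv.symm_apply_apply] at this
    exact ⟨fun v hv => key v hv, fun v hv => key v fun w => (QuadraticMap.polar_comm _ v w).trans (hv w)⟩
  have hiso : AreIsometricFor (⇑Qf) (D 0) (D 1) ↔ IsSquare ((G 0).det * (G 1).det) := by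
    rw [← hGi 0, ← hGi 1, ← Cfsg.Agent.Small.QuadBasis.isometric_iff h2 (Qi 0) (Qi 1) (hndi 0) (hndi 1)]
    constructor
    · rintro ⟨e, he⟩
      refine ⟨(b 0).equivFun.symm.trans (e.trans (b 1).equivFun), fun v => ?_⟩
      rw [hQi, hQi, LinearEquiv.trans_apply, LinearEquiv.trans_apply, LinearEquiv.symm_apply_apply, he]
    · rintro ⟨g, hg⟩
      refine ⟨(b 0).equivFun.trans (g.trans (b 1).equivFun.symm), fun w => ?_⟩
      have := hg ((b 0).equivFun w)
      rw [hQi, hQi, LinearEquiv.symm_apply_apply] at this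
      exact this
  have hind := hD.decomp.indep.pairwiseDisjoint (show (0 : Fin 2) ≠ 1 by decide)
  have hcompl : IsCompl (D 0) (D 1) := ⟨hind, codisjoint_iff.mpr (eq_top_iff.mpr (by
    rw [← hD.decomp.iSup_eq_top]
    refine iSup_le fun i => ?_
    rcases (show i = 0 ∨ i = 1 by omega) with rfl | rfl
    exacts [le_sup_left, le_sup_right]))⟩
  let u := ((b 0).prod (b 1)).map (Submodule.prodEquivOfIsCompl _ _ hcompl)
  have hu0 : ∀ a, u (.inl a) = (b 0 a : ι → F) := fun a => by simp [u]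
  have hu1 : ∀ a, u (.inr a) = (b 1 a : ι → F) := fun a => by simp [u]
  have hgram : (Matrix.of fun x y => QuadraticMap.polar ⇑Qf (u x) (u y)) = Matrix.fromBlocks (G 0) 0 0 (G 1) := by
    ext (a | a) (c | c)
    · simp [hu0, G]
    · simpa [hu0, hu1] using hD.orthogonal 0 1 (by decide) _ (b 0 a).2 _ (b 1 c).2
    · simpa [hu0, hu1] using hD.orthogonal 1 0 (by decide) _ (b 1 a).2 _ (b 0 c).2
    · simp [hu1, G]
  have hdet0 : ∀ i, (G i).det ≠ 0 := fun i h0 => by
    rw [← hGi i] at h0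
    obtain ⟨v, hv, hv'⟩ := Matrix.exists_vecMul_eq_zero_iff.mpr h0
    refine hv ((hndi i).1 v fun w => ?_)
    change QuadraticMap.polar ⇑(Qi i) v w = 0
    have e1 : v ⬝ᵥ ((Matrix.of fun a c => QuadraticMap.polar ⇑(Qi i) (Pi.single a 1) (Pi.single c 1)) *ᵥ w) =
        QuadraticMap.polar ⇑(Qi i) v w := by
      conv_rhs => rw [pi_eq_sum_univ' v, pi_eq_sum_univ' w, ← QuadraticMap.polarBilin_apply_apply]
      simp only [map_sum, LinearMap.map_smul, LinearMap.sum_apply, LinearMap.smul_apply, smul_eq_mul,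
        QuadraticMap.polarBilin_apply_apply, dotProduct, Matrix.mulVec, Matrix.of_apply, Finset.mul_sum]
      rw [Finset.sum_comm]
      exact Finset.sum_congr rfl fun a _ => Finset.sum_congr rfl fun c _ => by ring
    rw [← e1, Matrix.dotProduct_mulVec, hv', zero_dotProduct]
  have hne : ringChar F ≠ 2 := fun h => h2 (by
    have := ringChar.Nat.cast_ringChar (R := F)
    rw [h] at this
    exact_mod_cast this)
  rw [hiso, plus_iff_basis_det hQ h2 hcard u, hgram, Matrix.det_fromBlocks_zero₂₁, hodd.neg_one_pow, neg_one_mul]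
  set d := (G 0).det * (G 1).det
  have hd : d ≠ 0 := mul_ne_zero (hdet0 0) (hdet0 1)
  constructor
  · rintro ⟨s, hs⟩
    rw [hs]
    have hs0 : s ≠ 0 := fun e => hd (by rw [hs, e, mul_zero])
    refine ⟨fun ⟨t, ht⟩ => ⟨t / s, ?_⟩, fun ⟨t, ht⟩ => ⟨t * s, ?_⟩⟩
    · rw [div_mul_div_comm, ← ht]
      field_simp
    · linear_combination (s * s) * ht
  · intro h
    by_contra hns
    have e1 := (FiniteField.pow_dichotomy hne hd).resolve_left fun h' => hns ((FiniteField.isSquare_iff hne hd).mpr h')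
    have hn1 : (-1 : F) ≠ 0 := neg_ne_zero.mpr one_ne_zero
    rw [FiniteField.isSquare_iff hne (neg_ne_zero.mpr hd), FiniteField.isSquare_iff hne hn1,
      neg_pow d, e1] at h
    rcases FiniteField.pow_dichotomy hne hn1 with e | e <;> rw [e] at h
    · exact h2 (by linear_combination -(h.mpr rfl) * (1 : F))
    · exact h2 (by linear_combination -(h.mp (by ring)) * (1 : F))

/-- No group of symplectic type is absolutely irreducible here. -/
theorem not_symplectic_odd {m : ℕ} (hcard : Fintype.card ι = 2 * m) (hm : 3 ≤ m) (hodd : Odd m)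
    {M : Subgroup (GL ι F)} (hI : M ≤ isometryGroup F Q) (ha : ActsAbsolutelyIrreducibly (matrixSet M))
    (hne : ∃ x ∈ M, ∃ y ∈ M, x * y ≠ y * x) (hc : ∀ x ∈ M, ∀ y ∈ M, x * y * x⁻¹ * y⁻¹ ∈ scalars ι F) : False := by
  classical
  obtain ⟨h2, hsq, hpm, x, hx, y, hy, hX, hXY⟩ := involution_of_symplectic hQ (by omega) hI ha hne hc
  set X := (x : Matrix ι ι F) with hXdef
  set Y := (y : Matrix ι ι F) with hYdef
  let P : Submodule F (ι → F) := LinearMap.ker (Matrix.toLin' X - LinearMap.id)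
  let N : Submodule F (ι → F) := LinearMap.ker (Matrix.toLin' X + LinearMap.id)
  have mP : ∀ v, v ∈ P ↔ X *ᵥ v = v := fun v => by simp [P, sub_eq_zero]
  have mN : ∀ v, v ∈ N ↔ X *ᵥ v = -v := fun v => by simp [N, add_eq_zero_iff_eq_neg]
  have hPN : ∀ v ∈ P, Y *ᵥ v ∈ N := fun v hv => (mN _).mpr (by
    rw [Matrix.mulVec_mulVec, hXY, Matrix.neg_mulVec, ← Matrix.mulVec_mulVec, (mP v).mp hv])
  have hNP : ∀ v ∈ N, Y *ᵥ v ∈ P := fun v hv => (mP _).mpr (by
    rw [Matrix.mulVec_mulVec, hXY, Matrix.neg_mulVec, ← Matrix.mulVec_mulVec, (mN v).mp hv, Matrix.mulVec_neg, neg_neg])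
  have hdeq : finrank F P = finrank F N := le_antisymm
    (by rw [← finrank_map_gl y P]; exact Submodule.finrank_mono (map_toLin'_le.mpr hPN))
    (by rw [← finrank_map_gl y N]; exact Submodule.finrank_mono (map_toLin'_le.mpr hNP))
  have hdisj : P ⊓ N = ⊥ := (Submodule.eq_bot_iff _).mpr fun v ⟨h1, h1'⟩ => by
    have e := ((mP v).mp h1).symm.trans ((mN v).mp h1')
    have : (2 : F) • v = 0 := by rw [two_smul]; nth_rewrite 1 [e]; exact neg_add_cancel v
    exact (smul_eq_zero.mp this).resolve_left h2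
  have htop : P ⊔ N = ⊤ := eq_top_iff.mpr fun v _ => by
    have hXi : X *ᵥ (X *ᵥ v) = v := by rw [Matrix.mulVec_mulVec, hX, Matrix.one_mulVec]
    refine Submodule.mem_sup.mpr ⟨(2 : F)⁻¹ • (v + X *ᵥ v), (mP _).mpr ?_, (2 : F)⁻¹ • (v - X *ᵥ v), (mN _).mpr ?_, ?_⟩
    · rw [Matrix.mulVec_smul, Matrix.mulVec_add, hXi, add_comm]
    · rw [Matrix.mulVec_smul, Matrix.mulVec_sub, hXi, ← smul_neg, neg_sub]
    · rw [← smul_add, show v + X *ᵥ v + (v - X *ᵥ v) = (2 : F) • v by rw [two_smul]; abel, smul_smul,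
        inv_mul_cancel₀ h2, one_smul]
  have hPd : finrank F P = m := by
    have := Submodule.finrank_sup_add_finrank_inf_eq P N
    rw [hdisj, htop, finrank_bot, finrank_top, Module.finrank_pi, hcard] at this
    omega
  have hstab : ∀ a ∈ M, (a : Matrix ι ι F) * X = X * a → ∀ v ∈ P, (a : Matrix ι ι F) *ᵥ v ∈ P := fun a _ h v hv =>
    (mP _).mpr (by rw [Matrix.mulVec_mulVec, ← h, ← Matrix.mulVec_mulVec, (mP v).mp hv])
  -- members centralising the involution commute
  have hab : ∀ a ∈ M, (a : Matrix ι ι F) * X = X * a → ∀ c ∈ M, (c : Matrix ι ι F) * X = X * c →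
      (a : Matrix ι ι F) * c = (c : Matrix ι ι F) * a := by
    intro a ha' haX c hc' hcX
    refine (hpm a ha' c hc').resolve_right fun h => ?_
    let rA := (Matrix.toLin' (a : Matrix ι ι F)).restrict (fun v hv => hstab a ha' haX v hv : ∀ v ∈ P, _ ∈ P)
    let rC := (Matrix.toLin' (c : Matrix ι ι F)).restrict (fun v hv => hstab c hc' hcX v hv : ∀ v ∈ P, _ ∈ P)
    have hdA : LinearMap.det rA ≠ 0 := fun h0 => by
      obtain ⟨v, hv, hv0⟩ := (Submodule.ne_bot_iff _).mp (LinearMap.bot_lt_ker_of_det_eq_zero h0).ne'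
      have e0 : (a : Matrix ι ι F) *ᵥ (v : ι → F) = 0 := by
        rw [← Matrix.toLin'_apply]; exact congrArg Subtype.val (LinearMap.mem_ker.mp hv)
      exact hv0 (Subtype.ext (gl_mulVec_injective a (e0.trans (Matrix.mulVec_zero _).symm)))
    have hdC : LinearMap.det rC ≠ 0 := fun h0 => by
      obtain ⟨v, hv, hv0⟩ := (Submodule.ne_bot_iff _).mp (LinearMap.bot_lt_ker_of_det_eq_zero h0).ne'
      have e0 : (c : Matrix ι ι F) *ᵥ (v : ι → F) = 0 := by
        rw [← Matrix.toLin'_apply]; exact congrArg Subtype.val (LinearMap.mem_ker.mp hv)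
      exact hv0 (Subtype.ext (gl_mulVec_injective c (e0.trans (Matrix.mulVec_zero _).symm)))
    have e : rA * rC = (-1 : F) • (rC * rA) := by
      refine LinearMap.ext fun v => Subtype.ext ?_
      have hv' := congrArg (· *ᵥ (v : ι → F)) h
      change Matrix.toLin' (a : Matrix ι ι F) (Matrix.toLin' (c : Matrix ι ι F) (v : ι → F)) =
        (-1 : F) • Matrix.toLin' (c : Matrix ι ι F) (Matrix.toLin' (a : Matrix ι ι F) (v : ι → F))
      simpa [Matrix.mulVec_mulVec, Matrix.neg_mulVec] using hv'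
    have e' := congrArg LinearMap.det e
    rw [LinearMap.det_smul, hPd, hodd.neg_one_pow, map_mul, map_mul] at e'
    exact mul_ne_zero h2 (mul_ne_zero hdA hdC) (by linear_combination e')
  -- so the centraliser of the involution is scalar up to the involution
  have hC : ∀ a ∈ M, (a : Matrix ι ι F) * X = X * a →
      ∃ c : F, (a : Matrix ι ι F) = c • 1 ∨ (a : Matrix ι ι F) * X = c • 1 := by
    intro a ha' haX
    have key : ∀ b ∈ M, (b : Matrix ι ι F) * X = X * b → (b : Matrix ι ι F) * Y = Y * b →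
        ∃ c : F, (b : Matrix ι ι F) = c • 1 := by
      intro b hb hbX hbY
      refine ha.2 _ ?_
      rintro _ ⟨w, hw, rfl⟩
      rcases hpm w hw x hx with hwx | hwx <;> rw [← hXdef] at hwx
      · exact hab b hb hbX w hw hwx
      · have hwy : ((w * y : GL ι F) : Matrix ι ι F) * X = X * ((w * y : GL ι F) : Matrix ι ι F) := by
          rw [Units.val_mul, ← hYdef, Matrix.mul_assoc, show Y * X = -(X * Y) by rw [hXY, neg_neg], Matrix.mul_neg,
            ← Matrix.mul_assoc, hwx, Matrix.neg_mul, neg_neg, Matrix.mul_assoc]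
        have h := hab b hb hbX (w * y) (mul_mem hw hy) hwy
        rw [Units.val_mul, ← hYdef, ← Matrix.mul_assoc, Matrix.mul_assoc _ Y, ← hbY, ← Matrix.mul_assoc] at h
        exact y.isUnit.mul_right_cancel h
    rcases hpm a ha' y hy with haY | haY <;> rw [← hYdef] at haY
    · obtain ⟨c, hc'⟩ := key a ha' haX haY
      exact ⟨c, Or.inl hc'⟩
    · obtain ⟨c, hc'⟩ := key (a * x) (mul_mem ha' hx)
        (by rw [Units.val_mul, ← hXdef, ← Matrix.mul_assoc X, ← haX])
        (by rw [Units.val_mul, ← hXdef, Matrix.mul_assoc, hXY, Matrix.mul_neg, ← Matrix.mul_assoc, haY, Matrix.neg_mul,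
          neg_neg, Matrix.mul_assoc])
      exact ⟨c, Or.inr (by rw [Units.val_mul, ← hXdef] at hc'; exact hc')⟩
  -- a small invariant subspace
  obtain ⟨v, hv, hv0⟩ := Submodule.exists_mem_ne_zero_of_ne_bot (p := P) fun e => by rw [e, finrank_bot] at hPd; omega
  set U := Submodule.span F {v, Y *ᵥ v} with hUdef
  have g0 : v ∈ U := Submodule.subset_span (Or.inl rfl)
  have g1 : Y *ᵥ v ∈ U := Submodule.subset_span (Or.inr rfl)
  have hXU : ∀ u ∈ U, X *ᵥ u ∈ U := by
    intro u hu
    obtain ⟨p, q, rfl⟩ := Submodule.mem_span_pair.mp hu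
    rw [Matrix.mulVec_add, Matrix.mulVec_smul, Matrix.mulVec_smul, (mP v).mp hv, (mN _).mp (hPN v hv)]
    exact U.add_mem (U.smul_mem p g0) (U.smul_mem q (U.neg_mem g1))
  have hYU : ∀ u ∈ U, Y *ᵥ u ∈ U := by
    intro u hu
    obtain ⟨p, q, rfl⟩ := Submodule.mem_span_pair.mp hu
    rw [Matrix.mulVec_add, Matrix.mulVec_smul, Matrix.mulVec_smul, Matrix.mulVec_mulVec (M := Y) (N := Y)]
    rcases hsq y hy with h | h <;> rw [← hYdef] at h <;> rw [h]
    · rw [Matrix.one_mulVec]; exact U.add_mem (U.smul_mem p g1) (U.smul_mem q g0)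
    · rw [Matrix.neg_mulVec, Matrix.one_mulVec]; exact U.add_mem (U.smul_mem p g1) (U.smul_mem q (U.neg_mem g0))
  have hCU : ∀ a ∈ M, (a : Matrix ι ι F) * X = X * a → ∀ u ∈ U, (a : Matrix ι ι F) *ᵥ u ∈ U := by
    intro a ha' haX u hu
    obtain ⟨c, h | h⟩ := hC a ha' haX
    · rw [h, Matrix.smul_mulVec, Matrix.one_mulVec]; exact U.smul_mem c hu
    · have e : (a : Matrix ι ι F) = c • X := by
        have := congrArg (· * X) h
        simpa [Matrix.mul_assoc, hX] using this
      rw [e, Matrix.smul_mulVec]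
      exact U.smul_mem c (hXU u hu)
  rcases ha.1 U (by
      rintro _ ⟨w, hw, rfl⟩
      refine map_toLin'_le.mpr fun u hu => ?_
      rcases hpm w hw x hx with hwx | hwx <;> rw [← hXdef] at hwx
      · exact hCU w hw hwx u hu
      · have hwy : ((w * y : GL ι F) : Matrix ι ι F) * X = X * ((w * y : GL ι F) : Matrix ι ι F) := by
          rw [Units.val_mul, ← hYdef, Matrix.mul_assoc, show Y * X = -(X * Y) by rw [hXY, neg_neg], Matrix.mul_neg,
            ← Matrix.mul_assoc, hwx, Matrix.neg_mul, neg_neg, Matrix.mul_assoc]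
        have e : (w : Matrix ι ι F) *ᵥ u = ((w * y : GL ι F) : Matrix ι ι F) *ᵥ (((y⁻¹ : GL ι F) : Matrix ι ι F) *ᵥ u) := by
          rw [Matrix.mulVec_mulVec, ← Units.val_mul, mul_inv_cancel_right]
        rw [e]
        refine hCU _ (mul_mem hw hy) hwy _ ?_
        rcases hsq y hy with h | h <;> rw [← hYdef] at h
        · rw [show ((y⁻¹ : GL ι F) : Matrix ι ι F) = Y from Units.inv_eq_of_mul_eq_one_right (a := Y) h]
          exact hYU u hu
        · rw [show ((y⁻¹ : GL ι F) : Matrix ι ι F) = -Y from Units.inv_eq_of_mul_eq_one_right (a := -Y) (by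
            rw [← hYdef, Matrix.mul_neg, h, neg_neg]), Matrix.neg_mulVec]
          exact U.neg_mem (hYU u hu)) with h | h
  · exact hv0 ((Submodule.mem_bot F).mp (h ▸ g0))
  · have hd : finrank F U ≤ 2 := by
      rw [hUdef, show ({v, Y *ᵥ v} : Set (ι → F)) = Set.range ![v, Y *ᵥ v] by simp [Matrix.range_cons, Set.pair_comm]]
      exact (finrank_range_le_card _).trans (by simp)
    rw [h, finrank_top, Module.finrank_pi, hcard] at hd
    omega

end Cfsg.Agent.Classical.OEven
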