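/-
A quadratic form rational over a subfield of index two has plus type.
-/
import Cfsg.Agent.Lib.Classical.OrthEvenBase

set_option autoImplicit false
set_option linter.unusedSectionVars false
set_option linter.style.haveILetI false

namespace Cfsg.Agent.Classical.OEven

open Matrix Module Cfsg.Geo
open Cfsg.Agent.Classical

variable {ι : Type} [Fintype ι] [DecidableEq ι] {F : Type*} [Field F]

/-- Every element of the subfield is a square. -/
theorem isSquare_of_index_two [Fintype F] {F₁ : Subfield F} (hc : Fintype.card F = Nat.card F₁ ^ 2) {x : F}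
    (hx : x ∈ F₁) : IsSquare x := by
  classical
  by_cases h2 : (2 : F) = 0
  · obtain ⟨r, hr⟩ := Cfsg.Agent.Small.QuadBasis.exists_sq h2 x
    exact ⟨r, hr.symm⟩
  rcases eq_or_ne x 0 with rfl | hx0
  · exact ⟨0, by simp⟩
  haveI : Fintype F₁ := Fintype.ofFinite _
  have hne : ringChar F ≠ 2 := fun h => h2 (by
    have := ringChar.Nat.cast_ringChar (R := F)
    rw [h] at this
    exact_mod_cast this)
  rw [FiniteField.isSquare_iff hne hx0]
  have h1 := congrArg Subtype.val (FiniteField.pow_card_sub_one_eq_one (⟨x, hx⟩ : F₁) fun e => hx0 (congrArg Subtype.val e))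
  rw [Nat.card_eq_fintype_card] at hc
  have hodd := FiniteField.odd_card_of_char_ne_two hne
  obtain ⟨j, hj⟩ : Odd (Fintype.card F₁) := by
    rcases Nat.even_or_odd (Fintype.card F₁) with he | ho
    · rw [hc, Nat.pow_mod, Nat.even_iff.mp he] at hodd
      simp at hodd
    · exact ho
  have e : Fintype.card F / 2 = (Fintype.card F₁ - 1) * (j + 1) := by
    have h2' : Fintype.card F₁ - 1 = 2 * j := by omega
    rw [h2', hc, hj, show (2 * j + 1) ^ 2 = 2 * (2 * j * (j + 1)) + 1 by ring]
    omega
  have h1' : x ^ (Fintype.card F₁ - 1) = 1 := by simpa using h1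
  rw [e, pow_mul, h1', one_pow]

/-- In characteristic two an equation `t² + t + c = 0` over the subfield has a root. -/
theorem exists_root_of_index_two [Fintype F] (h2 : (2 : F) = 0) {F₁ : Subfield F}
    (hc : Fintype.card F = Nat.card F₁ ^ 2) (c : F) (hcF : c ∈ F₁) : ∃ t : F, t ^ 2 + t + c = 0 := by
  classical
  haveI : CharP F 2 := CharTwo.of_one_ne_zero_of_two_eq_zero one_ne_zero h2
  obtain ⟨⟨e, he⟩, hp, hce⟩ := FiniteField.card F 2
  change Fintype.card F = 2 ^ e at hce
  obtain ⟨b, hb, hbe, hb1, hiff⟩ := subfield_card_eq hp hce F₁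
  haveI : ExpChar F 2 := ExpChar.prime Nat.prime_two
  set τ := iterateFrobenius F 2 b with hτ
  have hτfix : ∀ y, τ y = y ↔ y ∈ F₁ := fun y => by rw [hiff, hτ, iterateFrobenius_def]
  have hττ : ∀ y, τ (τ y) = y := fun y => by
    rw [hτ, iterateFrobenius_def, iterateFrobenius_def, ← pow_mul, ← pow_add, show 2 ^ (b + b) = Fintype.card F by
      rw [hc, hb1, ← pow_mul]; ring_nf]
    exact FiniteField.pow_card y
  obtain ⟨w, hw⟩ : ∃ w, w ∉ F₁ := by
    by_contra hcon
    push Not at hcon
    have h1 : Nat.card F₁ = Fintype.card F := by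
      rw [← Nat.card_eq_fintype_card]; exact Nat.card_congr (Equiv.subtypeUnivEquiv hcon)
    rw [← h1] at hc
    have := Fintype.one_lt_card (α := F)
    rw [← h1] at this
    nlinarith
  set a := w + τ w with ha
  have haF : a ∈ F₁ := (hτfix _).mp (by rw [ha, map_add, hττ, add_comm])
  have ha0 : a ≠ 0 := fun h => hw ((hτfix w).mp (by linear_combination h - w * h2))
  have hNF : w * τ w ∈ F₁ := (hτfix _).mp (by rw [map_mul, hττ, mul_comm])
  set c₀ := w * τ w / a ^ 2 with hc₀
  have hc₀F : c₀ ∈ F₁ := div_mem hNF (pow_mem haF 2)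
  have hw' : (w / a) ^ 2 + w / a + c₀ = 0 := by
    rw [hc₀]
    field_simp
    rw [ha]
    linear_combination (w ^ 2 + w * τ w) * h2
  let φ : F₁ →+ F₁ :=
    { toFun := fun t => t ^ 2 + t
      map_zero' := by simp
      map_add' := fun x y => by
        apply Subtype.ext
        push_cast
        linear_combination ((x : F) * y) * h2 }
  have hroot : ∀ c' : F₁, c' ∈ φ.range → ∃ t : F₁, (t : F) ^ 2 + t + c' = 0 := by
    rintro c' ⟨t, rfl⟩
    refine ⟨t, ?_⟩
    change (t : F) ^ 2 + t + ((t ^ 2 + t : F₁) : F) = 0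
    push_cast
    linear_combination ((t : F) ^ 2 + t) * h2
  have hnot : (⟨c₀, hc₀F⟩ : F₁) ∉ φ.range := fun h => by
    obtain ⟨t, ht⟩ := hroot _ h
    have hz : (w / a + (t : F)) * (w / a + (t : F) + 1) = 0 := by
      linear_combination hw' + ht + ((w / a) * (t : F) - c₀) * h2
    rcases mul_eq_zero.mp hz with h' | h'
    · exact hw (by
        have : w = -(t : F) * a := by rw [eq_neg_of_add_eq_zero_right h', neg_neg, div_mul_cancel₀ _ ha0]
        rw [this]; exact mul_mem (neg_mem t.2) haF)
    · exact hw (by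
        have : w = (-(t : F) - 1) * a := by
          have : w / a = -(t : F) - 1 := by linear_combination h'
          rw [← this, div_mul_cancel₀ _ ha0]
        rw [this]; exact mul_mem (sub_mem (neg_mem t.2) F₁.one_mem) haF)
  have hidx : φ.range.index = 2 := by
    have hker : Nat.card φ.ker = 2 := by
      rw [Nat.card_eq_two_iff]
      refine ⟨⟨0, φ.ker.zero_mem⟩, ⟨1, ?_⟩, ?_, ?_⟩
      · rw [AddMonoidHom.mem_ker]
        apply Subtype.ext
        change ((1 : F₁) : F) ^ 2 + ((1 : F₁) : F) = 0
        simp only [OneMemClass.coe_one]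
        linear_combination h2
      · intro h
        exact zero_ne_one (congrArg Subtype.val h)
      · refine Set.eq_univ_of_forall fun x => ?_
        obtain ⟨x, hx⟩ := x
        rw [AddMonoidHom.mem_ker] at hx
        have hx' : x * (x + 1) = 0 := by
          have : x ^ 2 + x = 0 := hx
          linear_combination this
        rcases mul_eq_zero.mp hx' with h | h
        · exact Or.inl (Subtype.ext h)
        · refine Or.inr (Subtype.ext ?_)
          apply Subtype.ext
          have h' := congrArg Subtype.val h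
          push_cast at h'
          push_cast
          linear_combination h' - h2
    have h1 := φ.range.card_mul_index
    have h2' := AddSubgroup.card_eq_card_quotient_mul_card_addSubgroup φ.ker
    rw [Nat.card_congr (QuotientAddGroup.quotientKerEquivRange φ).toEquiv, hker] at h2'
    have hpos : 0 < Nat.card φ.range := Nat.card_pos
    exact Nat.eq_of_mul_eq_mul_left hpos (h1.trans h2')
  by_cases hcR : (⟨c, hcF⟩ : F₁) ∈ φ.range
  · obtain ⟨t, ht⟩ := hroot _ hcR
    exact ⟨t, ht⟩
  have hmem := (AddSubgroup.add_mem_iff_of_index_two hidx (a := (⟨c, hcF⟩ : F₁)) (b := ⟨c₀, hc₀F⟩)).mpr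
    (iff_of_false hcR hnot)
  obtain ⟨t, ht⟩ := hroot _ hmem
  refine ⟨w / a + t, ?_⟩
  push_cast at ht
  linear_combination hw' + ht + ((w / a) * (t : F) - c₀) * h2

variable [Fintype F] {Q : (ι → F) → F} (hQ : IsNondegenerateQuadraticForm Q)

include hQ

/-- Singular, pairwise orthogonal vectors with a dual family, half the dimension in number. -/
theorem plus_of_dual {κ : Type} [Fintype κ] [DecidableEq κ] (hκ : 2 * Fintype.card κ = Fintype.card ι)
    (w w' : κ → ι → F) (hq : ∀ i, Q (w i) = 0) (hp : ∀ i j, i ≠ j → QuadraticMap.polar Q (w i) (w j) = 0)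
    (hd : ∀ i j, QuadraticMap.polar Q (w i) (w' j) = if i = j then 1 else 0) : IsPlusTypeOn Q ⊤ := by
  classical
  have hli : LinearIndependent F w := by
    rw [Fintype.linearIndependent_iff]
    intro c hc j
    obtain ⟨Qf, rfl, -⟩ := ONotMax.exists_qform hQ
    have h := congrArg (fun x => QuadraticMap.polarBilin Qf x (w' j)) hc
    simpa [map_sum, hd] using h
  exact plus_of_spans hQ (totallySingular_span hQ w hq hp) (by rw [finrank_span_eq_card hli, hκ])

/-- The main statement. -/
theorem plus_of_rational {m : ℕ} (hcard : Fintype.card ι = 2 * m) (hm : 2 ≤ m) {F₁ : Subfield F}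
    (hc : Fintype.card F = Nat.card F₁ ^ 2) {P : GL ι F} {ζ : F} (hζ : ζ ≠ 0)
    (hrat : IsQuadFormRationalStructure (fun v => ζ * Q v) F₁ P) : IsPlusTypeOn Q ⊤ := by
  classical
  haveI : Fintype F₁ := Fintype.ofFinite _
  set Pm := (P : Matrix ι ι F) with hPm
  have hb := hQ.polar_bilinear
  have hpol : ∀ u v : ι → F, (∀ i, u i ∈ F₁) → (∀ i, v i ∈ F₁) →
      ζ * QuadraticMap.polar Q (Pm *ᵥ u) (Pm *ᵥ v) ∈ F₁ := fun u v hu hv => by
    have h1 := hrat (u + v) fun i => add_mem (hu i) (hv i)
    have h2 := hrat u hu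
    have h3 := hrat v hv
    rw [← hPm] at h1 h2 h3
    simp only [QuadraticMap.polar, ← Matrix.mulVec_add, mul_sub]
    exact sub_mem (sub_mem h1 h2) h3
  let u : Basis ι F (ι → F) := (Pi.basisFun F ι).map (Matrix.GeneralLinearGroup.toLin P).toLinearEquiv
  have hu : ∀ i, u i = Pm *ᵥ Pi.single i 1 := fun i => by
    simp only [u, Basis.map_apply, Pi.basisFun_apply]; rfl
  have hsingle : ∀ i j : ι, (Pi.single i 1 : ι → F) j ∈ F₁ := fun i j => by
    rw [Pi.single_apply]; split_ifs
    · exact F₁.one_mem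
    · exact F₁.zero_mem
  let M : Matrix ι ι F₁ := Matrix.of fun i j => ⟨ζ * QuadraticMap.polar Q (u i) (u j), by
    rw [hu, hu]; exact hpol _ _ (hsingle i) (hsingle j)⟩
  have hM : M.map F₁.subtype = ζ • Matrix.of fun i j => QuadraticMap.polar Q (u i) (u j) := by
    ext i j; simp [M]
  by_cases h2 : (2 : F) = 0
  swap
  · refine plus_of_basis_det hQ h2 hcard u ?_
    have hd := congrArg Matrix.det hM
    rw [Matrix.det_smul, show M.map F₁.subtype = F₁.subtype.mapMatrix M from rfl, ← RingHom.map_det, hcard] at hd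
    have hdet : IsSquare ((M.det : F₁) : F) := isSquare_of_index_two hc M.det.2
    have hneg : IsSquare ((-1 : F) ^ m) := isSquare_of_index_two hc (pow_mem (neg_mem F₁.one_mem) m)
    refine hneg.mul ?_
    obtain ⟨s, hs⟩ := hdet
    refine ⟨s / ζ ^ m, ?_⟩
    rw [show F₁.subtype M.det = ((M.det : F₁) : F) from rfl, hs] at hd
    field_simp
    linear_combination -hd
  -- characteristic two: a frame over the subfield
  let emb : (ι → F₁) → (ι → F) := fun v => Pm *ᵥ fun i => (v i : F)
  have hemb_add : ∀ v w, emb (v + w) = emb v + emb w := fun v w => by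
    simp only [emb, ← Matrix.mulVec_add]; rfl
  have hemb_smul : ∀ (c : F₁) v, emb (c • v) = (c : F) • emb v := fun c v => by
    simp only [emb, ← Matrix.mulVec_smul]; rfl
  let q₁ : (ι → F₁) → F₁ := fun v => ⟨ζ * Q (emb v), hrat _ fun i => (v i).2⟩
  have hp₁ : ∀ v w, ((QuadraticMap.polar q₁ v w : F₁) : F) = ζ * QuadraticMap.polar Q (emb v) (emb w) := fun v w => by
    simp only [QuadraticMap.polar, q₁, hemb_add]
    push_cast
    ring
  let Q₁ : QuadraticForm F₁ (ι → F₁) := QuadraticMap.ofPolar q₁
    (fun c v => by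
      apply Subtype.ext
      simp only [q₁, hemb_smul, hQ.smul, smul_eq_mul]
      push_cast
      ring)
    (fun a b c => by apply Subtype.ext; push_cast; rw [hp₁, hp₁, hp₁, hemb_add, hb.add_left]; ring)
    (fun c a b => by
      apply Subtype.ext
      simp only [smul_eq_mul]
      push_cast
      rw [hp₁, hp₁, hemb_smul, hb.smul_left]
      ring)
  have hp₁' : ∀ v w, ((QuadraticMap.polar Q₁ v w : F₁) : F) = ζ * QuadraticMap.polar Q (emb v) (emb w) := hp₁
  have hq₁ : ∀ v, ((Q₁ v : F₁) : F) = ζ * Q (emb v) := fun v => rfl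
  have hN : Cfsg.Agent.Small.QuadBasis.Nondeg Q₁ (⊤ : Submodule F₁ (ι → F₁)) := by
    intro v _ hv
    by_contra hv0
    have h0 : emb v ≠ 0 := fun h => hv0 (funext fun i => by
      have h' := gl_mulVec_injective P (a₁ := fun i => (v i : F)) (a₂ := 0) (by
        simp only [Matrix.mulVec_zero]; exact h)
      exact Subtype.ext (congrFun h' i))
    obtain ⟨z, hz⟩ := (hQ.nondegenerate _ h0).2
    apply hz
    obtain ⟨Qf, hQf, -⟩ := ONotMax.exists_qform hQ
    subst hQf
    conv_lhs => rw [← u.sum_repr z]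
    rw [← QuadraticMap.polarBilin_apply_apply, map_sum]
    refine Finset.sum_eq_zero fun j _ => ?_
    rw [map_smul, QuadraticMap.polarBilin_apply_apply]
    have e1 : emb (Pi.single j 1) = u j := by
      rw [hu]; simp only [emb]; congr 1; funext i; simp [Pi.single_apply]
      split_ifs <;> simp
    have := congrArg (fun x : F₁ => (x : F)) (hv (Pi.single j 1) Submodule.mem_top)
    rw [hp₁', e1, ZeroMemClass.coe_zero] at this
    rw [(mul_eq_zero.mp this).resolve_left hζ, smul_zero]
  obtain ⟨e, f, W₀, hF, -, hN₀, hd₀, ho⟩ := Cfsg.Agent.Small.QuadBasis.exists_frame Q₁ 2 (Or.inr rfl) (m - 1) ⊤ hN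
    (by rw [finrank_top, Module.finrank_pi, hcard]; omega)
  -- a singular vector of the plane with a partner
  obtain ⟨z, z', hz, hzz, hzo⟩ : ∃ z z' : ι → F, Q z = 0 ∧ QuadraticMap.polar Q z z' = ζ⁻¹ ∧
      ∀ i, ∀ v ∈ ({e i, f i} : Set (ι → F₁)), QuadraticMap.polar Q (emb v) z = 0 ∧ QuadraticMap.polar Q (emb v) z' = 0 := by
    have hval : ∀ v w, QuadraticMap.polar Q₁ v w = 1 → QuadraticMap.polar Q (emb v) (emb w) = ζ⁻¹ := fun v w h => by
      have := hp₁' v w
      rw [h, OneMemClass.coe_one] at this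
      exact eq_inv_of_mul_eq_one_right this.symm
    have horth : ∀ x ∈ W₀, ∀ i, ∀ v ∈ ({e i, f i} : Set (ι → F₁)), QuadraticMap.polar Q (emb v) (emb x) = 0 := by
      intro x hx i v hv
      have h0 : QuadraticMap.polar Q₁ v x = 0 := by
        rcases hv with rfl | rfl
        · exact (ho x hx i).1
        · exact (ho x hx i).2
      have := hp₁' v x
      rw [h0, ZeroMemClass.coe_zero] at this
      exact (mul_eq_zero.mp this.symm).resolve_left hζ
    rcases Cfsg.Agent.Small.QuadBasis.exists_binary Q₁ hN₀ hd₀ with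
      ⟨a, b, ha, hb', hQa, hQb, hab⟩ | ⟨x, y, θ, hx, hy, hQx, hxy, hQy, -, -⟩
    · refine ⟨emb a, emb b, ?_, hval a b hab, fun i v hv => ⟨horth a ha i v hv, horth b hb' i v hv⟩⟩
      have := hq₁ a
      rw [hQa, ZeroMemClass.coe_zero] at this
      exact (mul_eq_zero.mp this.symm).resolve_left hζ
    · obtain ⟨t, ht⟩ := exists_root_of_index_two h2 hc (θ : F) θ.2
      refine ⟨t • emb x + emb y, emb x, ?_, ?_, fun i v hv => ⟨?_, horth x hx i v hv⟩⟩
      · have e1 : Q (t • emb x + emb y) = Q (t • emb x) + Q (emb y) + QuadraticMap.polar Q (t • emb x) (emb y) := by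
          simp only [QuadraticMap.polar]; ring
        have hx1 : ζ * Q (emb x) = 1 := by rw [← hq₁, hQx, OneMemClass.coe_one]
        have hy1 : ζ * Q (emb y) = θ := by rw [← hq₁, hQy]
        rw [e1, hQ.smul, hb.smul_left, hval x y hxy]
        refine (mul_eq_zero.mp (?_ : ζ * _ = 0)).resolve_left hζ
        rw [mul_add, mul_add, ← mul_assoc, mul_comm ζ (t ^ 2), mul_assoc, hx1, hy1, mul_left_comm,
          mul_inv_cancel₀ hζ]
        linear_combination ht
      · rw [hb.add_left, hb.smul_left, polar_self_eq hQ, h2, zero_mul, mul_zero, zero_add,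
          QuadraticMap.polar_comm, hval x y hxy]
      · rw [hb.add_right, hb.smul_right, horth x hx i v hv, horth y hy i v hv, mul_zero, add_zero]
  have hT : ∀ v w, QuadraticMap.polar Q₁ v w = 0 → QuadraticMap.polar Q (emb v) (emb w) = 0 := fun v w h => by
    have := hp₁' v w
    rw [h, ZeroMemClass.coe_zero] at this
    exact (mul_eq_zero.mp this.symm).resolve_left hζ
  refine plus_of_dual hQ (κ := Option (Fin (m - 1))) (by rw [Fintype.card_option, Fintype.card_fin]; omega)
    (fun o => o.elim z fun i => emb (e i)) (fun o => ζ • o.elim z' fun i => emb (f i)) ?_ ?_ ?_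
  · rintro (_ | i)
    · exact hz
    · have := hq₁ (e i)
      rw [hF.qe, ZeroMemClass.coe_zero] at this
      exact (mul_eq_zero.mp this.symm).resolve_left hζ
  · rintro (_ | i) (_ | j) hij
    · exact absurd rfl hij
    · simp only [Option.elim]
      rw [QuadraticMap.polar_comm]
      exact (hzo j (e j) (by simp)).1
    · exact (hzo i (e i) (by simp)).1
    · exact hT _ _ (hF.ee i j)
  · rintro (_ | i) (_ | j) <;> simp only [hb.smul_right, Option.elim]
    · rw [hzz, mul_inv_cancel₀ hζ]; simp
    · rw [QuadraticMap.polar_comm, (hzo j (f j) (by simp)).1, mul_zero, if_neg (by simp)]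
    · rw [(hzo i (e i) (by simp)).2, mul_zero, if_neg (by simp)]
    · rw [← hp₁', hF.ef]
      by_cases h : i = j
      · simp [h]
      · simp [h]

end Cfsg.Agent.Classical.OEven
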