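import Cfsg.Agent.Lib.Classical.OrthPOmega

/-!
# Involutions of `Ω` with prescribed negated subspace
-/

set_option autoImplicit false
set_option linter.unusedSectionVars false

namespace Cfsg.Agent.Classical.OrthInvol

open Module QuadraticMap OCount ORefl OOmega

variable {F : Type*} [Field F] {V : Type*} [AddCommGroup V] [Module F V] [FiniteDimensional F V]
  {Q : QuadraticForm F V}

/-- Orthonormal families short of a basis. -/
theorem exists_orthonormal [Finite F] (h2 : (2 : F) ≠ 0) (hQ : PND Q) :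
    ∀ j, j + 1 ≤ finrank F V → ∃ w : Fin j → V, (∀ i, Q (w i) = 1) ∧ ∀ i i', i ≠ i' → polar Q (w i) (w i') = 0 := by
  intro j
  induction j with
  | zero => exact fun _ => ⟨Fin.elim0, fun i => i.elim0, fun i => i.elim0⟩
  | succ j ih =>
    intro hj
    obtain ⟨w, hw1, hw2⟩ := ih (by omega)
    let φ : V →ₗ[F] (Fin j → F) := LinearMap.pi fun i => QuadraticMap.polarBilin Q (w i)
    have hW : finrank F V ≤ finrank F (LinearMap.ker φ) + j := by
      have := LinearMap.finrank_range_add_finrank_ker φ
      have h := Submodule.finrank_le (LinearMap.range φ)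
      rw [finrank_fintype_fun_eq_card, Fintype.card_fin] at h
      omega
    have hmem : ∀ {x}, x ∈ LinearMap.ker φ ↔ ∀ i, polar Q (w i) x = 0 := fun {x} => by
      simp [φ, funext_iff]
    let Q' : QuadraticForm F (LinearMap.ker φ) := QuadraticMap.comp Q (LinearMap.ker φ).subtype
    have hpol : ∀ x y : LinearMap.ker φ, polar Q' x y = polar Q (x : V) (y : V) := fun x y => rfl
    have hPND : PND Q' := fun v hv => Subtype.ext (hQ _ fun x => by
      let s := ∑ i, ((2 : F)⁻¹ * polar Q (w i) x) • w i
      have hs : ∀ y, polar Q y s = ∑ i, ((2 : F)⁻¹ * polar Q (w i) x) * polar Q y (w i) := fun y => by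
        rw [← QuadraticMap.polarBilin_apply_apply, map_sum]
        simp
      have hx : x - s ∈ LinearMap.ker φ := hmem.2 fun i => by
        rw [polar_sub_right, hs, Finset.sum_eq_single i (fun k _ hk => by rw [hw2 i k (Ne.symm hk), mul_zero])
          (fun h => absurd (Finset.mem_univ i) h), polar_self_two, hw1]
        field_simp
        ring
      have h0 := hv ⟨x - s, hx⟩
      rw [hpol, polar_sub_right, hs, Finset.sum_eq_zero (fun i _ => by
        rw [polar_comm Q (v : V), hmem.1 v.2 i, mul_zero]), sub_zero] at h0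
      exact h0)
    obtain ⟨u, hu⟩ := exists_value h2 hPND (by omega) (1 : F)
    have hu' : Q (u : V) = 1 := hu
    refine ⟨Fin.cons (u : V) w, fun i => ?_, fun i i' h => ?_⟩
    · refine Fin.cases ?_ (fun k => ?_) i <;> simp [hu', hw1]
    · revert h
      refine Fin.cases ?_ (fun k => ?_) i <;> refine Fin.cases ?_ (fun k' => ?_) i' <;> intro h
      · exact absurd rfl h
      · simp only [Fin.cons_zero, Fin.cons_succ]; rw [polar_comm]; exact hmem.1 u.2 _
      · simp only [Fin.cons_zero, Fin.cons_succ]; exact hmem.1 u.2 _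
      · simp only [Fin.cons_succ]; exact hw2 _ _ fun e => h (by rw [e])

/-- The eigenspace for `c`. -/
def eig (g : ↥(Iso Q)) (c : F) : Submodule F V := LinearMap.ker (g.1.toLinearMap - c • LinearMap.id)

theorem mem_eig {g : ↥(Iso Q)} {c : F} {x : V} : x ∈ eig g c ↔ g.1 x = c • x := by
  simp [eig, sub_eq_zero]

theorem disjoint_eig (h2 : (2 : F) ≠ 0) (g : ↥(Iso Q)) : Disjoint (eig g 1) (eig g (-1)) := by
  rw [Submodule.disjoint_def]
  intro x h1 h1'
  rw [mem_eig, one_smul] at h1
  rw [mem_eig, neg_one_smul, h1] at h1'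
  have : (2 : F) • x = 0 := by rw [two_smul]; nth_rw 2 [h1']; exact add_neg_cancel x
  exact (smul_eq_zero.1 this).resolve_left h2

theorem finrank_eig_conj (h g : ↥(Iso Q)) (c : F) :
    finrank F (eig (h * g * h⁻¹) c) = finrank F (eig g c) := by
  refine (LinearEquiv.finrank_eq (LinearEquiv.ofSubmodules h.1 _ _ ?_)).symm
  ext x
  obtain ⟨y, rfl⟩ := h.1.surjective x
  rw [Submodule.mem_map, mem_eig]
  have e : (h * g * h⁻¹).1 (h.1 y) = h.1 (g.1 y) := by
    show h.1 (g.1 (h.1.symm (h.1 y))) = _
    rw [LinearEquiv.symm_apply_apply]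
  rw [e, ← map_smul, h.1.injective.eq_iff, ← mem_eig]
  exact ⟨fun ⟨z, hz, hzy⟩ => h.1.injective hzy ▸ hz, fun hy => ⟨y, hy, rfl⟩⟩

/-- Involutions of `Ω` negating exactly a `2k`-dimensional subspace. -/
theorem exists_involution [Finite F] (h2 : (2 : F) ≠ 0) (hQ : PND Q) (k : ℕ) (hk : 2 * k + 1 ≤ finrank F V)
    (hn : 2 ≤ finrank F V) :
    ∃ g : ↥(Iso Q), g ∈ commutator ↥(Iso Q) ∧ g * g = 1 ∧ finrank F (eig g (-1)) = 2 * k ∧
      finrank F (eig g 1) + 2 * k = finrank F V := by
  obtain ⟨w, hw1, hw2⟩ := exists_orthonormal h2 hQ (2 * k) hk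
  set l := List.ofFn w with hl
  have hns : ∀ x ∈ l, Q x ≠ 0 := fun x hx => by
    obtain ⟨i, rfl⟩ := List.mem_ofFn.1 hx
    rw [hw1]; exact one_ne_zero
  have hp : l.Pairwise fun v u => polar Q v u = 0 :=
    List.pairwise_ofFn.2 fun i j hij => hw2 i j hij.ne
  obtain ⟨h1, h3⟩ := prod_rf_apply l hns hp
  generalize hg : (l.map (rf Q)).prod = g at h1 h3
  let φ : V →ₗ[F] (Fin (2 * k) → F) := LinearMap.pi fun i => QuadraticMap.polarBilin Q (w i)
  have hker : LinearMap.ker φ ≤ eig g 1 := fun x hx => by
    rw [mem_eig, one_smul]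
    refine h3 x fun u hu => ?_
    obtain ⟨i, rfl⟩ := List.mem_ofFn.1 hu
    exact congrFun (LinearMap.mem_ker.1 hx) i
  have hdim : finrank F V ≤ finrank F (LinearMap.ker φ) + 2 * k := by
    have := LinearMap.finrank_range_add_finrank_ker φ
    have h := Submodule.finrank_le (LinearMap.range φ)
    rw [finrank_fintype_fun_eq_card, Fintype.card_fin] at h
    omega
  have hspan : Submodule.span F (Set.range w) ≤ eig g (-1) := Submodule.span_le.2 (by
    rintro _ ⟨i, rfl⟩
    rw [SetLike.mem_coe, mem_eig, neg_one_smul]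
    exact h1 _ (List.mem_ofFn.2 ⟨i, rfl⟩))
  have hli : LinearIndependent F w := by
    rw [Fintype.linearIndependent_iff]
    intro c hc i
    have := congrArg (fun x => QuadraticMap.polarBilin Q (w i) x) hc
    simp only [map_sum, map_smul, map_zero, QuadraticMap.polarBilin_apply_apply, smul_eq_mul] at this
    rw [Finset.sum_eq_single i (fun j _ hj => by rw [hw2 i j (Ne.symm hj), mul_zero])
      (fun h => absurd (Finset.mem_univ i) h), polar_self_two, hw1, mul_one] at this
    exact (mul_eq_zero.1 this).resolve_right h2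
  have e1 : 2 * k ≤ finrank F (eig g (-1)) := by
    have := finrank_span_eq_card hli
    rw [Fintype.card_fin] at this
    exact this ▸ Submodule.finrank_mono hspan
  have e2 := Submodule.finrank_mono hker
  have e3 : finrank F (eig g 1) + finrank F (eig g (-1)) ≤ finrank F V := by
    have := Submodule.finrank_sup_add_finrank_inf_eq (eig g 1) (eig g (-1))
    rw [(disjoint_eig h2 g).eq_bot, finrank_bot, add_zero] at this
    exact this ▸ Submodule.finrank_le _
  refine ⟨g, ?_, ?_, by omega, by omega⟩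
  · rw [← Abelianization.ker_of, MonoidHom.mem_ker, ← hg]
    obtain ⟨v, hv⟩ := exists_value h2 hQ hn (1 : F)
    rw [map_list_prod, List.map_map, List.map_eq_replicate_iff.2 (fun x hx => by
      obtain ⟨i, rfl⟩ := List.mem_ofFn.1 hx
      exact map_rf_eq hQ Abelianization.of (v := v) (by rw [hv]; exact one_ne_zero) (by rw [hw1, hv])),
      List.prod_replicate, hl, List.length_ofFn, pow_mul, pow_two, ← map_mul, rf_mul_self, map_one, one_pow]
  · refine Subtype.ext (LinearEquiv.ext fun x => ?_)
    have htop : eig g 1 ⊔ eig g (-1) = ⊤ := by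
      refine Submodule.eq_top_of_finrank_eq ?_
      have := Submodule.finrank_sup_add_finrank_inf_eq (eig g 1) (eig g (-1))
      rw [(disjoint_eig h2 g).eq_bot, finrank_bot, add_zero] at this
      omega
    obtain ⟨a, ha, b, hb, rfl⟩ := Submodule.mem_sup.1 (htop ▸ Submodule.mem_top : x ∈ eig g 1 ⊔ eig g (-1))
    rw [mem_eig] at ha hb
    show g.1 (g.1 (a + b)) = a + b
    simp only [map_add, map_smul, ha, hb, one_smul, neg_one_smul, map_neg, neg_neg]

end Cfsg.Agent.Classical.OrthInvol
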