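import Cfsg.Agent.Lib.Classical.OrthClosed
import Cfsg.Agent.Lib.Fusion.Dihedral

/-!
# `GO⁻₂` is dihedral

The plane is the quadratic extension with its norm: the isometries are the multiplications by
elements of norm one, together with those composed with conjugation.
-/

set_option autoImplicit false
set_option linter.unusedSectionVars false

namespace Cfsg.Agent.Classical.OPlane

open Matrix

variable {F : Type*} [Field F] (a b : F)

local notation "I2" => ((Fin 0 ⊕ Fin 0) ⊕ Fin 2)

/-- A matrix on the plane. -/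
def m2 (p q r s : F) : Matrix I2 I2 F :=
  Matrix.of fun i j => !![p, q; r, s] (Sum.elim (fun _ => (0 : Fin 2)) id i) (Sum.elim (fun _ => (0 : Fin 2)) id j)

theorem ext2 {A B : Matrix I2 I2 F} (h : ∀ i j : Fin 2, A (.inr i) (.inr j) = B (.inr i) (.inr j)) : A = B := by
  ext i j
  rcases i with (i | i) | i
  · exact i.elim0
  · exact i.elim0
  rcases j with (j | j) | j
  · exact j.elim0
  · exact j.elim0
  exact h i j

theorem m2_mul (p q r s p' q' r' s' : F) :
    m2 p q r s * m2 p' q' r' s' = m2 (p * p' + q * r') (p * q' + q * s') (r * p' + s * r') (r * q' + s * s') := by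
  refine ext2 fun i j => ?_
  rw [Matrix.mul_apply, Fintype.sum_sum_type]
  simp only [Finset.univ_eq_empty, Finset.sum_empty, zero_add]
  fin_cases i <;> fin_cases j <;> simp [m2, Fin.sum_univ_two]

theorem m2_one : m2 (1 : F) 0 0 1 = 1 := by
  refine ext2 fun i j => ?_
  fin_cases i <;> fin_cases j <;> simp [m2]

theorem mulVec_m2 (p q r s : F) (v : I2 → F) :
    (m2 p q r s *ᵥ v) (.inr 0) = p * v (.inr 0) + q * v (.inr 1) ∧
      (m2 p q r s *ᵥ v) (.inr 1) = r * v (.inr 0) + s * v (.inr 1) := by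
  constructor <;>
    · simp only [Matrix.mulVec, dotProduct]
      rw [Fintype.sum_sum_type]
      simp [m2, Fin.sum_univ_two]

theorem qf (v : I2 → F) :
    Cfsg.quadFormMinus 0 F a b v = v (.inr 0) ^ 2 + a * v (.inr 0) * v (.inr 1) + b * v (.inr 1) ^ 2 := by
  simp [Cfsg.quadFormMinus]

/-- Multiplication by `u + v ω`. -/
def rot (u v : F) : Matrix I2 I2 F := m2 u (-(b * v)) v (u + a * v)

/-- Conjugation. -/
def conjM : Matrix I2 I2 F := m2 1 a 0 (-1)

theorem rot_mul (u v u' v' : F) :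
    rot a b u v * rot a b u' v' = rot a b (u * u' - b * (v * v')) (u * v' + v * u' + a * (v * v')) := by
  rw [rot, rot, rot, m2_mul]
  congr 1 <;> ring

theorem conjM_sq : conjM a * conjM a = 1 := by
  rw [conjM, m2_mul, ← m2_one (F := F)]
  congr 1 <;> ring

theorem conjM_rot (u v : F) : conjM a * rot a b u v = rot a b (u + a * v) (-v) * conjM a := by
  rw [conjM, rot, rot, m2_mul, m2_mul]
  congr 1 <;> ring

variable [Fintype F] {a b} (hab : ∀ z₁ z₂ : F, z₁ ^ 2 + a * z₁ * z₂ + b * z₂ ^ 2 = 0 → z₁ = 0 ∧ z₂ = 0)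

include hab in
theorem disc_ne : a * a - 4 * b ≠ 0 := by
  intro h
  by_cases h2 : (2 : F) = 0
  · have ha : a = 0 := mul_self_eq_zero.mp (by linear_combination h + 2 * b * h2)
    haveI : CharP F 2 := CharTwo.of_one_ne_zero_of_two_eq_zero one_ne_zero h2
    obtain ⟨s, hs⟩ := FiniteField.isSquare_of_char_two (ringChar.eq F 2) b
    exact one_ne_zero (hab s 1 (by rw [ha]; linear_combination hs + s * s * h2)).2
  · exact one_ne_zero (hab (-a / 2) 1 (by field_simp; linear_combination -h)).2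

set_option quotPrecheck false in
local notation "GO2" => ↥(Cfsg.isometryGroup F (Cfsg.quadFormMinus 0 F a b))

theorem pres (g : GO2) (v : I2 → F) :
    Cfsg.quadFormMinus 0 F a b (g.1.1 *ᵥ v) = Cfsg.quadFormMinus 0 F a b v := g.2 v v

include hab in
/-- Every isometry is a rotation, possibly after conjugation. -/
theorem classify (g : GO2) :
    ∃ u v : F, u ^ 2 + a * u * v + b * v ^ 2 = 1 ∧ (g.1.1 = rot a b u v ∨ g.1.1 = rot a b u v * conjM a) := by
  obtain ⟨u, hu⟩ : ∃ u, u = g.1.1 (.inr 0) (.inr 0) := ⟨_, rfl⟩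
  obtain ⟨v, hv⟩ : ∃ v, v = g.1.1 (.inr 1) (.inr 0) := ⟨_, rfl⟩
  obtain ⟨x, hx⟩ : ∃ x, x = g.1.1 (.inr 0) (.inr 1) := ⟨_, rfl⟩
  obtain ⟨y, hy⟩ : ∃ y, y = g.1.1 (.inr 1) (.inr 1) := ⟨_, rfl⟩
  have hg : g.1.1 = m2 u x v y := ext2 fun i j => by
    fin_cases i <;> fin_cases j <;> simp [m2, hu, hv, hx, hy]
  have hq : ∀ z₁ z₂ : F, (u * z₁ + x * z₂) ^ 2 + a * (u * z₁ + x * z₂) * (v * z₁ + y * z₂) +
      b * (v * z₁ + y * z₂) ^ 2 = z₁ ^ 2 + a * z₁ * z₂ + b * z₂ ^ 2 := by
    intro z₁ z₂
    have h := pres g (Sum.elim (Sum.elim (fun k => k.elim0) fun k => k.elim0) ![z₁, z₂])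
    rw [qf, qf, hg] at h
    obtain ⟨e0, e1⟩ := mulVec_m2 u x v y (Sum.elim (Sum.elim (fun k => k.elim0) fun k => k.elim0) ![z₁, z₂])
    rw [e0, e1] at h
    simpa using h
  have h10 : u ^ 2 + a * u * v + b * v ^ 2 = 1 := by linear_combination hq 1 0
  have h01 : x ^ 2 + a * x * y + b * y ^ 2 = b := by linear_combination hq 0 1
  have h11 : 2 * (u * x) + a * (u * y + v * x) + 2 * b * (v * y) = a := by
    linear_combination hq 1 1 - hq 1 0 - hq 0 1
  obtain ⟨p, hp⟩ : ∃ p, p = (u + a * v) * x + b * v * y := ⟨_, rfl⟩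
  obtain ⟨r, hr⟩ : ∃ r, r = -v * x + u * y := ⟨_, rfl⟩
  have hpr : p ^ 2 + a * p * r + b * r ^ 2 = b := by
    rw [hp, hr]; linear_combination (u ^ 2 + a * u * v + b * v ^ 2) * h01 + b * h10
  have har : a * r = a - 2 * p := by
    rw [hp, hr]; linear_combination h11
  have hx' : x = u * p + -(b * v) * r := by rw [hp, hr]; linear_combination -x * h10
  have hy' : y = v * p + (u + a * v) * r := by rw [hp, hr]; linear_combination -y * h10
  have key : p * (a - p) + b * (r ^ 2 - 1) = 0 := by linear_combination hpr - p * har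
  have hr2 : r * r = 1 := by
    have : (a * a - 4 * b) * (r * r - 1) = 0 := by
      linear_combination (a * r + a - 2 * p) * har - 4 * key
    exact sub_eq_zero.mp ((mul_eq_zero.mp this).resolve_left (disc_ne hab))
  have hp0 : p * (a - p) = 0 := by linear_combination key - b * hr2
  refine ⟨u, v, h10, ?_⟩
  rw [hg]
  have hrot : (p = 0 ∧ r = 1) ∨ (p = a ∧ r = -1) := by
    rcases mul_self_eq_one_iff.mp hr2 with e | e <;> rcases mul_eq_zero.mp hp0 with e' | e'
    · exact Or.inl ⟨e', e⟩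
    · have hpa : p = a := (sub_eq_zero.mp e').symm
      by_cases h2 : (2 : F) = 0
      · exact Or.inr ⟨hpa, by rw [e]; linear_combination h2⟩
      · rw [e, hpa] at har
        exact Or.inl ⟨hpa.trans ((mul_eq_zero.mp (show (2 : F) * a = 0 by linear_combination har)).resolve_left h2), e⟩
    · by_cases h2 : (2 : F) = 0
      · exact Or.inl ⟨e', by rw [e]; linear_combination -h2⟩
      · rw [e, e'] at har
        exact Or.inr ⟨e'.trans ((mul_eq_zero.mp (show (2 : F) * a = 0 by linear_combination -har)).resolve_left h2).symm, e⟩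
    · exact Or.inr ⟨(sub_eq_zero.mp e').symm, e⟩
  rcases hrot with ⟨e1, e2⟩ | ⟨e1, e2⟩
  · left
    rw [hx', hy', e1, e2, rot]
    congr 1 <;> ring
  · right
    rw [hx', hy', e1, e2, rot, conjM, m2_mul]
    congr 1 <;> ring

theorem rot_mem {u v : F} (h : u ^ 2 + a * u * v + b * v ^ 2 = 1) (z : I2 → F) :
    Cfsg.quadFormMinus 0 F a b (rot a b u v *ᵥ z) = Cfsg.quadFormMinus 0 F a b z := by
  rw [qf, qf, rot, (mulVec_m2 u (-(b * v)) v (u + a * v) z).1, (mulVec_m2 u (-(b * v)) v (u + a * v) z).2]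
  linear_combination (z (.inr 0) ^ 2 + a * z (.inr 0) * z (.inr 1) + b * z (.inr 1) ^ 2) * h

theorem conjM_mem (z : I2 → F) :
    Cfsg.quadFormMinus 0 F a b (conjM a *ᵥ z) = Cfsg.quadFormMinus 0 F a b z := by
  rw [qf, qf, conjM, (mulVec_m2 1 a 0 (-1) z).1, (mulVec_m2 1 a 0 (-1) z).2]
  ring

/-- Conjugation as an element. -/
def conjG : GO2 :=
  ⟨⟨conjM a, conjM a, conjM_sq a, conjM_sq a⟩, fun z _ => conjM_mem z⟩

variable (a b) in
/-- The rotations. -/
def rots : Subgroup GO2 where
  carrier := {g | ∃ u v : F, u ^ 2 + a * u * v + b * v ^ 2 = 1 ∧ g.1.1 = rot a b u v}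
  one_mem' := ⟨1, 0, by ring, by
    change (1 : Matrix I2 I2 F) = _
    rw [rot, ← m2_one (F := F)]; congr 1 <;> ring⟩
  mul_mem' := by
    rintro g g' ⟨u, v, h, e⟩ ⟨u', v', h', e'⟩
    refine ⟨u * u' - b * (v * v'), u * v' + v * u' + a * (v * v'), ?_, ?_⟩
    · linear_combination (u' ^ 2 + a * u' * v' + b * v' ^ 2) * h + h'
    · rw [Subgroup.coe_mul, Units.val_mul, e, e', rot_mul]
  inv_mem' := by
    rintro g ⟨u, v, h, e⟩
    refine ⟨u + a * v, -v, by linear_combination h, ?_⟩
    have h1 : g.1.1 * rot a b (u + a * v) (-v) = 1 := by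
      rw [e, rot_mul, rot, ← m2_one (F := F)]
      congr 1 <;> first | linear_combination h | ring
    calc (g⁻¹).1.1 = (g.1⁻¹).1 * (g.1.1 * rot a b (u + a * v) (-v)) := by rw [h1, Matrix.mul_one]; rfl
      _ = rot a b (u + a * v) (-v) := by rw [← Matrix.mul_assoc, ← Units.val_mul, inv_mul_cancel, Units.val_one, Matrix.one_mul]

include hab in
theorem conjG_not_mem : (conjG : GO2) ∉ rots a b := by
  rintro ⟨u, v, -, h⟩
  change conjM a = rot a b u v at h
  have h00 := congrFun (congrFun h (.inr 0)) (.inr 0)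
  have h01 := congrFun (congrFun h (.inr 0)) (.inr 1)
  have h10 := congrFun (congrFun h (.inr 1)) (.inr 0)
  have h11 := congrFun (congrFun h (.inr 1)) (.inr 1)
  simp [conjM, rot, m2] at h00 h01 h10 h11
  rw [← h10, mul_zero, neg_zero] at h01
  rw [← h10, mul_zero, add_zero, ← h00] at h11
  have h2 : (2 : F) = 0 := by linear_combination -h11
  exact disc_ne hab (by rw [h01]; linear_combination -2 * b * h2)

include hab in
theorem index_rots : (rots a b).index = 2 := by
  rw [Subgroup.index_eq_two_iff]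
  refine ⟨conjG, fun g => ?_⟩
  obtain ⟨u, v, h, e | e⟩ := classify hab g
  · refine Or.inr ⟨⟨u, v, h, e⟩, fun hm => conjG_not_mem hab ?_⟩
    have := mul_mem (inv_mem (show g ∈ rots a b from ⟨u, v, h, e⟩)) hm
    rwa [inv_mul_cancel_left] at this
  · have hm : g * conjG ∈ rots a b := ⟨u, v, h, by
      rw [Subgroup.coe_mul, Units.val_mul, e]
      change rot a b u v * conjM a * conjM a = _
      rw [Matrix.mul_assoc, conjM_sq, Matrix.mul_one]⟩
    refine Or.inl ⟨hm, fun hg => conjG_not_mem hab ?_⟩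
    have := mul_mem (inv_mem hg) hm
    rwa [inv_mul_cancel_left] at this

include hab in
/-- The rotations form a cyclic group. -/
theorem cyclic_rots : IsCyclic ↥(rots a b) := by
  obtain ⟨ω, hω⟩ := IsAlgClosed.exists_root (k := AlgebraicClosure F)
    (Polynomial.X ^ 2 - Polynomial.C (algebraMap F (AlgebraicClosure F) a) * Polynomial.X +
      Polynomial.C (algebraMap F (AlgebraicClosure F) b)) (by
      intro h
      have := congrArg (fun p => Polynomial.coeff p 2) (Polynomial.eq_C_of_degree_eq_zero h)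
      simp [Polynomial.coeff_X] at this)
  have hω' : ω ^ 2 - algebraMap F _ a * ω + algebraMap F _ b = 0 := by simpa using hω
  have hnot : ∀ c : F, algebraMap F (AlgebraicClosure F) c ≠ ω := by
    intro c hc
    rw [← hc, ← map_pow, ← map_mul, ← map_sub, ← map_add, map_eq_zero] at hω'
    exact one_ne_zero (hab (-c) 1 (by linear_combination hω')).2
  let f : ↥(rots a b) →* AlgebraicClosure F :=
    { toFun := fun g => algebraMap F _ (g.1.1.1 (.inr 0) (.inr 0)) + algebraMap F _ (g.1.1.1 (.inr 1) (.inr 0)) * ω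
      map_one' := by simp
      map_mul' := fun g g' => by
        obtain ⟨u, v, -, e⟩ := g.2
        obtain ⟨u', v', -, e'⟩ := g'.2
        have hm : (g * g').1.1.1 = rot a b (u * u' - b * (v * v')) (u * v' + v * u' + a * (v * v')) := by
          change g.1.1.1 * g'.1.1.1 = _
          rw [e, e', rot_mul]
        rw [hm, e, e']
        simp [rot, m2, map_mul, map_add, map_sub]
        linear_combination (-(algebraMap F (AlgebraicClosure F) v * algebraMap F _ v')) * hω' }
  refine isCyclic_of_subgroup_isDomain f fun g g' h => ?_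
  obtain ⟨u, v, -, e⟩ := g.2
  obtain ⟨u', v', -, e'⟩ := g'.2
  change algebraMap F _ (g.1.1.1 (.inr 0) (.inr 0)) + algebraMap F _ (g.1.1.1 (.inr 1) (.inr 0)) * ω =
    algebraMap F _ (g'.1.1.1 (.inr 0) (.inr 0)) + algebraMap F _ (g'.1.1.1 (.inr 1) (.inr 0)) * ω at h
  rw [e, e'] at h
  simp [rot, m2] at h
  have hv : v = v' := by
    by_contra hne
    have hne' : algebraMap F (AlgebraicClosure F) v' - algebraMap F _ v ≠ 0 := by
      rw [sub_ne_zero]; exact fun e => hne ((algebraMap F (AlgebraicClosure F)).injective e).symm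
    refine hnot ((u - u') / (v' - v)) ?_
    rw [map_div₀, map_sub, map_sub, div_eq_iff hne']
    linear_combination h
  subst hv
  have hu : u = u' := (algebraMap F (AlgebraicClosure F)).injective (add_right_cancel h)
  subst hu
  exact Subtype.ext (Subtype.ext (Units.ext (e.trans e'.symm)))

include hab in
/-- `GO⁻₂(q)` is dihedral of order `2(q+1)`. -/
theorem dihedral : Nonempty (GO2 ≃* DihedralGroup (Fintype.card F + 1)) := by
  haveI := cyclic_rots hab
  obtain ⟨ρ, hρ⟩ := IsCyclic.exists_generator (α := ↥(rots a b))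
  have hc : Nat.card ↥(rots a b) = Fintype.card F + 1 := by
    have h := (rots a b).card_mul_index
    rw [index_rots hab, OCount.card_GO_minus 0 a b hab] at h
    simp at h
    omega
  have hord : orderOf (ρ : GO2) = Fintype.card F + 1 := by
    rw [Subgroup.orderOf_coe, orderOf_eq_card_of_forall_mem_zpowers hρ, hc]
  obtain ⟨x, hx⟩ : ∃ x : GO2, x = conjG := ⟨_, rfl⟩
  have hxx : x * x = 1 := by rw [hx]; exact Subtype.ext (Units.ext (conjM_sq a))
  have hxne : x ≠ 1 := fun e => conjG_not_mem hab (hx ▸ e ▸ one_mem _)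
  obtain ⟨u, v, huv, hρv⟩ := ρ.2
  have hinv : x * (ρ : GO2) * x = (ρ : GO2)⁻¹ := by
    refine eq_inv_of_mul_eq_one_left (Subtype.ext (Units.ext ?_))
    change x.1.1 * (ρ : GO2).1.1 * x.1.1 * (ρ : GO2).1.1 = 1
    rw [hx, hρv]
    change conjM a * rot a b u v * conjM a * rot a b u v = 1
    rw [conjM_rot, Matrix.mul_assoc _ (conjM a) (conjM a), conjM_sq, Matrix.mul_one, rot_mul, rot, ← m2_one (F := F)]
    congr 1 <;> first | linear_combination huv | ring
  have hy2 : (x * ρ) * (x * ρ) = 1 := by rw [← mul_assoc, hinv, inv_mul_cancel]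
  have hyne : x * (ρ : GO2) ≠ 1 := fun e => conjG_not_mem hab (by
    rw [← hx, show x = (ρ : GO2)⁻¹ from eq_inv_of_mul_eq_one_left e]
    exact inv_mem ρ.2)
  have hxy : x ≠ x * ρ := fun e => by
    have h1 : (ρ : GO2) = 1 := mul_eq_left.mp e.symm
    rw [h1, orderOf_one] at hord
    have := Fintype.card_pos (α := F)
    omega
  have hgen : Subgroup.closure ({x, x * (ρ : GO2)} : Set GO2) = ⊤ := by
    refine eq_top_iff.mpr fun g _ => ?_
    have hx1 : x ∈ Subgroup.closure ({x, x * (ρ : GO2)} : Set GO2) := Subgroup.subset_closure (Set.mem_insert _ _)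
    have hρ1 : (ρ : GO2) ∈ Subgroup.closure ({x, x * (ρ : GO2)} : Set GO2) := by
      have := mul_mem hx1 (Subgroup.subset_closure (Set.mem_insert_of_mem x (Set.mem_singleton (x * (ρ : GO2)))))
      rwa [← mul_assoc, hxx, one_mul] at this
    have hrot : ∀ r : ↥(rots a b), (r : GO2) ∈ Subgroup.closure ({x, x * (ρ : GO2)} : Set GO2) := fun r => by
      obtain ⟨k, rfl⟩ := hρ r
      exact zpow_mem hρ1 k
    obtain ⟨u', v', h', e | e⟩ := classify hab g
    · exact hrot ⟨g, u', v', h', e⟩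
    · have hm : g * x ∈ rots a b := ⟨u', v', h', by
        rw [Subgroup.coe_mul, Units.val_mul, e, hx]
        change rot a b u' v' * conjM a * conjM a = _
        rw [Matrix.mul_assoc, conjM_sq, Matrix.mul_one]⟩
      have := mul_mem (hrot ⟨_, hm⟩) hx1
      rwa [mul_assoc, hxx, mul_one] at this
  obtain ⟨e⟩ := Cfsg.Agent.Fusion.closure_pair_equiv_dihedral (x := x) (y := x * (ρ : GO2))
    (orderOf_eq_prime (by rw [sq, hxx]) hxne) (orderOf_eq_prime (by rw [sq, hy2]) hyne) hxy
  rw [← mul_assoc, hxx, one_mul, hord] at e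
  exact ⟨(Subgroup.topEquiv.symm.trans (MulEquiv.subgroupCongr hgen.symm)).trans e⟩

end Cfsg.Agent.Classical.OPlane
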