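/-
Orthogonal groups: stabilisers of decompositions into small members of plus type that are not maximal.
-/
import Cfsg.Agent.Lib.Classical.OrthNotMax
import Cfsg.Agent.Lib.Classical.OrthForms

set_option autoImplicit false
set_option linter.unusedSectionVars false

namespace Cfsg.Agent.Classical.OPlusNotMax

open Module QuadraticMap Matrix OCount ORefl OOmega Cfsg.Agent.Classical ONotMax

variable {ι : Type} [Fintype ι] [DecidableEq ι] {F : Type*} [Field F] [Fintype F]
variable {Q : QuadraticForm F (ι → F)} {t : ℕ} {D : Fin t → Submodule F (ι → F)}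

/-- A set fixed by the stabiliser, by one more element, and not by the whole of `Ω`, gives an intermediate group. -/
theorem not_max_of_set (T : Set (ι → F))
    (hH : ∀ (g : GL ι F) (σ : Fin t → Fin t), (∀ i, ∀ x ∈ D i, (g : Matrix ι ι F) *ᵥ x ∈ D (σ i)) →
      (∀ x, Q ((g : Matrix ι ι F) *ᵥ x) = Q x) → ∀ x ∈ T, (g : Matrix ι ι F) *ᵥ x ∈ T)
    (hb : ∃ g ∈ Cfsg.Geo.omegaGL ⇑Q, (∀ x ∈ T, (g : Matrix ι ι F) *ᵥ x ∈ T) ∧
      g ∉ Cfsg.Geo.decompositionStabilizer D)
    (hc : ∃ g ∈ Cfsg.Geo.omegaGL ⇑Q, ∃ x ∈ T, (g : Matrix ι ι F) *ᵥ x ∉ T) :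
    ∃ K : Subgroup (GL ι F), Cfsg.Geo.decompositionStabilizer D ⊓ Cfsg.Geo.omegaGL ⇑Q < K ∧
      K < Cfsg.Geo.omegaGL ⇑Q := by
  have hmaps : ∀ g : GL ι F, (∀ v ∈ T, (g : Matrix ι ι F) *ᵥ v ∈ T) →
      g ∈ Cfsg.stabilizing (Cfsg.glToMat ι F) T := by
    intro g hfwd
    have heq : (fun v => (g : Matrix ι ι F) *ᵥ v) '' T = T :=
      Set.eq_of_subset_of_ncard_le (by rintro _ ⟨v, hv, rfl⟩; exact hfwd v hv)
        (Set.ncard_image_of_injective T (gl_mulVec_injective g)).ge (Set.toFinite _)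
    intro v
    refine ⟨hfwd v, fun hv => ?_⟩
    change (g : Matrix ι ι F) *ᵥ v ∈ T at hv
    rw [← heq] at hv
    obtain ⟨w, hw, hwv⟩ := hv
    rwa [← gl_mulVec_injective g hwv]
  obtain ⟨g, hg, hgT, hgD⟩ := hb
  obtain ⟨g', hg', x, hx, hgx⟩ := hc
  refine ⟨Cfsg.stabilizing (Cfsg.glToMat ι F) T ⊓ Cfsg.Geo.omegaGL ⇑Q,
    lt_of_le_not_ge ?_ (fun hle => hgD (hle ⟨hmaps g hgT, hg⟩).1),
    lt_of_le_not_ge inf_le_right (fun hle => hgx (((hle hg').1 x).1 hx))⟩
  rintro h ⟨⟨σ, hσ⟩, hh⟩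
  refine ⟨hmaps h (hH h σ (fun i x hx => ?_) (omega_isometry hh)), hh⟩
  rw [← hσ i]
  exact ⟨x, hx, Matrix.toLin'_apply _ _⟩

/-- A vector of a member only sees that member. -/
theorem eq_of_see (horth : ∀ i j, i ≠ j → Cfsg.Geo.AreOrthogonalFor (QuadraticMap.polar ⇑Q) (D i) (D j))
    {i a : Fin t} {w y : ι → F} (hw : w ∈ D i) (hy : y ∈ D a) (h : polar Q w y ≠ 0) : i = a := by
  by_contra hne
  exact h (horth i a hne w hw y hy)

/-- An element separating two vectors of a member does not stabilise the decomposition. -/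
theorem not_stab (horth : ∀ i j, i ≠ j → Cfsg.Geo.AreOrthogonalFor (QuadraticMap.polar ⇑Q) (D i) (D j))
    {g : GL ι F} {i a b : Fin t} (hab : a ≠ b) {x x' y z : ι → F} (hx : x ∈ D i) (hx' : x' ∈ D i)
    (hy : y ∈ D a) (hz : z ∈ D b) (h1 : polar Q ((g : Matrix ι ι F) *ᵥ x) y ≠ 0)
    (h2 : polar Q ((g : Matrix ι ι F) *ᵥ x') z ≠ 0) : g ∉ Cfsg.Geo.decompositionStabilizer D := by
  rintro ⟨σ, hσ⟩
  have hmem : ∀ {v}, v ∈ D i → (g : Matrix ι ι F) *ᵥ v ∈ D (σ i) := fun {v} hv => by
    rw [← hσ i]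
    exact ⟨v, hv, Matrix.toLin'_apply _ _⟩
  exact hab ((eq_of_see horth (hmem hx) hy h1).symm.trans (eq_of_see horth (hmem hx') hz h2))

/-- A singular vector of a nondegenerate subspace has a partner in it. -/
theorem exists_partner {W : Submodule F (ι → F)} (hW : Cfsg.Geo.IsNondegenerateOn (QuadraticMap.polar ⇑Q) W)
    {e : ι → F} (heW : e ∈ W) (he0 : e ≠ 0) (he : Q e = 0) :
    ∃ f ∈ W, Q f = 0 ∧ polar Q e f = 1 := by
  obtain ⟨x, hxW, hx⟩ := (hW e heW he0).2
  obtain ⟨y, hy⟩ : ∃ y, y = (polar Q e x)⁻¹ • x := ⟨_, rfl⟩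
  have hyW : y ∈ W := hy ▸ W.smul_mem _ hxW
  have hey : polar Q e y = 1 := by rw [hy, polar_smul_right, smul_eq_mul, inv_mul_cancel₀ hx]
  refine ⟨y - Q y • e, W.sub_mem hyW (W.smul_mem _ heW), ?_, ?_⟩
  · rw [map_sub_two, QuadraticMap.map_smul, he, polar_smul_right, polar_comm Q y e, hey]; simp
  · rw [polar_sub_right, hey, polar_smul_right, polar_self_zero he, smul_zero, sub_zero]

/-- Coordinates with respect to a dual family. -/
theorem coords {k : ℕ} {W : Submodule F (ι → F)} (hdim : finrank F W = k) (b b' : Fin k → ι → F)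
    (hb : ∀ p, b p ∈ W) (hdual : ∀ p r, polar Q (b' r) (b p) = if p = r then 1 else 0) {x : ι → F} (hx : x ∈ W) :
    x = ∑ p, polar Q (b' p) x • b p := by
  have hread : ∀ (a : Fin k → F) r, polar Q (b' r) (∑ p, a p • b p) = a r := fun a r => by
    rw [← QuadraticMap.polarBilin_apply_apply, map_sum]
    simp [hdual]
  have hind : LinearIndependent F b := Fintype.linearIndependent_iff.2 fun a ha r => by
    rw [← hread a r, ha, polar_zero_right]
  have hspan : Submodule.span F (Set.range b) = W :=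
    Submodule.eq_of_le_of_finrank_eq (Submodule.span_le.2 (by rintro _ ⟨p, rfl⟩; exact hb p))
      (by rw [finrank_span_eq_card hind, hdim, Fintype.card_fin])
  rw [← hspan, Submodule.mem_span_range_iff_exists_fun] at hx
  obtain ⟨a, rfl⟩ := hx
  exact Finset.sum_congr rfl fun r _ => by rw [hread]

theorem exists_components (htop : iSup D = ⊤) (x : ι → F) :
    ∃ c : Fin t → ι → F, (∀ i, c i ∈ D i) ∧ ∑ i, c i = x := by
  classical
  have h : x ∈ ⨆ i, D i := htop ▸ Submodule.mem_top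
  obtain ⟨f, hf⟩ := (Submodule.mem_iSup_iff_exists_dfinsupp' D x).mp h
  refine ⟨fun a => f a, fun a => (f a).2, ?_⟩
  rw [← hf, DFinsupp.sum]
  refine (Finset.sum_subset (Finset.subset_univ _) fun a _ ha => ?_).symm
  rw [DFinsupp.notMem_support_iff] at ha
  rw [ha, Submodule.coe_zero]

/-- Hyperbolic pairs in planes of plus type. -/
structure PlanePairs (Q : QuadraticForm F (ι → F)) (D : Fin t → Submodule F (ι → F)) (e f : Fin t → ι → F) : Prop where
  orth : ∀ i j, i ≠ j → Cfsg.Geo.AreOrthogonalFor (QuadraticMap.polar ⇑Q) (D i) (D j)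
  mem_e : ∀ i, e i ∈ D i
  mem_f : ∀ i, f i ∈ D i
  val_e : ∀ i, Q (e i) = 0
  val_f : ∀ i, Q (f i) = 0
  pair : ∀ i, polar Q (e i) (f i) = 1

namespace PlanePairs

variable {e f : Fin t → ι → F} (P : PlanePairs Q D e f)
include P

theorem pair' (i : Fin t) : polar Q (f i) (e i) = 1 := by rw [polar_comm]; exact P.pair i

theorem ee (i j : Fin t) : polar Q (e i) (e j) = 0 := by
  by_cases h : i = j
  · subst h; exact polar_self_zero (P.val_e i)
  · exact P.orth i j h _ (P.mem_e i) _ (P.mem_e j)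

theorem ff (i j : Fin t) : polar Q (f i) (f j) = 0 := by
  by_cases h : i = j
  · subst h; exact polar_self_zero (P.val_f i)
  · exact P.orth i j h _ (P.mem_f i) _ (P.mem_f j)

theorem ef (i j : Fin t) : polar Q (e i) (f j) = if i = j then 1 else 0 := by
  by_cases h : i = j
  · subst h; rw [if_pos rfl]; exact P.pair i
  · rw [if_neg h]; exact P.orth i j h _ (P.mem_e i) _ (P.mem_f j)

theorem fe (i j : Fin t) : polar Q (f i) (e j) = if i = j then 1 else 0 := by
  rw [polar_comm, P.ef]; simp [eq_comm]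

theorem val (i : Fin t) (a b : F) : Q (a • e i + b • f i) = a * b := by
  rw [map_two, QuadraticMap.map_smul, QuadraticMap.map_smul, P.val_e, P.val_f, polar_smul_left, polar_smul_right,
    P.pair]
  simp

theorem exp (hdim : ∀ i, finrank F (D i) = 2) {i : Fin t} {x : ι → F} (hx : x ∈ D i) :
    x = polar Q (f i) x • e i + polar Q (e i) x • f i := by
  conv_lhs => rw [coords (Q := Q) (hdim i) ![e i, f i] ![f i, e i] (fun p => by
    fin_cases p
    · exact P.mem_e i
    · exact P.mem_f i) (fun p r => by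
    fin_cases p <;> fin_cases r <;> simp [P.ee, P.ff, P.pair, P.pair' i]) hx]
  rw [Fin.sum_univ_two]
  simp

/-- Planes of plus type over a field with additive inversion. -/
theorem inv_not_max (hQ : PND Q) (hn : Fintype.card ι ≠ 4) (htop : iSup D = ⊤)
    (hdim : ∀ i, finrank F (D i) = 2) (ht : 4 ≤ t) (hinv : ∀ a b : F, (a + b)⁻¹ = a⁻¹ + b⁻¹) :
    ∃ K : Subgroup (GL ι F), Cfsg.Geo.decompositionStabilizer D ⊓ Cfsg.Geo.omegaGL ⇑Q < K ∧
      K < Cfsg.Geo.omegaGL ⇑Q := by
  classical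
  let T : Set (ι → F) := {x | ∀ j, polar Q (e j) x = (polar Q (f j) x)⁻¹}
  let u : Fin t → ι → F := fun i => e i + f i
  have h0 : (0 : ι → F) ∈ T := fun j => by simp
  have hadd : ∀ {x y}, x ∈ T → y ∈ T → x + y ∈ T := fun {x y} hx hy j => by
    rw [polar_add_right, polar_add_right, hinv, hx j, hy j]
  have hsmul : ∀ {c : F} {x}, c⁻¹ = c → x ∈ T → c • x ∈ T := fun {c x} hc hx j => by
    rw [polar_smul_right, polar_smul_right, hx j, smul_eq_mul, smul_eq_mul, mul_inv, hc]
  have hneg : ∀ {c : F}, c⁻¹ = c → (-c)⁻¹ = -c := fun {c} hc => by rw [inv_neg, hc]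
  have huT : ∀ i, u i ∈ T := fun i j => by
    simp only [u, polar_add_right, P.ee, P.ef, P.fe, P.ff]
    split_ifs <;> simp
  have hQu : ∀ i, Q (u i) = 1 := fun i => by
    simp only [u, map_two, P.val_e, P.val_f, P.pair]; ring
  have hself : ∀ i, ∀ z ∈ T, (polar Q (u i) z)⁻¹ = polar Q (u i) z := fun i z hz => by
    simp only [u, polar_add_left, hinv, hz i, inv_inv]
    ring
  have huu : ∀ i j, i ≠ j → polar Q (u i) (u j) = 0 := fun i j h => by
    simp [u, polar_add_left, polar_add_right, P.ee, P.ef, P.fe, P.ff, h]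
  obtain ⟨i0, i1, i2, i3, h01, h02, h03, h12, h13, h23⟩ :
      ∃ i0 i1 i2 i3 : Fin t, i0 ≠ i1 ∧ i0 ≠ i2 ∧ i0 ≠ i3 ∧ i1 ≠ i2 ∧ i1 ≠ i3 ∧ i2 ≠ i3 :=
    ⟨⟨0, by omega⟩, ⟨1, by omega⟩, ⟨2, by omega⟩, ⟨3, by omega⟩, by simp, by simp, by simp, by simp, by simp, by simp⟩
  refine not_max_of_set T ?_ ?_ ?_
  · intro g σ hσ hiso x hx
    obtain ⟨c, hc, rfl⟩ := exists_components htop x
    rw [Matrix.mulVec_sum]
    refine Finset.sum_induction _ (fun y => y ∈ T) (fun _ _ => hadd) h0 fun i _ => ?_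
    have hread : ∀ v ∈ D i, polar Q v (∑ j, c j) = polar Q v (c i) := fun v hv => by
      rw [← QuadraticMap.polarBilin_apply_apply, map_sum]
      exact Finset.sum_eq_single i (fun b _ hb => P.orth i b (Ne.symm hb) v hv _ (hc b))
        (fun h => absurd (Finset.mem_univ _) h)
    have hci : polar Q (e i) (c i) = (polar Q (f i) (c i))⁻¹ := by
      rw [← hread _ (P.mem_e i), ← hread _ (P.mem_f i)]; exact hx i
    have hw := hσ i _ (hc i)
    by_cases ha : polar Q (f i) (c i) = 0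
    · have : c i = 0 := by rw [P.exp hdim (hc i), hci, ha]; simp
      rw [this, Matrix.mulVec_zero]; exact h0
    have hQc : Q ((g : Matrix ι ι F) *ᵥ c i) = 1 := by
      rw [hiso, P.exp hdim (hc i), P.val, hci, mul_inv_cancel₀ ha]
    intro j
    by_cases hj : j = σ i
    · subst hj
      rw [P.exp hdim hw, P.val] at hQc
      exact eq_inv_of_mul_eq_one_right hQc
    · rw [P.orth j (σ i) hj _ (P.mem_e j) _ hw, P.orth j (σ i) hj _ (P.mem_f j) _ hw, _root_.inv_zero]
  · obtain ⟨s, hsT, hQs, hse, hs3e, hs3f, hsself⟩ : ∃ s ∈ T, Q s = 0 ∧ polar Q s (e i0) = 1 ∧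
        polar Q s (e i3) = 0 ∧ polar Q s (f i3) = 0 ∧ ∀ z ∈ T, (polar Q s z)⁻¹ = polar Q s z := by
      by_cases h2 : (2 : F) = 0
      · refine ⟨u i0 + u i1, hadd (huT _) (huT _), ?_, ?_, ?_, ?_, fun z hz => ?_⟩
        · rw [map_two, hQu, hQu, huu _ _ h01, add_zero, one_add_one_eq_two, h2]
        · simp [u, polar_add_left, P.ee, P.fe, h01.symm]
        · simp [u, polar_add_left, P.ee, P.fe, h03, h13]
        · simp [u, polar_add_left, P.ef, P.ff, h03, h13]
        · simp only [polar_add_left, hinv, hself _ z hz]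
      · have h3 : (3 : F) = 0 := by
          have h := hinv 1 1
          rw [inv_one, one_add_one_eq_two] at h
          have h' : (2 : F) * 2 = 1 := by
            nth_rewrite 1 [← h]
            exact inv_mul_cancel₀ h2
          linear_combination h'
        refine ⟨u i0 + u i1 + u i2, hadd (hadd (huT _) (huT _)) (huT _), ?_, ?_, ?_, ?_, fun z hz => ?_⟩
        · have h' : polar Q (u i0 + u i1) (u i2) = 0 := by
            rw [polar_add_left, huu _ _ h02, huu _ _ h12, add_zero]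
          rw [map_two (u i0 + u i1), map_two (u i0), h', hQu, hQu, hQu, huu _ _ h01]
          linear_combination h3
        · simp [u, polar_add_left, P.ee, P.fe, h01.symm, h02.symm]
        · simp [u, polar_add_left, P.ee, P.fe, h03, h13, h23]
        · simp [u, polar_add_left, P.ef, P.ff, h03, h13, h23]
        · simp only [polar_add_left, hinv, hself _ z hz]
    have hsv : polar Q s (u i3) = 0 := by
      simp only [u, polar_add_right, hs3e, hs3f, add_zero]
    obtain ⟨g, hg, hgx⟩ := exists_siegel hQ hn hQs hsv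
    refine ⟨g, hg, fun z hz => ?_, ?_⟩
    · rw [hgx, hQu, one_mul, sub_eq_add_neg, ← neg_smul]
      refine hadd (hadd hz (hsmul (hsself z hz) (huT _))) (hsmul (hneg ?_) hsT)
      rw [hinv, hself _ z hz, hsself z hz]
    · have h3e : polar Q (u i3) (e i0) = 0 := by
        simp [u, polar_add_left, P.ee, P.fe, h03.symm]
      refine not_stab P.orth h03.symm (P.mem_e i0) (P.mem_e i0) (P.mem_e i3) (P.mem_e i0) ?_ ?_
      · rw [hgx, hse, h3e, hQu]
        simp [polar_add_left, polar_sub_left, polar_smul_left, hs3e, u, P.ee, P.fe]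
      · rw [hgx, hse, h3e, hQu]
        simp [polar_add_left, polar_sub_left, polar_smul_left, hse, u, P.ee, P.fe, h03.symm]
  · obtain ⟨g, hg, hgx⟩ := exists_siegel hQ hn (P.val_e i0) (P.ee i0 i1)
    refine ⟨g, hg, u i0, huT i0, fun h => ?_⟩
    have h1 := h i1
    rw [hgx, P.val_e] at h1
    simp [u, polar_add_right, polar_sub_right, polar_smul_right, P.ee, P.ef, P.fe, P.ff, h01, h01.symm] at h1

/-- Planes of plus type over five elements. -/
theorem five_not_max (hQ : PND Q) (hn : Fintype.card ι ≠ 4) (hq : Fintype.card F = 5)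
    (hdim : ∀ i, finrank F (D i) = 2) (ht : 4 ≤ t) :
    ∃ K : Subgroup (GL ι F), Cfsg.Geo.decompositionStabilizer D ⊓ Cfsg.Geo.omegaGL ⇑Q < K ∧
      K < Cfsg.Geo.omegaGL ⇑Q := by
  classical
  have h5 : (5 : F) = 0 := by
    have := FiniteField.cast_card_eq_zero F
    rw [hq] at this
    exact_mod_cast this
  have h2 : (2 : F) ≠ 0 := fun h => one_ne_zero (α := F) (by linear_combination h5 - 2 * h)
  obtain ⟨r, hr⟩ : ∃ r : F, r * r = -1 := ⟨2, by linear_combination h5⟩
  let X : Fin t × Fin 2 → ι → F := fun p => if p.2 = 0 then e p.1 + f p.1 else r • (e p.1 - f p.1)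
  have hXmem : ∀ p, X p ∈ D p.1 := fun p => by
    simp only [X]; split_ifs
    · exact add_mem (P.mem_e _) (P.mem_f _)
    · exact Submodule.smul_mem _ _ (sub_mem (P.mem_e _) (P.mem_f _))
  have hX : ∀ p, Q (X p) = 1 := fun p => by
    simp only [X]; split_ifs
    · rw [map_two, P.val_e, P.val_f, P.pair]; ring
    · rw [QuadraticMap.map_smul, map_sub_two, P.val_e, P.val_f, P.pair, smul_eq_mul, hr]; ring
  have hpol : ∀ p p', polar Q (X p) (X p') = if p = p' then 2 else 0 := by
    intro p p'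
    by_cases h : p = p'
    · subst h; rw [if_pos rfl, polar_self_two, hX, mul_one]
    rw [if_neg h]
    obtain ⟨i, a⟩ := p
    obtain ⟨j, b⟩ := p'
    by_cases hij : i = j
    · subst hij
      fin_cases a <;> fin_cases b <;>
        simp [X, polar_add_left, polar_add_right, polar_smul_left, polar_smul_right, polar_sub_left,
          polar_sub_right, P.ee, P.ef, P.fe, P.ff] at h ⊢
    · exact P.orth i j hij _ (hXmem (i, a)) _ (hXmem (j, b))
  let S : Set (ι → F) := {v | ∃ p, v = X p ∨ v = -X p}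
  have hchar : ∀ i, ∀ w ∈ D i, Q w = 1 → w ∈ S := by
    intro i w hw hQw
    obtain ⟨a, b, rfl⟩ : ∃ a b, w = a • e i + b • f i := ⟨_, _, P.exp hdim hw⟩
    rw [P.val] at hQw
    have ha0 : a ≠ 0 := left_ne_zero_of_mul (hQw ▸ one_ne_zero)
    have h4 := FiniteField.pow_card_sub_one_eq_one a ha0
    rw [hq] at h4
    norm_num at h4
    have hb : b = a⁻¹ := eq_inv_of_mul_eq_one_right hQw
    have hfac : (a - 1) * (a + 1) * ((a - r) * (a + r)) = 0 := by linear_combination h4 - (a * a - 1) * hr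
    have hrinv : r⁻¹ = -r := inv_eq_of_mul_eq_one_right (by rw [mul_neg, hr, neg_neg])
    rcases mul_eq_zero.1 hfac with h | h <;> rcases mul_eq_zero.1 h with h | h
    · refine ⟨(i, 0), Or.inl ?_⟩
      rw [hb, sub_eq_zero.1 h, inv_one]; simp [X]
    · refine ⟨(i, 0), Or.inr ?_⟩
      rw [hb, eq_neg_of_add_eq_zero_left h, inv_neg, inv_one]; simp [X]; abel
    · refine ⟨(i, 1), Or.inl ?_⟩
      rw [hb, sub_eq_zero.1 h, hrinv]; simp [X, smul_sub, sub_eq_add_neg]
    · refine ⟨(i, 1), Or.inr ?_⟩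
      rw [hb, eq_neg_of_add_eq_zero_left h, inv_neg, hrinv]; simp [X, smul_sub, sub_eq_add_neg]; abel
  obtain ⟨i0, i1, h01⟩ : ∃ i0 i1 : Fin t, i0 ≠ i1 := ⟨⟨0, by omega⟩, ⟨1, by omega⟩, by simp⟩
  have hne1 : ((i0, (0 : Fin 2))) ≠ (i1, 0) := fun h => h01 (Prod.mk_inj.1 h).1
  have hne2 : ((i1, (0 : Fin 2))) ≠ (i0, 1) := fun h => h01 (Prod.mk_inj.1 h).1.symm
  refine not_max_of_set S ?_ ?_ ?_
  · rintro g σ hσ hiso x ⟨p, rfl | rfl⟩
    · exact hchar _ _ (hσ _ _ (hXmem p)) (by rw [hiso, hX])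
    · exact hchar _ _ (hσ _ _ (neg_mem (hXmem p))) (by rw [hiso, QuadraticMap.map_neg, hX])
  · have hQd : ∀ p p', p ≠ p' → Q (X p - X p') = 2 := fun p p' h => by
      rw [map_sub_two, hX, hX, hpol, if_neg h]; ring
    have hswap : ∀ p p', p ≠ p' → ∀ r', refl Q (X p - X p') (X r') = X (Equiv.swap p p' r') := by
      intro p p' h r'
      by_cases e1 : r' = p
      · rw [e1, Equiv.swap_apply_left, refl_sub_apply (by rw [hX, hX]) (by rw [hQd _ _ h]; exact h2)]
      by_cases e2 : r' = p'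
      · rw [e2, Equiv.swap_apply_right, ← refl_smul (neg_ne_zero.2 one_ne_zero) (X p - X p'), neg_one_smul, neg_sub,
          refl_sub_apply (by rw [hX, hX]) (by rw [hQd _ _ (Ne.symm h)]; exact h2)]
      rw [Equiv.swap_apply_of_ne_of_ne e1 e2, refl_fix]
      rw [polar_sub_left, hpol, hpol, if_neg (Ne.symm e1), if_neg (Ne.symm e2), sub_zero]
    obtain ⟨g, hg, hgx⟩ := exists_refl_pair (Q := Q) hQ (u := X (i0, 0) - X (i1, 0)) (w := X (i1, 0) - X (i0, 1))
      (by rw [hQd _ _ hne1]; exact h2) (by rw [hQd _ _ hne1, hQd _ _ hne2])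
    have hgX : ∀ r', (g : Matrix ι ι F) *ᵥ X r' =
        X (Equiv.swap (i0, 0) (i1, 0) (Equiv.swap (i1, 0) (i0, 1) r')) := fun r' => by
      rw [hgx, hswap _ _ hne2, hswap _ _ hne1]
    refine ⟨g, hg, ?_, not_stab P.orth h01.symm (hXmem (i0, 0)) (hXmem (i0, 1)) (hXmem (i1, 0)) (hXmem (i0, 0)) ?_ ?_⟩
    · rintro x ⟨p, rfl | rfl⟩
      · exact ⟨_, Or.inl (hgX p)⟩
      · exact ⟨_, Or.inr (by rw [Matrix.mulVec_neg, hgX])⟩
    · rw [hgX, Equiv.swap_apply_of_ne_of_ne hne1 (by simp), Equiv.swap_apply_left, hpol, if_pos rfl]; exact h2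
    · rw [hgX, Equiv.swap_apply_right, Equiv.swap_apply_right, hpol, if_pos rfl]; exact h2
  · obtain ⟨g, hg, hgx⟩ := exists_siegel hQ hn (P.val_e i0) (P.ee i0 i1)
    refine ⟨g, hg, X (i0, 0), ⟨_, Or.inl rfl⟩, fun ⟨p, hp⟩ => ?_⟩
    have hmem : (g : Matrix ι ι F) *ᵥ X (i0, 0) ∈ D p.1 := by
      rcases hp with h | h <;> rw [h]
      · exact hXmem p
      · exact neg_mem (hXmem p)
    have a1 := eq_of_see P.orth hmem (P.mem_e i0) (by
      rw [hgx, P.val_e]
      simp [X, polar_add_left, polar_sub_left, polar_smul_left, polar_add_right, P.ee, P.ef, P.fe, h01, h01.symm])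
    have a2 := eq_of_see P.orth hmem (P.mem_f i1) (by
      rw [hgx, P.val_e]
      simp [X, polar_add_left, polar_sub_left, polar_smul_left, polar_add_right, P.ee, P.ef, P.fe, P.ff, h01, h01.symm])
    exact h01 (a1.symm.trans a2)

end PlanePairs

/-- Planes of plus type. -/
theorem exists_planePairs (horth : ∀ i j, i ≠ j → Cfsg.Geo.AreOrthogonalFor (QuadraticMap.polar ⇑Q) (D i) (D j))
    (hnd : ∀ i, Cfsg.Geo.IsNondegenerateOn (QuadraticMap.polar ⇑Q) (D i)) (hdim : ∀ i, finrank F (D i) = 2)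
    (hp : ∀ i, Cfsg.Geo.IsPlusTypeOn ⇑Q (D i)) : ∃ e f, PlanePairs Q D e f := by
  have h : ∀ i, ∃ e f : ι → F, e ∈ D i ∧ f ∈ D i ∧ Q e = 0 ∧ Q f = 0 ∧ polar Q e f = 1 := by
    intro i
    obtain ⟨U, hUW, hU0, hUdim⟩ := hp i
    obtain ⟨e, heU, he0⟩ := (Submodule.ne_bot_iff U).1 (fun h => by
      rw [h, finrank_bot, hdim] at hUdim
      exact absurd hUdim (by norm_num))
    obtain ⟨f, hf, hQf, hef⟩ := exists_partner (hnd i) (hUW heU) he0 (hU0 e heU)
    exact ⟨e, f, hUW heU, hf, hU0 e heU, hQf, hef⟩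
  choose e f he hf hQe hQf hef using h
  exact ⟨e, f, horth, he, hf, hQe, hQf, hef⟩

/-- A basis of two hyperbolic pairs. -/
theorem exists_four {W : Submodule F (ι → F)} (hW : Cfsg.Geo.IsNondegenerateOn (QuadraticMap.polar ⇑Q) W)
    (hdim : finrank F W = 4) (hp : Cfsg.Geo.IsPlusTypeOn ⇑Q W) :
    ∃ b : Fin 4 → ι → F, (∀ p, b p ∈ W) ∧ (∀ p, Q (b p) = 0) ∧
      ∀ p r, polar Q (b p) (b r) = if (p = 0 ∧ r = 1) ∨ (p = 1 ∧ r = 0) ∨ (p = 2 ∧ r = 3) ∨ (p = 3 ∧ r = 2) then 1 else 0 := by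
  obtain ⟨U, hUW, hU0, hUdim⟩ := hp
  have hU : finrank F U = 2 := by omega
  obtain ⟨e, heU, he0⟩ := (Submodule.ne_bot_iff U).1 (fun h => by
    rw [h, finrank_bot] at hU
    exact absurd hU (by norm_num))
  have he : Q e = 0 := hU0 e heU
  obtain ⟨f, hf, hQf, hef⟩ := exists_partner hW (hUW heU) he0 he
  obtain ⟨z, hzU, hz⟩ : ∃ z ∈ U, z ∉ Submodule.span F {e} := by
    by_contra hc
    push Not at hc
    have := Submodule.finrank_mono (show U ≤ Submodule.span F {e} from hc)
    rw [hU, finrank_span_singleton he0] at this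
    omega
  have hUU : ∀ v ∈ U, ∀ w ∈ U, polar Q v w = 0 := fun v hv w hw => by
    rw [polar, hU0 _ (U.add_mem hv hw), hU0 v hv, hU0 w hw]; simp
  obtain ⟨e', he'⟩ : ∃ e', e' = z - polar Q f z • e := ⟨_, rfl⟩
  have he'U : e' ∈ U := he' ▸ U.sub_mem hzU (U.smul_mem _ heU)
  have hfe : polar Q f e = 1 := by rw [polar_comm]; exact hef
  have hfe' : polar Q f e' = 0 := by rw [he', polar_sub_right, polar_smul_right, hfe]; simp
  have hee' : polar Q e e' = 0 := hUU e heU e' he'U
  have he'0 : e' ≠ 0 := fun h => hz (Submodule.mem_span_singleton.2 ⟨polar Q f z, (sub_eq_zero.1 (he' ▸ h)).symm⟩)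
  obtain ⟨x, hxW, hx⟩ := (hW e' (hUW he'U) he'0).2
  obtain ⟨y, hy⟩ : ∃ y, y = (polar Q e' x)⁻¹ • (x - polar Q f x • e - polar Q e x • f) := ⟨_, rfl⟩
  have hyW : y ∈ W := hy ▸ W.smul_mem _ (W.sub_mem (W.sub_mem hxW (W.smul_mem _ (hUW heU))) (W.smul_mem _ hf))
  have hey : polar Q e y = 0 := by
    rw [hy, polar_smul_right, polar_sub_right, polar_sub_right, polar_smul_right, polar_smul_right, hef,
      polar_self_zero he]; simp
  have hfy : polar Q f y = 0 := by
    rw [hy, polar_smul_right, polar_sub_right, polar_sub_right, polar_smul_right, polar_smul_right, hfe,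
      polar_self_zero hQf]; simp
  have he'e : polar Q e' e = 0 := by rw [polar_comm]; exact hee'
  have he'f : polar Q e' f = 0 := by rw [polar_comm]; exact hfe'
  have he'y : polar Q e' y = 1 := by
    rw [hy, polar_smul_right, polar_sub_right, polar_sub_right, polar_smul_right, polar_smul_right, he'e, he'f]
    simp [inv_mul_cancel₀ hx]
  have hye' : polar Q y e' = 1 := by rw [polar_comm]; exact he'y
  have he'Q : Q e' = 0 := hU0 e' he'U
  obtain ⟨f', hf'⟩ : ∃ f', f' = y - Q y • e' := ⟨_, rfl⟩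
  have hQf' : Q f' = 0 := by
    rw [hf', map_sub_two, QuadraticMap.map_smul, he'Q, polar_smul_right, hye']; simp
  have hef' : polar Q e f' = 0 := by rw [hf', polar_sub_right, polar_smul_right, hey, hee']; simp
  have hff' : polar Q f f' = 0 := by rw [hf', polar_sub_right, polar_smul_right, hfy, hfe']; simp
  have he'f' : polar Q e' f' = 1 := by
    rw [hf', polar_sub_right, polar_smul_right, he'y, polar_self_zero he'Q]; simp
  refine ⟨![e, f, e', f'], fun p => ?_, fun p => ?_, fun p r => ?_⟩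
  · fin_cases p
    exacts [hUW heU, hf, hUW he'U, hf' ▸ W.sub_mem hyW (W.smul_mem _ (hUW he'U))]
  · fin_cases p
    exacts [he, hQf, he'Q, hQf']
  · fin_cases p <;> fin_cases r <;>
      simp [hef, hfe, hfe', hee', he'e, he'f, hef', hff', he'f', polar_comm Q f' e, polar_comm Q f' f,
        polar_comm Q f' e', polar_self_zero he, polar_self_zero hQf, polar_self_zero he'Q, polar_self_zero hQf']

/-- Four dimensional members of plus type over two elements. -/
theorem four_not_max (hQ : PND Q) (hn : Fintype.card ι ≠ 4) (hq : Fintype.card F = 2)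
    (horth : ∀ i j, i ≠ j → Cfsg.Geo.AreOrthogonalFor (QuadraticMap.polar ⇑Q) (D i) (D j))
    (hnd : ∀ i, Cfsg.Geo.IsNondegenerateOn (QuadraticMap.polar ⇑Q) (D i)) (hdim : ∀ i, finrank F (D i) = 4)
    (hp : ∀ i, Cfsg.Geo.IsPlusTypeOn ⇑Q (D i)) (ht : 2 ≤ t) :
    ∃ K : Subgroup (GL ι F), Cfsg.Geo.decompositionStabilizer D ⊓ Cfsg.Geo.omegaGL ⇑Q < K ∧
      K < Cfsg.Geo.omegaGL ⇑Q := by
  classical
  have h2 : (2 : F) = 0 := by
    have := FiniteField.cast_card_eq_zero F
    rw [hq] at this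
    exact_mod_cast this
  have h11 : (1 : F) + 1 = 0 := by rw [one_add_one_eq_two, h2]
  have hF : ∀ a : F, a = 0 ∨ a = 1 := fun a => by
    by_cases ha : a = 0
    · exact Or.inl ha
    · have h1 := FiniteField.pow_card_sub_one_eq_one a ha
      rw [hq, pow_one] at h1
      exact Or.inr h1
  choose b hbm hbQ hbp using fun i => exists_four (hnd i) (hdim i) (hp i)
  have hbb : ∀ i j p r, i ≠ j → polar Q (b i p) (b j r) = 0 := fun i j p r h => horth i j h _ (hbm i p) _ (hbm j r)
  let x : Fin t → ι → F := fun i => b i 0 + b i 1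
  let y : Fin t → ι → F := fun i => b i 0 + b i 2 + b i 3
  let x' : Fin t → ι → F := fun i => b i 0 + b i 1 + b i 2
  have hxm : ∀ i, x i ∈ D i := fun i => add_mem (hbm i 0) (hbm i 1)
  have hym : ∀ i, y i ∈ D i := fun i => add_mem (add_mem (hbm i 0) (hbm i 2)) (hbm i 3)
  have hxm' : ∀ i, x' i ∈ D i := fun i => add_mem (add_mem (hbm i 0) (hbm i 1)) (hbm i 2)
  have hQx : ∀ i, Q (x i) = 1 := fun i => by simp [x, map_two, hbQ, hbp]
  have hQy : ∀ i, Q (y i) = 1 := fun i => by simp [y, map_two, polar_add_left, hbQ, hbp]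
  have hQx' : ∀ i, Q (x' i) = 1 := fun i => by simp [x', map_two, polar_add_left, hbQ, hbp]
  -- the six vectors of value one
  have six : ∀ i, ∀ z ∈ D i, Q z = 1 → (polar Q (x i) z = 0 ∧ polar Q (y i) z = 0) ∨
      z = polar Q (x i) z • y i + polar Q (y i) z • x i := by
    intro i z hz hQz
    have hex := coords (Q := Q) (hdim i) (b i) ![b i 1, b i 0, b i 3, b i 2] (hbm i) (fun p r => by
      fin_cases p <;> fin_cases r <;> simp [hbp]) hz
    rw [Fin.sum_univ_four] at hex
    simp only [Matrix.cons_val_zero, Matrix.cons_val_one, Matrix.cons_val] at hex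
    generalize polar Q (b i 1) z = a at hex
    generalize polar Q (b i 0) z = a' at hex
    generalize polar Q (b i 3) z = c at hex
    generalize polar Q (b i 2) z = c' at hex
    subst hex
    have hval : a * a' + c * c' = 1 := by
      rw [← hQz]
      simp [map_two, polar_add_left, polar_smul_left, polar_smul_right, QuadraticMap.map_smul, hbQ, hbp]
      ring
    have hA : polar Q (x i) (a • b i 0 + a' • b i 1 + c • b i 2 + c' • b i 3) = a' + a := by
      simp [x, polar_add_left, polar_add_right, polar_smul_right, hbp]; ring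
    have hB : polar Q (y i) (a • b i 0 + a' • b i 1 + c • b i 2 + c' • b i 3) = a' + c' + c := by
      simp [y, polar_add_left, polar_add_right, polar_smul_right, hbp]; ring
    rw [hA, hB]
    suffices h : (a' + a = 0 ∧ a' + c' + c = 0) ∨
        (a = (a' + a) + (a' + c' + c) ∧ a' = a' + c' + c ∧ c = a' + a ∧ c' = a' + a) by
      rcases h with h | ⟨e1, e2, e3, e4⟩
      · exact Or.inl h
      · refine Or.inr ?_
        simp only [x, y]
        match_scalars <;>
          first | linear_combination e1 | linear_combination e2 | linear_combination e3 | linear_combination e4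
    rcases hF a with rfl | rfl <;> rcases hF a' with rfl | rfl <;> rcases hF c with rfl | rfl <;>
      rcases hF c' with rfl | rfl <;> simp [h11] at hval ⊢
  let T : Set (ι → F) := {z | Q z = 1 ∧ ∃ i, z ∈ D i}
  obtain ⟨i0, i1, h01⟩ : ∃ i0 i1 : Fin t, i0 ≠ i1 := ⟨⟨0, by omega⟩, ⟨1, by omega⟩, by simp⟩
  refine not_max_of_set T ?_ ?_ ?_
  · rintro g σ hσ hiso z ⟨hz, i, hi⟩
    exact ⟨by rw [hiso, hz], σ i, hσ i z hi⟩
  · have hQa : Q (x i0 + x i1) = 0 := by
      rw [map_two, hQx, hQx, horth _ _ h01 _ (hxm i0) _ (hxm i1), add_zero, h11]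
    have hQb : Q (y i0 + y i1) = 0 := by
      rw [map_two, hQy, hQy, horth _ _ h01 _ (hym i0) _ (hym i1), add_zero, h11]
    have hxy : ∀ i, polar Q (x i) (y i) = 1 := fun i => by simp [x, y, polar_add_left, polar_add_right, hbp]
    have hab : polar Q (x i0 + x i1) (y i0 + y i1) = 0 := by
      simp only [polar_add_left, polar_add_right, hxy, horth _ _ h01 _ (hxm i0) _ (hym i1),
        horth _ _ h01.symm _ (hxm i1) _ (hym i0), add_zero, zero_add, h11]
    obtain ⟨g, hg, hgx⟩ := exists_siegel hQ hn hQa hab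
    refine ⟨g, hg, ?_, ?_⟩
    · rintro z ⟨hQz, i, hi⟩
      refine ⟨by rw [omega_isometry hg, hQz], ?_⟩
      rw [hgx, hQb, zero_mul, add_zero]
      simp only [polar_add_left]
      have key : ∀ p q, p ≠ q → z ∈ D p → ∃ j,
          z + (polar Q (x p) z + polar Q (x q) z) • (y p + y q) - (polar Q (y p) z + polar Q (y q) z) • (x p + x q)
            ∈ D j := by
        intro p q hpq hzp
        rw [horth _ _ hpq.symm _ (hxm q) _ hzp, horth _ _ hpq.symm _ (hym q) _ hzp, add_zero, add_zero]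
        rcases six p z hzp hQz with ⟨hA, hB⟩ | hz
        · exact ⟨p, by simpa [hA, hB] using hzp⟩
        · refine ⟨q, ?_⟩
          generalize polar Q (x p) z = A at hz
          generalize polar Q (y p) z = B at hz
          have : z + A • (y p + y q) - B • (x p + x q) = (A + A) • y p + (A • y q - B • x q) := by
            rw [hz]; module
          rw [this, ← two_mul, h2, zero_mul, zero_smul, zero_add]
          exact sub_mem (Submodule.smul_mem _ _ (hym q)) (Submodule.smul_mem _ _ (hxm q))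
      by_cases hi0 : i = i0
      · exact key i0 i1 h01 (hi0 ▸ hi)
      by_cases hi1 : i = i1
      · obtain ⟨j, hj⟩ := key i1 i0 h01.symm (hi1 ▸ hi)
        refine ⟨j, ?_⟩
        rwa [add_comm (polar Q (x i0) z), add_comm (y i0), add_comm (polar Q (y i0) z), add_comm (x i0)]
      refine ⟨i, ?_⟩
      rw [horth _ _ (Ne.symm hi0) _ (hxm i0) _ hi, horth _ _ (Ne.symm hi1) _ (hxm i1) _ hi,
        horth _ _ (Ne.symm hi0) _ (hym i0) _ hi, horth _ _ (Ne.symm hi1) _ (hym i1) _ hi]
      simpa using hi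
    · refine not_stab horth h01.symm (hxm i0) (hxm' i0) (hbm i1 1) (hbm i0 1) ?_ ?_
      · rw [hgx, hQb]
        simp [x, y, polar_add_left, polar_add_right, polar_sub_left, polar_smul_left, hbp, hbb, h01, h01.symm, h11]
      · rw [hgx, hQb]
        simp [x, y, x', polar_add_left, polar_add_right, polar_sub_left, polar_smul_left, hbp, hbb, h01, h01.symm, h11]
  · obtain ⟨g, hg, hgx⟩ := exists_siegel hQ hn (hbQ i0 0) (hbb i0 i1 0 0 h01)
    refine ⟨g, hg, x i0, ⟨hQx i0, i0, hxm i0⟩, fun ⟨_, j, hj⟩ => ?_⟩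
    have a1 := eq_of_see horth hj (hbm i0 0) (by
      rw [hgx, hbQ]
      simp [x, polar_add_left, polar_add_right, polar_sub_left, polar_smul_left, hbp, hbb, h01, h01.symm])
    have a2 := eq_of_see horth hj (hbm i1 1) (by
      rw [hgx, hbQ]
      simp [x, polar_add_left, polar_add_right, polar_sub_left, polar_smul_left, hbp, hbb, h01, h01.symm])
    exact h01 (a1.symm.trans a2)

/-- The number of members. -/
theorem card_le_mul {k : ℕ} (htop : iSup D = ⊤) (hdim : ∀ i, finrank F (D i) = k) : Fintype.card ι ≤ t * k := by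
  have h : ∀ s : Finset (Fin t), finrank F (s.sup D : Submodule F (ι → F)) ≤ s.card * k := by
    intro s
    induction s using Finset.cons_induction with
    | empty => simp
    | cons a s ha ih =>
      rw [Finset.sup_cons, Finset.card_cons, add_mul, one_mul]
      have := Submodule.finrank_add_le_finrank_add_finrank (D a) (s.sup D)
      rw [hdim] at this
      omega
  have := h Finset.univ
  rwa [Finset.sup_univ_eq_iSup, htop, finrank_top, Module.finrank_pi, Finset.card_univ, Fintype.card_fin] at this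

end Cfsg.Agent.Classical.OPlusNotMax
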