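/-
Two complementary totally isotropic subspaces of a reflexive form: toolkit.
-/
import Cfsg.Agent.Lib.Classical.Forms
import Cfsg.Agent.Lib.Classical.LinMaximal

set_option autoImplicit false
set_option linter.unusedSectionVars false
set_option linter.style.haveILetI false

namespace Cfsg.Agent.Classical.TSPair

open Matrix Cfsg.Geo
open Cfsg.Agent.Classical

universe u

variable {ι : Type} [Fintype ι] [DecidableEq ι] {F : Type u} [Field F] {σ : F ≃+* F} {ε : F}
  {f : (ι → F) → (ι → F) → F} {D : Fin 2 → Submodule F (ι → F)}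

/-- The other index. -/
def o (i : Fin 2) : Fin 2 := 1 - i

theorem o_o (i : Fin 2) : o (o i) = i := by fin_cases i <;> rfl

theorem o_ne (i : Fin 2) : o i ≠ i := by fin_cases i <;> decide

theorem eq_or_eq_o (i j : Fin 2) : j = i ∨ j = o i := by fin_cases i <;> fin_cases j <;> decide

/-- The group preserves the form. -/
def IsIso (f : (ι → F) → (ι → F) → F) (g : GL ι F) : Prop :=
  ∀ x y, f ((g : Matrix ι ι F) *ᵥ x) ((g : Matrix ι ι F) *ᵥ y) = f x y

/-- The form with the two subspaces. -/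
structure Data (σ : F ≃+* F) (ε : F) (f : (ι → F) → (ι → F) → F) (D : Fin 2 → Submodule F (ι → F)) : Prop where
  hs : IsSemiForm σ f
  herm : ∀ v w, f v w = ε * σ (f w v)
  eps : ε * ε = 1
  eps_fix : σ ε = ε
  invol : ∀ x, σ (σ x) = x
  nd : ∀ v, (∀ x, f x v = 0) → v = 0
  ts : ∀ i, ∀ u ∈ D i, ∀ v ∈ D i, f u v = 0
  dec : ∀ x, ∃ a ∈ D 0, ∃ b ∈ D 1, x = a + b
  dim : ∃ k, 2 ≤ k ∧ ∀ i, Module.finrank F (D i) = k

variable (Δ : Data σ ε f D)

include Δ

theorem f_zero_left (x : ι → F) : f 0 x = 0 := by rw [← zero_smul F (0 : ι → F), Δ.hs.smul_left, zero_mul]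

theorem f_zero_right (x : ι → F) : f x 0 = 0 := by
  rw [← zero_smul F (0 : ι → F), Δ.hs.smul_right, map_zero, zero_mul]

theorem f_sub_left (a b x : ι → F) : f (a - b) x = f a x - f b x := by
  rw [sub_eq_add_neg, ← neg_one_smul F b, Δ.hs.add_left, Δ.hs.smul_left]; ring

theorem f_sub_right (a b x : ι → F) : f x (a - b) = f x a - f x b := by
  rw [sub_eq_add_neg, ← neg_one_smul F b, Δ.hs.add_right, Δ.hs.smul_right, map_neg, map_one]; ring

theorem f_sum_left {α : Type*} (s : Finset α) (v : α → ι → F) (x : ι → F) :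
    f (∑ i ∈ s, v i) x = ∑ i ∈ s, f (v i) x :=
  let L : (ι → F) →ₗ[F] F :=
    { toFun := fun y => f y x, map_add' := fun a b => Δ.hs.add_left a b x,
      map_smul' := fun c y => Δ.hs.smul_left c y x }
  map_sum L v s

theorem symm_zero {a b : ι → F} (h : f a b = 0) : f b a = 0 := by rw [Δ.herm, h, map_zero, mul_zero]

theorem eps_ne : ε ≠ 0 := fun h => by simpa [h] using Δ.eps

theorem sigma_swap (x y : ι → F) : σ (f x y) = ε * f y x := by
  rw [Δ.herm y x, ← mul_assoc, Δ.eps, one_mul]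

theorem dec' (i : Fin 2) (x : ι → F) : ∃ a ∈ D i, ∃ b ∈ D (o i), x = a + b := by
  obtain ⟨a, ha, b, hb, e⟩ := Δ.dec x
  fin_cases i
  · exact ⟨a, ha, b, hb, e⟩
  · exact ⟨b, hb, a, ha, e.trans (add_comm _ _)⟩

/-- Only zero is orthogonal to both. -/
theorem eq_zero_of_perp (i : Fin 2) {z : ι → F} (h1 : ∀ x ∈ D i, f x z = 0) (h2 : ∀ x ∈ D (o i), f x z = 0) : z = 0 :=
  Δ.nd z fun x => by
    obtain ⟨a, ha, b, hb, rfl⟩ := dec' Δ i x
    rw [Δ.hs.add_left, h1 a ha, h2 b hb, add_zero]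

/-- Each subspace is its own perpendicular. -/
theorem mem_of_perp (i : Fin 2) {z : ι → F} (h : ∀ x ∈ D i, f x z = 0) : z ∈ D i := by
  obtain ⟨a, ha, b, hb, rfl⟩ := dec' Δ i z
  have : b = 0 := eq_zero_of_perp Δ i (fun x hx => by
    have := h x hx
    rwa [Δ.hs.add_right, Δ.ts i x hx a ha, zero_add] at this) fun x hx => Δ.ts _ x hx b hb
  rw [this, add_zero]
  exact ha

theorem inter_zero (i : Fin 2) {z : ι → F} (h1 : z ∈ D i) (h2 : z ∈ D (o i)) : z = 0 :=
  eq_zero_of_perp Δ i (fun x hx => Δ.ts i x hx z h1) fun x hx => Δ.ts _ x hx z h2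

theorem ne_o (i : Fin 2) : D i ≠ D (o i) := fun e => by
  obtain ⟨k, hk, hd⟩ := Δ.dim
  obtain ⟨z, hz, hz0⟩ := Submodule.exists_mem_ne_zero_of_ne_bot (p := D i) fun hb => by
    have := hd i
    rw [hb, finrank_bot] at this
    omega
  exact hz0 (inter_zero Δ i hz (e ▸ hz))

/-- A non-zero vector of a member orthogonal to a few given ones. -/
theorem exists_in (i : Fin 2) {m : ℕ} (hm : m < 2 ∨ m < Module.finrank F (D i)) (a : Fin m → ι → F) :
    ∃ x ∈ D i, x ≠ 0 ∧ ∀ j, f x (a j) = 0 := by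
  obtain ⟨k, hk, hd⟩ := Δ.dim
  rw [hd] at hm
  let φ : D i →ₗ[F] Fin m → F :=
    { toFun := fun x j => f (x : ι → F) (a j)
      map_add' := fun x y => funext fun j => by
        rw [Pi.add_apply, Submodule.coe_add]; exact Δ.hs.add_left _ _ _
      map_smul' := fun c x => funext fun j => by
        rw [RingHom.id_apply, Pi.smul_apply, smul_eq_mul, Submodule.coe_smul]; exact Δ.hs.smul_left _ _ _ }
  obtain ⟨x, hx, hx0⟩ : ∃ x, x ∈ LinearMap.ker φ ∧ x ≠ 0 := by
    refine Submodule.exists_mem_ne_zero_of_ne_bot fun e => ?_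
    have h1 := φ.finrank_range_add_finrank_ker
    have h2 := Submodule.finrank_le (LinearMap.range φ)
    rw [e, finrank_bot, add_zero, hd] at h1
    rw [Module.finrank_fintype_fun_eq_card, Fintype.card_fin] at h2
    omega
  exact ⟨x, x.2, fun e => hx0 (Subtype.ext e), fun j => congrFun (LinearMap.mem_ker.mp hx) j⟩

/-- A functional vanishing where another does is a multiple of it. -/
theorem comb (U : Submodule F (ι → F)) {a b : ι → F} (h : ∀ x ∈ U, f x a = 0 → f x b = 0) :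
    ∃ c : F, ∀ x ∈ U, f x (b - c • a) = 0 := by
  by_cases hall : ∀ x ∈ U, f x a = 0
  · exact ⟨0, fun x hx => by rw [zero_smul, sub_zero]; exact h x hx (hall x hx)⟩
  push Not at hall
  obtain ⟨x₁, hx₁, hne⟩ := hall
  obtain ⟨x₀, hx₀, hone⟩ : ∃ x ∈ U, f x a = 1 :=
    ⟨(f x₁ a)⁻¹ • x₁, U.smul_mem _ hx₁, by rw [Δ.hs.smul_left, inv_mul_cancel₀ hne]⟩
  refine ⟨σ (f x₀ b), fun x hx => ?_⟩
  rw [f_sub_right Δ, Δ.hs.smul_right, Δ.invol]
  have := h (x - f x a • x₀) (U.sub_mem hx (U.smul_mem _ hx₀)) (by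
    rw [f_sub_left Δ, Δ.hs.smul_left, hone, mul_one, sub_self])
  rw [f_sub_left Δ, Δ.hs.smul_left] at this
  linear_combination this

/-- A functional on the other member separating two vectors. -/
theorem dual (i : Fin 2) {v a : ι → F} (hv : v ∈ D i) (ha : a ∈ D i) (hind : ∀ c : F, c • v ≠ a) :
    ∃ w ∈ D (o i), f w v = 0 ∧ f w a = 1 := by
  by_contra hcon
  push Not at hcon
  obtain ⟨c, hc⟩ := comb Δ (D (o i)) (a := v) (b := a) fun x hx hxv => by
    by_contra hne
    exact hcon ((f x a)⁻¹ • x) ((D _).smul_mem _ hx) (by rw [Δ.hs.smul_left, hxv, mul_zero])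
      (by rw [Δ.hs.smul_left, inv_mul_cancel₀ hne])
  exact hind c (sub_eq_zero.mp (eq_zero_of_perp Δ i
    (fun x hx => Δ.ts i x hx _ ((D i).sub_mem ha ((D i).smul_mem c hv))) hc)).symm

theorem dual_one (i : Fin 2) {a : ι → F} (ha : a ∈ D i) (ha0 : a ≠ 0) : ∃ w ∈ D (o i), f w a = 1 := by
  obtain ⟨w, hw, -, h⟩ := dual Δ i (D i).zero_mem ha fun c e => ha0 (by rw [← e, smul_zero])
  exact ⟨w, hw, h⟩

/-- Rank one changes of the identity. -/
theorem exists_rank_one (v u : ι → F) (c : F) (h : 1 + c * f v u ≠ 0) :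
    ∃ g : GL ι F, (g : Matrix ι ι F).det = 1 + c * f v u ∧
      ∀ x, (g : Matrix ι ι F) *ᵥ x = x + (c * f x u) • v := by
  obtain ⟨φ, hφ⟩ : ∃ φ : ι → F, φ = fun i => f (Pi.single i 1) u := ⟨_, rfl⟩
  have hw : ∀ x, f x u = x ⬝ᵥ φ := fun x => by
    conv_lhs => rw [pi_eq_sum_univ' x, f_sum_left Δ]
    exact Finset.sum_congr rfl fun i _ => by rw [Δ.hs.smul_left, hφ]
  let M : Matrix ι ι F := 1 + Matrix.replicateCol Unit v * Matrix.replicateRow Unit (c • φ)
  have hd : M.det = 1 + c * f v u := by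
    rw [Matrix.det_one_add_replicateCol_mul_replicateRow, smul_dotProduct, dotProduct_comm, ← hw, smul_eq_mul]
  refine ⟨Matrix.GeneralLinearGroup.mkOfDetNeZero M (by rw [hd]; exact h), by
    rw [Matrix.GeneralLinearGroup.val_mkOfDetNeZero]; exact hd, fun x => ?_⟩
  rw [Matrix.GeneralLinearGroup.val_mkOfDetNeZero, hw]
  simp only [M]
  rw [Matrix.add_mulVec, Matrix.one_mulVec, ← Matrix.mulVec_mulVec]
  congr 1
  funext i
  simp [Matrix.mulVec, dotProduct, Matrix.replicateCol_apply, Matrix.replicateRow_apply, Finset.mul_sum,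
    Finset.sum_mul, mul_assoc, mul_comm, mul_left_comm]

/-- The elementary element attached to orthogonal vectors in the two members. -/
theorem exists_off (j : Fin 2) {b z : ι → F} (hb : b ∈ D j) (hz : z ∈ D (o j)) (hbz : f b z = 0) (m : F) :
    ∃ g : GL ι F, IsIso f g ∧ (g : Matrix ι ι F).det = 1 ∧ (∀ i, ∀ x ∈ D i, (g : Matrix ι ι F) *ᵥ x ∈ D i) ∧
      ∀ x, (g : Matrix ι ι F) *ᵥ x = x + ((m * f x z) • b + (-(ε * σ m) * f x b) • z) := by
  have hzb := symm_zero Δ hbz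
  have hbb := Δ.ts j b hb b hb
  have hzz := Δ.ts _ z hz z hz
  obtain ⟨g₁, hd₁, h₁⟩ := exists_rank_one Δ b z m (by rw [hbz, mul_zero, add_zero]; exact one_ne_zero)
  obtain ⟨g₂, hd₂, h₂⟩ := exists_rank_one Δ z b (-(ε * σ m)) (by rw [hzb, mul_zero, add_zero]; exact one_ne_zero)
  have hx : ∀ x, ((g₁ * g₂ : GL ι F) : Matrix ι ι F) *ᵥ x = x + ((m * f x z) • b + (-(ε * σ m) * f x b) • z) :=
    fun x => by
      rw [gl_mul_mulVec, h₂, h₁, Δ.hs.add_left, Δ.hs.smul_left, hzz]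
      module
  refine ⟨g₁ * g₂, fun x y => ?_, ?_, fun i x hxi => ?_, hx⟩
  · rw [hx, hx]
    simp only [Δ.hs.add_left, Δ.hs.add_right, Δ.hs.smul_left, Δ.hs.smul_right, hbb, hbz, hzb, hzz, map_mul, map_neg,
      Δ.invol, Δ.eps_fix, sigma_swap Δ]
    linear_combination (-(m * f x z * f b y)) * Δ.eps + 0 * Δ.eps
  · rw [Units.val_mul, Matrix.det_mul, hd₁, hd₂, hbz, hzb]; ring
  · rw [hx]
    rcases eq_or_eq_o j i with rfl | rfl
    · rw [Δ.ts _ x hxi b hb, mul_zero, zero_smul, add_zero]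
      exact add_mem hxi (Submodule.smul_mem _ _ hb)
    · rw [Δ.ts _ x hxi z hz, mul_zero, zero_smul, zero_add]
      exact add_mem hxi (Submodule.smul_mem _ _ hz)

/-- An element scaling one hyperbolic pair. -/
theorem exists_scale {α : F} (hα : α ≠ 0) :
    ∃ g : GL ι F, IsIso f g ∧ (∀ i, ∀ x ∈ D i, (g : Matrix ι ι F) *ᵥ x ∈ D i) ∧
      (g : Matrix ι ι F).det = α * (σ α)⁻¹ := by
  obtain ⟨v, hv, hv0, -⟩ := exists_in Δ 0 (m := 0) (by omega) Fin.elim0
  obtain ⟨c, hc, hcv⟩ := dual_one Δ 0 hv hv0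
  have hvc : f v c = ε := by rw [Δ.herm, hcv, map_one, mul_one]
  have hvv := Δ.ts 0 v hv v hv
  have hcc := Δ.ts _ c hc c hc
  obtain ⟨β, hβ⟩ : ∃ β, β = (σ α)⁻¹ := ⟨_, rfl⟩
  have hσα : σ α ≠ 0 := by simpa using hα
  have hβ0 : β ≠ 0 := hβ ▸ inv_ne_zero hσα
  have e1 : 1 + (α - 1) * ε * f v c = α := by rw [hvc, mul_assoc, Δ.eps, mul_one, add_sub_cancel]
  have e2 : 1 + (β - 1) * f c v = β := by rw [hcv, mul_one, add_sub_cancel]
  obtain ⟨g₁, hd₁, h₁⟩ := exists_rank_one Δ v c ((α - 1) * ε) (by rw [e1]; exact hα)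
  obtain ⟨g₂, hd₂, h₂⟩ := exists_rank_one Δ c v (β - 1) (by rw [e2]; exact hβ0)
  have hx : ∀ x, ((g₁ * g₂ : GL ι F) : Matrix ι ι F) *ᵥ x = x + (((α - 1) * ε * f x c) • v + ((β - 1) * f x v) • c) :=
    fun x => by
      rw [gl_mul_mulVec, h₂, h₁, Δ.hs.add_left, Δ.hs.smul_left, hcc]
      module
  have hab : α * σ β = 1 := by rw [hβ, map_inv₀, Δ.invol, mul_inv_cancel₀ hα]
  have hba : β * σ α = 1 := by rw [hβ, inv_mul_cancel₀ hσα]
  refine ⟨g₁ * g₂, fun x y => ?_, fun i x hxi => ?_, ?_⟩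
  · rw [hx, hx]
    simp only [Δ.hs.add_left, Δ.hs.add_right, Δ.hs.smul_left, Δ.hs.smul_right, hvv, hcc, hvc, hcv, map_mul, map_sub,
      map_one, Δ.eps_fix, sigma_swap Δ]
    linear_combination (ε * f x c * f v y) * hab + (f x v * f c y) * hba +
      ((σ α - 1) * f x v * f c y * β + (α - 1) * (σ β - 1) * ε * f x c * f v y) * Δ.eps
  · rw [hx]
    fin_cases i
    · rw [Δ.ts 0 x hxi v hv, mul_zero, zero_smul, add_zero]
      exact add_mem hxi (Submodule.smul_mem _ _ hv)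
    · rw [Δ.ts 1 x hxi c hc, mul_zero, zero_smul, zero_add]
      exact add_mem hxi (Submodule.smul_mem _ _ hc)
  · rw [Units.val_mul, Matrix.det_mul, hd₁, hd₂, e1, e2, hβ]

/-- An isometry interchanging the members. -/
theorem exists_swap : ∃ g : GL ι F, IsIso f g ∧ ∀ i, ∀ x ∈ D i, (g : Matrix ι ι F) *ᵥ x ∈ D (o i) := by
  classical
  obtain ⟨k, -, hd⟩ := Δ.dim
  obtain ⟨b⟩ : Nonempty (Module.Basis (Fin k) F (D 0)) := ⟨Module.finBasisOfFinrankEq F (D 0) (hd 0)⟩
  have hb0 : ∀ x ∈ D 0, ∀ z, (∀ i, f (b i : ι → F) z = 0) → f x z = 0 := fun x hx z h => by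
    have e : x = ∑ i, b.repr ⟨x, hx⟩ i • (b i : ι → F) := by
      have := congrArg Subtype.val (b.sum_repr ⟨x, hx⟩)
      simp only [AddSubmonoidClass.coe_finsetSum, Submodule.coe_smul] at this
      exact this.symm
    rw [e, f_sum_left Δ]
    exact Finset.sum_eq_zero fun i _ => by rw [Δ.hs.smul_left, h, mul_zero]
  let Ψ : D 1 →ₗ[F] Fin k → F :=
    { toFun := fun c i => f (c : ι → F) (b i)
      map_add' := fun x y => funext fun j => by
        rw [Pi.add_apply, Submodule.coe_add]; exact Δ.hs.add_left _ _ _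
      map_smul' := fun c x => funext fun j => by
        rw [RingHom.id_apply, Pi.smul_apply, smul_eq_mul, Submodule.coe_smul]; exact Δ.hs.smul_left _ _ _ }
  have hinj : Function.Injective Ψ := (injective_iff_map_eq_zero Ψ).mpr fun c hc => Subtype.ext
    (eq_zero_of_perp Δ 0 (fun x hx => hb0 x hx _ fun i => symm_zero Δ (congrFun hc i))
      fun x hx => Δ.ts 1 x hx _ c.2)
  have hsurj : Function.Surjective Ψ := (LinearMap.injective_iff_surjective_of_finrank_eq_finrank
    (by rw [hd, Module.finrank_fintype_fun_eq_card, Fintype.card_fin])).mp hinj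
  choose c hc using fun i => hsurj (Pi.single i 1)
  have hcb : ∀ i j, f (c i : ι → F) (b j : ι → F) = if i = j then 1 else 0 := fun i j => by
    have := congrFun (hc i) j
    rw [Pi.single_apply] at this
    exact this.trans (by simp [eq_comm])
  have hbc : ∀ i j, f (b j : ι → F) (c i : ι → F) = if i = j then ε else 0 := fun i j => by
    rw [Δ.herm, hcb]; split_ifs <;> simp
  have hbb : ∀ i j, f (b i : ι → F) (b j : ι → F) = 0 := fun i j => Δ.ts 0 _ (b i).2 _ (b j).2
  have hcc : ∀ i j, f (c i : ι → F) (c j : ι → F) = 0 := fun i j => Δ.ts 1 _ (c i).2 _ (c j).2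
  -- coordinates
  have hexp : ∀ x, x = ∑ i, ((ε * f x (c i)) • (b i : ι → F) + f x (b i) • (c i : ι → F)) := fun x => by
    obtain ⟨r, hr⟩ : ∃ r, r = x - ∑ i, ((ε * f x (c i)) • (b i : ι → F) + f x (b i) • (c i : ι → F)) := ⟨_, rfl⟩
    have h1 : ∀ j, f r (b j) = 0 := fun j => by
      rw [hr, f_sub_left Δ, f_sum_left Δ, Finset.sum_eq_single j]
      · simp [Δ.hs.add_left, Δ.hs.smul_left, hbb, hcb]
      · intro i _ hij
        simp [Δ.hs.add_left, Δ.hs.smul_left, hbb, hcb, hij]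
      · simp
    have h2 : ∀ j, f r (c j) = 0 := fun j => by
      rw [hr, f_sub_left Δ, f_sum_left Δ, Finset.sum_eq_single j]
      · simp only [Δ.hs.add_left, Δ.hs.smul_left, hbc, hcc, if_true]
        linear_combination (-(f x (c j))) * Δ.eps
      · intro i _ hij
        simp [Δ.hs.add_left, Δ.hs.smul_left, hbc, hcc, Ne.symm hij]
      · simp
    obtain ⟨a, ha, a', ha', e⟩ := dec' Δ 0 r
    have ha'0 : a' = 0 := by
      have : Ψ ⟨a', ha'⟩ = 0 := funext fun j => by
        have := h1 j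
        rwa [e, Δ.hs.add_left, Δ.ts 0 a ha _ (b j).2, zero_add] at this
      exact congrArg Subtype.val (hinj (this.trans (map_zero Ψ).symm))
    have hrep : ∀ j, b.repr ⟨a, ha⟩ j = 0 := fun j => by
      have h := h2 j
      rw [e, ha'0, add_zero] at h
      have e' : a = ∑ i, b.repr ⟨a, ha⟩ i • (b i : ι → F) := by
        have := congrArg Subtype.val (b.sum_repr ⟨a, ha⟩)
        simp only [AddSubmonoidClass.coe_finsetSum, Submodule.coe_smul] at this
        exact this.symm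
      rw [e', f_sum_left Δ, Finset.sum_eq_single j (fun i _ hij => by simp [Δ.hs.smul_left, hbc, Ne.symm hij]) (by simp),
        Δ.hs.smul_left, hbc, if_pos rfl, mul_eq_zero] at h
      exact h.resolve_right (eps_ne Δ)
    have ha0 : a = 0 := by
      have : (⟨a, ha⟩ : D 0) = 0 := b.repr.injective (Finsupp.ext fun j => by simp [hrep])
      exact congrArg Subtype.val this
    rw [← sub_eq_zero, ← hr, e, ha0, ha'0, add_zero]
  obtain ⟨γ, hγ⟩ : ∃ γ : (ι → F) →ₗ[F] (ι → F), ∀ x, γ x =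
      ∑ i, ((ε * f x (b i)) • (b i : ι → F) + (ε * f x (c i)) • (c i : ι → F)) :=
    ⟨{ toFun := fun x => ∑ i, ((ε * f x (b i)) • (b i : ι → F) + (ε * f x (c i)) • (c i : ι → F))
       map_add' := fun x y => by
         rw [← Finset.sum_add_distrib]
         exact Finset.sum_congr rfl fun i _ => by rw [Δ.hs.add_left, Δ.hs.add_left]; module
       map_smul' := fun t x => by
         rw [RingHom.id_apply, Finset.smul_sum]
         exact Finset.sum_congr rfl fun i _ => by rw [Δ.hs.smul_left, Δ.hs.smul_left]; module },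
      fun x => rfl⟩
  have hγb : ∀ x j, f (γ x) (b j) = ε * f x (c j) := fun x j => by
    rw [hγ, f_sum_left Δ, Finset.sum_eq_single j]
    · simp [Δ.hs.add_left, Δ.hs.smul_left, hbb, hcb]
    · intro i _ hij
      simp [Δ.hs.add_left, Δ.hs.smul_left, hbb, hcb, hij]
    · simp
  have hγc : ∀ x j, f (γ x) (c j) = f x (b j) := fun x j => by
    rw [hγ, f_sum_left Δ, Finset.sum_eq_single j]
    · simp only [Δ.hs.add_left, Δ.hs.smul_left, hbc, hcc, if_true]
      linear_combination (f x (b j)) * Δ.eps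
    · intro i _ hij
      simp [Δ.hs.add_left, Δ.hs.smul_left, hbc, hcc, Ne.symm hij]
    · simp
  let ψ : (ι → F) → (ι → F) →+ F := fun x =>
    { toFun := fun y => f x y, map_zero' := f_zero_right Δ x, map_add' := fun a b => Δ.hs.add_right x a b }
  have hiso : ∀ x y, f (γ x) (γ y) = f x y := fun x y => by
    calc f (γ x) (γ y) = ψ (γ x) (∑ i, ((ε * f y (b i)) • (b i : ι → F) + (ε * f y (c i)) • (c i : ι → F))) := by
          rw [← hγ]; rfl
      _ = ∑ i, (σ (ε * f y (b i)) * (ε * f x (c i)) + σ (ε * f y (c i)) * f x (b i)) := by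
          rw [map_sum]
          refine Finset.sum_congr rfl fun i _ => ?_
          change f (γ x) _ = _
          rw [Δ.hs.add_right, Δ.hs.smul_right, Δ.hs.smul_right, hγb, hγc]
      _ = ψ x (∑ i, ((ε * f y (c i)) • (b i : ι → F) + f y (b i) • (c i : ι → F))) := by
          rw [map_sum]
          refine Finset.sum_congr rfl fun i _ => ?_
          change _ = f x _
          rw [Δ.hs.add_right, Δ.hs.smul_right, Δ.hs.smul_right, map_mul, map_mul, Δ.eps_fix]
          linear_combination (σ (f y (b i)) * f x (c i)) * Δ.eps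
      _ = f x y := by rw [← hexp]; rfl
  have hinjγ : Function.Injective γ := (injective_iff_map_eq_zero γ).mpr fun y hy => Δ.nd y fun x => by
    rw [← hiso, hy, f_zero_right Δ]
  obtain ⟨g, hg⟩ : ∃ g : GL ι F, ∀ x, (g : Matrix ι ι F) *ᵥ x = γ x := by
    obtain ⟨γ', hγ'⟩ : ∃ γ' : (ι → F) ≃ₗ[F] (ι → F), ∀ x, γ' x = γ x :=
      ⟨LinearEquiv.ofBijective γ ⟨hinjγ, LinearMap.injective_iff_surjective.mp hinjγ⟩, fun x => rfl⟩
    refine ⟨Matrix.GeneralLinearGroup.toLin.symm (LinearMap.GeneralLinearGroup.ofLinearEquiv γ'), fun x => ?_⟩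
    rw [← hγ', ← Matrix.toLin'_apply]
    change (Matrix.GeneralLinearGroup.toLin (Matrix.GeneralLinearGroup.toLin.symm
      (LinearMap.GeneralLinearGroup.ofLinearEquiv γ')) : (ι → F) →ₗ[F] (ι → F)) x = γ' x
    rw [MulEquiv.apply_symm_apply]
    rfl
  refine ⟨g, fun x y => by rw [hg, hg, hiso], fun i x hx => ?_⟩
  rw [hg, hγ]
  refine sum_mem fun t _ => ?_
  fin_cases i
  · rw [show f x (b t : ι → F) = 0 from Δ.ts 0 x hx _ (b t).2, mul_zero, zero_smul, zero_add]
    exact Submodule.smul_mem _ _ (c t).2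
  · rw [show f x (c t : ι → F) = 0 from Δ.ts 1 x hx _ (c t).2, mul_zero, zero_smul, add_zero]
    exact Submodule.smul_mem _ _ (b t).2

end Cfsg.Agent.Classical.TSPair
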