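/-
Overgroups of the stabiliser of two complementary totally isotropic subspaces contain every transvection.
-/
import Cfsg.Agent.Lib.Classical.TSPairBasic

set_option autoImplicit false
set_option linter.unusedSectionVars false
set_option linter.style.haveILetI false

namespace Cfsg.Agent.Classical.TSPair

open Matrix Cfsg.Geo
open Cfsg.Agent.Classical

universe u

variable {ι : Type} [Fintype ι] [DecidableEq ι] {F : Type u} [Field F] {σ : F ≃+* F} {ε : F}
  {f : (ι → F) → (ι → F) → F} {D : Fin 2 → Submodule F (ι → F)} {K : Subgroup (GL ι F)}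

/-- `x ↦ x + L x` is in `K`. -/
def In (K : Subgroup (GL ι F)) (L : (ι → F) → ι → F) : Prop :=
  ∃ g ∈ K, ∀ x, (g : Matrix ι ι F) *ᵥ x = x + L x

/-- The map of a transvection. -/
def tq (f : (ι → F) → (ι → F) → F) (b : ι → F) (l : F) : (ι → F) → ι → F := fun x => (l * f x b) • b

/-- The off-diagonal map on two orthogonal isotropic vectors. -/
def off (σ : F ≃+* F) (ε : F) (f : (ι → F) → (ι → F) → F) (b z : ι → F) (m : F) : (ι → F) → ι → F :=
  fun x => (m * f x z) • b + (-(ε * σ m) * f x b) • z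

/-- The setting. -/
structure Setup (σ : F ≃+* F) (ε : F) (f : (ι → F) → (ι → F) → F) (D : Fin 2 → Submodule F (ι → F))
    (K : Subgroup (GL ι F)) : Prop where
  data : Data σ ε f D
  split : ∀ l : F, l + ε * σ l = 0 → ∃ t, t - ε * σ t = l
  skew : ∃ l : F, l ≠ 0 ∧ l + ε * σ l = 0
  iso : ∀ g ∈ K, IsIso f g
  base : ∀ g : GL ι F, IsIso f g → (g : Matrix ι ι F).det = 1 → (∀ i, ∀ x ∈ D i, (g : Matrix ι ι F) *ᵥ x ∈ D i) → g ∈ K
  sw : ∃ γ ∈ K, ∀ i, ∀ x ∈ D i, (γ : Matrix ι ι F) *ᵥ x ∈ D (o i)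

theorem In.congr {L L' : (ι → F) → ι → F} (h : In K L) (e : ∀ x, L x = L' x) : In K L' := by
  obtain ⟨g, hg, h'⟩ := h
  exact ⟨g, hg, fun x => by rw [h', e]⟩

theorem In.comp {L L' : (ι → F) → ι → F} (h : In K L) (h' : In K L') :
    In K fun x => L' x + L (x + L' x) := by
  obtain ⟨g, hg, hg'⟩ := h
  obtain ⟨k, hk, hk'⟩ := h'
  exact ⟨g * k, mul_mem hg hk, fun x => by rw [gl_mul_mulVec, hk', hg', add_assoc]⟩

theorem In.inv {L L' : (ι → F) → ι → F} (h : In K L) (e : ∀ x, L' x + L (x + L' x) = 0) : In K L' := by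
  obtain ⟨g, hg, hg'⟩ := h
  refine ⟨g⁻¹, inv_mem hg, fun x => gl_mulVec_injective g ?_⟩
  simp only []
  rw [gl_mulVec_inv_cancel, hg', add_assoc, e, add_zero]

/-- A usable element: off-diagonal, with one vector in a member and the other outside its span with the opposite one. -/
def Hit (_S : Setup σ ε f D K) : Prop :=
  ∃ (j : Fin 2) (u v : ι → F) (m : F), m ≠ 0 ∧ v ∈ D j ∧ v ≠ 0 ∧ f u u = 0 ∧ f u v = 0 ∧
    (∀ c : F, u - c • v ∉ D (o j)) ∧ In K (off σ ε f u v m)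

variable (S : Setup σ ε f D K)

include S

theorem conj_iso {y : GL ι F} (hy : y ∈ K) (x v : ι → F) :
    f (((y⁻¹ : GL ι F) : Matrix ι ι F) *ᵥ x) v = f x ((y : Matrix ι ι F) *ᵥ v) := by
  conv_rhs => rw [← gl_mulVec_inv_cancel y x]
  rw [S.iso y hy]

theorem In.conj_tq {b : ι → F} {l : F} (h : In K (tq f b l)) {y : GL ι F} (hy : y ∈ K) :
    In K (tq f ((y : Matrix ι ι F) *ᵥ b) l) := by
  obtain ⟨g, hg, h'⟩ := h
  exact ⟨y * g * y⁻¹, mul_mem (mul_mem hy hg) (inv_mem hy), fun x => by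
    rw [gl_mul_mulVec, gl_mul_mulVec, h', Matrix.mulVec_add, gl_mulVec_inv_cancel, tq, tq, Matrix.mulVec_smul,
      conj_iso S hy]⟩

theorem In.conj_off {b z : ι → F} {m : F} (h : In K (off σ ε f b z m)) {y : GL ι F} (hy : y ∈ K) :
    In K (off σ ε f ((y : Matrix ι ι F) *ᵥ b) ((y : Matrix ι ι F) *ᵥ z) m) := by
  obtain ⟨g, hg, h'⟩ := h
  exact ⟨y * g * y⁻¹, mul_mem (mul_mem hy hg) (inv_mem hy), fun x => by
    rw [gl_mul_mulVec, gl_mul_mulVec, h', Matrix.mulVec_add, gl_mulVec_inv_cancel, off, off, Matrix.mulVec_add,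
      Matrix.mulVec_smul, Matrix.mulVec_smul, conj_iso S hy, conj_iso S hy]⟩

theorem off_neg {b z : ι → F} (hbb : f b b = 0) (hzz : f z z = 0) (hbz : f b z = 0) {m : F}
    (h : In K (off σ ε f b z m)) : In K (off σ ε f b z (-m)) :=
  h.inv fun x => by
    simp only [off, S.data.hs.add_left, S.data.hs.smul_left, hbb, hzz, hbz, symm_zero S.data hbz, map_neg]
    module

theorem base_off (j : Fin 2) {b z : ι → F} (hb : b ∈ D j) (hz : z ∈ D (o j)) (hbz : f b z = 0) (m : F) :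
    In K (off σ ε f b z m) := by
  obtain ⟨g, h1, h2, h3, h4⟩ := exists_off S.data j hb hz hbz m
  exact ⟨g, S.base g h1 h2 h3, h4⟩

theorem tq_smul (v : ι → F) (s l : F) : tq f (s • v) l = tq f v (l * (s * σ s)) := by
  funext x
  simp only [tq, S.data.hs.smul_right]
  module

/-- From a usable element to all transvections with one centre. -/
theorem exists_center (h : Hit S) : ∃ (j : Fin 2) (v : ι → F), v ∈ D j ∧ v ≠ 0 ∧
    ∀ l : F, l + ε * σ l = 0 → In K (tq f v l) := by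
  obtain ⟨j, u, v, m, hm, hv, hv0, huu, huv, hu, hX⟩ := h
  refine ⟨j, v, hv, hv0, fun l hl => ?_⟩
  have Δ := S.data
  obtain ⟨a, ha, a', ha', hua⟩ := dec' Δ j u
  have hind : ∀ c : F, c • v ≠ a := fun c e => hu c (by rw [hua, ← e, add_sub_cancel_left]; exact ha')
  obtain ⟨w, hw, hwv, hwa⟩ := dual Δ j hv ha hind
  obtain ⟨t, ht⟩ := S.split l hl
  obtain ⟨w', hw'⟩ : ∃ w', w' = ε • w := ⟨_, rfl⟩
  have hw'D : w' ∈ D (o j) := hw' ▸ Submodule.smul_mem _ _ hw
  have hvw' : f v w' = 0 := by rw [hw', Δ.hs.smul_right, symm_zero Δ hwv, mul_zero]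
  have huw' : f u w' = 1 := by
    rw [hua, Δ.hs.add_left, Δ.ts _ a' ha' w' hw'D, add_zero, hw', Δ.hs.smul_right, Δ.eps_fix, Δ.herm a w, hwa,
      map_one, mul_one, Δ.eps]
  obtain ⟨y, hy, hyx⟩ := base_off S j hv hw'D hvw' (t / m)
  have hvv := Δ.ts j v hv v hv
  have hvu := symm_zero Δ huv
  have hyu : (y : Matrix ι ι F) *ᵥ u = u + (t / m) • v := by rw [hyx, off, huw', huv]; simp
  have hyv : (y : Matrix ι ι F) *ᵥ v = v := by rw [hyx, off, hvw', hvv]; simp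
  have h1 := In.conj_off S hX hy
  rw [hyu, hyv] at h1
  refine (h1.comp (off_neg S huu hvv huv hX)).congr fun x => ?_
  simp only [off, tq, Δ.hs.add_left, Δ.hs.add_right, Δ.hs.smul_left, Δ.hs.smul_right, huu, huv, hvu, hvv, map_neg,
    map_div₀]
  rw [← ht]
  have hσm : σ m ≠ 0 := by simpa using hm
  match_scalars <;> field_simp <;> ring

/-- An element with a common vector moving the pair gives all transvections with some centre. -/
theorem center_common (h3 : ∀ i, 2 < Module.finrank F (D i)) {g : GL ι F} (hg : g ∈ K)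
    (hgn : ∀ i j, ¬((∀ x ∈ D i, (g : Matrix ι ι F) *ᵥ x ∈ D j) ∧
      ∀ x ∈ D (o i), (g : Matrix ι ι F) *ᵥ x ∈ D (o j)))
    {i j : Fin 2} {v₀ : ι → F} (hv₀ : v₀ ∈ D i) (hv₀0 : v₀ ≠ 0) (hgv : (g : Matrix ι ι F) *ᵥ v₀ ∈ D j) :
    ∃ (j : Fin 2) (v : ι → F), v ∈ D j ∧ v ≠ 0 ∧ ∀ l : F, l + ε * σ l = 0 → In K (tq f v l) := by
  classical
  have Δ := S.data
  by_contra hno
  have hgi := S.iso g hg
  have hgne : ∀ {x : ι → F}, x ≠ 0 → (g : Matrix ι ι F) *ᵥ x ≠ 0 := fun {x} hx e =>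
    hx (gl_mulVec_injective g (e.trans (Matrix.mulVec_zero _).symm))
  have fail : ∀ (i j : Fin 2) (v : ι → F), v ∈ D i → v ≠ 0 → (g : Matrix ι ι F) *ᵥ v ∈ D j →
      ∀ z ∈ D (o i), f z v = 0 → (g : Matrix ι ι F) *ᵥ z ∈ D (o j) := by
    intro i j v hv hv0 hgv z hz hzv
    obtain ⟨U, hU⟩ : ∃ U, U = (g : Matrix ι ι F) *ᵥ z := ⟨_, rfl⟩
    obtain ⟨V, hV⟩ : ∃ V, V = (g : Matrix ι ι F) *ᵥ v := ⟨_, rfl⟩
    rw [← hV] at hgv
    rw [← hU]
    have hX : ∀ m, In K (off σ ε f U V m) := fun m => hU ▸ hV ▸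
      In.conj_off S (base_off S (o i) hz (z := v) (by rw [o_o]; exact hv) hzv m) hg
    have hUU : f U U = 0 := by rw [hU, hgi, Δ.ts _ z hz z hz]
    have hUV : f U V = 0 := by rw [hU, hV, hgi, hzv]
    obtain ⟨c, hc⟩ : ∃ c : F, U - c • V ∈ D (o j) := by
      by_contra hcon
      push Not at hcon
      exact hno (exists_center S ⟨j, U, V, 1, one_ne_zero, hgv, hV ▸ hgne hv0, hUU, hUV, hcon, hX 1⟩)
    by_cases hc0 : c = 0
    · rwa [hc0, zero_smul, sub_zero] at hc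
    exfalso
    obtain ⟨e, he⟩ : ∃ e, e = U - c • V := ⟨_, rfl⟩
    rw [← he] at hc
    have hVV := Δ.ts j V hgv V hgv
    have heV : f e V = 0 := by rw [he, f_sub_left Δ, Δ.hs.smul_left, hUV, hVV, mul_zero, sub_zero]
    have hVe := symm_zero Δ heV
    have hee := Δ.ts _ e hc e hc
    refine hno ⟨j, V, hgv, hV ▸ hgne hv0, fun l hl => ?_⟩
    obtain ⟨t, ht⟩ := S.split l hl
    have hb := off_neg S hee hVV heV (base_off S (o j) hc (z := V) (by rw [o_o]; exact hgv) heV (t / c))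
    refine ((hX (t / c)).comp hb).congr fun x => ?_
    rw [show U = e + c • V by rw [he]; abel]
    simp only [off, tq, Δ.hs.add_left, Δ.hs.add_right, Δ.hs.smul_left, Δ.hs.smul_right, hee, heV, hVe, hVV, map_neg]
    rw [← ht]
    have hσc : σ c ≠ 0 := by simpa using hc0
    match_scalars <;> simp only [map_div₀] <;> field_simp <;> ring
  have back : ∀ (i j : Fin 2) (z z' : ι → F), z ∈ D (o i) → z' ∈ D (o i) → (∀ c : F, c • z' ≠ z) → z ≠ 0 →
      z' ≠ 0 → (g : Matrix ι ι F) *ᵥ z ∈ D (o j) → (g : Matrix ι ι F) *ᵥ z' ∈ D (o j) →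
      ∀ y ∈ D i, (g : Matrix ι ι F) *ᵥ y ∈ D j := by
    intro i j z z' hz hz' hind hz0 hz'0 hgz hgz' y hy
    obtain ⟨a, ha, haz', haz⟩ := dual Δ (o i) hz' hz hind
    rw [o_o] at ha
    have e1 := fail (o i) (o j) z hz hz0 hgz (y - f y z • a)
      (by rw [o_o]; exact (D i).sub_mem hy ((D i).smul_mem _ ha))
      (by rw [f_sub_left Δ, Δ.hs.smul_left, haz, mul_one, sub_self])
    have e2 := fail (o i) (o j) z' hz' hz'0 hgz' a (by rw [o_o]; exact ha) haz'
    rw [o_o] at e1 e2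
    have := (D j).add_mem e1 ((D j).smul_mem (f y z) e2)
    rwa [← Matrix.mulVec_smul, ← Matrix.mulVec_add, sub_add_cancel] at this
  obtain ⟨z, hz, hz0, hzo⟩ := exists_in Δ (o i) (m := 1) (by omega) ![v₀]
  obtain ⟨a, ha, haz⟩ := dual_one Δ (o i) hz hz0
  obtain ⟨z', hz', hz'0, hz'o⟩ := exists_in Δ (o i) (m := 2) (Or.inr (h3 _)) ![v₀, a]
  have hA : ∀ y ∈ D i, (g : Matrix ι ι F) *ᵥ y ∈ D j := by
    refine back i j z z' hz hz' (fun c e => ?_) hz0 hz'0 (fail i j v₀ hv₀ hv₀0 hgv z hz (hzo 0))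
      (fail i j v₀ hv₀ hv₀0 hgv z' hz' (hz'o 0))
    rw [← e, Δ.hs.smul_right, symm_zero Δ (show f z' a = 0 from hz'o 1), mul_zero] at haz
    exact zero_ne_one haz
  refine hgn i j ⟨hA, fun y hy => ?_⟩
  obtain ⟨u, hu, hu0, -⟩ := exists_in Δ i (m := 0) (by omega) Fin.elim0
  obtain ⟨b, hb, hbu⟩ := dual_one Δ i hu hu0
  obtain ⟨u', hu', hu'0, hu'o⟩ := exists_in Δ i (m := 1) (by omega) ![b]
  refine back (o i) (o j) u u' (by rwa [o_o]) (by rwa [o_o]) (fun c e => ?_) hu0 hu'0 (by rw [o_o]; exact hA u hu)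
    (by rw [o_o]; exact hA u' hu') y hy
  rw [← e, Δ.hs.smul_right, symm_zero Δ (show f u' b = 0 from hu'o 0), mul_zero] at hbu
  exact zero_ne_one hbu

/-- An element not preserving the pair gives all transvections with some centre. -/
theorem center_of_moving (h3 : ∀ i, 2 < Module.finrank F (D i)) {g : GL ι F} (hg : g ∈ K)
    (hgn : ∀ i j, ¬((∀ x ∈ D i, (g : Matrix ι ι F) *ᵥ x ∈ D j) ∧
      ∀ x ∈ D (o i), (g : Matrix ι ι F) *ᵥ x ∈ D (o j))) :
    ∃ (j : Fin 2) (v : ι → F), v ∈ D j ∧ v ≠ 0 ∧ ∀ l : F, l + ε * σ l = 0 → In K (tq f v l) := by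
  classical
  have Δ := S.data
  by_contra hno
  have hgi := S.iso g hg
  have hI : ∀ (i j : Fin 2) (v : ι → F), v ∈ D i → v ≠ 0 → (g : Matrix ι ι F) *ᵥ v ∉ D j :=
    fun i j v hv hv0 h => hno (center_common S h3 hg hgn hv hv0 h)
  have hback : ∀ u : ι → F, (g : Matrix ι ι F) *ᵥ (((g⁻¹ : GL ι F) : Matrix ι ι F) *ᵥ u) = u :=
    fun u => gl_mulVec_inv_cancel g u
  -- a vector of the preimage of the first member with non-orthogonal components
  obtain ⟨z, q, hz, hq, hzqD, hzq⟩ : ∃ z q, z ∈ D 0 ∧ q ∈ D (o 0) ∧ (g : Matrix ι ι F) *ᵥ (z + q) ∈ D 0 ∧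
      f z q ≠ 0 := by
    by_contra hcon
    push Not at hcon
    have hval : ∀ z q z' q', z ∈ D 0 → q ∈ D (o 0) → (g : Matrix ι ι F) *ᵥ (z + q) ∈ D 0 → z' ∈ D 0 →
        q' ∈ D (o 0) → (g : Matrix ι ι F) *ᵥ (z' + q') ∈ D 0 → f z q' = 0 := by
      intro z q z' q' hz hq h hz' hq' h'
      have e1 : ∀ c : F, f z q' * σ c + c * f z' q = 0 := fun c => by
        have := hcon (z + c • z') (q + c • q') ((D 0).add_mem hz ((D 0).smul_mem _ hz'))
          ((D _).add_mem hq ((D _).smul_mem _ hq')) (by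
            rw [show z + c • z' + (q + c • q') = (z + q) + c • (z' + q') by module, Matrix.mulVec_add,
              Matrix.mulVec_smul]
            exact (D 0).add_mem h ((D 0).smul_mem _ h'))
        rw [Δ.hs.add_left, Δ.hs.add_right, Δ.hs.add_right, Δ.hs.smul_left, Δ.hs.smul_left, Δ.hs.smul_right,
          Δ.hs.smul_right, hcon z q hz hq h, hcon z' q' hz' hq' h'] at this
        linear_combination this
      have e2 : f z q' + ε * σ (f z' q) = 0 := by
        have := Δ.ts 0 _ h _ h'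
        rw [hgi, Δ.hs.add_left, Δ.hs.add_right, Δ.hs.add_right, Δ.ts 0 z hz z' hz', Δ.ts _ q hq q' hq',
          Δ.herm q z'] at this
        linear_combination this
      have e3 : f z' q = -f z q' := by
        have := e1 1
        rw [map_one, mul_one, one_mul] at this
        linear_combination this
      by_contra hne
      obtain ⟨l, hl0, hl⟩ := S.skew
      obtain ⟨t, ht⟩ := S.split l hl
      have hσt : σ t = t := by
        have := e1 t
        rw [e3] at this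
        exact sub_eq_zero.mp ((mul_eq_zero.mp (show f z q' * (σ t - t) = 0 by linear_combination this)).resolve_left hne)
      have hεσ : ∀ c : F, σ c = c := fun c => by
        have := e1 c
        rw [e3] at this
        exact sub_eq_zero.mp ((mul_eq_zero.mp (show f z q' * (σ c - c) = 0 by linear_combination this)).resolve_left hne)
      rw [e3, map_neg, hεσ] at e2
      have hε : ε = 1 := (sub_eq_zero.mp ((mul_eq_zero.mp (show f z q' * (1 - ε) = 0 by
        linear_combination e2)).resolve_left hne)).symm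
      rw [hε, one_mul, hσt, sub_self] at ht
      exact hl0 ht.symm
    obtain ⟨u, hu, hu0, -⟩ := exists_in Δ 0 (m := 0) (by omega) Fin.elim0
    obtain ⟨z, hz, q, hq, hx⟩ := dec' Δ 0 (((g⁻¹ : GL ι F) : Matrix ι ι F) *ᵥ u)
    have hgx : (g : Matrix ι ι F) *ᵥ (z + q) = u := by rw [← hx, hback]
    by_cases hz0 : z = 0
    · rw [hz0, zero_add] at hgx
      exact hI (o 0) 0 q hq (fun e => hu0 (by rw [← hgx, e, Matrix.mulVec_zero])) (hgx ▸ hu)
    refine hI 0 0 z hz hz0 (mem_of_perp Δ 0 fun d hd => ?_)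
    obtain ⟨z', hz', q', hq', hx'⟩ := dec' Δ 0 (((g⁻¹ : GL ι F) : Matrix ι ι F) *ᵥ d)
    have hgx' : (g : Matrix ι ι F) *ᵥ (z' + q') = d := by rw [← hx', hback]
    rw [← hgx', hgi, Δ.hs.add_left, Δ.ts 0 z' hz' z hz, zero_add]
    exact symm_zero Δ (hval z q z' q' hz hq (hgx ▸ hu) hz' hq' (hgx' ▸ hd))
  -- an element with a fixed vector
  obtain ⟨u', hu', hu'0, hu'o⟩ := exists_in Δ 0 (m := 1) (by omega) ![(g : Matrix ι ι F) *ᵥ z]
  obtain ⟨y, hy⟩ : ∃ y, y = ((g⁻¹ : GL ι F) : Matrix ι ι F) *ᵥ u' := ⟨_, rfl⟩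
  have hgy : (g : Matrix ι ι F) *ᵥ y = u' := by rw [hy, hback]
  have hyz : f y z = 0 := by rw [← hgi, hgy]; exact hu'o 0
  obtain ⟨a, ha, ha0, hao⟩ := exists_in Δ (o 0) (m := 2) (Or.inr (h3 _)) ![y, z]
  obtain ⟨U, hU⟩ : ∃ U, U = (g : Matrix ι ι F) *ᵥ z := ⟨_, rfl⟩
  obtain ⟨Z, hZ⟩ : ∃ Z, Z = (g : Matrix ι ι F) *ᵥ a := ⟨_, rfl⟩
  have hX := In.conj_off S (base_off S 0 hz (z := a) ha (symm_zero Δ (hao 1)) 1) hg
  rw [← hU, ← hZ] at hX
  obtain ⟨k, hk, hkx⟩ := hX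
  have hku : (k : Matrix ι ι F) *ᵥ u' = u' := by
    rw [hkx, off, ← hgy, hU, hZ, hgi, hgi, hyz, symm_zero Δ (show f a y = 0 from hao 0)]
    simp
  by_cases hkn : ∀ i j, ¬((∀ x ∈ D i, (k : Matrix ι ι F) *ᵥ x ∈ D j) ∧
      ∀ x ∈ D (o i), (k : Matrix ι ι F) *ᵥ x ∈ D (o j))
  · exact hno (center_common S h3 hk hkn hu' hu'0 (hku.symm ▸ hu'))
  push Not at hkn
  obtain ⟨i, j, h1, h2⟩ := hkn
  have hk0 : ∀ x ∈ D 0, (k : Matrix ι ι F) *ᵥ x ∈ D 0 := by
    have hsame : ∀ t : Fin 2, (∀ x ∈ D 0, (k : Matrix ι ι F) *ᵥ x ∈ D t) →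
        ∀ x ∈ D 0, (k : Matrix ι ι F) *ᵥ x ∈ D 0 := fun t ht => by
      rcases eq_or_eq_o 0 t with rfl | rfl
      · exact ht
      · exact absurd (inter_zero Δ 0 hu' (hku ▸ ht u' hu')) hu'0
    rcases eq_or_eq_o i 0 with e | e
    · exact hsame j fun x hx => h1 x (e ▸ hx)
    · exact hsame (o j) fun x hx => h2 x (e ▸ hx)
  obtain ⟨x, hx, hxne⟩ : ∃ x ∈ D 0, f x U ≠ 0 := by
    by_contra hcon
    push Not at hcon
    exact hI 0 0 z hz (fun e => hzq (by rw [e, f_zero_left Δ])) (hU ▸ mem_of_perp Δ 0 hcon)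
  have hmem : (1 * f x Z) • U + (-(ε * σ 1) * f x U) • Z ∈ D 0 := by
    have := (D 0).sub_mem (hk0 x hx) hx
    rwa [hkx, add_sub_cancel_left] at this
  rw [map_one, mul_one, one_mul, hU, hZ, ← Matrix.mulVec_smul, ← Matrix.mulVec_smul, ← Matrix.mulVec_add] at hmem
  rw [← hU, ← hZ] at hmem
  have hd : -ε * f x U ≠ 0 := mul_ne_zero (neg_ne_zero.mpr (eps_ne Δ)) hxne
  by_cases hc : f x Z = 0
  · rw [hc, zero_smul, zero_add] at hmem
    exact hI (o 0) 0 _ ((D _).smul_mem _ ha) (smul_ne_zero hd ha0) hmem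
  have hdiff : (g : Matrix ι ι F) *ᵥ (f x Z • q - (-ε * f x U) • a) ∈ D 0 := by
    have := (D 0).sub_mem ((D 0).smul_mem (f x Z) hzqD) hmem
    rw [← Matrix.mulVec_smul, ← Matrix.mulVec_sub] at this
    rwa [show f x Z • (z + q) - (f x Z • z + (-ε * f x U) • a) = f x Z • q - (-ε * f x U) • a by module] at this
  by_cases hq' : f x Z • q - (-ε * f x U) • a = 0
  · refine mul_ne_zero (σ.injective.ne_iff' (map_zero σ) |>.mpr hc) hzq ?_
    have := congrArg (fun w => f z w) hq'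
    simp only [f_sub_right Δ, Δ.hs.smul_right, f_zero_right Δ, symm_zero Δ (show f a z = 0 from hao 1), mul_zero,
      sub_zero] at this
    exact this
  · exact hI (o 0) 0 _ ((D _).sub_mem ((D _).smul_mem _ hq) ((D _).smul_mem _ ha)) hq' hdiff

/-- Every transvection, from those with one centre. -/
theorem full_of_center {j₀ : Fin 2} {v₀ : ι → F} (hv₀ : v₀ ∈ D j₀) (hv₀0 : v₀ ≠ 0)
    (hC₀ : ∀ l : F, l + ε * σ l = 0 → In K (tq f v₀ l))
    {v : ι → F} (hvv : f v v = 0) {l : F} (hl : l + ε * σ l = 0) : In K (tq f v l) := by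
  classical
  have Δ := S.data
  let C : (ι → F) → Prop := fun v => ∀ l : F, l + ε * σ l = 0 → In K (tq f v l)
  have hscale : ∀ {v : ι → F} (s : F), C v → C (s • v) := fun {v} s hv l hl => by
    rw [tq_smul S]
    refine hv _ ?_
    rw [map_mul, map_mul, Δ.invol]
    linear_combination (s * σ s) * hl
  have hzero : C 0 := fun l _ => ⟨1, one_mem _, fun x => by simp [tq, f_zero_right Δ]⟩
  -- one member
  have hmember : ∀ (j : Fin 2) (v : ι → F), v ∈ D j → v ≠ 0 → C v → ∀ v' ∈ D j, C v' := by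
    intro j v hv hv0 hC v' hv'
    by_cases hdep : ∃ s : F, s • v = v'
    · obtain ⟨s, rfl⟩ := hdep
      exact hscale s hC
    push Not at hdep
    obtain ⟨w, hw, hwd, hwv⟩ := dual Δ j ((D j).sub_mem hv' hv) hv fun c e => by
      by_cases hc : c = 0
      · exact hv0 (by rw [← e, hc, zero_smul])
      · exact hdep (c⁻¹ + 1) (by
          rw [add_smul, one_smul]
          nth_rw 1 [← e]
          rw [smul_smul, inv_mul_cancel₀ hc, one_smul, sub_add_cancel])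
    obtain ⟨y, hy, hyx⟩ := base_off S j ((D j).sub_mem hv' hv) hw (symm_zero Δ hwd) ε
    have hyv : (y : Matrix ι ι F) *ᵥ v = v' := by
      rw [hyx, off, Δ.herm v w, hwv, map_one, mul_one, Δ.eps, Δ.ts j v hv _ ((D j).sub_mem hv' hv), mul_zero,
        zero_smul, add_zero, one_smul, add_sub_cancel]
    exact fun l hl => hyv ▸ In.conj_tq S (hC l hl) hy
  have hD : ∀ (j : Fin 2), ∀ v' ∈ D j, C v' := by
    intro j
    rcases eq_or_eq_o j₀ j with rfl | rfl
    · exact hmember _ v₀ hv₀ hv₀0 hC₀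
    obtain ⟨γ, hγ, hγD⟩ := S.sw
    exact hmember _ _ (hγD j₀ v₀ hv₀) (fun e => hv₀0 (gl_mulVec_injective γ (e.trans (Matrix.mulVec_zero _).symm)))
      fun l hl => In.conj_tq S (hC₀ l hl) hγ
  -- linked components
  have hlinked : ∀ a b : ι → F, a ∈ D 0 → b ∈ D 1 → f (a + b) (a + b) = 0 → f a b ≠ 0 → C (a + b) := by
    intro a b ha hb hiso hne
    rw [Δ.hs.add_left, Δ.hs.add_right, Δ.hs.add_right, Δ.ts 0 a ha a ha, Δ.ts 1 b hb b hb, Δ.herm b a] at hiso
    have hσne : σ (f a b) ≠ 0 := by simpa using hne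
    obtain ⟨t, ht, htx⟩ := hD 1 b hb (1 / f a b) (by
      rw [map_div₀, map_one]
      field_simp
      linear_combination ε * hiso - σ (f a b) * Δ.eps)
    have e : (t : Matrix ι ι F) *ᵥ a = a + b := by
      rw [htx, tq, div_mul_cancel₀ _ hne, one_smul]
    exact fun l hl => e ▸ In.conj_tq S (hD 0 a ha l hl) ht
  obtain ⟨a, ha, b, hb, rfl⟩ := Δ.dec v
  by_cases hne : f a b = 0
  swap
  · exact hlinked a b ha hb hvv hne l hl
  by_cases hb0 : b = 0
  · rw [hb0, add_zero]; exact hD 0 a ha l hl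
  by_cases ha0 : a = 0
  · rw [ha0, zero_add]; exact hD 1 b hb l hl
  obtain ⟨z, hz, hzb⟩ := dual_one Δ 1 hb hb0
  obtain ⟨l₀, hl₀0, hl₀⟩ := S.skew
  obtain ⟨t, ht, htx⟩ := hD 0 z hz l₀ hl₀
  obtain ⟨κ, hκ⟩ : ∃ κ, κ = l₀ * f b z := ⟨_, rfl⟩
  have hbz : f b z = ε := by rw [Δ.herm, hzb, map_one, mul_one]
  have e : (t : Matrix ι ι F) *ᵥ (a + b) = (a + κ • z) + b := by
    rw [htx, tq, Δ.hs.add_left, Δ.ts 0 a ha z hz, zero_add, ← hκ]; abel
  have hiso : f ((a + κ • z) + b) ((a + κ • z) + b) = 0 := by rw [← e, S.iso t ht, hvv]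
  have hC := hlinked (a + κ • z) b ((D 0).add_mem ha ((D 0).smul_mem _ hz)) hb hiso (by
    rw [Δ.hs.add_left, Δ.hs.smul_left, hne, hzb, zero_add, mul_one, hκ, hbz]
    exact mul_ne_zero hl₀0 (eps_ne Δ))
  have h := In.conj_tq S (hC l hl) (inv_mem ht)
  rwa [← e, gl_inv_mulVec_cancel] at h

/-- Every transvection. -/
theorem full (h3 : ∀ i, 2 < Module.finrank F (D i)) {g : GL ι F} (hg : g ∈ K)
    (hgn : ∀ i j, ¬((∀ x ∈ D i, (g : Matrix ι ι F) *ᵥ x ∈ D j) ∧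
      ∀ x ∈ D (o i), (g : Matrix ι ι F) *ᵥ x ∈ D (o j)))
    {v : ι → F} (hvv : f v v = 0) {l : F} (hl : l + ε * σ l = 0) : In K (tq f v l) := by
  obtain ⟨j₀, v₀, hv₀, hv₀0, hC₀⟩ := center_of_moving S h3 hg hgn
  exact full_of_center S hv₀ hv₀0 hC₀ hvv hl

end Cfsg.Agent.Classical.TSPair
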