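/-
The stabilisers of two complementary totally isotropic subspaces are maximal in symplectic and unitary groups.
-/
import Cfsg.Agent.Lib.Classical.TSPairFull
import Cfsg.Agent.Lib.Classical.UnitaryOvergroup
import Cfsg.Agent.Lib.Classical.UMaximalInSL
import Cfsg.Agent.Lib.Classical.SpOvergroup
import Cfsg.Agent.Lib.Classical.FormSpMaximal

set_option autoImplicit false
set_option linter.unusedSectionVars false
set_option linter.style.haveILetI false

namespace Cfsg.Agent.Classical.TSPair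

open Matrix Cfsg.Geo
open Cfsg.Agent.Classical

universe u

variable {ι : Type} [Fintype ι] [DecidableEq ι] {F : Type u} [Field F] {σ : F ≃+* F} {ε : F}
  {f : (ι → F) → (ι → F) → F} {D : Fin 2 → Submodule F (ι → F)}

theorem dec_of {k : ℕ} (hD : IsMDecomposition k D) (x : ι → F) : ∃ a ∈ D 0, ∃ b ∈ D 1, x = a + b := by
  have h : x ∈ D 0 ⊔ D 1 := by
    have hle : iSup D ≤ D 0 ⊔ D 1 := iSup_le fun i => by fin_cases i <;> simp
    exact hle (hD.iSup_eq_top ▸ Submodule.mem_top)
  obtain ⟨a, ha, b, hb, e⟩ := Submodule.mem_sup.mp h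
  exact ⟨a, ha, b, hb, e.symm⟩

theorem stab_of {k : ℕ} (hD : IsMDecomposition k D) {g : GL ι F} {i j : Fin 2}
    (h1 : ∀ x ∈ D i, (g : Matrix ι ι F) *ᵥ x ∈ D j) (h2 : ∀ x ∈ D (o i), (g : Matrix ι ι F) *ᵥ x ∈ D (o j)) :
    g ∈ decompositionStabilizer D := by
  have hmap : ∀ a b, (∀ x ∈ D a, (g : Matrix ι ι F) *ᵥ x ∈ D b) →
      (D a).map (Matrix.toLin' (g : Matrix ι ι F)) = D b := fun a b h => by
    refine Submodule.eq_of_le_of_finrank_eq (fun y hy => ?_) ?_
    · obtain ⟨x, hx, rfl⟩ := Submodule.mem_map.mp hy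
      rw [Matrix.toLin'_apply]
      exact h x hx
    · rw [← LinearEquiv.finrank_eq (Submodule.equivMapOfInjective (Matrix.toLin' (g : Matrix ι ι F))
        (fun x y e => gl_mulVec_injective g (by simpa [Matrix.toLin'_apply] using e)) (D a)), hD.finrank_eq, hD.finrank_eq]
  refine ⟨if i = j then 1 else Equiv.swap 0 1, fun a => ?_⟩
  rcases eq_or_eq_o i a with rfl | rfl
  · rw [hmap _ j h1]
    fin_cases a <;> fin_cases j <;> simp
  · rw [hmap _ _ h2]
    fin_cases i <;> fin_cases j <;> simp [o]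

/-- A transvection with centre in a member moves the pair. -/
theorem not_stab (Δ : Data σ ε f D) {v : ι → F} (hv : v ∈ D 0) (hv0 : v ≠ 0) {l : F} (hl : l ≠ 0) {t : GL ι F}
    (ht : ∀ x, (t : Matrix ι ι F) *ᵥ x = x + (l * f x v) • v) : t ∉ decompositionStabilizer D := by
  rintro ⟨π, hπ⟩
  obtain ⟨w, hw, hwv⟩ := dual_one Δ 0 hv hv0
  have h : (t : Matrix ι ι F) *ᵥ w ∈ D (π (o 0)) := by
    rw [← hπ]
    exact Submodule.mem_map.mpr ⟨w, hw, Matrix.toLin'_apply _ _⟩
  rw [ht, hwv, mul_one] at h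
  rcases eq_or_eq_o 0 (π (o 0)) with e | e <;> rw [e] at h
  · have hw0 := inter_zero Δ 0 ((Submodule.add_mem_iff_left _ (Submodule.smul_mem _ l hv)).mp h) hw
    rw [hw0, f_zero_left Δ] at hwv
    exact zero_ne_one hwv
  · have := inter_zero Δ 0 (Submodule.smul_mem _ l hv) ((Submodule.add_mem_iff_right _ hw).mp h)
    exact smul_ne_zero hl hv0 this

theorem mem_of_maps {k : ℕ} (hD : IsMDecomposition k D) {g : GL ι F}
    (h : ∀ i, ∀ x ∈ D i, (g : Matrix ι ι F) *ᵥ x ∈ D i) : g ∈ decompositionStabilizer D :=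
  stab_of hD (i := 0) (j := 0) (h 0) (h (o 0))

theorem sp_isMaximal [Fintype F] {m : ℕ} (hm : 3 ≤ m) (hodd : Odd (Fintype.card F))
    (D : Fin 2 → Submodule F (Fin m ⊕ Fin m → F)) (hD : IsMDecomposition m D)
    (hts : ∀ i, IsTotallySingularFor (sympForm m F) (D i)) :
    IsMaximalIn (spGL m F) (decompositionStabilizer D ⊓ spGL m F) := by
  classical
  have hfs := sympForm_isSymplectic (m := m) (F := F)
  have h2 : (2 : F) ≠ 0 := by
    intro h
    haveI : CharP F 2 := CharTwo.of_one_ne_zero_of_two_eq_zero one_ne_zero h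
    have := FiniteField.even_card_of_char_two (F := F) (ringChar.eq F 2)
    obtain ⟨t, ht⟩ := hodd
    omega
  have Δ : Data (RingEquiv.refl F) (-1) (sympForm m F) D :=
    { hs := semiForm_of_bilinear hfs.bilinear
      herm := fun v w => by simpa using hfs.skew v w
      eps := by ring
      eps_fix := rfl
      invol := fun _ => rfl
      nd := fun v h => by
        by_contra hv
        obtain ⟨⟨x, hx⟩, -⟩ := hfs.nondegenerate v hv
        exact hx (h x)
      ts := hts
      dec := dec_of hD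
      dim := ⟨m, by omega, hD.finrank_eq⟩ }
  refine ⟨lt_of_le_of_ne inf_le_right fun e => ?_, fun K hK hKS => or_iff_not_imp_left.mpr fun hne =>
    le_antisymm hKS ?_⟩
  · obtain ⟨v, hv, hv0, -⟩ := exists_in Δ 0 (m := 0) (by omega) Fin.elim0
    obtain ⟨t, hts, ht⟩ := exists_sp_transvection v (1 : F)
    exact not_stab Δ hv hv0 one_ne_zero ht (inf_eq_right.mp e hts)
  obtain ⟨γ, hγ, hγD⟩ := exists_swap Δ
  have S : Setup (RingEquiv.refl F) (-1) (sympForm m F) D K :=
    { data := Δ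
      split := fun l _ => ⟨l / 2, by simp; field_simp; ring⟩
      skew := ⟨1, one_ne_zero, by simp⟩
      iso := fun g hg => hKS hg
      base := fun g h1 _ h3 => hK ⟨mem_of_maps hD h3, h1⟩
      sw := ⟨γ, hK ⟨stab_of hD (i := 0) (j := o 0) (hγD 0) (fun x hx => hγD (o 0) x hx), hγ⟩, hγD⟩ }
  obtain ⟨g, hg, hgn⟩ : ∃ g ∈ K, g ∉ decompositionStabilizer D := by
    by_contra hcon
    push Not at hcon
    exact hne (le_antisymm (le_inf hcon hKS) hK)
  refine SpOver.spGL_le fun v c t ht => ?_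
  obtain ⟨y, hy, hyx⟩ := full S (fun i => by rw [hD.finrank_eq]; omega) hg (fun i j h => hgn (stab_of hD h.1 h.2)) (hfs.alternating v) (l := c) (by simp)
  rw [show t = y from gl_ext_mulVec fun x => by rw [ht, hyx, tq]]
  exact hy

theorem unitary_isMaximal [Fintype F] {n q : ℕ} {σ : F ≃+* F} (hσ : IsUSigma q σ) {k : ℕ} (hk : 3 ≤ k) (hn : 4 ≤ n)
    (D : Fin 2 → Submodule F (Fin n → F)) (hD : IsMDecomposition k D)
    (hts : ∀ i, IsTotallySingularFor (hermForm n F q) (D i)) :
    IsMaximalIn (suGL n F q) (decompositionStabilizer D ⊓ suGL n F q) := by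
  classical
  have hh := hσ.isUnitaryForm (n := n)
  have Δ : Data σ 1 (hermForm n F q) D :=
    { hs := semiForm_of_unitary hh
      herm := fun v w => by rw [one_mul]; exact hh.herm v w
      eps := one_mul 1
      eps_fix := map_one σ
      invol := hh.involutive
      nd := fun v h => by
        by_contra hv
        obtain ⟨⟨x, hx⟩, -⟩ := hh.nondegenerate v hv
        exact hx (h x)
      ts := hts
      dec := dec_of hD
      dim := ⟨k, by omega, hD.finrank_eq⟩ }
  obtain ⟨θ, hθ⟩ : ∃ θ, σ θ ≠ θ := by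
    by_contra hcon
    push Not at hcon
    exact hh.ne_refl (RingEquiv.ext hcon)
  have hl0 : θ - σ θ ≠ 0 := sub_ne_zero.mpr (Ne.symm hθ)
  have hl : θ - σ θ + σ (θ - σ θ) = 0 := by rw [map_sub, hh.involutive]; ring
  refine ⟨lt_of_le_of_ne inf_le_right fun e => ?_, fun K hK hKS => or_iff_not_imp_left.mpr fun hne =>
    le_antisymm hKS ?_⟩
  · obtain ⟨v, hv, hv0, -⟩ := exists_in Δ 0 (m := 0) (by omega) Fin.elim0
    obtain ⟨t, hts', ht⟩ := hσ.exists_transvection (Δ.ts 0 v hv v hv) hl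
    exact not_stab Δ hv hv0 hl0 ht (inf_eq_right.mp e hts')
  -- a swap of determinant one
  obtain ⟨γ, hγ, hγD⟩ := exists_swap Δ
  obtain ⟨δ, hδ⟩ : ∃ δ, δ = (γ : Matrix (Fin n) (Fin n) F).det := ⟨_, rfl⟩
  have hδ0 : δ ≠ 0 := hδ ▸ ((Matrix.isUnit_iff_isUnit_det _).mp γ.isUnit).ne_zero
  have hN : δ * σ δ = 1 := by
    have e := congrArg Matrix.det (gram_comp σ Δ.hs (γ : Matrix (Fin n) (Fin n) F))
    rw [show (fun x y => hermForm n F q ((γ : Matrix (Fin n) (Fin n) F) *ᵥ x) ((γ : Matrix (Fin n) (Fin n) F) *ᵥ y)) =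
      hermForm n F q from funext fun x => funext (hγ x), Matrix.det_mul, Matrix.det_mul, Matrix.det_transpose,
      show ((γ : Matrix (Fin n) (Fin n) F).map σ).det = σ (γ : Matrix (Fin n) (Fin n) F).det from
        (σ.toRingHom.map_det _).symm, ← hδ] at e
    exact mul_left_cancel₀ (UMaxSL.gram_unit hh).ne_zero (by rw [mul_one]; linear_combination -e)
  obtain ⟨α, hα0, hα⟩ : ∃ α, α ≠ 0 ∧ σ α = δ * α := by
    have hcand : ∀ z, σ (z + σ δ * σ z) = δ * (z + σ δ * σ z) := fun z => by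
      rw [map_add, map_mul, hh.involutive, hh.involutive]
      linear_combination (-(σ z)) * hN
    by_cases h1 : (1 : F) + σ δ * σ 1 = 0
    · refine ⟨θ + σ δ * σ θ, fun h0 => hθ ?_, hcand θ⟩
      rw [map_one, mul_one] at h1
      rw [show σ δ = -1 by linear_combination h1] at h0
      linear_combination -h0
    · exact ⟨1 + σ δ * σ 1, h1, hcand 1⟩
  obtain ⟨h, hh1, hhD, hhd⟩ := exists_scale Δ hα0
  have hd1 : ((h * γ : GL (Fin n) F) : Matrix (Fin n) (Fin n) F).det = 1 := by
    rw [Units.val_mul, Matrix.det_mul, hhd, hα, ← hδ]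
    field_simp
  have hswD : ∀ i, ∀ x ∈ D i, ((h * γ : GL (Fin n) F) : Matrix (Fin n) (Fin n) F) *ᵥ x ∈ D (o i) := fun i x hx => by
    rw [gl_mul_mulVec]; exact hhD _ _ (hγD i x hx)
  have S : Setup σ 1 (hermForm n F q) D K :=
    { data := Δ
      split := fun l hl' => by
        refine ⟨θ * l / (θ - σ θ), ?_⟩
        rw [one_mul] at hl'
        rw [one_mul, map_div₀, map_sub, map_mul, hh.involutive, show σ l = -l by linear_combination hl',
          show σ θ - θ = -(θ - σ θ) by ring]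
        field_simp
      skew := ⟨θ - σ θ, hl0, by rw [one_mul]; exact hl⟩
      iso := fun g hg => mem_GU_iff.mp (hKS hg).1
      base := fun g h1 h2 h3 => hK ⟨mem_of_maps hD h3, mem_GU_iff.mpr h1, mem_specialLinear_iff.mpr h2⟩
      sw := ⟨h * γ, hK ⟨stab_of hD (i := 0) (j := o 0) (hswD 0) (fun x hx => hswD (o 0) x hx),
        mem_GU_iff.mpr (fun x y => by rw [gl_mul_mulVec, gl_mul_mulVec, hh1, hγ]), mem_specialLinear_iff.mpr hd1⟩, hswD⟩ }
  obtain ⟨g, hg, hgn⟩ : ∃ g ∈ K, g ∉ decompositionStabilizer D := by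
    by_contra hcon
    push Not at hcon
    exact hne (le_antisymm (le_inf hcon hKS) hK)
  refine UOver.suGL_le hσ hn fun v c hv hc t ht => ?_
  obtain ⟨y, hy, hyx⟩ := full S (fun i => by rw [hD.finrank_eq]; omega) hg (fun i j h => hgn (stab_of hD h.1 h.2)) hv (l := c) (by rw [one_mul]; exact hc)
  rw [show t = y from gl_ext_mulVec fun x => by rw [ht, hyx, tq]]
  exact hy

end Cfsg.Agent.Classical.TSPair
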