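/-
The stabiliser in Ω⁺ of two complementary totally singular subspaces of even dimension is maximal.
-/
import Cfsg.Agent.Lib.Classical.RadicalQuadSplit
import Cfsg.Agent.Lib.Classical.TSPairMaximal
import Cfsg.Agent.Lib.Small.Orth.Words

set_option autoImplicit false
set_option linter.unusedSectionVars false

namespace Cfsg.Agent.Classical.OTSPair

open Matrix Module QuadraticMap Cfsg.Geo OCount
open Cfsg.Agent.Classical
open Cfsg.Agent.Classical.TSPair (o o_o o_ne eq_or_eq_o)

variable {ι : Type} [Fintype ι] [DecidableEq ι] {F : Type*} [Field F] [Fintype F] {Q : QuadraticForm F (ι → F)}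
  {D : Fin 2 → Submodule F (ι → F)} {k : ℕ}

/-- The form with the two subspaces. -/
structure PairData (Q : QuadraticForm F (ι → F)) (k : ℕ) (D : Fin 2 → Submodule F (ι → F)) : Prop where
  pnd : PND Q
  decomp : IsMDecomposition k D
  ts : ∀ i, ∀ u ∈ D i, Q u = 0
  big : 6 ≤ k
  card : Fintype.card ι = 2 * k

/-- The root map of two vectors. -/
def rt (Q : QuadraticForm F (ι → F)) (p q x : ι → F) : ι → F := x + polar Q p x • q - polar Q q x • p

/-- The root element of the two vectors lies in the group. -/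
def In2 (Q : QuadraticForm F (ι → F)) (K : Subgroup (GL ι F)) (p q : ι → F) : Prop :=
  ∃ h ∈ K, ∀ x, (h : Matrix ι ι F) *ᵥ x = rt Q p q x

variable (Δ : PairData Q k D)

include Δ

theorem orth {i : Fin 2} {a b : ι → F} (ha : a ∈ D i) (hb : b ∈ D i) : polar Q a b = 0 := by
  rw [polar, Δ.ts i _ (add_mem ha hb), Δ.ts i a ha, Δ.ts i b hb, sub_zero, sub_zero]

theorem dec (i : Fin 2) (x : ι → F) : ∃ a ∈ D i, ∃ b ∈ D (o i), x = a + b := by
  obtain ⟨a, ha, b, hb, e⟩ := TSPair.dec_of Δ.decomp x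
  fin_cases i
  · exact ⟨a, ha, b, hb, e⟩
  · exact ⟨b, hb, a, ha, e.trans (add_comm _ _)⟩

theorem inter_zero {i : Fin 2} {x : ι → F} (h : x ∈ D i) (h' : x ∈ D (o i)) : x = 0 :=
  Submodule.disjoint_def.mp (Δ.decomp.indep.pairwiseDisjoint (o_ne i).symm) x h h'

/-- Each member is its own perpendicular. -/
theorem mem_of_perp {i : Fin 2} {z : ι → F} (h : ∀ x ∈ D i, polar Q x z = 0) : z ∈ D i := by
  obtain ⟨a, ha, b, hb, rfl⟩ := dec Δ i z
  suffices b = 0 by rw [this, add_zero]; exact ha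
  refine Δ.pnd b fun x => ?_
  obtain ⟨a', ha', b', hb', rfl⟩ := dec Δ i x
  have h1 := h a' ha'
  rw [polar_add_right, orth Δ ha' ha, zero_add] at h1
  rw [polar_add_right, orth Δ hb hb', polar_comm, h1, add_zero]

/-- A vector of the other member separating a vector from a subspace. -/
theorem sep {i : Fin 2} {S : Submodule F (ι → F)} (hS : S ≤ D i) {b : ι → F} (hb : b ∈ D i) (hbS : b ∉ S) :
    ∃ z ∈ D (o i), (∀ s ∈ S, polar Q s z = 0) ∧ polar Q b z = 1 := by
  have hf := Radical.reflex_polar Δ.pnd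
  obtain ⟨z, hz, hz0⟩ : ∃ z ∈ D (o i) ⊓ hf.perp S, polar Q b z ≠ 0 := by
    by_contra hcon
    push Not at hcon
    -- compare the annihilators
    have h1 : D (o i) ⊓ hf.perp S ≤ hf.perp (S ⊔ Submodule.span F {b}) := by
      rintro z ⟨hz, hzS⟩ w hw
      obtain ⟨s, hs, v, hv, rfl⟩ := Submodule.mem_sup.mp hw
      obtain ⟨r, rfl⟩ := Submodule.mem_span_singleton.mp hv
      rw [polar_add_right, polar_smul_right, hzS s hs, polar_comm Q z b, hcon z ⟨hz, hzS⟩, smul_zero, add_zero]
    have h2 : D (o i) ⊓ hf.perp (S ⊔ Submodule.span F {b}) = D (o i) ⊓ hf.perp S :=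
      le_antisymm (inf_le_inf_left _ fun z hz w hw => hz w (Submodule.mem_sup_left hw))
        (le_inf inf_le_left h1)
    refine hbS ?_
    have hperp : ∀ T : Submodule F (ι → F), T ≤ D i →
        finrank F T + finrank F ↥(D (o i) ⊓ hf.perp T) = k := by
      intro T hT
      have hTi : D i ≤ hf.perp T := fun x hx w hw => orth Δ hx (hT hw)
      have e1 := Submodule.finrank_sup_add_finrank_inf_eq (D (o i)) (hf.perp T)
      have e2 : D (o i) ⊔ hf.perp T = ⊤ := by
        refine eq_top_iff.mpr fun x _ => ?_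
        obtain ⟨a, ha, b, hb, rfl⟩ := dec Δ i x
        exact add_mem (Submodule.mem_sup_right (hTi ha)) (Submodule.mem_sup_left hb)
      have e3 := hf.finrank_perp T
      rw [e2, finrank_top, Module.finrank_fintype_fun_eq_card, Δ.decomp.finrank_eq] at e1
      rw [Δ.card] at e1 e3
      omega
    have e1 := hperp S hS
    have hSb : S ⊔ Submodule.span F {b} ≤ D i := sup_le hS ((Submodule.span_singleton_le_iff_mem _ _).mpr hb)
    have e2 := hperp _ hSb
    rw [h2] at e2
    have e3 : S = S ⊔ Submodule.span F {b} := Submodule.eq_of_le_of_finrank_eq le_sup_left (by omega)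
    rw [e3]
    exact Submodule.mem_sup_right (Submodule.mem_span_singleton_self b)
  refine ⟨(polar Q b z)⁻¹ • z, (D _).smul_mem _ hz.1, fun s hs => ?_, ?_⟩
  · rw [polar_smul_right, polar_comm Q s z, hz.2 s hs, smul_zero]
  · rw [polar_smul_right, smul_eq_mul, inv_mul_cancel₀ hz0]

/-- A root element of a mixed line lies in the stabiliser. -/
theorem base {i : Fin 2} {b z : ι → F} (hb : b ∈ D i) (hz : z ∈ D (o i)) (hbz : polar Q b z = 0) :
    In2 Q (decompositionStabilizer D ⊓ omegaGL ⇑Q) b z := by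
  obtain ⟨g, hg, hgx⟩ := ONotMax.exists_siegel Δ.pnd (by rw [Δ.card]; have := Δ.big; omega) (Δ.ts i b hb) hbz
  have hx : ∀ x, (g : Matrix ι ι F) *ᵥ x = rt Q b z x := fun x => by
    rw [hgx, Δ.ts _ z hz, zero_mul, add_zero]; rfl
  refine ⟨g, ⟨TSPair.mem_of_maps Δ.decomp fun j x hxj => ?_, hg⟩, hx⟩
  rw [hx, rt]
  rcases eq_or_eq_o i j with rfl | rfl
  · rw [orth Δ hb hxj, zero_smul, add_zero]
    exact sub_mem hxj ((D _).smul_mem _ hb)
  · rw [orth Δ hz hxj, zero_smul, sub_zero]
    exact add_mem hxj ((D _).smul_mem _ hz)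

variable {K : Subgroup (GL ι F)} (hK : decompositionStabilizer D ⊓ omegaGL ⇑Q ≤ K) (hKΩ : K ≤ omegaGL ⇑Q)

include hK hKΩ

theorem baseK {i : Fin 2} {b z : ι → F} (hb : b ∈ D i) (hz : z ∈ D (o i)) (hbz : polar Q b z = 0) :
    In2 Q K b z := by
  obtain ⟨h, hh, hx⟩ := base Δ hb hz hbz
  exact ⟨h, hK hh, hx⟩

theorem conj {p q : ι → F} (h : In2 Q K p q) {g : GL ι F} (hg : g ∈ K) :
    In2 Q K ((g : Matrix ι ι F) *ᵥ p) ((g : Matrix ι ι F) *ᵥ q) := by
  obtain ⟨h, hh, hx⟩ := h
  refine ⟨g * h * g⁻¹, mul_mem (mul_mem hg hh) (inv_mem hg), fun x => ?_⟩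
  obtain ⟨y, rfl⟩ : ∃ y, x = (g : Matrix ι ι F) *ᵥ y := ⟨_, (gl_mulVec_inv_cancel g x).symm⟩
  rw [gl_mul_mulVec, gl_mul_mulVec, gl_inv_mulVec_cancel, hx, rt, rt, Radical.omega_polar (hKΩ hg),
    Radical.omega_polar (hKΩ hg), Matrix.mulVec_sub, Matrix.mulVec_add, Matrix.mulVec_smul, Matrix.mulVec_smul]

theorem symm {p q : ι → F} (hp : Q p = 0) (hq : Q q = 0) (hpq : polar Q p q = 0) (h : In2 Q K p q) :
    In2 Q K q p := by
  obtain ⟨h, hh, hx⟩ := h
  refine ⟨h⁻¹, inv_mem hh, fun x => gl_mulVec_injective h ?_⟩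
  have hqp : polar Q q p = 0 := by rw [polar_comm]; exact hpq
  show (h : Matrix ι ι F) *ᵥ (((h⁻¹ : GL ι F) : Matrix ι ι F) *ᵥ x) = (h : Matrix ι ι F) *ᵥ rt Q q p x
  rw [gl_mulVec_inv_cancel, hx]
  simp only [rt, polar_add_right, polar_sub_right, polar_smul_right, polar_self_zero hp, polar_self_zero hq, hpq,
    hqp, smul_zero, add_zero, sub_zero]
  module

/-- The commutator of two root elements. -/
theorem comm {p q r s : ι → F} (hp : Q p = 0) (hr : Q r = 0) (hs : Q s = 0) (hpr : polar Q p r = 0)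
    (hps : polar Q p s = 0) (hqs : polar Q q s = 0) (hrs : polar Q r s = 0) (h₁ : In2 Q K p q)
    (h₂ : In2 Q K r s) : In2 Q K (-(polar Q q r) • p) s := by
  obtain ⟨h, hh, hx⟩ := h₁
  obtain ⟨a, ha, hax⟩ := conj Δ hK hKΩ h₂ hh
  obtain ⟨b, hb, hbx⟩ := symm Δ hK hKΩ hr hs hrs h₂
  refine ⟨a * b, mul_mem ha hb, fun x => ?_⟩
  have e1 : (h : Matrix ι ι F) *ᵥ r = r - polar Q q r • p := by rw [hx, rt, hpr, zero_smul, add_zero]
  have e2 : (h : Matrix ι ι F) *ᵥ s = s := by rw [hx, rt, hps, hqs, zero_smul, zero_smul, add_zero, sub_zero]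
  have hsp : polar Q s p = 0 := by rw [polar_comm]; exact hps
  have hsr : polar Q s r = 0 := by rw [polar_comm]; exact hrs
  rw [gl_mul_mulVec, hbx, hax, e1, e2]
  simp only [rt, polar_add_right, polar_sub_right, polar_smul_right, polar_sub_left, polar_smul_left,
    polar_self_zero hr, polar_self_zero hs, hpr, hrs, hps, hsp, hsr, smul_zero, add_zero, sub_zero, zero_smul,
    smul_eq_mul, mul_zero, neg_mul]
  module

omit hK hKΩ

/-- Some root element of a line inside a member lies in the group. -/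
def Done (Q : QuadraticForm F (ι → F)) (K : Subgroup (GL ι F)) (D : Fin 2 → Submodule F (ι → F)) : Prop :=
  ∃ (j : Fin 2) (a b : ι → F), a ∈ D j ∧ b ∈ D j ∧ a ≠ 0 ∧ b ∉ Submodule.span F {a} ∧ In2 Q K a b

include hK hKΩ

/-- A line meeting a member in one point and not meeting the other. -/
theorem done_of_point {j : Fin 2} {p q₀ q₁ : ι → F} (hp : p ∈ D j) (hp0 : p ≠ 0) (hq₀ : q₀ ∈ D j)
    (hq₁ : q₁ ∈ D (o j)) (hq : q₀ ∉ Submodule.span F {p}) (h : In2 Q K p (q₀ + q₁)) : Done Q K D := by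
  obtain ⟨r, hr, hpr, hqr⟩ := sep Δ ((Submodule.span_singleton_le_iff_mem _ _).mpr hp) hq₀ hq
  have hf := Radical.reflex_polar Δ.pnd
  obtain ⟨s, hs, hsp⟩ : ∃ s ∈ D j ⊓ hf.perp (Submodule.span F {q₁, r}), s ∉ Submodule.span F {p} := by
    by_contra hcon
    push Not at hcon
    have h1 := Submodule.finrank_mono (show D j ⊓ hf.perp (Submodule.span F {q₁, r}) ≤ Submodule.span F {p} from hcon)
    rw [finrank_span_singleton hp0] at h1
    have h2 := Submodule.finrank_sup_add_finrank_inf_eq (D j) (hf.perp (Submodule.span F {q₁, r}))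
    have h3 := Submodule.finrank_le (D j ⊔ hf.perp (Submodule.span F {q₁, r}))
    have h4 := hf.finrank_perp (Submodule.span F {q₁, r})
    have h5 := Radical.finrank_span_pair_le (F := F) q₁ r
    rw [Module.finrank_fintype_fun_eq_card] at h3
    rw [Δ.card] at h3 h4
    rw [Δ.decomp.finrank_eq] at h2
    have := Δ.big
    omega
  have hrs : polar Q r s = 0 := by rw [polar_comm]; exact hs.2 r (Submodule.subset_span (by simp))
  have hc : polar Q (q₀ + q₁) r = 1 := by rw [polar_add_left, hqr, orth Δ hq₁ hr, add_zero]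
  have h2 := comm Δ hK hKΩ (Δ.ts j p hp) (Δ.ts _ r hr) (Δ.ts j s hs.1)
    (hpr p (Submodule.mem_span_singleton_self p)) (orth Δ hp hs.1)
    (by rw [polar_add_left, orth Δ hq₀ hs.1, zero_add, polar_comm]; exact hs.2 q₁ (Submodule.subset_span (by simp)))
    hrs h (symm Δ hK hKΩ (Δ.ts j s hs.1) (Δ.ts _ r hr) (by rw [polar_comm]; exact hrs)
      (baseK Δ hK hKΩ hs.1 hr (by rw [polar_comm]; exact hrs)))
  rw [hc, neg_one_smul] at h2
  refine ⟨j, -p, s, neg_mem hp, hs.1, neg_ne_zero.mpr hp0, fun e => hsp ?_, h2⟩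
  obtain ⟨c, rfl⟩ := Submodule.mem_span_singleton.mp e
  exact Submodule.mem_span_singleton.mpr ⟨-c, by rw [smul_neg, neg_smul]⟩

/-- The image of the perpendicular hyperplane. -/
theorem rule (hnd : ¬ Done Q K D) {g : GL ι F} (hg : g ∈ K) {i j : Fin 2} {a : ι → F} (ha : a ∈ D i)
    (hga : (g : Matrix ι ι F) *ᵥ a ∈ D j) (ha0 : a ≠ 0) {z : ι → F} (hz : z ∈ D (o i)) (haz : polar Q a z = 0) :
    (g : Matrix ι ι F) *ᵥ z ∈ Submodule.span F {(g : Matrix ι ι F) *ᵥ a} ⊔ D (o j) := by
  obtain ⟨q₀, hq₀, q₁, hq₁, hq⟩ := dec Δ j ((g : Matrix ι ι F) *ᵥ z)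
  by_cases h : q₀ ∈ Submodule.span F {(g : Matrix ι ι F) *ᵥ a}
  · exact hq ▸ add_mem (Submodule.mem_sup_left h) (Submodule.mem_sup_right hq₁)
  · exact absurd (done_of_point Δ hK hKΩ hga
      (fun e => ha0 (gl_mulVec_injective g (e.trans (Matrix.mulVec_zero _).symm))) hq₀ hq₁ h
      (hq ▸ conj Δ hK hKΩ (baseK Δ hK hKΩ ha hz haz) hg)) hnd

/-- An element moving a vector of a member into a member. -/
theorem done_of_meet {g : GL ι F} (hg : g ∈ K) (hgn : g ∉ decompositionStabilizer D) {i j : Fin 2} {a : ι → F}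
    (ha : a ∈ D i) (ha0 : a ≠ 0) (hga : (g : Matrix ι ι F) *ᵥ a ∈ D j) : Done Q K D := by
  by_contra hnd
  have hf := Radical.reflex_polar Δ.pnd
  let E : Fin 2 → Fin 2 → Submodule F (ι → F) := fun i j =>
    D i ⊓ (D j).comap (Matrix.toLin' (g : Matrix ι ι F))
  have memE : ∀ {i j x}, x ∈ E i j ↔ x ∈ D i ∧ (g : Matrix ι ι F) *ᵥ x ∈ D j := fun {i j x} => by
    simp [E, Submodule.mem_inf]
  have hinj : Function.Injective (Matrix.toLin' (g : Matrix ι ι F)) := fun x y e =>
    gl_mulVec_injective g (by simpa using e)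
  -- one point gives much of the other side
  have big : ∀ i j (a : ι → F), a ∈ E i j → a ≠ 0 → k ≤ finrank F (E (o i) (o j)) + 2 := by
    intro i j a ha ha0
    obtain ⟨Z, hZ⟩ : ∃ Z, Z = D (o i) ⊓ hf.perp (Submodule.span F {a}) := ⟨_, rfl⟩
    obtain ⟨M, hM⟩ : ∃ M, M = Z.map (Matrix.toLin' (g : Matrix ι ι F)) := ⟨_, rfl⟩
    have hMle : M ≤ Submodule.span F {(g : Matrix ι ι F) *ᵥ a} ⊔ D (o j) := by
      rw [hM]
      rintro _ ⟨z, hz, rfl⟩
      rw [hZ] at hz
      rw [Matrix.toLin'_apply]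
      exact rule Δ hK hKΩ hnd hg (memE.mp ha).1 (memE.mp ha).2 ha0 hz.1
        (by rw [polar_comm]; exact hz.2 a (Submodule.mem_span_singleton_self a))
    have h1 : finrank F M = finrank F Z := by
      rw [hM]; exact (Submodule.equivMapOfInjective _ hinj Z).finrank_eq.symm
    have h2 := Submodule.finrank_sup_add_finrank_inf_eq M (D (o j))
    have h3 := Submodule.finrank_mono (sup_le hMle le_sup_right : M ⊔ D (o j) ≤ _)
    have h4 := Submodule.finrank_add_le_finrank_add_finrank (Submodule.span F {(g : Matrix ι ι F) *ᵥ a}) (D (o j))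
    rw [finrank_span_singleton (fun e => ha0 (gl_mulVec_injective g (e.trans (Matrix.mulVec_zero _).symm)))] at h4
    have h5 : M ⊓ D (o j) ≤ (E (o i) (o j)).map (Matrix.toLin' (g : Matrix ι ι F)) := by
      rintro y ⟨hy, hy'⟩
      rw [hM] at hy
      obtain ⟨z, hz, rfl⟩ := hy
      rw [hZ] at hz
      exact ⟨z, memE.mpr ⟨hz.1, by simpa using hy'⟩, rfl⟩
    have h6 := Submodule.finrank_mono h5
    rw [← (Submodule.equivMapOfInjective _ hinj (E (o i) (o j))).finrank_eq] at h6
    have h7 := Submodule.finrank_sup_add_finrank_inf_eq (D (o i)) (hf.perp (Submodule.span F {a}))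
    have h8 := Submodule.finrank_le (D (o i) ⊔ hf.perp (Submodule.span F {a}))
    have h9 := hf.finrank_perp (Submodule.span F {a})
    rw [finrank_span_singleton ha0, Δ.card] at h9
    rw [Module.finrank_fintype_fun_eq_card, Δ.card] at h8
    rw [← hZ] at h7
    rw [Δ.decomp.finrank_eq] at h2 h4 h7
    omega
  -- three dimensions on one side give all of the other
  have all : ∀ i j, 3 ≤ finrank F (E i j) → ∀ z ∈ D (o i), (g : Matrix ι ι F) *ᵥ z ∈ D (o j) := by
    intro i j h3 z hz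
    obtain ⟨Y, hY⟩ : ∃ Y, Y = E i j ⊓ hf.perp (Submodule.span F {z}) := ⟨_, rfl⟩
    have hYd : 2 ≤ finrank F Y := by
      have h1 := Submodule.finrank_sup_add_finrank_inf_eq (E i j) (hf.perp (Submodule.span F {z}))
      have h2 := Submodule.finrank_le (E i j ⊔ hf.perp (Submodule.span F {z}))
      have h4 := hf.finrank_perp (Submodule.span F {z})
      have h5 : finrank F (Submodule.span F {z}) ≤ 1 := by
        by_cases hz0 : z = 0
        · rw [hz0, Submodule.span_zero_singleton, finrank_bot]; omega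
        · rw [finrank_span_singleton hz0]
      rw [Module.finrank_fintype_fun_eq_card] at h2
      rw [← hY] at h1
      omega
    obtain ⟨x, hx, hx0⟩ := Submodule.exists_mem_ne_zero_of_ne_bot (p := Y) fun e => by
      rw [e, finrank_bot] at hYd; omega
    obtain ⟨y, hy, hyx⟩ : ∃ y ∈ Y, y ∉ Submodule.span F {x} := by
      by_contra hcon
      push Not at hcon
      have := Submodule.finrank_mono (show Y ≤ Submodule.span F {x} from hcon)
      rw [finrank_span_singleton hx0] at this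
      omega
    have hyx0 : y ≠ 0 := fun e => hyx (e ▸ zero_mem _)
    rw [hY] at hx hy
    have hpolz : ∀ v ∈ hf.perp (Submodule.span F {z}), polar Q v z = 0 := fun v hv =>
      hv z (Submodule.mem_span_singleton_self z)
    obtain ⟨hxi, hxj⟩ := memE.mp hx.1
    obtain ⟨hyi, hyj⟩ := memE.mp hy.1
    have r1 := rule Δ hK hKΩ hnd hg hxi hxj hx0 hz (hpolz x hx.2)
    have r2 := rule Δ hK hKΩ hnd hg hyi hyj hyx0 hz (hpolz y hy.2)
    obtain ⟨s, hs, t, ht, e⟩ := Submodule.mem_sup.mp r1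
    obtain ⟨s', hs', t', ht', e'⟩ := Submodule.mem_sup.mp r2
    obtain ⟨c, rfl⟩ := Submodule.mem_span_singleton.mp hs
    obtain ⟨c', rfl⟩ := Submodule.mem_span_singleton.mp hs'
    have heq : c • ((g : Matrix ι ι F) *ᵥ x) - c' • ((g : Matrix ι ι F) *ᵥ y) = t' - t := by
      rw [sub_eq_sub_iff_add_eq_add, e, add_comm, e']
    have hzero := inter_zero Δ (i := j) (sub_mem ((D j).smul_mem c hxj) ((D j).smul_mem c' hyj))
      (heq ▸ sub_mem ht' ht)
    have hc : c = 0 := by
      by_contra hc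
      by_cases hc' : c' = 0
      · rw [hc', zero_smul, sub_zero, smul_eq_zero] at hzero
        exact hx0 (gl_mulVec_injective g ((hzero.resolve_left hc).trans (Matrix.mulVec_zero _).symm))
      · refine hyx (Submodule.mem_span_singleton.mpr ⟨c'⁻¹ * c, gl_mulVec_injective g ?_⟩)
        show (g : Matrix ι ι F) *ᵥ ((c'⁻¹ * c) • x) = (g : Matrix ι ι F) *ᵥ y
        rw [Matrix.mulVec_smul, mul_smul, sub_eq_zero.mp hzero, smul_smul, inv_mul_cancel₀ hc', one_smul]
    rw [← e, hc, zero_smul, zero_add]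
    exact ht
  have hk := Δ.big
  have haE : a ∈ E i j := memE.mpr ⟨ha, hga⟩
  have h1 := big i j a haE ha0
  obtain ⟨b, hb, hb0⟩ := Submodule.exists_mem_ne_zero_of_ne_bot (p := E (o i) (o j)) fun e => by
    rw [e, finrank_bot] at h1; omega
  have h2 := big _ _ b hb hb0
  rw [o_o, o_o] at h2
  have e1 := all i j (by omega)
  have e2 := all (o i) (o j) (by omega)
  rw [o_o, o_o] at e2
  exact hgn (TSPair.stab_of Δ.decomp e2 e1)

/-- A group above the stabiliser has a root element inside a member. -/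
theorem exists_done {g : GL ι F} (hg : g ∈ K) (hgn : g ∉ decompositionStabilizer D) : Done Q K D := by
  have hf := Radical.reflex_polar Δ.pnd
  by_contra hnd
  have hno : ∀ g' ∈ K, g' ∉ decompositionStabilizer D → ∀ i j, ∀ a ∈ D i, a ≠ 0 →
      (g' : Matrix ι ι F) *ᵥ a ∉ D j :=
    fun g' h1 h2 i j a ha ha0 h => hnd (done_of_meet Δ hK hKΩ h1 h2 ha ha0 h)
  obtain ⟨b, hb, hb0⟩ := Submodule.exists_mem_ne_zero_of_ne_bot (p := D 0) fun e => by
    have := Δ.decomp.finrank_eq 0
    rw [e, finrank_bot] at this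
    have := Δ.big
    omega
  obtain ⟨p, hp, p₁, hp₁, hgb⟩ := dec Δ 0 ((g : Matrix ι ι F) *ᵥ b)
  have hp0 : p ≠ 0 := fun e => hno g hg hgn 0 (o 0) b hb hb0 (by rw [hgb, e, zero_add]; exact hp₁)
  have hp₁0 : p₁ ≠ 0 := fun e => hno g hg hgn 0 0 b hb hb0 (by rw [hgb, e, add_zero]; exact hp)
  obtain ⟨Z, hZ⟩ : ∃ Z, Z = D (o 0) ⊓ hf.perp (Submodule.span F {b}) := ⟨_, rfl⟩
  have key : ∀ z ∈ Z, (g : Matrix ι ι F) *ᵥ z ∈ Submodule.span F {p, p₁} := by
    intro z hz
    rw [hZ] at hz
    by_cases hz0 : z = 0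
    · rw [hz0, Matrix.mulVec_zero]; exact zero_mem _
    have hbz : polar Q b z = 0 := by rw [polar_comm]; exact hz.2 b (Submodule.mem_span_singleton_self b)
    obtain ⟨h, hh, hx⟩ := conj Δ hK hKΩ (baseK Δ hK hKΩ hb hz.1 hbz) hg
    obtain ⟨P, hP⟩ : ∃ P, P = (g : Matrix ι ι F) *ᵥ b := ⟨_, rfl⟩
    obtain ⟨q, hq⟩ : ∃ q, q = (g : Matrix ι ι F) *ᵥ z := ⟨_, rfl⟩
    rw [← hP, ← hq] at hx
    rw [← hq]
    rw [← hP] at hgb
    -- a fixed vector in the first member
    obtain ⟨x, hx0, hxne⟩ := Submodule.exists_mem_ne_zero_of_ne_bot (p := D 0 ⊓ hf.perp (Submodule.span F {P, q}))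
      fun e => by
        have h2 := Submodule.finrank_sup_add_finrank_inf_eq (D 0) (hf.perp (Submodule.span F {P, q}))
        have h3 := Submodule.finrank_le (D 0 ⊔ hf.perp (Submodule.span F {P, q}))
        have h4 := hf.finrank_perp (Submodule.span F {P, q})
        have h5 := Radical.finrank_span_pair_le (F := F) P q
        rw [e, finrank_bot, Δ.decomp.finrank_eq] at h2
        rw [Module.finrank_fintype_fun_eq_card, Δ.card] at h3
        rw [Δ.card] at h4
        have := Δ.big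
        omega
    have hfix : (h : Matrix ι ι F) *ᵥ x = x := by
      rw [hx, rt, polar_comm Q P x, polar_comm Q q x, hx0.2 P (Submodule.subset_span (by simp)),
        hx0.2 q (Submodule.subset_span (by simp)), zero_smul, zero_smul, add_zero, sub_zero]
    by_cases hhs : h ∈ decompositionStabilizer D
    swap
    · exact absurd (show (h : Matrix ι ι F) *ᵥ x ∈ D 0 by rw [hfix]; exact hx0.1)
        (hno h hh hhs 0 0 x hx0.1 hxne)
    obtain ⟨σ, hσ⟩ := hhs
    have hσ0 : σ 0 = 0 := by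
      rcases eq_or_eq_o 0 (σ 0) with e | e
      · exact e
      · refine absurd (inter_zero Δ hx0.1 ?_) hxne
        rw [← e, ← hσ 0]
        exact ⟨x, hx0.1, by rw [Matrix.toLin'_apply, hfix]⟩
    have hstab : ∀ y ∈ D 0, polar Q P y • q - polar Q q y • P ∈ D 0 := by
      intro y hy
      have h1 : (h : Matrix ι ι F) *ᵥ y ∈ (D 0).map (Matrix.toLin' (h : Matrix ι ι F)) :=
        ⟨y, hy, Matrix.toLin'_apply _ _⟩
      rw [hσ 0, hσ0, hx, rt, add_sub_assoc] at h1
      exact ((D 0).add_mem_iff_right hy).mp h1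
    -- q is in the plane
    obtain ⟨q₀, hq₀, q₁, hq₁, hq'⟩ := dec Δ 0 q
    obtain ⟨y, hy, hyP⟩ : ∃ y ∈ D 0, polar Q P y ≠ 0 := by
      by_contra hcon
      push Not at hcon
      refine hp₁0 (inter_zero Δ (i := 0) ?_ hp₁)
      have : P ∈ D 0 := mem_of_perp Δ fun y hy => by rw [polar_comm]; exact hcon y hy
      rw [hgb] at this
      exact ((D 0).add_mem_iff_right hp).mp this
    have hsecond : polar Q P y • q₁ - polar Q q y • p₁ = 0 := by
      refine inter_zero Δ (i := 0) ?_ (sub_mem ((D _).smul_mem _ hq₁) ((D _).smul_mem _ hp₁))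
      have h1 := hstab y hy
      rw [show polar Q P y • q - polar Q q y • P = (polar Q P y • q₀ - polar Q q y • p) +
        (polar Q P y • q₁ - polar Q q y • p₁) by rw [hq', hgb]; module] at h1
      exact ((D 0).add_mem_iff_right (sub_mem ((D 0).smul_mem _ hq₀) ((D 0).smul_mem _ hp))).mp h1
    obtain ⟨y', hy', hyP'⟩ : ∃ y ∈ D (o 0), polar Q P y ≠ 0 := by
      by_contra hcon
      push Not at hcon
      refine hp0 (inter_zero Δ (i := 0) hp ?_)
      have : P ∈ D (o 0) := mem_of_perp Δ fun y hy => by rw [polar_comm]; exact hcon y hy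
      rw [hgb] at this
      exact ((D _).add_mem_iff_left hp₁).mp this
    have hfirst : polar Q P y' • q₀ - polar Q q y' • p = 0 := by
      have h1 : (h : Matrix ι ι F) *ᵥ y' ∈ (D (o 0)).map (Matrix.toLin' (h : Matrix ι ι F)) :=
        ⟨y', hy', Matrix.toLin'_apply _ _⟩
      have hσ1 : σ (o 0) = o 0 := by
        rcases eq_or_eq_o 0 (σ (o 0)) with e | e
        · exact absurd (σ.injective (e.trans hσ0.symm)) (o_ne 0)
        · exact e
      rw [hσ (o 0), hσ1, hx, rt, add_sub_assoc, Submodule.add_mem_iff_right _ hy',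
        show polar Q P y' • q - polar Q q y' • P = (polar Q P y' • q₁ - polar Q q y' • p₁) +
          (polar Q P y' • q₀ - polar Q q y' • p) by rw [hq', hgb]; module,
        Submodule.add_mem_iff_right _ (sub_mem ((D _).smul_mem _ hq₁) ((D _).smul_mem _ hp₁))] at h1
      exact inter_zero Δ (i := 0) (sub_mem ((D 0).smul_mem _ hq₀) ((D 0).smul_mem _ hp)) h1
    refine hq' ▸ Submodule.mem_span_pair.mpr ⟨(polar Q P y')⁻¹ * polar Q q y', (polar Q P y)⁻¹ * polar Q q y, ?_⟩
    rw [mul_smul, mul_smul, ← sub_eq_zero.mp hfirst, ← sub_eq_zero.mp hsecond, smul_smul, smul_smul,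
      inv_mul_cancel₀ hyP', inv_mul_cancel₀ hyP, one_smul, one_smul]
  have h1 := Submodule.finrank_mono (show Z.map (Matrix.toLin' (g : Matrix ι ι F)) ≤ Submodule.span F {p, p₁} by
    rintro _ ⟨z, hz, rfl⟩
    rw [Matrix.toLin'_apply]
    exact key z hz)
  rw [← (Submodule.equivMapOfInjective _ (fun x y e => gl_mulVec_injective g (by simpa using e)) Z).finrank_eq] at h1
  have h2 := Radical.finrank_span_pair_le (F := F) p p₁
  have h3 := Submodule.finrank_sup_add_finrank_inf_eq (D (o 0)) (hf.perp (Submodule.span F {b}))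
  have h4 := Submodule.finrank_le (D (o 0) ⊔ hf.perp (Submodule.span F {b}))
  have h5 := hf.finrank_perp (Submodule.span F {b})
  rw [finrank_span_singleton hb0, Δ.card] at h5
  rw [Module.finrank_fintype_fun_eq_card, Δ.card] at h4
  rw [← hZ, Δ.decomp.finrank_eq] at h3
  have := Δ.big
  omega

/-- A member's lines. -/
theorem all_in {j : Fin 2} {a b : ι → F} (ha : a ∈ D j) (hb : b ∈ D j) (ha0 : a ≠ 0)
    (hab : b ∉ Submodule.span F {a}) (h : In2 Q K a b) : ∀ u ∈ D j, ∀ w ∈ D j, In2 Q K u w := by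
  -- changing the second vector
  have step : ∀ a b b', a ∈ D j → b ∈ D j → b' ∈ D j → b' ∉ Submodule.span F {a, b} →
      b ∉ Submodule.span F {a} → In2 Q K a b → In2 Q K a b' := by
    intro a b b' ha hb hb' hind hab h
    obtain ⟨z, hz, hzS, hzb⟩ := sep Δ (S := Submodule.span F {a, b' - b}) (by
        rw [Submodule.span_le]; rintro x (rfl | rfl); exacts [ha, sub_mem hb' hb]) hb fun e => by
      obtain ⟨r, s, e⟩ := Submodule.mem_span_pair.mp e
      by_cases hs : s = 0
      · exact hab (Submodule.mem_span_singleton.mpr ⟨r, by rw [← e, hs, zero_smul, add_zero]⟩)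
      · have hb'e : b' = b + s⁻¹ • (b - r • a) := by
          rw [show b - r • a = s • (b' - b) by rw [sub_eq_iff_eq_add', e], smul_smul, inv_mul_cancel₀ hs, one_smul,
            add_sub_cancel]
        refine hind (Submodule.mem_span_pair.mpr ⟨-(s⁻¹ * r), 1 + s⁻¹, ?_⟩)
        rw [hb'e]
        module
    have hza := hzS a (Submodule.subset_span (by simp))
    have hzc := hzS _ (Submodule.subset_span (by simp : b' - b ∈ ({a, b' - b} : Set (ι → F))))
    obtain ⟨t, ht, htx⟩ := baseK Δ hK hKΩ (sub_mem hb' hb) hz hzc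
    have h2 := conj Δ hK hKΩ h (inv_mem ht)
    have ea : ((t⁻¹ : GL ι F) : Matrix ι ι F) *ᵥ a = a := gl_mulVec_injective t (by
      show (t : Matrix ι ι F) *ᵥ (((t⁻¹ : GL ι F) : Matrix ι ι F) *ᵥ a) = (t : Matrix ι ι F) *ᵥ a
      rw [gl_mulVec_inv_cancel, htx, rt, orth Δ (sub_mem hb' hb) ha, polar_comm Q z a, hza, zero_smul, zero_smul,
        add_zero, sub_zero])
    have eb : ((t⁻¹ : GL ι F) : Matrix ι ι F) *ᵥ b = b' := gl_mulVec_injective t (by
      show (t : Matrix ι ι F) *ᵥ (((t⁻¹ : GL ι F) : Matrix ι ι F) *ᵥ b) = (t : Matrix ι ι F) *ᵥ b'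
      have hzb' : polar Q z b' = 1 := by
        rw [show b' = (b' - b) + b by abel, polar_add_right, polar_comm Q z (b' - b), hzc, polar_comm Q z b, hzb,
          zero_add]
      rw [gl_mulVec_inv_cancel, htx, rt, orth Δ (sub_mem hb' hb) hb', hzb', zero_smul, one_smul]
      abel)
    rwa [ea, eb] at h2
  have second : ∀ a b, a ∈ D j → b ∈ D j → b ∉ Submodule.span F {a} → In2 Q K a b →
      ∀ b' ∈ D j, In2 Q K a b' := by
    intro a b ha hb hab h b' hb'
    by_cases hind : b' ∈ Submodule.span F {a, b}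
    swap
    · exact step a b b' ha hb hb' hind hab h
    by_cases hsp : b' ∈ Submodule.span F {a}
    · obtain ⟨c, rfl⟩ := Submodule.mem_span_singleton.mp hsp
      refine ⟨1, one_mem K, fun x => ?_⟩
      rw [rt, Units.val_one, Matrix.one_mulVec, polar_smul_left, smul_smul, smul_eq_mul, mul_comm]
      abel
    obtain ⟨m, hm, hmab⟩ : ∃ m ∈ D j, m ∉ Submodule.span F {a, b} := by
      by_contra hcon
      push Not at hcon
      have h1 := Submodule.finrank_mono (show D j ≤ Submodule.span F {a, b} from hcon)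
      have h2 := Radical.finrank_span_pair_le (F := F) a b
      rw [Δ.decomp.finrank_eq] at h1
      have := Δ.big
      omega
    have hm' : m ∉ Submodule.span F {a} := fun e => hmab (Submodule.span_mono (by simp) e)
    refine step a m b' ha hm hb' (fun e => ?_) hm' (step a b m ha hb hm hmab hab h)
    obtain ⟨r, s, e⟩ := Submodule.mem_span_pair.mp e
    by_cases hs : s = 0
    · exact hsp (Submodule.mem_span_singleton.mpr ⟨r, by rw [← e, hs, zero_smul, add_zero]⟩)
    · refine hmab ?_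
      rw [show m = s⁻¹ • (b' - r • a) by rw [← e, add_sub_cancel_left, smul_smul, inv_mul_cancel₀ hs, one_smul]]
      exact Submodule.smul_mem _ _ (sub_mem hind (Submodule.smul_mem _ _ (Submodule.subset_span (by simp))))
  intro u hu w hw
  have hts : ∀ {x y}, x ∈ D j → y ∈ D j → In2 Q K x y → In2 Q K y x := fun hx hy h =>
    symm Δ hK hKΩ (Δ.ts j _ hx) (Δ.ts j _ hy) (orth Δ hx hy) h
  by_cases hu0 : u = 0
  · exact ⟨1, one_mem K, fun x => by rw [rt, hu0, polar_zero_left, Units.val_one, Matrix.one_mulVec]; simp⟩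
  obtain ⟨m, hm, hma, hmu⟩ : ∃ m ∈ D j, m ∉ Submodule.span F {a} ∧ m ∉ Submodule.span F {u} := by
    obtain ⟨m, hm, hmau⟩ : ∃ m ∈ D j, m ∉ Submodule.span F {a, u} := by
      by_contra hcon
      push Not at hcon
      have h1 := Submodule.finrank_mono (show D j ≤ Submodule.span F {a, u} from hcon)
      have h2 := Radical.finrank_span_pair_le (F := F) a u
      rw [Δ.decomp.finrank_eq] at h1
      have := Δ.big
      omega
    exact ⟨m, hm, fun e => hmau (Submodule.span_mono (by simp) e), fun e => hmau (Submodule.span_mono (by simp) e)⟩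
  have hm0 : m ≠ 0 := fun e => hma (e ▸ zero_mem _)
  have h1 := second a b ha hb hab h m hm
  have ham : a ∉ Submodule.span F {m} := fun e => by
    obtain ⟨c, rfl⟩ := Submodule.mem_span_singleton.mp e
    refine hma (Submodule.mem_span_singleton.mpr ⟨c⁻¹, ?_⟩)
    rw [smul_smul, inv_mul_cancel₀ (fun hc => ha0 (by rw [hc, zero_smul])), one_smul]
  have h2 := second m a hm ha ham (hts ha hm h1) u hu
  exact second u m hu hm hmu (hts hm hu h2) w hw

omit hK hKΩ

/-- An element of Ω interchanging the members, for members of even dimension. -/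
theorem exists_swap (hk : Even k) : ∃ γ ∈ decompositionStabilizer D ⊓ omegaGL ⇑Q,
    ∀ i, ∀ x ∈ D i, (γ : Matrix ι ι F) *ᵥ x ∈ D (o i) := by
  classical
  obtain ⟨b⟩ : Nonempty (Module.Basis (Fin k) F (D 0)) :=
    ⟨Module.finBasisOfFinrankEq F (D 0) (Δ.decomp.finrank_eq 0)⟩
  have hb0 : ∀ x ∈ D 0, ∀ z, (∀ i, polar Q (b i : ι → F) z = 0) → polar Q x z = 0 := fun x hx z h => by
    have e : x = ∑ i, b.repr ⟨x, hx⟩ i • (b i : ι → F) := by
      have := congrArg Subtype.val (b.sum_repr ⟨x, hx⟩)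
      simp only [AddSubmonoidClass.coe_finsetSum, Submodule.coe_smul] at this
      exact this.symm
    rw [e, polar_comm, ← polarBilin_apply_apply, map_sum]
    exact Finset.sum_eq_zero fun i _ => by rw [map_smul, polarBilin_apply_apply, polar_comm, h, smul_zero]
  let Ψ : D (o 0) →ₗ[F] Fin k → F :=
    { toFun := fun c i => polar Q (c : ι → F) (b i)
      map_add' := fun x y => funext fun j => by rw [Pi.add_apply, Submodule.coe_add, polar_add_left]
      map_smul' := fun c x => funext fun j => by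
        rw [RingHom.id_apply, Pi.smul_apply, Submodule.coe_smul, polar_smul_left] }
  have hinj : Function.Injective Ψ := (injective_iff_map_eq_zero Ψ).mpr fun c hc => Subtype.ext
    (inter_zero Δ (i := 0) (mem_of_perp Δ fun x hx => hb0 x hx _ fun i => by
      rw [polar_comm]; exact congrFun hc i) c.2)
  have hsurj : Function.Surjective Ψ := (LinearMap.injective_iff_surjective_of_finrank_eq_finrank
    (by rw [Δ.decomp.finrank_eq, Module.finrank_fintype_fun_eq_card, Fintype.card_fin])).mp hinj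
  choose c hc using fun i => hsurj (Pi.single i 1)
  have hcb : ∀ i j, polar Q (c i : ι → F) (b j : ι → F) = if i = j then 1 else 0 := fun i j => by
    have := congrFun (hc i) j
    rw [Pi.single_apply] at this
    exact this.trans (by simp [eq_comm])
  have hbc : ∀ i j, polar Q (b j : ι → F) (c i : ι → F) = if i = j then 1 else 0 := fun i j => by
    rw [polar_comm, hcb]
  obtain ⟨v, hv⟩ : ∃ v : Fin k → (ι → F), ∀ i, v i = (b i : ι → F) - (c i : ι → F) := ⟨_, fun i => rfl⟩
  have hvb : ∀ i j, polar Q (v i) (b j : ι → F) = if i = j then -1 else 0 := fun i j => by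
    rw [hv, polar_sub_left, orth Δ (b i).2 (b j).2, hcb]; split_ifs <;> simp
  have hvc : ∀ i j, polar Q (v i) (c j : ι → F) = if i = j then 1 else 0 := fun i j => by
    rw [hv, polar_sub_left, orth Δ (c i).2 (c j).2, hbc, sub_zero]
    simp [eq_comm]
  have hQv : ∀ i, Q (v i) = -1 := fun i => by
    rw [hv, ORefl.map_sub_two, Δ.ts 0 _ (b i).2, Δ.ts _ _ (c i).2, hbc, if_pos rfl]
    ring
  have hne : ∀ i, Q (v i) ≠ 0 := fun i => by rw [hQv]; exact neg_ne_zero.mpr one_ne_zero
  have key : ∀ l : List (Fin k), l.Nodup → ∀ j,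
      ((Cfsg.Agent.Small.Orth.prodRf Q (l.map v)).1 (b j : ι → F) =
        if j ∈ l then (c j : ι → F) else (b j : ι → F)) ∧
      ((Cfsg.Agent.Small.Orth.prodRf Q (l.map v)).1 (c j : ι → F) =
        if j ∈ l then (b j : ι → F) else (c j : ι → F)) := by
    intro l
    induction l with
    | nil => intro _ j; simp only [List.map_nil, List.not_mem_nil, if_false]; exact ⟨rfl, rfl⟩
    | cons i l ih =>
      intro hl j
      rw [List.nodup_cons] at hl
      obtain ⟨ihb, ihc⟩ := ih hl.2 j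
      rw [List.map_cons, Cfsg.Agent.Small.Orth.prodRf_cons]
      constructor <;> change (ORefl.refl Q (v i)) ((Cfsg.Agent.Small.Orth.prodRf Q (l.map v)).1 _) = _
      · rw [ihb, ORefl.refl_apply, hQv]
        by_cases hji : j = i
        · subst hji
          rw [if_neg hl.1, if_pos List.mem_cons_self, hvb, if_pos rfl, hv]
          simp
        · by_cases hjl : j ∈ l
          · rw [if_pos hjl, if_pos (List.mem_cons_of_mem _ hjl), hvc, if_neg (Ne.symm hji)]; simp
          · rw [if_neg hjl, if_neg (by simp [hji, hjl]), hvb, if_neg (Ne.symm hji)]; simp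
      · rw [ihc, ORefl.refl_apply, hQv]
        by_cases hji : j = i
        · subst hji
          rw [if_neg hl.1, if_pos List.mem_cons_self, hvc, if_pos rfl, hv]
          simp
        · by_cases hjl : j ∈ l
          · rw [if_pos hjl, if_pos (List.mem_cons_of_mem _ hjl), hvb, if_neg (Ne.symm hji)]; simp
          · rw [if_neg hjl, if_neg (by simp [hji, hjl]), hvc, if_neg (Ne.symm hji)]; simp
  obtain ⟨y, hy⟩ : ∃ y, y = Cfsg.Agent.Small.Orth.prodRf Q ((List.finRange k).map v) := ⟨_, rfl⟩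
  have hyΩ : y ∈ commutator ↥(ORefl.Iso Q) := by
    rw [hy, Cfsg.Agent.Small.Orth.mem_commutator_iff Δ.pnd _ (by simp [hne])]
    refine ⟨by rwa [List.length_map, List.length_finRange], ?_⟩
    rw [List.map_map, show ((fun w => Q w) ∘ v) = fun _ => (-1 : F) from funext hQv, List.map_const',
      List.prod_replicate, List.length_finRange, hk.neg_one_pow]
    exact IsSquare.one
  obtain ⟨γ, hγ⟩ : ∃ γ : GL ι F, γ = (ORefl.toMat Q y).1 := ⟨_, rfl⟩
  have hγΩ : γ ∈ omegaGL ⇑Q := by
    rw [hγ]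
    refine ⟨ORefl.toMat Q y, ?_, rfl⟩
    rw [SetLike.mem_coe, OOmega.omega_eq_map]
    exact ⟨y, hy ▸ hyΩ, rfl⟩
  have hmap : ∀ (i j : Fin 2) (e : Module.Basis (Fin k) F (D i)),
      (∀ m, y.1 (e m : ι → F) ∈ D j) → ∀ x ∈ D i, (γ : Matrix ι ι F) *ᵥ x ∈ D j := by
    intro i j e he x hx
    rw [hγ, ORefl.toMat_apply]
    have ex : x = ∑ m, e.repr ⟨x, hx⟩ m • (e m : ι → F) := by
      have := congrArg Subtype.val (e.sum_repr ⟨x, hx⟩)
      simp only [AddSubmonoidClass.coe_finsetSum, Submodule.coe_smul] at this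
      exact this.symm
    rw [ex, map_sum]
    exact Submodule.sum_mem _ fun m _ => by rw [map_smul]; exact Submodule.smul_mem _ _ (he m)
  have h0 : ∀ x ∈ D 0, (γ : Matrix ι ι F) *ᵥ x ∈ D (o 0) := hmap 0 (o 0) b fun m => by
    rw [hy, (key _ (List.nodup_finRange k) m).1, if_pos (List.mem_finRange m)]; exact (c m).2
  have hcli : LinearIndependent F c := by
    rw [Fintype.linearIndependent_iff]
    intro a ha j
    have := congrFun (congrArg Ψ ha) j
    simp [map_sum, map_smul, hc, Pi.single_apply] at this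
    exact this
  have h1 : ∀ x ∈ D (o 0), (γ : Matrix ι ι F) *ᵥ x ∈ D 0 :=
    hmap (o 0) 0 (basisOfLinearIndependentOfCardEqFinrank' c hcli
      (by rw [Fintype.card_fin, Δ.decomp.finrank_eq])) fun m => by
      rw [coe_basisOfLinearIndependentOfCardEqFinrank', hy, (key _ (List.nodup_finRange k) m).2,
        if_pos (List.mem_finRange m)]
      exact (b m).2
  refine ⟨γ, ⟨TSPair.stab_of Δ.decomp (i := 0) (j := o 0) h0 (by rw [o_o]; exact h1), hγΩ⟩, fun i => ?_⟩
  rcases eq_or_eq_o 0 i with rfl | rfl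
  · exact h0
  · rw [o_o]; exact h1

/-- The stabiliser of the pair is maximal. -/
theorem isMaximal (hk : Even k) :
    IsMaximalIn (omegaGL ⇑Q) (decompositionStabilizer D ⊓ omegaGL ⇑Q) := by
  classical
  have hbig := Δ.big
  obtain ⟨a, ha, ha0⟩ := Submodule.exists_mem_ne_zero_of_ne_bot (p := D 0) fun e => by
    have := Δ.decomp.finrank_eq 0
    rw [e, finrank_bot] at this
    omega
  obtain ⟨b, hb, hab⟩ : ∃ b ∈ D 0, b ∉ Submodule.span F {a} := by
    by_contra hcon
    push Not at hcon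
    have h1 := Submodule.finrank_mono (show D 0 ≤ Submodule.span F {a} from hcon)
    rw [finrank_span_singleton ha0, Δ.decomp.finrank_eq] at h1
    omega
  refine ⟨lt_of_le_of_ne inf_le_right fun e => ?_, fun K hK hKΩ => or_iff_not_imp_left.mpr fun hne =>
    le_antisymm hKΩ ?_⟩
  · -- a root element inside a member moves the pair
    obtain ⟨t, htΩ, htx⟩ := ONotMax.exists_siegel Δ.pnd (by rw [Δ.card]; omega) (Δ.ts 0 a ha) (orth Δ ha hb)
    obtain ⟨z, hz, -, haz⟩ := sep Δ (S := ⊥) bot_le ha (fun e => ha0 ((Submodule.mem_bot F).mp e))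
    obtain ⟨π, hπ⟩ := inf_eq_right.mp e htΩ
    have h : (t : Matrix ι ι F) *ᵥ z ∈ D (π (o 0)) := by
      rw [← hπ]
      exact ⟨z, hz, Matrix.toLin'_apply _ _⟩
    rw [htx, haz, Δ.ts 0 b hb, zero_mul, add_zero, one_smul, add_sub_assoc] at h
    have hd : b - polar Q b z • a ∈ D 0 := sub_mem hb ((D 0).smul_mem _ ha)
    rcases eq_or_eq_o 0 (π (o 0)) with e | e <;> rw [e] at h
    · have := inter_zero Δ ((Submodule.add_mem_iff_left _ hd).mp h) hz
      rw [this, polar_zero_right] at haz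
      exact zero_ne_one haz
    · have h' := inter_zero Δ hd ((Submodule.add_mem_iff_right _ hz).mp h)
      exact hab (Submodule.mem_span_singleton.mpr ⟨_, (sub_eq_zero.mp h').symm⟩)
  obtain ⟨g, hg, hgn⟩ : ∃ g ∈ K, g ∉ decompositionStabilizer D := by
    by_contra hcon
    push Not at hcon
    exact hne (le_antisymm (le_inf hcon hKΩ) hK)
  obtain ⟨j, a, b, ha, hb, ha0, hab, hin⟩ := exists_done Δ hK hKΩ hg hgn
  have hall := all_in Δ hK hKΩ ha hb ha0 hab hin
  have hHas : ∀ v ∈ D j, Radical.Has (fun v => Q v = 0) (Radical.UQ Q) K v := by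
    refine fun v hv => ⟨Δ.ts j v hv, fun h hh => ?_⟩
    obtain ⟨y, hvy, hx⟩ := hh
    obtain ⟨y₀, hy₀, y₁, hy₁, rfl⟩ := dec Δ j y
    rw [polar_add_right, orth Δ hv hy₀, zero_add] at hvy
    obtain ⟨h₀, hh₀, hx₀⟩ := hall v hv y₀ hy₀
    obtain ⟨h₁, hh₁, hx₁⟩ := baseK Δ hK hKΩ hv hy₁ hvy
    have e : h = h₀ * h₁ := gl_ext_mulVec fun x => by
      rw [gl_mul_mulVec, hx, hx₀, hx₁, QuadraticMap.map_add ⇑Q, Δ.ts j y₀ hy₀, Δ.ts _ y₁ hy₁]
      simp only [rt, polar_add_left, polar_add_right, polar_sub_right, polar_smul_right, orth Δ hv hv, hvy,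
        orth Δ hy₀ hv, zero_add, smul_zero, add_zero, sub_zero, smul_eq_mul, mul_zero]
      module
    exact e ▸ mul_mem hh₀ hh₁
  obtain ⟨γ, hγ, hγD⟩ := exists_swap Δ hk
  obtain ⟨w, hw, -, haw⟩ := sep Δ (S := ⊥) bot_le ha (fun e => ha0 ((Submodule.mem_bot F).mp e))
  have hΔ := Radical.quad_data Δ.pnd (by rw [Δ.card]; omega)
  have hw' := Radical.has_map hΔ hKΩ γ⁻¹ (inv_mem (hK hγ)) _ (hHas _ (o_o j ▸ hγD (o j) w hw))
  rw [gl_inv_mulVec_cancel] at hw'
  exact Radical.le_of_pair hΔ hKΩ (hHas a ha) hw' (by rw [haw]; exact one_ne_zero)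

end Cfsg.Agent.Classical.OTSPair
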