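/-
Maximal subgroups of the ten-dimensional orthogonal groups.
-/
import Cfsg.Agent.Lib.Classical.OrthEvenFieldTwo
import Cfsg.Agent.Lib.Classical.OrthEvenHalves
import Cfsg.Agent.Lib.Classical.OrthEvenFrames
import Cfsg.Agent.Lib.Classical.OrthEvenSubfield
import Cfsg.Agent.Lib.Classical.FormSpMaximal

set_option autoImplicit false
set_option linter.unusedSectionVars false
set_option linter.style.haveILetI false

namespace Cfsg.Agent.Classical.OTen

open Matrix Module Cfsg.Geo
open Cfsg.Agent.Classical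
open scoped Kronecker

variable {ι : Type} [Fintype ι] [DecidableEq ι] {F : Type*} [Field F] [Fintype F]

/-- The possible shapes of a maximal subgroup. -/
inductive Ten (Q : (ι → F) → F) (H : Subgroup (GL ι F)) : Prop
  | ts (W : Submodule F (ι → F)) (h0 : W ≠ ⊥) (hW : IsTotallySingularQuad Q W)
      (hd : IsPlusTypeOn Q ⊤ → finrank F W ≠ 4) (he : H = subspaceStabilizer W ⊓ omegaGL Q)
  | odd (W : Submodule F (ι → F)) (hq : Odd (Fintype.card F)) (h0 : W ≠ ⊥) (htop : W ≠ ⊤) (ho : Odd (finrank F W))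
      (hd : 2 * finrank F W ≠ 10) (hW : IsNondegenerateOn (QuadraticMap.polar Q) W)
      (he : H = subspaceStabilizer W ⊓ omegaGL Q)
  | plane (W : Submodule F (ι → F)) (h2 : finrank F W = 2) (hW : IsNondegenerateOn (QuadraticMap.polar Q) W)
      (hq : IsPlusTypeOn Q W → 4 ≤ Fintype.card F) (he : H = subspaceStabilizer W ⊓ omegaGL Q)
  | four (W : Submodule F (ι → F)) (h4 : finrank F W = 4) (hW : IsNondegenerateOn (QuadraticMap.polar Q) W)
      (he : H = subspaceStabilizer W ⊓ omegaGL Q)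
  | line (v : ι → F) (hq : ¬ Odd (Fintype.card F)) (hv : Q v ≠ 0)
      (he : H = subspaceStabilizer (Submodule.span F {v}) ⊓ omegaGL Q)
  | lines (hp : (Fintype.card F).Prime) (htype : IsPlusTypeOn Q ⊤ ↔ Fintype.card F % 4 = 1)
      (hq : Odd (Fintype.card F)) (D : Fin 10 → Submodule F (ι → F)) (hD : IsOrthogonalMDecomposition Q 1 D)
      (he : H = decompositionStabilizer D ⊓ omegaGL Q)
  | planes (hqp : IsPlusTypeOn Q ⊤ → 7 ≤ Fintype.card F) (hqm : ¬ IsPlusTypeOn Q ⊤ → Fintype.card F ≠ 3)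
      (D : Fin 5 → Submodule F (ι → F)) (hD : IsOrthogonalMDecomposition Q 2 D)
      (he : H = decompositionStabilizer D ⊓ omegaGL Q)
  | halves (hq : Odd (Fintype.card F)) (D : Fin 2 → Submodule F (ι → F))
      (hD : IsNondegenerateMDecomposition (QuadraticMap.polar Q) 5 D)
      (hiso : AreIsometricFor Q (D 0) (D 1) ↔ (IsPlusTypeOn Q ⊤ ↔ Fintype.card F % 4 = 1))
      (horth : AreIsometricFor Q (D 0) (D 1) → IsOrthogonalMDecomposition Q 5 D)
      (he : H = decompositionStabilizer D ⊓ omegaGL Q)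
  | selfField (hq : Odd (Fintype.card F)) (K : Subalgebra F (Matrix ι ι F)) (hK : IsFieldSubalgebra 2 K)
      (hs : IsSelfAdjointFor (QuadraticMap.polar Q) K) (he : H = subalgebraNormalizer K ⊓ omegaGL Q)
  | simField (hm : ¬ IsPlusTypeOn Q ⊤) (K : Subalgebra F (Matrix ι ι F)) (hK : IsFieldSubalgebra 2 K)
      (ha : IsAdjointClosedFor (QuadraticMap.polar Q) K) (hs : ¬ IsSelfAdjointFor (QuadraticMap.polar Q) K)
      (hsim : ∀ k ∈ K, ∃ c : F, ∀ v, Q (k *ᵥ v) = c * Q v) (he : H = subalgebraNormalizer K ⊓ omegaGL Q)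
  | subfield (F₀ : Subfield F) (r : ℕ) (P : GL ι F) (ζ : F) (hr : r.Prime) (ho : ¬ IsPlusTypeOn Q ⊤ → Odd r)
      (hc : Fintype.card F = Nat.card F₀ ^ r) (hζ : ζ ≠ 0)
      (hrat : IsQuadFormRationalStructure (fun v => ζ * Q v) F₀ P) (he : H = subfieldSubgroup F₀ P ⊓ omegaGL Q)
  | residual (h : InOrthogonalResidualClass H)

theorem odd_card_iff : Odd (Fintype.card F) ↔ (2 : F) ≠ 0 := by
  constructor
  · intro ho h
    haveI : CharP F 2 := CharTwo.of_one_ne_zero_of_two_eq_zero one_ne_zero h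
    exact Nat.not_even_iff_odd.mpr ho (Nat.even_iff.mpr (FiniteField.even_card_of_char_two (ringChar.eq F 2)))
  · intro h
    rw [Nat.odd_iff]
    refine FiniteField.odd_card_of_char_ne_two fun e => h ?_
    have := ringChar.Nat.cast_ringChar (R := F)
    rw [e] at this
    exact_mod_cast this

theorem neg_one_iff (h : (2 : F) ≠ 0) : IsSquare (-1 : F) ↔ Fintype.card F % 4 = 1 := by
  rw [FiniteField.isSquare_neg_one_iff]
  have := Nat.odd_iff.mp (odd_card_iff.mpr h)
  omega

theorem card_ne_six : Fintype.card F ≠ 6 := by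
  intro h
  obtain ⟨p, hchar⟩ := CharP.exists F
  obtain ⟨e, hp, hc⟩ := FiniteField.card F p
  rw [h] at hc
  have h2 : p ∣ 6 := hc ▸ dvd_pow_self _ (PNat.ne_zero e)
  have := Nat.le_of_dvd (by norm_num) h2
  interval_cases p <;> norm_num at hp
  · have h3 : (3 : ℕ) ∣ 2 ^ (e : ℕ) := hc ▸ by norm_num
    exact absurd (Nat.prime_three.dvd_of_dvd_pow h3) (by norm_num)
  · have h3 : (2 : ℕ) ∣ 3 ^ (e : ℕ) := hc ▸ by norm_num
    exact absurd (Nat.prime_two.dvd_of_dvd_pow h3) (by norm_num)
  · norm_num at h2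

variable {Q : (ι → F) → F} (hQ : IsNondegenerateQuadraticForm Q) (hcard : Fintype.card ι = 10)
  {H : Subgroup (GL ι F)} (hH : IsMaximalIn (omegaGL Q) H)

include hQ hcard hH

theorem sub : H ≤ isometryGroup F Q := hH.1.le.trans (Subgroup.map_subtype_le _)

theorem cut {X : Subgroup (GL ι F)} (h1 : H ≤ X) (h2 : ¬ omegaGL Q ≤ X) : H = X ⊓ omegaGL Q :=
  eq_inf_of_maximalIn hH h1 h2

theorem cut_space {W : Submodule F (ι → F)} (h0 : W ≠ ⊥) (hlt : finrank F W < 10) (hle : H ≤ subspaceStabilizer W) :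
    H = subspaceStabilizer W ⊓ omegaGL Q := by
  obtain ⟨Qf, rfl, hP⟩ := ONotMax.exists_qform hQ
  refine cut hQ hcard hH hle fun hG => ?_
  rcases OEven.omega_irreducible hP (by omega) W (fun s ⟨x, hx, e⟩ => e ▸ map_toLin'_le.mpr
    (mem_subspaceStabilizer_iff.mp (hG hx))) with h | h
  · exact h0 h
  · rw [h, finrank_top, Module.finrank_pi, hcard] at hlt; omega

theorem cut_subfield {F₀ : Subfield F} {r : ℕ} (hr : r.Prime) (hc : Fintype.card F = Nat.card F₀ ^ r) {P : GL ι F}
    {ζ : F} (hζ : ζ ≠ 0) (hrat : IsQuadFormRationalStructure (fun v => ζ * Q v) F₀ P) (hle : H ≤ subfieldSubgroup F₀ P) :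
    Ten Q H := by
  refine .subfield F₀ r P ζ hr (fun hm => ?_) hc hζ hrat (cut hQ hcard hH hle ?_)
  · refine hr.eq_two_or_odd'.resolve_left fun e => hm ?_
    subst e
    exact OEven.plus_of_rational hQ (m := 5) (by omega) (by norm_num) hc hζ hrat
  · obtain ⟨Qf, rfl, hP⟩ := ONotMax.exists_qform hQ
    obtain ⟨N, hN, hNN, hfam⟩ := OEven.exists_family hP (by omega)
    exact OEven.not_le_subfield_of_family hN hNN (fun t => by
      obtain ⟨g, hg, hgm, -⟩ := hfam t
      exact ⟨g, hg, hgm⟩) (OEven.subfield_ne_top_of_card hr hc) P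

theorem of_halves {D : Fin 2 → Submodule F (ι → F)} (hD : IsNondegenerateMDecomposition (QuadraticMap.polar Q) 5 D)
    (hle : H ≤ decompositionStabilizer D) : Ten Q H := by
  obtain ⟨h2, hiso⟩ := OEven.halves_iff hQ (m := 5) (by omega) (by decide) hD
  rw [neg_one_iff h2] at hiso
  refine .halves (odd_card_iff.mpr h2) D hD hiso (fun ⟨e, he⟩ => ⟨hD, fun i j => ?_⟩) (cut hQ hcard hH hle ?_)
  · rcases (show i = 0 ∨ i = 1 by omega) with rfl | rfl <;> rcases (show j = 0 ∨ j = 1 by omega) with rfl | rfl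
    · exact ⟨LinearEquiv.refl F _, fun _ => rfl⟩
    · exact ⟨e, he⟩
    · exact ⟨e.symm, fun w => by rw [← he (e.symm w), e.apply_symm_apply]⟩
    · exact ⟨LinearEquiv.refl F _, fun _ => rfl⟩
  · obtain ⟨Qf, rfl, hP⟩ := ONotMax.exists_qform hQ
    exact OEven.omega_not_decomposition hP (by omega) hD.decomp (by norm_num)

theorem of_lines {D : Fin 10 → Submodule F (ι → F)} (hD : IsOrthogonalMDecomposition Q 1 D)
    (hle : H ≤ decompositionStabilizer D) : Ten Q H := by
  obtain ⟨h2, h | ⟨F₀, r, P, ζ, hr, hc, hζ, hrat, hle'⟩⟩ :=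
    OEven.lines_cases hQ (m := 5) (by omega) (by decide) (sub hQ hcard hH) hD hle
  · exact .lines h.1 (h.2.trans (neg_one_iff h2)) (odd_card_iff.mpr h2) D hD
      (cut hQ hcard hH hle (OEven.omega_not_lines hQ (by omega) h2 hD.decomp.decomp))
  · exact cut_subfield hQ hcard hH hr hc hζ hrat hle'

theorem of_planes (hirr : ActsIrreducibly (matrixSet H)) {D : Fin 5 → Submodule F (ι → F)}
    (hD : IsOrthogonalMDecomposition Q 2 D) (hle : H ≤ decompositionStabilizer D) : Ten Q H := by
  have hI := sub hQ hcard hH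
  have hcut := cut hQ hcard hH hle (OEven.omega_not_planes hQ (by omega) hD.decomp)
  have htype := OEven.planes_type hQ hD 0
  by_cases hV : IsPlusTypeOn Q ⊤
  · have hp := htype.mpr hV
    rcases Nat.lt_or_ge (Fintype.card F) 7 with hq | hq
    swap
    · exact .planes (fun _ => hq) (fun h => absurd hV h) D hD hcut
    have h6 := card_ne_six (F := F)
    have h1 : 1 < Fintype.card F := Fintype.one_lt_card
    rcases (show Fintype.card F ≤ 3 ∨ Fintype.card F = 4 ∨ Fintype.card F = 5 by omega) with h | h | h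
    · exact absurd hle (OEven.planes_reducible hQ h hI hirr hD 0 hp)
    · obtain ⟨F₀, P, hc, hrat, hle'⟩ := OEven.planes_four hQ h hI hD 0 hp hle
      exact cut_subfield hQ hcard hH Nat.prime_two hc one_ne_zero hrat hle'
    · obtain ⟨D', hD', hle'⟩ := OEven.planes_five hQ h hI hD 0 hp hle
      exact of_lines hQ hcard hH hD' hle'
  · refine .planes (fun h => absurd h hV) (fun _ h3 => ?_) D hD hcut
    obtain ⟨X, hX1, hX2⟩ := OEven.planes_three_minus hQ h3 hD 0 (fun h => hV (htype.mp h))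
    rw [← hcut] at hX1
    rcases hH.2 X hX1.le hX2.le with h | h
    exacts [hX1.ne h.symm, hX2.ne h]

theorem of_decomp (hirr : ActsIrreducibly (matrixSet H)) {t k : ℕ} {D : Fin t → Submodule F (ι → F)}
    (hD : IsOrthogonalMDecomposition Q k D) (hle : H ≤ decompositionStabilizer D) : Ten Q H := by
  have htk := IsMDecomposition.card_eq hD.decomp.decomp
  rw [hcard] at htk
  have ht := hD.decomp.decomp.two_le
  have : t ≤ 10 := Nat.le_of_dvd (by norm_num) ⟨k, htk.symm⟩
  obtain ⟨rfl, rfl⟩ | ⟨rfl, rfl⟩ | ⟨rfl, rfl⟩ : (t = 2 ∧ k = 5) ∨ (t = 5 ∧ k = 2) ∨ (t = 10 ∧ k = 1) := by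
    interval_cases t <;> omega
  · exact of_halves hQ hcard hH hD.decomp hle
  · exact of_planes hQ hcard hH hirr hD hle
  · exact of_lines hQ hcard hH hD hle

theorem of_tspair (hirr : ActsIrreducibly (matrixSet H)) {k : ℕ} {D : Fin 2 → Submodule F (ι → F)}
    (hD : IsMDecomposition k D) (hts : ∀ i, IsTotallySingularQuad Q (D i))
    (hle : H ≤ decompositionStabilizer D) : False := by
  have htk := IsMDecomposition.card_eq hD
  rw [hcard] at htk
  obtain rfl : k = 5 := by omega
  exact OEven.not_tspair hQ (m := 5) (by omega) (by norm_num) (by decide) hH.1.le hirr hD hts hle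

theorem of_field_two (hirr : ActsIrreducibly (matrixSet H)) {K : Subalgebra F (Matrix ι ι F)}
    (hK : IsFieldSubalgebra 2 K) (hadj : IsAdjointClosedFor (QuadraticMap.polar Q) K)
    (hle : H ≤ subalgebraNormalizer K) : Ten Q H := by
  have hcut : H = subalgebraNormalizer K ⊓ omegaGL Q := by
    obtain ⟨Qf, rfl, hP⟩ := ONotMax.exists_qform hQ
    exact cut hQ hcard hH hle (OEven.omega_not_field hP (by omega) le_rfl hK)
  by_cases hs : IsSelfAdjointFor (QuadraticMap.polar Q) K
  · refine .selfField (odd_card_iff.mpr fun h2 => ?_) K hK hs hcut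
    exact OField.not_selfAdjoint_two hQ h2 (m := 5) (by omega) (by decide) hK hs
  · have hsim := OField.similitude hQ (by omega) hirr (sub hQ hcard hH) hK hadj hs hle
    exact .simField (fun hp => OField.not_similitude_plus hQ (m := 5) (by omega) (by decide) hp hK hadj hsim)
      K hK hadj hs hsim hcut

theorem of_field (hirr : ActsIrreducibly (matrixSet H)) {r : ℕ} {K : Subalgebra F (Matrix ι ι F)} (hr : r.Prime)
    (hdvd : r ∣ 10) (hK : IsFieldSubalgebra r K) (hadj : IsAdjointClosedFor (QuadraticMap.polar Q) K)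
    (hle : H ≤ subalgebraNormalizer K) : Ten Q H := by
  obtain rfl | rfl : r = 2 ∨ r = 5 := by
    rcases (Nat.Prime.dvd_mul hr).mp (show r ∣ 2 * 5 from hdvd) with h | h
    exacts [Or.inl ((Nat.prime_dvd_prime_iff_eq hr Nat.prime_two).mp h),
      Or.inr ((Nat.prime_dvd_prime_iff_eq hr (by norm_num)).mp h)]
  · exact of_field_two hQ hcard hH hirr hK hadj hle
  · rcases OField.reduce hQ (r := 5) (by norm_num) (by decide) (by omega) (sub hQ hcard hH) hK hadj hle with
      ⟨D, hD, hts, h⟩ | ⟨K₂, hK₂, ha, -, h⟩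
    · exact (of_tspair hQ hcard hH hirr hD hts h).elim
    · exact of_field_two hQ hcard hH hirr hK₂ ha h

theorem of_plane_factor (hirr : ActsIrreducibly (matrixSet H)) {e : ι ≃ Fin 5 × Fin 2} {P : GL ι F}
    {G₁ : Matrix (Fin 5) (Fin 5) F} {G₂ : Matrix (Fin 2) (Fin 2) F} {l : F}
    (hT : TensorGram (RingEquiv.refl F) 1 (QuadraticMap.polar Q) e P G₁ G₂ l)
    (hkr : ∀ g ∈ H, ∃ (a : GL (Fin 5) F) (b : GL (Fin 2) F),
      matCoord e P (g : Matrix ι ι F) = (a : Matrix (Fin 5) (Fin 5) F) ⊗ₖ (b : Matrix (Fin 2) (Fin 2) F))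
    :
    ∃ Z : Subalgebra F (Matrix ι ι F), (∀ x ∈ Z, ∀ y ∈ Z, x * y = y * x) ∧ H ≤ subalgebraNormalizer Z ∧
      (∀ z ∈ Z, formAdj (RingEquiv.refl F) (QuadraticMap.polar Q) z ∈ Z) ∧
      ∃ z ∈ Z, ∀ c : F, z ≠ c • (1 : Matrix ι ι F) := by
  haveI : Nonempty ι := Fintype.card_pos_iff.mp (by omega)
  have hf := reflexForm_of_quadratic hQ
  have hfix : FixesForm (matrixSet H) (QuadraticMap.polar Q) :=
    quad_fixes_polar (by rintro _ ⟨g, hg, rfl⟩ v; exact mem_isometryGroup_iff.mp (sub hQ hcard hH hg) v)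
  have hodd : Odd (Fintype.card (Fin 5)) := by decide
  by_cases h2 : (2 : F) = 0
  · exfalso
    obtain ⟨hs, hd⟩ := hT.diag_left h2 (by norm_num) (by norm_num) hf hirr hfix hkr
    refine hT.det_left (det_eq_zero_of_alternating_of_odd hodd _ (fun i j => ?_) hd)
    rw [hs, eq_neg_iff_add_eq_zero, ← two_mul, h2, zero_mul]
  rcases mul_self_eq_one_iff.mp (hT.norm : l * l = 1) with hl | hl
  · exact hT.plane_algebra h2 (by norm_num) hf (fun i j => by simpa [hl] using hT.swap_right i j) hfix hkr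
  · exfalso
    have hsw : ∀ i j, G₁ j i = -G₁ i j := fun i j => by simpa [hl] using hT.swap_left i j
    exact hT.det_left (det_eq_zero_of_alternating_of_odd hodd _ hsw
      (fun i => (mul_eq_zero.mp (show (2 : F) * G₁ i i = 0 by linear_combination hsw i i)).resolve_left h2))

/-- The theorem. -/
theorem cases : Ten Q H := by
  classical
  have hI := sub hQ hcard hH
  rcases even_structure hQ (by omega) hI with hout | hres
  swap
  · exact .residual hres
  cases hout with
  | ts W h0 hW hle =>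
    have hlt : finrank F W ≤ 5 := by
      obtain ⟨Qf, rfl, hP⟩ := ONotMax.exists_qform hQ
      have h1 := Witt.finrank_le_half Qf (ORefl.nondeg hP) (W := W) hW
      rw [Module.finrank_pi, hcard] at h1
      omega
    by_cases h4 : IsPlusTypeOn Q ⊤ ∧ finrank F W = 4
    swap
    · exact .ts W h0 hW (fun hp h => h4 ⟨hp, h⟩) (cut_space hQ hcard hH h0 (by omega) hle)
    obtain ⟨⟨L, -, hL, hLd⟩, h4⟩ := h4
    rw [finrank_top, Module.finrank_pi, hcard] at hLd
    obtain ⟨U, hWU, hUd, hU⟩ : ∃ U : Submodule F (ι → F), W ≤ U ∧ finrank F U = 5 ∧ IsTotallySingularQuad Q U := by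
      obtain ⟨Qf, rfl, hP⟩ := ONotMax.exists_qform hQ
      obtain ⟨U, h1, h2, h3⟩ := Witt.exists_extend Qf (ORefl.nondeg hP) (U := W) (L := L) hW hL (by omega)
      exact ⟨U, h1, by omega, h3⟩
    have hle' := OEven.fixes_half hQ (m := 5) (by omega) (by norm_num) hU hUd hWU (by omega) hH.1.le hle
    have hU0 : U ≠ ⊥ := fun e => by rw [e, finrank_bot] at hUd; omega
    exact .ts U hU0 hU (fun _ => by omega) (cut_space hQ hcard hH hU0 (by omega) hle')
  | line v h2 hv hle =>
    have hv0 : v ≠ 0 := fun e => hv (by rw [e]; simpa using hQ.smul 0 0)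
    refine .line v (fun h => odd_card_iff.mp h h2) hv (cut_space hQ hcard hH (by simpa using hv0) ?_ hle)
    rw [finrank_span_singleton hv0]; norm_num
  | nondeg W h0 hW hd hle =>
    rw [hcard] at hd
    have hpos : 0 < finrank F W := Nat.pos_of_ne_zero fun e => h0 (Submodule.finrank_eq_zero.mp e)
    have hcut := cut_space hQ hcard hH h0 (by omega) hle
    by_cases ho : Odd (finrank F W)
    · refine .odd W (odd_card_iff.mpr (OEven.odd_dim_two_ne_zero hQ hW ho)) h0 (fun e => ?_) ho (by omega) hW hcut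
      rw [e, finrank_top, Module.finrank_pi, hcard] at hd; omega
    rcases (show finrank F W = 2 ∨ finrank F W = 4 by
      obtain ⟨r, hr⟩ := Nat.not_odd_iff_even.mp ho
      omega) with h2 | h4
    · refine .plane W h2 hW (fun hp => ?_) hcut
      by_contra h4
      obtain ⟨Qf, rfl, hP⟩ := ONotMax.exists_qform hQ
      obtain ⟨X, hX1, hX2⟩ := ONotMax.plane_not_max hP (by omega) (by omega) h2 hW hp
      rw [← hcut] at hX1
      rcases hH.2 X hX1.le hX2.le with h | h
      exacts [hX1.ne h.symm, hX2.ne h]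
    · exact .four W h4 hW hcut
  | halves k D hk hD hle =>
    rw [hcard] at hk
    obtain rfl : k = 5 := by omega
    exact of_halves hQ hcard hH hD hle
  | decomp t k D hirr hD hle => exact of_decomp hQ hcard hH hirr hD hle
  | tspair k D hirr hk hD hts hle => exact (of_tspair hQ hcard hH hirr hD hts hle).elim
  | field r K hr hdvd hK hirr hadj hle => exact of_field hQ hcard hH hirr hr (hcard ▸ hdvd) hK hadj hle
  | tensor d k e P G₁ G₂ l hd hk hirr hT hkr =>
    have h := Fintype.card_congr e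
    rw [hcard, Fintype.card_prod, Fintype.card_fin, Fintype.card_fin] at h
    haveI : Nonempty ι := Fintype.card_pos_iff.mp (by omega)
    have hZ : ∃ Z : Subalgebra F (Matrix ι ι F), (∀ x ∈ Z, ∀ y ∈ Z, x * y = y * x) ∧ H ≤ subalgebraNormalizer Z ∧
        (∀ z ∈ Z, formAdj (RingEquiv.refl F) (QuadraticMap.polar Q) z ∈ Z) ∧
        ∃ z ∈ Z, ∀ c : F, z ≠ c • (1 : Matrix ι ι F) := by
      obtain ⟨rfl, rfl⟩ | ⟨rfl, rfl⟩ : (d = 5 ∧ k = 2) ∨ (d = 2 ∧ k = 5) := by
        have : d ≤ 5 := by nlinarith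
        have : k ≤ 5 := by nlinarith
        interval_cases d <;> interval_cases k <;> simp at h ⊢
      · exact of_plane_factor hQ hcard hH hirr hT hkr
      · refine of_plane_factor hQ hcard hH hirr (hT.prodComm (by simp) (fun _ => rfl)) (fun g hg => ?_)
        obtain ⟨a, b, hab⟩ := hkr g hg
        refine ⟨b, a, ?_⟩
        ext ⟨i, x⟩ ⟨j, y⟩
        have := congrFun (congrFun hab (x, i)) (y, j)
        rw [Matrix.kronecker_apply] at this ⊢
        rw [mul_comm]
        exact this
    obtain ⟨Z, hZc, hn, hZadj, hns⟩ := hZ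
    rcases algebra_members hQ (by omega) hI hirr hZc hn hZadj hns with
      ⟨t, m, D, hD, h⟩ | ⟨m, D, -, hD, hts, h⟩ | ⟨r, K, hr, hdvd, hK, hadj, h⟩
    · exact of_decomp hQ hcard hH hirr hD h
    · exact (of_tspair hQ hcard hH hirr hD hts h).elim
    · exact of_field hQ hcard hH hirr hr (hcard ▸ hdvd) hK hadj h
  | symp M hM hn ha hne hc =>
    exact (OEven.not_symplectic_odd hQ (m := 5) (by omega) (by norm_num) (by decide) (hM.trans hI) ha hne hc).elim
  | subfield F₁ r P ζ hr hc hζ hrat hle => exact cut_subfield hQ hcard hH hr hc hζ hrat hle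
  | power k t e B c G₀ l hk ht hirr hG hle =>
    exfalso
    have h := Fintype.card_congr e
    rw [hcard, Fintype.card_fun, Fintype.card_fin, Fintype.card_fin] at h
    have h2 : k ^ 2 ≤ 10 := h ▸ Nat.pow_le_pow_right (by omega) ht
    have h3 : k ≤ 3 := by nlinarith
    have ht' : t < 4 := by
      by_contra hcon
      have := (Nat.pow_le_pow_left hk t).trans' (Nat.pow_le_pow_right (show 0 < 2 by norm_num) (not_lt.mp hcon))
      omega
    interval_cases k <;> interval_cases t <;> norm_num at h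

end Cfsg.Agent.Classical.OTen
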