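/-
Three spaces of plus type and dimension four over the field of two elements: six planes of minus type.
-/
import Cfsg.Agent.Lib.Classical.OrthEvenSplit
import Cfsg.Agent.Lib.Classical.FormOrthLines
import Cfsg.Agent.Lib.Classical.OrthEvenFrames

set_option autoImplicit false
set_option linter.unusedSectionVars false
set_option linter.style.haveILetI false

namespace Cfsg.Agent.Classical.OEven

open Matrix Module Cfsg.Geo
open QuadraticMap (polar polarBilin)

variable {ι : Type} [Fintype ι] [DecidableEq ι] {F : Type*} [Field F] [Fintype F]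

/-- Two orthogonal planes of minus type in the hyperbolic space of dimension four. -/
def twoPlanes (F : Type*) [Field F] : Fin 2 → Fin 2 → (Fin 2 ⊕ Fin 2 → F) :=
  ![![Sum.elim ![1, 1] ![1, 0], Sum.elim ![1, 0] ![1, 1]], ![Sum.elim ![1, 1] ![0, 1], Sum.elim ![0, 1] ![1, 1]]]

theorem twoPlanes_value (s l : Fin 2) : Cfsg.quadFormPlus 2 F (twoPlanes F s l) = 1 := by
  fin_cases s <;> fin_cases l <;> simp [twoPlanes, Cfsg.quadFormPlus, Fin.sum_univ_two]

theorem twoPlanes_polar (h2 : (2 : F) = 0) (s l s' l' : Fin 2) :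
    Cfsg.quadFormPlus 2 F (twoPlanes F s l + twoPlanes F s' l') - Cfsg.quadFormPlus 2 F (twoPlanes F s l) -
      Cfsg.quadFormPlus 2 F (twoPlanes F s' l') = if s = s' ∧ l ≠ l' then 1 else 0 := by
  fin_cases s <;> fin_cases l <;> fin_cases s' <;> fin_cases l' <;>
    simp [twoPlanes, Cfsg.quadFormPlus, Fin.sum_univ_two] <;>
    first | linear_combination h2 | linear_combination (2 : F) * h2 | linear_combination (3 : F) * h2

variable {Q : (ι → F) → F} (hQ : IsNondegenerateQuadraticForm Q)

include hQ

/-- Over two elements three four-spaces of plus type refine to six planes. -/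
theorem six_planes (hq : Fintype.card F = 2) {H : Subgroup (GL ι F)} (hI : H ≤ isometryGroup F Q)
    {D : Fin 3 → Submodule F (ι → F)} (hD : IsOrthogonalMDecomposition Q 4 D) (hplus : IsPlusTypeOn Q (D 0))
    (hle : H ≤ decompositionStabilizer D) :
    ∃ D' : Fin 6 → Submodule F (ι → F), IsOrthogonalMDecomposition Q 2 D' ∧ H ≤ decompositionStabilizer D' := by
  classical
  have h01 : ∀ a : F, a = 0 ∨ a = 1 := fun a => by
    by_cases ha : a = 0
    · exact Or.inl ha
    · have := FiniteField.pow_card_sub_one_eq_one a ha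
      rw [hq] at this
      exact Or.inr (by simpa using this)
  have h2 : (2 : F) = 0 := by
    have := FiniteField.cast_card_eq_zero F
    rw [hq] at this; exact_mod_cast this
  obtain ⟨Qf, hQf, -⟩ := ONotMax.exists_qform hQ
  have hb := hQ.polar_bilinear
  obtain ⟨a, c, hac⟩ := Cfsg.Agent.Small.QuadModels.exists_aniso (F := F)
  have hd0 := hD.decomp.decomp.finrank_eq 0
  obtain ⟨L, hL⟩ : ∃ L : (Fin 2 ⊕ Fin 2 → F) ≃ₗ[F] D 0, ∀ v, Q (L v : ι → F) = Cfsg.quadFormPlus 2 F v := by
    rcases Cfsg.Agent.Small.QuadModels.even_model (m := 2) (Qf.comp (D 0).subtype) (by norm_num) hd0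
      (res_nondeg hQ hQf (hD.decomp.nondegenerate 0)) a c hac with ⟨L, hL⟩ | ⟨L, hL⟩
    · exact ⟨L, fun v => by rw [← hL]; simp [hQf]⟩
    · exfalso
      obtain ⟨U, hUC, hU, hUd⟩ := hplus
      have h := minus_model_no_half hac (U := (U.comap (D 0).subtype).map L.symm.toLinearMap) fun v hv => by
        obtain ⟨w, hw, rfl⟩ := hv
        rw [← hL, LinearEquiv.coe_coe, LinearEquiv.apply_symm_apply]
        change Qf (w : ι → F) = 0
        rw [hQf]
        exact hU _ hw
      rw [LinearEquiv.finrank_map_eq, (Submodule.comapSubtypeEquivOfLe hUC).finrank_eq] at h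
      omega
  choose E hE using fun i => hD.isometric 0 i
  let w : Fin 3 → Fin 2 → Fin 2 → ι → F := fun i s l => (E i (L (twoPlanes F s l)) : ι → F)
  have hwm : ∀ i s l, w i s l ∈ D i := fun i s l => (E i _).2
  have hwq : ∀ i s l, Q (w i s l) = 1 := fun i s l => by
    simp only [w]; rw [hE, hL, twoPlanes_value]
  have hwp : ∀ i s l s' l', polar Q (w i s l) (w i s' l') = if s = s' ∧ l ≠ l' then 1 else 0 := fun i s l s' l' => by
    simp only [w, polar]
    rw [← Submodule.coe_add, ← map_add, hE, hE, hE, ← map_add, hL, hL, hL]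
    exact twoPlanes_polar h2 s l s' l'
  let r : Fin 6 ≃ Fin 3 × Fin 2 := (finProdFinEquiv (m := 3) (n := 2)).symm
  let b : Fin 6 × Fin 2 → ι → F := fun x => w (r x.1).1 (r x.1).2 x.2
  let G : Matrix (Fin 2) (Fin 2) F := !![0, 1; 1, 0]
  have hgram : ∀ x y, polar Q (b x) (b y) = if x.1 = y.1 then G x.2 y.2 else 0 := by
    rintro ⟨p, l⟩ ⟨p', l'⟩
    simp only [b]
    split_ifs with h
    · subst h
      rw [hwp]
      fin_cases l <;> fin_cases l' <;> simp [G]
    · rcases eq_or_ne (r p).1 (r p').1 with e | e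
      · rw [e, hwp, if_neg]
        rintro ⟨hs, -⟩
        exact h (r.injective (Prod.ext e hs))
      · exact hD.decomp.orthogonal _ _ e _ (hwm _ _ _) _ (hwm _ _ _)
  have hcard : Fintype.card ι = 12 := by
    have := Cfsg.Agent.Classical.IsMDecomposition.card_eq hD.decomp.decomp
    omega
  have hnd := (reflexForm_of_quadratic hQ).nondeg_decomp_of_family (t := 6) (k := 2) (by norm_num) two_pos
    (by rw [hcard]) b (G := G) (by simp [G, Matrix.det_fin_two]) hgram
  have hbm : ∀ p l, b (p, l) ∈ blockSpan b p := fun p l => mem_blockSpan b p l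
  -- vectors of value one in a member lie in one of its planes
  have hkey : ∀ j, ∀ y ∈ D j, Q y = 1 → ∃ s, y ∈ blockSpan b (r.symm (j, s)) := by
    intro j y hy hy1
    let co : Fin 2 → Fin 2 → F := fun s l => polar Q y (w j s (1 - l))
    let p : Fin 2 → ι → F := fun s => co s 0 • w j s 0 + co s 1 • w j s 1
    have hsum : y = p 0 + p 1 := by
      by_contra hne
      obtain ⟨x, hx⟩ := (hQ.nondegenerate _ (sub_ne_zero.mpr hne)).2
      apply hx
      have htop : (⊤ : Submodule F (ι → F)) ≤ LinearMap.ker (polarBilin Qf (y - (p 0 + p 1))) := by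
        rw [← hnd.decomp.iSup_eq_top, iSup_le_iff]
        intro q
        rw [blockSpan, Submodule.span_le]
        rintro _ ⟨l, rfl⟩
        change polar Qf (y - (p 0 + p 1)) (b (q, l)) = 0
        rw [hQf, sub_eq_add_neg, hb.add_left, ← neg_one_smul F (p 0 + p 1), hb.smul_left, hb.add_left]
        simp only [p, hb.add_left, hb.smul_left, b]
        rcases eq_or_ne j (r q).1 with e | e
        · rw [← e, hwp, hwp, hwp, hwp]
          rcases (show (r q).2 = 0 ∨ (r q).2 = 1 by omega) with hs | hs <;>
            rcases (show l = 0 ∨ l = 1 by omega) with hl | hl <;> rw [hs, hl] <;> simp [co] <;> ring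
        · rw [hD.decomp.orthogonal j _ e _ hy _ (hwm _ _ _), hD.decomp.orthogonal j _ e _ (hwm _ _ _) _ (hwm _ _ _),
            hD.decomp.orthogonal j _ e _ (hwm _ _ _) _ (hwm _ _ _), hD.decomp.orthogonal j _ e _ (hwm _ _ _) _ (hwm _ _ _),
            hD.decomp.orthogonal j _ e _ (hwm _ _ _) _ (hwm _ _ _)]
          ring
      have := htop (Submodule.mem_top (x := x))
      change polar Qf (y - (p 0 + p 1)) x = 0 at this
      rwa [hQf] at this
    have hval : ∀ s, Q (p s) = co s 0 ^ 2 + co s 1 ^ 2 + co s 0 * co s 1 := fun s => by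
      have e : Q (p s) = Q (co s 0 • w j s 0) + Q (co s 1 • w j s 1) + polar Q (co s 0 • w j s 0) (co s 1 • w j s 1) := by
        simp only [p, polar]; ring
      rw [e, hQ.smul, hQ.smul, hwq, hwq, hb.smul_left, hb.smul_right, hwp, if_pos ⟨rfl, by decide⟩]
      ring
    have hp01 : polar Q (p 0) (p 1) = 0 := by
      simp only [p, hb.add_left, hb.add_right, hb.smul_left, hb.smul_right, hwp]
      simp
    have hpm : ∀ s, p s ∈ blockSpan b (r.symm (j, s)) := fun s => by
      have e : ∀ l, w j s l = b (r.symm (j, s), l) := fun l => by simp [b]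
      simp only [p]
      rw [e, e]
      exact (blockSpan b _).add_mem (Submodule.smul_mem _ _ (hbm _ _)) (Submodule.smul_mem _ _ (hbm _ _))
    have hzero : ∀ s, co s 0 = 0 → co s 1 = 0 → p s = 0 := fun s h h' => by simp [p, h, h']
    have hone : ∀ s, (co s 0 = 0 ∧ co s 1 = 0) ∨ Q (p s) = 1 := fun s => by
      rw [hval]
      rcases h01 (co s 0) with h | h <;> rcases h01 (co s 1) with h' | h' <;> rw [h, h']
      · exact Or.inl ⟨rfl, rfl⟩
      · exact Or.inr (by ring)
      · exact Or.inr (by ring)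
      · exact Or.inr (by linear_combination h2)
    rcases hone 0 with h | h
    · exact ⟨1, by rw [hsum, hzero 0 h.1 h.2, zero_add]; exact hpm 1⟩
    rcases hone 1 with h' | h'
    · exact ⟨0, by rw [hsum, hzero 1 h'.1 h'.2, add_zero]; exact hpm 0⟩
    exfalso
    have e : Q y = Q (p 0) + Q (p 1) + polar Q (p 0) (p 1) := by rw [hsum, polar]; ring
    rw [hy1, h, h', hp01] at e
    exact one_ne_zero (α := F) (by linear_combination e + h2)
  refine ⟨blockSpan b, ⟨hnd, fun p p' => ?_⟩, fun g hg => ?_⟩
  · -- all planes are alike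
    have hrange : ∀ p, LinearMap.range (Fintype.linearCombination F fun l => b (p, l)) = blockSpan b p := fun p => by
      rw [Fintype.range_linearCombination, blockSpan]
    have hinj : ∀ p, Function.Injective (Fintype.linearCombination F fun l => b (p, l)) := fun p => by
      rw [← LinearMap.ker_eq_bot]
      have h1 := (Fintype.linearCombination F fun l => b (p, l)).finrank_range_add_finrank_ker
      rw [hrange, hnd.decomp.finrank_eq, Module.finrank_fin_fun] at h1
      exact Submodule.finrank_eq_zero.mp (by omega)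
    have hv : ∀ p (z : Fin 2 → F), Q (Fintype.linearCombination F (fun l => b (p, l)) z) =
        z 0 ^ 2 + z 1 ^ 2 + z 0 * z 1 := fun p z => by
      rw [Fintype.linearCombination_apply, Fin.sum_univ_two]
      have e : Q (z 0 • b (p, 0) + z 1 • b (p, 1)) =
          Q (z 0 • b (p, 0)) + Q (z 1 • b (p, 1)) + polar Q (z 0 • b (p, 0)) (z 1 • b (p, 1)) := by
        simp only [polar]; ring
      rw [e, hQ.smul, hQ.smul, hb.smul_left, hb.smul_right, hgram, if_pos rfl]
      simp only [b, hwq]
      simp [G]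
    let φ : ∀ p, (Fin 2 → F) ≃ₗ[F] blockSpan b p := fun p =>
      (LinearEquiv.ofInjective _ (hinj p)).trans (LinearEquiv.ofEq _ _ (hrange p))
    have hφ : ∀ p z, Q ((φ p z : blockSpan b p) : ι → F) = z 0 ^ 2 + z 1 ^ 2 + z 0 * z 1 := fun p z => hv p z
    exact ⟨(φ p).symm.trans (φ p'), fun u => by
      obtain ⟨z, rfl⟩ := (φ p).surjective u
      rw [LinearEquiv.trans_apply, LinearEquiv.symm_apply_apply, hφ, hφ]⟩
  · refine mem_stabilizer_of_family hnd.decomp fun p => ?_
    obtain ⟨π, hπ⟩ := hle hg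
    have him : ∀ l, (g : Matrix ι ι F) *ᵥ b (p, l) ∈ D (π (r p).1) := fun l => by
      rw [← hπ]; exact ⟨_, hwm _ _ _, rfl⟩
    have hgQ : ∀ v, Q ((g : Matrix ι ι F) *ᵥ v) = Q v := mem_isometryGroup_iff.mp (hI hg)
    choose s hs using fun l => hkey _ _ (him l) ((hgQ _).trans (hwq _ _ _))
    have hpol : polar Q ((g : Matrix ι ι F) *ᵥ b (p, 0)) ((g : Matrix ι ι F) *ᵥ b (p, 1)) = 1 := by
      rw [polar, ← Matrix.mulVec_add, hgQ, hgQ, hgQ]
      have := hgram (p, 0) (p, 1)
      simpa [polar, G] using this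
    have hs01 : s 0 = s 1 := by
      by_contra hne
      have h0 := hnd.orthogonal _ _ (fun e => hne (congrArg Prod.snd (r.symm.injective e))) _ (hs 0) _ (hs 1)
      rw [hpol] at h0
      exact one_ne_zero h0
    refine ⟨r.symm (π (r p).1, s 0), fun l => ?_⟩
    rcases (show l = 0 ∨ l = 1 by omega) with rfl | rfl
    · exact hs 0
    · rw [hs01]; exact hs 1

end Cfsg.Agent.Classical.OEven
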