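/-
Tensor decompositions whose first factor has a monomial isometry group: the stabiliser is not maximal.
-/
import Mathlib
import Cfsg.Prelude.Def_GeometricClasses
import Cfsg.Agent.Lib.Classical.LinBasic
import Cfsg.Agent.Lib.Classical.OrthNotMax

set_option autoImplicit false
set_option linter.unusedSectionVars false

namespace Cfsg.Agent.Classical.TNotMax

open Matrix Module Cfsg.Geo Cfsg.Agent.Classical
open scoped Kronecker

variable {F : Type*} [Field F]

/-- Linear in the first variable, semilinear in the second. -/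
structure Sesq {κ : Type} (σ : F → F) (f : (κ → F) → (κ → F) → F) : Prop where
  add_left : ∀ x y v, f (x + y) v = f x v + f y v
  smul_left : ∀ (c : F) (x v : κ → F), f (c • x) v = c * f x v
  add_right : ∀ v x y, f v (x + y) = f v x + f v y
  smul_right : ∀ (c : F) (v x : κ → F), f v (c • x) = σ c * f v x

theorem Sesq.gram {κ : Type} [Fintype κ] [DecidableEq κ] {σ : F → F} {f : (κ → F) → (κ → F) → F}
    (hf : Sesq σ f) (u v : κ → F) : f u v = formOfGram σ (gramMatrix f) u v := by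
  have h1 : f (∑ a, u a • (Pi.single a 1 : κ → F)) v = ∑ a, u a * f (Pi.single a 1) v := by
    refine (map_sum (AddMonoidHom.mk' (fun x => f x v) fun x y => hf.add_left x y v) _ Finset.univ).trans ?_
    exact Finset.sum_congr rfl fun a _ => hf.smul_left _ _ _
  have h2 : ∀ x, f x (∑ b, v b • (Pi.single b 1 : κ → F)) = ∑ b, σ (v b) * f x (Pi.single b 1) := fun x => by
    refine (map_sum (AddMonoidHom.mk' (fun y => f x y) fun y z => hf.add_right x y z) _ Finset.univ).trans ?_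
    exact Finset.sum_congr rfl fun b _ => hf.smul_right _ _ _
  rw [← pi_eq_sum_univ' u] at h1
  rw [h1, formOfGram]
  refine Finset.sum_congr rfl fun a _ => ?_
  have h3 := h2 (Pi.single a 1)
  rw [← pi_eq_sum_univ' v] at h3
  rw [h3, Finset.mul_sum]
  exact Finset.sum_congr rfl fun b _ => by rw [gramMatrix]; ring

variable {ι : Type} [Fintype ι] [DecidableEq ι] {n₁ n₂ : ℕ}

/-- A pure tensor, as a linear map in the second factor. -/
def tau (e : ι ≃ Fin n₁ × Fin n₂) (P : GL ι F) (u : Fin n₁ → F) : (Fin n₂ → F) →ₗ[F] (ι → F) where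
  toFun v := (P : Matrix ι ι F) *ᵥ ((fun a => u a.1 * v a.2) ∘ e)
  map_add' v w := by rw [← mulVec_add]; congr 1; funext i; simp [mul_add]
  map_smul' c v := by rw [RingHom.id_apply, ← mulVec_smul]; congr 1; funext i; simp; ring

theorem tau_apply (e : ι ≃ Fin n₁ × Fin n₂) (P : GL ι F) (u : Fin n₁ → F) (v : Fin n₂ → F) :
    tau e P u v = (P : Matrix ι ι F) *ᵥ ((fun a => u a.1 * v a.2) ∘ e) := rfl

theorem tau_smul (e : ι ≃ Fin n₁ × Fin n₂) (P : GL ι F) (c : F) (u : Fin n₁ → F) (v : Fin n₂ → F) :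
    tau e P (c • u) v = tau e P u (c • v) := by
  simp only [tau_apply]; congr 1; funext i; simp; ring

theorem tau_injective (e : ι ≃ Fin n₁ × Fin n₂) (P : GL ι F) {u : Fin n₁ → F} (hu : u ≠ 0) :
    Function.Injective (tau e P u) := by
  intro v w h
  have h1 := gl_mulVec_injective P h
  obtain ⟨i, hi⟩ := Function.ne_iff.1 hu
  funext j
  have h2 := congrFun h1 (e.symm (i, j))
  simp at h2
  exact h2.resolve_right hi

theorem mem_tensor {e : ι ≃ Fin n₁ × Fin n₂} {P g : GL ι F} (hg : g ∈ tensorProductSubgroup n₁ n₂ e P) :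
    ∃ (a : GL (Fin n₁) F) (b : GL (Fin n₂) F), ∀ u v, (g : Matrix ι ι F) *ᵥ tau e P u v =
      tau e P ((a : Matrix (Fin n₁) (Fin n₁) F) *ᵥ u) ((b : Matrix (Fin n₂) (Fin n₂) F) *ᵥ v) := by
  obtain ⟨_, ⟨k, ⟨a, b, hk⟩, rfl⟩, rfl⟩ := hg
  refine ⟨a, b, fun u v => ?_⟩
  change ((P * glReindex e.symm k * P⁻¹ : GL ι F) : Matrix ι ι F) *ᵥ _ = _
  rw [gl_mul_mulVec, gl_mul_mulVec, tau_apply, gl_inv_mulVec_cancel, tau_apply]
  congr 1
  change (Matrix.reindex e.symm e.symm (k : Matrix (Fin n₁ × Fin n₂) (Fin n₁ × Fin n₂) F)) *ᵥ _ = _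
  rw [Matrix.reindex_apply, Equiv.symm_symm, Matrix.submatrix_mulVec_equiv, hk]
  funext i
  simp only [Function.comp_apply, Matrix.mulVec, dotProduct, Equiv.apply_symm_apply, Matrix.kroneckerMap_apply,
    Fintype.sum_prod_type, Finset.sum_mul_sum]
  exact Finset.sum_congr rfl fun _ _ => Finset.sum_congr rfl fun _ _ => by ring

variable {σ : F → F} {f : (ι → F) → (ι → F) → F} {f₁ : (Fin n₁ → F) → (Fin n₁ → F) → F}
  {f₂ : (Fin n₂ → F) → (Fin n₂ → F) → F} {e : ι ≃ Fin n₁ × Fin n₂} {P : GL ι F}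

theorem exists_pairing (hσ : ∀ x y, σ (x * y) = σ x * σ y) (hf₁ : Sesq σ f₁) (hf₂ : Sesq σ f₂)
    (hT : IsTensorFormStructure σ f f₁ f₂ e P) :
    ∃ c : F, c ≠ 0 ∧ ∀ (u u' : Fin n₁ → F) (v v' : Fin n₂ → F),
      f (tau e P u v) (tau e P u' v') = c * (f₁ u u' * f₂ v v') := by
  obtain ⟨c, hc, h⟩ := hT
  refine ⟨c, hc, fun u u' v v' => ?_⟩
  rw [tau_apply, tau_apply, h, hf₁.gram u u', hf₂.gram v v']
  congr 1
  simp only [formOfGram, Fintype.sum_prod_type, Matrix.kroneckerMap_apply, Function.comp_apply, hσ,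
    Finset.sum_mul, Finset.mul_sum]
  rw [Finset.sum_comm]
  refine Finset.sum_congr rfl fun b _ => ?_
  rw [Finset.sum_congr rfl fun a _ => Finset.sum_comm, Finset.sum_comm]
  exact Finset.sum_congr rfl fun b' _ => Finset.sum_congr rfl fun a _ =>
    Finset.sum_congr rfl fun a' _ => by ring

/-- The general criterion. -/
theorem not_max [Fintype F] (hσ : ∀ x y, σ (x * y) = σ x * σ y) (hf₁ : Sesq σ f₁) (hf₂ : Sesq σ f₂)
    (hnd : ∀ y, y ≠ 0 → ∃ y', f₂ y y' ≠ 0) (hT : IsTensorFormStructure σ f f₁ f₂ e P)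
    {Gs : Subgroup (GL ι F)}
    (hpres : ∀ g ∈ Gs, ∀ x y, f ((g : Matrix ι ι F) *ᵥ x) ((g : Matrix ι ι F) *ᵥ y) = f x y)
    {w : Fin n₁ → Fin n₁ → F} {d : F} (hd : d ≠ 0) (hw : ∀ j l, f₁ (w j) (w l) = if j = l then d else 0)
    (hmono : ∀ (a : GL (Fin n₁) F) (lam : F), lam ≠ 0 →
      (∀ u u', f₁ ((a : Matrix (Fin n₁) (Fin n₁) F) *ᵥ u) ((a : Matrix (Fin n₁) (Fin n₁) F) *ᵥ u') =
        lam * f₁ u u') → ∀ j, ∃ (l : Fin n₁) (μ : F), (a : Matrix (Fin n₁) (Fin n₁) F) *ᵥ w j = μ • w l)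
    {i₀ i₁ : Fin n₁} (hi : i₀ ≠ i₁)
    (h1 : ∃ g ∈ Gs, (∀ j v, ∃ v', (g : Matrix ι ι F) *ᵥ tau e P (w j) v = tau e P (w j) v') ∧
      (∀ v, (g : Matrix ι ι F) *ᵥ tau e P (w i₁) v = tau e P (w i₁) v) ∧
      ∃ v, ∀ μ : F, (g : Matrix ι ι F) *ᵥ tau e P (w i₀) v ≠ μ • tau e P (w i₀) v)
    (h2 : ∃ g ∈ Gs, ∃ v y z, y ≠ 0 ∧ z ≠ 0 ∧
      (g : Matrix ι ι F) *ᵥ tau e P (w i₀) v = tau e P (w i₀) y + tau e P (w i₁) z)
    (hfadd : ∀ x y v, f (x + y) v = f x v + f y v) :
    ∃ K : Subgroup (GL ι F), tensorProductSubgroup n₁ n₂ e P ⊓ Gs < K ∧ K < Gs := by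
  obtain ⟨c, hc, hpair⟩ := exists_pairing hσ hf₁ hf₂ hT
  obtain ⟨g₂, hg₂, v₂, y, z, hy, hz, hg₂x⟩ := h2
  obtain ⟨y', hy'⟩ := hnd y hy
  have hblock : ∀ j l v v', j ≠ l → f (tau e P (w j) v) (tau e P (w l) v') = 0 := fun j l v v' h => by
    rw [hpair, hw, if_neg h]; ring
  have hself : ∀ j v v', f₂ v v' ≠ 0 → f (tau e P (w j) v) (tau e P (w j) v') ≠ 0 := fun j v v' h => by
    rw [hpair, hw, if_pos rfl]; exact mul_ne_zero hc (mul_ne_zero hd h)
  have huniq : ∀ j l v v', tau e P (w j) v = tau e P (w l) v' → v ≠ 0 → j = l := fun j l v v' h hv => by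
    by_contra hne
    obtain ⟨v'', hv''⟩ := hnd v hv
    refine hself j v v'' hv'' ?_
    rw [h]
    exact hblock l j v' v'' (Ne.symm hne)
  have hw0 : ∀ j, w j ≠ 0 := fun j h => hd (by
    have h' := hw j j
    rw [if_pos rfl, h, ← zero_smul F (0 : Fin n₁ → F), hf₁.smul_left, zero_mul] at h'
    exact h'.symm)
  obtain ⟨D, hD⟩ : ∃ D : Fin n₁ → Submodule F (ι → F), ∀ j, D j = LinearMap.range (tau e P (w j)) :=
    ⟨_, fun _ => rfl⟩
  refine ⟨decompositionStabilizer D ⊓ Gs, lt_of_le_of_ne ?_ ?_, lt_of_le_of_ne inf_le_right ?_⟩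
  · rintro g ⟨hgt, hg⟩
    obtain ⟨a, b, hab⟩ := mem_tensor hgt
    obtain ⟨y₁, hy₁⟩ : ∃ y₁, (b : Matrix (Fin n₂) (Fin n₂) F) *ᵥ y₁ = y := ⟨_, gl_mulVec_inv_cancel b y⟩
    obtain ⟨y₂, hy₂⟩ : ∃ y₂, (b : Matrix (Fin n₂) (Fin n₂) F) *ᵥ y₂ = y' := ⟨_, gl_mulVec_inv_cancel b y'⟩
    have hsim : ∀ u u', f₁ ((a : Matrix (Fin n₁) (Fin n₁) F) *ᵥ u) ((a : Matrix (Fin n₁) (Fin n₁) F) *ᵥ u') =
        f₂ y₁ y₂ * (f₂ y y')⁻¹ * f₁ u u' := fun u u' => by
      have h := hpres g hg (tau e P u y₁) (tau e P u' y₂)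
      rw [hab, hab, hy₁, hy₂, hpair, hpair] at h
      have h' := mul_left_cancel₀ hc h
      field_simp
      linear_combination h'
    have hlam : f₂ y₁ y₂ * (f₂ y y')⁻¹ ≠ 0 := fun h0 => by
      obtain ⟨u, hu⟩ : ∃ u, (a : Matrix (Fin n₁) (Fin n₁) F) *ᵥ u = w i₀ := ⟨_, gl_mulVec_inv_cancel a _⟩
      have := hsim u u
      rw [hu, h0, zero_mul, hw, if_pos rfl] at this
      exact hd this
    choose l μ hl using hmono a _ hlam hsim
    have hmap : ∀ j, (D j).map (Matrix.toLin' (g : Matrix ι ι F)) = D (l j) := fun j => by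
      refine Submodule.eq_of_le_of_finrank_eq ?_ ?_
      · rintro _ ⟨x, hx, rfl⟩
        rw [SetLike.mem_coe, hD] at hx
        obtain ⟨v, rfl⟩ := hx
        rw [hD, Matrix.toLin'_apply, hab, hl, tau_smul]
        exact ⟨_, rfl⟩
      · rw [finrank_map_gl, hD, hD, LinearMap.finrank_range_of_inj (tau_injective e P (hw0 _)),
          LinearMap.finrank_range_of_inj (tau_injective e P (hw0 _))]
    have hlinj : Function.Injective l := by
      intro j j' h
      have he : D j = D j' := Submodule.map_injective_of_injective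
        (fun u v h => gl_mulVec_injective g (by simpa using h)) ((hmap j).trans (h ▸ (hmap j').symm))
      have hm : tau e P (w j) y ∈ D j := by rw [hD]; exact ⟨y, rfl⟩
      rw [he, hD] at hm
      obtain ⟨v, hv⟩ := hm
      exact huniq j j' y v hv.symm hy
    exact ⟨⟨Equiv.ofBijective l (Finite.injective_iff_bijective.1 hlinj), hmap⟩, hg⟩
  · intro heq
    obtain ⟨g, hg, hinv, hfix, v₀, hv₀⟩ := h1
    have hgK : g ∈ decompositionStabilizer D ⊓ Gs := by
      refine ⟨⟨1, fun j => ?_⟩, hg⟩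
      refine map_eq_of_le_gl (map_toLin'_le.mpr fun x hx => ?_)
      rw [hD] at hx ⊢
      obtain ⟨v, rfl⟩ := hx
      obtain ⟨v', hv'⟩ := hinv j v
      exact ⟨v', hv'.symm⟩
    rw [← heq] at hgK
    obtain ⟨a, b, hab⟩ := mem_tensor hgK.1
    obtain ⟨y₁, hy₁⟩ : ∃ y₁, (b : Matrix (Fin n₂) (Fin n₂) F) *ᵥ y₁ = y := ⟨_, gl_mulVec_inv_cancel b y⟩
    obtain ⟨y₂, hy₂⟩ : ∃ y₂, (b : Matrix (Fin n₂) (Fin n₂) F) *ᵥ y₂ = y' := ⟨_, gl_mulVec_inv_cancel b y'⟩
    have hsim : ∀ u u', f₁ ((a : Matrix (Fin n₁) (Fin n₁) F) *ᵥ u) ((a : Matrix (Fin n₁) (Fin n₁) F) *ᵥ u') =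
        f₂ y₁ y₂ * (f₂ y y')⁻¹ * f₁ u u' := fun u u' => by
      have h := hpres g hg (tau e P u y₁) (tau e P u' y₂)
      rw [hab, hab, hy₁, hy₂, hpair, hpair] at h
      have h' := mul_left_cancel₀ hc h
      field_simp
      linear_combination h'
    have hlam : f₂ y₁ y₂ * (f₂ y y')⁻¹ ≠ 0 := fun h0 => by
      obtain ⟨u, hu⟩ : ∃ u, (a : Matrix (Fin n₁) (Fin n₁) F) *ᵥ u = w i₀ := ⟨_, gl_mulVec_inv_cancel a _⟩
      have := hsim u u
      rw [hu, h0, zero_mul, hw, if_pos rfl] at this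
      exact hd this
    choose l μ hl using hmono a _ hlam hsim
    have e1 : ∀ v, μ i₁ • ((b : Matrix (Fin n₂) (Fin n₂) F) *ᵥ v) = v := fun v => by
      have h := hab (w i₁) v
      rw [hfix, hl, tau_smul] at h
      by_cases hv : v = 0
      · rw [hv, mulVec_zero, smul_zero]
      rw [← huniq _ _ _ _ h hv] at h
      exact (tau_injective e P (hw0 _) h).symm
    have hμ : μ i₁ ≠ 0 := fun h0 => hy (by rw [← e1 y, h0, zero_smul])
    have hb : ∀ v, (b : Matrix (Fin n₂) (Fin n₂) F) *ᵥ v = (μ i₁)⁻¹ • v := fun v => by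
      conv_rhs => rw [← e1 v]
      rw [smul_smul, inv_mul_cancel₀ hμ, one_smul]
    obtain ⟨v', hv'⟩ := hinv i₀ v₀
    have h := hab (w i₀) v₀
    rw [hl, tau_smul, hb, smul_smul] at h
    by_cases hlv : l i₀ = i₀
    · rw [hlv] at h
      exact hv₀ (μ i₀ * (μ i₁)⁻¹) (by rw [h, map_smul])
    · rw [hv'] at h
      by_cases hv'0 : v' = 0
      · exact hv₀ 0 (by rw [hv', hv'0, map_zero, zero_smul])
      · exact hlv (huniq _ _ _ _ h hv'0).symm
  · intro heq
    rw [← heq] at hg₂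
    obtain ⟨τ, hτ⟩ := hg₂.1
    have hm : (g₂ : Matrix ι ι F) *ᵥ tau e P (w i₀) v₂ ∈ D (τ i₀) := by
      rw [← hτ]
      exact ⟨tau e P (w i₀) v₂, by rw [hD]; exact ⟨v₂, rfl⟩, Matrix.toLin'_apply _ _⟩
    rw [hD] at hm
    obtain ⟨x, hx⟩ := hm
    rw [hg₂x] at hx
    obtain ⟨z', hz'⟩ := hnd z hz
    have key : ∀ i : Fin n₁, ∀ v', f (tau e P (w (τ i₀)) x) (tau e P (w i) v') ≠ 0 → τ i₀ = i :=
      fun i v' h => by
        by_contra hne
        exact h (hblock _ _ _ _ hne)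
    have k0 := key i₀ y' (by rw [hx, hfadd, hblock i₁ i₀ z y' hi.symm, add_zero]; exact hself i₀ y y' hy')
    have k1 := key i₁ z' (by rw [hx, hfadd, hblock i₀ i₁ y z' hi, zero_add]; exact hself i₁ z z' hz')
    exact hi (k0.symm.trans k1)

/-- The frame of a symmetric form in dimension three over three elements; similitudes are monomial. -/
theorem frame_three [Fintype F] (hq : Fintype.card F = 3) {g : (Fin 3 → F) → (Fin 3 → F) → F}
    (hg : IsSymmetricForm g) :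
    ∃ (w : Fin 3 → Fin 3 → F) (d : F), d ≠ 0 ∧ (∀ j l, g (w j) (w l) = if j = l then d else 0) ∧
      ∀ (a : GL (Fin 3) F) (lam : F), lam ≠ 0 →
        (∀ u u', g ((a : Matrix (Fin 3) (Fin 3) F) *ᵥ u) ((a : Matrix (Fin 3) (Fin 3) F) *ᵥ u') = lam * g u u') →
        ∀ j, ∃ (l : Fin 3) (μ : F), (a : Matrix (Fin 3) (Fin 3) F) *ᵥ w j = μ • w l := by
  have h2 := ONotMax.two_ne_zero' hq
  obtain ⟨B, hB⟩ : ∃ B : LinearMap.BilinForm F (Fin 3 → F), ∀ u v, B u v = g u v :=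
    ⟨LinearMap.mk₂ F g hg.bilinear.add_left (fun c x v => hg.bilinear.smul_left c x v)
      hg.bilinear.add_right (fun c v x => hg.bilinear.smul_right c v x), fun _ _ => rfl⟩
  obtain ⟨Q, hQ⟩ : ∃ Q : QuadraticForm F (Fin 3 → F), Q = LinearMap.BilinMap.toQuadraticMap B := ⟨_, rfl⟩
  have hQx : ∀ u, Q u = g u u := fun u => by rw [hQ, LinearMap.BilinMap.toQuadraticMap_apply, hB]
  have hpol : ∀ u v, QuadraticMap.polar Q u v = 2 * g u v := fun u v => by
    rw [QuadraticMap.polar, hQx, hQx, hQx, hg.bilinear.add_left, hg.bilinear.add_right, hg.bilinear.add_right,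
      hg.symm v u]
    ring
  obtain ⟨d, w, hd, -, hval, hperp⟩ := ONotMax.space_frame (Q := Q) hq (W := ⊤)
    (by rw [finrank_top, Module.finrank_pi, Fintype.card_fin]) (fun v _ hv => by
      obtain ⟨⟨x, hx⟩, y, hy⟩ := hg.nondegenerate v hv
      exact ⟨⟨x, trivial, by rw [hpol]; exact mul_ne_zero h2 hx⟩, y, trivial, by rw [hpol]; exact mul_ne_zero h2 hy⟩)
  have hgw : ∀ j l, g (w j) (w l) = if j = l then d else 0 := fun j l => by
    by_cases h : j = l
    · subst h; rw [if_pos rfl, ← hQx, hval]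
    · rw [if_neg h]
      exact (mul_eq_zero.1 ((hpol _ _).symm.trans (hperp j l h))).resolve_left h2
  refine ⟨w, d, hd, hgw, fun a lam hlam hsim j => ?_⟩
  have h3 : (3 : F) = 0 := by
    have := FiniteField.cast_card_eq_zero F
    rw [hq] at this
    exact_mod_cast this
  have hind : LinearIndependent F w := by
    refine Fintype.linearIndependent_iff.2 fun s hs l => ?_
    have h1 := congrArg (fun v => B v (w l)) hs
    simp [map_sum, hB, hgw, hd] at h1
    exact h1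
  have hspan := hind.span_eq_top_of_card_eq_finrank' (by simp)
  have hex : ∀ x, ∃ s : Fin 3 → F, ∑ i, s i • w i = x := fun x => by
    have : x ∈ Submodule.span F (Set.range w) := hspan ▸ Submodule.mem_top
    exact (Submodule.mem_span_range_iff_exists_fun F).1 this
  choose A hA using fun i => hex ((a : Matrix (Fin 3) (Fin 3) F) *ᵥ w i)
  have hrow : ∀ i k, ∑ l, A i l * A k l = if i = k then lam else 0 := fun i k => by
    have h1 := hsim (w i) (w k)
    rw [← hA i, ← hA k, ← hB] at h1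
    simp [map_sum, hB, hgw] at h1
    refine mul_left_cancel₀ hd ?_
    by_cases hik : i = k
    · rw [if_pos hik] at h1 ⊢
      rw [Finset.mul_sum]
      exact (Finset.sum_congr rfl fun l _ => by ring).trans (h1.trans (mul_comm _ _))
    · rw [if_neg hik] at h1 ⊢
      rw [Finset.mul_sum, mul_zero]
      exact (Finset.sum_congr rfl fun l _ => by ring).trans h1
  have hsq : Matrix.of A * (Matrix.of A)ᵀ = lam • (1 : Matrix (Fin 3) (Fin 3) F) := by
    ext i k
    rw [Matrix.mul_apply]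
    simp [hrow, Matrix.one_apply]
  have hdet : (Matrix.of A).det * (Matrix.of A).det = lam ^ 3 := by
    have h1 := congrArg Matrix.det hsq
    rwa [Matrix.det_mul, Matrix.det_transpose, Matrix.det_smul, Matrix.det_one, mul_one, Fintype.card_fin] at h1
  have hlam1 : lam = 1 := by
    rcases ONotMax.eq_one_or_neg hq hlam with h | h
    · exact h
    · exfalso
      rw [h] at hdet
      have hA0 : (Matrix.of A).det ≠ 0 := fun h0 => one_ne_zero (α := F) (by
        rw [h0] at hdet; linear_combination hdet)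
      rcases ONotMax.eq_one_or_neg hq hA0 with h' | h' <;> rw [h'] at hdet <;>
        exact h2 (by linear_combination hdet)
  have hone : ∑ l, A j l * A j l = 1 := by rw [hrow, if_pos rfl, hlam1]
  rw [Fin.sum_univ_three] at hone
  have hsum := hA j
  rw [Fin.sum_univ_three] at hsum
  have sqv : ∀ i, A j i ≠ 0 → A j i * A j i = 1 := fun i h => by
    rcases ONotMax.eq_one_or_neg hq h with h' | h' <;> rw [h'] <;> ring
  by_cases h0 : A j 0 = 0 <;> by_cases h1 : A j 1 = 0 <;> by_cases h2' : A j 2 = 0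
  · exact absurd (by rw [← hone, h0, h1, h2']; ring) (one_ne_zero (α := F))
  · exact ⟨2, A j 2, by rw [← hsum, h0, h1]; simp⟩
  · exact ⟨1, A j 1, by rw [← hsum, h0, h2']; simp⟩
  · rw [h0, sqv 1 h1, sqv 2 h2'] at hone
    exact absurd (by linear_combination hone) (one_ne_zero (α := F))
  · exact ⟨0, A j 0, by rw [← hsum, h1, h2']; simp⟩
  · rw [h1, sqv 0 h0, sqv 2 h2'] at hone
    exact absurd (by linear_combination hone) (one_ne_zero (α := F))
  · rw [h2', sqv 0 h0, sqv 1 h1] at hone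
    exact absurd (by linear_combination hone) (one_ne_zero (α := F))
  · rw [sqv 0 h0, sqv 1 h1, sqv 2 h2'] at hone
    exact absurd (by linear_combination h3 - hone) (one_ne_zero (α := F))

end Cfsg.Agent.Classical.TNotMax
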