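/-
Groups of symplectic type and tensor decompositions for orthogonal groups of dimension twelve.
-/
import Cfsg.Agent.Lib.Classical.OrthEvenBase
import Cfsg.Agent.Lib.Classical.OrthEvenCases
import Cfsg.Agent.Lib.Classical.FormSquareSplit
import Cfsg.Agent.Lib.Classical.FormPower
import Cfsg.Agent.Lib.Classical.TensorNotMax
import Cfsg.Agent.Lib.Classical.LinAschbacher

set_option autoImplicit false
set_option linter.unusedSectionVars false
set_option linter.style.haveILetI false

namespace Cfsg.Agent.Classical.OEven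

open Matrix Module Cfsg.Geo OCount
open scoped Kronecker
open QuadraticMap (polar polarBilin)

variable {ι : Type} [Fintype ι] [DecidableEq ι] {F : Type*} [Field F]

/-- Elements of Ω have determinant one. -/
theorem det_omega {Q : (ι → F) → F} {g : GL ι F} (hg : g ∈ omegaGL Q) : (g : Matrix ι ι F).det = 1 := by
  obtain ⟨γ, hγ, rfl⟩ := hg
  have h := Abelianization.commutator_subset_ker
    ((Matrix.GeneralLinearGroup.det (n := ι) (R := F)).comp (isometryGroup F Q).subtype) hγ
  have h' := congrArg Units.val (MonoidHom.mem_ker.mp h)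
  simpa using h'

/-- An element of small codimension in a tensor stabiliser preserves each space of tensors with a fixed left factor. -/
theorem preserves_left_of_fixCodim {d n₁ n₂ : ℕ} {g : GL ι F} (hg : FixCodim d g) (hd : d < n₂) (hn₁ : 0 < n₁)
    {e : ι ≃ Fin n₁ × Fin n₂} {P : GL ι F} (hmem : g ∈ tensorProductSubgroup n₁ n₂ e P) (u : Fin n₁ → F) :
    ∀ v ∈ LinearMap.range (TNotMax.tau e P u), (g : Matrix ι ι F) *ᵥ v ∈ LinearMap.range (TNotMax.tau e P u) := by
  obtain ⟨a, b, hab⟩ := TNotMax.mem_tensor hmem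
  obtain ⟨φ, hφ⟩ := hg
  haveI : Nonempty (Fin n₁) := ⟨⟨0, hn₁⟩⟩
  obtain ⟨c, hc⟩ := scalar_of_all_eigen (M := (a : Matrix (Fin n₁) (Fin n₁) F)) fun x hx => by
    obtain ⟨y, hy0, hy⟩ := exists_ne_zero_map_zero (φ ∘ₗ TNotMax.tau e P x) (by
      rw [Module.finrank_fin_fun, Module.finrank_fin_fun]; exact hd)
    have h := hφ _ hy
    rw [hab, TNotMax.tau_apply, TNotMax.tau_apply] at h
    have h' := gl_mulVec_injective P h
    obtain ⟨j, hj⟩ := Function.ne_iff.mp hy0
    obtain ⟨i, hi⟩ := Function.ne_iff.mp hx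
    have hpt : ∀ i, ((a : Matrix (Fin n₁) (Fin n₁) F) *ᵥ x) i * ((b : Matrix (Fin n₂) (Fin n₂) F) *ᵥ y) j = x i * y j :=
      fun i => by simpa using congrFun h' (e.symm (i, j))
    have hb0 : ((b : Matrix (Fin n₂) (Fin n₂) F) *ᵥ y) j ≠ 0 := fun e0 => mul_ne_zero hi hj (by
      rw [← hpt i, e0, mul_zero])
    exact ⟨y j / ((b : Matrix (Fin n₂) (Fin n₂) F) *ᵥ y) j, funext fun i => by
      rw [Pi.smul_apply, smul_eq_mul, div_mul_eq_mul_div, eq_div_iff hb0, mul_comm (y j), hpt]⟩
  rintro _ ⟨v, rfl⟩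
  exact ⟨c • ((b : Matrix (Fin n₂) (Fin n₂) F) *ᵥ v), by
    rw [hab, hc, Matrix.smul_mulVec, Matrix.one_mulVec, TNotMax.tau_smul]⟩

variable [Fintype F]

/-- Ω lies in no tensor stabiliser with a factor of dimension above two. -/
theorem omega_not_tensor {Qf : QuadraticForm F (ι → F)} (hP : PND Qf) (hn : 5 ≤ Fintype.card ι) {n₁ n₂ : ℕ}
    (h₁ : 2 ≤ n₁) (h₂ : 2 < n₂) (e : ι ≃ Fin n₁ × Fin n₂) (P : GL ι F) :
    ¬ omegaGL ⇑Qf ≤ tensorProductSubgroup n₁ n₂ e P := by
  intro hle
  let u : Fin n₁ → F := Pi.single ⟨0, by omega⟩ 1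
  have hu : u ≠ 0 := by simp [u]
  have hd : finrank F (LinearMap.range (TNotMax.tau e P u)) = n₂ := by
    rw [LinearMap.finrank_range_of_inj (TNotMax.tau_injective e P hu), Module.finrank_fin_fun]
  rcases eq_bot_or_top_of_fixCodim hP hn (W := LinearMap.range (TNotMax.tau e P u))
    (fun g hg hgd => preserves_left_of_fixCodim hgd h₂ (by omega) (hle hg) u) with h | h
  · rw [h, finrank_bot] at hd; omega
  · rw [h, finrank_top, Module.finrank_pi, Fintype.card_congr e, Fintype.card_prod, Fintype.card_fin,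
      Fintype.card_fin] at hd
    nlinarith

/-- A group of symplectic type forces a dimension whose square is a power of two. -/
theorem card_of_symplectic {Q : (ι → F) → F} (hQ : IsNondegenerateQuadraticForm Q) (hn : 5 ≤ Fintype.card ι)
    {M : Subgroup (GL ι F)} (hI : M ≤ isometryGroup F Q) (ha : ActsAbsolutelyIrreducibly (matrixSet M))
    (hne : ∃ x ∈ M, ∃ y ∈ M, x * y ≠ y * x) (hc : ∀ x ∈ M, ∀ y ∈ M, x * y * x⁻¹ * y⁻¹ ∈ scalars ι F) :
    ∃ j, Fintype.card ι * Fintype.card ι = 2 ^ j := by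
  classical
  obtain ⟨h2, hsq, hpm, -⟩ := involution_of_symplectic hQ hn hI ha hne hc
  haveI : Nonempty ι := Fintype.card_pos_iff.mp (by omega)
  haveI : Fintype M := Fintype.ofFinite M
  haveI : Fact (Nat.Prime 2) := ⟨Nat.prime_two⟩
  let X : M → Matrix ι ι F := fun g => ((g : GL ι F) : Matrix ι ι F)
  have hXmul : ∀ g h, X (g * h) = X g * X h := fun g h => rfl
  have hX1 : X 1 = 1 := rfl
  have hXinv : ∀ g, X g * X g⁻¹ = 1 := fun g => by rw [← hXmul, mul_inv_cancel, hX1]
  let N : Subgroup M := (scalars ι F).subgroupOf M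
  haveI : N.Normal := ⟨fun z hz g => by
    have h : (z : GL ι F) * (g : GL ι F) = (g : GL ι F) * (z : GL ι F) := scalars_commute hz (g : GL ι F)
    change (g : GL ι F) * (z : GL ι F) * (g : GL ι F)⁻¹ ∈ scalars ι F
    rw [← h, mul_inv_cancel_right]
    exact hz⟩
  have hN : ∀ g : M, g ∈ N ↔ ∃ c : F, X g = c • 1 := fun g => by
    constructor
    · intro h
      obtain ⟨c, hc'⟩ := (mem_scalars_iff _).mp h
      exact ⟨c, hc'⟩
    · rintro ⟨c, hc'⟩
      exact mem_scalars_of_eq hc'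
  have hsqN : ∀ g : M, g * g ∈ N := fun g => (hN _).mpr (by
    rcases hsq g g.2 with h | h
    · exact ⟨1, by rw [one_smul]; exact h⟩
    · exact ⟨-1, by rw [neg_one_smul]; exact h⟩)
  obtain ⟨j, hj⟩ := (IsPGroup.iff_card (p := 2)).mp (show IsPGroup 2 (M ⧸ N) from fun q => ⟨1, by
    obtain ⟨g, rfl⟩ := QuotientGroup.mk_surjective q
    rw [pow_one, pow_two, ← QuotientGroup.mk_mul, QuotientGroup.eq_one_iff]
    exact hsqN g⟩)
  obtain ⟨i, hi⟩ := (IsPGroup.iff_card (p := 2)).mp (show IsPGroup 2 M from fun g => ⟨2, Subtype.ext (Units.ext (by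
    rw [Subgroup.coe_pow, Units.val_pow_eq_pow_val, show (2 : ℕ) ^ 2 = 2 + 2 from rfl, pow_add, pow_two]
    rcases hsq g g.2 with h | h <;> rw [h] <;> simp))⟩)
  have hM0 : (Fintype.card M : F) ≠ 0 := by
    rw [← Nat.card_eq_fintype_card, hi, Nat.cast_pow]
    exact pow_ne_zero _ (by exact_mod_cast h2)
  -- elements outside the scalars have trace zero
  have htr : ∀ g : M, g ∉ N → (X g).trace = 0 := by
    intro g hg
    obtain ⟨h, hh⟩ : ∃ h : M, X g * X h ≠ X h * X g := by
      by_contra hall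
      push Not at hall
      exact hg ((hN g).mpr (ha.2 (X g) (by rintro _ ⟨w, hw, rfl⟩; exact hall ⟨w, hw⟩)))
    have e := (hpm g g.2 h h.2).resolve_left hh
    have e1 : X h⁻¹ * (X g * X h) = -(X g) := by
      rw [show X g * X h = -(X h * X g) from e, Matrix.mul_neg, ← Matrix.mul_assoc, ← hXmul, inv_mul_cancel, hX1,
        Matrix.one_mul]
    have e2 := congrArg Matrix.trace e1
    rw [Matrix.trace_mul_comm, Matrix.mul_assoc, hXinv, Matrix.mul_one, Matrix.trace_neg] at e2
    exact (mul_eq_zero.mp (show (2 : F) * (X g).trace = 0 by linear_combination e2)).resolve_left h2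
  -- averaging
  have havg : ∀ Y : Matrix ι ι F, ∃ c : F, (∑ g : M, X g * Y * X g⁻¹) = c • 1 ∧
      c * (Fintype.card ι : F) = (Fintype.card M : F) * Y.trace := by
    intro Y
    obtain ⟨c, hc'⟩ := ha.2 (∑ g : M, X g * Y * X g⁻¹) (by
      rintro _ ⟨w, hw, rfl⟩
      change (∑ g : M, X g * Y * X g⁻¹) * X ⟨w, hw⟩ = X ⟨w, hw⟩ * ∑ g : M, X g * Y * X g⁻¹
      rw [Finset.sum_mul, Finset.mul_sum]
      refine (Equiv.sum_comp (Equiv.mulLeft (⟨w, hw⟩ : M)) fun g => X g * Y * X g⁻¹ * X ⟨w, hw⟩).symm.trans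
        (Finset.sum_congr rfl fun g _ => ?_)
      simp only [Equiv.coe_mulLeft, _root_.mul_inv_rev, hXmul, Matrix.mul_assoc]
      rw [← hXmul (⟨w, hw⟩ : M)⁻¹, inv_mul_cancel, hX1, Matrix.mul_one])
    refine ⟨c, hc', ?_⟩
    have e := congrArg Matrix.trace hc'
    rw [Matrix.trace_sum, Matrix.trace_smul, Matrix.trace_one, smul_eq_mul,
      Finset.sum_congr rfl fun g _ => (show (X g * Y * X g⁻¹).trace = Y.trace by
        rw [Matrix.trace_mul_comm, ← Matrix.mul_assoc, ← hXmul, inv_mul_cancel, hX1, Matrix.one_mul]),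
      Finset.sum_const, Finset.card_univ, nsmul_eq_mul] at e
    exact e.symm
  obtain ⟨i₀⟩ := ‹Nonempty ι›
  have hn0 : (Fintype.card ι : F) ≠ 0 := fun h0 => by
    obtain ⟨c, -, hc'⟩ := havg (Matrix.single i₀ i₀ 1)
    rw [h0, mul_zero, Matrix.trace_single_eq_same, mul_one] at hc'
    exact hM0 hc'.symm
  -- Schur orthogonality
  have horth : ∀ a b j i : ι, (∑ g : M, X g⁻¹ j i * X g a b) * (Fintype.card ι : F) =
      if a = i ∧ b = j then (Fintype.card M : F) else 0 := by
    intro a b j i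
    obtain ⟨c, hcs, hct⟩ := havg (Matrix.single b j 1)
    have e := congrFun (congrFun hcs a) i
    rw [Matrix.sum_apply] at e
    have e' : ∑ g : M, X g⁻¹ j i * X g a b = c * (1 : Matrix ι ι F) a i := by
      rw [← smul_eq_mul, ← Matrix.smul_apply, ← e]
      exact Finset.sum_congr rfl fun g _ => by
        simp [Matrix.mul_apply, Matrix.single_apply, ite_and, Finset.sum_ite_eq, mul_comm]
    rw [e', Matrix.one_apply]
    rcases eq_or_ne a i with rfl | hne
    · rcases eq_or_ne b j with rfl | hbj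
      · rw [if_pos rfl, if_pos ⟨rfl, rfl⟩, mul_one, hct, Matrix.trace_single_eq_same, mul_one]
      · rw [if_pos rfl, if_neg (fun h => hbj h.2), mul_one, hct, Matrix.trace_single_eq_of_ne b j (1 : F) hbj, mul_zero]
    · rw [if_neg hne, mul_zero, zero_mul, if_neg fun h => hne h.1]
  haveI : Fintype (M ⧸ N) := Fintype.ofFinite _
  let b : M ⧸ N → Matrix ι ι F := fun q => X q.out
  have hspan : ∀ Y : Matrix ι ι F, Y ∈ Submodule.span F (Set.range b) := by
    intro Y
    have hg : ∀ g : M, X g ∈ Submodule.span F (Set.range b) := fun g => by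
      obtain ⟨z, hz⟩ := QuotientGroup.mk_out_eq_mul N g
      obtain ⟨c, hc'⟩ := (hN _).mp z.2
      have e : b (g : M ⧸ N) = c • X g := by
        simp only [b]; rw [hz, hXmul, hc', Matrix.mul_smul, Matrix.mul_one]
      have hc0 : c ≠ 0 := fun h0 => by
        have h1 := hXinv (z : M)
        rw [hc', h0, zero_smul, Matrix.zero_mul] at h1
        exact zero_ne_one h1
      rw [show X g = c⁻¹ • b (g : M ⧸ N) by rw [e, smul_smul, inv_mul_cancel₀ hc0, one_smul]]
      exact Submodule.smul_mem _ _ (Submodule.subset_span ⟨_, rfl⟩)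
    have key : (∑ g : M, (X g⁻¹ * Y).trace • X g) = ((Fintype.card M : F) / Fintype.card ι) • Y := by
      ext a c
      rw [Matrix.sum_apply, Matrix.smul_apply, smul_eq_mul, div_mul_eq_mul_div, eq_div_iff hn0]
      simp only [Matrix.smul_apply, smul_eq_mul, Matrix.trace, Matrix.diag, Matrix.mul_apply, Finset.sum_mul]
      rw [Finset.sum_comm]
      rw [Finset.sum_eq_single_of_mem c (Finset.mem_univ c) fun j _ hj => ?_]
      · rw [Finset.sum_comm, Finset.sum_eq_single_of_mem a (Finset.mem_univ a) fun i _ hi => ?_]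
        · rw [← Finset.sum_mul]
          calc _ = Y a c * ((∑ g : M, X g⁻¹ c a * X g a c) * (Fintype.card ι : F)) := by
                rw [Finset.sum_mul, Finset.sum_mul, Finset.mul_sum]; exact Finset.sum_congr rfl fun g _ => by ring
            _ = _ := by rw [horth, if_pos ⟨rfl, rfl⟩]; ring
        · calc _ = Y i c * ((∑ g : M, X g⁻¹ c i * X g a c) * (Fintype.card ι : F)) := by
                rw [Finset.sum_mul, Finset.mul_sum]; exact Finset.sum_congr rfl fun g _ => by ring
            _ = _ := by rw [horth, if_neg (fun h => hi h.1.symm), mul_zero]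
      · rw [Finset.sum_comm]
        refine Finset.sum_eq_zero fun i _ => ?_
        calc _ = Y i j * ((∑ g : M, X g⁻¹ j i * X g a c) * (Fintype.card ι : F)) := by
              rw [Finset.sum_mul, Finset.mul_sum]; exact Finset.sum_congr rfl fun g _ => by ring
          _ = _ := by rw [horth, if_neg (fun h => hj h.2.symm), mul_zero]
    have hmem : ((Fintype.card M : F) / Fintype.card ι) • Y ∈ Submodule.span F (Set.range b) :=
      key ▸ Submodule.sum_mem _ fun g _ => Submodule.smul_mem _ _ (hg g)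
    exact (Submodule.smul_mem_iff _ (div_ne_zero hM0 hn0)).mp hmem
  have hli : LinearIndependent F b := by
    rw [Fintype.linearIndependent_iff]
    intro s hs p
    have e := congrArg (fun Z => (Z * X (Quotient.out p)⁻¹).trace) hs
    simp only [Finset.sum_mul, Matrix.smul_mul, Matrix.trace_sum, Matrix.trace_smul, Matrix.zero_mul,
      Matrix.trace_zero, b] at e
    rw [Finset.sum_eq_single_of_mem p (Finset.mem_univ p) fun q _ hq => ?_] at e
    · rw [hXinv, Matrix.trace_one, smul_eq_mul] at e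
      exact (mul_eq_zero.mp e).resolve_right hn0
    · rw [← hXmul, htr _ fun hm => hq ?_, smul_zero]
      have h1 := (QuotientGroup.eq_one_iff (N := N) (q.out * (p.out)⁻¹)).mpr hm
      rwa [QuotientGroup.mk_mul, QuotientGroup.mk_inv, QuotientGroup.out_eq', QuotientGroup.out_eq',
        mul_inv_eq_one] at h1
  have h1 := Module.finrank_eq_card_basis (Basis.mk hli fun Y _ => hspan Y)
  rw [Module.finrank_matrix, Module.finrank_self, mul_one, ← Nat.card_eq_fintype_card (α := M ⧸ N), hj] at h1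
  exact ⟨j, h1⟩

/-! ### Tensor factors -/

theorem gram_symplectic_two {κ : Type} [Fintype κ] [DecidableEq κ] (h2 : (2 : F) = 0) {G : Matrix κ κ F}
    (hdet : G.det ≠ 0) (hs : ∀ i j, G j i = G i j) (hd : ∀ i, G i i = 0) :
    IsSymplecticForm (gramForm (RingEquiv.refl F) G) := by
  have hf : IsReflexForm (RingEquiv.refl F) (-1) (gramForm (RingEquiv.refl F) G) :=
    gramForm_reflex (fun _ => rfl) hdet fun i j => by
      rw [RingEquiv.refl_apply, hs i j]; linear_combination (G i j) * h2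
  refine ⟨bilinear_of_semi hf.semi, fun v w => ?_, fun v => alternating_dot h2 hs hd v, hf.nondeg⟩
  have := hf.swap w v
  simpa using this

/-- A symmetric matrix as a quadratic form. -/
theorem gram_quadratic {κ : Type} [Fintype κ] [DecidableEq κ] (h2 : (2 : F) ≠ 0) {G : Matrix κ κ F} (hdet : G.det ≠ 0)
    (hs : ∀ i j, G j i = G i j) :
    IsNondegenerateQuadraticForm (fun v : κ → F => gramForm (RingEquiv.refl F) G v v) ∧
      ∀ u v, polar (fun v : κ → F => gramForm (RingEquiv.refl F) G v v) u v = 2 * gramForm (RingEquiv.refl F) G u v := by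
  have hf := gram_symmetric hdet hs
  have hpol : ∀ u v, polar (fun v : κ → F => gramForm (RingEquiv.refl F) G v v) u v =
      2 * gramForm (RingEquiv.refl F) G u v := fun u v => by
    simp only [polar]
    rw [hf.bilinear.add_left, hf.bilinear.add_right, hf.bilinear.add_right, hf.symm v u]
    ring
  refine ⟨⟨fun c v => ?_, ⟨fun x y v => ?_, fun c x v => ?_, fun v x y => ?_, fun c v x => ?_⟩, fun v hv => ?_⟩, hpol⟩
  · change gramForm (RingEquiv.refl F) G (c • v) (c • v) = _
    rw [hf.bilinear.smul_left, hf.bilinear.smul_right]; ring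
  · rw [hpol, hpol, hpol, hf.bilinear.add_left]; ring
  · rw [hpol, hpol, hf.bilinear.smul_left]; ring
  · rw [hpol, hpol, hpol, hf.bilinear.add_right]; ring
  · rw [hpol, hpol, hf.bilinear.smul_right]; ring
  · obtain ⟨⟨x, hx⟩, y, hy⟩ := hf.nondegenerate v hv
    exact ⟨⟨x, by rw [hpol]; exact mul_ne_zero h2 hx⟩, y, by rw [hpol]; exact mul_ne_zero h2 hy⟩

/-- Plus type of a symmetric matrix of size four. -/
theorem plus_four_iff (h2 : (2 : F) ≠ 0) {G : Matrix (Fin 4) (Fin 4) F} (hdet : G.det ≠ 0) (hs : ∀ i j, G j i = G i j) :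
    IsPlusTypeOn (fun v : Fin 4 → F => gramForm (RingEquiv.refl F) G v v) ⊤ ↔ IsSquare G.det := by
  obtain ⟨hQ, hpol⟩ := gram_quadratic h2 hdet hs
  rw [plus_iff_basis_det hQ h2 (m := 2) (by simp) (Pi.basisFun F (Fin 4))]
  have e : (Matrix.of fun a b => polar (fun v : Fin 4 → F => gramForm (RingEquiv.refl F) G v v)
      (Pi.basisFun F (Fin 4) a) (Pi.basisFun F (Fin 4) b)) = (2 : F) • G := by
    ext a b
    rw [Matrix.of_apply, hpol, Pi.basisFun_apply, Pi.basisFun_apply, Matrix.smul_apply, smul_eq_mul]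
    congr 1
    exact congrFun (congrFun (gramMatrix_gramForm (σ := RingEquiv.refl F) G) a) b
  rw [e, Matrix.det_smul, Fintype.card_fin, show (-1 : F) ^ 2 = 1 by ring, one_mul]
  constructor
  · rintro ⟨s, hs'⟩
    exact ⟨s / 4, by rw [div_mul_div_comm, ← hs', eq_div_iff (by
      intro h; apply h2; have : (2 : F) * 2 * (2 * 2) = 0 := by linear_combination h
      exact mul_self_eq_zero.mp (mul_self_eq_zero.mp this))]; ring⟩
  · rintro ⟨s, hs'⟩
    exact ⟨4 * s, by rw [hs']; ring⟩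

variable {Q : (ι → F) → F} (hQ : IsNondegenerateQuadraticForm Q)

include hQ

/-- The type from coordinates. -/
theorem plus_iff_coord_det (h2 : (2 : F) ≠ 0) {m : ℕ} (hcard : Fintype.card ι = 2 * m)
    {κ : Type} [Fintype κ] [DecidableEq κ] (e : ι ≃ κ) (P : GL ι F) :
    IsPlusTypeOn Q ⊤ ↔ IsSquare ((-1 : F) ^ m * (gramCoord (RingEquiv.refl F) (polar Q) e P).det) := by
  classical
  rw [plus_iff_basis_det hQ h2 hcard
    ((Pi.basisFun F ι).map (Matrix.GeneralLinearGroup.toLin P).toLinearEquiv |>.reindex e)]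
  have hg : (Matrix.of fun a b => polar Q (((Pi.basisFun F ι).map (Matrix.GeneralLinearGroup.toLin P).toLinearEquiv |>.reindex e) a)
      (((Pi.basisFun F ι).map (Matrix.GeneralLinearGroup.toLin P).toLinearEquiv |>.reindex e) b)) =
      gramCoord (RingEquiv.refl F) (polar Q) e P := by
    ext a c
    have hb := semiForm_of_bilinear hQ.polar_bilinear
    simp only [Matrix.of_apply, Basis.reindex_apply, Basis.map_apply, Pi.basisFun_apply]
    change polar Q ((P : Matrix ι ι F) *ᵥ Pi.single (e.symm a) 1) ((P : Matrix ι ι F) *ᵥ Pi.single (e.symm c) 1) = _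
    have he : ∀ x : κ, (Pi.single (e.symm x) 1 : ι → F) = (Pi.single x (1 : F) : κ → F) ∘ e := fun x => by
      funext y; simp [Pi.single_apply, Equiv.eq_symm_apply]
    rw [he, he, hb.coord_apply e P]
    simp
  rw [hg]

/-- In odd characteristic a skew factor makes pure tensors singular. -/
theorem pure_singular (h2 : (2 : F) ≠ 0) {k : ℕ} {e : ι ≃ Fin 2 × Fin k} {P : GL ι F} {G₁ : Matrix (Fin 2) (Fin 2) F}
    {G₂ : Matrix (Fin k) (Fin k) F} (hT : gramCoord (RingEquiv.refl F) (polar Q) e P = G₁ ⊗ₖ G₂)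
    (hskew : ∀ i j, G₁ j i = -G₁ i j) (u : Fin 2 → F) (w : Fin k → F) :
    Q ((P : Matrix ι ι F) *ᵥ ((fun a : Fin 2 × Fin k => u a.1 * w a.2) ∘ e)) = 0 := by
  refine (mul_eq_zero.mp ((polar_self_eq hQ _).symm.trans ?_)).resolve_left h2
  rw [(semiForm_of_bilinear hQ.polar_bilinear).coord_apply e P, hT]
  have hd : ∀ i, G₁ i i = 0 := fun i =>
    (mul_eq_zero.mp (show (2 : F) * G₁ i i = 0 by linear_combination hskew i i)).resolve_left h2
  simp only [RingEquiv.coe_refl, Function.id_comp, dotProduct, Matrix.mulVec, Fintype.sum_prod_type, Fin.sum_univ_two,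
    Matrix.kronecker_apply, hd, hskew 0 1, zero_mul, Finset.sum_const_zero, zero_add, add_zero, Finset.mul_sum]
  rw [← Finset.sum_add_distrib]
  refine Finset.sum_eq_zero fun x _ => ?_
  rw [← Finset.sum_add_distrib]
  exact Finset.sum_eq_zero fun y _ => by ring

/-- A plus type factor of dimension four regroups to a symplectic decomposition with a plane. -/
theorem regroup_plus (h2 : (2 : F) ≠ 0) {H : Subgroup (GL ι F)} (hH : H ≤ omegaGL Q)
    {e : ι ≃ Fin 3 × Fin 4} {P : GL ι F} {G₁ : Matrix (Fin 3) (Fin 3) F} {G₂ : Matrix (Fin 4) (Fin 4) F}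
    (hT : TensorGram (RingEquiv.refl F) 1 (polar Q) e P G₁ G₂ 1)
    (hkr : ∀ g ∈ H, ∃ (a : GL (Fin 3) F) (b : GL (Fin 4) F),
      matCoord e P (g : Matrix ι ι F) = (a : Matrix (Fin 3) (Fin 3) F) ⊗ₖ (b : Matrix (Fin 4) (Fin 4) F))
    (hplus : IsPlusTypeOn (fun v : Fin 4 → F => gramForm (RingEquiv.refl F) G₂ v v) ⊤) :
    ∃ (e' : ι ≃ Fin 2 × Fin 6) (P' : GL ι F) (G' : Matrix (Fin 6) (Fin 6) F),
      TensorGram (RingEquiv.refl F) 1 (polar Q) e' P' (J2 F) G' (-1) ∧
      ∀ g ∈ H, ∃ (a : GL (Fin 2) F) (b : GL (Fin 6) F),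
        matCoord e' P' (g : Matrix ι ι F) = (a : Matrix (Fin 2) (Fin 2) F) ⊗ₖ (b : Matrix (Fin 6) (Fin 6) F) := by
  classical
  have hf := reflexForm_of_quadratic hQ
  have hs₁ : ∀ i j, G₁ j i = G₁ i j := fun i j => by simpa using hT.swap_left i j
  have hs₂ : ∀ i j, G₂ j i = G₂ i j := fun i j => by simpa using hT.swap_right i j
  obtain ⟨U, -, hU, hdim⟩ := hplus
  rw [finrank_top, Module.finrank_fin_fun] at hdim
  obtain ⟨A, hA⟩ := plus_four_congr h2 hT.det_right hs₂ (U := U) (fun u hu => by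
    simpa [gramForm] using hU u hu) (by omega)
  obtain ⟨P', hP', hkr'⟩ := exists_tensor_rebase (c := (1 : F)) e P (by rw [one_smul]; exact hT.gram)
    (1 : GL (Fin 3) F) A hkr
  simp only [Units.val_one, Matrix.transpose_one, Matrix.one_mul, RingEquiv.coe_refl, Matrix.map_id, Matrix.mul_one,
    hA, one_smul] at hP'
  set K := (J2 F ⊗ₖ J2 F).submatrix pairEquiv.symm pairEquiv.symm with hKdef
  let ε₆ : Fin 3 × Fin 2 ≃ Fin 6 := finProdFinEquiv
  let ε : Fin 3 × Fin 4 ≃ Fin 2 × Fin 6 :=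
    { toFun := fun x => ((pairEquiv.symm x.2).1, ε₆ (x.1, (pairEquiv.symm x.2).2))
      invFun := fun z => ((ε₆.symm z.2).1, pairEquiv (z.1, (ε₆.symm z.2).2))
      left_inv := fun x => by simp
      right_inv := fun z => by simp }
  have hεs : ∀ z, ε.symm z = ((ε₆.symm z.2).1, pairEquiv (z.1, (ε₆.symm z.2).2)) := fun z => rfl
  let G' : Matrix (Fin 6) (Fin 6) F := (G₁ ⊗ₖ J2 F).submatrix ε₆.symm ε₆.symm
  refine ⟨e.trans ε, P', G', ⟨?_, by rw [J2_det]; exact one_ne_zero, ?_, by simp, fun i j => ?_, fun i j => ?_⟩,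
    fun g hg => ?_⟩
  · rw [gramCoord_trans, hP']
    ext x y
    simp [hεs, hKdef, G', Matrix.kroneckerMap_apply]
    ring
  · rw [Matrix.det_submatrix_equiv_self, Matrix.det_kronecker, J2_det, one_pow, mul_one]
    exact pow_ne_zero _ hT.det_left
  · fin_cases i <;> fin_cases j <;> simp [J2]
  · simp only [G', Matrix.submatrix_apply, Matrix.kroneckerMap_apply, RingEquiv.refl_apply]
    rw [hs₁ (ε₆.symm i).1]
    generalize (ε₆.symm i).2 = a
    generalize (ε₆.symm j).2 = b
    fin_cases a <;> fin_cases b <;> simp [J2]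
  obtain ⟨a, b, hab⟩ := hkr' g hg
  have hI : ∀ u v, polar Q ((g : Matrix ι ι F) *ᵥ u) ((g : Matrix ι ι F) *ᵥ v) = polar Q u v := fun u v => by
    simp only [polar, ← Matrix.mulVec_add, mem_isometryGroup_iff.mp ((Subgroup.map_subtype_le _) (hH hg))]
  have hiso := hf.gramCoord_isometry e P' hI
  rw [hab, hP', RingEquiv.coe_refl, Matrix.map_id, ← Matrix.kroneckerMap_transpose, ← Matrix.mul_kronecker_mul,
    ← Matrix.mul_kronecker_mul] at hiso
  have hK0 : K ≠ 0 := fun h0 => by
    have := congrFun (congrFun h0 (pairEquiv (0, 0))) (pairEquiv (1, 1))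
    simp [hKdef, J2] at this
  have hG0 : G₁ ≠ 0 := fun h0 => hT.det_left (by rw [h0, Matrix.det_zero])
  obtain ⟨c, hc, hc1, hc2⟩ := kronecker_unique hG0 hK0 hiso.symm
  set β : Matrix (Fin 2 × Fin 2) (Fin 2 × Fin 2) F := (b : Matrix (Fin 4) (Fin 4) F).submatrix pairEquiv pairEquiv
  have hβ : βᵀ * (J2 F ⊗ₖ J2 F) * β = c⁻¹ • (J2 F ⊗ₖ J2 F) := by
    have e1 : (b : Matrix (Fin 4) (Fin 4) F)ᵀ * K * (b : Matrix (Fin 4) (Fin 4) F) = c⁻¹ • K := by
      conv_rhs => rw [hc2, smul_smul, inv_mul_cancel₀ hc, one_smul]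
    have e2 : K.submatrix pairEquiv pairEquiv = J2 F ⊗ₖ J2 F := by
      ext; simp [hKdef]
    rw [← e2]
    have e3 := congrArg (fun M : Matrix (Fin 4) (Fin 4) F => M.submatrix pairEquiv pairEquiv) e1
    simp only [β, Matrix.transpose_submatrix, Matrix.submatrix_mul_equiv]
    exact e3
  obtain ⟨A', B', hAB⟩ := similitude_square h2 (inv_ne_zero hc) hβ
  have hbβ : ∀ x y, (b : Matrix (Fin 4) (Fin 4) F) (pairEquiv x) (pairEquiv y) = β x y := fun x y => rfl
  rcases hAB with hAB | hAB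
  swap
  · exfalso
    set dA := (A' : Matrix (Fin 2) (Fin 2) F).det
    set dB := (B' : Matrix (Fin 2) (Fin 2) F).det
    set S : Matrix (Fin 2 × Fin 2) (Fin 2 × Fin 2) F := (A' : Matrix (Fin 2) (Fin 2) F) ⊗ₖ (B' : Matrix (Fin 2) (Fin 2) F)
    have hswap : (J2 F ⊗ₖ J2 F).submatrix (Equiv.prodComm (Fin 2) (Fin 2)) (Equiv.prodComm (Fin 2) (Fin 2)) =
        J2 F ⊗ₖ J2 F := by
      ext x y; simp [mul_comm]
    have hS : Sᵀ * (J2 F ⊗ₖ J2 F) * S = (dA * dB) • (J2 F ⊗ₖ J2 F) := by
      simp only [S]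
      rw [← Matrix.kroneckerMap_transpose, ← Matrix.mul_kronecker_mul, ← Matrix.mul_kronecker_mul, J2_congr, J2_congr,
        Matrix.smul_kronecker, Matrix.kronecker_smul, smul_smul]
    have hd : dA * dB = c⁻¹ := by
      have e : βᵀ * (J2 F ⊗ₖ J2 F) * β =
          (Sᵀ * (J2 F ⊗ₖ J2 F) * S).submatrix (Equiv.prodComm (Fin 2) (Fin 2)) (Equiv.prodComm (Fin 2) (Fin 2)) := by
        rw [hAB]
        ext x y
        simp [Matrix.mul_apply, S]
      have e' := hβ
      rw [e, hS] at e'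
      have := congrFun (congrFun e' (0, 0)) (1, 1)
      simpa [J2] using this
    have hdb : (b : Matrix (Fin 4) (Fin 4) F).det = -(c⁻¹ * c⁻¹) := by
      have e : β.det = (b : Matrix (Fin 4) (Fin 4) F).det := Matrix.det_submatrix_equiv_self _ _
      rw [← e, hAB, show S.submatrix id Prod.swap = S.submatrix id (Equiv.prodComm (Fin 2) (Fin 2)) from rfl,
        Matrix.det_permute', Matrix.det_kronecker, Fintype.card_fin, ← hd,
        show Equiv.Perm.sign (Equiv.prodComm (Fin 2) (Fin 2)) = -1 by decide]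
      simp only [Units.val_neg, Units.val_one, Int.cast_neg, Int.cast_one]
      ring
    have hda : (a : Matrix (Fin 3) (Fin 3) F).det * (a : Matrix (Fin 3) (Fin 3) F).det = c ^ 3 := by
      have e := congrArg Matrix.det hc1
      rw [Matrix.det_mul, Matrix.det_mul, Matrix.det_transpose, Matrix.det_smul, Fintype.card_fin] at e
      refine mul_right_cancel₀ hT.det_left ?_
      linear_combination e
    have hdet : (g : Matrix ι ι F).det = (a : Matrix (Fin 3) (Fin 3) F).det ^ 4 * (b : Matrix (Fin 4) (Fin 4) F).det ^ 3 := by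
      have e := congrArg Matrix.det hab
      rw [matCoord, Matrix.det_submatrix_equiv_self, Matrix.det_mul, Matrix.det_mul, mul_comm, ← mul_assoc,
        ← Matrix.det_mul, Units.mul_inv, Matrix.det_one, one_mul, Matrix.det_kronecker, Fintype.card_fin,
        Fintype.card_fin] at e
      exact e
    rw [det_omega (hH hg), hdb, show (a : Matrix (Fin 3) (Fin 3) F).det ^ 4 =
      ((a : Matrix (Fin 3) (Fin 3) F).det * (a : Matrix (Fin 3) (Fin 3) F).det) ^ 2 by ring, hda] at hdet
    have e : (c ^ 3) ^ 2 * (-(c⁻¹ * c⁻¹)) ^ 3 = -1 := by field_simp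
    rw [e] at hdet
    exact h2 (by linear_combination hdet)
  let B₆ : GL (Fin 6) F := Matrix.GeneralLinearGroup.mkOfDetNeZero
    (((a : Matrix (Fin 3) (Fin 3) F) ⊗ₖ (B' : Matrix (Fin 2) (Fin 2) F)).submatrix ε₆.symm ε₆.symm) (by
      rw [Matrix.det_submatrix_equiv_self, Matrix.det_kronecker]
      exact mul_ne_zero (pow_ne_zero _ (Matrix.GeneralLinearGroup.det a).ne_zero)
        (pow_ne_zero _ (Matrix.GeneralLinearGroup.det B').ne_zero))
  refine ⟨A', B₆, ?_⟩
  rw [matCoord_trans, hab]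
  ext x y
  simp [hεs, hbβ, hAB, B₆, Matrix.kroneckerMap_apply]
  ring

end Cfsg.Agent.Classical.OEven
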