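/-
Orthogonal tensor decompositions with a three-dimensional factor over three elements.
-/
import Mathlib
import Cfsg.Agent.Lib.Classical.TensorNotMax
import Cfsg.Agent.Lib.Classical.OrthNotMax
import Cfsg.Agent.Lib.Classical.OrthRoot

set_option autoImplicit false

namespace Cfsg.Agent.Classical.TNotMax

open Matrix Module QuadraticMap Cfsg.Geo Cfsg.Agent.Classical OCount OOmega

variable {F : Type*} [Field F] {ι : Type} [Fintype ι] [DecidableEq ι]

theorem sesq_of_bilinear {κ : Type} {f : (κ → F) → (κ → F) → F} (hf : Cfsg.Geo.IsBilinearForm f) :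
    Sesq id f :=
  ⟨hf.add_left, hf.smul_left, hf.add_right, hf.smul_right⟩

/-- A non-degenerate symmetric form in dimension at least three has an isotropic vector and a further vector
orthogonal to it. -/
theorem exists_iso_perp [Fintype F] (h2 : (2 : F) ≠ 0) {n : ℕ} (hn : 3 ≤ n)
    {g : (Fin n → F) → (Fin n → F) → F} (hg : IsSymmetricForm g) :
    ∃ v z y : Fin n → F, v ≠ 0 ∧ g v v = 0 ∧ g v z = 0 ∧ (∀ μ : F, z ≠ μ • v) ∧ g v y ≠ 0 := by
  obtain ⟨B, hB⟩ : ∃ B : LinearMap.BilinForm F (Fin n → F), ∀ u v, B u v = g u v :=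
    ⟨LinearMap.mk₂ F g hg.bilinear.add_left (fun c x v => hg.bilinear.smul_left c x v)
      hg.bilinear.add_right (fun c v x => hg.bilinear.smul_right c v x), fun _ _ => rfl⟩
  obtain ⟨Q, hQ⟩ : ∃ Q : QuadraticForm F (Fin n → F), Q = LinearMap.BilinMap.toQuadraticMap B := ⟨_, rfl⟩
  have hQx : ∀ u, Q u = g u u := fun u => by rw [hQ, LinearMap.BilinMap.toQuadraticMap_apply, hB]
  have hpol : ∀ u v, QuadraticMap.polar Q u v = 2 * g u v := fun u v => by
    rw [QuadraticMap.polar, hQx, hQx, hQx, hg.bilinear.add_left, hg.bilinear.add_right, hg.bilinear.add_right,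
      hg.symm v u]
    ring
  have hP : PND Q := fun v hv => by
    by_contra h0
    obtain ⟨x, hx⟩ := (hg.nondegenerate v h0).2
    exact hx ((mul_eq_zero.1 ((hpol v x).symm.trans (hv x))).resolve_left h2)
  obtain ⟨v, hv0, hv⟩ := exists_singular h2 hP (by rw [finrank_fin_fun]; exact hn)
  obtain ⟨y, hy⟩ := (hg.nondegenerate v hv0).2
  have hk : finrank F (Submodule.span F {v}) < finrank F (LinearMap.ker (B v)) := by
    have h1 := LinearMap.finrank_range_add_finrank_ker (B v)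
    have h3 : finrank F (LinearMap.range (B v)) ≤ 1 := (Submodule.finrank_le _).trans_eq (finrank_self F)
    rw [finrank_span_singleton hv0]
    rw [finrank_fin_fun] at h1
    omega
  obtain ⟨z, hz, hzv⟩ := Set.not_subset.1 fun hle => hk.not_ge (Submodule.finrank_mono hle)
  exact ⟨v, z, y, hv0, by rw [← hQx, hv], by rw [← hB]; exact hz,
    fun μ h => hzv (h ▸ Submodule.smul_mem _ _ (Submodule.mem_span_singleton_self v)), hy⟩

/-- The orthogonal case of `not_max`. -/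
theorem orth_tensor_not_max [Fintype F] (hq : Fintype.card F = 3) {Q : QuadraticForm F (ι → F)} (hQ : PND Q)
    (hι : Fintype.card ι ≠ 4) {n₂ : ℕ} (hn₂ : 3 ≤ n₂) {e : ι ≃ Fin 3 × Fin n₂} {P : GL ι F}
    {f₁ : (Fin 3 → F) → (Fin 3 → F) → F} {f₂ : (Fin n₂ → F) → (Fin n₂ → F) → F}
    (hf₁ : IsSymmetricForm f₁) (hf₂ : IsSymmetricForm f₂)
    (hT : IsTensorFormStructure id (QuadraticMap.polar Q) f₁ f₂ e P) :
    ∃ K : Subgroup (GL ι F), tensorProductSubgroup 3 n₂ e P ⊓ omegaGL ⇑Q < K ∧ K < omegaGL ⇑Q := by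
  have h2 := ONotMax.two_ne_zero' hq
  obtain ⟨c, hc, hpair⟩ := exists_pairing (fun _ _ => rfl) (sesq_of_bilinear hf₁.bilinear)
    (sesq_of_bilinear hf₂.bilinear) hT
  obtain ⟨w, d, hd, hw, hmono⟩ := frame_three hq hf₁
  obtain ⟨v₀, z, y₁, hv₀, hvv, hvz, hzv, hvy⟩ := exists_iso_perp h2 hn₂ hf₂
  have hsing : ∀ u : Fin 3 → F, Q (tau e P u v₀) = 0 := fun u => by
    have h : polar Q (tau e P u v₀) (tau e P u v₀) = 0 := by rw [hpair, hvv, mul_zero, mul_zero]
    rw [QuadraticMap.polar_self, nsmul_eq_mul, Nat.cast_ofNat] at h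
    exact (mul_eq_zero.1 h).resolve_left h2
  obtain ⟨g₁, hg₁, hg₁a⟩ := ONotMax.exists_siegel hQ hι (hsing (w 0)) (v := tau e P (w 0) z)
    (by rw [hpair, hvz, mul_zero, mul_zero])
  obtain ⟨g₂, hg₂, hg₂a⟩ := ONotMax.exists_siegel hQ hι (hsing (w 0)) (v := tau e P (w 1) y₁)
    (by rw [hpair, hw, if_neg (by decide), zero_mul, mul_zero])
  have hne : v₀ ≠ 0 := hv₀
  refine not_max (fun _ _ => rfl) (sesq_of_bilinear hf₁.bilinear) (sesq_of_bilinear hf₂.bilinear)
    (fun y hy => (hf₂.nondegenerate y hy).2) hT (fun g hg x y => ?_) hd hw hmono (i₀ := 0) (i₁ := 1)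
    (by decide) ⟨g₁, hg₁, fun j v => ?_, fun v => ?_, y₁, fun μ h => ?_⟩ ⟨g₂, hg₂, y₁, ?_⟩
    (fun x y v => QuadraticMap.polar_add_left (Q := Q) x y v)
  · rw [QuadraticMap.polar, QuadraticMap.polar, ← mulVec_add, ONotMax.omega_isometry hg,
      ONotMax.omega_isometry hg, ONotMax.omega_isometry hg]
  · rw [hg₁a]
    by_cases hj : (0 : Fin 3) = j
    · subst hj
      simp only [← LinearMap.map_smul, ← LinearMap.map_add, ← LinearMap.map_sub]
      exact ⟨_, rfl⟩
    · exact ⟨v, by simp [hpair, hw, hj]⟩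
  · simp [hg₁a, hpair, hw]
  · simp only [hg₁a, ← LinearMap.map_smul, ← LinearMap.map_add, ← LinearMap.map_sub] at h
    have h' := tau_injective e P (fun h0 => hd (by
      have := hw 0 0
      rw [h0, if_pos rfl, ← zero_smul F (0 : Fin 3 → F), hf₁.bilinear.smul_left, zero_mul] at this
      exact this.symm)) h
    have hv' := congrArg (f₂ v₀) h'
    obtain ⟨B, hB⟩ : ∃ B : LinearMap.BilinForm F (Fin n₂ → F), ∀ u v, B u v = f₂ u v :=
      ⟨LinearMap.mk₂ F f₂ hf₂.bilinear.add_left (fun c x v => hf₂.bilinear.smul_left c x v)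
        hf₂.bilinear.add_right (fun c v x => hf₂.bilinear.smul_right c v x), fun _ _ => rfl⟩
    simp only [← hB, map_sub, map_add, map_smul, smul_eq_mul] at hv'
    simp only [hB, hvv, hvz, mul_zero, add_zero, sub_zero] at hv'
    have hμ : μ = 1 := mul_right_cancel₀ hvy (by rw [one_mul, ← hv'])
    rw [hμ, one_smul] at h'
    have hα : polar Q (tau e P (w 0) v₀) (tau e P (w 0) y₁) ≠ 0 := by
      rw [hpair, hw, if_pos rfl]; exact mul_ne_zero hc (mul_ne_zero hd hvy)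
    obtain ⟨α, β, hα', hzz⟩ : ∃ α β : F, α ≠ 0 ∧ y₁ + α • z - β • v₀ = y₁ := ⟨_, _, hα, h'⟩
    refine hzv (α⁻¹ * β) ?_
    rw [← smul_smul, eq_inv_smul_iff₀ hα']
    exact sub_eq_zero.1 (by rw [← sub_eq_zero.2 hzz]; abel)
  · obtain ⟨α, β, hα, hx⟩ : ∃ α β : F, α ≠ 0 ∧ (g₂ : Matrix ι ι F) *ᵥ tau e P (w 0) y₁ =
        tau e P (w 0) y₁ + α • tau e P (w 1) y₁ - β • tau e P (w 0) v₀ :=
      ⟨_, _, by rw [hpair, hw, if_pos rfl]; exact mul_ne_zero hc (mul_ne_zero hd hvy), hg₂a _⟩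
    refine ⟨y₁ - β • v₀, α • y₁, fun h => ?_, smul_ne_zero hα fun h => ?_, ?_⟩
    · apply hvy
      rw [sub_eq_zero.1 h, hf₂.bilinear.smul_right, hvv, mul_zero]
    · apply hvy
      rw [h, ← zero_smul F (0 : Fin n₂ → F), hf₂.bilinear.smul_right, zero_mul]
    · rw [hx, map_sub, map_smul, map_smul]; abel

end Cfsg.Agent.Classical.TNotMax
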