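/-
Maximal subgroups of the twelve-dimensional orthogonal groups.
-/
import Cfsg.Agent.Lib.Classical.OrthTen
import Cfsg.Agent.Lib.Classical.OrthTwelvePlanes
import Cfsg.Agent.Lib.Classical.OrthTwelveTensor
import Cfsg.Agent.Lib.Classical.TensorOrth
import Cfsg.Agent.Lib.Classical.LinSmallField

set_option autoImplicit false
set_option linter.unusedSectionVars false
set_option linter.style.haveILetI false

namespace Cfsg.Agent.Classical.OTwelve

open Matrix Module Cfsg.Geo
open Cfsg.Agent.Classical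
open Cfsg.Agent.Classical.OTen (odd_card_iff card_ne_six)
open scoped Kronecker

variable {ι : Type} [Fintype ι] [DecidableEq ι] {F : Type*} [Field F] [Fintype F]

/-- The possible shapes of a maximal subgroup. -/
inductive Twelve (Q : (ι → F) → F) (H : Subgroup (GL ι F)) : Prop
  | ts (W : Submodule F (ι → F)) (h0 : W ≠ ⊥) (hW : IsTotallySingularQuad Q W)
      (hd : IsPlusTypeOn Q ⊤ → finrank F W ≠ 5) (he : H = subspaceStabilizer W ⊓ omegaGL Q)
  | odd (W : Submodule F (ι → F)) (hq : Odd (Fintype.card F)) (h0 : W ≠ ⊥) (htop : W ≠ ⊤) (ho : Odd (finrank F W))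
      (hd : 2 * finrank F W ≠ 12) (hW : IsNondegenerateOn (QuadraticMap.polar Q) W)
      (he : H = subspaceStabilizer W ⊓ omegaGL Q)
  | plane (W : Submodule F (ι → F)) (h2 : finrank F W = 2) (hW : IsNondegenerateOn (QuadraticMap.polar Q) W)
      (hq : IsPlusTypeOn Q W → 4 ≤ Fintype.card F) (he : H = subspaceStabilizer W ⊓ omegaGL Q)
  | four (W : Submodule F (ι → F)) (h4 : finrank F W = 4) (hW : IsNondegenerateOn (QuadraticMap.polar Q) W)
      (he : H = subspaceStabilizer W ⊓ omegaGL Q)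
  | six (hm : ¬ IsPlusTypeOn Q ⊤) (W : Submodule F (ι → F)) (h6 : finrank F W = 6)
      (hW : IsNondegenerateOn (QuadraticMap.polar Q) W) (he : H = subspaceStabilizer W ⊓ omegaGL Q)
  | line (v : ι → F) (hq : ¬ Odd (Fintype.card F)) (hv : Q v ≠ 0)
      (he : H = subspaceStabilizer (Submodule.span F {v}) ⊓ omegaGL Q)
  | lines (hV : IsPlusTypeOn Q ⊤) (hp : (Fintype.card F).Prime) (hq : Odd (Fintype.card F))
      (D : Fin 12 → Submodule F (ι → F)) (hD : IsOrthogonalMDecomposition Q 1 D)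
      (he : H = decompositionStabilizer D ⊓ omegaGL Q)
  | planesPlus (hV : IsPlusTypeOn Q ⊤) (hq : 7 ≤ Fintype.card F) (D : Fin 6 → Submodule F (ι → F))
      (hD : IsOrthogonalMDecomposition Q 2 D) (hp : ∀ i, IsPlusTypeOn Q (D i))
      (he : H = decompositionStabilizer D ⊓ omegaGL Q)
  | planesMinus (hV : IsPlusTypeOn Q ⊤) (hq : Fintype.card F ≠ 3) (D : Fin 6 → Submodule F (ι → F))
      (hD : IsOrthogonalMDecomposition Q 2 D) (hp : ∀ i, ¬ IsPlusTypeOn Q (D i))
      (he : H = decompositionStabilizer D ⊓ omegaGL Q)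
  | threes (hV : IsPlusTypeOn Q ⊤) (hq : Odd (Fintype.card F)) (h5 : 5 ≤ Fintype.card F)
      (D : Fin 4 → Submodule F (ι → F)) (hD : IsOrthogonalMDecomposition Q 3 D)
      (he : H = decompositionStabilizer D ⊓ omegaGL Q)
  | fours (D : Fin 3 → Submodule F (ι → F)) (hD : IsOrthogonalMDecomposition Q 4 D)
      (hp : IsPlusTypeOn Q ⊤ → 3 ≤ Fintype.card F) (hm : ¬ IsPlusTypeOn Q ⊤ → ∀ i, ¬ IsPlusTypeOn Q (D i))
      (he : H = decompositionStabilizer D ⊓ omegaGL Q)
  | sixes (hV : IsPlusTypeOn Q ⊤) (D : Fin 2 → Submodule F (ι → F)) (hD : IsOrthogonalMDecomposition Q 6 D)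
      (he : H = decompositionStabilizer D ⊓ omegaGL Q)
  | tspair (hV : IsPlusTypeOn Q ⊤) (D : Fin 2 → Submodule F (ι → F)) (hD : IsMDecomposition 6 D)
      (hts : ∀ i, IsTotallySingularQuad Q (D i)) (he : H = decompositionStabilizer D ⊓ omegaGL Q)
  | fieldTwo (K : Subalgebra F (Matrix ι ι F)) (hK : IsFieldSubalgebra 2 K) (he : H = subalgebraNormalizer K ⊓ omegaGL Q)
  | fieldThree (K : Subalgebra F (Matrix ι ι F)) (hK : IsFieldSubalgebra 3 K)
      (he : H = subalgebraNormalizer K ⊓ omegaGL Q)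
  | tensorTwoSix (hV : IsPlusTypeOn Q ⊤) (hq : 3 ≤ Fintype.card F) (e : ι ≃ Fin 2 × Fin 6) (P : GL ι F)
      (f₁ : (Fin 2 → F) → (Fin 2 → F) → F) (f₂ : (Fin 6 → F) → (Fin 6 → F) → F) (h₁ : IsSymplecticForm f₁)
      (h₂ : IsSymplecticForm f₂) (hT : IsTensorFormStructure id (QuadraticMap.polar Q) f₁ f₂ e P)
      (hvan : ∀ (x₁ : Fin 2 → F) (x₂ : Fin 6 → F),
        Q ((P : Matrix ι ι F) *ᵥ ((fun a : Fin 2 × Fin 6 => x₁ a.1 * x₂ a.2) ∘ e)) = 0)
      (he : H = tensorProductSubgroup 2 6 e P ⊓ omegaGL Q)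
  | tensorThreeFour (hm : ¬ IsPlusTypeOn Q ⊤) (hq : Odd (Fintype.card F)) (h5 : 5 ≤ Fintype.card F)
      (e : ι ≃ Fin 3 × Fin 4) (P : GL ι F) (f₁ : (Fin 3 → F) → (Fin 3 → F) → F) (f₂ : (Fin 4 → F) → (Fin 4 → F) → F)
      (h₁ : IsSymmetricForm f₁) (h₂ : IsSymmetricForm f₂) (h₂m : ¬ IsPlusTypeOn (fun v : Fin 4 → F => f₂ v v) ⊤)
      (hT : IsTensorFormStructure id (QuadraticMap.polar Q) f₁ f₂ e P)
      (he : H = tensorProductSubgroup 3 4 e P ⊓ omegaGL Q)
  | subfield (F₀ : Subfield F) (r : ℕ) (P : GL ι F) (ζ : F) (hr : r.Prime) (ho : ¬ IsPlusTypeOn Q ⊤ → Odd r)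
      (hc : Fintype.card F = Nat.card F₀ ^ r) (hζ : ζ ≠ 0)
      (hrat : IsQuadFormRationalStructure (fun v => ζ * Q v) F₀ P) (he : H = subfieldSubgroup F₀ P ⊓ omegaGL Q)
  | residual (h : InOrthogonalResidualClass H)

theorem five_le (h : (2 : F) ≠ 0) (h3 : Fintype.card F ≠ 3) : 5 ≤ Fintype.card F := by
  have h1 : 1 < Fintype.card F := Fintype.one_lt_card
  have := Nat.odd_iff.mp (odd_card_iff.mpr h)
  omega

variable {Q : (ι → F) → F} (hQ : IsNondegenerateQuadraticForm Q) (hcard : Fintype.card ι = 12)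
  {H : Subgroup (GL ι F)} (hH : IsMaximalIn (omegaGL Q) H)

include hQ hcard hH

theorem sub : H ≤ isometryGroup F Q := hH.1.le.trans (Subgroup.map_subtype_le _)

theorem cut {X : Subgroup (GL ι F)} (h1 : H ≤ X) (h2 : ¬ omegaGL Q ≤ X) : H = X ⊓ omegaGL Q :=
  eq_inf_of_maximalIn hH h1 h2

theorem not_between {X : Subgroup (GL ι F)} (h : H < X) (h' : X < omegaGL Q) : False := by
  rcases hH.2 X h.le h'.le with e | e
  exacts [h.ne e.symm, h'.ne e]

theorem cut_space {W : Submodule F (ι → F)} (h0 : W ≠ ⊥) (hlt : finrank F W < 12) (hle : H ≤ subspaceStabilizer W) :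
    H = subspaceStabilizer W ⊓ omegaGL Q := by
  obtain ⟨Qf, rfl, hP⟩ := ONotMax.exists_qform hQ
  refine cut hQ hcard hH hle fun hG => ?_
  rcases OEven.omega_irreducible hP (by omega) W (fun s ⟨x, hx, e⟩ => e ▸ map_toLin'_le.mpr
    (mem_subspaceStabilizer_iff.mp (hG hx))) with h | h
  · exact h0 h
  · rw [h, finrank_top, Module.finrank_pi, hcard] at hlt; omega

theorem cut_decomp {t k : ℕ} {D : Fin t → Submodule F (ι → F)} (hD : IsMDecomposition k D) (hk : 2 < k)
    (hle : H ≤ decompositionStabilizer D) : H = decompositionStabilizer D ⊓ omegaGL Q := by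
  obtain ⟨Qf, rfl, hP⟩ := ONotMax.exists_qform hQ
  exact cut hQ hcard hH hle (OEven.omega_not_decomposition hP (by omega) hD hk)

theorem cut_subfield {F₀ : Subfield F} {r : ℕ} (hr : r.Prime) (hc : Fintype.card F = Nat.card F₀ ^ r) {P : GL ι F}
    {ζ : F} (hζ : ζ ≠ 0) (hrat : IsQuadFormRationalStructure (fun v => ζ * Q v) F₀ P) (hle : H ≤ subfieldSubgroup F₀ P) :
    Twelve Q H := by
  refine .subfield F₀ r P ζ hr (fun hm => ?_) hc hζ hrat (cut hQ hcard hH hle ?_)
  · refine hr.eq_two_or_odd'.resolve_left fun e => hm ?_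
    subst e
    exact OEven.plus_of_rational hQ (m := 6) (by omega) (by norm_num) hc hζ hrat
  · obtain ⟨Qf, rfl, hP⟩ := ONotMax.exists_qform hQ
    obtain ⟨N, hN, hNN, hfam⟩ := OEven.exists_family hP (by omega)
    exact OEven.not_le_subfield_of_family hN hNN (fun t => by
      obtain ⟨g, hg, hgm, -⟩ := hfam t
      exact ⟨g, hg, hgm⟩) (OEven.subfield_ne_top_of_card hr hc) P

theorem plus_even {t k : ℕ} {D : Fin t → Submodule F (ι → F)} (hD : IsOrthogonalMDecomposition Q k D) (ht : Even t) :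
    IsPlusTypeOn Q ⊤ :=
  OEven.plus_of_isometric hQ (m := 6) (by omega) hD ht (Or.inr ⟨1, by norm_num⟩)

theorem of_lines {D : Fin 12 → Submodule F (ι → F)} (hD : IsOrthogonalMDecomposition Q 1 D)
    (hle : H ≤ decompositionStabilizer D) : Twelve Q H := by
  obtain ⟨h2, h | ⟨F₀, r, P, ζ, hr, hc, hζ, hrat, hle'⟩⟩ :=
    OEven.lines_cases_any hQ (m := 6) (by omega) (sub hQ hcard hH) hD hle
  · exact .lines (plus_even hQ hcard hH hD (by decide)) h.1 (odd_card_iff.mpr h2) D hD
      (cut hQ hcard hH hle (OEven.omega_not_lines hQ (by omega) h2 hD.decomp.decomp))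
  · exact cut_subfield hQ hcard hH hr hc hζ hrat hle'

theorem of_planes (hirr : ActsIrreducibly (matrixSet H)) {D : Fin 6 → Submodule F (ι → F)}
    (hD : IsOrthogonalMDecomposition Q 2 D) (hle : H ≤ decompositionStabilizer D) : Twelve Q H := by
  have hI := sub hQ hcard hH
  have hV := plus_even hQ hcard hH hD (by decide)
  have hcut := cut hQ hcard hH hle (OEven.omega_not_planes hQ (by omega) hD.decomp)
  by_cases hp : IsPlusTypeOn Q (D 0)
  · rcases Nat.lt_or_ge (Fintype.card F) 7 with hq | hq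
    swap
    · exact .planesPlus hV hq D hD (fun i => OEven.plus_of_iso hQ (hD.isometric 0 i) hp) hcut
    have h6 := card_ne_six (F := F)
    have h1 : 1 < Fintype.card F := Fintype.one_lt_card
    rcases (show Fintype.card F ≤ 3 ∨ Fintype.card F = 4 ∨ Fintype.card F = 5 by omega) with h | h | h
    · exact absurd hle (OEven.planes_reducible hQ h hI hirr hD 0 hp)
    · obtain ⟨F₀, P, hc, hrat, hle'⟩ := OEven.planes_four hQ h hI hD 0 hp hle
      exact cut_subfield hQ hcard hH Nat.prime_two hc one_ne_zero hrat hle'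
    · obtain ⟨D', hD', hle'⟩ := OEven.planes_five hQ h hI hD 0 hp hle
      exact of_lines hQ hcard hH hD' hle'
  · refine .planesMinus hV (fun h3 => ?_) D hD (fun i h => hp (OEven.plus_of_iso hQ (hD.isometric i 0) h)) hcut
    obtain ⟨X, hX1, hX2⟩ := OEven.planes_three_minus hQ h3 hD 0 hp
    rw [← hcut] at hX1
    exact not_between hQ hcard hH hX1 hX2

theorem of_threes {D : Fin 4 → Submodule F (ι → F)} (hD : IsOrthogonalMDecomposition Q 3 D)
    (hle : H ≤ decompositionStabilizer D) : Twelve Q H := by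
  have h2 := OEven.odd_dim_two_ne_zero hQ (hD.decomp.nondegenerate 0)
    (by rw [hD.decomp.decomp.finrank_eq]; decide)
  have hcut := cut_decomp hQ hcard hH hD.decomp.decomp (by norm_num) hle
  refine .threes (plus_even hQ hcard hH hD (by decide)) (odd_card_iff.mpr h2) (five_le h2 fun h3 => ?_) D hD hcut
  obtain ⟨Qf, rfl, hP⟩ := ONotMax.exists_qform hQ
  obtain ⟨c, y, hc, hy, hy1, hyp⟩ := ONotMax.space_frame (Q := Qf) h3 (hD.decomp.decomp.finrank_eq 0)
    (hD.decomp.nondegenerate 0)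
  obtain ⟨x, hx, hxv, hxp⟩ := ONotMax.frame_transport hD.isometric 0 y hy hy1 hyp
  obtain ⟨X, hX1, hX2⟩ := ONotMax.frame_not_max hP h3 hD.decomp.decomp hD.decomp.orthogonal (by norm_num) le_rfl hc x
    hx hxv hxp
  rw [← hcut] at hX1
  exact not_between hQ hcard hH hX1 hX2

omit hH in
theorem plus_of_fours {D : Fin 3 → Submodule F (ι → F)} (hD : IsOrthogonalMDecomposition Q 4 D) {i : Fin 3}
    (hp : IsPlusTypeOn Q (D i)) : IsPlusTypeOn Q ⊤ := by
  have hall : ∀ j, IsPlusTypeOn Q (D j) := fun j => OEven.plus_of_iso hQ (hD.isometric i j) hp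
  choose U hUD hU hUd using hall
  have hb := hQ.polar_bilinear
  have horth : ∀ j l, j ≠ l → ∀ x ∈ D j, ∀ y ∈ D l, QuadraticMap.polar Q x y = 0 := fun j l h x hx y hy =>
    hD.decomp.orthogonal j l h x hx y hy
  have hadd : ∀ x y, Q (x + y) = Q x + Q y + QuadraticMap.polar Q x y := fun x y => by
    simp only [QuadraticMap.polar]; ring
  refine OEven.plus_of_spans hQ (U := U 0 ⊔ U 1 ⊔ U 2) (fun v hv => ?_) ?_
  · obtain ⟨w, hw, z, hz, rfl⟩ := Submodule.mem_sup.mp hv
    obtain ⟨x, hx, y, hy, rfl⟩ := Submodule.mem_sup.mp hw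
    rw [hadd, hadd, hb.add_left, horth 0 1 (by decide) x (hUD 0 hx) y (hUD 1 hy),
      horth 0 2 (by decide) x (hUD 0 hx) z (hUD 2 hz), horth 1 2 (by decide) y (hUD 1 hy) z (hUD 2 hz),
      hU 0 x hx, hU 1 y hy, hU 2 z hz]
    ring
  · have hd01 : Disjoint (U 0) (U 1) :=
      ((hD.decomp.decomp.indep.pairwiseDisjoint (show (0 : Fin 3) ≠ 1 by decide)).mono (hUD 0) (hUD 1))
    have hd2 : Disjoint (U 0 ⊔ U 1) (U 2) :=
      ((hD.decomp.decomp.indep 2).symm.mono (sup_le ((hUD 0).trans (le_iSup₂_of_le 0 (by decide) le_rfl))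
        ((hUD 1).trans (le_iSup₂_of_le 1 (by decide) le_rfl))) (hUD 2))
    have h1 := Submodule.finrank_sup_add_finrank_inf_eq (U 0) (U 1)
    have h2 := Submodule.finrank_sup_add_finrank_inf_eq (U 0 ⊔ U 1) (U 2)
    rw [hd01.eq_bot, finrank_bot] at h1
    rw [hd2.eq_bot, finrank_bot] at h2
    have e : ∀ j, 2 * finrank F (U j) = 4 := fun j => (hUd j).trans (hD.decomp.decomp.finrank_eq j)
    have := e 0
    have := e 1
    have := e 2
    omega

omit hH in
theorem plus_fours_two (h2 : (2 : F) = 0) (hV : IsPlusTypeOn Q ⊤) {D : Fin 3 → Submodule F (ι → F)}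
    (hD : IsOrthogonalMDecomposition Q 4 D) : IsPlusTypeOn Q (D 2) := by
  obtain ⟨e, he⟩ := hD.isometric 0 1
  have horth : ∀ j l, j ≠ l → ∀ x ∈ D j, ∀ y ∈ D l, QuadraticMap.polar Q x y = 0 := fun j l h x hx y hy =>
    hD.decomp.orthogonal j l h x hx y hy
  have hb := hQ.polar_bilinear
  have hdisj : Disjoint (D 0) (D 1) := hD.decomp.decomp.indep.pairwiseDisjoint (show (0 : Fin 3) ≠ 1 by decide)
  have hsupd : finrank F ↥(D 0 ⊔ D 1) = 8 := by
    have h := Submodule.finrank_sup_add_finrank_inf_eq (D 0) (D 1)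
    rw [hdisj.eq_bot, finrank_bot, hD.decomp.decomp.finrank_eq, hD.decomp.decomp.finrank_eq] at h
    omega
  refine OEven.split_plus hQ (A := D 0 ⊔ D 1) (fun v hv hv0 => ?_) (fun x hx y hy => ?_) ?_ ?_ ?_ hV
  · obtain ⟨x, hx, y, hy, rfl⟩ := Submodule.mem_sup.mp hv
    have key : ∃ z ∈ D 0 ⊔ D 1, QuadraticMap.polar Q (x + y) z ≠ 0 := by
      by_cases hx0 : x = 0
      · obtain ⟨z, hz, hzy⟩ := (hD.decomp.nondegenerate 1 y hy (by simpa [hx0] using hv0)).2
        exact ⟨z, Submodule.mem_sup_right hz, by rwa [hx0, zero_add]⟩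
      · obtain ⟨z, hz, hzx⟩ := (hD.decomp.nondegenerate 0 x hx hx0).2
        exact ⟨z, Submodule.mem_sup_left hz, by rwa [hb.add_left, horth 1 0 (by decide) y hy z hz, add_zero]⟩
    obtain ⟨z, hz, hzv⟩ := key
    exact ⟨⟨z, hz, by rwa [QuadraticMap.polar_comm]⟩, z, hz, hzv⟩
  · obtain ⟨a, ha, b, hb', rfl⟩ := Submodule.mem_sup.mp hx
    rw [hb.add_left, horth 0 2 (by decide) a ha y hy, horth 1 2 (by decide) b hb' y hy, add_zero]
  · rw [eq_top_iff, ← hD.decomp.decomp.iSup_eq_top, iSup_le_iff]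
    intro j
    rcases (show j = 0 ∨ j = 1 ∨ j = 2 by omega) with rfl | rfl | rfl
    exacts [le_sup_of_le_left le_sup_left, le_sup_of_le_left le_sup_right, le_sup_right]
  · rw [hsupd, hD.decomp.decomp.finrank_eq, hcard]
  · let T : D 0 →ₗ[F] (ι → F) := (D 0).subtype + (D 1).subtype ∘ₗ e.toLinearMap
    refine ⟨LinearMap.range T, ?_, ?_, ?_⟩
    · rintro _ ⟨x, rfl⟩
      exact Submodule.add_mem_sup x.2 (e x).2
    · rintro _ ⟨x, rfl⟩
      change Q ((x : ι → F) + (e x : ι → F)) = 0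
      have h := horth 0 1 (by decide) _ x.2 _ (e x).2
      rw [QuadraticMap.polar] at h
      linear_combination h + he x + Q (x : ι → F) * h2
    · rw [hsupd, LinearMap.finrank_range_of_inj, hD.decomp.decomp.finrank_eq]
      intro x y h
      have hxy : (x : ι → F) - y ∈ D 0 ⊓ D 1 := by
        refine ⟨(D 0).sub_mem x.2 y.2, ?_⟩
        have : (x : ι → F) - y = (e y : ι → F) - e x := by
          have h' : (x : ι → F) + (e x : ι → F) = (y : ι → F) + (e y : ι → F) := h
          rw [sub_eq_sub_iff_add_eq_add, h', add_comm]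
        rw [this]
        exact (D 1).sub_mem (e y).2 (e x).2
      rw [hdisj.eq_bot, Submodule.mem_bot, sub_eq_zero] at hxy
      exact Subtype.ext hxy

theorem of_fours (hirr : ActsIrreducibly (matrixSet H)) {D : Fin 3 → Submodule F (ι → F)}
    (hD : IsOrthogonalMDecomposition Q 4 D) (hle : H ≤ decompositionStabilizer D) : Twelve Q H := by
  by_cases hsmall : IsPlusTypeOn Q ⊤ ∧ Fintype.card F = 2
  · obtain ⟨hV, hq⟩ := hsmall
    have h2 : (2 : F) = 0 := by
      have := FiniteField.cast_card_eq_zero F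
      rw [hq] at this; exact_mod_cast this
    obtain ⟨D', hD', hle'⟩ := OEven.six_planes hQ hq (sub hQ hcard hH) hD
      (OEven.plus_of_iso hQ (hD.isometric 2 0) (plus_fours_two hQ hcard h2 hV hD)) hle
    exact of_planes hQ hcard hH hirr hD' hle'
  refine .fours D hD (fun hV => ?_) (fun hm i h => hm (plus_of_fours hQ hcard hD h))
    (cut_decomp hQ hcard hH hD.decomp.decomp (by norm_num) hle)
  have h1 : 1 < Fintype.card F := Fintype.one_lt_card
  by_contra h
  exact hsmall ⟨hV, by omega⟩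

theorem of_halves {D : Fin 2 → Submodule F (ι → F)} (hD : IsNondegenerateMDecomposition (QuadraticMap.polar Q) 6 D)
    (hle : H ≤ decompositionStabilizer D) : Twelve Q H := by
  rcases OEven.fixed_or_isometric (sub hQ hcard hH) hD hle with hfix | hiso
  swap
  · exact .sixes (plus_even hQ hcard hH hiso (by decide)) D hiso (cut_decomp hQ hcard hH hD.decomp (by norm_num) hle)
  have hd := hD.decomp.finrank_eq
  by_cases hV : IsPlusTypeOn Q ⊤
  swap
  · have h0 : D 0 ≠ ⊥ := fun e => by have := hd 0; rw [e, finrank_bot] at this; omega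
    exact .six hV (D 0) (hd 0) (hD.nondegenerate 0) (cut_space hQ hcard hH h0 (by rw [hd 0]; norm_num) (hfix 0))
  have hsplit : ∀ i j : Fin 2, i ≠ j → IsPlusTypeOn Q (D i) → IsPlusTypeOn Q (D j) := fun i j hij hp => by
    refine OEven.split_plus hQ (hD.nondegenerate i) (fun x hx y hy => hD.orthogonal i j hij x hx y hy) ?_
      (by rw [hd, hd, hcard]) hp hV
    rw [eq_top_iff, ← hD.decomp.iSup_eq_top, iSup_le_iff]
    intro l
    rcases (show l = i ∨ l = j by omega) with rfl | rfl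
    exacts [le_sup_left, le_sup_right]
  obtain ⟨e, he⟩ := OEven.isometric_of_type hQ (hD.nondegenerate 0) (hD.nondegenerate 1) (m := 3) (by norm_num)
    (hd 0) (hd 1) ⟨hsplit 0 1 (by decide), hsplit 1 0 (by decide)⟩
  refine .sixes hV D ⟨hD, fun i j => ?_⟩ (cut_decomp hQ hcard hH hD.decomp (by norm_num) hle)
  rcases (show i = 0 ∨ i = 1 by omega) with rfl | rfl <;> rcases (show j = 0 ∨ j = 1 by omega) with rfl | rfl
  · exact ⟨LinearEquiv.refl F _, fun _ => rfl⟩
  · exact ⟨e, he⟩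
  · exact ⟨e.symm, fun w => by rw [← he (e.symm w), e.apply_symm_apply]⟩
  · exact ⟨LinearEquiv.refl F _, fun _ => rfl⟩

theorem of_decomp (hirr : ActsIrreducibly (matrixSet H)) {t k : ℕ} {D : Fin t → Submodule F (ι → F)}
    (hD : IsOrthogonalMDecomposition Q k D) (hle : H ≤ decompositionStabilizer D) : Twelve Q H := by
  have htk := IsMDecomposition.card_eq hD.decomp.decomp
  rw [hcard] at htk
  have ht := hD.decomp.decomp.two_le
  have : t ≤ 12 := Nat.le_of_dvd (by norm_num) ⟨k, htk.symm⟩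
  obtain ⟨rfl, rfl⟩ | ⟨rfl, rfl⟩ | ⟨rfl, rfl⟩ | ⟨rfl, rfl⟩ | ⟨rfl, rfl⟩ :
      (t = 2 ∧ k = 6) ∨ (t = 3 ∧ k = 4) ∨ (t = 4 ∧ k = 3) ∨ (t = 6 ∧ k = 2) ∨ (t = 12 ∧ k = 1) := by
    interval_cases t <;> omega
  · exact of_halves hQ hcard hH hD.decomp hle
  · exact of_fours hQ hcard hH hirr hD hle
  · exact of_threes hQ hcard hH hD hle
  · exact of_planes hQ hcard hH hirr hD hle
  · exact of_lines hQ hcard hH hD hle

theorem of_tspair {k : ℕ} {D : Fin 2 → Submodule F (ι → F)} (hk : 2 * k = Fintype.card ι) (hD : IsMDecomposition k D)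
    (hts : ∀ i, IsTotallySingularQuad Q (D i)) (hle : H ≤ decompositionStabilizer D) : Twelve Q H := by
  obtain rfl : k = 6 := by omega
  exact .tspair (OEven.plus_of_spans hQ (hts 0) (by rw [hD.finrank_eq, hcard])) D hD hts
    (cut_decomp hQ hcard hH hD (by norm_num) hle)

theorem of_field {r : ℕ} {K : Subalgebra F (Matrix ι ι F)} (hr : r.Prime) (hdvd : r ∣ 12) (hK : IsFieldSubalgebra r K)
    (hle : H ≤ subalgebraNormalizer K) : Twelve Q H := by
  have hcut : H = subalgebraNormalizer K ⊓ omegaGL Q := by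
    obtain ⟨Qf, rfl, hP⟩ := ONotMax.exists_qform hQ
    exact cut hQ hcard hH hle (OEven.omega_not_field hP (by omega) hr.two_le hK)
  obtain rfl | rfl : r = 2 ∨ r = 3 := by
    rcases (Nat.Prime.dvd_mul hr).mp (show r ∣ 4 * 3 from hdvd) with h | h
    exacts [Or.inl ((Nat.prime_dvd_prime_iff_eq hr Nat.prime_two).mp (hr.dvd_of_dvd_pow (show r ∣ 2 ^ 2 from h))),
      Or.inr ((Nat.prime_dvd_prime_iff_eq hr Nat.prime_three).mp h)]
  exacts [.fieldTwo K hK hcut, .fieldThree K hK hcut]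

theorem of_symplectic_factor (hirr : ActsIrreducibly (matrixSet H)) (hV : IsPlusTypeOn Q ⊤)
    {e : ι ≃ Fin 2 × Fin 6} {P : GL ι F} {G₁ : Matrix (Fin 2) (Fin 2) F} {G₂ : Matrix (Fin 6) (Fin 6) F} {l : F}
    (hl : (2 : F) = 0 ∨ l = -1)
    (hT : TensorGram (RingEquiv.refl F) 1 (QuadraticMap.polar Q) e P G₁ G₂ l)
    (hkr : ∀ g ∈ H, ∃ (a : GL (Fin 2) F) (b : GL (Fin 6) F),
      matCoord e P (g : Matrix ι ι F) = (a : Matrix (Fin 2) (Fin 2) F) ⊗ₖ (b : Matrix (Fin 6) (Fin 6) F)) :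
    Twelve Q H := by
  haveI : Nonempty ι := Fintype.card_pos_iff.mp (by omega)
  have hle := le_tensor_of_kronecker e P hkr
  by_cases hq2 : Fintype.card F = 2
  · obtain ⟨K, hK, hn⟩ := tensor_two_small hq2 (show 0 < 6 by norm_num) e P
    exact of_field hQ hcard hH Nat.prime_two (by norm_num) hK (hle.trans hn)
  have h3 : 3 ≤ Fintype.card F := by have h1 : 1 < Fintype.card F := Fintype.one_lt_card; omega
  have hcut : H = tensorProductSubgroup 2 6 e P ⊓ omegaGL Q := by
    obtain ⟨Qf, rfl, hP⟩ := ONotMax.exists_qform hQ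
    exact cut hQ hcard hH hle (OEven.omega_not_tensor hP (by omega) le_rfl (by norm_num) e P)
  have hstr : IsTensorFormStructure id (QuadraticMap.polar Q) (gramForm (RingEquiv.refl F) G₁)
      (gramForm (RingEquiv.refl F) G₂) e P :=
    tensor_structure P (semiForm_of_bilinear hQ.polar_bilinear) e one_ne_zero (by rw [one_smul]; exact hT.gram)
  by_cases h2 : (2 : F) = 0
  · have hf := reflexForm_of_quadratic hQ
    have hI := sub hQ hcard hH
    have hfix : FixesForm (matrixSet H) (QuadraticMap.polar Q) :=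
      quad_fixes_polar (by rintro _ ⟨g, hg, rfl⟩ v; exact mem_isometryGroup_iff.mp (hI hg) v)
    obtain ⟨hs₁, hd₁⟩ := hT.diag_left h2 le_rfl (by norm_num) hf hirr hfix hkr
    obtain ⟨hs₂, hd₂⟩ := (hT.prodComm (by simp) (fun _ => rfl)).diag_left h2 (by norm_num) (by norm_num) hf hirr hfix
      fun g hg => by
        obtain ⟨a, b, hab⟩ := hkr g hg
        refine ⟨b, a, ?_⟩
        ext ⟨i, x⟩ ⟨j, y⟩
        have := congrFun (congrFun hab (x, i)) (y, j)
        rw [Matrix.kronecker_apply] at this ⊢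
        rw [mul_comm]
        exact this
    have hfs : IsSymplecticForm (QuadraticMap.polar Q) := by
      refine ⟨hQ.polar_bilinear, fun u w => ?_, fun u => ?_, hQ.nondegenerate⟩
      · rw [QuadraticMap.polar_comm Q w u]
        linear_combination (QuadraticMap.polar Q u w) * h2
      · rw [polar_self_eq hQ, h2, zero_mul]
    obtain ⟨Q', hQ', hpol, hI', hvan⟩ := hT.quad_pure h2 hfs hs₁ hd₁ hs₂ hd₂ hfix hkr
    rw [OEven.quad_eq_of_irreducible hQ (by omega) h2 hQ' hpol hirr hI hI'] at hvan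
    exact .tensorTwoSix hV h3 e P _ _ (OEven.gram_symplectic_two h2 hT.det_left hs₁ hd₁)
      (OEven.gram_symplectic_two h2 hT.det_right hs₂ hd₂) hstr (fun x₁ x₂ => hvan _ ⟨x₁, x₂, fun _ => rfl⟩) hcut
  · have hl' : l = -1 := hl.resolve_left h2
    subst hl'
    exact .tensorTwoSix hV h3 e P _ _ (gram_symplectic h2 hT.det_left fun i j => by simpa using hT.swap_left i j)
      (gram_symplectic h2 hT.det_right fun i j => by simpa using hT.swap_right i j) hstr
      (fun x₁ x₂ => OEven.pure_singular hQ h2 hT.gram (fun i j => by simpa using hT.swap_left i j) x₁ x₂) hcut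

theorem of_tensor_two (hirr : ActsIrreducibly (matrixSet H))
    {e : ι ≃ Fin 2 × Fin 6} {P : GL ι F} {G₁ : Matrix (Fin 2) (Fin 2) F} {G₂ : Matrix (Fin 6) (Fin 6) F} {l : F}
    (hT : TensorGram (RingEquiv.refl F) 1 (QuadraticMap.polar Q) e P G₁ G₂ l)
    (hkr : ∀ g ∈ H, ∃ (a : GL (Fin 2) F) (b : GL (Fin 6) F),
      matCoord e P (g : Matrix ι ι F) = (a : Matrix (Fin 2) (Fin 2) F) ⊗ₖ (b : Matrix (Fin 6) (Fin 6) F)) :
    Twelve Q H := by
  haveI : Nonempty ι := Fintype.card_pos_iff.mp (by omega)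
  have hI := sub hQ hcard hH
  have hV := OEven.plus_of_tensor_two hQ (by norm_num) hirr hI hT hkr (Or.inr (Or.inr (by decide)))
  by_cases h2 : (2 : F) = 0
  · exact of_symplectic_factor hQ hcard hH hirr hV (Or.inl h2) hT hkr
  rcases mul_self_eq_one_iff.mp (hT.norm : l * l = 1) with hl | hl
  swap
  · exact of_symplectic_factor hQ hcard hH hirr hV (Or.inr hl) hT hkr
  have hf := reflexForm_of_quadratic hQ
  have hfix : FixesForm (matrixSet H) (QuadraticMap.polar Q) :=
    quad_fixes_polar (by rintro _ ⟨g, hg, rfl⟩ v; exact mem_isometryGroup_iff.mp (hI hg) v)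
  obtain ⟨Z, hZc, hn, hZadj, hns⟩ := (hT.prodComm (by simp) (fun _ => rfl)).plane_algebra h2 (by norm_num) hf
    (fun i j => by simpa [hl] using hT.swap_left i j) hfix fun g hg => by
      obtain ⟨a, b, hab⟩ := hkr g hg
      refine ⟨b, a, ?_⟩
      ext ⟨i, x⟩ ⟨j, y⟩
      have := congrFun (congrFun hab (x, i)) (y, j)
      rw [Matrix.kronecker_apply] at this ⊢
      rw [mul_comm]
      exact this
  rcases algebra_members hQ (by omega) hI hirr hZc hn hZadj hns with
    ⟨t, m, D, hD, h⟩ | ⟨m, D, hm, hD, hts, h⟩ | ⟨r, K, hr, hdvd, hK, -, h⟩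
  · exact of_decomp hQ hcard hH hirr hD h
  · exact of_tspair hQ hcard hH hm hD hts h
  · exact of_field hQ hcard hH hr (hcard ▸ hdvd) hK h

theorem of_tensor_three (hirr : ActsIrreducibly (matrixSet H))
    {e : ι ≃ Fin 3 × Fin 4} {P : GL ι F} {G₁ : Matrix (Fin 3) (Fin 3) F} {G₂ : Matrix (Fin 4) (Fin 4) F} {l : F}
    (hT : TensorGram (RingEquiv.refl F) 1 (QuadraticMap.polar Q) e P G₁ G₂ l)
    (hkr : ∀ g ∈ H, ∃ (a : GL (Fin 3) F) (b : GL (Fin 4) F),
      matCoord e P (g : Matrix ι ι F) = (a : Matrix (Fin 3) (Fin 3) F) ⊗ₖ (b : Matrix (Fin 4) (Fin 4) F)) :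
    Twelve Q H := by
  haveI : Nonempty ι := Fintype.card_pos_iff.mp (by omega)
  have hI := sub hQ hcard hH
  have hf := reflexForm_of_quadratic hQ
  have hfix : FixesForm (matrixSet H) (QuadraticMap.polar Q) :=
    quad_fixes_polar (by rintro _ ⟨g, hg, rfl⟩ v; exact mem_isometryGroup_iff.mp (hI hg) v)
  have hodd : Odd (Fintype.card (Fin 3)) := by decide
  by_cases h2 : (2 : F) = 0
  · exfalso
    obtain ⟨hs, hd⟩ := hT.diag_left h2 (by norm_num) (by norm_num) hf hirr hfix hkr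
    refine hT.det_left (det_eq_zero_of_alternating_of_odd hodd _ (fun i j => ?_) hd)
    rw [hs, eq_neg_iff_add_eq_zero, ← two_mul, h2, zero_mul]
  rcases mul_self_eq_one_iff.mp (hT.norm : l * l = 1) with hl | hl
  swap
  · exfalso
    have hsw : ∀ i j, G₁ j i = -G₁ i j := fun i j => by simpa [hl] using hT.swap_left i j
    exact hT.det_left (det_eq_zero_of_alternating_of_odd hodd _ hsw
      (fun i => (mul_eq_zero.mp (show (2 : F) * G₁ i i = 0 by linear_combination hsw i i)).resolve_left h2))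
  subst hl
  have hle := le_tensor_of_kronecker e P hkr
  have hcut : H = tensorProductSubgroup 3 4 e P ⊓ omegaGL Q := by
    obtain ⟨Qf, rfl, hP⟩ := ONotMax.exists_qform hQ
    exact cut hQ hcard hH hle (OEven.omega_not_tensor hP (by omega) (by norm_num) (by norm_num) e P)
  have hs₁ : ∀ i j, G₁ j i = G₁ i j := fun i j => by simpa using hT.swap_left i j
  have hs₂ : ∀ i j, G₂ j i = G₂ i j := fun i j => by simpa using hT.swap_right i j
  have hf₁ := gram_symmetric hT.det_left hs₁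
  have hf₂ := gram_symmetric hT.det_right hs₂
  have hstr : IsTensorFormStructure id (QuadraticMap.polar Q) (gramForm (RingEquiv.refl F) G₁)
      (gramForm (RingEquiv.refl F) G₂) e P :=
    tensor_structure P (semiForm_of_bilinear hQ.polar_bilinear) e one_ne_zero (by rw [one_smul]; exact hT.gram)
  have h5 : 5 ≤ Fintype.card F := five_le h2 fun h3 => by
    obtain ⟨Qf, rfl, hP⟩ := ONotMax.exists_qform hQ
    obtain ⟨X, hX1, hX2⟩ := TNotMax.orth_tensor_not_max h3 hP (by omega) (by norm_num) hf₁ hf₂ hstr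
    rw [← hcut] at hX1
    exact not_between hQ hcard hH hX1 hX2
  have htype : IsPlusTypeOn Q ⊤ ↔ IsPlusTypeOn (fun v : Fin 4 → F => gramForm (RingEquiv.refl F) G₂ v v) ⊤ := by
    rw [OEven.plus_iff_coord_det hQ h2 (m := 6) (by omega) e P, OEven.plus_four_iff h2 hT.det_right hs₂, hT.gram,
      Matrix.det_kronecker, Fintype.card_fin, Fintype.card_fin, show (-1 : F) ^ 6 = 1 by ring, one_mul]
    constructor
    · rintro ⟨s, hs⟩
      refine ⟨s / (G₁.det ^ 2 * G₂.det), ?_⟩
      rw [div_mul_div_comm, ← hs, eq_div_iff (mul_ne_zero (mul_ne_zero (pow_ne_zero _ hT.det_left) hT.det_right)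
        (mul_ne_zero (pow_ne_zero _ hT.det_left) hT.det_right))]
      ring
    · rintro ⟨s, hs⟩
      exact ⟨G₁.det ^ 2 * G₂.det * s, by linear_combination (G₁.det ^ 4 * G₂.det ^ 2) * hs⟩
  by_cases hV : IsPlusTypeOn Q ⊤
  swap
  · exact .tensorThreeFour hV (odd_card_iff.mpr h2) h5 e P _ _ hf₁ hf₂ (fun h => hV (htype.mpr h)) hstr hcut
  obtain ⟨e', P', G', hT', hkr'⟩ := OEven.regroup_plus hQ h2 hH.1.le hT hkr (htype.mp hV)
  exact of_symplectic_factor hQ hcard hH hirr hV (Or.inr rfl) hT' hkr'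

/-- The theorem. -/
theorem cases : Twelve Q H := by
  classical
  have hI := sub hQ hcard hH
  rcases even_structure hQ (by omega) hI with hout | hres
  swap
  · exact .residual hres
  cases hout with
  | ts W h0 hW hle =>
    have hlt : finrank F W ≤ 6 := by
      obtain ⟨Qf, rfl, hP⟩ := ONotMax.exists_qform hQ
      have h1 := Witt.finrank_le_half Qf (ORefl.nondeg hP) (W := W) hW
      rw [Module.finrank_pi, hcard] at h1
      omega
    by_cases h5 : IsPlusTypeOn Q ⊤ ∧ finrank F W = 5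
    swap
    · exact .ts W h0 hW (fun hp h => h5 ⟨hp, h⟩) (cut_space hQ hcard hH h0 (by omega) hle)
    obtain ⟨⟨L, -, hL, hLd⟩, h5⟩ := h5
    rw [finrank_top, Module.finrank_pi, hcard] at hLd
    obtain ⟨U, hWU, hUd, hU⟩ : ∃ U : Submodule F (ι → F), W ≤ U ∧ finrank F U = 6 ∧ IsTotallySingularQuad Q U := by
      obtain ⟨Qf, rfl, hP⟩ := ONotMax.exists_qform hQ
      obtain ⟨U, h1, h2, h3⟩ := Witt.exists_extend Qf (ORefl.nondeg hP) (U := W) (L := L) hW hL (by omega)
      exact ⟨U, h1, by omega, h3⟩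
    have hle' := OEven.fixes_half hQ (m := 6) (by omega) (by norm_num) hU hUd hWU (by omega) hH.1.le hle
    have hU0 : U ≠ ⊥ := fun e => by rw [e, finrank_bot] at hUd; omega
    exact .ts U hU0 hU (fun _ => by omega) (cut_space hQ hcard hH hU0 (by omega) hle')
  | line v h2 hv hle =>
    have hv0 : v ≠ 0 := fun e => hv (by rw [e]; simpa using hQ.smul 0 0)
    refine .line v (fun h => odd_card_iff.mp h h2) hv (cut_space hQ hcard hH (by simpa using hv0) ?_ hle)
    rw [finrank_span_singleton hv0]; norm_num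
  | nondeg W h0 hW hd hle =>
    rw [hcard] at hd
    have hpos : 0 < finrank F W := Nat.pos_of_ne_zero fun e => h0 (Submodule.finrank_eq_zero.mp e)
    have hcut := cut_space hQ hcard hH h0 (by omega) hle
    by_cases ho : Odd (finrank F W)
    · refine .odd W (odd_card_iff.mpr (OEven.odd_dim_two_ne_zero hQ hW ho)) h0 (fun e => ?_) ho (by omega) hW hcut
      rw [e, finrank_top, Module.finrank_pi, hcard] at hd; omega
    rcases (show finrank F W = 2 ∨ finrank F W = 4 by
      obtain ⟨r, hr⟩ := Nat.not_odd_iff_even.mp ho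
      omega) with h2 | h4
    · refine .plane W h2 hW (fun hp => ?_) hcut
      by_contra h4
      obtain ⟨Qf, rfl, hP⟩ := ONotMax.exists_qform hQ
      obtain ⟨X, hX1, hX2⟩ := ONotMax.plane_not_max hP (by omega) (by omega) h2 hW hp
      rw [← hcut] at hX1
      exact not_between hQ hcard hH hX1 hX2
    · exact .four W h4 hW hcut
  | halves k D hk hD hle =>
    rw [hcard] at hk
    obtain rfl : k = 6 := by omega
    exact of_halves hQ hcard hH hD hle
  | decomp t k D hirr hD hle => exact of_decomp hQ hcard hH hirr hD hle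
  | tspair k D hirr hk hD hts hle => exact of_tspair hQ hcard hH hk hD hts hle
  | field r K hr hdvd hK hirr hadj hle => exact of_field hQ hcard hH hr (hcard ▸ hdvd) hK hle
  | tensor d k e P G₁ G₂ l hd hk hirr hT hkr =>
    have h := Fintype.card_congr e
    rw [hcard, Fintype.card_prod, Fintype.card_fin, Fintype.card_fin] at h
    have hsw : ∀ g ∈ H, ∃ (a : GL (Fin k) F) (b : GL (Fin d) F),
        matCoord (e.trans (Equiv.prodComm _ _)) P (g : Matrix ι ι F) =
          (a : Matrix (Fin k) (Fin k) F) ⊗ₖ (b : Matrix (Fin d) (Fin d) F) := fun g hg => by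
      obtain ⟨a, b, hab⟩ := hkr g hg
      refine ⟨b, a, ?_⟩
      ext ⟨i, x⟩ ⟨j, y⟩
      have := congrFun (congrFun hab (x, i)) (y, j)
      rw [Matrix.kronecker_apply] at this ⊢
      rw [mul_comm]
      exact this
    obtain ⟨rfl, rfl⟩ | ⟨rfl, rfl⟩ | ⟨rfl, rfl⟩ | ⟨rfl, rfl⟩ :
        (d = 2 ∧ k = 6) ∨ (d = 6 ∧ k = 2) ∨ (d = 3 ∧ k = 4) ∨ (d = 4 ∧ k = 3) := by
      have : d ≤ 6 := by nlinarith
      have : k ≤ 6 := by nlinarith
      interval_cases d <;> interval_cases k <;> simp at h ⊢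
    · exact of_tensor_two hQ hcard hH hirr hT hkr
    · exact of_tensor_two hQ hcard hH hirr (hT.prodComm (by simp) (fun _ => rfl)) hsw
    · exact of_tensor_three hQ hcard hH hirr hT hkr
    · exact of_tensor_three hQ hcard hH hirr (hT.prodComm (by simp) (fun _ => rfl)) hsw
  | symp M hM hn ha hne hc =>
    exfalso
    obtain ⟨j, hj⟩ := OEven.card_of_symplectic hQ (by omega) (hM.trans hI) ha hne hc
    rw [hcard] at hj
    have h3 : (3 : ℕ) ∣ 2 ^ j := hj ▸ by norm_num
    exact absurd (Nat.prime_three.dvd_of_dvd_pow h3) (by norm_num)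
  | subfield F₁ r P ζ hr hc hζ hrat hle => exact cut_subfield hQ hcard hH hr hc hζ hrat hle
  | power k t e B c G₀ l hk ht hirr hG hle =>
    exfalso
    have h := Fintype.card_congr e
    rw [hcard, Fintype.card_fun, Fintype.card_fin, Fintype.card_fin] at h
    have h2 : k ^ 2 ≤ 12 := h ▸ Nat.pow_le_pow_right (by omega) ht
    have h3 : k ≤ 3 := by nlinarith
    have ht' : t < 4 := by
      by_contra hcon
      have := (Nat.pow_le_pow_left hk t).trans' (Nat.pow_le_pow_right (show 0 < 2 by norm_num) (not_lt.mp hcon))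
      omega
    interval_cases k <;> interval_cases t <;> norm_num at h

end Cfsg.Agent.Classical.OTwelve
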