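import Mathlib
import Cfsg.Agent.Lib.Small.Spectrum

/-!
# Element orders of `PSL₃(q)`

The eigenvalues of an element of `SL₃(q)` are three, with product one, permuted by `x ↦ x^q`; the
cycle type of this permutation bounds the order modulo scalars.
-/

set_option autoImplicit false
set_option linter.unusedSectionVars false
set_option linter.style.haveILetI false

namespace Cfsg.Agent.Classical.L3Ord

open Polynomial Matrix

section Roots

variable {K : Type*} [Field K]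

/-- Three numbers with product one permuted by `x ↦ x^q`. -/
theorem roots_cases {q : ℕ} (hq : 2 ≤ q) (R : Multiset K) (hcard : R.card = 3) (hprod : R.prod = 1)
    (h0 : ∀ x ∈ R, x ≠ 0) (hτ : ∀ x ∈ R, x ^ q ∈ R) (hinj : ∀ x y : K, x ^ q = y ^ q → x = y) :
    (∀ x ∈ R, x ^ (q - 1) = 1) ∨
      (R.Nodup ∧ ∃ a, a ^ (q ^ 2 - 1) = 1 ∧ ∀ x ∈ R, x = a ∨ x = a ^ q ∨ x = (a ^ (q + 1))⁻¹) ∨
      (R.Nodup ∧ ∃ a, a ^ (q ^ 2 + q + 1) = 1 ∧ ∀ x ∈ R, x = a ∨ x = a ^ q ∨ x = a ^ (q ^ 2)) := by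
  classical
  by_cases hall : ∀ x ∈ R, x ^ q = x
  · left
    intro x hx
    refine mul_right_cancel₀ (h0 x hx) ?_
    rw [← pow_succ, Nat.sub_add_cancel (by omega), hall x hx, one_mul]
  push Not at hall
  obtain ⟨a, ha, hne⟩ := hall
  obtain ⟨b, hb⟩ : ∃ b, b = a ^ q := ⟨_, rfl⟩
  have hbR : b ∈ R := hb ▸ hτ a ha
  have hba : b ≠ a := hb ▸ hne
  obtain ⟨R1, hR1⟩ := Multiset.exists_cons_of_mem ha
  have hb1 : b ∈ R1 := by
    rw [hR1, Multiset.mem_cons] at hbR
    exact hbR.resolve_left hba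
  obtain ⟨R2, hR2⟩ := Multiset.exists_cons_of_mem hb1
  have hc2 : R2.card = 1 := by rw [hR1, hR2, Multiset.card_cons, Multiset.card_cons] at hcard; omega
  obtain ⟨c, rfl⟩ := Multiset.card_eq_one.mp hc2
  subst hR2
  subst hR1
  have hmem : ∀ x, x ∈ (a ::ₘ b ::ₘ {c}) ↔ x = a ∨ x = b ∨ x = c := fun x => by simp
  have hp : a * b * c = 1 := by simpa [mul_assoc] using hprod
  have ha0 := h0 a ha
  have hcR : c ∈ a ::ₘ b ::ₘ {c} := (hmem c).2 (Or.inr (Or.inr rfl))
  have hbq : b ^ q = a ∨ (b ^ q = c ∧ c ≠ a) := by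
    rcases (hmem _).1 (hτ b ((hmem b).2 (Or.inr (Or.inl rfl)))) with e | e | e
    · exact Or.inl e
    · exact absurd (hinj b a (e.trans hb)) hba
    · by_cases hca : c = a
      · exact Or.inl (e.trans hca)
      · exact Or.inr ⟨e, hca⟩
  rcases hbq with hbq | ⟨hbq, hca⟩
  · right; left
    have hq2 : a ^ (q ^ 2) = a := by rw [sq, pow_mul, ← hb, hbq]
    have ha2 : a ^ (q ^ 2 - 1) = 1 := by
      refine mul_right_cancel₀ ha0 ?_
      rw [← pow_succ, Nat.sub_add_cancel (Nat.one_le_pow _ _ (by omega)), hq2, one_mul]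
    have hc : c = (a ^ (q + 1))⁻¹ := by
      refine eq_inv_of_mul_eq_one_right ?_
      rw [pow_succ', ← hb, hp]
    have hcq : c ^ q = c := by
      rw [hc, inv_pow, ← pow_mul, add_mul, one_mul, ← sq, pow_add, hq2, pow_succ, mul_comm]
    refine ⟨?_, a, ha2, fun x hx => ?_⟩
    · have hca : c ≠ a := fun h => hne (h ▸ hcq)
      have hcb : c ≠ b := fun h => hba (by rw [← hbq, ← h, hcq])
      simp [Ne.symm hba, Ne.symm hca, Ne.symm hcb]
    · rw [← hb, ← hc]
      exact (hmem x).1 hx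
  · right; right
    have hc : c = a ^ (q ^ 2) := by rw [← hbq, hb, ← pow_mul, sq]
    have hcb : c ≠ b := fun h => hba (hinj b a (by rw [hbq, h, hb]))
    refine ⟨by simp [Ne.symm hba, Ne.symm hca, Ne.symm hcb], a, ?_, fun x hx => ?_⟩
    · rw [pow_add, pow_add, pow_one, ← hb, ← hc, ← hp]; ring
    · rw [← hb, ← hc]
      exact (hmem x).1 hx

end Roots

variable {F : Type*} [Field F] [Fintype F]

local notation "q" => Fintype.card F

theorem pow_root {K : Type*} [Field K] [Algebra F K] (P : F[X]) {x : K} (hx : aeval x P = 0) :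
    aeval (x ^ q) P = 0 := by
  rw [← Polynomial.expand_aeval, FiniteField.expand_card, map_pow, hx, zero_pow Fintype.card_ne_zero]

theorem exists_pow_scalar {p : ℕ} [hp' : Fact p.Prime] [CharP F p] (g : Matrix.SpecialLinearGroup (Fin 3) F) :
    ∃ k : ℕ, (k = (q ^ 2 + q + 1) / Nat.gcd 3 (q - 1) ∨ k = (q ^ 2 - 1) / Nat.gcd 3 (q - 1) ∨ k = q - 1 ∨
      k = p * (q - 1) / Nat.gcd 3 (q - 1) ∨ (p = 2 ∧ k = 4)) ∧ ∃ c : F, g.1 ^ k = c • 1 := by
  classical
  let K := AlgebraicClosure F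
  obtain ⟨M, hM⟩ : ∃ M, M = g.1.map (algebraMap F K) := ⟨_, rfl⟩
  haveI : CharP K p := charP_of_injective_algebraMap (algebraMap F K).injective p
  obtain ⟨R, hR⟩ : ∃ R, R = M.charpoly.roots := ⟨_, rfl⟩
  have hs : M.charpoly.Splits := IsAlgClosed.splits _
  have hmon := M.charpoly_monic
  have hcard : R.card = 3 := by
    rw [hR, ← hs.natDegree_eq_card_roots, Matrix.charpoly_natDegree_eq_dim, Fintype.card_fin]
  have hprod : R.prod = 1 := by
    rw [hR, ← Matrix.det_eq_prod_roots_charpoly, hM]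
    rw [← RingHom.mapMatrix_apply, ← RingHom.map_det, g.2, map_one]
  have hmemR : ∀ x, x ∈ R ↔ aeval x g.1.charpoly = 0 := fun x => by
    rw [hR, hM, Matrix.charpoly_map, mem_roots_map g.1.charpoly_monic.ne_zero, aeval_def]
  have h0 : ∀ x ∈ R, x ≠ 0 := fun x hx e => by
    subst e
    rw [Multiset.prod_eq_zero hx] at hprod
    exact zero_ne_one hprod
  obtain ⟨f, -, hqf⟩ := FiniteField.card F p
  have hinj : ∀ x y : K, x ^ q = y ^ q → x = y := fun x y e => (iterateFrobenius K p (f : ℕ)).injective (by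
    rw [iterateFrobenius_def, iterateFrobenius_def, ← hqf, e])
  have hq2 : 2 ≤ q := Fintype.one_lt_card
  have hback : ∀ k : ℕ, (∃ c : K, M ^ k = c • 1) → ∃ c : F, g.1 ^ k = c • 1 := by
    rintro k ⟨c, hc⟩
    rw [hM, ← RingHom.mapMatrix_apply, ← map_pow] at hc
    refine ⟨(g.1 ^ k) 0 0, Matrix.ext fun i j => (algebraMap F K).injective ?_⟩
    have e := congrFun (congrFun hc i) j
    have e0 := congrFun (congrFun hc 0) 0
    simp only [RingHom.mapMatrix_apply, Matrix.map_apply, Matrix.smul_apply, Matrix.one_apply_eq, smul_eq_mul,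
      mul_one] at e e0
    rw [e, Matrix.smul_apply, smul_eq_mul, map_mul, e0, Matrix.one_apply, Matrix.one_apply]
    split_ifs <;> simp
  have hae : ∀ Q : K[X], M.charpoly ∣ Q → aeval M Q = 0 := fun Q hQ => by
    obtain ⟨T, rfl⟩ := hQ
    rw [map_mul, Matrix.aeval_self_charpoly, zero_mul]
  have hnod : R.Nodup → ∀ k, 0 < k → ∀ c : K, (∀ r ∈ R, r ^ k = c) → ∃ c : F, g.1 ^ k = c • 1 := by
    intro hn k hk c hc
    refine hback k ⟨c, sub_eq_zero.mp ?_⟩
    have h := hae (X ^ k - C c) (by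
      rw [hs.eq_prod_roots_of_monic hmon]
      refine (Multiset.prod_X_sub_C_dvd_iff_le_roots (X_pow_sub_C_ne_zero hk c) _).mpr ?_
      rw [← hR, Multiset.le_iff_subset hn]
      intro r hr
      rw [mem_roots (X_pow_sub_C_ne_zero hk c), IsRoot, eval_sub, eval_pow, eval_X, eval_C, hc r hr, sub_self])
    simpa [Algebra.algebraMap_eq_smul_one] using h
  obtain ⟨d, hd⟩ : ∃ d, d = Nat.gcd 3 (q - 1) := ⟨_, rfl⟩
  rw [← hd]
  obtain ⟨k1, hk1⟩ : d ∣ q - 1 := hd ▸ Nat.gcd_dvd_right 3 (q - 1)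
  obtain ⟨u, hu⟩ : d ∣ 3 := hd ▸ Nat.gcd_dvd_left 3 (q - 1)
  have hd0 : 0 < d := hd ▸ Nat.gcd_pos_of_pos_left _ (by norm_num)
  have hk10 : 0 < k1 := Nat.pos_of_mul_pos_left (hk1 ▸ (by omega) : 0 < d * k1)
  rcases roots_cases hq2 R hcard hprod h0 (fun x hx => (hmemR _).2 (pow_root _ ((hmemR x).1 hx))) hinj with
    h | ⟨hn, a, ha, hroots⟩ | ⟨hn, a, ha, hroots⟩
  · by_cases hn : R.Nodup
    · exact ⟨q - 1, by simp, hnod hn _ (by omega) 1 h⟩
    · obtain ⟨z, w, hzw⟩ : ∃ z w, R = z ::ₘ z ::ₘ {w} := by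
        obtain ⟨a, b, c, habc⟩ := Multiset.card_eq_three.mp hcard
        rw [habc] at hn ⊢
        simp only [Multiset.insert_eq_cons, Multiset.nodup_cons, Multiset.mem_cons, Multiset.mem_singleton,
          Multiset.nodup_singleton, and_true, not_and, not_not, not_or] at hn ⊢
        by_cases hab : a = b
        · exact ⟨a, c, by rw [hab]⟩
        · by_cases hac : a = c
          · exact ⟨a, b, by rw [hac]; simp [← Multiset.singleton_add, add_comm]⟩
          · have hbc := hn ⟨hab, hac⟩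
            exact ⟨b, a, by rw [← hbc]; simp [← Multiset.singleton_add, add_comm, add_left_comm]⟩
      have hz : z ^ (q - 1) = 1 := h z (by rw [hzw]; simp)
      have hz2 : z * z * w = 1 := by rw [hzw] at hprod; simpa [mul_assoc] using hprod
      have hz3 : z ^ k1 * (z ^ k1 * z ^ k1) = 1 := by
        rw [← pow_add, ← pow_add, show k1 + (k1 + k1) = (q - 1) * u from by
          rw [hk1]; calc k1 + (k1 + k1) = 3 * k1 := by ring
            _ = _ := by rw [hu]; ring, pow_mul, hz, one_pow]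
      have hwz : w ^ k1 = z ^ k1 := by
        calc w ^ k1 = w ^ k1 * (z ^ k1 * (z ^ k1 * z ^ k1)) := by rw [hz3, mul_one]
          _ = (z * z * w) ^ k1 * z ^ k1 := by ring
          _ = z ^ k1 := by rw [hz2, one_pow, one_mul]
      have hfac : M.charpoly = (X - C z) * ((X - C z) * (X - C w)) := by
        rw [hs.eq_prod_roots_of_monic hmon, ← hR, hzw]; simp
      have hr : ∀ r, r ^ k1 = z ^ k1 → (X - C r) ∣ (X ^ k1 - C (z ^ k1) : K[X]) := fun r hr => by
        rw [dvd_iff_isRoot, IsRoot, eval_sub, eval_pow, eval_X, eval_C, hr, sub_self]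
      have hp2 : p = 2 → z = w → ∃ c : F, g.1 ^ 4 = c • 1 := by
        intro h2 hzw'
        refine hback 4 ⟨z ^ 4, sub_eq_zero.mp ?_⟩
        haveI : CharP K 2 := h2 ▸ ‹CharP K p›
        have hh := hae ((X - C z) ^ 2 ^ 2) (by rw [hfac, hzw']; exact ⟨X - C w, by ring⟩)
        rw [sub_pow_char_pow, ← C_pow] at hh
        simpa [Algebra.algebraMap_eq_smul_one, _root_.smul_pow] using hh
      by_cases hcase : p = 2 ∧ z = w
      · exact ⟨4, Or.inr (Or.inr (Or.inr (Or.inr ⟨hcase.1, rfl⟩))), hp2 hcase.1 hcase.2⟩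
      refine ⟨p * (q - 1) / d, by simp, ?_⟩
      rw [hk1, Nat.mul_div_assoc p (dvd_mul_right d k1), Nat.mul_div_cancel_left _ hd0]
      have hdiv : M.charpoly ∣ (X ^ k1 - C (z ^ k1)) ^ p := by
        rw [hfac]
        rcases Nat.lt_or_ge p 3 with hlt | hge
        · have h2 : p = 2 := by have := hp'.out.two_le; omega
          have hzw' : z ≠ w := fun e => hcase ⟨h2, e⟩
          have hdv : (X - C z) * (X - C w) ∣ (X ^ k1 - C (z ^ k1) : K[X]) :=
            (Polynomial.pairwise_coprime_X_sub_C (s := id) Function.injective_id hzw').mul_dvd (hr z rfl) (hr w hwz)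
          rw [h2, sq]
          exact mul_dvd_mul (hr z rfl) hdv
        · refine dvd_trans ?_ (pow_dvd_pow _ hge)
          rw [pow_succ, pow_succ, pow_one, mul_assoc]
          exact mul_dvd_mul (hr z rfl) (mul_dvd_mul (hr z rfl) (hr w hwz))
      refine hback _ ⟨(z ^ k1) ^ p, sub_eq_zero.mp ?_⟩
      have hh := hae _ hdiv
      rw [sub_pow_char, ← pow_mul, ← C_pow, mul_comm k1] at hh
      simpa [Algebra.algebraMap_eq_smul_one, _root_.smul_pow] using hh
  · refine ⟨(q ^ 2 - 1) / d, by simp, ?_⟩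
    have hfac : q ^ 2 - 1 = (q + 1) * (q - 1) := by rw [← Nat.sq_sub_sq, one_pow]
    obtain ⟨k, hkdef⟩ : ∃ k, k = (q ^ 2 - 1) / d := ⟨_, rfl⟩
    have hk : k = (q + 1) * k1 := by
      rw [hkdef, hfac, hk1, mul_left_comm, Nat.mul_div_cancel_left _ hd0]
    rw [← hkdef]
    have hk0 : 0 < k := by rw [hk]; exact Nat.mul_pos (by omega) hk10
    have e1 : a ^ ((q - 1) * k) = 1 := by
      rw [hk, show (q - 1) * ((q + 1) * k1) = (q ^ 2 - 1) * k1 by rw [hfac]; ring, pow_mul, ha, one_pow]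
    have e2 : a ^ (3 * k) = 1 := by
      rw [hk, show 3 * ((q + 1) * k1) = (q ^ 2 - 1) * u by rw [hfac, hk1, hu]; ring, pow_mul, ha, one_pow]
    refine hnod hn k hk0 (a ^ k) fun r hr => ?_
    rcases hroots r hr with rfl | rfl | rfl
    · rfl
    · rw [← pow_mul, show q * k = (q - 1) * k + k by rw [← Nat.succ_mul]; congr 1; omega, pow_add, e1, one_mul]
    · rw [inv_pow, ← pow_mul]
      refine inv_eq_of_mul_eq_one_right ?_
      rw [← pow_add, show (q + 1) * k + k = (q - 1) * k + 3 * k by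
        obtain ⟨t, ht⟩ : ∃ t, q = t + 1 := ⟨q - 1, by omega⟩
        rw [ht, Nat.add_sub_cancel]; ring, pow_add, e1, e2, one_mul]
  · refine ⟨(q ^ 2 + q + 1) / d, by simp, ?_⟩
    have hsplit : q ^ 2 + q + 1 = (q - 1) * (q + 2) + 3 := by
      obtain ⟨t, ht⟩ : ∃ t, q = t + 1 := ⟨q - 1, by omega⟩
      rw [ht, Nat.add_sub_cancel]; ring
    obtain ⟨k, hk⟩ : d ∣ q ^ 2 + q + 1 := hsplit ▸ dvd_add (hk1 ▸ Dvd.intro _ (mul_assoc d k1 _).symm) ⟨u, hu⟩
    rw [hk, Nat.mul_div_cancel_left _ hd0]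
    have hk0 : 0 < k := Nat.pos_of_mul_pos_left (hk ▸ Nat.succ_pos (q ^ 2 + q) : 0 < d * k)
    have e1 : a ^ ((q - 1) * k) = 1 := by
      rw [show (q - 1) * k = (q ^ 2 + q + 1) * k1 by rw [hk, hk1]; ring, pow_mul, ha, one_pow]
    have e3 : ∀ j : ℕ, a ^ ((j * (q - 1) + 1) * k) = a ^ k := fun j => by
      rw [add_mul, one_mul, pow_add, mul_assoc, pow_mul' a j, e1, one_pow, one_mul]
    refine hnod hn k hk0 (a ^ k) fun r hr => ?_
    rcases hroots r hr with rfl | rfl | rfl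
    · rfl
    · rw [← pow_mul]
      have := e3 1
      rwa [one_mul, Nat.sub_add_cancel (by omega)] at this
    · rw [← pow_mul]
      have := e3 (q + 1)
      rwa [show (q + 1) * (q - 1) + 1 = q ^ 2 by
        obtain ⟨t, ht⟩ : ∃ t, q = t + 1 := ⟨q - 1, by omega⟩
        rw [ht, Nat.add_sub_cancel]; ring] at this

theorem orderOf_dvd_of_scalar (g : Matrix.SpecialLinearGroup (Fin 3) F) {k : ℕ} {z : F} (h : g.1 ^ k = z • 1) :
    orderOf (QuotientGroup.mk g : Matrix.ProjectiveSpecialLinearGroup (Fin 3) F) ∣ k := by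
  refine orderOf_dvd_of_pow_eq_one ?_
  rw [← QuotientGroup.mk_pow]
  refine (QuotientGroup.eq_one_iff _).mpr (Subgroup.mem_center_iff.mpr fun x => Subtype.ext ?_)
  rw [Matrix.SpecialLinearGroup.coe_mul, Matrix.SpecialLinearGroup.coe_mul, Matrix.SpecialLinearGroup.coe_pow, h]
  simp

theorem mem_range {T n : ℕ} (g : Matrix.SpecialLinearGroup (Fin 3) F)
    (h : ∀ (k : ℕ) (z : F), g.1 ^ k = z • 1 → T ∣ k) (hn : n ∣ T) :
    n ∈ Set.range (orderOf : Matrix.ProjectiveSpecialLinearGroup (Fin 3) F → ℕ) := by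
  refine Small.mem_range_orderOf_of_dvd (QuotientGroup.mk g : Matrix.ProjectiveSpecialLinearGroup (Fin 3) F) (hn.trans ?_)
  obtain ⟨k, hk⟩ : ∃ k, k = orderOf (QuotientGroup.mk g : Matrix.ProjectiveSpecialLinearGroup (Fin 3) F) := ⟨_, rfl⟩
  rw [← hk]
  have hz : g ^ k ∈ Subgroup.center (Matrix.SpecialLinearGroup (Fin 3) F) := by
    rw [← QuotientGroup.eq_one_iff, QuotientGroup.mk_pow, hk]
    exact pow_orderOf_eq_one _
  obtain ⟨r, -, hr⟩ := Matrix.SpecialLinearGroup.mem_center_iff.mp hz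
  refine h k r ?_
  rw [← Matrix.SpecialLinearGroup.coe_pow, ← hr]
  ext i j; by_cases hij : i = j <;> simp [hij]

/-- Companion matrix of `X³ - e₁X² + e₂X - 1`. -/
theorem exists_eigen {L : Type*} [Field L] [Algebra F L] (a b c : L) (hprod : a * b * c = 1) (e₁ e₂ : F)
    (h1 : algebraMap F L e₁ = a + b + c) (h2 : algebraMap F L e₂ = a * b + a * c + b * c) :
    ∃ g : Matrix.SpecialLinearGroup (Fin 3) F, ∀ (k : ℕ) (z : F), g.1 ^ k = z • 1 →
      a ^ k = algebraMap F L z ∧ b ^ k = algebraMap F L z ∧ c ^ k = algebraMap F L z := by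
  classical
  have hdet : (!![0, 0, 1; 1, 0, -e₂; 0, 1, e₁] : Matrix (Fin 3) (Fin 3) F).det = 1 := by
    simp [Matrix.det_fin_three]
  refine ⟨⟨_, hdet⟩, fun k z hz => ?_⟩
  have key : ∀ x : L, (x - a) * (x - b) * (x - c) = 0 → x ^ k = algebraMap F L z := by
    intro x hx
    obtain ⟨M, hM⟩ : ∃ M, M = (!![0, 0, 1; 1, 0, -e₂; 0, 1, e₁] : Matrix (Fin 3) (Fin 3) F).map (algebraMap F L) :=
      ⟨_, rfl⟩
    have hd : (Matrix.scalar (Fin 3) x - M).det = 0 := by
      rw [hM]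
      simp [Matrix.det_fin_three, h1, h2]
      linear_combination hx + hprod
    obtain ⟨v, hv, hv0⟩ := Matrix.exists_mulVec_eq_zero_iff.mpr hd
    have hMv : M *ᵥ v = x • v := by
      rw [Matrix.sub_mulVec, sub_eq_zero] at hv0
      rw [← hv0]
      ext i; simp [Matrix.mulVec_diagonal]
    have hpow : ∀ j : ℕ, (M ^ j) *ᵥ v = x ^ j • v := by
      intro j
      induction j with
      | zero => simp
      | succ j ih => rw [pow_succ, ← Matrix.mulVec_mulVec, hMv, Matrix.mulVec_smul, ih, smul_smul, pow_succ']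
    have e := hpow k
    have h3 : M ^ k = algebraMap F L z • (1 : Matrix (Fin 3) (Fin 3) L) := by
      rw [hM, ← RingHom.mapMatrix_apply, ← map_pow]
      change (algebraMap F L).mapMatrix ((!![0, 0, 1; 1, 0, -e₂; 0, 1, e₁] : Matrix (Fin 3) (Fin 3) F) ^ k) = _
      rw [show (!![0, 0, 1; 1, 0, -e₂; 0, 1, e₁] : Matrix (Fin 3) (Fin 3) F) ^ k = z • 1 from hz]
      ext i j; by_cases hij : i = j <;> simp [Matrix.one_apply, hij]
    rw [h3, Matrix.smul_mulVec, Matrix.one_mulVec] at e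
    exact (smul_left_injective L hv e).symm
  exact ⟨key a (by ring), key b (by ring), key c (by ring)⟩

theorem gcd_step {d T A B k : ℕ} (hd : Nat.gcd A B = d) (hd0 : 0 < d) (hdT : d ∣ T) (h1 : T ∣ A * k)
    (h2 : T ∣ B * k) : T / d ∣ k := by
  refine (Nat.div_dvd_iff_dvd_mul hdT hd0).mpr ?_
  rw [← hd, ← Nat.gcd_mul_right]
  exact Nat.dvd_gcd h1 h2

theorem exists_gen_field {L : Type*} [Field L] [Fintype L] {T : ℕ} (hT : T ∣ Fintype.card L - 1) :
    ∃ a : L, a ≠ 0 ∧ a ^ T = 1 ∧ ∀ k, a ^ k = 1 → T ∣ k := by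
  classical
  obtain ⟨g, hg⟩ := IsCyclic.exists_generator (α := Lˣ)
  have hgo : orderOf g = Fintype.card L - 1 := by
    rw [orderOf_eq_card_of_forall_mem_zpowers hg, Nat.card_units, Nat.card_eq_fintype_card]
  obtain ⟨m, hm⟩ := hT
  have hpos : 0 < Fintype.card L - 1 := Nat.sub_pos_of_lt Fintype.one_lt_card
  have hm0 : m ≠ 0 := fun e => by rw [e, mul_zero] at hm; omega
  have ho : orderOf (g ^ m) = T := by
    rw [orderOf_pow_of_dvd hm0 (hgo ▸ hm ▸ dvd_mul_left _ _), hgo, hm, Nat.mul_div_cancel _ (by omega)]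
  refine ⟨((g ^ m : Lˣ) : L), Units.ne_zero _, ?_, fun k hk => ?_⟩
  · rw [← Units.val_pow_eq_pow_val, ← ho, pow_orderOf_eq_one, Units.val_one]
  · rw [← ho]
    exact orderOf_dvd_of_pow_eq_one (Units.ext (by rw [Units.val_pow_eq_pow_val, hk, Units.val_one]))

theorem mem_range_algebraMap {L : Type*} [Field L] [Algebra F L] (y : L) (hy : y ^ q = y) :
    ∃ e : F, algebraMap F L e = y := by
  classical
  have hne : (X ^ q - X : L[X]) ≠ 0 := FiniteField.X_pow_card_sub_X_ne_zero L Fintype.one_lt_card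
  let S := Finset.univ.image (algebraMap F L)
  have hsub : S ⊆ (X ^ q - X : L[X]).roots.toFinset := fun z hz => by
    obtain ⟨e, -, rfl⟩ := Finset.mem_image.mp hz
    rw [Multiset.mem_toFinset, mem_roots hne, IsRoot, eval_sub, eval_pow, eval_X, ← map_pow, FiniteField.pow_card,
      sub_self]
  have hcard : S.card = q := by
    rw [Finset.card_image_of_injective _ (algebraMap F L).injective, Finset.card_univ]
  have heq := Finset.eq_of_subset_of_card_le hsub (by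
    rw [hcard]
    refine ((Multiset.toFinset_card_le _).trans (Polynomial.card_roots' _)).trans ?_
    rw [FiniteField.X_pow_card_sub_X_natDegree_eq L Fintype.one_lt_card])
  have hyS : y ∈ (X ^ q - X : L[X]).roots.toFinset := by
    rw [Multiset.mem_toFinset, mem_roots hne, IsRoot, eval_sub, eval_pow, eval_X, hy, sub_self]
  rw [← heq] at hyS
  obtain ⟨e, -, he⟩ := Finset.mem_image.mp hyS
  exact ⟨e, he⟩

theorem exists_one {n : ℕ} (hn : n ∣ q - 1) :
    n ∈ Set.range (orderOf : Matrix.ProjectiveSpecialLinearGroup (Fin 3) F → ℕ) := by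
  obtain ⟨a, ha0, -, hak⟩ := exists_gen_field (L := F) dvd_rfl
  have hdet : (Matrix.diagonal ![a, a⁻¹, 1]).det = 1 := by
    rw [Matrix.det_diagonal, Fin.prod_univ_three]; simp [ha0]
  refine mem_range ⟨_, hdet⟩ (T := q - 1) (fun k z hz => ?_) hn
  change Matrix.diagonal ![a, a⁻¹, 1] ^ k = z • 1 at hz
  rw [Matrix.diagonal_pow] at hz
  have e0 := congrFun (congrFun hz 0) 0
  have e2 := congrFun (congrFun hz 2) 2
  simp at e0 e2
  exact hak k (e0.trans e2.symm)

theorem exists_two {p : ℕ} [Fact p.Prime] [CharP F p] {n : ℕ} (hn : n ∣ p * (q - 1) / Nat.gcd 3 (q - 1)) :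
    n ∈ Set.range (orderOf : Matrix.ProjectiveSpecialLinearGroup (Fin 3) F → ℕ) := by
  obtain ⟨a, ha0, -, hak⟩ := exists_gen_field (L := F) dvd_rfl
  let M : Matrix (Fin 3) (Fin 3) F := !![a, a, 0; 0, a, 0; 0, 0, (a * a)⁻¹]
  have hdet : M.det = 1 := by simp [M, Matrix.det_fin_three]; field_simp
  have hpow : ∀ k : ℕ, M ^ k = !![a ^ k, k * a ^ k, 0; 0, a ^ k, 0; 0, 0, ((a * a)⁻¹) ^ k] := by
    intro k
    induction k with
    | zero => ext i j; fin_cases i <;> fin_cases j <;> simp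
    | succ k ih =>
      rw [pow_succ, ih]
      ext i j
      fin_cases i <;> fin_cases j <;> simp [M, Matrix.mul_apply, Fin.sum_univ_three, pow_succ] <;> ring
  obtain ⟨d, hd⟩ : ∃ d, d = Nat.gcd 3 (q - 1) := ⟨_, rfl⟩
  rw [← hd] at hn
  have hdq : d ∣ q - 1 := hd ▸ Nat.gcd_dvd_right 3 (q - 1)
  refine mem_range ⟨M, hdet⟩ (T := p * (q - 1) / d) (fun k z hz => ?_) hn
  change M ^ k = z • 1 at hz
  rw [hpow] at hz
  have e00 := congrFun (congrFun hz 0) 0
  have e01 := congrFun (congrFun hz 0) 1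
  have e22 := congrFun (congrFun hz 2) 2
  simp at e00 e01 e22
  have hk0 : (k : F) = 0 := by simpa [ha0] using e01
  have h3 : a ^ (3 * k) = 1 := by
    rw [← e00] at e22
    have : a ^ k * (a ^ k * a ^ k) = a ^ k * a ^ k * ((a * a)⁻¹) ^ k := by
      rw [mul_inv, e22]; ring
    rw [show 3 * k = k + (k + k) by ring, pow_add, pow_add, this, inv_pow, mul_pow, mul_inv_cancel₀ (by simp [ha0])]
  have hdk : (q - 1) / d ∣ k := gcd_step (A := 3) (B := q - 1) hd.symm (hd ▸ Nat.gcd_pos_of_pos_left _ (by norm_num)) hdq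
    (hak _ h3) (dvd_mul_right _ _)
  rw [Nat.mul_div_assoc p hdq]
  refine Nat.Coprime.mul_dvd_of_dvd_of_dvd ?_ ((CharP.cast_eq_zero_iff F p k).mp hk0) hdk
  refine Nat.Coprime.coprime_dvd_right (Nat.div_dvd_of_dvd hdq) ((Fact.out : p.Prime).coprime_iff_not_dvd.mpr fun h => ?_)
  obtain ⟨f, -, hqf⟩ := FiniteField.card F p
  have hpq : p ∣ q := hqf ▸ dvd_pow_self p f.pos.ne'
  have h1 : 1 ≤ q := Fintype.card_pos
  exact (Fact.out : p.Prime).not_dvd_one ((Nat.dvd_add_right h).mp (by rwa [Nat.sub_add_cancel h1]))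

theorem exists_five (p : ℕ) [Fact p.Prime] [CharP F p] (hp : p = 2) {n : ℕ} (hn : n ∣ 4) :
    n ∈ Set.range (orderOf : Matrix.ProjectiveSpecialLinearGroup (Fin 3) F → ℕ) := by
  haveI : CharP F 2 := hp ▸ ‹CharP F p›
  have h2 : (2 : F) = 0 := CharTwo.two_eq_zero
  let M : Matrix (Fin 3) (Fin 3) F := !![1, 1, 0; 0, 1, 1; 0, 0, 1]
  have hdet : M.det = 1 := by simp [M, Matrix.det_fin_three]
  refine mem_range ⟨M, hdet⟩ (T := 4) (fun k z hz => ?_) hn
  change M ^ k = z • 1 at hz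
  have h4 : M ^ 4 = 1 := by
    ext i j
    fin_cases i <;> fin_cases j <;> simp [M, pow_succ, Matrix.mul_apply, Fin.sum_univ_three] <;> grind
  rw [← Nat.div_add_mod k 4, pow_add, pow_mul, h4, one_pow, one_mul] at hz
  have e01 := congrFun (congrFun hz 0) 1
  have e02 := congrFun (congrFun hz 0) 2
  have hlt := Nat.mod_lt k (show 4 > 0 by norm_num)
  rw [Nat.dvd_iff_mod_eq_zero]
  generalize k % 4 = r at hz e01 e02 hlt ⊢
  interval_cases r <;> simp [M, pow_succ, Matrix.mul_apply, Fin.sum_univ_three] at e01 e02 ⊢ <;> grind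

theorem exists_three {p : ℕ} [Fact p.Prime] [CharP F p] {n : ℕ} (hn : n ∣ (q ^ 2 - 1) / Nat.gcd 3 (q - 1)) :
    n ∈ Set.range (orderOf : Matrix.ProjectiveSpecialLinearGroup (Fin 3) F → ℕ) := by
  haveI := Fintype.ofFinite (FiniteField.Extension F p 2)
  have hcard : Fintype.card (FiniteField.Extension F p 2) = q ^ 2 := by
    rw [← Nat.card_eq_fintype_card, FiniteField.natCard_extension, Nat.card_eq_fintype_card]
  obtain ⟨a, ha0, ha, hak⟩ := exists_gen_field (L := FiniteField.Extension F p 2) (T := q ^ 2 - 1) (by rw [hcard])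
  haveI : CharP (FiniteField.Extension F p 2) p :=
    charP_of_injective_algebraMap (algebraMap F (FiniteField.Extension F p 2)).injective p
  obtain ⟨f, -, hqf⟩ := FiniteField.card F p
  have hq : 2 ≤ q := Fintype.one_lt_card
  have hq2 : a ^ (q ^ 2) = a := by
    rw [← Nat.sub_add_cancel (Nat.one_le_pow 2 q (by omega)), pow_succ, ha, one_mul]
  have hbq : (a ^ q) ^ q = a := by rw [← pow_mul, ← sq, hq2]
  obtain ⟨c, hc⟩ : ∃ c, c = (a ^ (q + 1))⁻¹ := ⟨_, rfl⟩
  have hcq : c ^ q = c := by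
    rw [hc, inv_pow, pow_succ, mul_pow, hbq, mul_comm]
  have hadd : ∀ x y : FiniteField.Extension F p 2, (x + y) ^ q = x ^ q + y ^ q := fun x y => by
    rw [hqf, add_pow_char_pow]
  have hprod : a * a ^ q * c = 1 := by rw [hc, ← pow_succ', mul_inv_cancel₀ (pow_ne_zero _ ha0)]
  obtain ⟨e1, h1⟩ := mem_range_algebraMap (F := F) (a + a ^ q + c) (by rw [hadd, hadd, hbq, hcq]; ring)
  obtain ⟨e2, h2⟩ := mem_range_algebraMap (F := F) (a * a ^ q + a * c + a ^ q * c) (by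
    rw [hadd, hadd, mul_pow, mul_pow, mul_pow, hbq, hcq]; ring)
  obtain ⟨x, hx⟩ := exists_eigen a (a ^ q) c hprod e1 e2 h1 h2
  obtain ⟨d, hd⟩ : ∃ d, d = Nat.gcd 3 (q - 1) := ⟨_, rfl⟩
  rw [← hd] at hn
  have hfac : q ^ 2 - 1 = (q + 1) * (q - 1) := by rw [← Nat.sq_sub_sq, one_pow]
  refine mem_range x (T := (q ^ 2 - 1) / d) (fun k z hz => ?_) hn
  obtain ⟨k1, k2, k3⟩ := hx k z hz
  have m1 : a ^ ((q - 1) * k) = 1 := by
    refine mul_right_cancel₀ (pow_ne_zero k ha0) ?_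
    rw [← pow_add, ← Nat.succ_mul, show (q - 1).succ = q by omega, pow_mul, k2, ← k1, one_mul]
  have m2 : a ^ (3 * k) = 1 := by
    have : a ^ ((q + 1) * k) * a ^ k = 1 := by
      rw [k1, ← k3, hc, inv_pow, ← pow_mul, mul_inv_cancel₀ (pow_ne_zero _ ha0)]
    rwa [← pow_add, show (q + 1) * k + k = (q - 1) * k + 3 * k by
        obtain ⟨t, ht⟩ : ∃ t, q = t + 1 := ⟨q - 1, by omega⟩
        rw [ht, Nat.add_sub_cancel]; ring, pow_add, m1, one_mul] at this
  exact gcd_step (A := 3) (B := q - 1) hd.symm (hd ▸ Nat.gcd_pos_of_pos_left _ (by norm_num))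
    (hd ▸ (Nat.gcd_dvd_right 3 (q - 1)).trans (hfac ▸ dvd_mul_left _ _)) (hak _ m2) (hak _ m1)

theorem exists_four {p : ℕ} [Fact p.Prime] [CharP F p] {n : ℕ} (hn : n ∣ (q ^ 2 + q + 1) / Nat.gcd 3 (q - 1)) :
    n ∈ Set.range (orderOf : Matrix.ProjectiveSpecialLinearGroup (Fin 3) F → ℕ) := by
  haveI := Fintype.ofFinite (FiniteField.Extension F p 3)
  have hcard : Fintype.card (FiniteField.Extension F p 3) = q ^ 3 := by
    rw [← Nat.card_eq_fintype_card, FiniteField.natCard_extension, Nat.card_eq_fintype_card]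
  have hq : 2 ≤ q := Fintype.one_lt_card
  have hN3 : (q - 1) * (q ^ 2 + q + 1) = q ^ 3 - 1 := by
    obtain ⟨t, ht⟩ : ∃ t, q = t + 1 := ⟨q - 1, by omega⟩
    rw [ht, Nat.add_sub_cancel, show (t + 1) ^ 3 = t * ((t + 1) ^ 2 + (t + 1) + 1) + 1 by ring, Nat.add_sub_cancel]
  obtain ⟨a, ha0, ha, hak⟩ := exists_gen_field (L := FiniteField.Extension F p 3) (T := q ^ 2 + q + 1)
    (by rw [hcard, ← hN3]; exact dvd_mul_left _ _)
  haveI : CharP (FiniteField.Extension F p 3) p :=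
    charP_of_injective_algebraMap (algebraMap F (FiniteField.Extension F p 3)).injective p
  obtain ⟨f, -, hqf⟩ := FiniteField.card F p
  obtain ⟨b, hb⟩ : ∃ b, b = a ^ q := ⟨_, rfl⟩
  obtain ⟨c, hc⟩ : ∃ c, c = a ^ (q ^ 2) := ⟨_, rfl⟩
  have hbq : b ^ q = c := by rw [hb, hc, ← pow_mul, sq]
  have hprod : a * b * c = 1 := by rw [hb, hc, ← pow_succ', ← pow_add, ← ha]; congr 1; ring
  have hcq : c ^ q = a := by
    rw [hc, ← pow_mul, ← pow_succ, ← Nat.sub_add_cancel (Nat.one_le_pow (2 + 1) q (by omega)), pow_succ,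
      show q ^ (2 + 1) - 1 = (q ^ 2 + q + 1) * (q - 1) by rw [mul_comm, hN3], pow_mul, ha, one_pow, one_mul]
  have hadd : ∀ x y : FiniteField.Extension F p 3, (x + y) ^ q = x ^ q + y ^ q := fun x y => by
    rw [hqf, add_pow_char_pow]
  obtain ⟨e1, h1⟩ := mem_range_algebraMap (F := F) (a + b + c) (by rw [hadd, hadd, ← hb, hbq, hcq]; ring)
  obtain ⟨e2, h2⟩ := mem_range_algebraMap (F := F) (a * b + a * c + b * c) (by
    rw [hadd, hadd, mul_pow, mul_pow, mul_pow, ← hb, hbq, hcq]; ring)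
  obtain ⟨x, hx⟩ := exists_eigen a b c hprod e1 e2 h1 h2
  obtain ⟨d, hd⟩ : ∃ d, d = Nat.gcd 3 (q - 1) := ⟨_, rfl⟩
  rw [← hd] at hn
  refine mem_range x (T := (q ^ 2 + q + 1) / d) (fun k z hz => ?_) hn
  obtain ⟨k1, k2, -⟩ := hx k z hz
  have m1 : a ^ ((q - 1) * k) = 1 := by
    refine mul_right_cancel₀ (pow_ne_zero k ha0) ?_
    rw [← pow_add, ← Nat.succ_mul, show (q - 1).succ = q by omega, pow_mul, ← hb, k2, ← k1, one_mul]
  have hsplit : q ^ 2 + q + 1 = 3 + (q - 1) * (q + 2) := by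
    obtain ⟨t, ht⟩ : ∃ t, q = t + 1 := ⟨q - 1, by omega⟩
    rw [ht, Nat.add_sub_cancel]; ring
  have hdN : d ∣ q ^ 2 + q + 1 := hsplit ▸ dvd_add (hd ▸ Nat.gcd_dvd_left 3 (q - 1)) ((hd ▸ Nat.gcd_dvd_right 3 (q - 1)).mul_right _)
  have hgcd : Nat.gcd (q - 1) (q ^ 2 + q + 1) = d := by
    rw [hsplit, Nat.gcd_add_mul_left_right, Nat.gcd_comm, hd]
  exact gcd_step hgcd (hd ▸ Nat.gcd_pos_of_pos_left _ (by norm_num)) hdN (hak _ m1) (dvd_mul_right _ _)

theorem orders_eq (p : ℕ) [Fact p.Prime] [CharP F p] :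
    Set.range (orderOf : Matrix.ProjectiveSpecialLinearGroup (Fin 3) F → ℕ) =
      {m : ℕ | m ∣ (q ^ 2 + q + 1) / Nat.gcd 3 (q - 1) ∨ m ∣ (q ^ 2 - 1) / Nat.gcd 3 (q - 1) ∨ m ∣ q - 1 ∨
        m ∣ p * (q - 1) / Nat.gcd 3 (q - 1) ∨ (p = 2 ∧ m ∣ 4)} := by
  ext n
  simp only [Set.mem_setOf_eq]
  constructor
  · rintro ⟨y, rfl⟩
    obtain ⟨g, rfl⟩ := QuotientGroup.mk_surjective y
    obtain ⟨k, hk, z, hz⟩ := exists_pow_scalar (p := p) g
    have hdvd := orderOf_dvd_of_scalar g hz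
    rcases hk with rfl | rfl | rfl | rfl | ⟨h2, rfl⟩
    · exact Or.inl hdvd
    · exact Or.inr (Or.inl hdvd)
    · exact Or.inr (Or.inr (Or.inl hdvd))
    · exact Or.inr (Or.inr (Or.inr (Or.inl hdvd)))
    · exact Or.inr (Or.inr (Or.inr (Or.inr ⟨h2, hdvd⟩)))
  · rintro (h | h | h | h | ⟨h2, h⟩)
    · exact exists_four (p := p) h
    · exact exists_three (p := p) h
    · exact exists_one h
    · exact exists_two h
    · exact exists_five p h2 h

end Cfsg.Agent.Classical.L3Ord
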