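import Cfsg.Agent.Lib.Classical.PSU3OrdersExist
import Cfsg.Agent.Lib.Classical.OddVsSpOrders

/-!
# Elements of order `q^m + (-1)^m` in `PSU_{2m}(q)`

The orbits of `x ↦ x^(-q)` on the eigenvalues decide the order modulo scalars: a primitive prime
divisor forces a single orbit, so the element lies in a torus of order `(q^2m - 1)/(q + 1)`.
-/

set_option autoImplicit false
set_option linter.unusedSectionVars false
set_option linter.style.haveILetI false

namespace Cfsg.Agent.Classical.UHalfTorus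

open Polynomial Matrix Classical.UCount

section Arith

/-- The geometric sum of `-q`. -/
def gs (q n : ℕ) : ℤ := ∑ i ∈ Finset.range n, (-(q : ℤ)) ^ i

theorem gs_mul (q n : ℕ) : gs q n * (-(q : ℤ) - 1) = (-(q : ℤ)) ^ n - 1 := geom_sum_mul _ _

theorem gs_two_mul (q m : ℕ) : gs q (2 * m) = gs q m * ((-(q : ℤ)) ^ m + 1) := by
  rw [gs, gs, two_mul, Finset.sum_range_add]
  simp_rw [pow_add]
  rw [← Finset.mul_sum]
  ring

theorem gs_cast {d q : ℕ} (hd : d ∣ q + 1) (n : ℕ) : ((gs q n : ℤ) : ZMod d) = n := by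
  have h : -(q : ZMod d) = 1 := by
    have := (ZMod.natCast_eq_zero_iff (q + 1) d).mpr hd
    push_cast at this ⊢
    linear_combination -this
  rw [gs, Int.cast_sum]
  simp [Int.cast_pow, Int.cast_neg, h]

theorem dvd_gs_iff {d q : ℕ} (hd : d ∣ q + 1) (n : ℕ) : d ∣ (gs q n).natAbs ↔ d ∣ n := by
  rw [← Int.natCast_dvd, ← ZMod.intCast_zmod_eq_zero_iff_dvd, gs_cast hd, ZMod.natCast_eq_zero_iff]

theorem natAbs_gs_two_mul (q m : ℕ) :
    (gs q (2 * m)).natAbs = ((-(q : ℤ)) ^ m + 1).natAbs * (gs q m).natAbs := by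
  rw [gs_two_mul, Int.natAbs_mul, mul_comm]

theorem mul_gs_two_mul {q m : ℕ} (hq : 1 ≤ q) : (q + 1) * (gs q (2 * m)).natAbs = q ^ (2 * m) - 1 := by
  have h := congrArg Int.natAbs (gs_mul q (2 * m))
  rw [Int.natAbs_mul, show (-(q : ℤ) - 1).natAbs = q + 1 by omega, pow_mul, neg_sq, ← pow_mul,
    show ((q : ℤ) ^ (2 * m) - 1).natAbs = q ^ (2 * m) - 1 by
      have : 1 ≤ q ^ (2 * m) := Nat.one_le_pow _ _ hq
      rw [← Nat.cast_pow, ← Nat.cast_one (R := ℤ), ← Nat.cast_sub this, Int.natAbs_natCast]] at h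
  rw [← h, mul_comm]

theorem natAbs_pow_add_one {q : ℕ} (hq : 1 ≤ q) (m : ℕ) :
    ((-(q : ℤ)) ^ m + 1).natAbs = if Even m then q ^ m + 1 else q ^ m - 1 := by
  have h1 : 1 ≤ q ^ m := Nat.one_le_pow _ _ hq
  rcases Nat.even_or_odd m with he | ho
  · rw [if_pos he, he.neg_pow, ← Nat.cast_pow]; omega
  · rw [if_neg (Nat.not_even_iff_odd.mpr ho), ho.neg_pow, ← Nat.cast_pow]; omega

theorem gcd_dvd_iff {m N : ℕ} (hm : m ≠ 0) (hN : N ≠ 0) :
    Nat.gcd (2 * m) N ∣ m ↔ padicValNat 2 N < padicValNat 2 (2 * m) := by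
  obtain ⟨a, o, ho, rfl⟩ := Nat.exists_eq_two_pow_mul_odd hm
  have hv : padicValNat 2 (2 * (2 ^ a * o)) = a + 1 := by
    rw [← mul_assoc, ← pow_succ', padicValNat.mul (pow_ne_zero _ two_ne_zero) ho.pos.ne', padicValNat.prime_pow,
      padicValNat.eq_zero_of_not_dvd ho.not_two_dvd_nat, add_zero]
  rw [hv]
  constructor
  · intro h
    by_contra hlt
    have h1 : 2 ^ (a + 1) ∣ N := (padicValNat_dvd_iff_le hN).mpr (Nat.not_lt.mp hlt)
    have h2 : 2 ^ (a + 1) ∣ 2 ^ a * o := (Nat.dvd_gcd (by rw [pow_succ', ← mul_assoc]; exact dvd_mul_right _ _) h1).trans h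
    rw [pow_succ, Nat.mul_dvd_mul_iff_left (by positivity)] at h2
    exact ho.not_two_dvd_nat h2
  · intro hlt
    have hcop : Nat.Coprime (2 ^ (a + 1)) o := Nat.Coprime.pow_left _ ho.coprime_two_left
    have hg : Nat.gcd (2 * (2 ^ a * o)) N = Nat.gcd (2 ^ (a + 1)) N * Nat.gcd o N := by
      rw [← mul_assoc, ← pow_succ', Nat.gcd_comm, Nat.Coprime.gcd_mul _ hcop, Nat.gcd_comm, Nat.gcd_comm o]
    rw [hg]
    refine mul_dvd_mul ?_ (Nat.gcd_dvd_left _ _)
    obtain ⟨i, hi, he⟩ := (Nat.dvd_prime_pow Nat.prime_two).mp (Nat.gcd_dvd_left (2 ^ (a + 1)) N)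
    rw [he]
    refine pow_dvd_pow 2 (Nat.lt_succ_iff.mp (lt_of_le_of_ne hi fun e => ?_))
    rw [e] at he
    exact absurd ((padicValNat_dvd_iff_le hN).mp (he ▸ Nat.gcd_dvd_right _ _)) (by omega)

theorem exists_ppd_neg {q m : ℕ} (hq : 3 ≤ q) (hm : 2 ≤ m) :
    ∃ r : ℕ, r.Prime ∧ (∀ j, 0 < j → j < 2 * m → (-(q : ZMod r)) ^ j ≠ 1) ∧ r ∣ ((-(q : ℤ)) ^ m + 1).natAbs ∧
      ¬ r ∣ q := by
  have key : ∀ r : ℕ, r.Prime → ∀ o, 3 ≤ o → orderOf (q : ZMod r) = o → (o = 2 * m ∨ (o = m ∧ Odd m)) →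
      (-(q : ZMod r)) ^ m = -1 → ∀ j, 0 < j → j < 2 * m → (-(q : ZMod r)) ^ j ≠ 1 := by
    intro r hr o ho3 ho hcase hneg j hj0 hjm hj
    have hr2 : r ≠ 2 := by
      rintro rfl
      have : ∀ x : ZMod 2, x = 0 ∨ x = 1 := fun x => by fin_cases x <;> first | exact Or.inl rfl | exact Or.inr rfl
      rcases this (q : ZMod 2) with e | e
      · haveI : Fact (Nat.Prime 2) := ⟨Nat.prime_two⟩; rw [e, orderOf_zero] at ho; omega
      · rw [e, orderOf_one] at ho; omega
    have h2 : (q : ZMod r) ^ (2 * j) = 1 := by rw [← (even_two_mul j).neg_pow, mul_comm, pow_mul, hj, one_pow]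
    have hdvd : o ∣ 2 * j := ho ▸ orderOf_dvd_of_pow_eq_one h2
    have hmj : m ∣ j := by
      rcases hcase with rfl | ⟨rfl, hodd⟩
      · exact (Nat.mul_dvd_mul_iff_left (by norm_num)).mp hdvd
      · exact (hodd.coprime_two_right).dvd_of_dvd_mul_left hdvd
    obtain ⟨t, rfl⟩ := hmj
    have ht : t = 1 := by
      rcases t with _ | _ | t
      · omega
      · rfl
      · nlinarith
    subst ht
    rw [mul_one, hneg] at hj
    haveI : Fact (2 < r) := ⟨by have := hr.two_le; omega⟩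
    exact ZMod.neg_one_ne_one hj
  rcases Nat.even_or_odd m with he | ho
  · obtain ⟨r, hr, hord, hd⟩ := OddVsSp.exists_ppd hq hm
    have hneg : (-(q : ZMod r)) ^ m = -1 := by
      rw [he.neg_pow, eq_neg_iff_add_eq_zero, ← Nat.cast_pow, ← Nat.cast_one, ← Nat.cast_add,
        ZMod.natCast_eq_zero_iff]
      exact hd
    refine ⟨r, hr, key r hr _ (by omega) hord (Or.inl rfl) hneg, by rwa [natAbs_pow_add_one (by omega), if_pos he], ?_⟩
    intro hrq
    haveI : Fact r.Prime := ⟨hr⟩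
    rw [(ZMod.natCast_eq_zero_iff q r).mpr hrq, orderOf_zero] at hord
    omega
  · have hm3 : 3 ≤ m := by obtain ⟨t, rfl⟩ := ho; omega
    obtain ⟨r, hr, hd, hmin⟩ := Cfsg.Agent.S2904.result q m (by omega) (by omega) (fun h => by omega) (fun h => by omega)
    have hcast : ∀ k : ℕ, (q : ZMod r) ^ k = 1 ↔ r ∣ q ^ k - 1 := fun k => by
      rw [← ZMod.natCast_eq_zero_iff, Nat.cast_sub (Nat.one_le_pow _ _ (by omega)), sub_eq_zero, Nat.cast_pow,
        Nat.cast_one]
    have hord : orderOf (q : ZMod r) = m :=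
      (orderOf_eq_iff (by omega)).mpr ⟨(hcast _).mpr hd, fun k h1 h2 h3 => hmin k h2 h1 ((hcast k).mp h3)⟩
    refine ⟨r, hr, key r hr _ hm3 hord (Or.inr ⟨rfl, ho⟩) (by rw [ho.neg_pow, (hcast _).mpr hd]),
      by rwa [natAbs_pow_add_one (by omega), if_neg (Nat.not_even_iff_odd.mpr ho)], ?_⟩
    intro hrq
    haveI : Fact r.Prime := ⟨hr⟩
    rw [(ZMod.natCast_eq_zero_iff q r).mpr hrq, orderOf_zero] at hord
    omega

end Arith

section Iter

variable {K : Type*} [Field K] {q : ℕ}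

/-- `x ↦ (x^q)⁻¹`. -/
def tau (q : ℕ) (x : K) : K := (x ^ q)⁻¹

theorem tau_iterate (x : K) (i : ℕ) : (tau q)^[i] x = x ^ ((-(q : ℤ)) ^ i) := by
  induction i with
  | zero => simp
  | succ i ih =>
    rw [Function.iterate_succ_apply', ih, tau, ← _root_.zpow_natCast, ← _root_.zpow_mul, ← _root_.zpow_neg, pow_succ, mul_neg]

theorem prod_iterate {x : K} (hx : x ≠ 0) (n : ℕ) :
    ∏ i ∈ Finset.range n, (tau q)^[i] x = x ^ gs q n := by
  induction n with
  | zero => simp [gs]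
  | succ n ih => rw [Finset.prod_range_succ, ih, tau_iterate, gs, gs, Finset.sum_range_succ, zpow_add₀ hx]

theorem pow_natAbs_eq_one {x : K} {e : ℤ} (h : x ^ e = 1) : x ^ e.natAbs = 1 := by
  rcases Int.natAbs_eq e with he | he <;> rw [he] at h
  · rwa [_root_.zpow_natCast] at h
  · rwa [_root_.zpow_neg, inv_eq_one, _root_.zpow_natCast] at h

end Iter

variable {F : Type*} [Field F] [Fintype F] [StarRing F] {q n : ℕ}

theorem root_tau (hstar : ∀ x : F, star x = x ^ q) {p : ℕ} [Fact p.Prime] [CharP F p] {f : ℕ} (hqf : q = p ^ f)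
    (g : ↥(Cfsg.GU n F q)) {K : Type*} [Field K] [Algebra F K] {x : K} (hx : aeval x g.1.1.charpoly = 0) :
    x ≠ 0 ∧ aeval (tau q x) g.1.1.charpoly = 0 := by
  have hsd : Small.PrimeOrderFactor.dual (starRingEnd F) g.1.1.charpoly = g.1.1.charpoly :=
    Small.UnitaryPrimeClasses.selfdual hstar g
  have hx0 : x ≠ 0 := by
    intro e
    have h1 : g.1.1.charpoly.coeff 0 = 0 := by
      rw [e, aeval_def, eval₂_at_zero] at hx
      exact (map_eq_zero (algebraMap F K)).mp hx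
    have h2 := Matrix.det_eq_sign_charpoly_coeff g.1.1
    rw [h1, mul_zero] at h2
    exact ((Matrix.isUnit_iff_isUnit_det _).mp g.1.isUnit).ne_zero h2
  refine ⟨hx0, ?_⟩
  haveI : CharP K p := charP_of_injective_algebraMap (algebraMap F K).injective p
  let φ : K →+* K := iterateFrobenius K p f
  have hφ : ∀ z, φ z = z ^ q := fun z => by simp only [φ, iterateFrobenius_def, hqf]
  have hcomp : (algebraMap F K).comp (starRingEnd F) = φ.comp (algebraMap F K) := RingHom.ext fun z => by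
    rw [RingHom.comp_apply, RingHom.comp_apply, hφ, starRingEnd_apply, hstar, map_pow]
  have h1 : (g.1.1.charpoly.map (starRingEnd F)).eval₂ (algebraMap F K) (x ^ q) = 0 := by
    rw [eval₂_map, hcomp, ← hφ, ← hom_eval₂, ← aeval_def, hx, map_zero]
  letI : Invertible (x ^ q) := invertibleOfNonzero (pow_ne_zero _ hx0)
  rw [tau, ← hsd, Small.PrimeOrderFactor.dual, map_mul, aeval_def (p := reverse _), ← invOf_eq_inv,
    (eval₂_reverse_eq_zero_iff _ _ _).mpr h1, mul_zero]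

theorem eigen {K : Type*} [Field K] [Algebra F K] (A : Matrix (Fin n) (Fin n) F) {x : K}
    (hx : aeval x A.charpoly = 0) {k : ℕ} {z : F} (hk : A ^ k = z • 1) : x ^ k = algebraMap F K z := by
  classical
  obtain ⟨M, hM⟩ : ∃ M, M = A.map (algebraMap F K) := ⟨_, rfl⟩
  have h1 : (Matrix.scalar (Fin n) x - M).det = 0 := by
    rw [← Matrix.eval_charpoly, hM, Matrix.charpoly_map, eval_map, ← aeval_def, hx]
  obtain ⟨v, hv, hv0⟩ := Matrix.exists_mulVec_eq_zero_iff.mpr h1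
  have hMv : M *ᵥ v = x • v := by
    rw [Matrix.sub_mulVec, sub_eq_zero] at hv0
    rw [← hv0]
    ext i; simp [Matrix.mulVec_diagonal]
  have hpow : ∀ j : ℕ, (M ^ j) *ᵥ v = x ^ j • v := by
    intro j
    induction j with
    | zero => simp
    | succ j ih => rw [pow_succ, ← Matrix.mulVec_mulVec, hMv, Matrix.mulVec_smul, ih, smul_smul, pow_succ']
  have h2 := hpow k
  have h3 : M ^ k = algebraMap F K z • (1 : Matrix (Fin n) (Fin n) K) := by
    rw [hM, ← RingHom.mapMatrix_apply, ← map_pow, hk]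
    ext i j; by_cases hij : i = j <;> simp [Matrix.one_apply, hij]
  rw [h3, Matrix.smul_mulVec, Matrix.one_mulVec] at h2
  exact (smul_left_injective K hv h2).symm

theorem orderOf_dvd_of_scalar (g : ↥(Cfsg.SU n F q)) {k : ℕ} {z : F} (h : g.1.1 ^ k = z • 1) :
    orderOf (QuotientGroup.mk g : Cfsg.PSU n F q) ∣ k := by
  refine orderOf_dvd_of_pow_eq_one ?_
  rw [← QuotientGroup.mk_pow, QuotientGroup.eq_one_iff, Subgroup.mem_center_iff]
  intro x
  refine Subtype.ext (Subtype.ext ?_)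
  change x.1.1 * (g ^ k).1.1 = (g ^ k).1.1 * x.1.1
  rw [show (g ^ k).1.1 = z • 1 by rw [← h]; simp]
  simp

theorem exists_scalar {σ : F ≃+* F} (hσ : IsUSigma q σ) (hn : 2 ≤ n) (g : ↥(Cfsg.SU n F q)) :
    ∃ z : F, g.1.1 ^ orderOf (QuotientGroup.mk g : Cfsg.PSU n F q) = z • 1 := by
  obtain ⟨k, hk⟩ : ∃ k, k = orderOf (QuotientGroup.mk g : Cfsg.PSU n F q) := ⟨_, rfl⟩
  rw [← hk]
  have hz : g ^ k ∈ Subgroup.center ↥(Cfsg.SU n F q) := by
    rw [← QuotientGroup.eq_one_iff, QuotientGroup.mk_pow, hk, pow_orderOf_eq_one]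
  obtain ⟨z, hzc⟩ := scalar_of_commute hσ hn (M := (g ^ k).1.1) fun x =>
    congrArg (fun y : ↥(Cfsg.SU n F q) => y.1.1) (Subgroup.mem_center_iff.mp hz x)
  exact ⟨z, by rw [← hzc]; simp⟩

theorem forces_dvd (hstar : ∀ x : F, star x = x ^ q) {p : ℕ} [Fact p.Prime] [CharP F p] {f : ℕ} (hqf : q = p ^ f)
    (hf : 0 < f) {m : ℕ} (hm : 2 ≤ m) (hq : 3 ≤ q) (g : ↥(Cfsg.SU (2 * m) F q))
    (hg : orderOf (QuotientGroup.mk g : Cfsg.PSU (2 * m) F q) = ((-(q : ℤ)) ^ m + 1).natAbs) :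
    Nat.gcd (2 * m) (q + 1) ∣ m := by
  classical
  obtain ⟨r, hr, hrmin, hrT, hrq⟩ := exists_ppd_neg hq hm
  let K := AlgebraicClosure F
  obtain ⟨M, hM⟩ : ∃ M, M = g.1.1.map (algebraMap F K) := ⟨_, rfl⟩
  haveI : CharP K p := charP_of_injective_algebraMap (algebraMap F K).injective p
  obtain ⟨R, hR⟩ : ∃ R, R = M.charpoly.roots := ⟨_, rfl⟩
  have hs : M.charpoly.Splits := IsAlgClosed.splits _
  have hmon := M.charpoly_monic
  have hcard : R.card = 2 * m := by
    rw [hR, ← hs.natDegree_eq_card_roots, Matrix.charpoly_natDegree_eq_dim, Fintype.card_fin]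
  have hprod : R.prod = 1 := by
    rw [hR, ← Matrix.det_eq_prod_roots_charpoly, hM]
    rw [← RingHom.mapMatrix_apply, ← RingHom.map_det, g.1.2, map_one]
  have hmemR : ∀ x, x ∈ R ↔ aeval x g.1.1.charpoly = 0 := fun x => by
    rw [hR, hM, Matrix.charpoly_map, mem_roots_map g.1.1.charpoly_monic.ne_zero, aeval_def]
  have hback : ∀ k : ℕ, (∃ c : K, M ^ k = c • 1) → ∃ c : F, g.1.1 ^ k = c • 1 := by
    rintro k ⟨c, hc⟩
    rw [hM, ← RingHom.mapMatrix_apply, ← map_pow] at hc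
    haveI : NeZero (2 * m) := ⟨by omega⟩
    refine ⟨(g.1.1 ^ k) 0 0, Matrix.ext fun i j => (algebraMap F K).injective ?_⟩
    have e := congrFun (congrFun hc i) j
    have e0 := congrFun (congrFun hc 0) 0
    simp only [RingHom.mapMatrix_apply, Matrix.map_apply, Matrix.smul_apply, Matrix.one_apply_eq, smul_eq_mul,
      mul_one] at e e0
    rw [e, Matrix.smul_apply, smul_eq_mul, map_mul, e0, Matrix.one_apply, Matrix.one_apply]
    split_ifs <;> simp
  have hae : ∀ Q : K[X], M.charpoly ∣ Q → aeval M Q = 0 := fun Q hQ => by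
    obtain ⟨T, rfl⟩ := hQ
    rw [map_mul, Matrix.aeval_self_charpoly, zero_mul]
  have htau : ∀ x ∈ R, x ≠ 0 ∧ tau q x ∈ R := fun x hx =>
    have h := root_tau hstar hqf (K := K) ⟨_, g.2⟩ ((hmemR x).1 hx)
    ⟨h.1, (hmemR _).2 h.2⟩
  by_cases hlong : ∃ x ∈ R, ∀ j, 0 < j → j < 2 * m → (tau q)^[j] x ≠ x
  · obtain ⟨x, hx, hmin⟩ := hlong
    have hinj : Function.Injective (tau q : K → K) := fun a b e => (iterateFrobenius K p f).injective (by
      rw [iterateFrobenius_def, iterateFrobenius_def, ← hqf]; exact inv_injective e)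
    have hit : ∀ i, (tau q)^[i] x ∈ R := fun i => by
      induction i with
      | zero => exact hx
      | succ i ih => rw [Function.iterate_succ_apply']; exact (htau _ ih).2
    have hio : Set.InjOn (fun i => (tau q)^[i] x) (Finset.range (2 * m) : Set ℕ) := by
      intro i hi j hj e
      simp only [Finset.coe_range, Set.mem_Iio] at hi hj
      rcases lt_trichotomy i j with h | h | h
      · exfalso
        obtain ⟨t, rfl⟩ := Nat.exists_eq_add_of_lt h
        change (tau q)^[i] x = (tau q)^[i + t + 1] x at e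
        rw [add_assoc, Function.iterate_add_apply] at e
        exact hmin (t + 1) (by omega) (by omega) ((hinj.iterate i) e).symm
      · exact h
      · exfalso
        obtain ⟨t, rfl⟩ := Nat.exists_eq_add_of_lt h
        change (tau q)^[j + t + 1] x = (tau q)^[j] x at e
        rw [add_assoc, Function.iterate_add_apply] at e
        exact hmin (t + 1) (by omega) (by omega) ((hinj.iterate j) e)
    have hRe : R = ((Finset.range (2 * m)).image fun i => (tau q)^[i] x).val := by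
      refine (Multiset.eq_of_le_of_card_le ((Multiset.le_iff_subset (Finset.nodup _)).mpr fun y hy => ?_) ?_).symm
      · obtain ⟨i, -, rfl⟩ := Finset.mem_image.mp (Finset.mem_val.mp hy)
        exact hit i
      · rw [hcard, ← Finset.card_def, Finset.card_image_of_injOn hio, Finset.card_range]
    obtain ⟨S, hS⟩ : ∃ S, S = (gs q (2 * m)).natAbs := ⟨_, rfl⟩
    have hx0 := (htau x hx).1
    have hxS : x ^ S = 1 := by
      rw [hS]
      refine pow_natAbs_eq_one ?_
      rw [← prod_iterate hx0, ← Finset.prod_image hio (f := fun y => y), Finset.prod_eq_multiset_prod,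
        Multiset.map_id', ← hRe, hprod]
    obtain ⟨d, hd⟩ : ∃ d, d = Nat.gcd (2 * m) (q + 1) := ⟨_, rfl⟩
    rw [← hd]
    have hd0 : 0 < d := hd ▸ Nat.gcd_pos_of_pos_right _ (Nat.succ_pos q)
    have hdq : d ∣ q + 1 := hd ▸ Nat.gcd_dvd_right _ _
    obtain ⟨k, hk⟩ : d ∣ S := hS ▸ (dvd_gs_iff hdq _).mpr (hd ▸ Nat.gcd_dvd_left _ _)
    obtain ⟨c1, hc1⟩ := hdq
    have hxk : x ^ ((q + 1) * k) = 1 := by
      rw [show (q + 1) * k = S * c1 by rw [hc1, hk]; ring, pow_mul, hxS, one_pow]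
    have hall : ∀ i, ((tau q)^[i] x) ^ k = x ^ k ∧ ((tau q)^[i] x) ^ ((q + 1) * k) = 1 := by
      intro i
      induction i with
      | zero => exact ⟨rfl, hxk⟩
      | succ i ih =>
        rw [Function.iterate_succ_apply', tau]
        have h2 : (((tau q)^[i] x) ^ q)⁻¹ ^ k = x ^ k := by
          rw [inv_pow, ← pow_mul]
          refine inv_eq_of_mul_eq_one_right ?_
          rw [← ih.1, ← pow_add, show q * k + k = (q + 1) * k by ring, ih.2]
        refine ⟨h2, ?_⟩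
        rw [mul_comm, pow_mul, h2, ← pow_mul, mul_comm, hxk]
    have hk0 : 0 < k := Nat.pos_of_ne_zero fun e => by
      rw [e, mul_zero] at hk
      have := mul_gs_two_mul (q := q) (m := m) (by omega)
      rw [← hS, hk, mul_zero] at this
      have : 1 < q ^ (2 * m) := Nat.one_lt_pow (by omega) (by omega)
      omega
    obtain ⟨c, hc⟩ := hback k ⟨x ^ k, sub_eq_zero.mp (by
      have h := hae (X ^ k - C (x ^ k)) (by
        rw [hs.eq_prod_roots_of_monic hmon]
        refine (Multiset.prod_X_sub_C_dvd_iff_le_roots (X_pow_sub_C_ne_zero hk0 _) _).mpr ?_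
        rw [← hR, Multiset.le_iff_subset (hRe ▸ Finset.nodup _)]
        intro y hy
        rw [hRe] at hy
        obtain ⟨i, -, rfl⟩ := Finset.mem_image.mp (Finset.mem_val.mp hy)
        rw [mem_roots (X_pow_sub_C_ne_zero hk0 _), IsRoot, eval_sub, eval_pow, eval_X, eval_C, (hall i).1, sub_self])
      simpa [Algebra.algebraMap_eq_smul_one, _root_.smul_pow] using h)⟩
    obtain ⟨e, he⟩ := hg ▸ orderOf_dvd_of_scalar g hc
    have hA : ((-(q : ℤ)) ^ m + 1).natAbs * (gs q m).natAbs = ((-(q : ℤ)) ^ m + 1).natAbs * (d * e) := by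
      rw [← natAbs_gs_two_mul, ← hS, hk, he]; ring
    have hT0 : 0 < ((-(q : ℤ)) ^ m + 1).natAbs := hg ▸ orderOf_pos _
    exact (dvd_gs_iff (Dvd.intro c1 hc1.symm) m).mp ⟨e, Nat.eq_of_mul_eq_mul_left hT0 hA⟩
  · exfalso
    push Not at hlong
    obtain ⟨L, hL⟩ : ∃ L, L = ∏ j ∈ Finset.Ico 1 (2 * m), ((-(q : ℤ)) ^ j - 1).natAbs := ⟨_, rfl⟩
    have hxL : ∀ x ∈ R, x ^ L = 1 := by
      intro x hx
      obtain ⟨j, hj0, hjm, hj⟩ := hlong x hx
      obtain ⟨t, ht⟩ : ((-(q : ℤ)) ^ j - 1).natAbs ∣ L :=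
        hL ▸ Finset.dvd_prod_of_mem _ (Finset.mem_Ico.mpr ⟨hj0, hjm⟩)
      have h1 : x ^ ((-(q : ℤ)) ^ j - 1) = 1 := by
        rw [zpow_sub_one₀ (htau x hx).1, ← tau_iterate, hj, mul_inv_cancel₀ (htau x hx).1]
      rw [ht, pow_mul, pow_natAbs_eq_one h1, one_pow]
    have h := hae ((X ^ L - C 1) ^ (p ^ (2 * m))) (by
      refine dvd_trans ?_ (pow_dvd_pow _ (Nat.lt_pow_self (Fact.out : p.Prime).one_lt).le)
      conv_lhs => rw [hs.eq_prod_roots_of_monic hmon, ← hR]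
      refine (Multiset.prod_dvd_prod_of_dvd _ (fun _ => (X ^ L - C 1 : K[X])) fun y hy => ?_).trans ?_
      · rw [dvd_iff_isRoot, IsRoot, eval_sub, eval_pow, eval_X, eval_C, hxL y hy, sub_self]
      · rw [Multiset.map_const', Multiset.prod_replicate, hcard])
    rw [sub_pow_char_pow, ← pow_mul, ← C_pow, one_pow] at h
    obtain ⟨c, hc⟩ := hback (L * p ^ (2 * m)) ⟨1, sub_eq_zero.mp (by simpa using h)⟩
    have hd := hrT.trans (hg ▸ orderOf_dvd_of_scalar g hc)
    haveI : Fact r.Prime := ⟨hr⟩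
    rcases hr.dvd_mul.mp hd with hdL | hdp
    · rw [hL] at hdL
      obtain ⟨j, hj, hrj⟩ := (Prime.dvd_finsetProd_iff hr.prime _).mp hdL
      rw [Finset.mem_Ico] at hj
      rw [← Int.natCast_dvd, ← ZMod.intCast_zmod_eq_zero_iff_dvd] at hrj
      push_cast at hrj
      exact hrmin j (by omega) hj.2 (sub_eq_zero.mp hrj)
    · exact hrq (hqf ▸ dvd_pow (hr.dvd_of_dvd_pow hdp) hf.ne')

theorem exists_elt (hstar : ∀ x : F, star x = x ^ q) {σ : F ≃+* F} (hσ : IsUSigma q σ) {p : ℕ} [Fact p.Prime]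
    [CharP F p] {f : ℕ} (hqf : q = p ^ f) {m : ℕ} (hm : 1 ≤ m) (hd : Nat.gcd (2 * m) (q + 1) ∣ m) :
    ((-(q : ℤ)) ^ m + 1).natAbs ∈ Set.range (orderOf : Cfsg.PSU (2 * m) F q → ℕ) := by
  classical
  have hq2 := hσ.two_le
  haveI : NeZero m := ⟨by omega⟩
  let K := FiniteField.Extension F p m
  haveI := Fintype.ofFinite K
  have hK : Fintype.card K = q ^ (2 * m) := by
    rw [← Nat.card_eq_fintype_card, FiniteField.natCard_extension, Nat.card_eq_fintype_card, hσ.card, pow_mul]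
  obtain ⟨S, hS⟩ : ∃ S, S = (gs q (2 * m)).natAbs := ⟨_, rfl⟩
  have hqS : (q + 1) * S = q ^ (2 * m) - 1 := hS ▸ mul_gs_two_mul (by omega)
  obtain ⟨x, hx0, hxS, hxk⟩ : ∃ x : K, x ≠ 0 ∧ x ^ S = 1 ∧ ∀ k, x ^ k = 1 → S ∣ k := by
    obtain ⟨g, hg⟩ := IsCyclic.exists_generator (α := Kˣ)
    have hgo : orderOf g = (q + 1) * S := by
      rw [orderOf_eq_card_of_forall_mem_zpowers hg, Nat.card_units, Nat.card_eq_fintype_card, hK, hqS]
    have ho : orderOf (g ^ (q + 1)) = S := by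
      rw [orderOf_pow_of_dvd (Nat.succ_ne_zero q) (hgo ▸ dvd_mul_right _ _), hgo, Nat.mul_div_cancel_left _ (Nat.succ_pos q)]
    refine ⟨((g ^ (q + 1) : Kˣ) : K), Units.ne_zero _, ?_, fun k hk => ?_⟩
    · rw [← Units.val_pow_eq_pow_val, ← ho, pow_orderOf_eq_one, Units.val_one]
    · rw [← ho]
      exact orderOf_dvd_of_pow_eq_one (Units.ext (by rw [Units.val_pow_eq_pow_val, hk, Units.val_one]))
  have hrk : Module.finrank F K = m := FiniteField.finrank_extension F p m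
  haveI : Module.Finite F K := Module.Finite.of_finite
  let b : Module.Basis (Fin m) F K := Module.finBasisOfFinrankEq F K hrk
  obtain ⟨Q, hQ⟩ : ∃ Q, Q = (Algebra.leftMulMatrix b x).charpoly := ⟨_, rfl⟩
  have hQm : Q.Monic := hQ ▸ Matrix.charpoly_monic _
  have hQd : Q.natDegree = m := by rw [hQ, Matrix.charpoly_natDegree_eq_dim, Fintype.card_fin]
  have hQx : aeval x Q = 0 := by
    refine Algebra.leftMulMatrix_injective b ?_
    rw [map_zero, ← aeval_algHom_apply, hQ, Matrix.aeval_self_charpoly]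
  have hN : Algebra.norm F x = (-1) ^ m * Q.coeff 0 := by
    rw [Algebra.norm_eq_matrix_det b, Matrix.det_eq_sign_charpoly_coeff, Fintype.card_fin, hQ]
  have hN0 : Algebra.norm F x ≠ 0 := Algebra.norm_ne_zero_iff.mpr hx0
  have hNq : Algebra.norm F x ^ (q - 1) = 1 := by
    refine (algebraMap F K).injective ?_
    rw [map_pow, FiniteField.algebraMap_norm_eq_pow, map_one, ← pow_mul, Nat.card_eq_fintype_card,
      Nat.card_eq_fintype_card, hK, hσ.card, ← hqS]
    have hfac : q ^ 2 - 1 = (q + 1) * (q - 1) := by rw [← Nat.sq_sub_sq, one_pow]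
    have hdv : q - 1 ∣ S := by
      refine Nat.dvd_of_mul_dvd_mul_left (Nat.succ_pos q) ?_
      rw [← hfac, hqS, pow_mul]
      exact Nat.sub_one_dvd_pow_sub_one _ m
    rw [hfac, Nat.mul_div_mul_left _ _ (Nat.succ_pos q), Nat.div_mul_cancel hdv, hxS]
  have hQ0 : Q.coeff 0 ≠ 0 := fun e => hN0 (by rw [hN, e, mul_zero])
  have hQq : Q.coeff 0 ^ q = Q.coeff 0 := by
    have h1 : Algebra.norm F x ^ q = Algebra.norm F x := by
      rw [← Nat.sub_add_cancel (show 1 ≤ q by omega), pow_succ, hNq, one_mul]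
    have h2 : ((-1 : F) ^ m) ^ q = (-1) ^ m := by
      rw [← hσ.apply_eq, map_pow, map_neg, map_one]
    rw [hN, mul_pow, h2] at h1
    exact mul_left_cancel₀ (pow_ne_zero _ (neg_ne_zero.mpr one_ne_zero)) h1
  obtain ⟨P, hP⟩ : ∃ P, P = Q * Small.PrimeOrderFactor.dual (starRingEnd F) Q := ⟨_, rfl⟩
  have hd0 := Small.PrimeOrderFactor.monic_dual (starRingEnd F) hQ0
  have hPd : P.natDegree = 2 * m := by
    rw [hP, Polynomial.Monic.natDegree_mul hQm hd0, Small.PrimeOrderFactor.natDegree_dual _ hQ0, hQd, two_mul]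
  have hdual : Small.PrimeOrderFactor.dual (starRingEnd F) P = P := by
    rw [hP, Small.PrimeOrderFactor.dual_mul, Small.PrimeOrderFactor.dual_dual _ star_star hQm hQ0, mul_comm]
  obtain ⟨g, hg, -⟩ := Small.UnitaryPrimeClasses.exists_element (n := 2 * m) hstar hσ.card (p := p)
    (hP ▸ hQm.mul hd0) hPd hdual
  have hdet : g.1.1.det = 1 := by
    rw [Matrix.det_eq_sign_charpoly_coeff, hg, hP, mul_coeff_zero, Small.PrimeOrderFactor.coeff_zero_dual _ hQm,
      Fintype.card_fin, pow_mul, neg_one_sq, one_pow, one_mul, starRingEnd_apply, hstar, hQq, mul_inv_cancel₀ hQ0]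
  let y : ↥(Cfsg.SU (2 * m) F q) := ⟨⟨g.1.1, hdet⟩, g.2⟩
  refine Small.mem_range_orderOf_of_dvd (QuotientGroup.mk y : Cfsg.PSU (2 * m) F q) ?_
  obtain ⟨z, hz⟩ := exists_scalar hσ (by omega) y
  change g.1.1 ^ _ = z • 1 at hz
  generalize orderOf (QuotientGroup.mk y : Cfsg.PSU (2 * m) F q) = k at hz ⊢
  have hroot : aeval x g.1.1.charpoly = 0 := by rw [hg, hP, map_mul, hQx, zero_mul]
  have e1 := eigen g.1.1 hroot hz
  have e2 := eigen g.1.1 (root_tau hstar hqf g hroot).2 hz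
  rw [tau, inv_pow, ← pow_mul, ← e1] at e2
  have k1 : x ^ ((q + 1) * k) = 1 := by
    rw [add_mul, one_mul, pow_add, ← e2, mul_inv_cancel₀ (pow_ne_zero _ hx0)]
  have k2 : x ^ (2 * m * k) = 1 := by
    have h := congrArg Matrix.det hz
    rw [Matrix.det_pow, hdet, one_pow, Matrix.det_smul, Matrix.det_one, mul_one, Fintype.card_fin] at h
    rw [mul_comm, pow_mul, e1, ← map_pow, ← h, map_one]
  obtain ⟨a, ha⟩ := (dvd_gs_iff (Nat.gcd_dvd_right _ _) m).mpr hd
  have hST : S = ((-(q : ℤ)) ^ m + 1).natAbs * (gs q m).natAbs := hS ▸ natAbs_gs_two_mul q m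
  have hdS : Nat.gcd (2 * m) (q + 1) ∣ S := hST ▸ (Dvd.intro a ha.symm).mul_left _
  refine dvd_trans ?_ (U3Ord.gcd_step (A := 2 * m) (B := q + 1) rfl (Nat.gcd_pos_of_pos_right _ (Nat.succ_pos q)) hdS
    (hxk _ k2) (hxk _ k1))
  rw [hST, ha, mul_left_comm, Nat.mul_div_cancel_left _ (Nat.gcd_pos_of_pos_right _ (Nat.succ_pos q))]
  exact dvd_mul_right _ _

theorem order_iff {F : Type*} [Field F] [Fintype F] {q : ℕ} (hF : Fintype.card F = q ^ 2) (hodd : Odd q) {n : ℕ}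
    (hn : 4 ≤ n) (heven : Even n) :
    (∃ g : Cfsg.PSU n F q, orderOf g = if Even (n / 2) then q ^ (n / 2) + 1 else q ^ (n / 2) - 1) ↔
      padicValNat 2 (q + 1) < padicValNat 2 n := by
  obtain ⟨m, rfl⟩ := heven.two_dvd
  rw [Nat.mul_div_cancel_left _ (by norm_num), ← gcd_dvd_iff (by omega) (Nat.succ_ne_zero q)]
  obtain ⟨p, f, τ, hp', hchar, hqf, hf, hσ⟩ := exists_usigma hF
  haveI : Fact p.Prime := ⟨hp'⟩
  letI : StarRing F := Small.Hermitian.starRingOfInvolution (τ : F →+* F) hσ.involutive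
  have hstar : ∀ x : F, star x = x ^ q := hσ.apply_eq
  have hq2 := hσ.two_le
  have hq3 : 3 ≤ q := by obtain ⟨t, rfl⟩ := hodd; omega
  rw [← natAbs_pow_add_one (by omega) m]
  constructor
  · rintro ⟨y, hy⟩
    obtain ⟨g, rfl⟩ := QuotientGroup.mk_surjective y
    exact forces_dvd hstar hqf hf (by omega) hq3 g hy
  · intro h
    exact exists_elt hstar hσ (p := p) hqf (by omega) h

end Cfsg.Agent.Classical.UHalfTorus
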