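import Mathlib
import Cfsg.Prelude.Def_Classical
import Cfsg.Agent.S0280

/-!
The structure `3² : Q₈` of `PSU_3(2)`.
-/

set_option autoImplicit false

open scoped Matrix

namespace Cfsg.Agent.Classical.PSUThreeTwo

/-- The field of order four used for computation. -/
abbrev R4 := QuadraticAlgebra (ZMod 2) 1 1

/-- The primitive cube root of unity. -/
def om : R4 := ⟨0, 1⟩

/-- `D^i P^j`. -/
def mE (a : ZMod 3 × ZMod 3) : Matrix (Fin 3) (Fin 3) R4 :=
  (!![1, 0, 0; 0, om, 0; 0, 0, om * om]) ^ a.1.val * (!![0, 0, 1; 1, 0, 0; 0, 1, 0]) ^ a.2.val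

/-- The Fourier matrix. -/
def mA : Matrix (Fin 3) (Fin 3) R4 := !![1, 1, 1; 1, om, om * om; 1, om * om, om]

/-- A diagonal conjugate of the Fourier matrix. -/
def mB : Matrix (Fin 3) (Fin 3) R4 := !![1, om, om; om * om, om, om * om; om * om, om * om, om]

/-- The quaternion complement. -/
def mQ : QuaternionGroup 2 → Matrix (Fin 3) (Fin 3) R4
  | .a i => mA ^ i.val
  | .xa i => mB * mA ^ i.val

/-- The frobenius of `R4`. -/
def sqm (M : Matrix (Fin 3) (Fin 3) R4) : Matrix (Fin 3) (Fin 3) R4 := M.map fun x => x * x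

theorem mE_unit : ∀ a, (mE a)ᵀ * sqm (mE a) = 1 ∧ (mE a).det = 1 := by decide +kernel

theorem mQ_unit : ∀ a, (mQ a)ᵀ * sqm (mQ a) = 1 ∧ (mQ a).det = 1 := by decide +kernel

theorem mE_mul : ∀ a b, ∃ k : Fin 3, mE a * mE b = om ^ k.val • mE (a + b) := by decide +kernel

theorem mQ_mul : ∀ x y, mQ x * mQ y = mQ (x * y) := by decide +kernel

theorem mE_noncentral : ∀ a, a ≠ 0 → ∃ b, mE a * mE b ≠ mE b * mE a := by decide +kernel

theorem mQ_noncentral : ∀ x, x ≠ 1 → ∃ b, mQ x * mE b ≠ mE b * mQ x := by decide +kernel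

theorem R4_inv' : ∀ a b : ZMod 2, (⟨a, b⟩ : R4) ≠ 0 → ∃ c d, (⟨a, b⟩ : R4) * ⟨c, d⟩ = 1 := by decide +kernel

theorem R4_inv (y : R4) (hy : y ≠ 0) : ∃ z, y * z = 1 :=
  let ⟨_, _, h⟩ := R4_inv' y.re y.im hy
  ⟨_, h⟩

theorem mQ_conj : ∀ x a, ∃ c, ∃ k : Fin 3, mQ x * mE a = om ^ k.val • (mE c * mQ x) := by decide +kernel

variable {F : Type*} [Field F]

/-- The order of `PSU_3(2)`. -/
theorem card_eq [Fintype F] (hF : Fintype.card F = 4) : Nat.card (Cfsg.PSU 3 F 2) = 72 := by
  have h := Cfsg.Agent.S0280.result (q := 2) hF 3 (by norm_num)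
  norm_num [Finset.prod_range_succ, Nat.even_iff] at h
  omega

/-- `PSU_3(2)` has a normal subgroup `3²` with quotient `Q₈`. -/
theorem exists_structure [Fintype F] (hF : Fintype.card F = 4) :
    ∃ (N : Subgroup (Cfsg.PSU 3 F 2)) (_ : N.Normal), Nat.card N = 9 ∧ (∀ x ∈ N, x ^ 3 = 1) ∧
      Nonempty (Cfsg.PSU 3 F 2 ⧸ N ≃* QuaternionGroup 2) := by
  classical
  haveI : CharP F 2 := by
    obtain ⟨p, hp⟩ := CharP.exists F
    obtain ⟨f, hp', hf⟩ := FiniteField.card F p
    have h2 : p ∣ 2 ^ 2 := by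
      rw [show (2 : ℕ) ^ 2 = 4 from rfl, ← hF, hf]
      exact dvd_pow_self p f.ne_zero
    obtain rfl := (Nat.prime_dvd_prime_iff_eq hp' Nat.prime_two).mp (hp'.dvd_of_dvd_pow h2)
    exact hp
  letI : Algebra (ZMod 2) F := ZMod.algebra F 2
  obtain ⟨w, hw0, hw1⟩ : ∃ w : F, w ≠ 0 ∧ w ≠ 1 := by
    by_contra! h
    have : (Finset.univ : Finset F) ⊆ {0, 1} := fun z _ => by
      by_cases hz : z = 0
      · simp [hz]
      · simp [h z hz]
    have := Finset.card_le_card this
    rw [Finset.card_univ, hF] at this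
    have := Finset.card_le_two (a := (0 : F)) (b := 1)
    omega
  have h3 : w ^ 3 = 1 := by
    have := FiniteField.pow_card_sub_one_eq_one w hw0
    rwa [hF] at this
  have hw : w * w = (1 : ZMod 2) • (1 : F) + (1 : ZMod 2) • w := by
    have h0 : (w - 1) * (w * w + w + 1) = 0 := by linear_combination h3
    rw [one_smul, one_smul]
    have := (mul_eq_zero.mp h0).resolve_left (sub_ne_zero.mpr hw1)
    linear_combination this - (1 + w) * (CharTwo.two_eq_zero : (2 : F) = 0)
  let φ : R4 →+* F := (QuadraticAlgebra.lift (R := ZMod 2) ⟨w, hw⟩).toRingHom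
  have hφ : Function.Injective φ := by
    rw [injective_iff_map_eq_zero]
    intro x hx
    by_contra hne
    obtain ⟨z, hz⟩ := R4_inv x hne
    have := congrArg φ hz
    rw [map_mul, hx, zero_mul, map_one] at this
    exact zero_ne_one this
  -- lifting
  let L : ∀ M : Matrix (Fin 3) (Fin 3) R4, Mᵀ * sqm M = 1 ∧ M.det = 1 → Cfsg.SU 3 F 2 := fun M h =>
    ⟨⟨M.map φ, by
      show (φ.mapMatrix M).det = 1
      rw [← RingHom.map_det, h.2, map_one]⟩, by
      intro u v
      show Cfsg.hermForm 3 F 2 (M.map φ *ᵥ u) (M.map φ *ᵥ v) = _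
      have hg : ∀ j k, ∑ i, φ (M i j) * φ (M i k) ^ 2 = if j = k then 1 else 0 := fun j k => by
        have h1 := congrArg φ (congrFun (congrFun h.1 j) k)
        rw [Matrix.mul_apply, map_sum, Matrix.one_apply, apply_ite φ, map_one, map_zero] at h1
        rw [← h1]
        refine Finset.sum_congr rfl fun i _ => ?_
        simp [sqm, pow_two]
      have e : ∀ i, (M.map φ *ᵥ v) i ^ 2 = ∑ k, φ (M i k) ^ 2 * v k ^ 2 := fun i => by
        rw [Matrix.mulVec, dotProduct, CharTwo.sum_sq]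
        exact Finset.sum_congr rfl fun k _ => mul_pow _ _ _
      unfold Cfsg.hermForm
      simp only [e]
      simp only [Matrix.mulVec, dotProduct, Matrix.map_apply, Finset.sum_mul, Finset.mul_sum]
      rw [Finset.sum_comm]
      refine Finset.sum_congr rfl fun j _ => ?_
      rw [Finset.sum_comm]
      calc ∑ k, ∑ i, φ (M i k) * u k * (φ (M i j) ^ 2 * v j ^ 2)
          = ∑ k, u k * v j ^ 2 * (if k = j then 1 else 0) := Finset.sum_congr rfl fun k _ => by
            rw [← hg, Finset.mul_sum]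
            exact Finset.sum_congr rfl fun i _ => by ring
        _ = _ := by simp⟩
  let pu : Cfsg.SU 3 F 2 →* Cfsg.PSU 3 F 2 := QuotientGroup.mk' _
  have hval : ∀ M h, ((L M h).1.1 : Matrix (Fin 3) (Fin 3) F) = φ.mapMatrix M := fun _ _ => rfl
  have heq : ∀ (g g' : Cfsg.SU 3 F 2) (c : F), g.1.1 = c • g'.1.1 → pu g = pu g' := by
    intro g g' c h
    refine ((QuotientGroup.eq).mpr ?_).symm
    rw [Subgroup.mem_center_iff]
    intro t
    have hu : ((g'⁻¹ * g : Cfsg.SU 3 F 2).1.1 : Matrix (Fin 3) (Fin 3) F) = c • 1 := by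
      show (g'⁻¹).1.1 * g.1.1 = _
      rw [h, Matrix.mul_smul]
      congr 1
      exact congrArg (fun z : Cfsg.SU 3 F 2 => z.1.1) (inv_mul_cancel g')
    apply Subtype.ext; apply Subtype.ext
    show t.1.1 * (g'⁻¹ * g : Cfsg.SU 3 F 2).1.1 = (g'⁻¹ * g : Cfsg.SU 3 F 2).1.1 * t.1.1
    rw [hu, Matrix.mul_smul, Matrix.smul_mul, mul_one, one_mul]
  have hmapsmul : ∀ (c : R4) (M : Matrix (Fin 3) (Fin 3) R4), φ.mapMatrix (c • M) = φ c • φ.mapMatrix M :=
    fun c M => by ext i j; simp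
  have hne : ∀ M h, (∃ b, M * mE b ≠ mE b * M) → pu (L M h) ≠ 1 := by
    rintro M h ⟨b, hb⟩ he
    have := Subgroup.mem_center_iff.mp ((QuotientGroup.eq_one_iff _).mp he) (L (mE b) (mE_unit b))
    have h' : φ.mapMatrix (mE b * M) = φ.mapMatrix (M * mE b) := by
      rw [map_mul, map_mul]
      exact congrArg (fun z : Cfsg.SU 3 F 2 => z.1.1) this
    exact hb (Matrix.map_injective hφ h').symm
  let e : Multiplicative (ZMod 3 × ZMod 3) →* Cfsg.PSU 3 F 2 := MonoidHom.mk'
    (fun a => pu (L (mE a.toAdd) (mE_unit _))) (fun a b => by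
      obtain ⟨k, hk⟩ := mE_mul a.toAdd b.toAdd
      rw [← map_mul]
      refine (heq _ _ (φ (om ^ k.val)) ?_).symm
      show φ.mapMatrix (mE a.toAdd) * φ.mapMatrix (mE b.toAdd) = _
      rw [← map_mul, hk, hmapsmul]
      rfl)
  let f : QuaternionGroup 2 →* Cfsg.PSU 3 F 2 := MonoidHom.mk' (fun x => pu (L (mQ x) (mQ_unit _)))
    (fun x y => by
      rw [← map_mul]
      refine heq _ _ 1 ?_
      show φ.mapMatrix (mQ (x * y)) = (1 : F) • (φ.mapMatrix (mQ x) * φ.mapMatrix (mQ y))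
      rw [one_smul, ← map_mul, mQ_mul])
  have heinj : Function.Injective e := (injective_iff_map_eq_one e).mpr fun a ha => by
    by_contra h
    exact hne _ (mE_unit _) (mE_noncentral _ fun h' => h (Multiplicative.toAdd.injective h')) ha
  have hfinj : Function.Injective f := (injective_iff_map_eq_one f).mpr fun a ha => by
    by_contra h
    exact hne _ (mQ_unit _) (mQ_noncentral a h) ha
  have hNcard : Nat.card e.range = 9 := by
    rw [← Nat.card_congr (MonoidHom.ofInjective heinj).toEquiv, Nat.card_congr Multiplicative.toAdd,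
      Nat.card_prod, Nat.card_zmod]
  have hQ8 : Nat.card (QuaternionGroup 2) = 8 := by
    rw [Nat.card_eq_fintype_card, QuaternionGroup.card]
  have hcard : Nat.card (Cfsg.PSU 3 F 2) = 72 := card_eq hF
  have hmeet : ∀ a x, e a = f x → x = 1 := fun a x h => by
    have hp : (Monoid.exponent (Multiplicative (ZMod 3 × ZMod 3))) ∣ 9 := by
      have := Group.exponent_dvd_nat_card (G := Multiplicative (ZMod 3 × ZMod 3))
      rwa [Nat.card_congr Multiplicative.toAdd, Nat.card_prod, Nat.card_zmod] at this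
    have h9 : (f x) ^ 9 = 1 := by
      rw [← h, ← map_pow, Monoid.exponent_dvd_iff_forall_pow_eq_one.mp hp a, map_one]
    have h8 : (f x) ^ 8 = 1 := by
      rw [← map_pow, ← hQ8, pow_card_eq_one', map_one]
    refine hfinj (Eq.trans ?_ (map_one f).symm)
    calc f x = (f x) ^ 8 * f x := by rw [h8, one_mul]
      _ = (f x) ^ 9 := (pow_succ _ 8).symm
      _ = 1 := h9
  have hbij : Function.Bijective fun p : Multiplicative (ZMod 3 × ZMod 3) × QuaternionGroup 2 => e p.1 * f p.2 := by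
    rw [Nat.bijective_iff_injective_and_card]
    constructor
    · rintro ⟨a, x⟩ ⟨b, y⟩ h
      simp only at h
      have h1 : e (b⁻¹ * a) = f (y * x⁻¹) := by
        rw [map_mul, map_mul, map_inv, map_inv, inv_mul_eq_iff_eq_mul, ← mul_assoc, eq_mul_inv_iff_mul_eq, h]
      have h2 := hmeet _ _ h1
      rw [mul_inv_eq_one] at h2
      subst h2
      rw [mul_inv_cancel, map_one, ← map_one e] at h1
      rw [show a = b from (inv_mul_eq_one.mp (heinj h1)).symm]
    · rw [Nat.card_prod, Nat.card_congr Multiplicative.toAdd, Nat.card_prod, Nat.card_zmod, hQ8, hcard]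
  have hnorm : e.range.Normal := by
    constructor
    rintro _ ⟨c, rfl⟩ g
    obtain ⟨⟨a, x⟩, rfl⟩ := hbij.2 g
    obtain ⟨d, k, hk⟩ := mQ_conj x c.toAdd
    have h1 : f x * e c = e (Multiplicative.ofAdd d) * f x := by
      show pu _ * pu _ = pu _ * pu _
      rw [← map_mul, ← map_mul]
      refine heq _ _ (φ (om ^ k.val)) ?_
      show φ.mapMatrix (mQ x) * φ.mapMatrix (mE c.toAdd) =
        φ (om ^ k.val) • (φ.mapMatrix (mE d) * φ.mapMatrix (mQ x))
      rw [← map_mul, hk, hmapsmul, map_mul]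
    refine ⟨a * Multiplicative.ofAdd d * a⁻¹, ?_⟩
    show _ = e a * f x * e c * (e a * f x)⁻¹
    rw [mul_assoc (e a) (f x), h1, map_mul, map_mul, map_inv]
    group
  refine ⟨e.range, hnorm, hNcard, ?_, ?_⟩
  · rintro _ ⟨a, rfl⟩
    rw [← map_pow]
    have : a ^ 3 = 1 := by revert a; decide
    rw [this, map_one]
  · haveI := hnorm
    refine ⟨(MulEquiv.ofBijective ((QuotientGroup.mk' e.range).comp f) ⟨?_, fun y => ?_⟩).symm⟩
    · refine (injective_iff_map_eq_one _).mpr fun x hx => ?_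
      obtain ⟨a, ha⟩ := (QuotientGroup.eq_one_iff (f x)).mp hx
      exact hmeet a x ha
    · obtain ⟨g, rfl⟩ := QuotientGroup.mk'_surjective _ y
      obtain ⟨⟨a, x⟩, rfl⟩ := hbij.2 g
      refine ⟨x, ?_⟩
      show QuotientGroup.mk' e.range (f x) = QuotientGroup.mk' e.range (e a * f x)
      rw [map_mul, (QuotientGroup.eq_one_iff (e a)).mpr ⟨a, rfl⟩ |> fun h => show QuotientGroup.mk' e.range (e a) = 1 from h, one_mul]

end Cfsg.Agent.Classical.PSUThreeTwo
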