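/-
The groups of transvections attached to incident point-hyperplane pairs of SL_n.
-/
import Mathlib
import Cfsg.Prelude.Def_RootSubgroups
import Cfsg.Agent.Lib.Classical.LinBasic
import Cfsg.Agent.Lib.Classical.RankOneBasic
import Cfsg.Agent.Lib.Small.Generation.ThreeUnipotent

set_option autoImplicit false

namespace Cfsg.Agent.Classical.TransRoot

open Matrix Cfsg.Agent.Small.Generation Cfsg.Agent.Classical.RankOne
open scoped MatrixGroups commutatorElement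

variable {n : ℕ} {F : Type*} [Field F]

local notation:max "⇡" A:max => ((A : Matrix.SpecialLinearGroup (Fin n) F) : Matrix (Fin n) (Fin n) F)
local notation:max "⇡₂" A:max => ((A : Matrix.SpecialLinearGroup (Fin 2) F) : Matrix (Fin 2) (Fin 2) F)

theorem tv_zero (φ : Fin n → F) : tv (0 : Fin n → F) φ = 1 := by simp [tv]

/-- The transvections with centre `x` and axis `φ`. -/
def tHom (x φ : Fin n → F) (h : φ ⬝ᵥ x = 0) :
    Multiplicative F →* Matrix.SpecialLinearGroup (Fin n) F where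
  toFun c := tE (c.toAdd • x) φ (by rw [dotProduct_smul, h, smul_zero])
  map_one' := Subtype.ext (by
    show tv ((1 : Multiplicative F).toAdd • x) φ = 1
    rw [toAdd_one, zero_smul, tv_zero])
  map_mul' c d := Subtype.ext (by
    show tv ((c * d).toAdd • x) φ = tv (c.toAdd • x) φ * tv (d.toAdd • x) φ
    rw [tv_add_left _ _ _ (by rw [dotProduct_smul, h, smul_zero]), toAdd_mul, add_smul])

/-- The root subgroup of the pair `(x, φ)`. -/
def T (x φ : Fin n → F) (h : φ ⬝ᵥ x = 0) : Subgroup (Matrix.SpecialLinearGroup (Fin n) F) :=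
  (tHom x φ h).range

theorem mem_T {x φ : Fin n → F} {h : φ ⬝ᵥ x = 0} {g : Matrix.SpecialLinearGroup (Fin n) F} :
    g ∈ T x φ h ↔ ∃ c : F, ⇡g = tv (c • x) φ := by
  constructor
  · rintro ⟨c, rfl⟩; exact ⟨c.toAdd, rfl⟩
  · rintro ⟨c, hc⟩; exact ⟨Multiplicative.ofAdd c, Subtype.ext hc.symm⟩

theorem tE_mem (x φ : Fin n → F) (h : φ ⬝ᵥ x = 0) : tE x φ h ∈ T x φ h :=
  mem_T.mpr ⟨1, by rw [one_smul]; rfl⟩

theorem T_congr {x φ x' φ' : Fin n → F} {h : φ ⬝ᵥ x = 0} {h' : φ' ⬝ᵥ x' = 0}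
    (hx : x = x') (hφ : φ = φ') : T x φ h = T x' φ' h' := by
  subst hx hφ; rfl

theorem T_smul_left {x φ : Fin n → F} {h : φ ⬝ᵥ x = 0} {k : F} (hk : k ≠ 0)
    {h' : φ ⬝ᵥ (k • x) = 0} : T (k • x) φ h' = T x φ h := by
  ext g
  rw [mem_T, mem_T]
  constructor
  · rintro ⟨c, hc⟩; exact ⟨c * k, by rw [hc, smul_smul]⟩
  · rintro ⟨c, hc⟩; exact ⟨c * k⁻¹, by rw [hc, smul_smul, inv_mul_cancel_right₀ hk]⟩

theorem T_smul_right {x φ : Fin n → F} {h : φ ⬝ᵥ x = 0} {k : F} (hk : k ≠ 0)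
    {h' : (k • φ) ⬝ᵥ x = 0} : T x (k • φ) h' = T x φ h := by
  ext g
  rw [mem_T, mem_T]
  constructor
  · rintro ⟨c, hc⟩; exact ⟨k * c, by rw [hc, ← tv_smul, smul_smul]⟩
  · rintro ⟨c, hc⟩
    exact ⟨k⁻¹ * c, by rw [hc, ← tv_smul, smul_smul, ← mul_assoc, mul_inv_cancel₀ hk, one_mul]⟩

theorem conj_tv (g : Matrix.SpecialLinearGroup (Fin n) F) (a φ : Fin n → F) :
    ⇡g * tv a φ * ⇡(g⁻¹) = tv (⇡g *ᵥ a) (φ ᵥ* ⇡(g⁻¹)) := by
  rw [tv, tv, mul_add, mul_one, add_mul, ← Matrix.SpecialLinearGroup.coe_mul, mul_inv_cancel,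
    Matrix.SpecialLinearGroup.coe_one, Matrix.mul_vecMulVec, Matrix.vecMulVec_mul]

theorem dot_conj (g : Matrix.SpecialLinearGroup (Fin n) F) (x φ : Fin n → F) :
    (φ ᵥ* ⇡(g⁻¹)) ⬝ᵥ (⇡g *ᵥ x) = φ ⬝ᵥ x := by
  rw [← Matrix.dotProduct_mulVec, Matrix.mulVec_mulVec, ← Matrix.SpecialLinearGroup.coe_mul, inv_mul_cancel,
    Matrix.SpecialLinearGroup.coe_one, Matrix.one_mulVec]

theorem conj_T (g : Matrix.SpecialLinearGroup (Fin n) F) (x φ : Fin n → F) (h : φ ⬝ᵥ x = 0) :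
    Cfsg.conjBy (T x φ h) g =
      T (⇡g *ᵥ x) (φ ᵥ* ⇡(g⁻¹)) (by rw [dot_conj]; exact h) := by
  ext y
  rw [mem_T, Subgroup.mem_map]
  constructor
  · rintro ⟨z, hz, rfl⟩
    obtain ⟨c, hc⟩ := mem_T.mp hz
    refine ⟨c, ?_⟩
    show ⇡(g * z * g⁻¹) = _
    rw [Matrix.SpecialLinearGroup.coe_mul, Matrix.SpecialLinearGroup.coe_mul, hc, conj_tv, Matrix.mulVec_smul]
  · rintro ⟨c, hc⟩
    refine ⟨tHom x φ h (Multiplicative.ofAdd c), ⟨_, rfl⟩, Subtype.ext ?_⟩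
    show ⇡(g * tHom x φ h (Multiplicative.ofAdd c) * g⁻¹) = _
    rw [hc, Matrix.SpecialLinearGroup.coe_mul, Matrix.SpecialLinearGroup.coe_mul]
    show ⇡g * tv (c • x) φ * ⇡(g⁻¹) = _
    rw [conj_tv, Matrix.mulVec_smul]

theorem T_ne_bot {x φ : Fin n → F} {h : φ ⬝ᵥ x = 0} (hx : x ≠ 0) (hφ : φ ≠ 0) : T x φ h ≠ ⊥ := by
  intro he
  have h1 := tE_mem x φ h
  rw [he, Subgroup.mem_bot] at h1
  obtain ⟨j, hj⟩ := Function.ne_iff.mp hφ
  have h2 : tv x φ *ᵥ Pi.single j (1 : F) = Pi.single j 1 := by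
    rw [show tv x φ = 1 from congrArg Subtype.val h1, Matrix.one_mulVec]
  rw [tv_mulVec, dotProduct_single, mul_one, add_eq_left, smul_eq_zero] at h2
  exact h2.elim hj hx

theorem T_comm (x φ : Fin n → F) (h : φ ⬝ᵥ x = 0) : IsMulCommutative (T x φ h) := by
  refine ⟨⟨fun a b => ?_⟩⟩
  obtain ⟨c, hc⟩ := a.2
  obtain ⟨d, hd⟩ := b.2
  exact Subtype.ext (by
    show (a : Matrix.SpecialLinearGroup (Fin n) F) * b = b * a
    rw [← hc, ← hd, ← map_mul, ← map_mul, mul_comm])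

theorem exists_dual {u v : Fin n → F} (h : ∀ k : F, k • v ≠ u) :
    ∃ ψ : Fin n → F, ψ ⬝ᵥ u = 1 ∧ ψ ⬝ᵥ v = 0 := by
  have hnot : u ∉ Submodule.span F {v} := fun hm => by
    obtain ⟨k, hk⟩ := Submodule.mem_span_singleton.mp hm
    exact h k hk
  obtain ⟨f, hf, hfv⟩ := Submodule.exists_dual_map_eq_bot_of_notMem hnot inferInstance
  have hrep : ∀ w : Fin n → F, (fun i => f (Pi.single i 1)) ⬝ᵥ w = f w := by
    intro w
    conv_rhs => rw [pi_eq_sum_univ' w]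
    simp [dotProduct, mul_comm]
  refine ⟨(f u)⁻¹ • fun i => f (Pi.single i 1), ?_, ?_⟩
  · rw [smul_dotProduct, hrep, smul_eq_mul, inv_mul_cancel₀ hf]
  · have : f v = 0 := (Submodule.mem_bot F).mp
      (hfv ▸ Submodule.mem_map_of_mem (Submodule.mem_span_singleton_self v))
    rw [smul_dotProduct, hrep, this, smul_zero]

/-- All root subgroups are conjugate. -/
theorem transitive {x φ x' φ' : Fin n → F} (h : φ ⬝ᵥ x = 0) (h' : φ' ⬝ᵥ x' = 0) (hx : x ≠ 0)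
    (hφ : φ ≠ 0) (hx' : x' ≠ 0) (hφ' : φ' ≠ 0) :
    ∃ g : Matrix.SpecialLinearGroup (Fin n) F, T x' φ' h' = Cfsg.conjBy (T x φ h) g := by
  -- first move the centre
  obtain ⟨g, k, hk, hgx⟩ : ∃ (g : Matrix.SpecialLinearGroup (Fin n) F) (k : F), k ≠ 0 ∧ ⇡g *ᵥ x = k • x' := by
    by_cases hdep : ∃ k : F, k • x' = x
    · obtain ⟨k, hk⟩ := hdep
      refine ⟨1, k, fun h0 => hx (by rw [← hk, h0, zero_smul]), ?_⟩
      rw [Matrix.SpecialLinearGroup.coe_one, Matrix.one_mulVec, hk]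
    · simp only [not_exists] at hdep
      obtain ⟨ψ, hψ1, hψ2⟩ := exists_dual (u := x) (v := x' - x) fun k hk => by
        have hk' : k • x' = (k + 1) • x := by rw [add_smul, one_smul, ← sub_eq_iff_eq_add', ← smul_sub, hk]
        by_cases hk1 : k + 1 = 0
        · rw [hk1, zero_smul, smul_eq_zero] at hk'
          rcases hk' with hk' | hk'
          · rw [hk', zero_add] at hk1; exact one_ne_zero hk1
          · exact hx' hk'
        · exact hdep ((k + 1)⁻¹ * k) (by rw [← smul_smul, hk', smul_smul, inv_mul_cancel₀ hk1, one_smul])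
      refine ⟨tE (x' - x) ψ hψ2, 1, one_ne_zero, ?_⟩
      show tv (x' - x) ψ *ᵥ x = _
      rw [tv_mulVec, hψ1, one_smul, one_smul, add_sub_cancel]
  -- then the axis
  set χ := φ ᵥ* ⇡(g⁻¹) with hχ
  have hχx : χ ⬝ᵥ x' = 0 := by
    have := dot_conj g x φ
    rw [h, hgx, dotProduct_smul, smul_eq_mul] at this
    exact (mul_eq_zero.mp this).resolve_left hk
  have hbase : Cfsg.conjBy (T x φ h) g = T x' χ hχx := by
    rw [conj_T, T_congr (h' := by rw [dotProduct_smul, hχx, smul_zero]) hgx rfl, T_smul_left hk]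
  by_cases hdep : ∃ l : F, l • χ = φ'
  · obtain ⟨l, hl⟩ := hdep
    refine ⟨g, ?_⟩
    rw [hbase, T_congr (h' := by rw [smul_dotProduct, hχx, smul_zero]) rfl hl.symm,
      T_smul_right (fun h0 => hφ' (by rw [← hl, h0, zero_smul]))]
  · simp only [not_exists] at hdep
    have hχ0 : χ ≠ 0 := by
      intro h0
      refine hφ ?_
      have : φ = χ ᵥ* ⇡g := by
        rw [hχ, Matrix.vecMul_vecMul, ← Matrix.SpecialLinearGroup.coe_mul, inv_mul_cancel,
          Matrix.SpecialLinearGroup.coe_one, Matrix.vecMul_one]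
      rw [this, h0, Matrix.zero_vecMul]
    obtain ⟨a, ha1, ha2⟩ := exists_dual (u := χ) (v := φ' - χ) fun l hl => by
      have hl' : l • φ' = (l + 1) • χ := by rw [add_smul, one_smul, ← sub_eq_iff_eq_add', ← smul_sub, hl]
      by_cases hl0 : l = 0
      · rw [hl0, zero_smul, zero_add, one_smul] at hl'; exact hχ0 hl'.symm
      · exact hdep (l⁻¹ * (l + 1)) (by rw [← smul_smul, ← hl', smul_smul, inv_mul_cancel₀ hl0, one_smul])
    rw [dotProduct_comm] at ha1 ha2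
    set ψ := φ' - χ with hψ
    have hψx : ψ ⬝ᵥ x' = 0 := by rw [hψ, sub_dotProduct, h', hχx, sub_zero]
    refine ⟨(tE a ψ ha2)⁻¹ * g, ?_⟩
    rw [conjBy_mul, hbase, conj_T]
    have hinv : ⇡((tE a ψ ha2)⁻¹) = tv (-a) ψ := by
      rw [show (tE a ψ ha2)⁻¹ = tE (-a) ψ (by rw [dotProduct_neg, ha2, neg_zero]) from
        inv_eq_of_mul_eq_one_right (Subtype.ext (by
          show tv a ψ * tv (-a) ψ = 1
          rw [tv_add_left a (-a) ψ (by rw [dotProduct_neg, ha2, neg_zero]), add_neg_cancel, tv_zero]))]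
      rfl
    apply T_congr
    · rw [hinv, tv_mulVec, hψx, zero_smul, add_zero]
    · rw [inv_inv]
      show φ' = χ ᵥ* tv a ψ
      rw [tv_vecMul, ha1, one_smul, hψ, add_sub_cancel]

/-- The set of all root subgroups. -/
def rootSet (n : ℕ) (F : Type*) [Field F] : Set (Subgroup (Matrix.SpecialLinearGroup (Fin n) F)) :=
  {A | ∃ (x φ : Fin n → F) (h : φ ⬝ᵥ x = 0), x ≠ 0 ∧ φ ≠ 0 ∧ A = T x φ h}

theorem T_mem_rootSet {x φ : Fin n → F} (h : φ ⬝ᵥ x = 0) (hx : x ≠ 0) (hφ : φ ≠ 0) :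
    T x φ h ∈ rootSet n F := ⟨x, φ, h, hx, hφ, rfl⟩

theorem conj_mem_rootSet {A : Subgroup (Matrix.SpecialLinearGroup (Fin n) F)} (hA : A ∈ rootSet n F)
    (g : Matrix.SpecialLinearGroup (Fin n) F) : Cfsg.conjBy A g ∈ rootSet n F := by
  obtain ⟨x, φ, h, hx, hφ, rfl⟩ := hA
  refine ⟨_, _, _, ?_, ?_, conj_T g x φ h⟩
  · intro h0
    apply hx
    have := congrArg (⇡(g⁻¹) *ᵥ ·) h0
    simpa [Matrix.mulVec_mulVec, ← Matrix.SpecialLinearGroup.coe_mul, Matrix.adjugate_mul, g.2] using this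
  · intro h0
    apply hφ
    have := congrArg (fun ψ => ψ ᵥ* ⇡g) h0
    simpa [Matrix.vecMul_vecMul, ← Matrix.SpecialLinearGroup.coe_mul, Matrix.adjugate_mul, g.2] using this

theorem commute_tv {a φ b ψ : Fin n → F} (h1 : φ ⬝ᵥ b = 0) (h2 : ψ ⬝ᵥ a = 0) :
    tv a φ * tv b ψ = tv b ψ * tv a φ := by
  apply ext_mulVec
  intro v
  rw [← Matrix.mulVec_mulVec, ← Matrix.mulVec_mulVec, tv_mulVec, tv_mulVec, tv_mulVec, tv_mulVec,
    dotProduct_add, dotProduct_add, dotProduct_smul, dotProduct_smul, h1, h2]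
  module

theorem commuting {x φ y ψ : Fin n → F} {hA : φ ⬝ᵥ x = 0} {hB : ψ ⬝ᵥ y = 0}
    (h1 : φ ⬝ᵥ y = 0) (h2 : ψ ⬝ᵥ x = 0) : ⁅T x φ hA, T y ψ hB⁆ = ⊥ := by
  rw [Subgroup.commutator_eq_bot_iff_le_centralizer]
  intro u hu v hv
  obtain ⟨c, hc⟩ := mem_T.mp hu
  obtain ⟨d, hd⟩ := mem_T.mp hv
  refine Subtype.ext ?_
  show ⇡v * ⇡u = ⇡u * ⇡v
  rw [hc, hd, commute_tv]
  · rw [dotProduct_smul, h2, smul_zero]
  · rw [dotProduct_smul, h1, smul_zero]

theorem bracket_tv {a φ b ψ : Fin n → F} (hA : φ ⬝ᵥ a = 0) (hB : ψ ⬝ᵥ b = 0) (h2 : ψ ⬝ᵥ a = 0) :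
    ⁅tE a φ hA, tE b ψ hB⁆ =
      tE ((φ ⬝ᵥ b) • a) ψ (by rw [dotProduct_smul, h2, smul_zero]) := by
  rw [commutatorElement_def, mul_inv_eq_iff_eq_mul, mul_inv_eq_iff_eq_mul]
  refine Subtype.ext ?_
  show tv a φ * tv b ψ = tv ((φ ⬝ᵥ b) • a) ψ * tv b ψ * tv a φ
  apply ext_mulVec
  intro v
  simp only [← Matrix.mulVec_mulVec, tv_mulVec, dotProduct_add, dotProduct_smul, hB, h2, hA, smul_eq_mul]
  module

theorem commutator_case {x φ y ψ : Fin n → F} (hA : φ ⬝ᵥ x = 0) (hB : ψ ⬝ᵥ y = 0) (hx : x ≠ 0)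
    (hψ : ψ ≠ 0) (h1 : φ ⬝ᵥ y ≠ 0) (h2 : ψ ⬝ᵥ x = 0) :
    Cfsg.RootCommutatorCase (rootSet n F) (T x φ hA) (T y ψ hB) ∧
      ⁅T x φ hA, T y ψ hB⁆ = T x ψ h2 := by
  have hgen : ∀ c d : F, ⁅tHom x φ hA (Multiplicative.ofAdd c), tHom y ψ hB (Multiplicative.ofAdd d)⁆ =
      tHom x ψ h2 (Multiplicative.ofAdd (c * d * (φ ⬝ᵥ y))) := by
    intro c d
    refine Eq.trans (bracket_tv (a := c • x) (φ := φ) (b := d • y) (ψ := ψ) (by rw [dotProduct_smul, hA, smul_zero])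
      (by rw [dotProduct_smul, hB, smul_zero]) (by rw [dotProduct_smul, h2, smul_zero])) (Subtype.ext ?_)
    show tv ((φ ⬝ᵥ (d • y)) • c • x) ψ = tv ((c * d * (φ ⬝ᵥ y)) • x) ψ
    rw [dotProduct_smul, smul_smul, smul_eq_mul]
    congr 2
    ring
  have heq : ⁅T x φ hA, T y ψ hB⁆ = T x ψ h2 := by
    refine le_antisymm (Subgroup.commutator_le.2 ?_) ?_
    · rintro _ ⟨c, rfl⟩ _ ⟨d, rfl⟩
      exact ⟨_, (hgen c.toAdd d.toAdd).symm⟩
    · rintro _ ⟨e, rfl⟩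
      have hm := Subgroup.commutator_mem_commutator (H₁ := T x φ hA) (H₂ := T y ψ hB)
        ⟨Multiplicative.ofAdd (e.toAdd / (φ ⬝ᵥ y)), rfl⟩ ⟨Multiplicative.ofAdd 1, rfl⟩
      rwa [hgen, mul_one, div_mul_cancel₀ _ h1, ofAdd_toAdd] at hm
  refine ⟨⟨heq ▸ T_mem_rootSet h2 hx hψ, ?_, ?_, ?_⟩, heq⟩
  · rw [heq]
    have hle : T x φ hA ⊔ T y ψ hB ≤ Subgroup.centralizer (T x ψ h2 : Set (Matrix.SpecialLinearGroup (Fin n) F)) :=
      sup_le (Subgroup.commutator_eq_bot_iff_le_centralizer.mp (commuting hA h2))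
        (Subgroup.commutator_eq_bot_iff_le_centralizer.mp (commuting h2 hB |> fun h => h))
    intro c hc z hz
    exact Subgroup.mem_centralizer_iff.mp (hle hz) c hc
  · intro a ha ha1
    refine le_antisymm ((Subgroup.closure_le _).mpr ?_) ?_
    · rintro _ ⟨b, hb, rfl⟩
      exact Subgroup.commutator_mem_commutator ha hb
    · rw [heq]
      rintro _ ⟨e, rfl⟩
      obtain ⟨c, rfl⟩ := ha
      have hc : c.toAdd ≠ 0 := fun h0 => ha1 (by
        rw [show c = 1 from toAdd_eq_zero.mp h0, map_one])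
      refine Subgroup.subset_closure ⟨tHom y ψ hB (Multiplicative.ofAdd (e.toAdd / (c.toAdd * (φ ⬝ᵥ y)))),
        ⟨_, rfl⟩, ?_⟩
      refine Eq.trans (hgen c.toAdd _) ?_
      congr 1
      apply Multiplicative.toAdd.injective
      rw [toAdd_ofAdd]
      field_simp
  · intro b hb hb1
    refine le_antisymm ((Subgroup.closure_le _).mpr ?_) ?_
    · rintro _ ⟨a, ha, rfl⟩
      exact Subgroup.commutator_mem_commutator ha hb
    · rw [heq]
      rintro _ ⟨e, rfl⟩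
      obtain ⟨d, rfl⟩ := hb
      have hd : d.toAdd ≠ 0 := fun h0 => hb1 (by
        rw [show d = 1 from toAdd_eq_zero.mp h0, map_one])
      refine Subgroup.subset_closure ⟨tHom x φ hA (Multiplicative.ofAdd (e.toAdd / (d.toAdd * (φ ⬝ᵥ y)))),
        ⟨_, rfl⟩, ?_⟩
      refine Eq.trans (hgen _ d.toAdd) ?_
      congr 1
      apply Multiplicative.toAdd.injective
      rw [toAdd_ofAdd]
      field_simp

/-- The coordinates of the plane of two root subgroups. -/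
def planeP (x φ y ψ : Fin n → F) : Matrix (Fin 2) (Fin n) F :=
  Matrix.of ![(ψ ⬝ᵥ x)⁻¹ • ψ, (φ ⬝ᵥ y)⁻¹ • φ]

/-- The plane of two root subgroups. -/
def planeJ (x y : Fin n → F) : Matrix (Fin n) (Fin 2) F := (Matrix.of ![x, y]).transpose

theorem planeP_mul (x φ y ψ : Fin n → F) (hA : φ ⬝ᵥ x = 0) (hB : ψ ⬝ᵥ y = 0) (h1 : φ ⬝ᵥ y ≠ 0)
    (h2 : ψ ⬝ᵥ x ≠ 0) : planeP x φ y ψ * planeJ x y = 1 := by
  have hij : ∀ i j, (planeP x φ y ψ * planeJ x y) i j =
      ![(ψ ⬝ᵥ x)⁻¹ • ψ, (φ ⬝ᵥ y)⁻¹ • φ] i ⬝ᵥ ![x, y] j := fun i j => rfl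
  ext i j
  rw [hij]
  fin_cases i <;> fin_cases j <;>
    simp [smul_dotProduct, hA, hB, inv_mul_cancel₀ h1, inv_mul_cancel₀ h2]

/-- The plane of two root subgroups in general position, as a copy of `SL₂`. -/
def plane (x φ y ψ : Fin n → F) (hA : φ ⬝ᵥ x = 0) (hB : ψ ⬝ᵥ y = 0) (h1 : φ ⬝ᵥ y ≠ 0) (h2 : ψ ⬝ᵥ x ≠ 0) :
    Matrix.SpecialLinearGroup (Fin 2) F →* Matrix.SpecialLinearGroup (Fin n) F :=
  let P : Matrix (Fin 2) (Fin n) F := planeP x φ y ψ
  let J : Matrix (Fin n) (Fin 2) F := planeJ x y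
  have hPJ : P * J = 1 := planeP_mul x φ y ψ hA hB h1 h2
  { toFun := fun M => ⟨1 + J * (⇡₂M - 1) * P, by
      rw [Matrix.mul_assoc, Matrix.det_one_add_mul_comm, Matrix.mul_assoc, hPJ, Matrix.mul_one, add_sub_cancel]
      exact M.2⟩
    map_one' := Subtype.ext (by simp)
    map_mul' := fun M N => Subtype.ext (by
      show 1 + J * (⇡₂(M * N) - 1) * P = (1 + J * (⇡₂M - 1) * P) * (1 + J * (⇡₂N - 1) * P)
      rw [Matrix.SpecialLinearGroup.coe_mul]
      have e : J * (⇡₂M - 1) * P * (J * (⇡₂N - 1) * P) = J * ((⇡₂M - 1) * (⇡₂N - 1)) * P := by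
        calc _ = J * (⇡₂M - 1) * (P * J) * (⇡₂N - 1) * P := by simp only [Matrix.mul_assoc]
          _ = _ := by rw [hPJ, Matrix.mul_one]; simp only [Matrix.mul_assoc]
      rw [mul_add, mul_one, add_mul, one_mul, e]
      simp only [mul_sub, sub_mul, Matrix.mul_sub, Matrix.sub_mul, mul_one, one_mul, Matrix.mul_one,
        Matrix.one_mul]
      abel) }

theorem plane_coe (x φ y ψ : Fin n → F) (hA : φ ⬝ᵥ x = 0) (hB : ψ ⬝ᵥ y = 0) (h1 : φ ⬝ᵥ y ≠ 0)
    (h2 : ψ ⬝ᵥ x ≠ 0) (M : Matrix.SpecialLinearGroup (Fin 2) F) :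
    ⇡(plane x φ y ψ hA hB h1 h2 M) = 1 + planeJ x y * (⇡₂M - 1) * planeP x φ y ψ := rfl

theorem plane_injective (x φ y ψ : Fin n → F) (hA : φ ⬝ᵥ x = 0) (hB : ψ ⬝ᵥ y = 0) (h1 : φ ⬝ᵥ y ≠ 0)
    (h2 : ψ ⬝ᵥ x ≠ 0) : Function.Injective (plane x φ y ψ hA hB h1 h2) := by
  intro M N he
  set P : Matrix (Fin 2) (Fin n) F := planeP x φ y ψ with hP
  set J : Matrix (Fin n) (Fin 2) F := planeJ x y with hJ
  have hPJ : P * J = 1 := planeP_mul x φ y ψ hA hB h1 h2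
  have h' : P * ⇡(plane x φ y ψ hA hB h1 h2 M) * J = P * ⇡(plane x φ y ψ hA hB h1 h2 N) * J := by rw [he]
  rw [plane_coe, plane_coe, ← hP, ← hJ] at h'
  have key : ∀ X : Matrix (Fin 2) (Fin 2) F, P * (1 + J * X * P) * J = 1 + X := by
    intro X
    calc _ = P * J + (P * J) * X * (P * J) := by
          simp only [Matrix.mul_add, Matrix.add_mul, Matrix.mul_one, Matrix.mul_assoc]
      _ = _ := by rw [hPJ, Matrix.one_mul, Matrix.mul_one]
  rw [key, key] at h'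
  exact Subtype.ext (by simpa using h')

theorem plane_upper (x φ y ψ : Fin n → F) (hA : φ ⬝ᵥ x = 0) (hB : ψ ⬝ᵥ y = 0) (h1 : φ ⬝ᵥ y ≠ 0)
    (h2 : ψ ⬝ᵥ x ≠ 0) (c : F) :
    ⇡(plane x φ y ψ hA hB h1 h2 (Matrix.SpecialLinearGroup.transvection (show (0 : Fin 2) ≠ 1 by decide) c)) =
      tv ((c / (φ ⬝ᵥ y)) • x) φ := by
  show (1 : Matrix (Fin n) (Fin n) F) + planeJ x y * (((1 : Matrix (Fin 2) (Fin 2) F) + Matrix.single (0 : Fin 2) 1 c) - 1) *
    planeP x φ y ψ = _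
  rw [add_sub_cancel_left, tv]
  congr 1
  ext i j
  simp [planeJ, planeP, Matrix.mul_apply, Matrix.vecMulVec_apply, Fin.sum_univ_two, Matrix.single_apply]
  ring

theorem plane_lower (x φ y ψ : Fin n → F) (hA : φ ⬝ᵥ x = 0) (hB : ψ ⬝ᵥ y = 0) (h1 : φ ⬝ᵥ y ≠ 0)
    (h2 : ψ ⬝ᵥ x ≠ 0) (c : F) :
    ⇡(plane x φ y ψ hA hB h1 h2 (Matrix.SpecialLinearGroup.transvection (show (1 : Fin 2) ≠ 0 by decide) c)) =
      tv ((c / (ψ ⬝ᵥ x)) • y) ψ := by
  show (1 : Matrix (Fin n) (Fin n) F) + planeJ x y * (((1 : Matrix (Fin 2) (Fin 2) F) + Matrix.single (1 : Fin 2) 0 c) - 1) *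
    planeP x φ y ψ = _
  rw [add_sub_cancel_left, tv]
  congr 1
  ext i j
  simp [planeJ, planeP, Matrix.mul_apply, Matrix.vecMulVec_apply, Fin.sum_univ_two, Matrix.single_apply]
  ring

theorem trans_mul {ι : Type} [Fintype ι] [DecidableEq ι] {i j : ι} (hij : i ≠ j) (c d : F) :
    Matrix.SpecialLinearGroup.transvection hij c * Matrix.SpecialLinearGroup.transvection hij d =
      (Matrix.SpecialLinearGroup.transvection hij (c + d) : Matrix.SpecialLinearGroup ι F) := by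
  apply Subtype.ext
  simp [Matrix.SpecialLinearGroup.transvection_coe, mul_add, add_mul, hij.symm, Matrix.single_add]
  abel

theorem mem_upperUnipotentSL2 {g : Matrix.SpecialLinearGroup (Fin 2) F} :
    g ∈ Cfsg.upperUnipotentSL2 F ↔
      ∃ c : F, g = Matrix.SpecialLinearGroup.transvection (show (0 : Fin 2) ≠ 1 by decide) c := by
  constructor
  · intro hg
    induction hg using Subgroup.closure_induction with
    | mem g hg =>
      obtain ⟨h10, h00, h11⟩ := hg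
      refine ⟨g.1 0 1, Subtype.ext ?_⟩
      ext i j
      fin_cases i <;> fin_cases j <;>
        simp [Matrix.SpecialLinearGroup.transvection_coe, Matrix.transvection, h10, h00, h11]
    | one => exact ⟨0, by rw [Matrix.SpecialLinearGroup.transvection_coeff_zero]⟩
    | mul a b _ _ ha hb =>
      obtain ⟨c, rfl⟩ := ha; obtain ⟨d, rfl⟩ := hb
      exact ⟨c + d, by rw [trans_mul]⟩
    | inv a _ ha =>
      obtain ⟨c, rfl⟩ := ha
      exact ⟨-c, by rw [Matrix.SpecialLinearGroup.transvection_inv]⟩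
  · rintro ⟨c, rfl⟩
    refine Subgroup.subset_closure ⟨?_, ?_, ?_⟩ <;>
      simp [Matrix.SpecialLinearGroup.transvection_coe, Matrix.transvection]

theorem mem_lowerUnipotentSL2 {g : Matrix.SpecialLinearGroup (Fin 2) F} :
    g ∈ Cfsg.lowerUnipotentSL2 F ↔
      ∃ c : F, g = Matrix.SpecialLinearGroup.transvection (show (1 : Fin 2) ≠ 0 by decide) c := by
  constructor
  · intro hg
    induction hg using Subgroup.closure_induction with
    | mem g hg =>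
      obtain ⟨h01, h00, h11⟩ := hg
      refine ⟨g.1 1 0, Subtype.ext ?_⟩
      ext i j
      fin_cases i <;> fin_cases j <;>
        simp [Matrix.SpecialLinearGroup.transvection_coe, Matrix.transvection, h01, h00, h11]
    | one => exact ⟨0, by rw [Matrix.SpecialLinearGroup.transvection_coeff_zero]⟩
    | mul a b _ _ ha hb =>
      obtain ⟨c, rfl⟩ := ha; obtain ⟨d, rfl⟩ := hb
      exact ⟨c + d, by rw [trans_mul]⟩
    | inv a _ ha =>
      obtain ⟨c, rfl⟩ := ha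
      exact ⟨-c, by rw [Matrix.SpecialLinearGroup.transvection_inv]⟩
  · rintro ⟨c, rfl⟩
    refine Subgroup.subset_closure ⟨?_, ?_, ?_⟩ <;>
      simp [Matrix.SpecialLinearGroup.transvection_coe, Matrix.transvection]

theorem unipotents_sup : Cfsg.upperUnipotentSL2 F ⊔ Cfsg.lowerUnipotentSL2 F = ⊤ := by
  rw [eq_top_iff, ← sl_closure_transvections, Subgroup.closure_le]
  rintro g ⟨i, j, hij, c, rfl⟩
  fin_cases i <;> fin_cases j
  · exact absurd rfl hij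
  · exact Subgroup.mem_sup_left (mem_upperUnipotentSL2.mpr ⟨c, rfl⟩)
  · exact Subgroup.mem_sup_right (mem_lowerUnipotentSL2.mpr ⟨c, rfl⟩)
  · exact absurd rfl hij

theorem conj_upper (s t c d : F) (hst : s * t = 1) (hd : d = -(c * t * t)) :
    let U := fun z : F => Matrix.SpecialLinearGroup.transvection (show (0 : Fin 2) ≠ 1 by decide) z
    let L := fun z : F => Matrix.SpecialLinearGroup.transvection (show (1 : Fin 2) ≠ 0 by decide) z
    (L t)⁻¹ * U c * L t = ((U s)⁻¹ * L d * U s : Matrix.SpecialLinearGroup (Fin 2) F) := by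
  intro U L
  simp only [U, L, Matrix.SpecialLinearGroup.transvection_inv]
  refine Subtype.ext ?_
  ext i j
  fin_cases i <;> fin_cases j <;>
    simp [Matrix.SpecialLinearGroup.transvection_coe, Matrix.transvection, Matrix.mul_apply, Fin.sum_univ_two] <;>
    grind

theorem conj_eq_of_param {G : Type*} [Group G] {A B : Subgroup G} (U L : F → G)
    (hU : ∀ g, g ∈ A ↔ ∃ c, g = U c) (hL : ∀ g, g ∈ B ↔ ∃ c, g = L c) {a b : G} (r : F → F)
    (hr : Function.Surjective r) (he : ∀ c, b⁻¹ * U c * b = a⁻¹ * L (r c) * a) :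
    Cfsg.conjBy A b⁻¹ = Cfsg.conjBy B a⁻¹ := by
  apply le_antisymm
  · rintro _ ⟨g, hg, rfl⟩
    obtain ⟨c, rfl⟩ := (hU g).mp hg
    refine ⟨L (r c), (hL _).mpr ⟨_, rfl⟩, ?_⟩
    show a⁻¹ * L (r c) * a⁻¹⁻¹ = b⁻¹ * U c * b⁻¹⁻¹
    rw [inv_inv, inv_inv, he]
  · rintro _ ⟨g, hg, rfl⟩
    obtain ⟨d, rfl⟩ := (hL g).mp hg
    obtain ⟨c, rfl⟩ := hr d
    refine ⟨U c, (hU _).mpr ⟨_, rfl⟩, ?_⟩
    show b⁻¹ * U c * b⁻¹⁻¹ = a⁻¹ * L (r c) * a⁻¹⁻¹
    rw [inv_inv, inv_inv, he]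

/-- The two unitriangular subgroups of `SL₂` form a rank one pair. -/
theorem sl2_pair : Cfsg.IsRankOnePair (Cfsg.upperUnipotentSL2 F) (Cfsg.lowerUnipotentSL2 F) := by
  have h01 : (0 : Fin 2) ≠ 1 := by decide
  have h10 : (1 : Fin 2) ≠ 0 := by decide
  have hU : IsMulCommutative (Cfsg.upperUnipotentSL2 F) := ⟨⟨fun a b => by
    obtain ⟨c, hc⟩ := mem_upperUnipotentSL2.mp a.2
    obtain ⟨d, hd⟩ := mem_upperUnipotentSL2.mp b.2
    exact Subtype.ext (by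
      show a.1 * b.1 = b.1 * a.1
      rw [hc, hd, trans_mul, trans_mul, add_comm])⟩⟩
  have hL : IsMulCommutative (Cfsg.lowerUnipotentSL2 F) := ⟨⟨fun a b => by
    obtain ⟨c, hc⟩ := mem_lowerUnipotentSL2.mp a.2
    obtain ⟨d, hd⟩ := mem_lowerUnipotentSL2.mp b.2
    exact Subtype.ext (by
      show a.1 * b.1 = b.1 * a.1
      rw [hc, hd, trans_mul, trans_mul, add_comm])⟩⟩
  refine ⟨?_, ?_, ?_, ?_, ?_⟩
  · intro he
    obtain ⟨c, hc⟩ := mem_lowerUnipotentSL2.mp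
      (he ▸ mem_upperUnipotentSL2.mpr ⟨1, rfl⟩ :
        Matrix.SpecialLinearGroup.transvection h01 (1 : F) ∈ Cfsg.lowerUnipotentSL2 F)
    have := congrFun (congrFun (congrArg Subtype.val hc) 0) 1
    simp [Matrix.SpecialLinearGroup.transvection_coe, Matrix.transvection] at this
  · exact (by open scoped IsMulCommutative in exact inferInstance)
  · exact (by open scoped IsMulCommutative in exact inferInstance)
  · intro a ha ha1
    obtain ⟨s, rfl⟩ := mem_upperUnipotentSL2.mp ha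
    have hs : s ≠ 0 := fun h => ha1 (by rw [h, Matrix.SpecialLinearGroup.transvection_coeff_zero])
    refine ⟨Matrix.SpecialLinearGroup.transvection h10 s⁻¹, mem_lowerUnipotentSL2.mpr ⟨_, rfl⟩, ?_, ?_⟩
    · intro h
      have := congrFun (congrFun (congrArg Subtype.val h) 1) 0
      simp [Matrix.SpecialLinearGroup.transvection_coe, Matrix.transvection, hs] at this
    · exact conj_eq_of_param _ _ (fun g => mem_upperUnipotentSL2) (fun g => mem_lowerUnipotentSL2)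
        (fun c => -(c * s⁻¹ * s⁻¹)) (fun d => ⟨-(d * s * s), by field_simp⟩)
        (fun c => conj_upper s s⁻¹ c _ (mul_inv_cancel₀ hs) rfl)
  · intro b hb hb1
    obtain ⟨t, rfl⟩ := mem_lowerUnipotentSL2.mp hb
    have ht : t ≠ 0 := fun h => hb1 (by rw [h, Matrix.SpecialLinearGroup.transvection_coeff_zero])
    refine ⟨Matrix.SpecialLinearGroup.transvection h01 t⁻¹, mem_upperUnipotentSL2.mpr ⟨_, rfl⟩, ?_, ?_⟩
    · intro h
      have := congrFun (congrFun (congrArg Subtype.val h) 0) 1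
      simp [Matrix.SpecialLinearGroup.transvection_coe, Matrix.transvection, ht] at this
    · exact (conj_eq_of_param _ _ (fun g => mem_upperUnipotentSL2) (fun g => mem_lowerUnipotentSL2)
        (fun c => -(c * t * t)) (fun d => ⟨-(d * t⁻¹ * t⁻¹), by field_simp⟩)
        (fun c => conj_upper t⁻¹ t c _ (inv_mul_cancel₀ ht) rfl)).symm

theorem plane_images (x φ y ψ : Fin n → F) (hA : φ ⬝ᵥ x = 0) (hB : ψ ⬝ᵥ y = 0) (h1 : φ ⬝ᵥ y ≠ 0)
    (h2 : ψ ⬝ᵥ x ≠ 0) :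
    (Cfsg.upperUnipotentSL2 F).map (plane x φ y ψ hA hB h1 h2) = T x φ hA ∧
    (Cfsg.lowerUnipotentSL2 F).map (plane x φ y ψ hA hB h1 h2) = T y ψ hB := by
  constructor <;> ext g <;> rw [Subgroup.mem_map, mem_T] <;> constructor
  · rintro ⟨u, hu, rfl⟩
    obtain ⟨c, rfl⟩ := mem_upperUnipotentSL2.mp hu
    exact ⟨_, plane_upper x φ y ψ hA hB h1 h2 c⟩
  · rintro ⟨c, hc⟩
    refine ⟨_, mem_upperUnipotentSL2.mpr ⟨c * (φ ⬝ᵥ y), rfl⟩, Subtype.ext ?_⟩
    rw [plane_upper, hc, mul_div_cancel_right₀ _ h1]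
  · rintro ⟨u, hu, rfl⟩
    obtain ⟨c, rfl⟩ := mem_lowerUnipotentSL2.mp hu
    exact ⟨_, plane_lower x φ y ψ hA hB h1 h2 c⟩
  · rintro ⟨c, hc⟩
    refine ⟨_, mem_lowerUnipotentSL2.mpr ⟨c * (ψ ⬝ᵥ x), rfl⟩, Subtype.ext ?_⟩
    rw [plane_lower, hc, mul_div_cancel_right₀ _ h2]

theorem psl2_pair {x φ y ψ : Fin n → F} {hA : φ ⬝ᵥ x = 0} {hB : ψ ⬝ᵥ y = 0} (h1 : φ ⬝ᵥ y ≠ 0)
    (h2 : ψ ⬝ᵥ x ≠ 0) :
    Cfsg.IsRankOnePair (T x φ hA) (T y ψ hB) ∧ Cfsg.IsPSL2PairOver F (T x φ hA) (T y ψ hB) := by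
  obtain ⟨hu, hl⟩ := plane_images x φ y ψ hA hB h1 h2
  have hinj := plane_injective x φ y ψ hA hB h1 h2
  constructor
  · rw [← hu, ← hl]
    exact map_pair _ sl2_pair fun he => sl2_pair.ne (Subgroup.map_injective hinj he)
  · refine ⟨_, ?_, ?_, hu, hl⟩
    · rw [MonoidHom.range_eq_map, ← unipotents_sup, Subgroup.map_sup, hu, hl]
    · rw [(MonoidHom.ker_eq_bot_iff _).mpr hinj]
      exact bot_le

theorem case_symm {G : Type*} [Group G] {S : Set (Subgroup G)} {A B : Subgroup G}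
    (h : Cfsg.RootCommutatorCase S A B) : Cfsg.RootCommutatorCase S B A := by
  obtain ⟨h1, h2, h3, h4⟩ := h
  refine ⟨by rwa [Subgroup.commutator_comm], by rwa [Subgroup.commutator_comm, sup_comm], ?_, ?_⟩
  · intro b hb hb1
    rw [Subgroup.commutator_comm, ← h4 b hb hb1, ← Subgroup.closure_inv]
    congr 1
    ext z
    simp only [Set.mem_inv, Set.mem_image]
    constructor
    · rintro ⟨a, ha, e⟩; exact ⟨a, ha, by rw [← inv_inv z, ← e]; group⟩
    · rintro ⟨a, ha, rfl⟩; exact ⟨a, ha, by group⟩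
  · intro a ha ha1
    rw [Subgroup.commutator_comm, ← h3 a ha ha1, ← Subgroup.closure_inv]
    congr 1
    ext z
    simp only [Set.mem_inv, Set.mem_image]
    constructor
    · rintro ⟨b, hb, e⟩; exact ⟨b, hb, by rw [← inv_inv z, ← e]; group⟩
    · rintro ⟨b, hb, rfl⟩; exact ⟨b, hb, by group⟩

/-- The trichotomy. -/
theorem trichotomy {A B : Subgroup (Matrix.SpecialLinearGroup (Fin n) F)} (hA : A ∈ rootSet n F)
    (hB : B ∈ rootSet n F) :
    ⁅A, B⁆ = ⊥ ∨ (Cfsg.IsRankOnePair A B ∧ Cfsg.IsPSL2PairOver F A B) ∨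
      Cfsg.RootCommutatorCase (rootSet n F) A B := by
  obtain ⟨x, φ, hxφ, hx, hφ, rfl⟩ := hA
  obtain ⟨y, ψ, hyψ, hy, hψ, rfl⟩ := hB
  by_cases h1 : φ ⬝ᵥ y = 0 <;> by_cases h2 : ψ ⬝ᵥ x = 0
  · exact Or.inl (commuting h1 h2)
  · exact Or.inr (Or.inr (case_symm (commutator_case hyψ hxφ hy hφ h2 h1).1))
  · exact Or.inr (Or.inr (commutator_case hxφ hyψ hx hψ h1 h2).1)
  · exact Or.inr (Or.inl (psl2_pair h1 h2))

theorem isRootSubgroupSet [Nontrivial (Fin n)] : Cfsg.IsRootSubgroupSet (rootSet n F) := by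
  refine ⟨?_, ?_, ?_, fun A hA g => conj_mem_rootSet hA g, ?_⟩
  · rintro _ ⟨x, φ, h, -, -, rfl⟩; exact T_comm x φ h
  · rintro _ ⟨x, φ, h, hx, hφ, rfl⟩; exact T_ne_bot hx hφ
  · rw [eq_top_iff, ← sl_closure_transvections, Subgroup.closure_le]
    rintro g ⟨i, j, hij, c, rfl⟩
    have h : (Pi.single j (1 : F)) ⬝ᵥ (Pi.single i (1 : F)) = 0 := by simp [hij.symm]
    refine le_iSup₂ (f := fun A (_ : A ∈ rootSet n F) => A)
      (T (Pi.single i 1) (Pi.single j 1) h) (T_mem_rootSet h (by simp) (by simp)) ?_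
    refine mem_T.mpr ⟨c, ?_⟩
    rw [Matrix.SpecialLinearGroup.transvection_coe, tv]
    ext a b
    simp [Matrix.transvection, Matrix.vecMulVec_apply, Pi.single_apply, Matrix.single_apply]
    grind
  · intro A hA B hB
    rcases trichotomy hA hB with h | h | h
    · exact Or.inl h
    · exact Or.inr (Or.inl h.1)
    · exact Or.inr (Or.inr h)

theorem isClass [Nontrivial (Fin n)] : Cfsg.IsConjClassOfSubgroups (rootSet n F) := by
  obtain ⟨i, j, hij⟩ := exists_pair_ne (Fin n)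
  have h : (Pi.single j (1 : F)) ⬝ᵥ (Pi.single i (1 : F)) = 0 := by simp [hij.symm]
  refine ⟨⟨_, T_mem_rootSet h (by simp) (by simp)⟩, ?_⟩
  rintro _ ⟨x, φ, h1, hx, hφ, rfl⟩ _ ⟨y, ψ, h2, hy, hψ, rfl⟩
  exact transitive h1 h2 hx hφ hy hψ

theorem e_dot {i j : Fin n} (hij : i ≠ j) : (Pi.single j (1 : F)) ⬝ᵥ (Pi.single i (1 : F)) = 0 := by
  simp [hij.symm]

theorem transvection_eq_tv (i j : Fin n) (c : F) :
    Matrix.transvection i j c = tv (c • Pi.single i (1 : F)) (Pi.single j 1) := by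
  rw [tv]
  ext a b
  simp [Matrix.transvection, Matrix.vecMulVec_apply, Pi.single_apply, Matrix.single_apply]
  grind

/-- The subgroup of elementary transvections at one position. -/
theorem closure_eq_T {i j : Fin n} (hij : i ≠ j) :
    Subgroup.closure {t : Matrix.SpecialLinearGroup (Fin n) F | ∃ c : F,
      ⇡t = Matrix.transvection i j c} = T (Pi.single i 1) (Pi.single j 1) (e_dot hij) := by
  rw [show {t : Matrix.SpecialLinearGroup (Fin n) F | ∃ c : F, ⇡t = Matrix.transvection i j c} =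
    (T (Pi.single i (1 : F)) (Pi.single j 1) (e_dot hij) : Set (Matrix.SpecialLinearGroup (Fin n) F)) from
    Set.ext fun g => by
      simp only [Set.mem_setOf_eq, SetLike.mem_coe, mem_T, transvection_eq_tv]]
  exact Subgroup.closure_eq _

/-- The conjugates of one elementary root subgroup are all the root subgroups. -/
theorem conjugates_eq {i j : Fin n} (hij : i ≠ j) :
    {A : Subgroup (Matrix.SpecialLinearGroup (Fin n) F) | ∃ g : Matrix.SpecialLinearGroup (Fin n) F,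
      A = Cfsg.conjBy (T (Pi.single i 1) (Pi.single j 1) (e_dot hij)) g} = rootSet n F := by
  have hm : T (Pi.single i (1 : F)) (Pi.single j 1) (e_dot hij) ∈ rootSet n F :=
    T_mem_rootSet _ (by simp) (by simp)
  ext A
  constructor
  · rintro ⟨g, rfl⟩; exact conj_mem_rootSet hm g
  · rintro ⟨x, φ, h, hx, hφ, rfl⟩
    exact transitive (e_dot hij) h (by simp) (by simp) hx hφ

end Cfsg.Agent.Classical.TransRoot
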