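/-
The stabiliser of a uniform partition is maximal in the symmetric group.
-/
import Mathlib

set_option autoImplicit false

namespace Cfsg.Agent.Classical.PartStab

variable {Ω : Type*} [Fintype Ω] [DecidableEq Ω] {β : Type*} (f : Ω → β)

/-- The stabiliser of the partition into fibres. -/
def H : Subgroup (Equiv.Perm Ω) where
  carrier := {g | ∀ x y : Ω, f x = f y ↔ f (g x) = f (g y)}
  one_mem' _ _ := Iff.rfl
  mul_mem' {g h} hg hh x y := (hh x y).trans (hg (h x) (h y))
  inv_mem' {g} hg x y := by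
    have h := hg (g⁻¹ x) (g⁻¹ y)
    simp only [Equiv.Perm.coe_inv, Equiv.apply_symm_apply] at h
    simpa using h.symm

theorem closure_eq :
    Subgroup.closure {g : Equiv.Perm Ω | ∀ x y : Ω, f x = f y ↔ f (g x) = f (g y)} = H f :=
  le_antisymm ((Subgroup.closure_le _).mpr fun _ h => h) fun _ h => Subgroup.subset_closure h

theorem swap_mem {u v : Ω} (h : f u = f v) : Equiv.swap u v ∈ H f := by
  have key : ∀ z, f (Equiv.swap u v z) = f z := fun z => by
    rw [Equiv.swap_apply_def]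
    split_ifs with h1 h2
    · rw [h1, h]
    · rw [h2, h]
    · rfl
  intro x y
  rw [key, key]

/-- A uniform partition is a product. -/
theorem exists_equiv {a b : ℕ} (f : Ω → Fin b) (hf : ∀ i : Fin b, Nat.card {x : Ω // f x = i} = a) :
    ∃ e : Ω ≃ Fin b × Fin a, ∀ x, (e x).1 = f x :=
  ⟨(Equiv.sigmaFiberEquiv f).symm.trans ((Equiv.sigmaCongrRight fun i =>
    Fintype.equivFinOfCardEq ((Nat.card_eq_fintype_card (α := {x : Ω // f x = i})).symm.trans (hf i))).trans
      (Equiv.sigmaEquivProd _ _)), fun _ => rfl⟩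

theorem isCoatom {a b : ℕ} (ha : 2 ≤ a) (hb : 2 ≤ b) (f : Ω → Fin b)
    (hf : ∀ i : Fin b, Nat.card {x : Ω // f x = i} = a) : IsCoatom (H f) := by
  classical
  obtain ⟨e, he⟩ := exists_equiv f hf
  let lift : Equiv.Perm (Fin b) → Equiv.Perm Ω := fun σ =>
    e.trans ((σ.prodCongr (Equiv.refl (Fin a))).trans e.symm)
  have hlift : ∀ σ x, f (lift σ x) = σ (f x) := fun σ x => by
    rw [← he, ← he x]; simp [lift]
  have hliftH : ∀ σ, lift σ ∈ H f := fun σ x y => by rw [hlift, hlift, σ.injective.eq_iff]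
  let P : Fin b → Fin a → Ω := fun i j => e.symm (i, j)
  have hP : ∀ i j, f (P i j) = i := fun i j => by rw [← he]; simp [P]
  constructor
  · intro htop
    have hmem : Equiv.swap (P ⟨0, by omega⟩ ⟨0, by omega⟩) (P ⟨1, by omega⟩ ⟨0, by omega⟩) ∈ H f :=
      htop ▸ trivial
    have hne : P ⟨0, by omega⟩ ⟨1, by omega⟩ ≠ P ⟨0, by omega⟩ ⟨0, by omega⟩ := by simp [P]
    have hne' : P ⟨0, by omega⟩ ⟨1, by omega⟩ ≠ P ⟨1, by omega⟩ ⟨0, by omega⟩ := by simp [P]
    have h := (hmem (P ⟨0, by omega⟩ ⟨0, by omega⟩) (P ⟨0, by omega⟩ ⟨1, by omega⟩)).mp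
      (by rw [hP, hP])
    rw [Equiv.swap_apply_left, Equiv.swap_apply_of_ne_of_ne hne hne', hP, hP] at h
    simp at h
  intro K hK
  obtain ⟨hle, hne⟩ := lt_iff_le_and_ne.mp hK
  obtain ⟨g, hgK, hgH⟩ := SetLike.not_le_iff_exists.mp fun h => hne (le_antisymm hle h)
  have hconj : ∀ c ∈ K, ∀ x y, Equiv.swap x y ∈ K → Equiv.swap (c x) (c y) ∈ K := by
    intro c hc x y hxy
    rw [Equiv.swap_apply_apply]
    exact mul_mem (mul_mem hc hxy) (inv_mem hc)
  obtain ⟨u, v, huv, hswap⟩ : ∃ u v, f u ≠ f v ∧ Equiv.swap u v ∈ K := by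
    change ¬ ∀ x y : Ω, f x = f y ↔ f (g x) = f (g y) at hgH
    simp only [not_forall] at hgH
    obtain ⟨x, y, hxy⟩ := hgH
    by_cases h : f x = f y
    · exact ⟨g x, g y, fun h' => hxy (iff_of_true h h'), hconj g hgK x y (hle (swap_mem f h))⟩
    · have h' : f (g x) = f (g y) := by
        by_contra h'; exact hxy (iff_of_false h h')
      refine ⟨x, y, h, ?_⟩
      have := hconj g⁻¹ (inv_mem hgK) _ _ (hle (swap_mem f h'))
      simpa using this
  rw [eq_top_iff, ← Equiv.Perm.closure_isSwap, Subgroup.closure_le]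
  rintro _ ⟨w, z, -, rfl⟩
  by_cases hwz : f w = f z
  · exact hle (swap_mem f hwz)
  obtain ⟨σ, hσu, hσv⟩ : ∃ σ : Equiv.Perm (Fin b), σ (f u) = f w ∧ σ (f v) = f z := by
    refine ⟨Equiv.swap ((Equiv.swap (f u) (f w)) (f v)) (f z) * Equiv.swap (f u) (f w), ?_, ?_⟩
    · rw [Equiv.Perm.mul_apply, Equiv.swap_apply_left]
      refine Equiv.swap_apply_of_ne_of_ne (fun h => huv ((Equiv.swap (f u) (f w)).injective ?_)) hwz
      rw [Equiv.swap_apply_left]; exact h
    · rw [Equiv.Perm.mul_apply, Equiv.swap_apply_left]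
  have h1 := hconj _ (hle (hliftH σ)) u v hswap
  have hu' : f (lift σ u) = f w := by rw [hlift, hσu]
  have hv' : f (lift σ v) = f z := by rw [hlift, hσv]
  set u' := lift σ u
  set v' := lift σ v
  have h2 := hconj _ (hle (swap_mem f hu')) u' v' h1
  rw [Equiv.swap_apply_left, Equiv.swap_apply_of_ne_of_ne (fun h => hwz (by rw [← hu', ← h, hv']))
    (fun h => hwz (by rw [← h, hv']))] at h2
  have h3 := hconj _ (hle (swap_mem f hv')) w v' h2
  rwa [Equiv.swap_apply_left, Equiv.swap_apply_of_ne_of_ne (fun h => hwz (by rw [h, hv']))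
    (fun h => hwz (by rw [h]))] at h3

end Cfsg.Agent.Classical.PartStab
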