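/-
The even permutations preserving a uniform partition form a maximal subgroup of
the alternating group, except in degree 8.
-/
import Mathlib
import Cfsg.Agent.Lib.Classical.PartitionStab

set_option autoImplicit false

namespace Cfsg.Agent.Classical.PartAlt

open Equiv Equiv.Perm MulAction
open scoped Pointwise

variable {Ω : Type*} [Fintype Ω] [DecidableEq Ω] {a b : ℕ} (f : Ω → Fin b)

/-- The even stabiliser of the partition. -/
abbrev M : Subgroup (Perm Ω) := PartStab.H f ⊓ alternatingGroup Ω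

variable {f}

theorem exists_label (hf : ∀ i : Fin b, Nat.card {x : Ω // f x = i} = a) (ha : 1 ≤ a) (i : Fin b) :
    ∃ x, f x = i := by
  have h : 0 < Nat.card {x : Ω // f x = i} := by rw [hf i]; omega
  obtain ⟨⟨x, hx⟩⟩ := (Nat.card_pos_iff.mp h).1
  exact ⟨x, hx⟩

theorem exists_other (hf : ∀ i : Fin b, Nat.card {x : Ω // f x = i} = a) (ha : 2 ≤ a) (x : Ω) :
    ∃ y, y ≠ x ∧ f y = f x := by
  have : Nontrivial {y : Ω // f y = f x} := by
    rw [← Finite.one_lt_card_iff_nontrivial, hf]; omega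
  obtain ⟨⟨y, hy⟩, hne⟩ := exists_ne (⟨x, rfl⟩ : {y : Ω // f y = f x})
  exact ⟨y, fun h => hne (Subtype.ext h), hy⟩

/-- Permuting the blocks. -/
theorem exists_lift (hf : ∀ i : Fin b, Nat.card {x : Ω // f x = i} = a) (σ : Perm (Fin b)) :
    ∃ g ∈ PartStab.H f, (∀ x, f (g x) = σ (f x)) ∧ ∀ x, σ (f x) = f x → g x = x := by
  obtain ⟨e, he⟩ := PartStab.exists_equiv f hf
  refine ⟨e.trans ((σ.prodCongr (Equiv.refl (Fin a))).trans e.symm), ?_, ?_, ?_⟩
  · intro x y
    simp only [← he]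
    simp
  · intro x
    rw [← he, ← he x]
    simp
  · intro x hx
    apply e.injective
    rw [← he] at hx
    simp only [Equiv.trans_apply, Equiv.apply_symm_apply]
    exact Prod.ext (by simpa using hx) (by simp)

/-- Two points of a block avoiding two given points. -/
theorem spare (hf : ∀ i : Fin b, Nat.card {x : Ω // f x = i} = a) (ha : 2 ≤ a) (hb : 2 ≤ b)
    (h6 : 3 ≤ a ∨ 3 ≤ b) (x y : Ω) :
    ∃ c d, f c = f d ∧ c ≠ d ∧ c ≠ x ∧ c ≠ y ∧ d ≠ x ∧ d ≠ y := by
  classical
  have block : ∀ i : Fin b, i ≠ f x → i ≠ f y →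
      ∃ c d, f c = f d ∧ c ≠ d ∧ c ≠ x ∧ c ≠ y ∧ d ≠ x ∧ d ≠ y := by
    intro i hix hiy
    obtain ⟨c, hc⟩ := exists_label hf (by omega) i
    obtain ⟨d, hdc, hd⟩ := exists_other hf ha c
    exact ⟨c, d, hd.symm, hdc.symm, fun h => hix (by rw [← hc, h]),
      fun h => hiy (by rw [← hc, h]), fun h => hix (by rw [← hc, ← hd, h]),
      fun h => hiy (by rw [← hc, ← hd, h])⟩
  by_cases hxy : f x = f y
  · have : Nontrivial (Fin b) := Fin.nontrivial_iff_two_le.mpr hb
    obtain ⟨i, hi⟩ := exists_ne (f x)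
    exact block i hi (by rwa [← hxy])
  rcases h6 with h6 | h6
  · have hc : ((Finset.univ.filter fun z => f z = f x).erase x).card = a - 1 := by
      rw [Finset.card_erase_of_mem (by simp), ← Fintype.card_subtype, ← Nat.card_eq_fintype_card, hf]
    obtain ⟨c, hc', d, hd', hcd⟩ := Finset.one_lt_card.mp
      (show 1 < ((Finset.univ.filter fun z => f z = f x).erase x).card by omega)
    simp only [Finset.mem_erase, Finset.mem_filter, Finset.mem_univ, true_and] at hc' hd'
    exact ⟨c, d, by rw [hc'.2, hd'.2], hcd, hc'.1, fun h => hxy (by rw [← hc'.2, h]), hd'.1,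
      fun h => hxy (by rw [← hd'.2, h])⟩
  · obtain ⟨i, hi⟩ : ∃ i : Fin b, i ∉ ({f x, f y} : Finset (Fin b)) := by
      by_contra h
      simp only [not_exists, not_not] at h
      have := Finset.card_le_card (fun i _ => h i : (Finset.univ : Finset (Fin b)) ⊆ {f x, f y})
      have h2 : ({f x, f y} : Finset (Fin b)).card ≤ 2 := Finset.card_le_two
      simp only [Finset.card_univ, Fintype.card_fin] at this
      omega
    simp only [Finset.mem_insert, Finset.mem_singleton, not_or] at hi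
    exact block i hi.1 hi.2

/-- Fixing the parity of an element of the stabiliser. -/
theorem exists_even (hf : ∀ i : Fin b, Nat.card {x : Ω // f x = i} = a) (ha : 2 ≤ a) (hb : 2 ≤ b)
    (h6 : 3 ≤ a ∨ 3 ≤ b) {g : Perm Ω} (hg : g ∈ PartStab.H f) (x y : Ω) :
    ∃ m ∈ M f, m x = g x ∧ m y = g y := by
  rcases Int.units_eq_one_or (sign g) with hs | hs
  · exact ⟨g, ⟨hg, hs⟩, rfl, rfl⟩
  obtain ⟨c, d, hcd, hne, hcx, hcy, hdx, hdy⟩ := spare hf ha hb h6 (g x) (g y)
  refine ⟨swap c d * g, ⟨mul_mem (PartStab.swap_mem f hcd) hg, ?_⟩, ?_, ?_⟩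
  · show sign (swap c d * g) = 1
    rw [map_mul, sign_swap hne, hs]; rfl
  · rw [Perm.mul_apply, swap_apply_of_ne_of_ne hcx.symm hdx.symm]
  · rw [Perm.mul_apply, swap_apply_of_ne_of_ne hcy.symm hdy.symm]

theorem M_transitive (hf : ∀ i : Fin b, Nat.card {x : Ω // f x = i} = a) (ha : 2 ≤ a) (hb : 2 ≤ b)
    (h6 : 3 ≤ a ∨ 3 ≤ b) (x y : Ω) : ∃ m ∈ M f, m x = y := by
  obtain ⟨g, hg, hgf, -⟩ := exists_lift hf (Equiv.swap (f x) (f y))
  have hgx : f (g x) = f y := by rw [hgf, Equiv.swap_apply_left]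
  have hg' : swap (g x) y * g ∈ PartStab.H f := mul_mem (PartStab.swap_mem f hgx) hg
  obtain ⟨m, hm, hmx, -⟩ := exists_even hf ha hb h6 hg' x x
  exact ⟨m, hm, by rw [hmx, Perm.mul_apply, swap_apply_left]⟩

theorem M_two_orbits (hf : ∀ i : Fin b, Nat.card {x : Ω // f x = i} = a) (ha : 2 ≤ a) (hb : 2 ≤ b)
    (h6 : 3 ≤ a ∨ 3 ≤ b) {x y y' : Ω} (hy : y ≠ x) (hy' : y' ≠ x)
    (hiff : f y = f x ↔ f y' = f x) : ∃ m ∈ M f, m x = x ∧ m y = y' := by
  obtain ⟨g, hg, hgx, hgy⟩ : ∃ g ∈ PartStab.H f, g x = x ∧ g y = y' := by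
    by_cases h : f y = f x
    · exact ⟨swap y y', PartStab.swap_mem f (by rw [h, hiff.mp h]),
        swap_apply_of_ne_of_ne hy.symm hy'.symm, swap_apply_left _ _⟩
    · obtain ⟨g, hg, hgf, hgfix⟩ := exists_lift hf (Equiv.swap (f y) (f y'))
      have hgx : g x = x := hgfix x
        (Equiv.swap_apply_of_ne_of_ne (Ne.symm h) fun h' => h (hiff.mpr h'.symm))
      have hgy : f (g y) = f y' := by rw [hgf, Equiv.swap_apply_left]
      refine ⟨swap (g y) y' * g, mul_mem (PartStab.swap_mem f hgy) hg, ?_, ?_⟩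
      · rw [Perm.mul_apply, hgx, swap_apply_of_ne_of_ne]
        · intro h'; exact hy (g.injective (by rw [← h', hgx]))
        · exact hy'.symm
      · rw [Perm.mul_apply, swap_apply_left]
  obtain ⟨m, hm, hmx, hmy⟩ := exists_even hf ha hb h6 hg x y
  exact ⟨m, hm, by rw [hmx, hgx], by rw [hmy, hgy]⟩

/-- A group of even permutations properly containing the stabiliser is primitive. -/
theorem isPreprimitive (hf : ∀ i : Fin b, Nat.card {x : Ω // f x = i} = a) (ha : 2 ≤ a) (hb : 2 ≤ b)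
    (h6 : 3 ≤ a ∨ 3 ≤ b) (K : Subgroup (Perm Ω)) (hMK : M f ≤ K) {g : Perm Ω} (hgK : g ∈ K)
    {u v : Ω} (huv : f u = f v) (hguv : f (g u) ≠ f (g v)) :
    IsPreprimitive K Ω := by
  have : IsPretransitive K Ω := ⟨fun x y => by
    obtain ⟨m, hm, h⟩ := M_transitive hf ha hb h6 x y
    exact ⟨⟨m, hMK hm⟩, h⟩⟩
  obtain ⟨x⟩ : Nonempty Ω := ⟨u⟩
  refine IsPreprimitive.of_isTrivialBlock_base x fun {B} hxB hB => ?_
  have key : ∀ m ∈ M f, ∀ z ∈ B, m x ∈ B → m z ∈ B := by
    intro m hm z hz hmx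
    have h1 : (⟨m, hMK hm⟩ : K) • B = B := by
      rcases hB.smul_eq_or_disjoint (⟨m, hMK hm⟩ : K) with h | h
      · exact h
      · exact absurd hmx (Set.disjoint_left.mp h ⟨x, hxB, rfl⟩)
    exact h1 ▸ ⟨z, hz, rfl⟩
  by_cases hout : ∃ y ∈ B, f y ≠ f x
  · obtain ⟨y, hyB, hy⟩ := hout
    have hyx : y ≠ x := fun h => hy (h ▸ rfl)
    have hall : ∀ y', f y' ≠ f x → y' ∈ B := by
      intro y' hy'
      obtain ⟨m, hm, hmx, hmy⟩ := M_two_orbits hf ha hb h6 hyx (fun h => hy' (h ▸ rfl))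
        (iff_of_false hy hy')
      exact hmy ▸ key m hm y hyB (by rw [hmx]; exact hxB)
    right
    ext z
    simp only [Set.mem_univ, iff_true]
    by_cases hz : f z = f x
    · obtain ⟨m, hm, hmx⟩ := M_transitive hf ha hb h6 x z
      have hmy : f (m y) ≠ f x := by
        rw [← hz, ← hmx]
        exact fun h => hy ((hm.1 y x).mpr h)
      have h1 : (⟨m, hMK hm⟩ : K) • B = B := by
        rcases hB.smul_eq_or_disjoint (⟨m, hMK hm⟩ : K) with h | h
        · exact h
        · exact absurd (hall _ hmy) (Set.disjoint_left.mp h ⟨y, hyB, rfl⟩)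
      exact h1 ▸ ⟨x, hxB, hmx⟩
    · exact hall z hz
  simp only [not_exists, not_and, not_not] at hout
  by_cases hsub : B.Subsingleton
  · exact Or.inl hsub
  exfalso
  obtain ⟨y, hyB, hyx⟩ : ∃ y ∈ B, y ≠ x := by
    by_contra h
    simp only [not_exists, not_and, not_not] at h
    exact hsub fun p hp q hq => (h p hp).trans (h q hq).symm
  have hBeq : ∀ z, z ∈ B ↔ f z = f x := by
    refine fun z => ⟨hout z, fun hz => ?_⟩
    rcases eq_or_ne z x with rfl | hzx
    · exact hxB
    obtain ⟨m, hm, hmx, hmy⟩ := M_two_orbits hf ha hb h6 hyx hzx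
      (iff_of_true (hout y hyB) hz)
    exact hmy ▸ key m hm y hyB (by rw [hmx]; exact hxB)
  -- every block of the partition is a translate of `B`
  have htr : ∀ w, ∃ k : K, ∀ z, z ∈ k • B ↔ f z = f w := by
    intro w
    obtain ⟨m, hm, hmx⟩ := M_transitive hf ha hb h6 x w
    refine ⟨⟨m, hMK hm⟩, fun z => ?_⟩
    rw [Set.mem_smul_set_iff_inv_smul_mem, hBeq]
    show f (m⁻¹ z) = f x ↔ _
    rw [hm.1 (m⁻¹ z) x, hmx, Perm.inv_def, Equiv.apply_symm_apply]
  obtain ⟨k, hk⟩ := htr u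
  obtain ⟨l, hl⟩ := htr (g u)
  have hu : g u ∈ ((⟨g, hgK⟩ : K) * k) • B := by
    rw [mul_smul]; exact ⟨u, (hk u).mpr rfl, rfl⟩
  have hv : g v ∈ ((⟨g, hgK⟩ : K) * k) • B := by
    rw [mul_smul]; exact ⟨v, (hk v).mpr huv.symm, rfl⟩
  rcases hB.smul_eq_smul_or_disjoint ((⟨g, hgK⟩ : K) * k) l with h | h
  · exact hguv ((hl _).mp (h ▸ hv)).symm
  · exact Set.disjoint_left.mp h hu ((hl _).mpr rfl)

/-- With blocks of size 2 and at least 5 blocks we find a 3-cycle. -/
theorem threeCycle_of_two (hf : ∀ i : Fin b, Nat.card {x : Ω // f x = i} = a) (ha : 2 ≤ a)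
    (hb : 5 ≤ b) (K : Subgroup (Perm Ω)) (hMK : M f ≤ K) {g : Perm Ω} (hgK : g ∈ K)
    {x y : Ω} (hxy : f x = f y) (hgxy : f (g x) ≠ f (g y)) :
    ∃ t ∈ K, IsThreeCycle t := by
  classical
  have hne : x ≠ y := fun h => hgxy (h ▸ rfl)
  set p := g x with hp
  set q := g y with hq
  obtain ⟨p', hp'p, hp'⟩ := exists_other hf ha p
  -- a second block whose image avoids p'
  obtain ⟨i, hi, hi'⟩ : ∃ i : Fin b, i ≠ f x ∧ i ≠ f (g⁻¹ p') := by
    by_contra h
    simp only [not_exists, not_and, not_not] at h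
    have hsub : (Finset.univ : Finset (Fin b)) ⊆ {f x, f (g⁻¹ p')} := fun i _ => by
      by_cases hix : i = f x
      · simp [hix]
      · simp [h i hix]
    have := Finset.card_le_card hsub
    have h2 : ({f x, f (g⁻¹ p')} : Finset (Fin b)).card ≤ 2 := Finset.card_le_two
    simp only [Finset.card_univ, Fintype.card_fin] at this
    omega
  obtain ⟨z, hz⟩ := exists_label hf (by omega) i
  obtain ⟨w, hwz, hw⟩ := exists_other hf ha z
  set u := g z with hu
  set v := g w with hv
  have zx : z ≠ x := fun h => hi (by rw [← hz, h])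
  have zy : z ≠ y := fun h => hi (by rw [← hz, h, hxy])
  have wx : w ≠ x := fun h => hi (by rw [← hz, ← hw, h])
  have wy : w ≠ y := fun h => hi (by rw [← hz, ← hw, h, hxy])
  have up' : u ≠ p' := fun h => hi' (by rw [← hz, ← h, hu, Perm.inv_def, Equiv.symm_apply_apply])
  have vp' : v ≠ p' := fun h => hi' (by
    rw [← hz, ← hw, ← h, hv, Perm.inv_def, Equiv.symm_apply_apply])
  have up : u ≠ p := fun h => zx (g.injective h)
  have uq : u ≠ q := fun h => zy (g.injective h)
  have vp : v ≠ p := fun h => wx (g.injective h)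
  have vq : v ≠ q := fun h => wy (g.injective h)
  have qp' : q ≠ p' := fun h => hgxy (by rw [← hp'.symm.trans (congrArg f h.symm)])
  -- a block disjoint from the others
  obtain ⟨j, hj⟩ : ∃ j : Fin b, j ∉ ({f p, f q, f u, f v} : Finset (Fin b)) := by
    by_contra h
    simp only [not_exists, not_not] at h
    have := Finset.card_le_card (fun i _ => h i : (Finset.univ : Finset (Fin b)) ⊆ _)
    have h2 : ({f p, f q, f u, f v} : Finset (Fin b)).card ≤ 4 := Finset.card_le_four
    simp only [Finset.card_univ, Fintype.card_fin] at this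
    omega
  simp only [Finset.mem_insert, Finset.mem_singleton, not_or] at hj
  obtain ⟨c, hc⟩ := exists_label hf (by omega) j
  obtain ⟨d, hdc, hd⟩ := exists_other hf ha c
  have far : ∀ r, f r = j → swap p q (swap u v r) = r := by
    intro r hr
    rw [swap_apply_of_ne_of_ne (a := u) (b := v), swap_apply_of_ne_of_ne]
    · exact fun h => hj.1 (by rw [← hr, h])
    · exact fun h => hj.2.1 (by rw [← hr, h])
    · exact fun h => hj.2.2.1 (by rw [← hr, h])
    · exact fun h => hj.2.2.2 (by rw [← hr, h])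
  have ht : swap p q * swap u v ∈ K := by
    have h1 : swap x y * swap z w ∈ M f :=
      ⟨mul_mem (PartStab.swap_mem f hxy) (PartStab.swap_mem f hw.symm),
        show sign _ = 1 by rw [map_mul, sign_swap hne, sign_swap hwz.symm]; rfl⟩
    have h2 : g * (swap x y * swap z w) * g⁻¹ ∈ K := mul_mem (mul_mem hgK (hMK h1)) (inv_mem hgK)
    rwa [show g * (swap x y * swap z w) * g⁻¹ =
      (g * swap x y * g⁻¹) * (g * swap z w * g⁻¹) by group,
      ← Equiv.swap_apply_apply, ← Equiv.swap_apply_apply] at h2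
  have hs : swap p p' * swap c d ∈ K := hMK
    ⟨mul_mem (PartStab.swap_mem f hp'.symm) (PartStab.swap_mem f hd.symm),
      show sign _ = 1 by rw [map_mul, sign_swap hp'p.symm, sign_swap hdc.symm]; rfl⟩
  set t := swap p q * swap u v with htdef
  have h3 : t * (swap p p' * swap c d) * t⁻¹ = swap q p' * swap c d := by
    rw [show t * (swap p p' * swap c d) * t⁻¹ = (t * swap p p' * t⁻¹) * (t * swap c d * t⁻¹) by group,
      ← Equiv.swap_apply_apply, ← Equiv.swap_apply_apply]
    have e1 : t p = q := by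
      rw [htdef, Perm.mul_apply, swap_apply_of_ne_of_ne up.symm vp.symm, swap_apply_left]
    have e2 : t p' = p' := by
      rw [htdef, Perm.mul_apply, swap_apply_of_ne_of_ne up'.symm vp'.symm,
        swap_apply_of_ne_of_ne hp'p qp'.symm]
    have e3 : t c = c := by rw [htdef, Perm.mul_apply]; exact far c hc
    have e4 : t d = d := by rw [htdef, Perm.mul_apply]; exact far d (hd.trans hc)
    rw [e1, e2, e3, e4]
  refine ⟨swap p' p * swap p' q, ?_, isThreeCycle_swap_mul_swap_same hp'p qp'.symm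
    (fun h => hgxy (by rw [h]))⟩
  have h4 : (swap p p' * swap c d) * (swap q p' * swap c d) ∈ K :=
    mul_mem hs (h3 ▸ mul_mem (mul_mem ht hs) (inv_mem ht))
  have cq : f c ≠ f q := by rw [hc]; exact hj.2.1
  have cp : f c ≠ f p := by rw [hc]; exact hj.1
  have hcd : swap c d * swap q p' * (swap c d)⁻¹ = swap q p' := by
    rw [← Equiv.swap_apply_apply, swap_apply_of_ne_of_ne, swap_apply_of_ne_of_ne]
    · exact fun h => cp (by rw [← h, hp'])
    · exact fun h => cp (by rw [← hp', h, hd])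
    · exact fun h => cq (by rw [h])
    · exact fun h => cq (by rw [h, hd])
  rw [mul_assoc, ← mul_assoc (swap c d)] at h4
  rw [swap_inv] at hcd
  rw [hcd] at h4
  rwa [Equiv.swap_comm p' p, Equiv.swap_comm p' q]

end Cfsg.Agent.Classical.PartAlt
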