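/-
Element orders in a classical group modulo its centre.
-/
import Cfsg.Agent.Lib.Classical.IsometryOrderBound

set_option autoImplicit false
set_option linter.style.haveILetI false

namespace Cfsg.Agent.Classical.OrderBound

/-- The order bound for a faithful group of isometries modulo its centre. -/
theorem quotient_bound {F : Type*} [Field F] [Fintype F] {V : Type*} [AddCommGroup V] [Module F V]
    [FiniteDimensional F V] {G : Type*} [Group G] (ρ : G →* Module.End F V) (hρ : Function.Injective ρ)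
    (B : V →ₗ[F] V →ₗ[F] F) (hB : ∀ w, (∀ u, B u w = 0) → w = 0)
    (hpres : ∀ x u v, B (ρ x u) (ρ x v) = B u v) {m : ℕ}
    (hdim : Module.finrank F V ≤ 2 * m ∨ (3 ≤ m ∧ (2 : F) ≠ 0 ∧ Module.finrank F V ≤ 2 * m + 1))
    (g : G ⧸ Subgroup.center G) :
    (Fintype.card F - 1) * orderOf g ≤ Fintype.card F ^ (m + 1) := by
  obtain ⟨x, rfl⟩ := QuotientGroup.mk_surjective g
  haveI : Fact (ringChar F).Prime := ⟨CharP.char_is_prime F (ringChar F)⟩
  obtain ⟨N, hN, hle, hpow⟩ := order_bound (p := ringChar F) B hB (ρ x) (hpres x) hdim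
  refine le_trans (Nat.mul_le_mul_left _ (Nat.le_of_dvd hN ?_)) hle
  rw [orderOf_dvd_iff_pow_eq_one, ← QuotientGroup.mk_pow, QuotientGroup.eq_one_iff, Subgroup.mem_center_iff]
  intro y
  refine hρ ?_
  rw [map_mul, map_mul, map_pow]
  rcases hpow with h | h <;> rw [h] <;> simp

end Cfsg.Agent.Classical.OrderBound
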