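/-
The stabiliser of a non-singular point is maximal, in characteristic two.
-/
import Cfsg.Agent.Lib.Classical.RadicalQuadSplit

set_option autoImplicit false
set_option linter.unusedSectionVars false

namespace Cfsg.Agent.Classical.Radical

open Matrix Module QuadraticMap Cfsg.Geo OCount
open Cfsg.Agent.Classical

variable {ι : Type} [Fintype ι] [DecidableEq ι] {F : Type*} [Field F] [Fintype F] {Q : QuadraticForm F (ι → F)}

/-- The stabiliser of a non-singular point is maximal. -/
theorem isMaximal_point (hQ : PND Q) (hn : 8 ≤ Fintype.card ι) (h2 : (2 : F) = 0) {v : ι → F} (hv : Q v ≠ 0) :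
    IsMaximalIn (omegaGL ⇑Q) (subspaceStabilizer (Submodule.span F {v}) ⊓ omegaGL ⇑Q) := by
  classical
  haveI : Nonempty ι := Fintype.card_pos_iff.mp (by omega)
  have Δ := quad_data hQ (by omega)
  have hf := reflex_polar hQ
  have hv0 : v ≠ 0 := fun e => hv (by rw [e, QuadraticMap.map_zero])
  have hvv : polar Q v v = 0 := by rw [polar_self, two_smul, ← two_mul, h2, zero_mul]
  have exE : ∀ z y, Q z = 0 → polar Q z y = 0 → ∃ h, EQ Q z y h ∧ h ∈ omegaGL ⇑Q := fun z y hz hzy => by
    obtain ⟨g, hg, hgx⟩ := ONotMax.exists_siegel hQ (by omega) hz hzy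
    exact ⟨g, hgx, hg⟩
  have fixv : ∀ z y h, polar Q z v = 0 → polar Q y v = 0 → EQ Q z y h → (h : Matrix ι ι F) *ᵥ v = v :=
    fun z y h hz hy hx => by rw [hx, hz, hy]; simp
  have hstab : ∀ {m : GL ι F}, (m : Matrix ι ι F) *ᵥ v = v → m ∈ subspaceStabilizer (Submodule.span F {v}) :=
    fun {m} h => mem_subspaceStabilizer_iff.mpr fun x hx => by
      obtain ⟨r, rfl⟩ := Submodule.mem_span_singleton.mp hx
      rw [Matrix.mulVec_smul, h]
      exact hx
  have hS3 : ∀ a b c : ι → F, finrank F (Submodule.span F {a, b, c}) ≤ 3 := fun a b c => by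
    have h := finrank_span_finset_le_card (R := F) ({a, b, c} : Finset (ι → F))
    rw [Finset.coe_insert, Finset.coe_insert, Finset.coe_singleton] at h
    exact h.trans Finset.card_le_three
  have side : ∀ a b c : ι → F, finrank F (Submodule.span F {a, b, c}) +
      finrank F (Submodule.span F {a, b, c} ⊓ hf.perp (Submodule.span F {a, b, c}) : Submodule F (ι → F)) + 3
        ≤ Fintype.card ι →
      ∃ u, Q u = 0 ∧ polar Q a u = 0 ∧ polar Q b u = 0 ∧ polar Q c u = 0 ∧ u ∉ Submodule.span F {a, b, c} := by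
    intro a b c hbound
    obtain ⟨Y, hYX, hYS, hYd⟩ := exists_avoid (hf.perp (Submodule.span F {a, b, c}))
      (Submodule.span F {a, b, c} ⊓ hf.perp (Submodule.span F {a, b, c}))
    have h2 := hf.finrank_perp (Submodule.span F {a, b, c})
    obtain ⟨u, hu, hu0, huu⟩ := Cfsg.Agent.Small.QuadBasis.exists_singular Q (W := Y) (by omega)
    exact ⟨u, huu, by rw [polar_comm]; exact hYX hu a (Submodule.subset_span (by simp)),
      by rw [polar_comm]; exact hYX hu b (Submodule.subset_span (by simp)),
      by rw [polar_comm]; exact hYX hu c (Submodule.subset_span (by simp)),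
      fun h => hu0 (show u ∈ (⊥ : Submodule F (ι → F)) from hYS ▸ ⟨hu, ⟨h, hYX hu⟩⟩)⟩
  have sep : ∀ u (S : Submodule F (ι → F)), u ∉ S → ∃ b, (∀ d ∈ S, polar Q d b = 0) ∧ polar Q u b ≠ 0 := by
    intro u S hu
    obtain ⟨x, hx, hne⟩ : ∃ x ∈ hf.perp S, polar Q u x ≠ 0 := by
      by_contra hcon
      push Not at hcon
      exact hu (hf.perp_perp S ▸ (show u ∈ hf.perp (hf.perp S) from hcon))
    exact ⟨x, fun d hd => by rw [polar_comm]; exact hx d hd, hne⟩
  have step : ∀ z u, Q z = 0 → Q u = 0 → polar Q v z = 0 → polar Q v u = 0 → polar Q z u = 0 →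
      z ∉ Submodule.span F {v, u - z} → ∃ m ∈ omegaGL ⇑Q, (m : Matrix ι ι F) *ᵥ v = v ∧ (m : Matrix ι ι F) *ᵥ z = u := by
    intro z u hz hu hvz hvu hzu hind
    obtain ⟨b, hb, hzb⟩ := sep z _ hind
    have hvb := hb v (Submodule.subset_span (by simp))
    obtain ⟨c, hcd⟩ : ∃ c, c = b + (-Q b / polar Q z b) • z := ⟨_, rfl⟩
    have hc : Q c = 0 := hcd ▸ quad_correct hz hzb
    have hvc : polar Q v c = 0 := by rw [hcd, polar_add_right, polar_smul_right, hvb, hvz]; simp
    have hzc : polar Q z c ≠ 0 := by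
      rw [hcd, polar_add_right, polar_smul_right, polar_self, hz, smul_zero, smul_zero, add_zero]; exact hzb
    have hcd' : polar Q c (u - z) = 0 := by
      have h1 := hb (u - z) (Submodule.subset_span (by simp))
      rw [hcd, polar_add_left, polar_smul_left, polar_sub_right Q z u z, hzu, polar_self, hz, smul_zero, sub_zero,
        smul_zero, add_zero, polar_comm]
      exact h1
    obtain ⟨h, hh, hhG⟩ := exE c ((polar Q z c)⁻¹ • (u - z)) hc (by rw [polar_smul_right, hcd', smul_zero])
    refine ⟨h, hhG, fixv _ _ h (by rw [polar_comm]; exact hvc) (by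
      rw [polar_smul_left, polar_comm Q (u - z) v, polar_sub_right, hvu, hvz, sub_self, smul_zero]) hh, ?_⟩
    rw [hh, polar_smul_left, polar_comm Q c z, QuadraticMap.map_smul, polar_comm Q (u - z) z, polar_sub_right, hzu,
      polar_self, hz, sub_eq_add_neg u z, QuadraticMap.map_add ⇑Q, QuadraticMap.map_neg, hu, hz, polar_neg_right,
      polar_comm Q u z, hzu, smul_smul, mul_inv_cancel₀ hzc]
    simp
  have link : ∀ z z', Q z = 0 → Q z' = 0 → z ≠ 0 → z' ≠ 0 → polar Q v z = 0 → polar Q v z' = 0 →
      ∃ m ∈ omegaGL ⇑Q, (m : Matrix ι ι F) *ᵥ v = v ∧ (m : Matrix ι ι F) *ᵥ z = z' := by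
    intro z z' hz hz' hz0 hz'0 hvz hvz'
    have hsing : ∀ x, Q x = 0 → x ≠ 0 → x ∉ Submodule.span F {v} := fun x hx hx0 h => by
      obtain ⟨r, rfl⟩ := Submodule.mem_span_singleton.mp h
      rw [QuadraticMap.map_smul, smul_eq_mul, mul_eq_zero] at hx
      rcases hx with hr | hx
      · exact hx0 (by rw [mul_self_eq_zero.mp hr, zero_smul])
      · exact hv hx
    by_cases hdir : polar Q z z' = 0 ∧ z ∉ Submodule.span F {v, z' - z}
    · exact step z z' hz hz' hvz hvz' hdir.1 hdir.2
    have hbound : finrank F (Submodule.span F {v, z, z'}) +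
        finrank F (Submodule.span F {v, z, z'} ⊓ hf.perp (Submodule.span F {v, z, z'}) : Submodule F (ι → F)) + 3
          ≤ Fintype.card ι := by
      by_cases hzz : polar Q z z' = 0
      · have hle : Submodule.span F {v, z, z'} ≤ Submodule.span F {v, z' - z} := by
          have hzm : z ∈ Submodule.span F {v, z' - z} := by
            by_contra h
            exact hdir ⟨hzz, h⟩
          refine Submodule.span_le.mpr ?_
          rintro x (rfl | rfl | rfl)
          · exact Submodule.subset_span (by simp)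
          · exact hzm
          · simpa using add_mem hzm (Submodule.subset_span (by simp) : x - z ∈ Submodule.span F {v, x - z})
        have h1 := (Submodule.finrank_mono hle).trans (finrank_span_pair_le (F := F) v (z' - z))
        have h2 := Submodule.finrank_mono (R := F) (inf_le_left : Submodule.span F {v, z, z'} ⊓
          hf.perp (Submodule.span F {v, z, z'}) ≤ Submodule.span F {v, z, z'})
        omega
      · have h2 : finrank F (Submodule.span F {v, z, z'} ⊓ hf.perp (Submodule.span F {v, z, z'}) :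
            Submodule F (ι → F)) ≤ 1 := by
          refine (Submodule.finrank_mono (t := Submodule.span F {v}) ?_).trans (finrank_span_singleton hv0).le
          rintro x ⟨hx, hxp⟩
          obtain ⟨r, y, hy, rfl⟩ := Submodule.mem_span_insert.mp hx
          obtain ⟨k, k', rfl⟩ := Submodule.mem_span_pair.mp hy
          have e1 := hxp z (Submodule.subset_span (by simp))
          have e2 := hxp z' (Submodule.subset_span (by simp))
          simp only [polar_add_left, polar_smul_left, hvz, hvz', polar_self, hz, hz', polar_comm Q z' z, smul_eq_mul,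
            smul_zero, mul_zero, zero_add, add_zero, mul_eq_zero] at e1 e2
          rw [e1.resolve_right hzz, e2.resolve_right hzz, zero_smul, zero_smul, add_zero, add_zero]
          exact Submodule.smul_mem _ _ (Submodule.mem_span_singleton_self v)
        have := hS3 v z z'
        omega
    obtain ⟨u, hu, hvu, hzu, hz'u, hind⟩ := side v z z' hbound
    obtain ⟨m, hm, hmv, hmz⟩ := step z u hz hu hvz hvu hzu fun h => by
      obtain ⟨r, r', e⟩ := Submodule.mem_span_pair.mp h
      by_cases hr' : r' = 0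
      · exact hsing z hz hz0 (Submodule.mem_span_singleton.mpr ⟨r, by rw [← e, hr', zero_smul, add_zero]⟩)
      · refine hind ?_
        rw [show u = r'⁻¹ • (z - r • v) + z by
          rw [show z - r • v = r' • (u - z) from sub_eq_of_eq_add' e.symm, smul_smul, inv_mul_cancel₀ hr', one_smul,
            sub_add_cancel]]
        exact add_mem (Submodule.smul_mem _ _ (sub_mem (Submodule.subset_span (by simp))
          (Submodule.smul_mem _ _ (Submodule.subset_span (by simp))))) (Submodule.subset_span (by simp))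
    obtain ⟨m', hm', hm'v, hm'u⟩ := step u z' hu hz' hvu hvz' (by rw [polar_comm]; exact hz'u) fun h => by
      obtain ⟨r, r', e⟩ := Submodule.mem_span_pair.mp h
      by_cases h1 : (1 : F) + r' = 0
      · rw [show r' = -1 by linear_combination h1, neg_one_smul, neg_sub] at e
        exact hsing z' hz' hz'0 (Submodule.mem_span_singleton.mpr ⟨r, by linear_combination (norm := module) e⟩)
      · refine hind ?_
        rw [show u = (1 + r')⁻¹ • (r • v + r' • z') by
          rw [show r • v + r' • z' = (1 + r') • u by linear_combination (norm := module) e, smul_smul,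
            inv_mul_cancel₀ h1, one_smul]]
        exact Submodule.smul_mem _ _ (add_mem (Submodule.smul_mem _ _ (Submodule.subset_span (by simp)))
          (Submodule.smul_mem _ _ (Submodule.subset_span (by simp))))
    exact ⟨m' * m, mul_mem hm' hm, by rw [gl_mul_mulVec, hmv, hm'v], by rw [gl_mul_mulVec, hmz, hm'u]⟩
  refine ⟨lt_of_le_of_ne inf_le_right fun e => ?_, fun K hK hKG => or_iff_not_imp_left.mpr fun hne => le_antisymm hKG ?_⟩
  · rcases OEven.eq_bot_or_top_of_fixCodim hQ (by omega) (W := Submodule.span F {v})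
      (fun g hg _ x hx => mem_subspaceStabilizer_iff.mp (inf_eq_right.mp e hg) x hx) with h | h
    · exact hv0 (Submodule.span_singleton_eq_bot.mp h)
    · have h1 := finrank_span_singleton (K := F) hv0
      rw [h, finrank_top, Module.finrank_fintype_fun_eq_card] at h1
      omega
  obtain ⟨g, hg, hgn⟩ : ∃ g ∈ K, g ∉ subspaceStabilizer (Submodule.span F {v}) := by
    by_contra hcon
    push Not at hcon
    exact hne (le_antisymm (le_inf hcon hKG) hK)
  have hMK : ∀ {m : GL ι F}, (m : Matrix ι ι F) *ᵥ v = v → m ∈ omegaGL ⇑Q → m ∈ K := fun h h' => hK ⟨hstab h, h'⟩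
  -- one element with vertex orthogonal to `v` and a parameter that is not
  obtain ⟨u, hu⟩ : ∃ u, u = (g : Matrix ι ι F) *ᵥ v := ⟨_, rfl⟩
  have hgv : u ∉ Submodule.span F {v} := fun h => hgn (mem_subspaceStabilizer_iff.mpr fun x hx => by
    obtain ⟨r, rfl⟩ := Submodule.mem_span_singleton.mp hx
    rw [Matrix.mulVec_smul, ← hu]
    exact Submodule.smul_mem _ _ h)
  obtain ⟨z, hz, hvz, huz, -, hind⟩ := side v u v (by
    have h1 : finrank F (Submodule.span F {v, u, v}) ≤ 2 := by
      rw [show ({v, u, v} : Set (ι → F)) = {v, u} by ext; simp; tauto]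
      exact finrank_span_pair_le (F := F) v u
    have h2 := Submodule.finrank_mono (R := F) (inf_le_left : Submodule.span F {v, u, v} ⊓
      hf.perp (Submodule.span F {v, u, v}) ≤ Submodule.span F {v, u, v})
    omega)
  have hz0 : z ≠ 0 := fun e => hind (by rw [e]; exact zero_mem _)
  obtain ⟨y₀, hy₀, hvy₀⟩ := sep v (Submodule.span F {u, z}) fun h => by
    obtain ⟨r, r', e⟩ := Submodule.mem_span_pair.mp h
    by_cases hr' : r' = 0
    · have hr : r ≠ 0 := fun hr => hv0 (by rw [← e, hr, hr', zero_smul, zero_smul, add_zero])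
      rw [hr', zero_smul, add_zero] at e
      exact hgv (Submodule.mem_span_singleton.mpr ⟨r⁻¹, by rw [← e, smul_smul, inv_mul_cancel₀ hr, one_smul]⟩)
    · refine hind ?_
      rw [show z = r'⁻¹ • (v - r • u) by
        rw [show v - r • u = r' • z from sub_eq_of_eq_add' e.symm, smul_smul, inv_mul_cancel₀ hr', one_smul]]
      exact Submodule.smul_mem _ _ (sub_mem (Submodule.subset_span (by simp))
        (Submodule.smul_mem _ _ (Submodule.subset_span (by simp))))
  have hzy₀ : polar Q z y₀ = 0 := hy₀ z (Submodule.subset_span (by simp))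
  have huy₀ : polar Q u y₀ = 0 := hy₀ u (Submodule.subset_span (by simp))
  obtain ⟨h₀, hh₀, hh₀G⟩ := exE z y₀ hz hzy₀
  have hh₀K : h₀ ∈ K := by
    have h1 : (h₀ : Matrix ι ι F) *ᵥ u = u :=
      fixv' hh₀ (by rw [polar_comm]; exact huz) (by rw [polar_comm]; exact huy₀)
    have h2 : g⁻¹ * h₀ * g ∈ K := hMK (by rw [gl_mul_mulVec, gl_mul_mulVec, ← hu, h1, hu, gl_inv_mulVec_cancel])
      (mul_mem (mul_mem (inv_mem (hKG hg)) hh₀G) (hKG hg))
    have := mul_mem (mul_mem hg h2) (inv_mem hg)
    rwa [show g * (g⁻¹ * h₀ * g) * g⁻¹ = h₀ by group] at this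
  -- the whole radical
  have hP : ∀ y, polar Q z y = 0 → ∀ h, EQ Q z y h → h ∈ K := by
    have hcomp : ∀ y y' h h', polar Q z y = 0 → polar Q z y' = 0 → EQ Q z y h → EQ Q z y' h' →
        EQ Q z (y + y') (h * h') := fun y y' h h' hzy hzy' hx hx' x => by
      rw [gl_mul_mulVec, hx', hx, QuadraticMap.map_add ⇑Q y y']
      simp only [sub_eq_add_neg, ← neg_smul, polar_add_left, polar_add_right, polar_smul_right, polar_self, hz,
        hzy', polar_comm Q y z, hzy, smul_eq_mul, smul_zero, mul_zero, add_zero]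
      module
    intro y hzy h hh
    obtain ⟨t, ht⟩ : ∃ t, t = polar Q v y / polar Q v y₀ := ⟨_, rfl⟩
    by_cases ht0 : t = 0
    · refine hMK (fixv z y h (by rw [polar_comm]; exact hvz) ?_ hh) (Δ.mem z h hz ⟨y, hzy, hh⟩)
      rw [polar_comm]
      exact (div_eq_zero_iff.mp (ht ▸ ht0)).resolve_right hvy₀
    -- the multiple `t • y₀`
    obtain ⟨m, hm, hmv, hmz⟩ := link z (t • z) hz (by rw [QuadraticMap.map_smul, hz, smul_zero]) hz0
      (smul_ne_zero ht0 hz0) hvz (by rw [polar_smul_right, hvz, smul_zero])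
    obtain ⟨y₁, hy₁⟩ : ∃ y₁, y₁ = (m : Matrix ι ι F) *ᵥ y₀ := ⟨_, rfl⟩
    obtain ⟨k, hk⟩ : ∃ k, k = m * h₀ * m⁻¹ := ⟨_, rfl⟩
    have hkK : k ∈ K := hk ▸ mul_mem (mul_mem (hMK hmv hm) hh₀K) (inv_mem (hMK hmv hm))
    have hkE : EQ Q z (t • y₁) k := fun x => by
      obtain ⟨w, rfl⟩ : ∃ w, x = (m : Matrix ι ι F) *ᵥ w := ⟨_, (gl_mulVec_inv_cancel m x).symm⟩
      have hzm : polar Q z ((m : Matrix ι ι F) *ᵥ w) = t⁻¹ * polar Q z w := by
        rw [show z = t⁻¹ • (m : Matrix ι ι F) *ᵥ z by rw [hmz, smul_smul, inv_mul_cancel₀ ht0, one_smul],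
          polar_smul_left, omega_polar hm, smul_eq_mul]
        congr 1
        rw [hmz, smul_smul, inv_mul_cancel₀ ht0, one_smul]
      rw [hk, gl_mul_mulVec, gl_mul_mulVec, gl_inv_mulVec_cancel, hh₀, hzm, hy₁, polar_smul_left,
        omega_polar hm, QuadraticMap.map_smul, ONotMax.omega_isometry hm, Matrix.mulVec_sub, Matrix.mulVec_add,
        Matrix.mulVec_smul, Matrix.mulVec_smul, hmz]
      simp only [smul_eq_mul]
      match_scalars <;> field_simp <;> ring
    have hzy₁ : polar Q z (t • y₁) = 0 := by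
      rw [hy₁, show z = t⁻¹ • (m : Matrix ι ι F) *ᵥ z by rw [hmz, smul_smul, inv_mul_cancel₀ ht0, one_smul],
        polar_smul_left, polar_smul_right, omega_polar hm, hzy₀]
      simp
    have hv1 : polar Q v y₁ = polar Q v y₀ := by
      conv_lhs => rw [hy₁, ← hmv]
      rw [omega_polar hm]
    have hd : polar Q z (y - t • y₁) = 0 := by rw [polar_sub_right, hzy, hzy₁, sub_zero]
    have hnd : polar Q z (-(y - t • y₁)) = 0 := by rw [polar_neg_right, hd, neg_zero]
    obtain ⟨k', hk', hk'G⟩ := exE z _ hz hnd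
    have h3 := hcomp _ _ h k' hzy hnd hh hk'
    rw [show y + -(y - t • y₁) = t • y₁ by abel] at h3
    have e : h * k' = k := gl_ext_mulVec fun x => by rw [h3, hkE]
    have hk'K : k' ∈ K := hMK (fixv z _ k' (by rw [polar_comm]; exact hvz) (by
      rw [polar_comm, polar_neg_right, polar_sub_right, polar_smul_right, hv1, ht, smul_eq_mul,
        div_mul_cancel₀ _ hvy₀, sub_self, neg_zero]) hk') hk'G
    rw [eq_mul_inv_of_mul_eq e]
    exact mul_mem hkK (inv_mem hk'K)
  have hPz : Has (fun x => Q x = 0) (UQ Q) K z := ⟨hz, fun h ⟨y, hy, hh⟩ => hP y hy h hh⟩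
  -- a second vertex
  obtain ⟨b, hb, hzb⟩ := sep z (Submodule.span F {v}) fun h => hind (Submodule.span_mono (by simp) h)
  have hvb := hb v (Submodule.mem_span_singleton_self v)
  obtain ⟨z', hz'd⟩ : ∃ z', z' = b + (-Q b / polar Q z b) • z := ⟨_, rfl⟩
  have hzz' : polar Q z z' ≠ 0 := by
    rw [hz'd, polar_add_right, polar_smul_right, polar_self, hz, smul_zero, smul_zero, add_zero]; exact hzb
  obtain ⟨m, hm, hmv, hmz⟩ := link z z' hz (hz'd ▸ quad_correct hz hzb) hz0
    (fun e => hzz' (by rw [e, polar_zero_right])) hvz (by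
      rw [hz'd, polar_add_right, polar_smul_right, hvb, hvz]; simp)
  have hPz' := has_map Δ hKG m (hMK hmv hm) z hPz
  rw [hmz] at hPz'
  exact le_of_pair Δ hKG hPz hPz' hzz'
where
  fixv' {Q : QuadraticForm F (ι → F)} {z y u : ι → F} {h : GL ι F} (hh : EQ Q z y h) (h1 : polar Q z u = 0)
      (h2 : polar Q y u = 0) : (h : Matrix ι ι F) *ᵥ u = u := by
    rw [hh, h1, h2]; simp

end Cfsg.Agent.Classical.Radical
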