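/-
Stabilisers of non-degenerate four-dimensional subspaces in eight-dimensional orthogonal groups of minus type.
-/
import Cfsg.Agent.Lib.Classical.RadicalQuadThree
import Cfsg.Agent.Lib.Classical.RadicalQuadCases
import Cfsg.Agent.Lib.Classical.OrthEvenSplit

set_option autoImplicit false
set_option linter.unusedSectionVars false

namespace Cfsg.Agent.Classical.Radical

open Matrix Module QuadraticMap Cfsg.Geo OCount
open Cfsg.Agent.Classical

variable {ι : Type} [Fintype ι] [DecidableEq ι] {F : Type*} [Field F] [Fintype F] {Q : QuadraticForm F (ι → F)}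

/-- A plane without singular vectors is non-degenerate. -/
theorem nondeg_of_aniso {X : Submodule F (ι → F)} (hX2 : finrank F X = 2)
    (hX : ∀ x ∈ X, x ≠ 0 → Q x ≠ 0) : IsNondegenerateOn (polar ⇑Q) X := by
  have key : ∀ r ∈ X, r ≠ 0 → ∃ x ∈ X, polar Q r x ≠ 0 := by
    intro r hr hr0
    by_contra hcon
    push Not at hcon
    have h2 : (2 : F) = 0 := by
      have := hcon r hr
      rw [polar_self, two_smul, ← two_mul, mul_eq_zero] at this
      exact this.resolve_right (hX r hr hr0)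
    obtain ⟨x, hx, hxr⟩ : ∃ x ∈ X, x ∉ Submodule.span F {r} := by
      by_contra hc
      push Not at hc
      have h3 := Submodule.finrank_mono (show X ≤ Submodule.span F {r} from hc)
      rw [finrank_span_singleton hr0, hX2] at h3
      omega
    obtain ⟨t, ht⟩ := Cfsg.Agent.Small.QuadBasis.exists_sq h2 (Q x * (Q r)⁻¹)
    refine hX (x + t • r) (X.add_mem hx (X.smul_mem _ hr))
      (fun e => hxr (Submodule.mem_span_singleton.mpr ⟨-t, by rw [neg_smul]; exact (eq_neg_of_add_eq_zero_left e).symm⟩)) ?_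
    rw [QuadraticMap.map_add ⇑Q, QuadraticMap.map_smul, ht, polar_smul_right, polar_comm Q x r, hcon x hx,
      smul_zero, add_zero, smul_eq_mul, inv_mul_cancel_right₀ (hX r hr hr0), ← two_mul, h2, zero_mul]
  intro r hr hr0
  obtain ⟨x, hx, hne⟩ := key r hr hr0
  exact ⟨⟨x, hx, by rwa [polar_comm]⟩, x, hx, hne⟩

/-- Orthogonal subspaces of the same even dimension, both without totally singular half, give a plus type sum. -/
theorem plus_of_minus_pair (hQn : IsNondegenerateQuadraticForm ⇑Q) {A B X : Submodule F (ι → F)}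
    (hA : IsNondegenerateOn (polar ⇑Q) A) (hB : IsNondegenerateOn (polar ⇑Q) B) {j : ℕ} (hj : 1 ≤ j)
    (hAd : finrank F A = 2 * j) (hBd : finrank F B = 2 * j) (hAm : ¬ IsPlusTypeOn ⇑Q A) (hBm : ¬ IsPlusTypeOn ⇑Q B)
    (orth : ∀ a ∈ A, ∀ b ∈ B, polar Q a b = 0) (hAX : A ≤ X) (hBX : B ≤ X)
    (hXd : finrank F X = 4 * j) : IsPlusTypeOn ⇑Q X := by
  obtain ⟨e, he⟩ := OEven.isometric_of_type hQn hA hB hj hAd hBd (iff_of_false hAm hBm)
  obtain ⟨U, hU, hUs, hUd⟩ := exists_diagonal hA ⟨j, by omega⟩ orth (B.subtype.comp e.toLinearMap)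
    (fun x => (e x).2) (fun x => he x)
  exact ⟨U, hU.trans (sup_le hAX hBX), hUs, by omega⟩

/-- A totally singular plane meets the orthogonal space of a vector outside the line of that vector. -/
theorem side_four (hQ : PND Q) {T₀ : Submodule F (ι → F)} (hT₀ : IsTotallySingularQuad ⇑Q T₀)
    (hT₀d : finrank F T₀ = 2) (v : ι → F) : ∃ u ∈ T₀, polar Q v u = 0 ∧ u ∉ Submodule.span F {v} := by
  have hf := reflex_polar hQ
  have h1 := finrank_span_le_card (R := F) ({v} : Set (ι → F))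
  simp at h1
  by_cases hvT : v ∈ T₀
  · obtain ⟨u, hu, hne⟩ : ∃ u ∈ T₀, u ∉ Submodule.span F {v} := by
      by_contra hcon
      push Not at hcon
      have := Submodule.finrank_mono (show T₀ ≤ Submodule.span F {v} from hcon)
      omega
    exact ⟨u, hu, by rw [polar, hT₀ _ (T₀.add_mem hvT hu), hT₀ _ hvT, hT₀ _ hu, sub_zero, sub_zero], hne⟩
  have h2 := Submodule.finrank_sup_add_finrank_inf_eq T₀ (hf.perp (Submodule.span F {v}))
  have h3 := hf.finrank_perp (Submodule.span F {v})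
  have h4 := Submodule.finrank_le (T₀ ⊔ hf.perp (Submodule.span F {v}))
  rw [Module.finrank_fintype_fun_eq_card] at h4
  obtain ⟨u, hu, hu0⟩ := Submodule.exists_mem_ne_zero_of_ne_bot (p := T₀ ⊓ hf.perp (Submodule.span F {v}))
    fun e => by rw [e, finrank_bot] at h2; omega
  refine ⟨u, hu.1, by rw [polar_comm]; exact hu.2 v (Submodule.mem_span_singleton_self v), fun hh => ?_⟩
  obtain ⟨r, rfl⟩ := Submodule.mem_span_singleton.mp hh
  exact hvT ((T₀.smul_mem_iff fun e => hu0 (by rw [e, zero_smul])).mp hu.1)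

/-- Separation inside one part of an orthogonal splitting. -/
theorem sep_part (hQ : PND Q) {W W' : Submodule F (ι → F)} (dec : ∀ x, ∃ a ∈ W, ∃ b ∈ W', x = a + b)
    (orth : ∀ a ∈ W, ∀ b ∈ W', polar Q a b = 0) {u : ι → F} (hu : u ∈ W') {S : Submodule F (ι → F)}
    (hS : S ≤ W') (hud : u ∉ S) : ∃ y ∈ W', (∀ d ∈ S, polar Q d y = 0) ∧ polar Q u y ≠ 0 := by
  have hf := reflex_polar hQ
  obtain ⟨x, hx, hne⟩ : ∃ x ∈ hf.perp S, polar Q u x ≠ 0 := by
    by_contra hcon
    push Not at hcon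
    exact hud (hf.perp_perp S ▸ (show u ∈ hf.perp (hf.perp S) from hcon))
  obtain ⟨a, ha, y, hy, rfl⟩ := dec x
  refine ⟨y, hy, fun d hd => ?_, ?_⟩
  · have := hx d hd
    rw [polar_add_left, orth a ha d (hS hd), zero_add, polar_comm] at this
    exact this
  · rwa [polar_add_right, polar_comm Q u a, orth a ha u hu, zero_add] at hne

/-- The seed when the second components span a plane whose orthogonal plane has no singular vector. -/
theorem seed_four (hQ : PND Q) (hQn : IsNondegenerateQuadraticForm ⇑Q) (hn : Fintype.card ι = 8)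
    {W W' T₀ : Submodule F (ι → F)} (hW : IsNondegenerateOn (polar ⇑Q) W) (hW4 : finrank F W = 4)
    (hminus : ¬ IsPlusTypeOn ⇑Q W) (hW' : W' = (reflex_polar hQ).perp W) (hT₀W : T₀ ≤ W')
    (hT₀ : IsTotallySingularQuad ⇑Q T₀) (hT₀d : finrank F T₀ = 2)
    (dec : ∀ x, ∃ a ∈ W, ∃ b ∈ W', x = a + b) {K : Subgroup (GL ι F)}
    (hK : subspaceStabilizer W ⊓ omegaGL ⇑Q ≤ K) {g T : GL ι F} (hg : g ∈ omegaGL ⇑Q) (hTK : T ∈ K)
    {a a₂ b b₂ : ι → F} (hTx : EQ Q (a + b) (a₂ + b₂) T) (hQab : Q (a + b) = 0) (hQ₂ : Q (a₂ + b₂) = 0)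
    (hpo : polar Q (a + b) (a₂ + b₂) = 0)
    (ha : a ∈ W) (hb : b ∈ W') (ha₂ : a₂ ∈ W) (hb₂ : b₂ ∈ W') (ha₂a : ∀ r : F, a₂ ≠ r • a) (ha0 : a ≠ 0) (hb0 : b ≠ 0)
    (hcom : ¬ ∃ v ∈ W', Q v = 0 ∧ v ≠ 0 ∧ polar Q b v = 0 ∧ polar Q b₂ v = 0 ∧
        ∃ y ∈ W', polar Q v y = 0 ∧ (polar Q b y ≠ 0 ∨ polar Q b₂ y ≠ 0)) :
    ∃ v ∈ W', ∃ a' ∈ W, Q v = 0 ∧ v ≠ 0 ∧ a' ≠ 0 ∧ ∃ h ∈ K, EQ Q v a' h := by
  classical
  haveI : Nonempty ι := Fintype.card_pos_iff.mp (by omega)
  have hf := reflex_polar hQ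
  have Δ := quad_data hQ (by omega)
  have orth' : ∀ x ∈ W, ∀ y ∈ W', polar Q y x = 0 := fun x hx y hy => (hW' ▸ hy : y ∈ hf.perp W) x hx
  have orth : ∀ x ∈ W, ∀ y ∈ W', polar Q x y = 0 := fun x hx y hy => by rw [polar_comm]; exact orth' x hx y hy
  have hW'nd : IsNondegenerateOn (polar ⇑Q) W' := hW' ▸ perp_nondeg hQ hW
  have hd := hf.finrank_perp W
  rw [← hW'] at hd
  have hTQ : ∀ {x : ι → F}, x ∈ T₀ → Q x = 0 := fun hx => hT₀ _ hx
  have avoid : ∀ v ∈ W', Q v = 0 → v ≠ 0 → polar Q b v = 0 → polar Q b₂ v = 0 →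
      b ∈ Submodule.span F {v} ∧ b₂ ∈ Submodule.span F {v} := by
    intro v hv hvv hv0 h1 h2
    have key : ∀ u ∈ W', u ∉ Submodule.span F {v} → ∃ y ∈ W', polar Q v y = 0 ∧ polar Q u y ≠ 0 := fun u hu h => by
      obtain ⟨y, hy, hy1, hy2⟩ := sep_part hQ dec orth hu ((Submodule.span_singleton_le_iff_mem v W').mpr hv) h
      exact ⟨y, hy, hy1 v (Submodule.mem_span_singleton_self v), hy2⟩
    constructor
    · by_contra h
      obtain ⟨y, hy, hy1, hy2⟩ := key b hb h
      exact hcom ⟨v, hv, hvv, hv0, h1, h2, y, hy, hy1, Or.inl hy2⟩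
    · by_contra h
      obtain ⟨y, hy, hy1, hy2⟩ := key b₂ hb₂ h
      exact hcom ⟨v, hv, hvv, hv0, h1, h2, y, hy, hy1, Or.inr hy2⟩
  have hind : b₂ ∉ Submodule.span F {b} := fun h => by
    obtain ⟨r, hr⟩ := Submodule.mem_span_singleton.mp h
    obtain ⟨u, hu, hbu, hub⟩ := side_four hQ hT₀ hT₀d b
    have hu0 : u ≠ 0 := fun e => hub (e ▸ zero_mem _)
    obtain ⟨k, hk⟩ := Submodule.mem_span_singleton.mp (avoid u (hT₀W hu) (hTQ hu) hu0 hbu
      (by rw [← hr, polar_smul_left, hbu, smul_zero])).1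
    have hk0 : k ≠ 0 := fun e => hb0 (by rw [← hk, e, zero_smul])
    exact hub (Submodule.mem_span_singleton.mpr ⟨k⁻¹, by rw [← hk, smul_smul, inv_mul_cancel₀ hk0, one_smul]⟩)
  obtain ⟨S, hS⟩ : ∃ S, S = Submodule.span F {b, b₂} := ⟨_, rfl⟩
  have hbS : b ∈ S := hS ▸ Submodule.subset_span (by simp)
  have hb₂S : b₂ ∈ S := hS ▸ Submodule.subset_span (by simp)
  have hSW : S ≤ W' := hS ▸ Submodule.span_le.mpr (by rintro x (rfl | rfl); exacts [hb, hb₂])
  have hSd := hS ▸ finrank_span_pair_le (F := F) b b₂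
  obtain ⟨P, hP⟩ : ∃ P, P = W' ⊓ hf.perp S := ⟨_, rfl⟩
  have hPd : 2 ≤ finrank F P := by
    have h1 := Submodule.finrank_sup_add_finrank_inf_eq W' (hf.perp S)
    rw [← hP] at h1
    have h2 := hf.finrank_perp S
    have h3 := Submodule.finrank_le (W' ⊔ hf.perp S)
    rw [Module.finrank_fintype_fun_eq_card] at h3
    omega
  have hPq : ∀ x ∈ P, x ≠ 0 → Q x ≠ 0 := fun x hx hx0 hxx => by
    rw [hP] at hx
    obtain ⟨h1, h2⟩ := avoid x hx.1 hxx hx0 (by rw [polar_comm]; exact hx.2 b hbS)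
      (by rw [polar_comm]; exact hx.2 b₂ hb₂S)
    obtain ⟨k, hk⟩ := Submodule.mem_span_singleton.mp h1
    obtain ⟨k', hk'⟩ := Submodule.mem_span_singleton.mp h2
    have hk0 : k ≠ 0 := fun e => hb0 (by rw [← hk, e, zero_smul])
    exact hind (Submodule.mem_span_singleton.mpr ⟨k' * k⁻¹, by
      rw [← hk, ← hk', smul_smul, inv_mul_cancel_right₀ hk0]⟩)
  have hSq : ∀ x ∈ S, x ≠ 0 → Q x ≠ 0 := by
    intro x hx hx0 hxx
    obtain ⟨u, hu, hxu, hux⟩ := side_four hQ hT₀ hT₀d x
    obtain ⟨U, hU⟩ : ∃ U, U = Submodule.span F {x, u} := ⟨_, rfl⟩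
    have hUd : 2 ≤ finrank F U := by
      by_contra hlt
      have h1 := Submodule.finrank_mono (show Submodule.span F {x} ≤ U from hU ▸ Submodule.span_mono (by simp))
      rw [finrank_span_singleton hx0] at h1
      have h2 := Submodule.eq_of_le_of_finrank_le (show Submodule.span F {x} ≤ U from hU ▸ Submodule.span_mono (by simp))
        (by rw [finrank_span_singleton hx0]; omega)
      exact hux (h2.symm ▸ (hU ▸ Submodule.subset_span (by simp) : u ∈ U))
    have hUq : ∀ z ∈ U, Q z = 0 := fun z hz => by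
      rw [hU] at hz
      obtain ⟨r, r', rfl⟩ := Submodule.mem_span_pair.mp hz
      rw [QuadraticMap.map_add ⇑Q, QuadraticMap.map_smul, QuadraticMap.map_smul, polar_smul_left, polar_smul_right,
        hxu, hxx, hTQ hu]
      simp
    have hX : P ⊔ U ≤ W' ⊓ hf.perp (Submodule.span F {x}) := by
      refine sup_le (fun p hp => ?_) (hU ▸ Submodule.span_le.mpr ?_)
      · rw [hP] at hp
        refine ⟨hp.1, fun z hz => ?_⟩
        obtain ⟨r, rfl⟩ := Submodule.mem_span_singleton.mp hz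
        exact hp.2 _ (S.smul_mem r hx)
      · rintro z (rfl | rfl)
        · refine ⟨hSW hx, fun w hw => ?_⟩
          obtain ⟨r, rfl⟩ := Submodule.mem_span_singleton.mp hw
          rw [polar_smul_right, polar_self, hxx, smul_zero, smul_zero]
        · refine ⟨hT₀W hu, fun w hw => ?_⟩
          obtain ⟨r, rfl⟩ := Submodule.mem_span_singleton.mp hw
          rw [polar_smul_right, polar_comm, hxu, smul_zero]
    have hdis : P ⊓ U = ⊥ := (Submodule.eq_bot_iff _).mpr fun z hz => by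
      by_contra hz0
      exact hPq z hz.1 hz0 (hUq z hz.2)
    have h1 := Submodule.finrank_sup_add_finrank_inf_eq P U
    rw [hdis, finrank_bot] at h1
    have h2 : W' ⊓ hf.perp (Submodule.span F {x}) < W' := lt_of_le_of_ne inf_le_left fun e => by
      obtain ⟨z, hz, hne⟩ := (hW'nd x (hSW hx) hx0).2
      exact hne (by rw [polar_comm]; exact (inf_eq_left.mp e hz) x (Submodule.mem_span_singleton_self x))
    have h3 := Submodule.finrank_lt_finrank_of_lt h2
    have h4 := Submodule.finrank_mono hX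
    omega
  -- the first components
  have hAq : ∀ r r' : F, Q (r • a + r' • a₂) = 0 → r = 0 ∧ r' = 0 := by
    intro r r' h
    have h0 : Q (r • (a + b) + r' • (a₂ + b₂)) = 0 := by
      rw [QuadraticMap.map_add ⇑Q, QuadraticMap.map_smul, QuadraticMap.map_smul, polar_smul_left, polar_smul_right,
        hQab, hQ₂, hpo]
      simp
    rw [show r • (a + b) + r' • (a₂ + b₂) = (r • a + r' • a₂) + (r • b + r' • b₂) by module, QuadraticMap.map_add ⇑Q,
      h, orth _ (W.add_mem (W.smul_mem _ ha) (W.smul_mem _ ha₂)) _ (W'.add_mem (W'.smul_mem _ hb) (W'.smul_mem _ hb₂)),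
      zero_add, add_zero] at h0
    have h1 : r • b + r' • b₂ = 0 := by
      by_contra hne
      exact hSq _ (S.add_mem (S.smul_mem _ hbS) (S.smul_mem _ hb₂S)) hne h0
    have hr' : r' = 0 := by
      by_contra hr'
      refine hind (Submodule.mem_span_singleton.mpr ⟨-(r'⁻¹ * r), ?_⟩)
      rw [neg_smul, mul_smul, eq_neg_of_add_eq_zero_left h1, smul_neg, neg_neg, smul_smul,
        inv_mul_cancel₀ hr', one_smul]
    exact ⟨by simpa [hr', hb0] using h1, hr'⟩
  obtain ⟨A, hA⟩ : ∃ A, A = Submodule.span F {a, a₂} := ⟨_, rfl⟩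
  have haA : a ∈ A := hA ▸ Submodule.subset_span (by simp)
  have ha₂A : a₂ ∈ A := hA ▸ Submodule.subset_span (by simp)
  have hAW : A ≤ W := hA ▸ Submodule.span_le.mpr (by rintro x (rfl | rfl); exacts [ha, ha₂])
  have hAq' : ∀ x ∈ A, x ≠ 0 → Q x ≠ 0 := fun x hx hx0 hxx => by
    rw [hA] at hx
    obtain ⟨r, r', rfl⟩ := Submodule.mem_span_pair.mp hx
    obtain ⟨rfl, rfl⟩ := hAq r r' hxx
    exact hx0 (by simp)
  have hAd : finrank F A = 2 := by
    refine le_antisymm (hA ▸ finrank_span_pair_le (F := F) a a₂) ?_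
    have h1 : Submodule.span F {a} < A := lt_of_le_of_ne (hA ▸ Submodule.span_mono (by simp)) fun e => by
      obtain ⟨r, hr⟩ := Submodule.mem_span_singleton.mp (e.symm ▸ ha₂A : a₂ ∈ Submodule.span F {a})
      exact ha₂a r hr.symm
    have h2 := Submodule.finrank_lt_finrank_of_lt h1
    rw [finrank_span_singleton ha0] at h2
    omega
  have hAm : ∀ {X : Submodule F (ι → F)}, finrank F X = 2 → (∀ x ∈ X, x ≠ 0 → Q x ≠ 0) → ¬ IsPlusTypeOn ⇑Q X := by
    rintro X hX2 hX ⟨U, hUX, hU, hUd⟩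
    obtain ⟨x, hx, hx0⟩ := Submodule.exists_mem_ne_zero_of_ne_bot (p := U) fun e => by
      rw [e, finrank_bot] at hUd; omega
    exact hX x (hUX hx) hx0 (hU x hx)
  obtain ⟨δ, hδW, hδ0, hδδ, haδ, ha₂δ⟩ : ∃ δ ∈ W, δ ≠ 0 ∧ Q δ = 0 ∧ polar Q a δ = 0 ∧ polar Q a₂ δ = 0 := by
    by_contra hcon
    push Not at hcon
    obtain ⟨D, hD⟩ : ∃ D, D = W ⊓ hf.perp A := ⟨_, rfl⟩
    have hDq : ∀ x ∈ D, x ≠ 0 → Q x ≠ 0 := fun x hx hx0 hxx => by
      rw [hD] at hx
      exact hcon x hx.1 hx0 hxx (by rw [polar_comm]; exact hx.2 a haA) (by rw [polar_comm]; exact hx.2 a₂ ha₂A)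
    have hDd : finrank F D = 2 := by
      refine le_antisymm ?_ ?_
      · by_contra hlt
        obtain ⟨x, hx, hx0, hxx⟩ := Cfsg.Agent.Small.QuadBasis.exists_singular Q (W := D) (by omega)
        exact hDq x hx hx0 hxx
      · have h1 := Submodule.finrank_sup_add_finrank_inf_eq W (hf.perp A)
        rw [← hD] at h1
        have h2 := hf.finrank_perp A
        have h3 := Submodule.finrank_le (W ⊔ hf.perp A)
        rw [Module.finrank_fintype_fun_eq_card] at h3
        omega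
    exact hminus (plus_of_minus_pair hQn (nondeg_of_aniso hAd hAq') (nondeg_of_aniso hDd hDq) le_rfl (by omega)
      (by omega) (hAm hAd hAq') (hAm hDd hDq)
      (fun x hx y hy => by rw [polar_comm]; exact (hD ▸ hy : y ∈ W ⊓ hf.perp A).2 x hx) hAW
      (hD ▸ inf_le_left) (by omega))
  have hnot : a₂ ∉ Submodule.span F {a, δ} := fun h => by
    obtain ⟨r, r', hr⟩ := Submodule.mem_span_pair.mp h
    by_cases hr' : r' = 0
    · exact ha₂a r (by rw [← hr, hr', zero_smul, add_zero])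
    refine hAq' δ ?_ hδ0 hδδ
    have h1 : r' • δ ∈ A := by
      rw [show r' • δ = a₂ - r • a by rw [← hr]; abel]
      exact A.sub_mem ha₂A (A.smul_mem _ haA)
    exact (A.smul_mem_iff hr').mp h1
  obtain ⟨z, hz, hz1, hz2⟩ := sep_part hQ (W := W') (W' := W)
    (fun x => by obtain ⟨p, hp, p', hp', e⟩ := dec x; exact ⟨p', hp', p, hp, by rw [e, add_comm]⟩)
    (fun x hx y hy => orth' y hy x hx) ha₂
    (Submodule.span_le.mpr (by rintro x (rfl | rfl); exacts [ha, hδW])) hnot
  have haz : polar Q a z = 0 := hz1 a (Submodule.subset_span (by simp))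
  have hδz : polar Q δ z = 0 := hz1 δ (Submodule.subset_span (by simp))
  obtain ⟨m, hm, hmx⟩ := ONotMax.exists_siegel hQ (by omega) hδδ hδz
  have hm' : EQ Q δ z m := hmx
  have hmK : m ∈ K := hK ⟨mem_subspaceStabilizer_iff.mpr fun w hw => by
    rw [hmx]; exact W.sub_mem (W.add_mem hw (W.smul_mem _ hz)) (W.smul_mem _ hδW), hm⟩
  obtain ⟨c, hc⟩ : ∃ c, c = polar Q z a₂ := ⟨_, rfl⟩
  have hc0 : c ≠ 0 := by rw [hc, polar_comm]; exact hz2
  have hma : (m : Matrix ι ι F) *ᵥ (a + b) = a + b := by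
    rw [hm', polar_add_right, polar_add_right, polar_comm Q δ a, haδ, orth δ hδW b hb, polar_comm Q z a, haz,
      orth z hz b hb]
    simp
  have hma₂ : (m : Matrix ι ι F) *ᵥ (a₂ + b₂) = a₂ + b₂ - c • δ := by
    rw [hm', polar_add_right, polar_add_right, polar_comm Q δ a₂, ha₂δ, orth δ hδW b₂ hb₂, ← hc, orth z hz b₂ hb₂]
    simp
  let G' : Subgroup (GL ι F) := K ⊓ omegaGL ⇑Q
  have hT' : InR Q G' (a + b) (a₂ + b₂) := by
    obtain ⟨t, ht, htx⟩ := ONotMax.exists_siegel hQ (by omega) hQab hpo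
    have : t = T := gl_ext_mulVec fun x => by rw [htx, hTx]
    exact ⟨T, ⟨hTK, this ▸ ht⟩, hTx⟩
  have hstabW : ∀ {k : GL ι F}, k ∈ omegaGL ⇑Q → (∀ w ∈ W, (k : Matrix ι ι F) *ᵥ w ∈ W) → k ∈ G' := fun hk h =>
    ⟨hK ⟨mem_subspaceStabilizer_iff.mpr h, hk⟩, hk⟩
  have h1 := hT'.conj inf_le_right (k := m) ⟨hmK, hm⟩
  rw [hma, hma₂] at h1
  have hpo1 : polar Q (a + b) (a₂ + b₂ - c • δ) = 0 := by
    rw [polar_sub_right, hpo, polar_smul_right, polar_add_left, haδ, orth' δ hδW b hb]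
    simp
  have h2 : InR Q G' (a + b) (c • δ) := by
    have := InR.add hQab hpo (by rw [polar_neg_right, hpo1, neg_zero]) hT' (h1.neg hQ (by omega) hQab hpo1)
    rwa [neg_sub, add_sub_cancel] at this
  have hcδ : Q (c • δ) = 0 := by rw [QuadraticMap.map_smul, hδδ, smul_zero]
  have hcδa : polar Q (c • δ) a = 0 := by rw [polar_smul_left, polar_comm, haδ, smul_zero]
  have hcδb : polar Q (c • δ) b = 0 := orth _ (W.smul_mem _ hδW) b hb
  have h3 := h2.swap hQab hcδ
  have h4 : InR Q G' (c • δ) (-b) := by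
    obtain ⟨k, hk, hkx⟩ := ONotMax.exists_siegel hQ (by omega) hcδ hcδa
    have hkG : k ∈ G' := hstabW hk fun w hw => by
      rw [hkx]; exact W.sub_mem (W.add_mem hw (W.smul_mem _ ha)) (W.smul_mem _ (W.smul_mem _ hδW))
    have := InR.add hcδ (by rw [polar_neg_right, polar_add_right, hcδa, hcδb, add_zero, neg_zero]) hcδa h3
      ⟨k, hkG, hkx⟩
    rwa [neg_add, neg_add_cancel_comm] at this
  obtain ⟨v, hv, hbv, hvb⟩ := side_four hQ hT₀ hT₀d b
  have hbv' : b ∉ Submodule.span F {v} := fun h => by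
    obtain ⟨r, hr⟩ := Submodule.mem_span_singleton.mp h
    exact hvb (Submodule.mem_span_singleton.mpr ⟨r⁻¹, by
      rw [← hr, smul_smul, inv_mul_cancel₀ fun e => hb0 (by rw [← hr, e, zero_smul]), one_smul]⟩)
  obtain ⟨z', hz', hz'1, hz'2⟩ := sep_part hQ dec orth hb ((Submodule.span_singleton_le_iff_mem v W').mpr (hT₀W hv)) hbv'
  obtain ⟨m', hm'', hm'x⟩ := ONotMax.exists_siegel hQ (by omega) (hTQ hv) (hz'1 v (Submodule.mem_span_singleton_self v))
  have hm'G : m' ∈ G' := hstabW hm'' fun w hw => by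
    rw [hm'x, orth' w hw v (hT₀W hv), orth' w hw z' hz']
    simpa using hw
  have h5 := h4.conj inf_le_right hm'G
  have e1 : (m' : Matrix ι ι F) *ᵥ (c • δ) = c • δ := by
    rw [hm'x, orth' _ (W.smul_mem _ hδW) v (hT₀W hv), orth' _ (W.smul_mem _ hδW) z' hz']
    simp
  have e2 : (m' : Matrix ι ι F) *ᵥ (-b) = -b + polar Q z' b • v := by
    rw [hm'x, polar_neg_right, polar_neg_right, polar_comm Q v b, hbv]
    simp
  rw [e1, e2] at h5
  have hcδb' : polar Q (c • δ) (-b) = 0 := by rw [polar_neg_right, hcδb, neg_zero]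
  have hcδb'' : polar Q (c • δ) (-b + polar Q z' b • v) = 0 := by
    rw [polar_add_right, hcδb', polar_smul_right, orth _ (W.smul_mem _ hδW) v (hT₀W hv), smul_zero, add_zero]
  have h6 := InR.add hcδ hcδb'' (by rw [polar_neg_right, hcδb', neg_zero]) h5 (h4.neg hQ (by omega) hcδ hcδb')
  rw [neg_neg, neg_add_cancel_comm] at h6
  have hv' : Q (polar Q z' b • v) = 0 := by rw [QuadraticMap.map_smul, hTQ hv, smul_zero]
  obtain ⟨k, hk, hkx⟩ := h6.swap hcδ hv'
  exact ⟨_, W'.smul_mem _ (hT₀W hv), _, W.neg_mem (W.smul_mem c hδW), hv',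
    smul_ne_zero (by rw [polar_comm]; exact hz'2) (fun e => hvb (e ▸ zero_mem _)),
    neg_ne_zero.mpr (smul_ne_zero hc0 hδ0), k, hk.1, hkx⟩

/-- The stabiliser of a non-degenerate four-space of minus type in a space of dimension eight and minus type is
maximal. -/
theorem isMaximal_quadSplit_four (hQ : PND Q) (hQn : IsNondegenerateQuadraticForm ⇑Q) (hn : Fintype.card ι = 8)
    {W : Submodule F (ι → F)} (hW : IsNondegenerateOn (polar ⇑Q) W) (hW4 : finrank F W = 4)
    (hminus : ¬ IsPlusTypeOn ⇑Q W) (hplus : IsPlusTypeOn ⇑Q ((reflex_polar hQ).perp W)) :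
    IsMaximalIn (omegaGL ⇑Q) (subspaceStabilizer W ⊓ omegaGL ⇑Q) := by
  classical
  haveI : Nonempty ι := Fintype.card_pos_iff.mp (by omega)
  have Δ := quad_data hQ (by omega)
  have hf := reflex_polar hQ
  obtain ⟨W', hW'⟩ : ∃ W', W' = hf.perp W := ⟨_, rfl⟩
  have hd := hf.finrank_perp W
  rw [← hW'] at hd
  have orth' : ∀ a ∈ W, ∀ b ∈ W', polar Q b a = 0 := fun a ha b hb => (hW' ▸ hb : b ∈ hf.perp W) a ha
  have orth : ∀ a ∈ W, ∀ b ∈ W', polar Q a b = 0 := fun a ha b hb => by rw [polar_comm]; exact orth' a ha b hb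
  have hW'nd : IsNondegenerateOn (polar ⇑Q) W' := hW' ▸ perp_nondeg hQ hW
  have inter : ∀ x ∈ W, x ∈ W' → x = 0 := fun x hx hx' => by
    by_contra h0
    obtain ⟨z, hz, hne⟩ := (hW x hx h0).1
    exact hne (orth z hz x hx')
  have htop : W ⊔ W' = ⊤ := by
    refine Submodule.eq_top_of_finrank_eq ?_
    have h1 := Submodule.finrank_sup_add_finrank_inf_eq W W'
    rw [show W ⊓ W' = ⊥ from (Submodule.eq_bot_iff _).mpr fun x hx => inter x hx.1 hx.2, finrank_bot] at h1
    rw [Module.finrank_fintype_fun_eq_card]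
    omega
  have dec : ∀ x, ∃ a ∈ W, ∃ b ∈ W', x = a + b := fun x => by
    obtain ⟨a, ha, b, hb, e⟩ := Submodule.mem_sup.mp (htop ▸ Submodule.mem_top : x ∈ W ⊔ W')
    exact ⟨a, ha, b, hb, e.symm⟩
  -- separation inside the second part
  have sep : ∀ u ∈ W', ∀ d ∈ W', u ∉ Submodule.span F {d} → ∃ b ∈ W', polar Q d b = 0 ∧ polar Q u b ≠ 0 := by
    intro u hu d hd' hud
    obtain ⟨x, hx, hne⟩ : ∃ x ∈ hf.perp (Submodule.span F {d}), polar Q u x ≠ 0 := by
      by_contra hcon
      push Not at hcon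
      exact hud (hf.perp_perp (Submodule.span F {d}) ▸
        (show u ∈ hf.perp (hf.perp (Submodule.span F {d})) from hcon))
    obtain ⟨a, ha, b, hb, rfl⟩ := dec x
    refine ⟨b, hb, ?_, ?_⟩
    · have := hx d (Submodule.mem_span_singleton_self d)
      rw [polar_add_left, orth a ha d hd', zero_add] at this
      rwa [polar_comm] at this
    · rwa [polar_add_right, orth' a ha u hu, zero_add] at hne
  obtain ⟨T₀, hT₀W, hT₀, hT₀d⟩ := hplus
  rw [← hW'] at hT₀W hT₀d
  -- the part of the second space orthogonal to a pair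
  have perp2 : ∀ v z : ι → F, ∃ P : Submodule F (ι → F), P ≤ W' ∧ (∀ u ∈ P, polar Q v u = 0 ∧ polar Q z u = 0) ∧
      finrank F W' ≤ finrank F P + finrank F (Submodule.span F {v, z}) := by
    intro v z
    refine ⟨W' ⊓ hf.perp (Submodule.span F {v, z}), inf_le_left, fun u hu => ⟨?_, ?_⟩, ?_⟩
    · rw [polar_comm]; exact hu.2 v (Submodule.subset_span (by simp))
    · rw [polar_comm]; exact hu.2 z (Submodule.subset_span (by simp))
    · have h1 := Submodule.finrank_sup_add_finrank_inf_eq W' (hf.perp (Submodule.span F {v, z}))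
      have h2 := hf.finrank_perp (Submodule.span F {v, z})
      have h3 := Submodule.finrank_le (W' ⊔ hf.perp (Submodule.span F {v, z}))
      rw [Module.finrank_fintype_fun_eq_card] at h3
      omega
  -- a singular vector beside one vector
  have side1 : ∀ v ∈ W', ∃ u ∈ W', Q u = 0 ∧ polar Q v u = 0 ∧ polar Q v u = 0 ∧
      u ∉ Submodule.span F {v, v} := by
    intro v hv
    rw [Set.pair_eq_singleton]
    have h1 := finrank_span_le_card (R := F) ({v} : Set (ι → F))
    simp at h1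
    by_cases hvT : v ∈ T₀
    · obtain ⟨u, hu, hne⟩ : ∃ u ∈ T₀, u ∉ Submodule.span F {v} := by
        by_contra hcon
        push Not at hcon
        have := Submodule.finrank_mono (show T₀ ≤ Submodule.span F {v} from hcon)
        omega
      have h : polar Q v u = 0 := by
        rw [polar, hT₀ _ (T₀.add_mem hvT hu), hT₀ _ hvT, hT₀ _ hu, sub_zero, sub_zero]
      exact ⟨u, hT₀W hu, hT₀ _ hu, h, h, hne⟩
    have h2 := Submodule.finrank_sup_add_finrank_inf_eq T₀ (hf.perp (Submodule.span F {v}))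
    have h3 := hf.finrank_perp (Submodule.span F {v})
    have h4 := Submodule.finrank_le (T₀ ⊔ hf.perp (Submodule.span F {v}))
    rw [Module.finrank_fintype_fun_eq_card] at h4
    obtain ⟨u, hu, hu0⟩ := Submodule.exists_mem_ne_zero_of_ne_bot (p := T₀ ⊓ hf.perp (Submodule.span F {v}))
      fun e => by rw [e, finrank_bot] at h2; omega
    have h : polar Q v u = 0 := by rw [polar_comm]; exact hu.2 v (Submodule.mem_span_singleton_self v)
    refine ⟨u, hT₀W hu.1, hT₀ _ hu.1, h, h, fun hh => ?_⟩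
    obtain ⟨r, rfl⟩ := Submodule.mem_span_singleton.mp hh
    exact hvT ((T₀.smul_mem_iff fun e => hu0 (by rw [e, zero_smul])).mp hu.1)
  obtain ⟨e, he, hee, -, -, he0'⟩ := side1 0 W'.zero_mem
  have he0 : e ≠ 0 := fun h => he0' (by rw [h]; exact zero_mem _)
  -- a singular vector beside two singular vectors that are not orthogonal
  have side2 : ∀ v ∈ W', ∀ z ∈ W', Q v = 0 → Q z = 0 → polar Q v z ≠ 0 →
      ∃ u ∈ W', Q u = 0 ∧ polar Q v u = 0 ∧ polar Q z u = 0 ∧ u ∉ Submodule.span F {v, z} := by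
    intro v hv z hz hvv hzz hvz
    obtain ⟨u₁, hu₁, hu₁u, hvu₁, -, hu₁v⟩ := side1 v hv
    rw [Set.pair_eq_singleton] at hu₁v
    obtain ⟨u, hud⟩ : ∃ u, u = polar Q z v • u₁ - polar Q z u₁ • v := ⟨_, rfl⟩
    have h1 : polar Q v u = 0 := by
      rw [hud, polar_sub_right, polar_smul_right, polar_smul_right, hvu₁, polar_self, hvv]; simp
    have h2 : polar Q z u = 0 := by
      rw [hud, polar_sub_right, polar_smul_right, polar_smul_right, smul_eq_mul, smul_eq_mul]; ring
    have huu : Q u = 0 := by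
      rw [hud, sub_eq_add_neg, ← neg_smul, QuadraticMap.map_add ⇑Q, QuadraticMap.map_smul, QuadraticMap.map_smul,
        polar_smul_left, polar_smul_right, polar_comm Q u₁ v, hvu₁, hu₁u, hvv]
      simp
    refine ⟨u, hud ▸ sub_mem (W'.smul_mem _ hu₁) (W'.smul_mem _ hv), huu, h1, h2, fun h => ?_⟩
    have hu0 : u ≠ 0 := fun e => hu₁v (Submodule.mem_span_singleton.mpr
      ⟨(polar Q z v)⁻¹ * polar Q z u₁, by
        rw [mul_smul, ← sub_eq_zero.mp (hud.symm.trans e), smul_smul,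
          inv_mul_cancel₀ (by rwa [polar_comm]), one_smul]⟩)
    refine hu0 ?_
    obtain ⟨r, r', rfl⟩ := Submodule.mem_span_pair.mp h
    rw [polar_add_right, polar_smul_right, polar_smul_right, polar_self, hvv, smul_zero, smul_zero, zero_add,
      smul_eq_mul, mul_eq_zero] at h1
    rw [polar_add_right, polar_smul_right, polar_smul_right, polar_self, hzz, smul_zero, smul_zero, add_zero,
      smul_eq_mul, mul_eq_zero, polar_comm Q z v] at h2
    rw [h1.resolve_right hvz, h2.resolve_right hvz, zero_smul, zero_smul, add_zero]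
  -- a common neighbour of two singular vectors
  have mid : ∀ v ∈ W', ∀ z ∈ W', Q v = 0 → Q z = 0 → v ≠ 0 → z ≠ 0 → polar Q v z = 0 →
      ∃ x ∈ W', Q x = 0 ∧ polar Q v x ≠ 0 ∧ polar Q x z ≠ 0 := by
    intro v hv z hz hvv hzz hv0 hz0 hvz
    obtain ⟨x₁, hx₁, hx₁x, hvx₁⟩ := sing_pair hW'nd hv hvv hv0
    by_cases hzx₁ : polar Q x₁ z = 0
    swap
    · exact ⟨x₁, hx₁, hx₁x, hvx₁, hzx₁⟩
    obtain ⟨x₂, hx₂, hx₂x, hzx₂⟩ := sing_pair hW'nd hz hzz hz0
    by_cases hvx₂ : polar Q v x₂ = 0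
    swap
    · exact ⟨x₂, hx₂, hx₂x, hvx₂, by rwa [polar_comm]⟩
    have hv12 : polar Q v (x₁ + x₂) ≠ 0 := by rwa [polar_add_right, hvx₂, add_zero]
    refine ⟨_, W'.add_mem (W'.add_mem hx₁ hx₂) (W'.smul_mem _ hv), quad_correct hvv hv12, ?_, ?_⟩
    · rw [polar_add_right, polar_smul_right, polar_self, hvv, smul_zero, smul_zero, add_zero]; exact hv12
    · rw [polar_add_left, polar_add_left, polar_smul_left, hzx₁, hvz, smul_zero, add_zero, zero_add, polar_comm]
      exact hzx₂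
  have fixE : ∀ v ∈ W', ∀ y ∈ W', ∀ h, EQ Q v y h → ∀ w ∈ W, (h : Matrix ι ι F) *ᵥ w = w := by
    intro v hv y hy h hx w hw
    rw [hx, orth' w hw v hv, orth' w hw y hy]
    simp
  have exE : ∀ v y, Q v = 0 → polar Q v y = 0 → ∃ h, EQ Q v y h := fun v y hv hvy => by
    obtain ⟨g, -, hg⟩ := ONotMax.exists_siegel hQ (by omega) hv hvy
    exact ⟨g, hg⟩
  have S : Split (omegaGL ⇑Q) (polar ⇑Q) (fun v => Q v = 0) (UQ Q) (EQ Q) id W W' :=
    { dec := dec
      inter := inter
      orth := orth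
      stab_perp := fun g hg b hb => by
        rw [hW'] at hb ⊢
        rw [← stab_perp_eq hQ W] at hg
        exact mem_subspaceStabilizer_iff.mp hg.1 b hb
      u_iff := fun v h hh => hh
      u_of := fun v y h hvy hx => ⟨y, hvy, hx⟩
      exists_e := exE
      comp := fun v y y' h h' (hv : Q v = 0) hvy hvy' hx hx' => fun x => by
        rw [gl_mul_mulVec, hx', hx, QuadraticMap.map_add ⇑Q y y']
        simp only [sub_eq_add_neg, ← neg_smul, polar_add_left, polar_add_right, polar_smul_right, polar_self, hv,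
          hvy', polar_comm Q y v, hvy, smul_eq_mul, smul_zero, mul_zero, add_zero]
        module
      e_conj := fun g hg v y h hx => fun x => by
        obtain ⟨z, rfl⟩ : ∃ z, x = (g : Matrix ι ι F) *ᵥ z := ⟨_, (gl_mulVec_inv_cancel g x).symm⟩
        rw [gl_mul_mulVec, gl_mul_mulVec, gl_inv_mulVec_cancel, hx, omega_polar hg, omega_polar hg,
          ONotMax.omega_isometry hg, Matrix.mulVec_sub, Matrix.mulVec_add, Matrix.mulVec_smul, Matrix.mulVec_smul]
      e_scale := fun l v y h _ hx => fun x => by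
        rw [hx, id_eq, polar_smul_left, polar_smul_left, QuadraticMap.map_smul]
        simp only [smul_eq_mul]
        module
      tau := fun l hl => ⟨l, hl, rfl⟩
      fix := fun v hv y hy h _ hh => fixE v hv y hy h hh
      sg_smul := fun c v (hv : Q v = 0) => by
        show Q (c • v) = 0
        rw [QuadraticMap.map_smul, hv, smul_zero]
      smul_left := fun c x y => polar_smul_left Q c x y
      dual := fun v hv u hu (hvv : Q v = 0) (huu : Q u = 0) hvu hind hv0 => by
        have hvd : v ∉ Submodule.span F {u - v} := fun h => by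
          obtain ⟨r, hr⟩ := Submodule.mem_span_singleton.mp h
          have hr0 : r ≠ 0 := fun e => hv0 (by rw [← hr, e, zero_smul])
          refine hind (Submodule.mem_span_singleton.mpr ⟨r⁻¹ * (1 + r), ?_⟩)
          rw [mul_smul, add_smul, one_smul]
          conv_lhs => enter [2, 1]; rw [← hr]
          rw [← smul_add, sub_add_cancel, smul_smul, inv_mul_cancel₀ hr0, one_smul]
        obtain ⟨b, hb, hbd, hbv⟩ := sep v hv (u - v) (sub_mem hu hv) hvd
        refine ⟨_, W'.add_mem hb (W'.smul_mem _ hv), quad_correct hvv hbv, ?_, ?_⟩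
        · rw [polar_add_right, polar_smul_right, polar_self, hvv, smul_zero, smul_zero, add_zero]; exact hbv
        · rw [polar_sub_left, sub_eq_zero] at hbd
          rw [polar_add_right, polar_add_right, polar_smul_right, polar_smul_right, polar_self, hvv,
            polar_comm Q u v, hvu, hbd]
          simp
      trans_in := fun u hu z hz u' hu' (huu : Q u = 0) (hzz : Q z = 0) (hu'u' : Q u' = 0) hne heq => by
        obtain ⟨d, hd⟩ : ∃ d, d = u' - u := ⟨_, rfl⟩
        have hdz : polar Q z d = 0 := by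
          rw [hd, polar_sub_right, polar_comm Q z u', polar_comm Q z u, heq, sub_self]
        have hy : polar Q z ((polar Q u z)⁻¹ • d) = 0 := by rw [polar_smul_right, hdz, smul_zero]
        obtain ⟨g, hg⟩ := exE z _ hzz hy
        refine ⟨_, W'.smul_mem _ (hd ▸ sub_mem hu' hu), g, hy, hg, ?_⟩
        have hdd : Q (u + d) = 0 := by rw [hd, add_sub_cancel]; exact hu'u'
        rw [QuadraticMap.map_add ⇑Q, huu, zero_add] at hdd
        rw [hg, polar_comm Q z u, QuadraticMap.map_smul, polar_smul_left, polar_comm Q d u]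
        simp only [smul_eq_mul]
        rw [show (polar Q u z)⁻¹ * polar Q u d + (polar Q u z)⁻¹ * (polar Q u z)⁻¹ * Q d * polar Q u z =
            (polar Q u z)⁻¹ * (Q d + polar Q u d) by field_simp; ring, hdd, mul_zero, zero_smul, sub_zero, smul_smul,
          mul_inv_cancel₀ hne, one_smul, hd, add_sub_cancel]
      side := fun v hv z hz hvv hzz hv0 hz0 => by
        by_cases hvz : polar Q v z = 0
        · obtain ⟨x, hx, hxx, h1, h2⟩ := mid v hv z hz hvv hzz hv0 hz0 hvz
          exact ⟨x, hx, hxx, fun e => h1 (by rw [e, polar_zero_right]), side2 v hv x hx hvv hxx h1,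
            side2 x hx z hz hxx hzz h2⟩
        · exact ⟨v, hv, hvv, hv0, side1 v hv, side2 v hv z hz hvv hzz hvz⟩
      span := sing_span hW'nd he hee he0
      pair := fun v hv hvv hv0 => sing_pair hW'nd hv hvv hv0 }
  refine split_isMaximal Δ S (fun g hg => ?_) (fun g hg hgW' => ?_)
    (fun K hK g hgK hg s hs' hss a ha b hb hab ha0 hb0 => ?_) (fun v hv hvv hv0 A hA hA0 hAinv => ?_) ?_
  · by_contra hcon
    push Not at hcon
    let φ : (ι → F) →ₗ[F] (ι → F) := Matrix.mulVecLin (g : Matrix ι ι F)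
    refine hminus ⟨T₀.map φ, Submodule.map_le_iff_le_comap.mpr fun x hx => hcon x (hT₀W hx), ?_, ?_⟩
    · rintro _ ⟨x, hx, rfl⟩
      exact (ONotMax.omega_isometry hg x).trans (hT₀ x hx)
    · rw [← (Submodule.equivMapOfInjective φ (gl_mulVec_injective g) T₀).finrank_eq]
      omega
  · refine mem_subspaceStabilizer_iff.mpr fun w hw => ?_
    rw [← hf.perp_perp W, ← hW']
    intro b hb
    let φ : (ι → F) →ₗ[F] (ι → F) := Matrix.mulVecLin (g : Matrix ι ι F)
    have h1 : W'.map φ = W' := Submodule.eq_of_le_of_finrank_eq (Submodule.map_le_iff_le_comap.mpr hgW')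
      (Submodule.equivMapOfInjective φ (gl_mulVec_injective g) W').finrank_eq.symm
    obtain ⟨b', hb', e'⟩ := Submodule.mem_map.mp (h1.symm ▸ hb : b ∈ W'.map φ)
    rw [← show (g : Matrix ι ι F) *ᵥ b' = b from e', omega_polar hg]
    exact orth w hw b' hb'
  · -- the seed
    obtain ⟨y₀, hy₀, hy₀0, hsy₀, -, hy₀s⟩ := side1 s hs'
    rw [Set.pair_eq_singleton] at hy₀s
    obtain ⟨a₂, ha₂, b₂, hb₂, hab₂⟩ := dec ((g : Matrix ι ι F) *ᵥ y₀)
    have hin : ∀ {v y : ι → F} {h : GL ι F}, v ∈ W' → y ∈ W' → Q v = 0 → polar Q v y = 0 → EQ Q v y h → h ∈ K :=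
      fun {v y h} hv hy hvv hvy hE => hK ⟨mem_subspaceStabilizer_iff.mpr fun w hw => by
        rw [fixE _ hv _ hy _ hE w hw]; exact hw, Δ.mem v h hvv (S.u_of v y h hvy hE)⟩
    obtain ⟨t₀, ht₀⟩ := exE s y₀ hss hsy₀
    obtain ⟨T, hT⟩ : ∃ T, T = g * t₀ * g⁻¹ := ⟨_, rfl⟩
    have hTK : T ∈ K := hT ▸ mul_mem (mul_mem hgK (hin hs' hy₀ hss hsy₀ ht₀)) (inv_mem hgK)
    have hTG : T ∈ omegaGL ⇑Q :=
      hT ▸ mul_mem (mul_mem hg (Δ.mem s t₀ hss (S.u_of s y₀ t₀ hsy₀ ht₀))) (inv_mem hg)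
    have hTx : EQ Q (a + b) (a₂ + b₂) T := by
      rw [hT, ← hab, ← hab₂]
      exact S.e_conj g hg s y₀ t₀ ht₀
    have hQab' : Q (a + b) = 0 := by rw [← hab, ONotMax.omega_isometry hg, hss]
    have hpo : polar Q (a + b) (a₂ + b₂) = 0 := by rw [← hab, ← hab₂, omega_polar hg, hsy₀]
    have hQ₂ : Q (a₂ + b₂) = 0 := by rw [← hab₂, ONotMax.omega_isometry hg, hy₀0]
    by_cases ha₂a : ∃ r : F, a₂ = r • a
    · -- a singular image inside the second part: the radical with the two vectors exchanged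
      obtain ⟨r, hr⟩ := ha₂a
      obtain ⟨d, hdd⟩ : ∃ d, d = b₂ - r • b := ⟨_, rfl⟩
      have hdW : d ∈ W' := hdd ▸ sub_mem hb₂ (W'.smul_mem _ hb)
      have hd : (g : Matrix ι ι F) *ᵥ (y₀ - r • s) = d := by
        rw [Matrix.mulVec_sub, Matrix.mulVec_smul, hab, hab₂, hr, hdd]
        module
      have hd0 : d ≠ 0 := fun e => hy₀s (Submodule.mem_span_singleton.mpr ⟨r, by
        have := gl_mulVec_injective g (hd.trans (e.trans (Matrix.mulVec_zero _).symm))
        exact (sub_eq_zero.mp this).symm⟩)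
      have hsd : polar Q s (y₀ - r • s) = 0 := by
        rw [polar_sub_right, polar_smul_right, hsy₀, polar_self, hss, smul_zero, smul_zero, sub_zero]
      have hdQ : Q d = 0 := by
        rw [← hd, ONotMax.omega_isometry hg, sub_eq_add_neg, ← neg_smul, QuadraticMap.map_add ⇑Q,
          QuadraticMap.map_smul, hy₀0, hss, smul_zero, polar_smul_right, polar_comm Q y₀ s, hsy₀, smul_zero]
        simp
      have hQab : Q (a + b) = 0 := by rw [← hab, ONotMax.omega_isometry hg, hss]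
      have habd : polar Q (a + b) d = 0 := by rw [← hab, ← hd, omega_polar hg, hsd]
      have hbd0 : polar Q d b = 0 := by
        rwa [polar_add_left, orth a ha d hdW, zero_add, polar_comm] at habd
      obtain ⟨t₁, ht₁⟩ := exE s (y₀ - r • s) hss hsd
      have hTK₁ : g * t₁ * g⁻¹ ∈ K :=
        mul_mem (mul_mem hgK (hin hs' (sub_mem hy₀ (W'.smul_mem _ hs')) hss hsd ht₁)) (inv_mem hgK)
      have h1 : EQ Q d (-(a + b)) (g * t₁ * g⁻¹) := fun x => by
        rw [S.e_conj g hg s _ t₁ ht₁, hab, hd, hdQ, show Q (-(a + b)) = 0 by rw [QuadraticMap.map_neg, hQab],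
          polar_neg_left]
        module
      obtain ⟨h₂, hh₂⟩ := exE d b hdQ hbd0
      have hd1 : polar Q d (-(a + b)) = 0 := by rw [polar_neg_right, polar_comm, habd, neg_zero]
      have h3 := S.comp d _ _ _ _ hdQ hd1 hbd0 h1 hh₂
      rw [show -(a + b) + b = -a by abel] at h3
      exact ⟨d, hdW, -a, W.neg_mem ha, hdQ, hd0, neg_ne_zero.mpr ha0, _,
        mul_mem hTK₁ (hin hdW hb hdQ hbd0 hh₂), h3⟩
    by_cases hcom : ∃ v ∈ W', Q v = 0 ∧ v ≠ 0 ∧ polar Q b v = 0 ∧ polar Q b₂ v = 0 ∧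
        ∃ y ∈ W', polar Q v y = 0 ∧ (polar Q b y ≠ 0 ∨ polar Q b₂ y ≠ 0)
    swap
    · exact seed_four hQ hQn hn hW hW4 hminus hW' hT₀W hT₀ (by omega) dec hK hg hTK hTx hQab' hQ₂ hpo ha hb ha₂ hb₂
        (fun r hr => ha₂a ⟨r, hr⟩) ha0 hb0 hcom
    obtain ⟨v, hv, hvv, hv0, hbv, hb₂v, hyy⟩ := hcom
    obtain ⟨y, hy, hvy, hor⟩ := hyy
    have hπ : polar Q b y • a₂ - polar Q b₂ y • a ≠ 0 := fun e => by
      by_cases hby : polar Q b y = 0
      · rw [hby, zero_smul, zero_sub, neg_eq_zero, smul_eq_zero] at e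
        exact (hor.resolve_left (not_not.mpr hby)) (e.resolve_right ha0)
      · refine ha₂a ⟨(polar Q b y)⁻¹ * polar Q b₂ y, ?_⟩
        rw [mul_smul, ← sub_eq_zero.mp e, smul_smul, inv_mul_cancel₀ hby, one_smul]
    obtain ⟨h₁, hh₁⟩ := exE v y hvv hvy
    have hh₁K := hin hv hy hvv hvy hh₁
    have h1 := S.e_conj T hTG v y h₁ hh₁
    have hTv : (T : Matrix ι ι F) *ᵥ v = v := by
      rw [hTx, polar_add_left, polar_add_left, orth a ha v hv, orth a₂ ha₂ v hv, hbv, hb₂v, hQ₂]
      simp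
    obtain ⟨π, hπd⟩ : ∃ π, π = polar Q b y • a₂ - polar Q b₂ y • a := ⟨_, rfl⟩
    obtain ⟨y', hy'd⟩ : ∃ y', y' = y + polar Q b y • b₂ - polar Q b₂ y • b := ⟨_, rfl⟩
    have hTy : (T : Matrix ι ι F) *ᵥ y = π + y' := by
      rw [hTx, hπd, hy'd, polar_add_left, polar_add_left, orth a ha y hy, orth a₂ ha₂ y hy, hQ₂]
      simp only [zero_add, zero_mul, add_zero]
      module
    rw [hTv, hTy] at h1
    have hy'W : y' ∈ W' := hy'd ▸ sub_mem (W'.add_mem hy (W'.smul_mem _ hb₂)) (W'.smul_mem _ hb)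
    have hπW : π ∈ W := hπd ▸ sub_mem (W.smul_mem _ ha₂) (W.smul_mem _ ha)
    have hvy' : polar Q v (-y') = 0 := by
      rw [polar_neg_right, hy'd, polar_sub_right, polar_add_right, polar_smul_right, polar_smul_right, hvy,
        polar_comm Q v b, polar_comm Q v b₂, hbv, hb₂v]
      simp
    have hvs : polar Q v (π + y') = 0 := by
      rw [polar_add_right, orth' π hπW v hv, zero_add]
      simpa using hvy'
    obtain ⟨h₂, hh₂⟩ := exE v _ hvv hvy'
    have h3 := S.comp v _ _ _ _ hvv hvs hvy' h1 hh₂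
    rw [add_neg_cancel_right] at h3
    exact ⟨v, hv, π, hπW, hvv, hv0, hπd ▸ hπ, _,
      mul_mem (mul_mem (mul_mem hTK hh₁K) (inv_mem hTK)) (hin hv (W'.neg_mem hy'W) hvv hvy' hh₂), h3⟩
  · -- irreducibility on the first part
    obtain ⟨a, haA, ha0⟩ := Submodule.exists_mem_ne_zero_of_ne_bot hA0
    have hAd : finrank F A ≠ 0 := fun e => hA0 (Submodule.finrank_eq_zero.mp e)
    by_contra hne
    have hlt : finrank F A < finrank F W := Submodule.finrank_lt_finrank_of_lt (lt_of_le_of_ne hA hne)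
    have hk3 : 3 ≤ finrank F W := by omega
    obtain ⟨w₀, hw₀, hw₀0, hw₀w₀⟩ := Cfsg.Agent.Small.QuadBasis.exists_singular Q (W := W) hk3
    have hspan := sing_span hW hw₀ hw₀w₀ hw₀0
    have hcl : ∀ w ∈ W, Q w = 0 → ∀ x ∈ A, polar Q x w ≠ 0 → w ∈ A := by
      intro w hw hww x hx hne
      have hwx : polar Q w x ≠ 0 := by rw [polar_comm]; exact hne
      obtain ⟨u, hu, p, hp, hwu, hwp, hup⟩ :
          ∃ u ∈ W, ∃ p ∈ W, polar Q w u = 0 ∧ polar Q w p = 0 ∧ polar Q u p ≠ 0 := by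
        obtain ⟨Y, hYX, -, hYd⟩ := exists_avoid (W ⊓ hf.perp (Submodule.span F {w, x})) (⊥ : Submodule F (ι → F))
        have h1 := Submodule.finrank_sup_add_finrank_inf_eq W (hf.perp (Submodule.span F {w, x}))
        have h2 := hf.finrank_perp (Submodule.span F {w, x})
        have h3 := Submodule.finrank_le (W ⊔ hf.perp (Submodule.span F {w, x}))
        rw [Module.finrank_fintype_fun_eq_card] at h3
        have h4 := finrank_span_pair_le (F := F) w x
        rw [finrank_bot] at hYd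
        obtain ⟨u, hu, hu0⟩ := Submodule.exists_mem_ne_zero_of_ne_bot (p := Y) fun e => by
          rw [e, finrank_bot] at hYd; omega
        have huw : polar Q u w = 0 := (hYX hu).2 w (Submodule.subset_span (by simp))
        have hux : polar Q u x = 0 := (hYX hu).2 x (Submodule.subset_span (by simp))
        obtain ⟨p₀, hp₀, hup₀⟩ := (hW u (hYX hu).1 hu0).2
        refine ⟨u, (hYX hu).1, p₀ - (polar Q w p₀ / polar Q w x) • x,
          W.sub_mem hp₀ (W.smul_mem _ (hA hx)), by rw [polar_comm]; exact huw, ?_, ?_⟩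
        · rw [polar_sub_right, polar_smul_right, smul_eq_mul, div_mul_cancel₀ _ hwx, sub_self]
        · rw [polar_sub_right, polar_smul_right, hux, smul_zero, sub_zero]; exact hup₀
      have hD : ∀ y ∈ W, polar Q w y = 0 → polar Q w x • y - (polar Q y x + Q y * polar Q w x) • w ∈ A := by
        intro y hy hwy
        obtain ⟨m, hm⟩ := exE w y hww hwy
        have hmS : m ∈ subspaceStabilizer W ⊓ omegaGL ⇑Q := ⟨mem_subspaceStabilizer_iff.mpr fun z hz => by
          rw [hm]; exact W.sub_mem (W.add_mem hz (W.smul_mem _ hy)) (W.smul_mem _ hw), Δ.mem w m hww (S.u_of w y m hwy hm)⟩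
        have h1 := A.sub_mem (hAinv m hmS (by rw [hm, orth w hw v hv, orth y hy v hv]; simp) x hx) hx
        rw [hm] at h1
        rwa [add_sub_assoc, add_sub_cancel_left] at h1
      have h1 := A.sub_mem (A.sub_mem (hD (u + p) (W.add_mem hu hp) (by rw [polar_add_right, hwu, hwp, add_zero]))
        (hD u hu hwu)) (hD p hp hwp)
      have e1 : polar Q w x • (u + p) - (polar Q (u + p) x + Q (u + p) * polar Q w x) • w -
          (polar Q w x • u - (polar Q u x + Q u * polar Q w x) • w) -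
          (polar Q w x • p - (polar Q p x + Q p * polar Q w x) • w) = (-(polar Q u p * polar Q w x)) • w := by
        rw [polar_add_left, QuadraticMap.map_add ⇑Q]
        module
      rw [e1] at h1
      exact (A.smul_mem_iff (neg_ne_zero.mpr (mul_ne_zero hup hwx))).mp h1
    obtain ⟨w, hw, hww, haw⟩ : ∃ w ∈ W, Q w = 0 ∧ polar Q a w ≠ 0 := by
      by_contra hcon
      push Not at hcon
      obtain ⟨x, hx, hne'⟩ := (hW a (hA haA) ha0).2
      exact hne' ((Submodule.span_le (p := LinearMap.ker (Q.polarBilin a))).mpr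
        (fun z hz => by simpa using hcon z hz.1 hz.2) (hspan hx))
    have hwA := hcl w hw hww a haA haw
    have hw0 : w ≠ 0 := fun e => haw (by rw [e, polar_zero_right])
    obtain ⟨z, hz, hzz, hwz⟩ := sing_pair hW hw hww hw0
    have hzA := hcl z hz hzz w hwA hwz
    refine hne (le_antisymm hA (hspan.trans (Submodule.span_le.mpr fun x hx => ?_)))
    by_cases h1 : polar Q w x = 0
    swap
    · exact hcl x hx.1 hx.2 w hwA h1
    by_cases h2 : polar Q z x = 0
    swap
    · exact hcl x hx.1 hx.2 z hzA h2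
    have h3 := hcl (w + x) (W.add_mem hw hx.1) (by
      rw [QuadraticMap.map_add ⇑Q, hww, hx.2, h1]; ring) z hzA (by
      rw [polar_add_right, h2, add_zero, polar_comm]; exact hwz)
    simpa using A.sub_mem h3 hwA
  · intro hle
    rcases OEven.eq_bot_or_top_of_fixCodim hQ (by omega) (W := W)
      (fun g hg _ x hx => mem_subspaceStabilizer_iff.mp (hle hg) x hx) with h | h
    · rw [h, finrank_bot] at hW4; omega
    · rw [h, finrank_top, Module.finrank_fintype_fun_eq_card] at hW4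
      omega

/-- In dimension eight and minus type the stabiliser of a non-degenerate four-space is maximal. -/
theorem isMaximal_four (hQ : PND Q) (hQn : IsNondegenerateQuadraticForm ⇑Q) (hn : Fintype.card ι = 8)
    (hV : ¬ IsPlusTypeOn ⇑Q ⊤) {W : Submodule F (ι → F)} (hW : IsNondegenerateOn (polar ⇑Q) W)
    (hW4 : finrank F W = 4) : IsMaximalIn (omegaGL ⇑Q) (subspaceStabilizer W ⊓ omegaGL ⇑Q) := by
  have hf := reflex_polar hQ
  have hd := hf.finrank_perp W
  have hX : finrank F (⊤ : Submodule F (ι → F)) = 4 * 2 := by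
    rw [finrank_top, Module.finrank_fintype_fun_eq_card, hn]
  have orth : ∀ x ∈ W, ∀ y ∈ hf.perp W, polar Q x y = 0 := fun x hx y hy => by rw [polar_comm]; exact hy x hx
  have hor : IsPlusTypeOn ⇑Q W ∨ IsPlusTypeOn ⇑Q (hf.perp W) := by
    by_contra hcon
    rw [not_or] at hcon
    exact hV (plus_of_minus_pair hQn hW (perp_nondeg hQ hW) (j := 2) (by norm_num) (by omega) (by omega) hcon.1 hcon.2 orth
      le_top le_top hX)
  have hboth : ¬ (IsPlusTypeOn ⇑Q W ∧ IsPlusTypeOn ⇑Q (hf.perp W)) := by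
    rintro ⟨⟨U, hU, hUs, hUd⟩, ⟨U', hU', hU's, hU'd⟩⟩
    refine hV ⟨U ⊔ U', le_top, fun x hx => ?_, ?_⟩
    · obtain ⟨u, hu, u', hu', rfl⟩ := Submodule.mem_sup.mp hx
      rw [QuadraticMap.map_add ⇑Q, hUs u hu, hU's u' hu', orth u (hU hu) u' (hU' hu')]
      ring
    · have h1 := Submodule.finrank_sup_add_finrank_inf_eq U U'
      rw [show U ⊓ U' = ⊥ from (Submodule.eq_bot_iff _).mpr fun z hz => by
        by_contra hz0
        obtain ⟨w, hw, hne⟩ := (hW z (hU hz.1) hz0).1
        exact hne (orth w hw z (hU' hz.2)), finrank_bot] at h1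
      omega
  rcases hor with h | h
  · rw [← stab_perp_eq hQ W]
    refine isMaximal_quadSplit_four hQ hQn hn (perp_nondeg hQ hW) (by omega) (fun h' => hboth ⟨h, h'⟩) ?_
    rwa [hf.perp_perp W]
  · exact isMaximal_quadSplit_four hQ hQn hn hW hW4 (fun h' => hboth ⟨h', h⟩) h

end Cfsg.Agent.Classical.Radical
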