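/-
A root element times a non-identity element centralising its rank one group is no root element.
-/
import Mathlib
import Cfsg.Prelude.Def_RootSubgroups
import Cfsg.Agent.Lib.Classical.RankOneAction

set_option autoImplicit false

namespace Cfsg.Agent.Classical.RankOne

variable {G : Type*} [Group G] {S : Set (Subgroup G)}

theorem centralizing_translate (hS : Cfsg.IsRootSubgroupSet S) {A B : Subgroup G} (_hA : A ∈ S)
    (hB : B ∈ Cfsg.rankOnePartners S A) {z : G}
    (hz : z ∈ Subgroup.centralizer ((A ⊔ B : Subgroup G) : Set G)) (hz1 : z ≠ 1) :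
    ∀ a ∈ A, a ≠ 1 → z * a ∉ Cfsg.rootElements S := by
  rintro a ha ha1 ⟨h1, E, hE, hza⟩
  obtain ⟨hBS, hAB⟩ := hB
  have hz' : ∀ w ∈ A ⊔ B, z * w = w * z := fun w hw => (Subgroup.mem_centralizer_iff.1 hz w hw).symm
  have hzA : z * a = a * z := hz' a (Subgroup.mem_sup_left ha)
  have hact : Cfsg.conjBy B a⁻¹ = Cfsg.conjBy B (z * a)⁻¹ := by
    rw [mul_inv_rev, conjBy_mul B a⁻¹ z⁻¹, conjBy_eq_self_of_comm (g := z⁻¹)]
    intro b hb
    exact (Commute.inv_left (hz' b (Subgroup.mem_sup_right hb))).eq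
  obtain ⟨-, hEm⟩ := mem_of_same_action hS hAB hBS hE ha ha1 hza h1 hact
  have hfix : Cfsg.conjBy E a = E := by
    have hm := conj_mem' hEm (Subgroup.mem_sup_left (T := B) ha)
    refine fix_only hAB hEm hm hza h1 ?_
    rw [← conjBy_mul, show z * a * a = a * (z * a) by rw [← mul_assoc a, ← hzA], conjBy_mul,
      conjBy_of_mem hza]
  obtain rfl : E = A := fix_only hAB left_mem hEm ha ha1 hfix
  obtain ⟨b, hb, hn⟩ := not_centralise hAB ((Subgroup.mul_mem_cancel_right _ ha).1 hza) hz1
  exact hn (hz' b (Subgroup.mem_sup_right hb))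

end Cfsg.Agent.Classical.RankOne
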