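/-
The commutator case in a set of abstract root subgroups: the line through `A` and `[A, B]`.
-/
import Mathlib
import Cfsg.Prelude.Def_RootSubgroups
import Cfsg.Agent.Lib.Classical.RankOneTranslate

set_option autoImplicit false

namespace Cfsg.Agent.Classical.RankOne

open scoped commutatorElement

variable {G : Type*} [Group G] {S : Set (Subgroup G)}

theorem exists_partner {A : Subgroup G} (hA : ¬ Cfsg.IsIsolatedIn (Cfsg.FAdj S) S A) (hAS : A ∈ S) :
    ∃ C, C ∈ S ∧ Cfsg.IsRankOnePair A C := by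
  by_contra hno
  refine hA ⟨hAS, fun C => ⟨fun h => hno ⟨C, h.2.1, h.2.2⟩, fun h => hno ⟨C, h.1, ?_⟩⟩⟩
  exact Cfsg.RankOnePair_symm h.2.2

/-- A rank one pair has no commutator subgroup among the members. -/
theorem pair_bracket_not_mem (hS : Cfsg.IsRootSubgroupSet S) {A B : Subgroup G}
    (h : Cfsg.IsRankOnePair A B) (hA : A ∈ S) (hB : B ∈ S) : ⁅A, B⁆ ∉ S := by
  intro hC
  set C := ⁅A, B⁆ with hCdef
  have hAC : ∀ x ∈ A ⊔ B, Cfsg.conjBy C x = C := by
    intro x hx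
    have hle : A ⊔ B ≤ Subgroup.normalizer (C : Set G) :=
      sup_le (Subgroup.normalizer_commutator_ge_left A B) (Subgroup.normalizer_commutator_ge_right A B)
    exact mem_normalizer_iff_conjBy.1 (hle hx)
  have hCX : C ≤ A ⊔ B := Subgroup.commutator_le.2 fun a ha b hb =>
    mul_mem (mul_mem (mul_mem (Subgroup.mem_sup_left ha) (Subgroup.mem_sup_right hb))
      (inv_mem (Subgroup.mem_sup_left ha))) (inv_mem (Subgroup.mem_sup_right hb))
  -- a unipotent subgroup is not normal in the rank one group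
  have hnu : C ∉ Cfsg.unipotentSubgroups A B := by
    intro hu
    obtain ⟨a, ha, ha1⟩ := left_ne_bot h
    obtain ⟨b, hb, hb1⟩ := left_ne_bot (Cfsg.RankOnePair_symm h)
    have e1 := fix_only h left_mem hu ha ha1 (hAC a (Subgroup.mem_sup_left ha))
    have e2 := fix_only h (right_mem h) hu hb hb1 (hAC b (Subgroup.mem_sup_right hb))
    exact h.ne (e1.symm.trans e2)
  have hall : ∀ C' ∈ Cfsg.unipotentSubgroups A B, ⁅C, C'⁆ = ⊥ := by
    intro C' hC'
    obtain ⟨x, hx, rfl⟩ := hC'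
    have hC'S := hS.conj_mem A hA x
    have hmem : Cfsg.conjBy A x ∈ Cfsg.unipotentSubgroups A B := ⟨x, hx, rfl⟩
    rcases hS.pair C hC _ hC'S with h0 | h1 | h2
    · exact h0
    · obtain ⟨c, hc, hc1⟩ := left_ne_bot h1
      obtain ⟨b, hb, -, e⟩ := h1.cond_left c hc hc1
      rw [hAC b⁻¹ (inv_mem (unipotent_le hmem hb))] at e
      exact absurd (e ▸ conj_mem' hmem (inv_mem (hCX hc))) hnu
    · exfalso
      obtain ⟨d, hd, hd1⟩ := (Subgroup.bot_or_exists_ne_one _).resolve_left (hS.ne_bot _ h2.1)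
      have hEle : ⁅C, Cfsg.conjBy A x⁆ ≤ C := by
        rw [Subgroup.commutator_le]
        intro c hc y hy
        have h1 : y * c⁻¹ * y⁻¹ ∈ C :=
          (Subgroup.mem_normalizer_iff.1 (mem_normalizer_iff_conjBy.2 (hAC y (unipotent_le hmem hy))) _).1
            (inv_mem hc)
        rw [commutatorElement_def, show c * y * c⁻¹ * y⁻¹ = c * (y * c⁻¹ * y⁻¹) by group]
        exact mul_mem hc h1
      have hEle' : ⁅C, Cfsg.conjBy A x⁆ ≤ Cfsg.conjBy A x := by
        rw [Subgroup.commutator_le]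
        intro c hc y hy
        have hfix : Cfsg.conjBy (Cfsg.conjBy A x) c = Cfsg.conjBy A x := by
          by_contra hne
          exact not_commuting (pair_of_ne h (conj_mem' hmem (hCX hc)) hmem hne).1
            (comm_case_conj (hS.commutative _ hC'S) h2 hc)
        have : c * y * c⁻¹ ∈ Cfsg.conjBy A x := by
          have := Subgroup.mem_map_of_mem (MulAut.conj c).toMonoidHom hy
          change _ ∈ Cfsg.conjBy (Cfsg.conjBy A x) c at this
          rwa [hfix] at this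
        exact mul_mem this (inv_mem hy)
      exact hnu ((eq_of_inter hS (conj_pair h x) (hS.conj_mem B hB x) hC (hEle' hd) (hEle hd) hd1) ▸ hmem)
  obtain ⟨a, ha, ha1⟩ := left_ne_bot h
  obtain ⟨b, hb, hn⟩ := not_centralise h ha ha1
  have hcen : ⁅a⁻¹, b⁆ ∈ Subgroup.centralizer ((A ⊔ B : Subgroup G) : Set G) := by
    have hle : A ⊔ B ≤ Subgroup.centralizer {⁅a⁻¹, b⁆} := by
      refine sup_le ?_ ?_ <;> intro c hc <;> rw [Subgroup.mem_centralizer_singleton_iff]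
      · exact (commute_of_bracket_bot (hall A left_mem)
          (Subgroup.commutator_mem_commutator (inv_mem ha) hb) hc).symm
      · exact (commute_of_bracket_bot (hall B (right_mem h))
          (Subgroup.commutator_mem_commutator (inv_mem ha) hb) hc).symm
    exact Subgroup.mem_centralizer_iff.2 fun c hc =>
      Subgroup.mem_centralizer_singleton_iff.1 (hle hc)
  have hne : ⁅a⁻¹, b⁆ ≠ 1 := fun h1 => hn (by
    have : Commute a⁻¹ b := commutatorElement_eq_one_iff_mul_comm.1 h1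
    exact (Commute.inv_left_iff.1 this).eq)
  refine centralizing_translate hS hA ⟨hB, h⟩ hcen hne a ha ha1 ⟨?_, Cfsg.conjBy A b, hS.conj_mem A hA b,
    ⟨a, ha, ?_⟩⟩
  · intro h1
    rw [commutatorElement_def] at h1
    apply ha1
    have : b⁻¹ * (b * a * b⁻¹) * b = 1 := by
      rw [show a⁻¹ * b * a⁻¹⁻¹ * b⁻¹ * a = a⁻¹ * (b * a * b⁻¹) * a by group] at h1
      rw [show b * a * b⁻¹ = a * (a⁻¹ * (b * a * b⁻¹) * a) * a⁻¹ by group, h1]
      group
    simpa [mul_assoc] using this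
  · show b * a * b⁻¹ = ⁅a⁻¹, b⁆ * a
    rw [Subgroup.mem_centralizer_iff.1 hcen a (Subgroup.mem_sup_left ha) |>.symm, commutatorElement_def]
    group

theorem commutator_case (hS : Cfsg.IsRootSubgroupSet S) {A B : Subgroup G} (hA : A ∈ S) (hB : B ∈ S)
    (hC : ⁅A, B⁆ ∈ S) : Cfsg.RootCommutatorCase S A B := by
  rcases hS.pair A hA B hB with h | h | h
  · exact absurd h (hS.ne_bot _ hC)
  · exact absurd hC (pair_bracket_not_mem hS h hA hB)
  · exact h

theorem bracket_comm_self {A B : Subgroup G} (h : Cfsg.RootCommutatorCase S A B) {c x : G}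
    (hc : c ∈ ⁅A, B⁆) (hx : x ∈ A ⊔ B) : c * x = x * c := h.2.1 c hc x hx

theorem bracket_ne_left (hS : Cfsg.IsRootSubgroupSet S) {A B : Subgroup G}
    (h : Cfsg.RootCommutatorCase S A B) : ⁅A, B⁆ ≠ A := by
  intro he
  refine hS.ne_bot _ h.1 ?_
  rw [Subgroup.commutator_eq_bot_iff_le_centralizer]
  intro a ha b hb
  exact (h.2.1 a (he.symm ▸ ha) b (Subgroup.mem_sup_right hb)).symm

/-- `b ↦ [a, b]` as a homomorphism from `B`. -/
def bracketHom {A B : Subgroup G} (h : Cfsg.RootCommutatorCase S A B) {a : G} (ha : a ∈ A) :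
    B →* G where
  toFun b := ⁅a, (b : G)⁆
  map_one' := by simp [commutatorElement_def]
  map_mul' x y := by
    have e := h.2.1 _ (Subgroup.commutator_mem_commutator ha y.2) x (Subgroup.mem_sup_right x.2)
    rw [Subgroup.coe_mul, commutatorElement_mul_right_eq_mul_conj]
    rw [mul_assoc, mul_assoc, ← mul_assoc (x : G), ← e]
    group

theorem bracket_injective (hS : Cfsg.IsRootSubgroupSet S) {A A' B : Subgroup G}
    (hAA : Cfsg.IsRankOnePair A A') (hA : A ∈ S) (hA' : A' ∈ S) (h : Cfsg.RootCommutatorCase S A B)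
    {a b : G} (ha : a ∈ A) (ha1 : a ≠ 1) (hb : b ∈ B) (hab : a * b = b * a) : b = 1 := by
  by_contra hb1
  have hfix : Cfsg.conjBy A b = A := eq_of_inter hS hAA hA' (hS.conj_mem A hA b) ha
    ⟨a, ha, show b * a * b⁻¹ = a by rw [← hab, mul_inv_cancel_right]⟩ ha1
  have hle : ⁅A, B⁆ ≤ A := by
    rw [← h.2.2.2 b hb hb1, Subgroup.closure_le]
    rintro _ ⟨x, hx, rfl⟩
    have h1 : b * x⁻¹ * b⁻¹ ∈ A :=
      (Subgroup.mem_normalizer_iff.1 (mem_normalizer_iff_conjBy.2 hfix) _).1 (inv_mem hx)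
    rw [SetLike.mem_coe]
    show x * b * x⁻¹ * b⁻¹ ∈ A
    rw [show x * b * x⁻¹ * b⁻¹ = x * (b * x⁻¹ * b⁻¹) by group]
    exact mul_mem hx h1
  obtain ⟨d, hd, hd1⟩ := (Subgroup.bot_or_exists_ne_one _).resolve_left (hS.ne_bot _ h.1)
  exact bracket_ne_left hS h (eq_of_inter hS hAA hA' h.1 (hle hd) hd hd1)

theorem bracketHom_range {A B : Subgroup G} (h : Cfsg.RootCommutatorCase S A B) {a : G} (ha : a ∈ A)
    (ha1 : a ≠ 1) : (bracketHom h ha).range = ⁅A, B⁆ := by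
  rw [← h.2.2.1 a ha ha1, ← Subgroup.closure_eq (bracketHom h ha).range]
  congr 1
  ext x
  simp [bracketHom, commutatorElement_def, MonoidHom.mem_range]

/-- Surjectivity: every element of `[A, B]` is a commutator with the given element. -/
theorem exists_bracket_eq {A B : Subgroup G} (h : Cfsg.RootCommutatorCase S A B) {a c : G} (ha : a ∈ A)
    (ha1 : a ≠ 1) (hc : c ∈ ⁅A, B⁆) : ∃ b ∈ B, ⁅a, b⁆ = c := by
  rw [← bracketHom_range h ha ha1] at hc
  obtain ⟨b, rfl⟩ := hc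
  exact ⟨b, b.2, rfl⟩

/-- The elements of `A[A, B]`. -/
theorem mem_sup_cases {A B : Subgroup G} (h : Cfsg.RootCommutatorCase S A B) {x : G}
    (hx : x ∈ A ⊔ ⁅A, B⁆) :
    x ∈ ⁅A, B⁆ ∨ ∃ a ∈ A, a ≠ 1 ∧ ∃ b ∈ B, x = b * a * b⁻¹ := by
  obtain ⟨a, ha, c, hc, rfl⟩ : ∃ a ∈ A, ∃ c ∈ ⁅A, B⁆, a * c = x := by
    have hle : A ⊔ ⁅A, B⁆ ≤
        ({ carrier := {x | ∃ a ∈ A, ∃ c ∈ ⁅A, B⁆, a * c = x}
           one_mem' := ⟨1, one_mem _, 1, one_mem _, one_mul 1⟩
           mul_mem' := by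
             rintro _ _ ⟨a, ha, c, hc, rfl⟩ ⟨a', ha', c', hc', rfl⟩
             exact ⟨a * a', mul_mem ha ha', c * c', mul_mem hc hc', by
               rw [mul_assoc, ← mul_assoc a' c c', ← h.2.1 c hc a' (Subgroup.mem_sup_left ha')]
               simp [mul_assoc]⟩
           inv_mem' := by
             rintro _ ⟨a, ha, c, hc, rfl⟩
             exact ⟨a⁻¹, inv_mem ha, c⁻¹, inv_mem hc, by
               rw [mul_inv_rev, h.2.1 _ (inv_mem hc) _ (Subgroup.mem_sup_left (inv_mem ha))]⟩ } :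
          Subgroup G) :=
      sup_le (fun a ha => ⟨a, ha, 1, one_mem _, mul_one a⟩)
        (fun c hc => ⟨1, one_mem _, c, hc, one_mul c⟩)
    exact hle hx
  by_cases ha1 : a = 1
  · exact Or.inl (by rw [ha1, one_mul]; exact hc)
  obtain ⟨b, hb, e⟩ := exists_bracket_eq h (inv_mem ha) (inv_ne_one.2 ha1) hc
  refine Or.inr ⟨a, ha, ha1, b, hb, ?_⟩
  rw [← e, commutatorElement_def]
  group

theorem conj_le_sup {A B : Subgroup G} {b : G} (hb : b ∈ B) :
    Cfsg.conjBy A b ≤ A ⊔ ⁅A, B⁆ := by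
  intro y hy
  obtain ⟨a, ha, rfl⟩ := hy
  show b * a * b⁻¹ ∈ _
  rw [show b * a * b⁻¹ = a * ⁅a⁻¹, b⁆ by rw [commutatorElement_def]; group]
  exact mul_mem (Subgroup.mem_sup_left ha)
    (Subgroup.mem_sup_right (Subgroup.commutator_mem_commutator (inv_mem ha) hb))

/-- A member inside `[A, B]` is `[A, B]`. -/
theorem eq_bracket_of_le (hS : Cfsg.IsRootSubgroupSet S) {A A' B E : Subgroup G}
    (hAA : Cfsg.IsRankOnePair A A') (hA : A ∈ S) (hA' : A' ∈ S) (hB : B ∈ S)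
    (h : Cfsg.RootCommutatorCase S A B) (hE : E ∈ S) (hle : E ≤ ⁅A, B⁆) : E = ⁅A, B⁆ := by
  obtain ⟨e, he, he1⟩ := (Subgroup.bot_or_exists_ne_one _).resolve_left (hS.ne_bot _ hE)
  have htrans : ∀ C ∈ S, C ≤ ⁅A, B⁆ → ∀ d ∈ C, d ≠ 1 → ⁅A', C⁆ ≠ ⊥ := by
    intro C hC hCle d hd hd1 h0
    obtain ⟨a, ha, ha1⟩ := left_ne_bot hAA
    obtain ⟨b, hb, hb2⟩ := exists_bracket_eq h (inv_mem ha) (inv_ne_one.2 ha1) (hCle hd)
    refine centralizing_translate hS hA ⟨hA', hAA⟩ ?_ hd1 a ha ha1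
      ⟨?_, Cfsg.conjBy A b, hS.conj_mem A hA b, ⟨a, ha, ?_⟩⟩
    · have hle' : A ⊔ A' ≤ Subgroup.centralizer {d} := by
        refine sup_le ?_ ?_ <;> intro c hc <;> rw [Subgroup.mem_centralizer_singleton_iff]
        · exact (h.2.1 d (hCle hd) c (Subgroup.mem_sup_left hc)).symm
        · exact commute_of_bracket_bot h0 hc hd
      exact Subgroup.mem_centralizer_iff.2 fun c hc =>
        Subgroup.mem_centralizer_singleton_iff.1 (hle' hc)
    · intro h1
      rw [h.2.1 d (hCle hd) a (Subgroup.mem_sup_left ha)] at h1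
      have hdA : d ∈ A := by rw [eq_inv_of_mul_eq_one_right h1]; exact inv_mem ha
      exact bracket_ne_left hS h (eq_of_inter hS hAA hA' h.1 hdA (hCle hd) hd1)
    · show b * a * b⁻¹ = d * a
      rw [h.2.1 d (hCle hd) a (Subgroup.mem_sup_left ha), ← hb2, commutatorElement_def]
      group
  rcases hS.pair A' hA' _ h.1 with h0 | h1 | h2
  · exact absurd h0 (htrans _ h.1 le_rfl e (hle he) he1)
  · exact eq_of_inter hS (Cfsg.RankOnePair_symm h1) hA' hE (hle he) he he1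
  rcases hS.pair A' hA' E hE with k0 | k1 | k2
  · exact absurd k0 (htrans _ hE hle e he he1)
  · exact (eq_of_inter hS (Cfsg.RankOnePair_symm k1) hA' h.1 he (hle he) he1).symm
  refine le_antisymm hle fun c hc => ?_
  obtain ⟨a', ha', ha'1⟩ := left_ne_bot (Cfsg.RankOnePair_symm hAA)
  have heq : ⁅A', ⁅A, B⁆⁆ = ⁅A', E⁆ := (h2.2.2.2 e (hle he) he1).symm.trans (k2.2.2.2 e he he1)
  obtain ⟨e', he', hee⟩ := exists_bracket_eq k2 ha' ha'1
    (heq ▸ Subgroup.commutator_mem_commutator ha' hc)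
  have hker : bracketHom h2 ha' ⟨c, hc⟩ = bracketHom h2 ha' ⟨e', hle he'⟩ := hee.symm
  have : bracketHom h2 ha' (⟨c, hc⟩ * ⟨e', hle he'⟩⁻¹) = 1 := by
    rw [map_mul, map_inv, hker, mul_inv_cancel]
  have h3 := bracket_injective hS (Cfsg.RankOnePair_symm hAA) hA' hA h2 ha' ha'1
    (mul_mem hc (inv_mem (hle he'))) (commutatorElement_eq_one_iff_mul_comm.1 this)
  rw [mul_inv_eq_one] at h3
  exact h3 ▸ he'

theorem membersIn_sup (hS : Cfsg.IsRootSubgroupSet S) {A A' B : Subgroup G}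
    (hAA : Cfsg.IsRankOnePair A A') (hA : A ∈ S) (hA' : A' ∈ S) (hB : B ∈ S)
    (h : Cfsg.RootCommutatorCase S A B) :
    Cfsg.membersIn S (A ⊔ ⁅A, B⁆) = (fun b : G => Cfsg.conjBy A b) '' (B : Set G) ∪ {⁅A, B⁆} := by
  ext E
  constructor
  · rintro ⟨hE, hle⟩
    by_cases hEC : E ≤ ⁅A, B⁆
    · exact Or.inr (eq_bracket_of_le hS hAA hA hA' hB h hE hEC)
    obtain ⟨e, he, hne⟩ := SetLike.not_le_iff_exists.mp hEC
    obtain ⟨a, ha, ha1, b, hb, heq⟩ := (mem_sup_cases h (hle he)).resolve_left hne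
    refine Or.inl ⟨b, hb, (eq_of_inter hS (conj_pair hAA b) (hS.conj_mem A' hA' b) hE ?_ he ?_).symm⟩
    · exact ⟨a, ha, heq.symm⟩
    · exact fun h1 => hne (h1 ▸ one_mem _)
  · rintro (⟨b, hb, rfl⟩ | rfl)
    · exact ⟨hS.conj_mem A hA b, conj_le_sup hb⟩
    · exact ⟨h.1, le_sup_right⟩

theorem partition_sup (hS : Cfsg.IsRootSubgroupSet S) {A A' B : Subgroup G}
    (hAA : Cfsg.IsRankOnePair A A') (hA : A ∈ S) (hA' : A' ∈ S) (hB : B ∈ S)
    (h : Cfsg.RootCommutatorCase S A B) :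
    Cfsg.IsSubgroupPartition (A ⊔ ⁅A, B⁆) (Cfsg.membersIn S (A ⊔ ⁅A, B⁆)) := by
  refine ⟨fun C hC => hC.2, fun x hx hx1 => ?_, ?_⟩
  · rw [membersIn_sup hS hAA hA hA' hB h]
    rcases mem_sup_cases h hx with hc | ⟨a, ha, -, b, hb, rfl⟩
    · exact ⟨_, Or.inr rfl, hc⟩
    · exact ⟨_, Or.inl ⟨b, hb, rfl⟩, ⟨a, ha, rfl⟩⟩
  · rw [membersIn_sup hS hAA hA hA' hB h]
    have key : ∀ b ∈ B, ∀ D ∈ S, D ≠ Cfsg.conjBy A b → Cfsg.conjBy A b ⊓ D = ⊥ := by
      intro b _ D hD hne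
      by_contra h0
      obtain ⟨d, hd, hd1⟩ := (Subgroup.bot_or_exists_ne_one _).resolve_left h0
      exact hne (eq_of_inter hS (conj_pair hAA b) (hS.conj_mem A' hA' b) hD hd.1 hd.2 hd1)
    rintro C (⟨b, hb, rfl⟩ | rfl) D hD hne
    · rcases hD with ⟨b', hb', rfl⟩ | rfl
      · exact key b hb _ (hS.conj_mem A hA b') hne.symm
      · exact key b hb _ h.1 hne.symm
    · rcases hD with ⟨b', hb', rfl⟩ | rfl
      · rw [inf_comm]; exact key b' hb' _ h.1 hne
      · exact absurd rfl hne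

end Cfsg.Agent.Classical.RankOne
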