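/-
Normal subgroups and upper central series of rank one groups.
-/
import Mathlib
import Cfsg.Prelude.Def_RootSubgroups
import Cfsg.Agent.Lib.Classical.RankOneAction

set_option autoImplicit false

namespace Cfsg.Agent.Classical.RankOne

open scoped commutatorElement

variable {X : Type*} [Group X] {A B : Subgroup X}

theorem normal_or_central (h : Cfsg.IsRankOneGroup X A B) {N : Subgroup X} (hN : N.Normal) :
    N ⊔ A = ⊤ ∨ N ≤ Subgroup.center X := by
  obtain ⟨htop, hAB⟩ := h
  have hall : ∀ x : X, x ∈ A ⊔ B := fun x => htop ▸ Subgroup.mem_top x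
  by_cases hfix : ∀ n ∈ N, Cfsg.conjBy A n = A
  · right
    have hfixB : ∀ n ∈ N, Cfsg.conjBy B n = B := by
      obtain ⟨x, -, hx⟩ := right_mem hAB
      intro n hn
      have hm : x⁻¹ * n * x ∈ N := by simpa using hN.conj_mem n hn x⁻¹
      have e := congrArg (Cfsg.conjBy · x) (hfix _ hm)
      rw [← conjBy_mul, mul_assoc x⁻¹, mul_inv_cancel_left, conjBy_mul] at e
      rwa [hx]
    have hcen : ∀ P Q : Subgroup X, Cfsg.IsRankOnePair P Q → (∀ n ∈ N, Cfsg.conjBy P n = P) →
        (∀ n ∈ N, Cfsg.conjBy Q n = Q) → ∀ n ∈ N, ∀ p ∈ P, p * n = n * p := by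
      intro P Q hPQ hP hQ n hn p hp
      have h1 : p * n * p⁻¹ * n⁻¹ ∈ N := mul_mem (hN.conj_mem n hn p) (inv_mem hn)
      have h2 : p * n * p⁻¹ * n⁻¹ ∈ P := by
        have : n * p⁻¹ * n⁻¹ ∈ P := by
          have := Subgroup.mem_map_of_mem (MulAut.conj n).toMonoidHom (inv_mem hp)
          change _ ∈ Cfsg.conjBy P n at this
          rwa [hP n hn] at this
        simpa [mul_assoc] using mul_mem hp this
      have := fix_right hPQ h2 (hQ _ h1)
      rw [mul_inv_eq_one, mul_inv_eq_iff_eq_mul] at this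
      exact this
    intro n hn
    rw [Subgroup.mem_center_iff]
    have hle : A ⊔ B ≤ Subgroup.centralizer {n} := by
      refine sup_le ?_ ?_ <;> intro p hp <;> rw [Subgroup.mem_centralizer_singleton_iff]
      · exact hcen A B hAB hfix hfixB n hn p hp
      · exact hcen B A (Cfsg.RankOnePair_symm hAB) hfixB hfix n hn p hp
    exact fun g => Subgroup.mem_centralizer_singleton_iff.1 (hle (hall g))
  · left
    simp only [not_forall] at hfix
    obtain ⟨n, hn, hne⟩ := hfix
    obtain ⟨a, ha, he⟩ := (unipotent_cases hAB (conj_mem' left_mem (hall n))).resolve_left hne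
    rw [eq_top_iff, ← htop]
    refine sup_le le_sup_right fun b hb => ?_
    have hb' : a * b * a⁻¹ ∈ Cfsg.conjBy A n := he ▸ ⟨b, hb, rfl⟩
    have hn' : n ∈ N ⊔ A := Subgroup.mem_sup_left hn
    rw [mem_conjBy] at hb'
    have h2 : a * b * a⁻¹ ∈ N ⊔ A := by
      simpa [mul_assoc] using mul_mem (mul_mem hn' (Subgroup.mem_sup_right (S := N) hb')) (inv_mem hn')
    simpa [mul_assoc] using mul_mem (mul_mem (inv_mem (Subgroup.mem_sup_right (S := N) ha)) h2)
      (Subgroup.mem_sup_right (S := N) ha)

theorem quotient_nilpotent (h : Cfsg.IsRankOneGroup X A B) {N : Subgroup X} [N.Normal] (hNA : N ⊔ A = ⊤) :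
    Group.IsNilpotent (X ⧸ N) := by
  haveI := h.2.nilpotent_left
  refine nilpotent_of_surjective ((QuotientGroup.mk' N).comp A.subtype) ?_
  intro q
  obtain ⟨x, rfl⟩ := QuotientGroup.mk'_surjective N q
  obtain ⟨n, hn, a, ha, rfl⟩ := Subgroup.mem_sup_of_normal_left.1 (hNA ▸ Subgroup.mem_top x)
  refine ⟨⟨a, ha⟩, ?_⟩
  simp [(QuotientGroup.eq_one_iff n).2 hn]

theorem not_nilpotent (h : Cfsg.IsRankOneGroup X A B) : ¬ Group.IsNilpotent X := by
  intro hnil
  obtain ⟨htop, hAB⟩ := h
  have hall : ∀ x : X, x ∈ A ⊔ B := fun x => htop ▸ Subgroup.mem_top x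
  have hlt : Subgroup.normalizer (A : Set X) < ⊤ := by
    rw [lt_top_iff_ne_top]
    intro he
    obtain ⟨b, hb, hb1⟩ := left_ne_bot (Cfsg.RankOnePair_symm hAB)
    exact hb1 (fix_left hAB hb (mem_normalizer_iff_conjBy.1 (he ▸ Subgroup.mem_top b)))
  obtain ⟨g, hg, hg'⟩ := SetLike.exists_of_lt (Group.normalizerCondition_of_isNilpotent _ hlt)
  refine hg' (mem_normalizer_iff_conjBy.2 ?_)
  obtain ⟨a, ha, ha1⟩ := left_ne_bot hAB
  refine fix_only hAB left_mem (conj_mem' left_mem (hall g)) ha ha1 ?_
  have hm : g⁻¹ * a * g ∈ Subgroup.normalizer (A : Set X) := by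
    have := (Subgroup.mem_normalizer_iff.1 hg (g⁻¹ * a * g)).2 (by
      simpa [mul_assoc] using (Subgroup.le_normalizer ha : a ∈ Subgroup.normalizer (A : Set X)))
    exact this
  have e := congrArg (Cfsg.conjBy · g) (mem_normalizer_iff_conjBy.1 hm)
  rwa [← conjBy_mul, mul_assoc g⁻¹, mul_inv_cancel_left, conjBy_mul] at e

theorem quasisimple_of_perfect (h : Cfsg.IsRankOneGroup X A B) (hp : Group.IsPerfect X) :
    Cfsg.IsQuasisimple X := by
  refine ⟨hp, ?_⟩
  haveI : Nontrivial (X ⧸ Subgroup.center X) := by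
    obtain ⟨a, ha, ha1⟩ := left_ne_bot h.2
    obtain ⟨b, -, hn⟩ := not_centralise h.2 ha ha1
    refine ⟨⟨QuotientGroup.mk a, 1, fun he => hn ?_⟩⟩
    exact (Subgroup.mem_center_iff.1 ((QuotientGroup.eq_one_iff a).1 he) b).symm
  refine ⟨fun N hN => ?_⟩
  haveI : (N.comap (QuotientGroup.mk' (Subgroup.center X))).Normal := hN.comap _
  rcases normal_or_central h this with h1 | h1
  · right
    have hnil := quotient_nilpotent h h1
    haveI := hnil
    haveI hperf : Group.IsPerfect X := hp
    have hsub : Subsingleton (X ⧸ N.comap (QuotientGroup.mk' (Subgroup.center X))) := by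
      by_contra hs
      rw [not_subsingleton_iff_nontrivial] at hs
      exact Group.IsPerfect.not_isSolvable (G := X ⧸ N.comap (QuotientGroup.mk' (Subgroup.center X))) inferInstance
    rw [eq_top_iff]
    intro q _
    obtain ⟨x, rfl⟩ := QuotientGroup.mk'_surjective _ q
    have hx : x ∈ N.comap (QuotientGroup.mk' (Subgroup.center X)) :=
      (QuotientGroup.eq_one_iff x).1 (Subsingleton.elim _ _)
    exact hx
  · left
    rw [eq_bot_iff]
    intro q hq
    obtain ⟨x, rfl⟩ := QuotientGroup.mk'_surjective _ q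
    exact Subgroup.mem_bot.2 ((QuotientGroup.eq_one_iff x).2 (h1 hq))

theorem upper_two_eq_center (h : Cfsg.IsRankOneGroup X A B) :
    Subgroup.upperCentralSeries X 2 = Subgroup.center X := by
  refine le_antisymm ?_ ?_
  · rcases normal_or_central h (inferInstance : (Subgroup.upperCentralSeries X 2).Normal) with h1 | h1
    · exfalso
      apply not_nilpotent h
      have hq := quotient_nilpotent h h1
      obtain ⟨n, hn⟩ := Subgroup.nilpotent_iff_lowerCentralSeries.1 hq
      refine Subgroup.nilpotent_iff_lowerCentralSeries.2 ⟨n + 2, ?_⟩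
      have h2 : (⊤ : Subgroup X).lowerCentralSeries n ≤ Subgroup.upperCentralSeries X 2 := by
        intro x hx
        have := Subgroup.lowerCentralSeries.map (QuotientGroup.mk' (Subgroup.upperCentralSeries X 2)) n
          (Subgroup.mem_map_of_mem _ hx)
        rw [hn, Subgroup.mem_bot] at this
        exact (QuotientGroup.eq_one_iff x).1 this
      have h3 : (⊤ : Subgroup X).lowerCentralSeries (n + 1) ≤ Subgroup.upperCentralSeries X 1 := by
        rw [Subgroup.lowerCentralSeries_succ]
        exact (Subgroup.commutator_mono h2 le_rfl).trans (Subgroup.commutator_upperCentralSeries_top_le X 1)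
      rw [Subgroup.lowerCentralSeries_succ, eq_bot_iff, ← Subgroup.upperCentralSeries_zero X]
      exact (Subgroup.commutator_mono h3 le_rfl).trans (Subgroup.commutator_upperCentralSeries_top_le X 0)
    · exact h1
  · rw [← Subgroup.upperCentralSeries_one]
    exact Subgroup.upperCentralSeries_mono X one_le_two

end Cfsg.Agent.Classical.RankOne
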