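import Mathlib

/-!
# Factorisations into two regular unipotent operators

Over a field with at least four elements an operator `g` of determinant one with
`rank (g - 1) ≥ 2` that is not a scalar is `L ∘ U` with `L`, `U` regular unipotent.  The induction
keeps track of a vector outside the image of `L - 1` and a functional not killing the fixed line
of `U`, so that the two factors extend to one dimension more.
-/

set_option autoImplicit false
set_option linter.unusedSectionVars false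

namespace Cfsg.Agent.Classical.RegularFactor

open Module

universe u

variable {K : Type u} [Field K]

/-! ## Avoiding subspaces -/

/-- `K` has more than `n` elements. -/
def More (K : Type u) (n : ℕ) : Prop := ∀ s : Finset K, s.card ≤ n → ∃ t, t ∉ s

theorem more_mono {n m : ℕ} (h : More K n) (hm : m ≤ n) : More K m := fun s hs => h s (hs.trans hm)

theorem more_three (hK : 4 ≤ Cardinal.mk K) : More K 3 := by
  classical
  intro s hs
  by_contra hc
  push Not at hc
  haveI : Fintype K := ⟨s, hc⟩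
  rw [Cardinal.mk_fintype] at hK
  have h4 : 4 ≤ Fintype.card K := by exact_mod_cast hK
  have hcard : Fintype.card K ≤ s.card := Finset.card_le_card fun x _ => hc x
  omega

theorem more_four (hK : 4 ≤ Cardinal.mk K) (h2 : (2 : K) ≠ 0) : More K 4 := by
  classical
  intro s hs
  by_contra hc
  push Not at hc
  haveI : Fintype K := ⟨s, hc⟩
  rw [Cardinal.mk_fintype] at hK
  have h4 : 4 ≤ Fintype.card K := by exact_mod_cast hK
  have hle : Fintype.card K ≤ 4 := (Finset.card_le_card fun x _ => hc x).trans hs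
  have h0 := FiniteField.cast_card_eq_zero K
  rw [show Fintype.card K = 4 by omega] at h0
  exact h2 (pow_eq_zero_iff (n := 2) two_ne_zero |>.1 (by
    rw [show ((2 : K)) ^ 2 = ((4 : ℕ) : K) by norm_num, h0]))

variable {W : Type*} [AddCommGroup W] [Module K W]

/-- A line meets a subspace not containing it at most once. -/
theorem line_once (S : Submodule K W) {a d : W} {t t' : K} (h : a + t • d ∈ S) (h' : a + t' • d ∈ S)
    (ne : t ≠ t') : a ∈ S ∧ d ∈ S := by
  have hd : d ∈ S := by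
    have := S.sub_mem h h'
    rw [add_sub_add_left_eq_sub, ← sub_smul] at this
    have := S.smul_mem (t - t')⁻¹ this
    rwa [inv_smul_smul₀ (sub_ne_zero.2 ne)] at this
  refine ⟨?_, hd⟩
  have := S.sub_mem h (S.smul_mem t hd)
  rwa [add_sub_cancel_right] at this

theorem avoid_affine (A : Set W) (hA : ∀ a ∈ A, ∀ b ∈ A, ∀ t : K, a + t • (b - a) ∈ A)
    (hne : A.Nonempty) : ∀ (l : List (Submodule K W)), More K l.length →
      (∀ S ∈ l, ∃ a ∈ A, a ∉ S) → ∃ a ∈ A, ∀ S ∈ l, a ∉ S := by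
  classical
  intro l
  induction l with
  | nil => exact fun _ _ => ⟨hne.some, hne.some_mem, by simp⟩
  | cons S l ih =>
    intro hK hw
    obtain ⟨a, ha, hal⟩ := ih (more_mono hK (by simp)) fun T hT => hw T (List.mem_cons_of_mem _ hT)
    by_cases haS : a ∈ S
    swap
    · exact ⟨a, ha, by simpa [haS] using hal⟩
    obtain ⟨b, hb, hbS⟩ := hw S (by simp)
    have hbad : ∀ T ∈ l, ∃ t₀ : K, ∀ t, a + t • (b - a) ∈ T → t = t₀ := by
      intro T hT
      by_cases hex : ∃ t₀ : K, a + t₀ • (b - a) ∈ T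
      · obtain ⟨t₀, ht₀⟩ := hex
        refine ⟨t₀, fun t ht => ?_⟩
        by_contra ne
        exact hal T hT (line_once T ht ht₀ ne).1
      · exact ⟨0, fun t ht => absurd ⟨t, ht⟩ hex⟩
    choose f hf using hbad
    let s : Finset K := insert 0 (l.attach.map (fun T => f T.1 T.2)).toFinset
    have hs : s.card ≤ (S :: l).length := by
      refine (Finset.card_insert_le _ _).trans ?_
      have := List.toFinset_card_le (l.attach.map (fun T => f T.1 T.2))
      simp only [List.length_map, List.length_attach] at this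
      simp only [List.length_cons]
      omega
    obtain ⟨t, ht⟩ := hK s hs
    simp only [s, Finset.mem_insert, List.mem_toFinset, List.mem_map, not_or] at ht
    refine ⟨_, hA a ha b hb t, fun T hT => ?_⟩
    rcases List.mem_cons.1 hT with rfl | hT
    · intro h
      have h0 : a + (0 : K) • (b - a) ∈ T := by simpa using haS
      have := (line_once T h h0 ht.1).2
      exact hbS (by simpa using T.add_mem haS this)
    · exact fun h => ht.2 ⟨⟨T, hT⟩, List.mem_attach _ _, (hf T hT t h).symm⟩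

theorem exists_notMem {S : Submodule K W} (hS : S ≠ ⊤) : ∃ x, x ∉ S := by
  by_contra h
  push Not at h
  exact hS ((Submodule.eq_top_iff').2 h)

/-- A space over a field with four elements is not the union of four proper subspaces. -/
theorem avoid_four (hK : More K 3) (S₁ S₂ S₃ S₄ : Submodule K W) (h₁ : S₁ ≠ ⊤) (h₂ : S₂ ≠ ⊤)
    (h₃ : S₃ ≠ ⊤) (h₄ : S₄ ≠ ⊤) : ∃ x, x ∉ S₁ ∧ x ∉ S₂ ∧ x ∉ S₃ ∧ x ∉ S₄ := by
  classical
  obtain ⟨a, -, ha⟩ := avoid_affine (Set.univ : Set W) (fun _ _ _ _ _ => trivial) ⟨0, trivial⟩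
    [S₁, S₂, S₃] hK (by
      intro S hS
      have : S ≠ ⊤ := by
        simp only [List.mem_cons, List.not_mem_nil, or_false] at hS
        rcases hS with rfl | rfl | rfl <;> assumption
      obtain ⟨x, hx⟩ := exists_notMem this
      exact ⟨x, trivial, hx⟩)
  simp only [List.mem_cons, List.not_mem_nil, or_false, forall_eq_or_imp, forall_eq] at ha
  by_cases ha4 : a ∈ S₄
  swap
  · exact ⟨a, ha.1, ha.2.1, ha.2.2, ha4⟩
  obtain ⟨b, hb⟩ := exists_notMem h₄
  by_cases hb' : b ∉ S₁ ∧ b ∉ S₂ ∧ b ∉ S₃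
  · exact ⟨b, hb'.1, hb'.2.1, hb'.2.2, hb⟩
  have once : ∀ S : Submodule K W, a ∉ S → ∃ t₀ : K, ∀ t, a + t • b ∈ S → t = t₀ := by
    intro S hS
    by_cases hex : ∃ t₀ : K, a + t₀ • b ∈ S
    · obtain ⟨t₀, ht₀⟩ := hex
      refine ⟨t₀, fun t ht => ?_⟩
      by_contra ne
      exact hS (line_once S ht ht₀ ne).1
    · exact ⟨0, fun t ht => absurd ⟨t, ht⟩ hex⟩
  have never : ∀ S : Submodule K W, a ∉ S → b ∈ S → ∀ t : K, a + t • b ∉ S := fun S hS hbS t h =>
    hS (by simpa using S.sub_mem h (S.smul_mem t hbS))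
  obtain ⟨t₁, e₁⟩ := once S₁ ha.1
  obtain ⟨t₂, e₂⟩ := once S₂ ha.2.1
  obtain ⟨t₃, e₃⟩ := once S₃ ha.2.2
  have h4' : ∀ t : K, t ≠ 0 → a + t • b ∉ S₄ := fun t ht h => hb (by
    have := S₄.smul_mem t⁻¹ (S₄.sub_mem h ha4)
    simpa [smul_smul, inv_mul_cancel₀ ht] using this)
  rw [not_and_or, not_and_or, not_not, not_not, not_not] at hb'
  rcases hb' with hb' | hb' | hb'
  · obtain ⟨t, ht⟩ := hK {0, t₂, t₃} Finset.card_le_three
    simp only [Finset.mem_insert, Finset.mem_singleton, not_or] at ht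
    exact ⟨a + t • b, never S₁ ha.1 hb' t, fun h => ht.2.1 (e₂ t h), fun h => ht.2.2 (e₃ t h), h4' t ht.1⟩
  · obtain ⟨t, ht⟩ := hK {0, t₁, t₃} Finset.card_le_three
    simp only [Finset.mem_insert, Finset.mem_singleton, not_or] at ht
    exact ⟨a + t • b, fun h => ht.2.1 (e₁ t h), never S₂ ha.2.1 hb' t, fun h => ht.2.2 (e₃ t h), h4' t ht.1⟩
  · obtain ⟨t, ht⟩ := hK {0, t₁, t₂} Finset.card_le_three
    simp only [Finset.mem_insert, Finset.mem_singleton, not_or] at ht
    exact ⟨a + t • b, fun h => ht.2.1 (e₁ t h), fun h => ht.2.2 (e₂ t h), never S₃ ha.2.2 hb' t, h4' t ht.1⟩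

/-- A vector off a hyperplane and a line that is no eigenvector. -/
theorem exists_noneigen (hK : More K 3) (M : W →ₗ[K] W) (hM : ∀ c : K, M ≠ c • LinearMap.id)
    (r : Dual K W) (e : W) (hr : LinearMap.ker r ≠ ⊤) (he : Submodule.span K {e} ≠ ⊤) :
    ∃ v, r v ≠ 0 ∧ v ∉ Submodule.span K {e} ∧ M v ∉ Submodule.span K {v} := by
  classical
  obtain ⟨v, -, hv⟩ := avoid_affine (Set.univ : Set W) (fun _ _ _ _ _ => trivial) ⟨0, trivial⟩
    [LinearMap.ker r, Submodule.span K {e}] (more_mono hK (by simp)) (by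
      intro S hS
      simp only [List.mem_cons, List.not_mem_nil, or_false] at hS
      have : S ≠ ⊤ := by rcases hS with rfl | rfl <;> assumption
      obtain ⟨x, hx⟩ := exists_notMem this
      exact ⟨x, trivial, hx⟩)
  simp only [List.mem_cons, List.not_mem_nil, or_false, forall_eq_or_imp, forall_eq, LinearMap.mem_ker] at hv
  by_cases heig : M v ∈ Submodule.span K {v}
  swap
  · exact ⟨v, hv.1, hv.2, heig⟩
  obtain ⟨lam, hlam⟩ := Submodule.mem_span_singleton.1 heig
  obtain ⟨u, hu, hMu⟩ : ∃ u, r u = 0 ∧ M u ≠ lam • u := by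
    by_contra hc
    push Not at hc
    apply hM lam
    ext x
    have h := hc (x - (r x / r v) • v) (by simp [div_mul_cancel₀ _ hv.1])
    rw [map_sub, map_smul, ← hlam, smul_sub, smul_comm lam] at h
    simpa using sub_left_inj.1 h
  have hu0 : u ≠ 0 := fun e => hMu (by simp [e])
  have hind : ∀ x y : K, x • v + y • u = 0 → x = 0 ∧ y = 0 := by
    intro x y h
    have h1 := congrArg r h
    rw [map_add, map_smul, map_smul, hu, map_zero, smul_zero, add_zero, smul_eq_mul] at h1
    have hx := (mul_eq_zero.1 h1).resolve_right hv.1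
    rw [hx, zero_smul, zero_add, smul_eq_zero] at h
    exact ⟨hx, h.resolve_right hu0⟩
  obtain ⟨t₁, e₁⟩ : ∃ t₁ : K, ∀ t, v + t • u ∈ Submodule.span K {e} → t = t₁ := by
    by_cases hex : ∃ t₀ : K, v + t₀ • u ∈ Submodule.span K {e}
    · obtain ⟨t₀, ht₀⟩ := hex
      refine ⟨t₀, fun t ht => ?_⟩
      by_contra ne
      exact hv.2 (line_once _ ht ht₀ ne).1
    · exact ⟨0, fun t ht => absurd ⟨t, ht⟩ hex⟩
  have key : ∀ t : K, t ≠ 0 → M (v + t • u) ∈ Submodule.span K {v + t • u} →
      ∃ μ : K, M u = ((μ - lam) / t) • v + μ • u := by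
    intro t ht h
    obtain ⟨μ, hμ⟩ := Submodule.mem_span_singleton.1 h
    rw [map_add, map_smul, ← hlam] at hμ
    refine ⟨μ, ?_⟩
    have h2 : t • M u = (μ - lam) • v + (μ * t) • u := by
      rw [sub_smul, mul_smul]
      rw [smul_add] at hμ
      linear_combination (norm := module) -hμ
    calc M u = t⁻¹ • (t • M u) := (inv_smul_smul₀ ht _).symm
      _ = _ := by
        rw [h2, smul_add, smul_smul, smul_smul]
        congr 2 <;> field_simp
  obtain ⟨t₂, e₂⟩ : ∃ t₂ : K, ∀ t, t ≠ 0 → M (v + t • u) ∈ Submodule.span K {v + t • u} → t = t₂ := by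
    by_cases hex : ∃ t₀ : K, t₀ ≠ 0 ∧ M (v + t₀ • u) ∈ Submodule.span K {v + t₀ • u}
    · obtain ⟨t₀, ht₀, ht₀'⟩ := hex
      refine ⟨t₀, fun t ht h => ?_⟩
      obtain ⟨μ, hμ⟩ := key t ht h
      obtain ⟨μ', hμ'⟩ := key t₀ ht₀ ht₀'
      obtain ⟨h1, h2⟩ := hind ((μ - lam) / t - (μ' - lam) / t₀) (μ - μ') (by
        rw [sub_smul, sub_smul]
        rw [hμ] at hμ'
        linear_combination (norm := module) hμ')
      rw [sub_eq_zero] at h1 h2
      subst h2
      by_contra ne
      have : μ - lam = 0 := by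
        by_contra hne
        exact ne (by rw [div_eq_div_iff ht ht₀] at h1; exact (mul_left_cancel₀ hne h1).symm)
      rw [this, zero_div, zero_smul, zero_add, sub_eq_zero.1 this] at hμ
      exact hMu hμ
    · exact ⟨0, fun t ht h => absurd ⟨t, ht, h⟩ hex⟩
  obtain ⟨t, ht⟩ := hK {0, t₁, t₂} Finset.card_le_three
  simp only [Finset.mem_insert, Finset.mem_singleton, not_or] at ht
  refine ⟨v + t • u, by simpa [hu] using hv.1, fun h => ht.2.1 (e₁ t h), fun h => ht.2.2 (e₂ t ht.1 h)⟩

/-! ## Functionals -/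

theorem exists_dual_of_notMem {p : Submodule K W} {x : W} (hx : x ∉ p) :
    ∃ f : Dual K W, f x = 1 ∧ ∀ y ∈ p, f y = 0 := by
  obtain ⟨f, hf, hp⟩ := Submodule.exists_dual_map_eq_bot_of_notMem hx inferInstance
  refine ⟨(f x)⁻¹ • f, by simp [hf], fun y hy => ?_⟩
  have : f y ∈ p.map f := ⟨y, hy, rfl⟩
  rw [hp, Submodule.mem_bot] at this
  simp [this]

/-- The affine space of functionals used in the induction step. -/
def funcs (v c' : W) : Set (Dual K W) := {φ | φ v = 1 ∧ φ c' = 0}

theorem funcs_affine (v c' : W) :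
    ∀ a ∈ funcs (K := K) v c', ∀ b ∈ funcs (K := K) v c', ∀ t : K, a + t • (b - a) ∈ funcs (K := K) v c' := by
  rintro a ⟨a1, a2⟩ b ⟨b1, b2⟩ t
  exact ⟨by simp [a1, b1], by simp [a2, b2]⟩

theorem funcs_witness {v c' x : W} (hv : v ∉ Submodule.span K {c'}) (hx : x ∉ Submodule.span K {c'}) :
    ∃ φ ∈ funcs (K := K) v c', φ x ≠ 0 := by
  obtain ⟨φ, hφ1, hφ⟩ := exists_dual_of_notMem hv
  have hc : φ c' = 0 := hφ c' (Submodule.mem_span_singleton_self c')
  by_cases h : φ x = 0
  swap
  · exact ⟨φ, ⟨hφ1, hc⟩, h⟩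
  by_cases hxs : x ∈ Submodule.span K ({v, c'} : Set W)
  · obtain ⟨a, b, rfl⟩ := Submodule.mem_span_pair.1 hxs
    rw [map_add, map_smul, map_smul, hφ1, hc, smul_zero, add_zero, smul_eq_mul, mul_one] at h
    exact absurd (by rw [h, zero_smul, zero_add]; exact Submodule.mem_span_singleton.2 ⟨b, rfl⟩) hx
  · obtain ⟨ψ, hψ1, hψ⟩ := exists_dual_of_notMem hxs
    refine ⟨φ + ψ, ⟨?_, ?_⟩, by simp [h, hψ1]⟩
    · simp [hφ1, hψ v (Submodule.subset_span (by simp))]
    · simp [hc, hψ c' (Submodule.subset_span (by simp))]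

end Cfsg.Agent.Classical.RegularFactor
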