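import Cfsg.Agent.Lib.Classical.RegularFactorMain

/-!
# Factorisations into two regular unipotent operators: the choice and the conclusion of the induction
-/

set_option autoImplicit false
set_option linter.unusedSectionVars false

namespace Cfsg.Agent.Classical.RegularFactor

open Module

universe u

variable {K : Type u} [Field K] {V : Type u} [AddCommGroup V] [Module K V] [FiniteDimensional K V]

theorem sup_span_rank {A : Submodule K V} {x : V} (h : x ∉ A) :
    finrank K A + 1 ≤ finrank K (A ⊔ Submodule.span K {x} : Submodule K V) :=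
  Submodule.finrank_lt_finrank_of_lt (lt_of_le_of_ne le_sup_left fun e =>
    h (e.symm ▸ Submodule.mem_sup_right (Submodule.mem_span_singleton_self x)))

theorem exists_mem_notMem_span {A : Submodule K V} (h : 2 ≤ finrank K A) (x : V) :
    ∃ a ∈ A, a ∉ Submodule.span K {x} := by
  by_contra hc
  push Not at hc
  have h1 : finrank K A ≤ finrank K (Submodule.span K {x}) := Submodule.finrank_mono hc
  have h2 := finrank_span_le_card (R := K) ({x} : Set V)
  simp at h2
  omega

theorem ker_dual_rank {φ : Dual K V} {v : V} (hv : φ v = 1) :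
    finrank K (LinearMap.ker φ) + 1 = finrank K V := by
  have h := LinearMap.finrank_range_add_finrank_ker φ
  have hs : LinearMap.range φ = ⊤ := by
    rw [LinearMap.range_eq_top]
    exact fun a => ⟨a • v, by simp [hv]⟩
  rw [hs, finrank_top, finrank_self] at h
  omega

theorem map_ker_rank (N : V →ₗ[K] V) {φ : Dual K V} {v : V} (hv : φ v = 1) :
    finrank K (LinearMap.range N) ≤ finrank K ((LinearMap.ker φ).map N) + 1 := by
  have hle : LinearMap.range N ≤ (LinearMap.ker φ).map N ⊔ Submodule.span K {N v} := by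
    rintro _ ⟨y, rfl⟩
    have : N y = N (y - φ y • v) + φ y • N v := by simp
    rw [this]
    exact add_mem (Submodule.mem_sup_left ⟨_, by simp [hv], rfl⟩)
      (Submodule.mem_sup_right (Submodule.smul_mem _ _ (Submodule.mem_span_singleton_self _)))
  refine (Submodule.finrank_mono hle).trans ((Submodule.finrank_add_le_finrank_add_finrank _ _).trans ?_)
  have h2 := finrank_span_le_card (R := K) ({N v} : Set V)
  simp at h2
  omega

theorem map_ker_eq_range (N : V →ₗ[K] V) {φ : Dual K V} {k : V} (hk : N k = 0) (hφ : φ k ≠ 0) :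
    (LinearMap.ker φ).map N = LinearMap.range N := by
  refine le_antisymm LinearMap.map_le_range ?_
  rintro _ ⟨y, rfl⟩
  exact ⟨y - (φ y / φ k) • k, by simp [div_mul_cancel₀ _ hφ], by simp [hk]⟩

theorem small_rank (g : V →ₗ[K] V) (v : V) (φ : Dual K V) (hgv : φ (g v) = 1)
    (h : 3 ≤ finrank K ((LinearMap.ker φ).map (g - 1) ⊔ Submodule.span K {g v} : Submodule K V)) :
    2 ≤ finrank K (LinearMap.range (small g v φ hgv - 1)) := by
  set A := (LinearMap.range (small g v φ hgv - 1)).map (LinearMap.ker φ).subtype with hA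
  have hle : (LinearMap.ker φ).map (g - 1) ⊔ Submodule.span K {g v} ≤ A ⊔ Submodule.span K {g v} := by
    refine sup_le ?_ le_sup_right
    rintro _ ⟨w, hw, rfl⟩
    have : (g - 1) w = (((small g v φ hgv - 1) ⟨w, hw⟩ : LinearMap.ker φ) : V) + φ (g w) • g v := by
      simp [small_coe]
      abel
    rw [this]
    exact add_mem (Submodule.mem_sup_left ⟨_, ⟨_, rfl⟩, rfl⟩)
      (Submodule.mem_sup_right (Submodule.smul_mem _ _ (Submodule.mem_span_singleton_self _)))
  have h1 := (Submodule.finrank_mono hle).trans (Submodule.finrank_add_le_finrank_add_finrank _ _)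
  have h2 := finrank_span_le_card (R := K) ({g v} : Set V)
  have h3 : finrank K A = finrank K (LinearMap.range (small g v φ hgv - 1)) :=
    Submodule.finrank_map_subtype_eq _ _
  simp at h2
  omega

theorem small_scalar_full (g : V →ₗ[K] V) (v : V) (φ : Dual K V) (hgv : φ (g v) = 1) {lam : K}
    (hs : small g v φ hgv = lam • LinearMap.id)
    (h2 : 2 ≤ finrank K (LinearMap.range (small g v φ hgv - 1))) :
    finrank K (LinearMap.range (small g v φ hgv - 1)) = finrank K (LinearMap.ker φ) := by
  have hl : lam ≠ 1 := by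
    rintro rfl
    rw [hs, one_smul, show (LinearMap.id : LinearMap.ker φ →ₗ[K] _) = 1 from rfl, sub_self,
      LinearMap.range_zero, finrank_bot] at h2
    omega
  rw [show LinearMap.range (small g v φ hgv - 1) = ⊤ from ?_, finrank_top]
  rw [LinearMap.range_eq_top]
  intro y
  refine ⟨(lam - 1)⁻¹ • y, ?_⟩
  rw [hs]
  simp only [LinearMap.sub_apply, LinearMap.smul_apply, LinearMap.id_apply, Module.End.one_apply,
    smul_smul, ← sub_smul]
  rw [← sub_one_mul, mul_inv_cancel₀ (sub_ne_zero.2 hl), one_smul]

theorem small_rank_upper (g : V →ₗ[K] V) (v : V) (φ : Dual K V) (hgv : φ (g v) = 1) :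
    finrank K (LinearMap.range (small g v φ hgv - 1)) ≤ finrank K (LinearMap.range (g - 1)) := by
  set A := (LinearMap.range (small g v φ hgv - 1)).map (LinearMap.ker φ).subtype with hA
  have hlt : A < LinearMap.range (g - 1) ⊔ Submodule.span K {g v} := by
    refine lt_of_le_of_ne ?_ fun e => ?_
    · rintro _ ⟨_, ⟨w, rfl⟩, rfl⟩
      have : (((small g v φ hgv - 1) w : LinearMap.ker φ) : V) = (g - 1) (w : V) + (-φ (g w)) • g v := by
        simp [small_coe]
        abel
      rw [Submodule.coe_subtype, this]
      exact add_mem (Submodule.mem_sup_left ⟨_, rfl⟩)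
        (Submodule.mem_sup_right (Submodule.smul_mem _ _ (Submodule.mem_span_singleton_self _)))
    · have hm : g v ∈ A := e.symm ▸ Submodule.mem_sup_right (Submodule.mem_span_singleton_self _)
      obtain ⟨w, -, hw⟩ := hm
      have := congrArg φ hw
      rw [hgv, Submodule.coe_subtype, LinearMap.mem_ker.1 w.2] at this
      exact one_ne_zero this.symm
  have h1 := (Submodule.finrank_lt_finrank_of_lt hlt).trans_le
    (Submodule.finrank_add_le_finrank_add_finrank _ _)
  have h2 := finrank_span_le_card (R := K) ({g v} : Set V)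
  have h3 : finrank K A = finrank K (LinearMap.range (small g v φ hgv - 1)) :=
    Submodule.finrank_map_subtype_eq _ _
  simp at h2
  omega

/-- In dimension three `g + g⁻¹` is not scalar when `g` has no fixed vectors. -/
theorem three_not_scalar (g gi : V →ₗ[K] V) (hgi : gi * g = 1) (hgi' : g * gi = 1)
    (h3 : finrank K V = 3) (hdet : LinearMap.det g = 1)
    (hns : ∀ a : K, g ≠ a • LinearMap.id) (hfull : finrank K (LinearMap.range (g - 1)) = 3) :
    ∀ s : K, g + gi ≠ s • LinearMap.id := by
  intro s hs
  have hgg : ∀ x, g (g x) = s • g x - x := by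
    intro x
    have := congrArg g (LinearMap.congr_fun hs x)
    simp only [LinearMap.add_apply, map_add, LinearMap.smul_apply, LinearMap.id_apply, map_smul,
      show g (gi x) = x from LinearMap.congr_fun hgi' x] at this
    exact eq_sub_of_add_eq this
  obtain ⟨v, hv⟩ : ∃ v, g v ∉ Submodule.span K {v} := by
    by_contra hc
    push Not at hc
    haveI : Nontrivial V := Module.nontrivial_of_finrank_pos (R := K) (by omega)
    obtain ⟨v0, hv0⟩ := exists_ne (0 : V)
    obtain ⟨a, ha⟩ := Submodule.mem_span_singleton.1 (hc v0)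
    apply hns a
    ext x
    rw [LinearMap.smul_apply, LinearMap.id_apply]
    obtain ⟨b, hb⟩ := Submodule.mem_span_singleton.1 (hc x)
    by_cases hx : x ∈ Submodule.span K {v0}
    · obtain ⟨t, rfl⟩ := Submodule.mem_span_singleton.1 hx
      rw [map_smul, ← ha, smul_comm]
    · obtain ⟨d, hd⟩ := Submodule.mem_span_singleton.1 (hc (v0 + x))
      rw [map_add, ← ha, ← hb, smul_add] at hd
      have h0 : (d - a) • v0 + (d - b) • x = 0 := by linear_combination (norm := module) hd
      have hdb : d - b = 0 := by
        by_contra hne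
        apply hx
        rw [Submodule.mem_span_singleton]
        refine ⟨-((d - b)⁻¹ * (d - a)), ?_⟩
        have : (d - b)⁻¹ • ((d - a) • v0 + (d - b) • x) = 0 := by rw [h0, smul_zero]
        rw [smul_add, smul_smul, smul_smul, inv_mul_cancel₀ hne, one_smul] at this
        linear_combination (norm := module) -this
      rw [hdb, zero_smul, add_zero, smul_eq_zero] at h0
      rw [← hb, show b = a by linear_combination (h0.resolve_right hv0) - hdb]
  have hv0 : v ≠ 0 := fun e => hv (by simp [e])
  obtain ⟨x, hx⟩ : ∃ x, x ∉ Submodule.span K ({v, g v} : Set V) := by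
    apply exists_notMem
    intro e
    classical
    have h1 := finrank_span_finset_le_card (R := K) ({v, g v} : Finset V)
    rw [Finset.coe_pair] at h1
    unfold Set.finrank at h1
    rw [e, finrank_top, h3] at h1
    have := h1.trans Finset.card_le_two
    omega
  have li : LinearIndependent K ![v, g v, x] := by
    rw [Fintype.linearIndependent_iff]
    intro a ha
    simp [Fin.sum_univ_three] at ha
    have h2 : a 2 = 0 := by
      by_contra hne
      apply hx
      rw [Submodule.mem_span_pair]
      refine ⟨-((a 2)⁻¹ * a 0), -((a 2)⁻¹ * a 1), ?_⟩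
      have : (a 2)⁻¹ • (a 0 • v + a 1 • g v + a 2 • x) = 0 := by rw [ha, smul_zero]
      rw [smul_add, smul_add, smul_smul, smul_smul, smul_smul, inv_mul_cancel₀ hne, one_smul] at this
      linear_combination (norm := module) -this
    rw [h2, zero_smul, add_zero] at ha
    have h1 : a 1 = 0 := by
      by_contra hne
      apply hv
      rw [Submodule.mem_span_singleton]
      refine ⟨-((a 1)⁻¹ * a 0), ?_⟩
      have : (a 1)⁻¹ • (a 0 • v + a 1 • g v) = 0 := by rw [ha, smul_zero]
      rw [smul_add, smul_smul, smul_smul, inv_mul_cancel₀ hne, one_smul] at this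
      linear_combination (norm := module) -this
    rw [h1, zero_smul, add_zero] at ha
    intro i
    fin_cases i
    · exact (smul_eq_zero.1 ha).resolve_right hv0
    · exact h1
    · exact h2
  let b := basisOfLinearIndependentOfCardEqFinrank li (by simp [h3])
  have hb : ⇑b = ![v, g v, x] := coe_basisOfLinearIndependentOfCardEqFinrank li _
  obtain ⟨p, q, a, hpqa⟩ : ∃ p q a, g x = p • v + q • g v + a • x := by
    refine ⟨b.repr (g x) 0, b.repr (g x) 1, b.repr (g x) 2, ?_⟩
    conv_lhs => rw [← b.sum_repr (g x)]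
    simp [Fin.sum_univ_three, hb]
  have hM : g = Matrix.toLin b b !![0, -1, p; 1, s, q; 0, 0, a] := by
    apply b.ext
    intro i
    rw [Matrix.toLin_self]
    fin_cases i <;> simp [Fin.sum_univ_three, hb, hgg, hpqa]
    module
  have ha : a = 1 := by
    have := hdet
    rw [hM, LinearMap.det_toLin, Matrix.det_fin_three] at this
    simp at this
    linear_combination this
  have hle : LinearMap.range (g - 1) ≤ Submodule.span K ({v, g v} : Set V) := by
    rintro _ ⟨y, rfl⟩
    rw [← b.sum_repr y, map_sum]
    refine sum_mem fun i _ => ?_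
    rw [map_smul]
    refine Submodule.smul_mem _ _ ?_
    rw [Submodule.mem_span_pair]
    fin_cases i
    · exact ⟨-1, 1, by simp [hb]; module⟩
    · exact ⟨-1, s - 1, by simp [hb, hgg]; module⟩
    · exact ⟨p, q, by simp [hb, hpqa, ha]⟩
  classical
  have h1 := finrank_span_finset_le_card (R := K) ({v, g v} : Finset V)
  rw [Finset.coe_pair] at h1
  unfold Set.finrank at h1
  have h2 := (Submodule.finrank_mono hle).trans (h1.trans Finset.card_le_two)
  omega

/-- The vector of the induction step. -/
theorem choose_vector (hK : More K 3) (g gi : V →ₗ[K] V) (hgi : gi * g = 1) (hgi' : g * gi = 1)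
    (hdet : LinearMap.det g = 1)
    (hrk : 2 ≤ finrank K (LinearMap.range (g - 1))) (hns : ∀ a : K, g ≠ a • LinearMap.id)
    (c : V) (hc : c ≠ 0) (r : Dual K V) (hr : r ≠ 0) :
    ∃ v : V, r v ≠ 0 ∧ g v - v ∉ Submodule.span K {v} ∧ c ∉ Submodule.span K {g v - v} ∧
      (finrank K (LinearMap.range (g - 1)) < finrank K V → g v ∉ LinearMap.range (g - 1)) ∧
      (finrank K V = 3 → finrank K (LinearMap.range (g - 1)) = 2 → (g - 1) (g v - v) ≠ 0) ∧
      (finrank K V = 3 → finrank K (LinearMap.range (g - 1)) = 3 →
        ∀ w, (g - 1) w = g v → w ∉ Submodule.span K {g v - v}) := by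
  classical
  set N := g - 1 with hN
  have hNx : ∀ y, N y = g y - y := fun y => rfl
  have hrt : LinearMap.ker r ≠ ⊤ := fun e => hr (LinearMap.ker_eq_top.1 e)
  by_cases hlt : finrank K (LinearMap.range N) < finrank K V
  · have hS1 : (Submodule.span K {c}).comap N ≠ ⊤ := by
      intro e
      have hle : LinearMap.range N ≤ Submodule.span K {c} := by
        rintro _ ⟨y, rfl⟩
        exact (Submodule.eq_top_iff'.1 e y : _)
      have h1 := Submodule.finrank_mono hle
      rw [finrank_span_singleton hc] at h1
      omega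
    have hS3 : LinearMap.range N ≠ ⊤ := by
      intro e
      rw [e, finrank_top] at hlt
      exact lt_irrefl _ hlt
    let Sk : Submodule K V := if finrank K V = 3 ∧ finrank K (LinearMap.range N) = 2 then
      (LinearMap.ker N).comap N else ⊥
    have hSk : Sk ≠ ⊤ := by
      simp only [Sk]
      split_ifs with h
      · intro e
        have hle : LinearMap.range N ≤ LinearMap.ker N := by
          rintro _ ⟨y, rfl⟩
          exact (Submodule.eq_top_iff'.1 e y : _)
        have h1 := Submodule.finrank_mono hle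
        have h2 := LinearMap.finrank_range_add_finrank_ker N
        omega
      · intro e
        have h1 := congrArg (fun S : Submodule K V => finrank K S) e
        simp [finrank_top] at h1
        omega
    obtain ⟨v, hv1, hv2, hv3, hv4⟩ := avoid_four hK _ _ _ _ hS1 hrt hS3 hSk
    rw [LinearMap.mem_ker] at hv2
    rw [Submodule.mem_comap] at hv1
    have hNv : N v ≠ 0 := fun e => hv1 (by rw [e]; exact zero_mem _)
    refine ⟨v, hv2, ?_, ?_, fun _ h => hv3 ?_, fun h1 h2 h => hv4 ?_, fun _ h => absurd h (by omega)⟩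
    · intro h
      obtain ⟨a, ha⟩ := Submodule.mem_span_singleton.1 h
      rw [← hNx] at ha
      by_cases ha0 : a = 0
      · exact hNv (by rw [← ha, ha0, zero_smul])
      · apply hv3
        have : v = a⁻¹ • N v := by rw [← ha, inv_smul_smul₀ ha0]
        rw [this]
        exact Submodule.smul_mem _ _ ⟨v, rfl⟩
    · intro h
      obtain ⟨a, ha⟩ := Submodule.mem_span_singleton.1 h
      rw [← hNx] at ha
      apply hv1
      rw [Submodule.mem_span_singleton]
      refine ⟨a⁻¹, ?_⟩
      rw [← ha, inv_smul_smul₀ fun e => hc (by rw [← ha, e, zero_smul])]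
    · have : v = g v - N v := by rw [hNx]; abel
      rw [this]
      exact sub_mem h ⟨v, rfl⟩
    · simp only [Sk, if_pos (And.intro h1 h2), Submodule.mem_comap, LinearMap.mem_ker]
      rwa [hNx v]
  · have hfull : finrank K (LinearMap.range N) = finrank K V :=
      le_antisymm (Submodule.finrank_le _) (not_lt.1 hlt)
    have hsurj : Function.Surjective N := LinearMap.range_eq_top.1 (Submodule.eq_top_of_finrank_eq hfull)
    have hinj : Function.Injective N := LinearMap.injective_iff_surjective.2 hsurj
    obtain ⟨e, he⟩ := hsurj c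
    let M : V →ₗ[K] V := if finrank K V = 3 then g + gi else g
    have hM : ∀ a : K, M ≠ a • LinearMap.id := by
      simp only [M]
      split_ifs with h
      · exact three_not_scalar g gi hgi hgi' h hdet hns (hfull.trans h)
      · exact hns
    obtain ⟨v, hv1, hv2, hv3⟩ := exists_noneigen hK M hM r e hrt (span_ne_top (by omega) e)
    have hv0 : v ≠ 0 := fun e => hv1 (by rw [e, map_zero])
    refine ⟨v, hv1, ?_, ?_, fun h => absurd hfull h.ne, fun h1 h2 => absurd h2 (by omega), ?_⟩
    · intro h
      obtain ⟨a, ha⟩ := Submodule.mem_span_singleton.1 h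
      have hgv : g v = (a + 1) • v := by rw [add_smul, one_smul, ha]; abel
      apply hv3
      rw [Submodule.mem_span_singleton]
      simp only [M]
      split_ifs
      · have hgiv : (a + 1) • gi v = v := by
          rw [← map_smul, ← hgv]
          exact LinearMap.congr_fun hgi v
        have ha1 : a + 1 ≠ 0 := fun e => hv0 (by rw [← hgiv, e, zero_smul])
        refine ⟨a + 1 + (a + 1)⁻¹, ?_⟩
        rw [LinearMap.add_apply, hgv, add_smul (a + 1), ← (inv_smul_smul₀ ha1 (gi v)), hgiv]
      · exact ⟨a + 1, hgv.symm⟩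
    · intro h
      obtain ⟨a, ha⟩ := Submodule.mem_span_singleton.1 h
      have ha0 : a ≠ 0 := fun e => hc (by rw [← ha, e, zero_smul])
      apply hv2
      rw [Submodule.mem_span_singleton]
      refine ⟨a⁻¹, ?_⟩
      apply hinj
      rw [map_smul, he, ← ha, inv_smul_smul₀ ha0, hNx]
    · intro h3 _ w hw hmem
      obtain ⟨a, ha⟩ := Submodule.mem_span_singleton.1 hmem
      have h := congrArg gi hw
      rw [← ha, show gi (g v) = v from LinearMap.congr_fun hgi v] at h
      simp only [map_smul, hNx, map_sub, show ∀ y, gi (g y) = y from fun y => LinearMap.congr_fun hgi y] at h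
      have ha0 : a ≠ 0 := fun e => hv0 (by rw [← h, e]; simp)
      apply hv3
      rw [Submodule.mem_span_singleton]
      refine ⟨a⁻¹ + 2, ?_⟩
      simp only [M, if_pos h3, LinearMap.add_apply]
      rw [add_smul]
      conv_lhs => arg 1; rw [← h, smul_sub a⁻¹, inv_smul_smul₀ ha0, inv_smul_smul₀ ha0]
      module

/-- The functionals giving a scalar operator lie in a subspace missing some admissible functional. -/
theorem bad_space (g : V →ₗ[K] V) (hg : LinearMap.ker g = ⊥) (h3 : 3 ≤ finrank K V) (v : V)
    (hv : v ∉ Submodule.span K {g v - v}) (hne : g v ≠ v) :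
    ∃ S : Submodule K (Dual K V), (∀ φ : Dual K V, ∀ _ : φ v = 1, ∀ hgv : φ (g v) = 1,
        (∃ lam : K, small g v φ hgv = lam • LinearMap.id) → φ ∈ S) ∧
      ∃ φ ∈ funcs (K := K) v (g v - v), φ ∉ S := by
  by_cases hex : ∃ φ : Dual K V, φ v = 1 ∧ ∃ hgv : φ (g v) = 1, ∃ lam : K, small g v φ hgv = lam • LinearMap.id
  · obtain ⟨φb, hb1, hb2, hbs⟩ := hex
    refine ⟨Submodule.span K {φb}, fun φ h1 h2 hs => ?_, ?_⟩
    · rw [inner_scalar_unique g hg v h3 hne h1 h2 hb1 hb2 hs hbs]
      exact Submodule.mem_span_singleton_self _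
    · obtain ⟨x, hx, hx'⟩ := exists_mem_notMem_span (A := LinearMap.ker φb)
        (by have := ker_dual_rank hb1; omega) (g v - v)
      obtain ⟨φ, hφ, hφx⟩ := funcs_witness hv hx'
      refine ⟨φ, hφ, fun hm => hφx ?_⟩
      obtain ⟨a, rfl⟩ := Submodule.mem_span_singleton.1 hm
      simp [LinearMap.mem_ker.1 hx]
  · refine ⟨⊥, fun φ h1 h2 hs => absurd ⟨φ, h1, h2, hs⟩ hex, ?_⟩
    obtain ⟨φ, h1, h2⟩ := exists_dual_of_notMem hv
    exact ⟨φ, ⟨h1, h2 _ (Submodule.mem_span_singleton_self _)⟩, fun hm => by
      rw [Submodule.mem_bot] at hm; simp [hm] at h1⟩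

/-- The induction step: choice of the vector and the functional. -/
theorem exists_step (hK : More K 3) (h4 : (2 : K) ≠ 0 → More K 4) (g : V →ₗ[K] V)
    (hn : 2 ≤ finrank K V) (hdet : LinearMap.det g = 1)
    (hrk : 2 ≤ finrank K (LinearMap.range (g - 1))) (hns : ∀ a : K, g ≠ a • LinearMap.id)
    (c : V) (hc : c ≠ 0) (r : Dual K V) (hr : r ≠ 0) :
    ∃ (v : V) (φ : Dual K V) (_ : φ v = 1) (hgv : φ (g v) = 1), φ c ≠ 0 ∧ r v ≠ 0 ∧
      (∃ u, φ (g u) ≠ φ u) ∧ g v ≠ v ∧ Ok (small g v φ hgv) (finrank K (LinearMap.ker φ)) := by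
  classical
  obtain ⟨gi, hgi', hgi⟩ := isUnit_iff_exists.1
    ((LinearMap.isUnit_iff_isUnit_det g).2 (by rw [hdet]; exact isUnit_one))
  have hker : LinearMap.ker g = ⊥ := LinearMap.ker_eq_bot'.2 fun x hx => by
    rw [← show gi (g x) = x from LinearMap.congr_fun hgi x, hx, map_zero]
  obtain ⟨v, hrv, hv1, hv2, hvA, hvB, hvC⟩ := choose_vector hK g gi hgi hgi' hdet hrk hns c hc r hr
  have hv0 : v ≠ 0 := fun e => hrv (by rw [e, map_zero])
  have hne : g v ≠ v := fun e => hv1 (by rw [e, sub_self]; exact zero_mem _)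
  have hvc : v ∉ Submodule.span K {g v - v} := by
    intro h
    obtain ⟨a, ha⟩ := Submodule.mem_span_singleton.1 h
    apply hv1
    rw [Submodule.mem_span_singleton]
    refine ⟨a⁻¹, ?_⟩
    conv_lhs => arg 2; rw [← ha]
    exact inv_smul_smul₀ (fun e => hv0 (by rw [← ha, e, zero_smul])) _
  set N := g - 1 with hN
  let Sc : Submodule K (Dual K V) := LinearMap.ker (Dual.eval K V c)
  let Sf : Submodule K (Dual K V) := LinearMap.ker N.dualMap
  let F := funcs (K := K) v (g v - v)
  have hFne : F.Nonempty := by
    obtain ⟨φ, h, -⟩ := funcs_witness hvc hv2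
    exact ⟨φ, h⟩
  have wc : ∃ φ ∈ F, φ ∉ Sc := by
    obtain ⟨φ, h, hx⟩ := funcs_witness hvc hv2
    exact ⟨φ, h, hx⟩
  have wf : ∃ φ ∈ F, φ ∉ Sf := by
    obtain ⟨x, ⟨y, rfl⟩, hx⟩ := exists_mem_notMem_span hrk (g v - v)
    obtain ⟨φ, h, hx⟩ := funcs_witness hvc hx
    refine ⟨φ, h, fun hm => hx ?_⟩
    exact LinearMap.congr_fun (LinearMap.mem_ker.1 hm) y
  have weval : ∀ x : V, x ∉ Submodule.span K {g v - v} →
      ∃ φ ∈ F, φ ∉ LinearMap.ker (Dual.eval K V x) := by
    intro x hx
    obtain ⟨φ, h, hφ⟩ := funcs_witness hvc hx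
    exact ⟨φ, h, hφ⟩
  have fin : ∀ φ ∈ F, φ ∉ Sc → φ ∉ Sf → (∀ hgv : φ (g v) = 1, φ v = 1 →
      Ok (small g v φ hgv) (finrank K (LinearMap.ker φ))) →
      ∃ (v : V) (φ : Dual K V) (_ : φ v = 1) (hgv : φ (g v) = 1), φ c ≠ 0 ∧ r v ≠ 0 ∧
        (∃ u, φ (g u) ≠ φ u) ∧ g v ≠ v ∧ Ok (small g v φ hgv) (finrank K (LinearMap.ker φ)) := by
    rintro φ ⟨h1, h2⟩ hSc hSf hok
    have hgv : φ (g v) = 1 := by rw [map_sub, h1, sub_eq_zero] at h2; exact h2
    refine ⟨v, φ, h1, hgv, hSc, hrv, ?_, hne, hok hgv h1⟩
    by_contra hh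
    push Not at hh
    apply hSf
    rw [LinearMap.mem_ker]
    ext u
    simp [hN, hh u]
  have hN3 : ∀ φ : Dual K V, φ v = 1 → 4 ≤ finrank K V → 3 ≤ finrank K (LinearMap.range N) →
      3 ≤ finrank K ((LinearMap.ker φ).map N ⊔ Submodule.span K {g v} : Submodule K V) := by
    intro φ h1 h4' h3
    have hm := map_ker_rank N h1
    by_cases hlt : finrank K (LinearMap.range N) < finrank K V
    · have := sup_span_rank (A := (LinearMap.ker φ).map N) (x := g v)
        fun h => hvA hlt (LinearMap.map_le_range h)
      omega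
    · have := Submodule.finrank_mono (le_sup_left :
        (LinearMap.ker φ).map N ≤ (LinearMap.ker φ).map N ⊔ Submodule.span K {g v})
      omega
  rcases (show finrank K V = 2 ∨ finrank K V = 3 ∨ 4 ≤ finrank K V by omega) with hd | hd | hd
  · obtain ⟨φ, hφ, hav⟩ := avoid_affine F (funcs_affine v (g v - v)) hFne [Sc, Sf]
      (more_mono hK (by simp)) (by simp only [List.mem_cons, List.not_mem_nil, or_false]; rintro S (rfl | rfl) <;> assumption)
    refine fin φ hφ (hav _ (by simp)) (hav _ (by simp)) fun hgv h1 => ⟨det_small g v φ h1 hgv hdet, Or.inl ?_⟩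
    have := ker_dual_rank h1
    omega
  · have hle3 : finrank K (LinearMap.range N) ≤ 3 := hd ▸ Submodule.finrank_le _
    obtain ⟨x, hx, hx3⟩ : ∃ x, x ∉ Submodule.span K {g v - v} ∧ ∀ φ : Dual K V, φ v = 1 → φ x ≠ 0 →
        3 ≤ finrank K ((LinearMap.ker φ).map N ⊔ Submodule.span K {g v} : Submodule K V) := by
      rcases (show finrank K (LinearMap.range N) = 2 ∨ finrank K (LinearMap.range N) = 3 by omega) with hr2 | hr3
      · have hk1 : 0 < finrank K (LinearMap.ker N) := by
          have := LinearMap.finrank_range_add_finrank_ker N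
          omega
        haveI : Nontrivial (LinearMap.ker N) := Module.nontrivial_of_finrank_pos hk1
        obtain ⟨⟨k, hk⟩, hk0⟩ := exists_ne (0 : LinearMap.ker N)
        rw [LinearMap.mem_ker] at hk
        refine ⟨k, fun h => hvB hd hr2 ?_, fun φ h1 hφ => ?_⟩
        · obtain ⟨a, ha⟩ := Submodule.mem_span_singleton.1 h
          have ha0 : a ≠ 0 := fun e => hk0 (Subtype.ext (show k = 0 by rw [← ha, e, zero_smul]))
          rw [← ha, map_smul, smul_eq_zero] at hk
          exact hk.resolve_left ha0
        · rw [map_ker_eq_range N hk hφ]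
          have := sup_span_rank (A := LinearMap.range N) (x := g v) (hvA (by omega))
          omega
      · have hsurj : Function.Surjective N :=
          LinearMap.range_eq_top.1 (Submodule.eq_top_of_finrank_eq (hr3.trans hd.symm))
        have hinj : Function.Injective N := LinearMap.injective_iff_surjective.2 hsurj
        obtain ⟨w, hw⟩ := hsurj (g v)
        refine ⟨w, hvC hd hr3 w hw, fun φ h1 hφ => ?_⟩
        have hm := map_ker_rank N h1
        have := sup_span_rank (A := (LinearMap.ker φ).map N) (x := g v) (by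
          rintro ⟨y, hy, hyw⟩
          rw [← hinj (hyw.trans hw.symm)] at hφ
          exact hφ (LinearMap.mem_ker.1 hy))
        omega
    obtain ⟨Sb, hSb, wb⟩ := bad_space g hker (by omega) v hvc hne
    by_cases h2 : (2 : K) = 0
    · obtain ⟨φ, hφ, hav⟩ := avoid_affine F (funcs_affine v (g v - v)) hFne
        [Sc, Sf, LinearMap.ker (Dual.eval K V x)] (more_mono hK (by simp))
        (by simp only [List.mem_cons, List.not_mem_nil, or_false]; rintro S (rfl | rfl | rfl)
            · exact wc
            · exact wf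
            · exact weval x hx)
      refine fin φ hφ (hav _ (by simp)) (hav _ (by simp)) fun hgv h1 => ?_
      have hk := ker_dual_rank h1
      have hrk' := small_rank g v φ hgv (hx3 φ h1 (hav (LinearMap.ker (Dual.eval K V x)) (by simp)))
      refine ⟨det_small g v φ h1 hgv hdet, Or.inr ⟨hrk', fun lam hs => ?_⟩⟩
      have hd' := det_small g v φ h1 hgv hdet
      rw [hs, LinearMap.det_smul, LinearMap.det_id, mul_one, show finrank K (LinearMap.ker φ) = 2 by omega] at hd'
      have hl : lam = 1 := sub_eq_zero.1 ((pow_eq_zero_iff two_ne_zero).1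
        (show (lam - 1) ^ 2 = 0 by linear_combination hd' - (lam - 1) * h2))
      rw [hs, hl, one_smul, show (LinearMap.id : LinearMap.ker φ →ₗ[K] _) = 1 from rfl, sub_self,
        LinearMap.range_zero, finrank_bot] at hrk'
      omega
    · obtain ⟨φ, hφ, hav⟩ := avoid_affine F (funcs_affine v (g v - v)) hFne
        [Sc, Sf, LinearMap.ker (Dual.eval K V x), Sb] (more_mono (h4 h2) (by simp))
        (by simp only [List.mem_cons, List.not_mem_nil, or_false]; rintro S (rfl | rfl | rfl | rfl)
            · exact wc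
            · exact wf
            · exact weval x hx
            · exact wb)
      refine fin φ hφ (hav _ (by simp)) (hav _ (by simp)) fun hgv h1 => ?_
      have hk := ker_dual_rank h1
      have hrk' := small_rank g v φ hgv (hx3 φ h1 (hav (LinearMap.ker (Dual.eval K V x)) (by simp)))
      exact ⟨det_small g v φ h1 hgv hdet, Or.inr ⟨hrk', fun lam hs => hav Sb (by simp) (hSb φ h1 hgv ⟨lam, hs⟩)⟩⟩
  · rcases (show finrank K (LinearMap.range N) = 2 ∨ 3 ≤ finrank K (LinearMap.range N) by omega) with hr2 | hr3
    · have hk2 : 2 ≤ finrank K (LinearMap.ker N) := by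
        have := LinearMap.finrank_range_add_finrank_ker N
        omega
      obtain ⟨k, hk, hk'⟩ := exists_mem_notMem_span hk2 (g v - v)
      rw [LinearMap.mem_ker] at hk
      obtain ⟨φ, hφ, hav⟩ := avoid_affine F (funcs_affine v (g v - v)) hFne
        [Sc, Sf, LinearMap.ker (Dual.eval K V k)] (more_mono hK (by simp))
        (by simp only [List.mem_cons, List.not_mem_nil, or_false]; rintro S (rfl | rfl | rfl)
            · exact wc
            · exact wf
            · exact weval k hk')
      refine fin φ hφ (hav _ (by simp)) (hav _ (by simp)) fun hgv h1 => ?_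
      have hrk' := small_rank g v φ hgv (by
        rw [map_ker_eq_range N hk (show φ k ≠ 0 from hav (LinearMap.ker (Dual.eval K V k)) (by simp))]
        have := sup_span_rank (A := LinearMap.range N) (x := g v) (hvA (by omega))
        omega)
      refine ⟨det_small g v φ h1 hgv hdet, Or.inr ⟨hrk', fun lam hs => ?_⟩⟩
      have h1' := small_rank_upper g v φ hgv
      have h2' := small_scalar_full g v φ hgv hs hrk'
      have := ker_dual_rank h1
      rw [← hN] at h1'
      omega
    · obtain ⟨Sb, hSb, wb⟩ := bad_space g hker (by omega) v hvc hne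
      obtain ⟨φ, hφ, hav⟩ := avoid_affine F (funcs_affine v (g v - v)) hFne
        [Sc, Sf, Sb] (more_mono hK (by simp))
        (by simp only [List.mem_cons, List.not_mem_nil, or_false]; rintro S (rfl | rfl | rfl)
            · exact wc
            · exact wf
            · exact wb)
      refine fin φ hφ (hav _ (by simp)) (hav _ (by simp)) fun hgv h1 => ?_
      exact ⟨det_small g v φ h1 hgv hdet, Or.inr ⟨small_rank g v φ hgv (hN3 φ h1 hd hr3),
        fun lam hs => hav Sb (by simp) (hSb φ h1 hgv ⟨lam, hs⟩)⟩⟩

/-- A non-scalar operator of determinant one with `rank (g - 1) ≥ 2` factors. -/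
theorem main (hK : More K 3) (h4 : (2 : K) ≠ 0 → More K 4) : ∀ (n : ℕ) (V : Type u) [AddCommGroup V]
    [Module K V] [FiniteDimensional K V], finrank K V = n → ∀ g : V →ₗ[K] V, Ok g n →
      ∀ c : V, c ≠ 0 → ∀ r : Dual K V, r ≠ 0 → Fac g n c r := by
  intro n
  induction n with
  | zero =>
    intro V _ _ _ hV g _ c hc
    haveI := Module.finrank_zero_iff.1 hV
    exact absurd (Subsingleton.elim c 0) hc
  | succ m ih =>
    intro V _ _ _ hV g hok c hc r hr
    rcases Nat.eq_zero_or_pos m with rfl | hm
    · exact base hV g hok.1 c hc r hr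
    obtain ⟨hrk, hns⟩ := hok.2.resolve_left (by omega)
    obtain ⟨v, φ, hv, hgv, hφc, hrv, hfix, hne, hok'⟩ :=
      exists_step hK h4 g (by omega) hok.1 hrk hns c hc r hr
    have hk : finrank K (LinearMap.ker φ) = m := by have := ker_dual_rank hv; omega
    rw [hk] at hok'
    exact fac_step g v φ hv hgv hm c r hφc hrv hfix
      (fun c' hc' r' hr' => ih (LinearMap.ker φ) hk _ hok' c' hc' r' hr') hne

end Cfsg.Agent.Classical.RegularFactor
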