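import Cfsg.Agent.Lib.Classical.RegularFactorChoice

/-!
# Regular unipotent matrices are conjugate; the transvection case
-/

set_option autoImplicit false
set_option linter.unusedSectionVars false

namespace Cfsg.Agent.Classical.RegularFactor

open Module Matrix

universe u

variable {K : Type u} [Field K] {n : ℕ}

/-- The standard regular unipotent matrix. -/
def IsStd (J : Matrix (Fin n) (Fin n) K) : Prop :=
  ∀ i j : Fin n, J i j = if i = j then 1 else if j.val = i.val + 1 then 1 else 0

theorem mul_std {J : Matrix (Fin n) (Fin n) K} (hJ : IsStd J) (P : Matrix (Fin n) (Fin n) K) (i j : Fin n) :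
    (P * J) i j = P i j + if h : 0 < j.val then P i ⟨j.val - 1, by omega⟩ else 0 := by
  rw [Matrix.mul_apply]
  have : ∀ k, P i k * J k j = (if k = j then P i k else 0) + (if j.val = k.val + 1 then P i k else 0) := by
    intro k
    rw [hJ k j]
    split_ifs with h1 h2 <;> simp_all
  simp only [this, Finset.sum_add_distrib, Finset.sum_ite_eq', Finset.mem_univ, if_true]
  congr 1
  split_ifs with h
  · rw [Finset.sum_eq_single (⟨j.val - 1, by omega⟩ : Fin n)]
    · simp only; rw [if_pos (by omega)]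
    · intro k _ hk
      rw [if_neg fun e => hk (Fin.ext (by simp only; omega))]
    · simp
  · exact Finset.sum_eq_zero fun k _ => if_neg (by omega)

/-- Regular unipotent matrices are conjugate to the standard one. -/
theorem conj_std (hn : 0 < n) {J : GL (Fin n) K} (hJ : IsStd (J : Matrix (Fin n) (Fin n) K))
    (A : GL (Fin n) K) (hA : ((A : Matrix (Fin n) (Fin n) K) - 1) ^ n = 0) (x : Fin n → K)
    (hx : (((A : Matrix (Fin n) (Fin n) K) - 1) ^ (n - 1)) *ᵥ x ≠ 0) :
    ∃ P : GL (Fin n) K, A = P * J * P⁻¹ := by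
  set N := (A : Matrix (Fin n) (Fin n) K) - 1 with hN
  let f : Fin n → (Fin n → K) := fun j => (N ^ (n - 1 - j.val)) *ᵥ x
  have hz : ∀ m, n ≤ m → (N ^ m) *ᵥ x = 0 := fun m hm => by
    rw [← Nat.sub_add_cancel hm, pow_add, hA, mul_zero, Matrix.zero_mulVec]
  have li : LinearIndependent K f := by
    rw [Fintype.linearIndependent_iff]
    classical
    intro a ha
    by_contra hc
    push Not at hc
    -- the largest index with nonzero coefficient
    obtain ⟨i, hi, hmax⟩ := Finset.exists_max_image (Finset.univ.filter fun j => a j ≠ 0) id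
      (by obtain ⟨i, hi⟩ := hc; exact ⟨i, by simp [hi]⟩)
    simp only [Finset.mem_filter, Finset.mem_univ, true_and, id] at hi hmax
    have h := congrArg (fun y => (N ^ i.val) *ᵥ y) ha
    simp only [Matrix.mulVec_sum, Matrix.mulVec_smul, Matrix.mulVec_zero, f, Matrix.mulVec_mulVec,
      ← pow_add] at h
    rw [Finset.sum_eq_single i] at h
    · rw [show i.val + (n - 1 - i.val) = n - 1 by omega] at h
      exact hx ((smul_eq_zero.1 h).resolve_left hi)
    · intro j _ hj
      by_cases haj : a j = 0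
      · rw [haj, zero_smul]
      · have := hmax j haj
        have : j.val < i.val := lt_of_le_of_ne this fun e => hj (Fin.ext e)
        rw [hz _ (by omega), smul_zero]
    · simp
  let P0 : Matrix (Fin n) (Fin n) K := Matrix.of fun i j => f j i
  have hP : IsUnit P0 := Matrix.linearIndependent_cols_iff_isUnit.1 li
  refine ⟨hP.unit, ?_⟩
  rw [eq_mul_inv_iff_mul_eq]
  apply Units.ext
  rw [Units.val_mul, Units.val_mul, IsUnit.unit_spec]
  ext i j
  rw [mul_std hJ]
  have h1 : ((A : Matrix (Fin n) (Fin n) K) * P0) i j = ((A : Matrix (Fin n) (Fin n) K) *ᵥ f j) i := rfl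
  rw [h1, show (A : Matrix (Fin n) (Fin n) K) = 1 + N by rw [hN]; abel, Matrix.add_mulVec, Matrix.one_mulVec,
    Pi.add_apply]
  congr 1
  simp only [f, Matrix.mulVec_mulVec, ← pow_succ']
  split_ifs with h
  · simp only [P0, Matrix.of_apply, f]
    rw [show n - 1 - (j.val - 1) = n - 1 - j.val + 1 by omega]
  · rw [hz _ (by omega)]
    rfl

/-- Powers of a strictly upper triangular matrix with ones on the superdiagonal. -/
theorem upper_pow {N : Matrix (Fin n) (Fin n) K} (h0 : ∀ i j : Fin n, j.val ≤ i.val → N i j = 0)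
    (h1 : ∀ i j : Fin n, j.val = i.val + 1 → N i j = 1) :
    ∀ k : ℕ, ∀ i j : Fin n, (j.val < i.val + k → (N ^ k) i j = 0) ∧
      (j.val = i.val + k → (N ^ k) i j = 1) := by
  intro k
  induction k with
  | zero =>
    intro i j
    rw [pow_zero]
    refine ⟨fun h => Matrix.one_apply_ne fun e => ?_, fun h => ?_⟩
    · rw [e] at h; omega
    · rw [show i = j from Fin.ext (by omega), Matrix.one_apply_eq]
  | succ k ih =>
    intro i j
    rw [pow_succ, Matrix.mul_apply]
    refine ⟨fun h => Finset.sum_eq_zero fun l _ => ?_, fun h => ?_⟩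
    · by_cases hl : l.val < i.val + k
      · rw [(ih i l).1 hl, zero_mul]
      · rw [h0 l j (by omega), mul_zero]
    · rw [Finset.sum_eq_single (⟨i.val + k, by omega⟩ : Fin n)]
      · rw [(ih i _).2 rfl, h1 _ _ (by simp only; omega), one_mul]
      · intro l _ hl
        by_cases hl' : l.val < i.val + k
        · rw [(ih i l).1 hl', zero_mul]
        · have : l.val ≠ i.val + k := fun e => hl (Fin.ext e)
          rw [h0 l j (by omega), mul_zero]
      · simp

theorem regular_upper (hn : 0 < n) {N : Matrix (Fin n) (Fin n) K}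
    (h0 : ∀ i j : Fin n, j.val ≤ i.val → N i j = 0) (h1 : ∀ i j : Fin n, j.val = i.val + 1 → N i j = 1) :
    N ^ n = 0 ∧ (N ^ (n - 1)) *ᵥ Pi.single (⟨n - 1, by omega⟩ : Fin n) 1 ≠ 0 := by
  refine ⟨?_, fun e => ?_⟩
  · ext i j
    exact (upper_pow h0 h1 n i j).1 (by omega)
  · have h := congrFun e ⟨0, hn⟩
    rw [Matrix.mulVec_single_one] at h
    rw [Matrix.col_apply, (upper_pow h0 h1 (n - 1) ⟨0, hn⟩ ⟨n - 1, by omega⟩).2 (by simp)] at h
    exact one_ne_zero h

theorem std_upper {J : Matrix (Fin n) (Fin n) K} (hJ : IsStd J) :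
    (∀ i j : Fin n, j.val ≤ i.val → (J - 1) i j = 0) ∧
      (∀ i j : Fin n, j.val = i.val + 1 → (J - 1) i j = 1) := by
  refine ⟨fun i j h => ?_, fun i j h => ?_⟩
  · rw [Matrix.sub_apply, hJ i j]
    by_cases e : i = j
    · subst e; rw [if_pos rfl, Matrix.one_apply_eq, sub_self]
    · rw [if_neg e, if_neg (by omega), Matrix.one_apply_ne e, sub_zero]
  · have e : i ≠ j := fun e => by rw [e] at h; omega
    rw [Matrix.sub_apply, hJ i j, if_neg e, if_pos h, Matrix.one_apply_ne e, sub_zero]

/-- The inverse of the standard matrix is conjugate to it. -/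
theorem inv_conj (hn : 0 < n) {J : GL (Fin n) K} (hJ : IsStd (J : Matrix (Fin n) (Fin n) K)) :
    ∃ P : GL (Fin n) K, J⁻¹ = P * J * P⁻¹ := by
  obtain ⟨h0, h1⟩ := std_upper hJ
  obtain ⟨hz, hnz⟩ := regular_upper hn h0 h1
  set Jm := (J : Matrix (Fin n) (Fin n) K) with hJm
  set Ji := ((J⁻¹ : GL (Fin n) K) : Matrix (Fin n) (Fin n) K) with hJi
  have e1 : Ji * Jm = 1 := by rw [hJi, hJm, ← Units.val_mul, inv_mul_cancel, Units.val_one]
  have e2 : Jm * Ji = 1 := by rw [hJi, hJm, ← Units.val_mul, mul_inv_cancel, Units.val_one]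
  have e3 : Ji - 1 = (-Ji) * (Jm - 1) := by rw [neg_mul, mul_sub, e1, mul_one, neg_sub]
  have hc : Commute (-Ji) (Jm - 1) := by
    refine Commute.neg_left (Commute.sub_right ?_ (Commute.one_right _))
    exact e1.trans e2.symm
  have hpow : ∀ k : ℕ, (Ji - 1) ^ k = (-Ji) ^ k * (Jm - 1) ^ k := fun k => by rw [e3, hc.mul_pow]
  refine conj_std hn hJ J⁻¹ (by rw [← hJi, hpow, hz, mul_zero]) (Pi.single (⟨n - 1, by omega⟩ : Fin n) 1) ?_
  rw [← hJi, hpow]
  intro e
  apply hnz
  have h := congrArg (fun y => ((-Jm) ^ (n - 1)) *ᵥ y) e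
  simp only [Matrix.mulVec_mulVec, Matrix.mulVec_zero] at h
  have hcc : Commute (-Jm) (-Ji) := (Commute.neg_left (Commute.neg_right (e2.trans e1.symm)))
  rw [← mul_assoc, ← hcc.mul_pow, neg_mul_neg, e2, one_pow, one_mul] at h
  exact h

/-- A basis adapted to a transvection. -/
theorem exists_frame (hn : 2 ≤ n) (c : Fin n → K) (hc : c ≠ 0) (r : Dual K (Fin n → K)) (hrc : r c = 0)
    (hr : r ≠ 0) : ∃ f : Fin n → (Fin n → K), LinearIndependent K f ∧ f ⟨0, by omega⟩ = c ∧
      ∀ j : Fin n, r (f j) = if j.val = n - 1 then 1 else 0 := by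
  obtain ⟨m, rfl⟩ : ∃ m, n = m + 2 := ⟨n - 2, by omega⟩
  obtain ⟨u, hu⟩ : ∃ u, r u = 1 := by
    obtain ⟨u, hu⟩ : ∃ u, r u ≠ 0 := by
      by_contra hh
      push Not at hh
      exact hr (LinearMap.ext hh)
    exact ⟨(r u)⁻¹ • u, by simp [inv_mul_cancel₀ hu]⟩
  obtain ⟨q, hqc, -⟩ := exists_dual_of_notMem (p := (⊥ : Submodule K (Fin (m + 2) → K))) (x := c)
    (by simpa using hc)
  set S : Submodule K (Fin (m + 2) → K) := LinearMap.ker (q.prod r) with hS
  have hmem : ∀ y : S, q y.1 = 0 ∧ r y.1 = 0 := fun y => by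
    have := LinearMap.mem_ker.1 y.2
    rwa [LinearMap.prod_apply, Function.prod_apply, Prod.mk_eq_zero] at this
  have hSd : finrank K S = m := by
    have h := LinearMap.finrank_range_add_finrank_ker (q.prod r)
    have hs : LinearMap.range (q.prod r) = ⊤ := by
      rw [LinearMap.range_eq_top]
      rintro ⟨a, b⟩
      exact ⟨(a - b * q u) • c + b • u, by simp [hqc, hrc, hu]⟩
    rw [hs, finrank_top, finrank_prod, finrank_self, finrank_fin_fun] at h
    rw [hS]
    omega
  let s := Module.finBasisOfFinrankEq K S hSd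
  let t : Fin (m + 1) → (Fin (m + 2) → K) := Fin.snoc (fun i => (s i : Fin (m + 2) → K)) u
  have hts : ∀ i : Fin m, t i.castSucc = (s i : Fin (m + 2) → K) := fun i => Fin.snoc_castSucc ..
  have htu : t (Fin.last m) = u := Fin.snoc_last ..
  have hspan : ∀ y ∈ Submodule.span K (Set.range fun i => (s i : Fin (m + 2) → K)), y ∈ S := fun y hy => by
    refine Submodule.span_le.2 ?_ hy
    rintro _ ⟨i, rfl⟩
    exact (s i).2
  have lit : LinearIndependent K t := by
    refine linearIndependent_finSnoc.2 ⟨s.linearIndependent.map' S.subtype S.ker_subtype, fun h => ?_⟩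
    have := (hmem ⟨u, hspan u h⟩).2
    exact one_ne_zero (hu.symm.trans this)
  refine ⟨Fin.cons c t, linearIndependent_fin_cons.2 ⟨lit, fun h => ?_⟩, rfl, fun j => ?_⟩
  · have hle : Submodule.span K (Set.range t) ≤ S ⊔ Submodule.span K {u} := by
      rw [Submodule.span_le]
      rintro _ ⟨i, rfl⟩
      induction i using Fin.lastCases with
      | last => rw [htu]; exact Submodule.mem_sup_right (Submodule.mem_span_singleton_self u)
      | cast i => rw [hts]; exact Submodule.mem_sup_left (s i).2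
    obtain ⟨y, hy, z, hz, hyz⟩ := Submodule.mem_sup.1 (hle h)
    obtain ⟨a, rfl⟩ := Submodule.mem_span_singleton.1 hz
    have h1 := congrArg r hyz
    rw [map_add, map_smul, hu, hrc, (hmem ⟨y, hy⟩).2, zero_add, smul_eq_mul, mul_one] at h1
    rw [h1, zero_smul, add_zero] at hyz
    rw [← hyz, (hmem ⟨y, hy⟩).1] at hqc
    exact zero_ne_one hqc
  · induction j using Fin.cases with
    | zero => simp [hrc]
    | succ i =>
      rw [Fin.cons_succ]
      induction i using Fin.lastCases with
      | last => rw [htu, hu, if_pos (by simp)]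
      | cast i => rw [hts, (hmem (s i)).2, if_neg (by simp; omega)]

/-- The case of a transvection. -/
theorem transvection_case (hn : 3 ≤ n) {J : GL (Fin n) K} (hJ : IsStd (J : Matrix (Fin n) (Fin n) K))
    (g : GL (Fin n) K) (c : Fin n → K) (hc : c ≠ 0) (r : Dual K (Fin n → K)) (hr : r ≠ 0) (hrc : r c = 0)
    (hg : ∀ y, (g : Matrix (Fin n) (Fin n) K) *ᵥ y = y + r y • c) :
    ∃ x y : GL (Fin n) K, g = (x * J * x⁻¹) * (y * J * y⁻¹) := by
  obtain ⟨f, li, hf0, hfr⟩ := exists_frame (by omega) c hc r hrc hr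
  let P0 : Matrix (Fin n) (Fin n) K := Matrix.of fun i j => f j i
  have hP : IsUnit P0 := Matrix.linearIndependent_cols_iff_isUnit.1 li
  set P := hP.unit
  -- `T` is the transvection in the new basis
  set T := P⁻¹ * g * P with hT
  have hTm : (T : Matrix (Fin n) (Fin n) K) = 1 + Matrix.single ⟨0, by omega⟩ ⟨n - 1, by omega⟩ 1 := by
    have hgP : (g : Matrix (Fin n) (Fin n) K) * P0 =
        P0 * (1 + Matrix.single (⟨0, by omega⟩ : Fin n) ⟨n - 1, by omega⟩ 1) := by
      ext i j
      have h1 : ((g : Matrix (Fin n) (Fin n) K) * P0) i j = ((g : Matrix (Fin n) (Fin n) K) *ᵥ f j) i := rfl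
      rw [h1, hg, mul_add, mul_one, Matrix.add_apply, Pi.add_apply, Pi.smul_apply, hfr]
      congr 1
      by_cases hj : j.val = n - 1
      · rw [if_pos hj, show j = (⟨n - 1, by omega⟩ : Fin n) from Fin.ext hj, Matrix.mul_single_apply_same]
        simp [P0, hf0]
      · rw [if_neg hj, zero_smul, Matrix.mul_single_apply_of_ne]
        exact fun e => hj (by rw [e])
    rw [hT, Units.val_mul, Units.val_mul, mul_assoc]
    have : ((P : GL (Fin n) K) : Matrix (Fin n) (Fin n) K) = P0 := hP.unit_spec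
    rw [this, hgP, ← mul_assoc, ← this, ← Units.val_mul, inv_mul_cancel, Units.val_one, one_mul]
  -- `J * T` is regular unipotent
  have hJT : ∀ i j : Fin n, ((J * T : GL (Fin n) K) : Matrix (Fin n) (Fin n) K) i j - (1 : Matrix (Fin n) (Fin n) K) i j =
      ((J : Matrix (Fin n) (Fin n) K) - 1) i j + if i.val = 0 ∧ j.val = n - 1 then 1 else 0 := by
    intro i j
    rw [Units.val_mul, hTm, mul_add, mul_one, Matrix.add_apply, Matrix.sub_apply]
    by_cases hj : j = ⟨n - 1, by omega⟩
    · subst hj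
      rw [Matrix.mul_single_apply_same, mul_one, hJ i ⟨0, by omega⟩]
      by_cases hi : i.val = 0
      · rw [if_pos (Fin.ext hi), if_pos ⟨hi, rfl⟩]; ring
      · rw [if_neg (fun e => hi (by rw [e])), if_neg (by simp), if_neg fun h => hi h.1]; ring
    · rw [Matrix.mul_single_apply_of_ne (hbj := hj), if_neg fun h => hj (Fin.ext h.2)]
      ring
  obtain ⟨h0, h1⟩ := std_upper hJ
  obtain ⟨hz, hnz⟩ := regular_upper (n := n) (by omega)
    (N := ((J * T : GL (Fin n) K) : Matrix (Fin n) (Fin n) K) - 1)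
    (fun i j h => by rw [Matrix.sub_apply, hJT, h0 i j h, if_neg (by omega), add_zero])
    (fun i j h => by rw [Matrix.sub_apply, hJT, h1 i j h, if_neg (by omega), add_zero])
  obtain ⟨b, hb⟩ := conj_std (by omega) hJ (J * T) hz _ hnz
  obtain ⟨a, ha⟩ := inv_conj (n := n) (by omega) hJ
  refine ⟨P * a, P * b, ?_⟩
  calc g = P * (J⁻¹ * (J * T)) * P⁻¹ := by rw [inv_mul_cancel_left, hT]; group
    _ = _ := by rw [hb]; conv_lhs => rw [ha]
                group

/-- The theorem. -/
theorem factor (hK : 4 ≤ Cardinal.mk K) (hn : 3 ≤ n) (J g : GL (Fin n) K)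
    (hJ : IsStd (J : Matrix (Fin n) (Fin n) K))
    (hg : ¬ ∃ c : K, (g : Matrix (Fin n) (Fin n) K) = c • (1 : Matrix (Fin n) (Fin n) K))
    (hdet : (g : Matrix (Fin n) (Fin n) K).det = 1) :
    ∃ x y : GL (Fin n) K, g = (x * J * x⁻¹) * (y * J * y⁻¹) := by
  set gl : (Fin n → K) →ₗ[K] (Fin n → K) := Matrix.toLin' (g : Matrix (Fin n) (Fin n) K) with hgl
  have hd : LinearMap.det gl = 1 := by rw [hgl, LinearMap.det_toLin', hdet]
  have hns : ∀ a : K, gl ≠ a • LinearMap.id := by
    intro a e
    refine hg ⟨a, Matrix.toLin'.injective ?_⟩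
    rw [← hgl, e, map_smul, Matrix.toLin'_one]
  by_cases hrk : 2 ≤ finrank K (LinearMap.range (gl - 1))
  · obtain ⟨L, U, hLU, hL, hLc, hU, x, hx⟩ := main (more_three hK) (more_four hK) n (Fin n → K)
      (by simp) gl ⟨hd, Or.inr ⟨hrk, hns⟩⟩ (Pi.single ⟨0, by omega⟩ 1) (by simp)
      (LinearMap.proj ⟨0, by omega⟩) (fun e => by simpa using LinearMap.congr_fun e (Pi.single ⟨0, by omega⟩ 1))
    let tm := (LinearMap.toMatrixAlgEquiv' (R := K) (n := Fin n))
    have key : ∀ (A : (Fin n → K) →ₗ[K] (Fin n → K)), (A - 1) ^ n = 0 → ∀ y, ((A - 1) ^ (n - 1)) y ≠ 0 →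
        ∃ P : GL (Fin n) K, tm A = ((P * J * P⁻¹ : GL (Fin n) K) : Matrix (Fin n) (Fin n) K) := by
      intro A hA y hy
      have hu : IsUnit A := by
        have := IsNilpotent.isUnit_one_add (r := A - 1) ⟨n, hA⟩
        rwa [add_sub_cancel] at this
      obtain ⟨P, hP⟩ := conj_std (n := n) (by omega) hJ (hu.map tm).unit
        (by rw [IsUnit.unit_spec, ← map_one tm, ← map_sub, ← map_pow, hA, map_zero]) y
        (by
          rw [IsUnit.unit_spec, ← map_one tm, ← map_sub, ← map_pow]
          intro e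
          apply hy
          rw [← e]
          exact (LinearMap.toMatrix'_mulVec _ y).symm)
      exact ⟨P, by rw [← hP, IsUnit.unit_spec]⟩
    obtain ⟨a, ha⟩ := key L hL _ hLc
    obtain ⟨b, hb⟩ := key U hU x fun e => hx (by rw [e, map_zero])
    refine ⟨a, b, Units.ext ?_⟩
    rw [Units.val_mul, ← ha, ← hb, ← map_mul, ← hLU, hgl]
    exact (LinearMap.toMatrix'_toLin' _).symm
  · -- `g` is a transvection
    have hne : gl - 1 ≠ 0 := fun e => hns 1 (by rw [one_smul]; exact sub_eq_zero.1 e)
    obtain ⟨y0, hy0⟩ : ∃ y, (gl - 1) y ≠ 0 := by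
      by_contra hh
      push Not at hh
      exact hne (LinearMap.ext hh)
    set c := (gl - 1) y0 with hc
    have hspan : LinearMap.range (gl - 1) = Submodule.span K {c} := by
      refine (Submodule.eq_of_le_of_finrank_le ?_ ?_).symm
      · rw [Submodule.span_singleton_le_iff_mem]
        exact ⟨y0, rfl⟩
      · rw [finrank_span_singleton hy0]
        omega
    obtain ⟨q, hqc, -⟩ := exists_dual_of_notMem (p := (⊥ : Submodule K (Fin n → K))) (x := c)
      (by simpa using hy0)
    set r : Dual K (Fin n → K) := q.comp (gl - 1) with hr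
    have hgr : gl = LinearMap.transvection r c := by
      refine LinearMap.ext fun y => ?_
      obtain ⟨a, ha⟩ := Submodule.mem_span_singleton.1 (hspan.le (⟨y, rfl⟩ : (gl - 1) y ∈ LinearMap.range (gl - 1)))
      rw [LinearMap.transvection.apply, hr, LinearMap.comp_apply, ← ha, map_smul, hqc, smul_eq_mul, mul_one, ha]
      simp
    have hrc : r c = 0 := by
      have := hd
      rw [hgr, LinearMap.transvection.det] at this
      simpa using this
    refine transvection_case hn hJ g c hy0 r (fun e => ?_) hrc fun y => ?_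
    · have h1 : r y0 = 1 := by rw [hr, LinearMap.comp_apply, ← hc, hqc]
      rw [e, LinearMap.zero_apply] at h1
      exact zero_ne_one h1
    · have h := LinearMap.congr_fun hgr y
      rwa [hgl, Matrix.toLin'_apply, LinearMap.transvection.apply] at h

end Cfsg.Agent.Classical.RegularFactor
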