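import Cfsg.Agent.Lib.Classical.RegularFactor

/-!
# Factorisations into two regular unipotent operators: the induction
-/

set_option autoImplicit false
set_option linter.unusedSectionVars false

namespace Cfsg.Agent.Classical.RegularFactor

open Module

universe u

variable {K : Type u} [Field K]

/-- The inductive hypothesis on an operator. -/
def Ok {V : Type u} [AddCommGroup V] [Module K V] (g : V →ₗ[K] V) (n : ℕ) : Prop :=
  LinearMap.det g = 1 ∧ (n = 1 ∨ (2 ≤ finrank K (LinearMap.range (g - 1)) ∧ ∀ c : K, g ≠ c • LinearMap.id))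

/-- The factorisation with the two extra conditions. -/
def Fac {V : Type u} [AddCommGroup V] [Module K V] (g : V →ₗ[K] V) (n : ℕ) (c : V) (r : Dual K V) : Prop :=
  ∃ L U : V →ₗ[K] V, g = L * U ∧ (L - 1) ^ n = 0 ∧ ((L - 1) ^ (n - 1)) c ≠ 0 ∧ (U - 1) ^ n = 0 ∧
    ∃ x, r (((U - 1) ^ (n - 1)) x) ≠ 0

variable {V : Type u} [AddCommGroup V] [Module K V]

theorem base [FiniteDimensional K V] (h1 : finrank K V = 1) (g : V →ₗ[K] V) (hdet : LinearMap.det g = 1)
    (c : V) (hc : c ≠ 0) (r : Dual K V) (hr : r ≠ 0) : Fac g 1 c r := by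
  have hg : g = 1 := by
    ext x
    obtain ⟨a, ha⟩ := (finrank_eq_one_iff_of_nonzero' c hc).1 h1 (g c)
    have hgs : g = a • LinearMap.id := by
      ext y
      obtain ⟨b, rfl⟩ := (finrank_eq_one_iff_of_nonzero' c hc).1 h1 y
      simp [← ha, smul_smul, mul_comm]
    have : a = 1 := by
      rw [hgs, LinearMap.det_smul, h1, pow_one, LinearMap.det_id, mul_one] at hdet
      exact hdet
    simp [hgs, this]
  obtain ⟨x, hx⟩ : ∃ x, r x ≠ 0 := by
    by_contra hh
    push Not at hh
    exact hr (LinearMap.ext hh)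
  exact ⟨1, 1, by rw [hg, one_mul], by simp, by simpa using hc, by simp, x, by simpa using hx⟩

section step
variable [FiniteDimensional K V] (g : V →ₗ[K] V) (v : V) (φ : Dual K V) (hv : φ v = 1) (hgv : φ (g v) = 1)

/-- The component in the hyperplane. -/
def proj : V →ₗ[K] LinearMap.ker φ :=
  LinearMap.codRestrict _ (LinearMap.id - φ.smulRight v) (fun x => by simp [hv])

theorem proj_coe (x : V) : ((proj v φ hv x : LinearMap.ker φ) : V) = x - φ x • v := rfl

theorem proj_ker (w : LinearMap.ker φ) : proj v φ hv (w : V) = w := by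
  apply Subtype.ext
  rw [proj_coe, LinearMap.mem_ker.1 w.2, zero_smul, sub_zero]

/-- The operator on the hyperplane. -/
def small : LinearMap.ker φ →ₗ[K] LinearMap.ker φ :=
  LinearMap.codRestrict _
    ((g - (φ.comp g).smulRight (g v)).comp (LinearMap.ker φ).subtype) (fun x => by simp [hgv])

theorem small_coe (w : LinearMap.ker φ) :
    ((small g v φ hgv w : LinearMap.ker φ) : V) = g w - φ (g w) • g v := rfl

include hv in
theorem det_small (hdet : LinearMap.det g = 1) : LinearMap.det (small g v φ hgv) = 1 := by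
  let e : (K × LinearMap.ker φ) ≃ₗ[K] V :=
    { toFun := fun p => p.1 • v + (p.2 : V)
      map_add' := fun p q => by simp only [Prod.fst_add, Prod.snd_add, Submodule.coe_add, add_smul]; abel
      map_smul' := fun a p => by simp [smul_add, smul_smul]
      invFun := fun x => (φ x, proj v φ hv x)
      left_inv := fun p => by
        have h1 : φ (p.1 • v + (p.2 : V)) = p.1 := by simp [hv, LinearMap.mem_ker.1 p.2.2]
        refine Prod.ext h1 (Subtype.ext ?_)
        rw [proj_coe, h1, add_sub_cancel_left]
      right_inv := fun x => by simp [proj_coe] }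
  set D : V →ₗ[K] V :=
    e.toLinearMap ∘ₗ (LinearMap.prodMap (LinearMap.id : K →ₗ[K] K) (small g v φ hgv)) ∘ₗ e.symm.toLinearMap
    with hD
  set f : Dual K V := (φ.comp g).comp ((LinearMap.ker φ).subtype.comp (proj v φ hv)) with hf
  have hfv : f v = 0 := by
    simp [hf, proj_coe, hv]
  have hc' : φ (g v - v) = 0 := by simp [hv, hgv]
  have key : g = LinearMap.transvection φ (g v - v) ∘ₗ (D ∘ₗ LinearMap.transvection f v) := by
    ext x
    have hsymm : ∀ y, e.symm y = (φ y, proj v φ hv y) := fun y => rfl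
    have happ : ∀ p, e p = p.1 • v + (p.2 : V) := fun p => rfl
    have hp : proj v φ hv (x + f x • v) = proj v φ hv x := by
      apply Subtype.ext
      simp [proj_coe, hv]
    have hy : D (x + f x • v) = (φ x + f x) • v + (g (x - φ x • v) - f x • g v) := by
      rw [hD]
      simp only [LinearMap.comp_apply, LinearEquiv.coe_coe, hsymm, LinearMap.prodMap_apply, happ,
        LinearMap.id_apply, hp, small_coe]
      simp [hf, proj_coe, hv]
    simp only [LinearMap.comp_apply, LinearMap.transvection.apply, hy]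
    have h2 : φ (g (x - φ x • v) - f x • g v) = 0 := by
      simp [hf, proj_coe, hgv]
    rw [map_add, h2, map_smul, hv, smul_eq_mul, mul_one, add_zero, map_sub, map_smul]
    module
  rw [key, LinearMap.det_comp, LinearMap.det_comp, LinearMap.transvection.det, LinearMap.transvection.det,
    hc', hfv, add_zero, one_mul, mul_one, hD, LinearMap.det_conj, LinearMap.det_prodMap, LinearMap.det_id,
    one_mul] at hdet
  exact hdet

include hv in
theorem fac_step {n : ℕ} (hn : 1 ≤ n) (c : V) (r : Dual K V) (hc : φ c ≠ 0) (hr : r v ≠ 0)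
    (hfix : ∃ u, φ (g u) ≠ φ u)
    (ih : ∀ c' : LinearMap.ker φ, c' ≠ 0 → ∀ r' : Dual K (LinearMap.ker φ), r' ≠ 0 →
      Fac (small g v φ hgv) n c' r')
    (hne : g v ≠ v) : Fac g (n + 1) c r := by
  set W := LinearMap.ker φ
  set π := proj v φ hv with hπ
  set c' : W := ⟨g v - v, by simp [W, hv, hgv]⟩ with hc'
  set r' : Dual K W := (φ.comp g).comp W.subtype with hr'
  have hc'0 : c' ≠ 0 := fun e => hne (sub_eq_zero.1 (congrArg Subtype.val e))
  have hr'0 : r' ≠ 0 := by
    intro e
    obtain ⟨u, hu⟩ := hfix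
    apply hu
    have := LinearMap.congr_fun e (π u)
    simp only [hr', hπ, LinearMap.comp_apply, Submodule.coe_subtype, proj_coe, map_sub, map_smul,
      hgv, smul_eq_mul, mul_one, LinearMap.zero_apply, sub_eq_zero] at this
    exact this
  obtain ⟨L', U', hgLU, hL1, hL2, hU1, x, hU2⟩ := ih c' hc'0 r' hr'0
  set L : V →ₗ[K] V := φ.smulRight (g v) + W.subtype ∘ₗ L' ∘ₗ π with hL
  set U : V →ₗ[K] V := (φ + r'.comp π).smulRight v + W.subtype ∘ₗ U' ∘ₗ π with hU
  have hφW : ∀ w : W, φ (w : V) = 0 := fun w => LinearMap.mem_ker.1 w.2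
  have hπv : π v = 0 := by apply Subtype.ext; simp [hπ, proj_coe, hv]
  have hπw : ∀ w : W, π (w : V) = w := fun w => proj_ker v φ hv w
  have hgU : g = L * U := by
    ext y
    simp only [Module.End.mul_apply, hL, hU, LinearMap.add_apply, LinearMap.smulRight_apply,
      LinearMap.comp_apply, Submodule.coe_subtype, map_add, map_smul, hv, hφW, hπv, hπw, map_zero,
      smul_eq_mul, mul_one, add_zero, smul_zero, zero_add, Submodule.coe_zero]
    have h1 : ((L' (U' (π y)) : W) : V) = g (π y : V) - φ (g (π y : V)) • g v := by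
      rw [← small_coe g v φ hgv, hgLU]
      rfl
    rw [h1, hr']
    have hpy : (π y : V) = y - φ y • v := proj_coe v φ hv y
    simp only [LinearMap.comp_apply, Submodule.coe_subtype, hpy, map_sub, map_smul, smul_eq_mul, hgv]
    module
  have hLw : ∀ (j : ℕ) (w : W), ((L - 1) ^ j) (w : V) = (((L' - 1) ^ j) w : W) := by
    intro j
    induction j with
    | zero => simp
    | succ j ihj =>
      intro w
      rw [pow_succ, pow_succ, Module.End.mul_apply, Module.End.mul_apply]
      have : (L - 1) (w : V) = (((L' - 1) w : W) : V) := by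
        simp [hL, hφW, hπw]
      rw [this, ihj]
  have hLv : ∀ j : ℕ, ((L - 1) ^ (j + 1)) v = (((L' - 1) ^ j) c' : W) := by
    intro j
    rw [pow_succ, Module.End.mul_apply]
    have : (L - 1) v = (c' : V) := by simp [hL, hv, hπv, hc']
    rw [this, hLw]
  have hUv : ∀ j : ℕ, ((U - 1) ^ (j + 1)) v = 0 := by
    intro j
    rw [pow_succ, Module.End.mul_apply]
    have : (U - 1) v = 0 := by simp [hU, hv, hπv]
    rw [this, map_zero]
  have hUw : ∀ (j : ℕ) (w : W), ((U - 1) ^ (j + 1)) (w : V) =
      r' (((U' - 1) ^ j) w) • v + (((U' - 1) ^ (j + 1)) w : W) := by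
    intro j
    have h0 : ∀ w : W, (U - 1) (w : V) = r' w • v + (((U' - 1) w : W) : V) := fun w => by
      simp [hU, hφW, hπw]
      abel
    induction j with
    | zero => intro w; simp [h0]
    | succ j ihj =>
      intro w
      rw [pow_succ' (U - 1) (j + 1), Module.End.mul_apply, ihj, map_add, map_smul, h0,
        pow_succ' (U' - 1) (j + 1), Module.End.mul_apply]
      rw [show (U - 1) v = 0 by simpa using hUv 0, smul_zero, zero_add]
  have hdec : ∀ y : V, y = φ y • v + (π y : V) := fun y => by simp [hπ, proj_coe]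
  obtain ⟨k, rfl⟩ : ∃ k, n = k + 1 := ⟨n - 1, by omega⟩
  refine ⟨L, U, hgU, ?_, ?_, ?_, ⟨(x : V), ?_⟩⟩
  · ext y
    rw [hdec y, map_add, map_smul, hLv, hLw, pow_succ' (L' - 1) (k + 1), Module.End.mul_apply, hL1]
    simp
  · rw [Nat.add_sub_cancel, hdec c, map_add, map_smul, hLv, hLw, hL1]
    simp only [LinearMap.zero_apply, Submodule.coe_zero, add_zero]
    intro e
    rcases smul_eq_zero.1 e with e | e
    · exact hc e
    · exact hL2 (by simpa using e)
  · ext y
    rw [hdec y, map_add, map_smul, hUv, hUw, hU1]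
    simp only [LinearMap.zero_apply, map_zero, zero_smul, smul_zero, zero_add]
    rw [pow_succ', Module.End.mul_apply, hU1]
    simp
  · rw [Nat.add_sub_cancel, hUw, map_add, map_smul, hU1]
    simp only [LinearMap.zero_apply, Submodule.coe_zero, map_zero, add_zero, smul_eq_mul]
    exact mul_ne_zero (by simpa using hU2) hr

end step

/-! ## The choice of the vector and of the functional -/

variable [FiniteDimensional K V]

theorem span_ne_top (h2 : 2 ≤ finrank K V) (e : V) : Submodule.span K {e} ≠ ⊤ := by
  intro h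
  have h1 := finrank_span_le_card (R := K) ({e} : Set V)
  rw [h, finrank_top] at h1
  simp at h1
  omega

theorem inner_scalar_unique (g : V →ₗ[K] V) (hg : LinearMap.ker g = ⊥) (v : V) (h3 : 3 ≤ finrank K V)
    (hgne : g v ≠ v) {φ φ' : Dual K V} (hv : φ v = 1) (hgv : φ (g v) = 1) (hv' : φ' v = 1) (hgv' : φ' (g v) = 1)
    (hs : ∃ lam : K, small g v φ hgv = lam • LinearMap.id)
    (hs' : ∃ lam : K, small g v φ' hgv' = lam • LinearMap.id) : φ = φ' := by
  obtain ⟨a, ha⟩ := hs
  obtain ⟨b, hb⟩ := hs'
  by_contra hne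
  have e1 : ∀ w : V, φ w = 0 → g w = a • w + φ (g w) • g v := fun w hw => by
    have := congrArg Subtype.val (LinearMap.congr_fun ha ⟨w, LinearMap.mem_ker.2 hw⟩)
    simp [small_coe] at this
    linear_combination (norm := module) this
  have e2 : ∀ w : V, φ' w = 0 → g w = b • w + φ' (g w) • g v := fun w hw => by
    have := congrArg Subtype.val (LinearMap.congr_fun hb ⟨w, LinearMap.mem_ker.2 hw⟩)
    simp [small_coe] at this
    linear_combination (norm := module) this
  obtain ⟨w, hw, hw0⟩ : ∃ w, (φ w = 0 ∧ φ' w = 0) ∧ w ≠ 0 := by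
    by_contra hc
    push Not at hc
    have hinj : Function.Injective (φ.prod φ') := by
      rw [injective_iff_map_eq_zero]
      intro w hw
      rw [LinearMap.prod_apply, Function.prod_apply, Prod.mk_eq_zero] at hw
      exact hc w hw
    have := LinearMap.finrank_le_finrank_of_injective hinj
    rw [finrank_prod, finrank_self] at this
    omega
  have hab : a = b := by
    have := (e1 w hw.1).symm.trans (e2 w hw.2)
    have h1 := congrArg φ this
    simp [hw.1, hgv] at h1
    rw [h1] at this
    have h2 : (a - b) • w = 0 := by linear_combination (norm := module) this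
    exact sub_eq_zero.1 ((smul_eq_zero.1 h2).resolve_right hw0)
  subst hab
  obtain ⟨u, hu⟩ : ∃ u, φ u ≠ φ' u := by
    by_contra hc
    push Not at hc
    exact hne (LinearMap.ext hc)
  set p := u - φ u • v with hp
  have hpφ : φ p = 0 := by simp [hp, hv]
  have hpφ' : φ' p = φ' u - φ u := by simp [hp, hv']
  set q := p - φ' p • v with hq
  have hqφ' : φ' q = 0 := by simp [hq, hv']
  have hgq : g q = a • p + φ (g p) • g v - φ' p • g v := by rw [hq, map_sub, map_smul, ← e1 p hpφ]
  have e' := hgq.symm.trans (e2 q hqφ')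
  have hq' : a • q = a • p - (a * φ' p) • v := by rw [hq, smul_sub, smul_smul]
  have hd : φ' p ≠ 0 := by rw [hpφ']; exact sub_ne_zero.2 (Ne.symm hu)
  have ha0 : a ≠ 0 := by
    intro e
    have h := e1 w hw.1
    rw [e, zero_smul, zero_add] at h
    have hker : w - φ (g w) • v ∈ LinearMap.ker g := by
      rw [LinearMap.mem_ker, map_sub, map_smul, ← h, sub_self]
    rw [hg, Submodule.mem_bot, sub_eq_zero] at hker
    have h0 := congrArg φ hker
    simp [hw.1, hv] at h0
    rw [← h0, zero_smul] at hker
    exact hw0 hker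
  have h2 : (φ (g p) - φ' p - φ' (g q)) • g v + (a * φ' p) • v = 0 := by
    linear_combination (norm := module) e' + hq'
  have h4 : φ (g p) - φ' p - φ' (g q) = -(a * φ' p) := by
    have := congrArg φ' h2
    simp only [map_add, map_smul, map_zero, hgv', hv', smul_eq_mul, mul_one] at this
    linear_combination this
  rw [h4] at h2
  have h5 : g v = v := by
    have : (a * φ' p) • (v - g v) = 0 := by linear_combination (norm := module) h2
    exact (sub_eq_zero.1 ((smul_eq_zero.1 this).resolve_left (mul_ne_zero ha0 hd))).symm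
  exact hgne h5

end Cfsg.Agent.Classical.RegularFactor
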