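/-
Lines of abstract root subgroups: translations.
-/
import Mathlib
import Cfsg.Prelude.Def_RootSubgroups
import Cfsg.Agent.Lib.Classical.RankOneCommutator

set_option autoImplicit false

namespace Cfsg.Agent.Classical.RankOne

open scoped commutatorElement

variable {G : Type*} [Group G] {S : Set (Subgroup G)}

/-- Non-trivial conjugates under `B` generate `A [A, B]` with `A`. -/
theorem sup_conjBy {A B : Subgroup G} (h : Cfsg.RootCommutatorCase S A B) {b : G} (hb : b ∈ B) (hb1 : b ≠ 1) :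
    A ⊔ Cfsg.conjBy A b = A ⊔ ⁅A, B⁆ := by
  refine le_antisymm (sup_le le_sup_left (conj_le_sup hb)) (sup_le le_sup_left ?_)
  conv_lhs => rw [← h.2.2.2 b hb hb1]
  rw [Subgroup.closure_le]
  rintro _ ⟨a, ha, rfl⟩
  rw [SetLike.mem_coe]
  show a * b * a⁻¹ * b⁻¹ ∈ _
  rw [show a * b * a⁻¹ * b⁻¹ = a * (b * a⁻¹ * b⁻¹) by group]
  exact mul_mem (Subgroup.mem_sup_left ha) (Subgroup.mem_sup_right ⟨a⁻¹, inv_mem ha, rfl⟩)

/-- `B` normalises `A [A, B]`. -/
theorem conj_line {A B : Subgroup G} (h : Cfsg.RootCommutatorCase S A B) {b : G} (hb : b ∈ B) :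
    Cfsg.conjBy (A ⊔ ⁅A, B⁆) b = A ⊔ ⁅A, B⁆ := by
  have key : ∀ y ∈ B, Cfsg.conjBy (A ⊔ ⁅A, B⁆) y ≤ A ⊔ ⁅A, B⁆ := fun y hy => by
    rw [conjBy_sup, conjBy_eq_self_of_comm (A := ⁅A, B⁆)
      (fun c hc => (h.2.1 c hc y (Subgroup.mem_sup_right hy)).symm)]
    exact sup_le (conj_le_sup hy) le_sup_right
  refine le_antisymm (key b hb) ?_
  have h1 := conjBy_le (g := b) (key b⁻¹ (inv_mem hb))
  rwa [conjBy_cancel'] at h1

/-- Members inside a line partition give root elements `z * a`. -/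
theorem line_translate (hS : Cfsg.IsRootSubgroupSet S) {A A' B : Subgroup G} (hA : A ∈ S) (hA' : A' ∈ S)
    (hB : B ∈ Cfsg.linePartners S A) (hAA : Cfsg.IsRankOnePair A A') {z : G} (hz : z ∈ A ⊔ B)
    (hzA : z ∉ A) (hcA : ∀ x ∈ A', z * x = x * z) : False := by
  obtain ⟨⟨hBS, -, hcomm⟩, hpart⟩ := hB
  have hzA' : ∀ x ∈ A, z * x = x * z := by
    intro x hx
    have hle : A ⊔ B ≤ Subgroup.centralizer {x} := by
      refine sup_le ?_ ?_ <;> intro y hy <;> rw [Subgroup.mem_centralizer_singleton_iff]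
      · exact commute_of_bracket_bot (commutative_bracket (hS.commutative A hA)) hy hx
      · exact (commute_of_bracket_bot hcomm hx hy).symm
    exact Subgroup.mem_centralizer_singleton_iff.1 (hle hz)
  obtain ⟨a, ha, ha1⟩ := left_ne_bot hAA
  have hza : z * a ≠ 1 := fun e => hzA (by rw [eq_inv_of_mul_eq_one_left e]; exact inv_mem ha)
  obtain ⟨E, hE, hzE⟩ := hpart.2.1 (z * a) (mul_mem hz (Subgroup.mem_sup_left ha)) hza
  refine centralizing_translate hS hA ⟨hA', hAA⟩ ?_ (fun e => hzA (by rw [e]; exact one_mem _)) a ha ha1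
    ⟨hza, E, hE.1, hzE⟩
  refine Subgroup.mem_centralizer_iff.2 fun w hw => ?_
  have hle : A ⊔ A' ≤ Subgroup.centralizer {z} := by
    refine sup_le ?_ ?_ <;> intro y hy <;> rw [Subgroup.mem_centralizer_singleton_iff]
    · exact (hzA' y hy).symm
    · exact (hcA y hy).symm
  exact Subgroup.mem_centralizer_singleton_iff.1 (hle hw)

/-- A member of the line with the commutator case gives a translation. -/
theorem translation_of_case (hS : Cfsg.IsRootSubgroupSet S) {A A' B E : Subgroup G} (hA : A ∈ S)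
    (hA' : A' ∈ S) (hB : B ∈ Cfsg.linePartners S A) (hAA : Cfsg.IsRankOnePair A A')
    (hE : E ∈ S) (hEle : E ≤ A ⊔ B) (hEA : E ≠ A) (hEpair : ∃ E', E' ∈ S ∧ Cfsg.IsRankOnePair E E')
    (hcase : Cfsg.RootCommutatorCase S E A') :
    ⁅E, A'⁆ ∈ S ∧ ⁅A, ⁅E, A'⁆⁆ = E := by
  obtain ⟨⟨hBS, hBA0, hcomm⟩, hpart⟩ := hB
  set C := ⁅E, A'⁆ with hC
  have hAE : ⁅A, E⁆ = ⊥ := by
    refine le_bot_iff.1 ((Subgroup.commutator_mono le_rfl hEle).trans_eq ?_)
    rw [Subgroup.commutator_comm, Subgroup.commutator_eq_bot_iff_le_centralizer]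
    exact sup_le (Subgroup.commutator_eq_bot_iff_le_centralizer.1
        (commutative_bracket (hS.commutative A hA)))
      (Subgroup.commutator_eq_bot_iff_le_centralizer.1 (by rwa [Subgroup.commutator_comm]))
  have hEA' : ∀ e ∈ E, ∀ a ∈ A, Commute e a := fun e he a ha => (commute_of_bracket_bot hAE ha he).symm
  refine ⟨hcase.1, ?_⟩
  -- `(A, C)` is in the commutator case
  have hAC : Cfsg.RootCommutatorCase S A C := by
    rcases hS.pair A hA C hcase.1 with h | h | h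
    · exfalso
      obtain ⟨e, he, he1⟩ := left_ne_bot hEpair.choose_spec.2
      obtain ⟨x, hx, hxe⟩ : ∃ x ∈ A', ¬ Commute e x := by
        by_contra hno
        simp only [not_exists, not_and, not_not] at hno
        exact line_translate hS hA hA' ⟨⟨hBS, hBA0, hcomm⟩, hpart⟩ hAA (hEle he)
          (fun heA => hEA (eq_of_inter hS hAA hA' hE heA he he1)) (fun x hx => (hno x hx).eq)
      -- `A` centralises `E ⊔ C`, which `A'` normalises
      have hN : ∀ g ∈ A ⊔ A', Cfsg.conjBy (E ⊔ C) g = E ⊔ C := by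
        intro g hg
        have hle : A ⊔ A' ≤ Subgroup.normalizer ((E ⊔ C : Subgroup G) : Set G) := by
          refine sup_le (fun y hy => mem_normalizer_iff_conjBy.2 ?_)
            (fun y hy => mem_normalizer_iff_conjBy.2 (conj_line hcase hy))
          rw [conjBy_sup, conjBy_eq_self_of_comm fun e he => (hEA' e he y hy).symm.eq,
            conjBy_eq_self_of_comm fun c hc => commute_of_bracket_bot h hy hc]
        exact mem_normalizer_iff_conjBy.1 (hle hg)
      obtain ⟨g, hg, hgA⟩ := right_mem hAA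
      apply hxe
      rw [hgA] at hx
      obtain ⟨y, hy, rfl⟩ := hx
      have hm : g⁻¹ * e * g ∈ E ⊔ C := by
        rw [← mem_conjBy, hN g hg]; exact Subgroup.mem_sup_left he
      have hcen : E ⊔ C ≤ Subgroup.centralizer {y} := by
        refine sup_le ?_ ?_ <;> intro w hw <;> rw [Subgroup.mem_centralizer_singleton_iff]
        · exact (hEA' w hw y hy).eq
        · exact (commute_of_bracket_bot h hy hw).symm
      have e2 := Subgroup.mem_centralizer_singleton_iff.1 (hcen hm)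
      show e * (g * y * g⁻¹) = g * y * g⁻¹ * e
      calc e * (g * y * g⁻¹) = g * (g⁻¹ * e * g * y) * g⁻¹ := by group
        _ = g * (y * (g⁻¹ * e * g)) * g⁻¹ := by rw [e2]
        _ = _ := by group
    · exfalso
      obtain ⟨e, he, he1⟩ := left_ne_bot hEpair.choose_spec.2
      exact line_translate hS hA hcase.1 ⟨⟨hBS, hBA0, hcomm⟩, hpart⟩ h (hEle he)
        (fun heA => hEA (eq_of_inter hS hAA hA' hE heA he he1))
        (fun c hc => (hcase.2.1 c hc e (Subgroup.mem_sup_left he)).symm)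
    · exact h
  -- an element of `E` conjugated by a partner gives the equality
  obtain ⟨a, ha, ha1⟩ := left_ne_bot hAA
  obtain ⟨a', ha', -, hU⟩ := hAA.cond_left a ha ha1
  obtain ⟨e, he, he1⟩ := left_ne_bot hEpair.choose_spec.2
  obtain ⟨E', hE', hEE⟩ := hEpair
  set z := a'⁻¹ * e * a' with hz
  have hzU : ∀ x ∈ A', Commute (a * z * a⁻¹) x := by
    intro x hx
    have hmem : a⁻¹ * x * a⁻¹⁻¹ ∈ Cfsg.conjBy A a'⁻¹ := hU.symm ▸ ⟨x, hx, rfl⟩
    obtain ⟨y, hy, hye⟩ := hmem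
    change a'⁻¹ * y * a'⁻¹⁻¹ = a⁻¹ * x * a⁻¹⁻¹ at hye
    rw [inv_inv, inv_inv] at hye
    have h1 : Commute z (a⁻¹ * x * a) := by
      rw [← hye, hz]
      have := (hEA' e he y hy).map (MulAut.conj a'⁻¹).toMonoidHom
      simpa [MulEquiv.toMonoidHom_eq_coe, MulAut.conj_apply] using this
    have := h1.map (MulAut.conj a).toMonoidHom
    simp only [MulEquiv.toMonoidHom_eq_coe, MonoidHom.coe_coe, MulAut.conj_apply] at this
    rwa [show a * (a⁻¹ * x * a) * a⁻¹ = x by group] at this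
  set c := e⁻¹ * z with hc
  have hcC : c ∈ C := by
    rw [show c = ⁅e⁻¹, a'⁻¹⁆ by rw [hc, hz, commutatorElement_def]; group]
    exact Subgroup.commutator_mem_commutator (inv_mem he) (inv_mem ha')
  set f := ⁅a, c⁆ with hf
  have hfF : f ∈ ⁅A, C⁆ := Subgroup.commutator_mem_commutator ha hcC
  have haz : a * z * a⁻¹ = e * f * c := by
    have h1 : a * e = e * a := (hEA' e he a ha).symm.eq
    rw [show z = e * c by rw [hc, mul_inv_cancel_left], hf, commutatorElement_def,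
      show a * (e * c) * a⁻¹ = (a * e) * c * a⁻¹ by group, h1]
    group
  have hw : ∀ x ∈ A', Commute (e * f) x := fun x hx => by
    have hcx : Commute c x := hcase.2.1 c hcC x (Subgroup.mem_sup_right hx)
    have := (hzU x hx).mul_left hcx.inv_left
    rwa [haz, mul_inv_cancel_right] at this
  have hef : e * f = 1 := by
    by_contra hne
    have hfA : ∀ x ∈ A, Commute f x := fun x hx => hAC.2.1 f hfF x (Subgroup.mem_sup_left hx)
    obtain ⟨d, hd, hd'⟩ := exists_bracket_eq hAC (inv_mem ha) (inv_ne_one.2 ha1) hfF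
    have hcen : e * f ∈ Subgroup.centralizer ((A ⊔ A' : Subgroup G) : Set G) := by
      refine Subgroup.mem_centralizer_iff.2 fun w hw' => ?_
      have hle : A ⊔ A' ≤ Subgroup.centralizer {e * f} := by
        refine sup_le ?_ ?_ <;> intro y hy <;> rw [Subgroup.mem_centralizer_singleton_iff]
        · exact ((hEA' e he y hy).mul_left (hfA y hy)).symm.eq
        · exact (hw y hy).symm.eq
      exact Subgroup.mem_centralizer_singleton_iff.1 (hle hw')
    have hea : e * a ≠ 1 := fun h0 => hEA (eq_of_inter hS hAA hA' hE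
      (by rw [eq_inv_of_mul_eq_one_left h0]; exact inv_mem ha : e ∈ A) he he1)
    obtain ⟨M, hM, heaM⟩ := hpart.2.1 (e * a)
      (mul_mem (hEle he) (Subgroup.mem_sup_left ha)) hea
    have hconj : e * f * a = d * (e * a) * d⁻¹ := by
      have hde : Commute d e := (hcase.2.1 d hd e (Subgroup.mem_sup_left he))
      have e1 : d * a * d⁻¹ = a * f := by rw [← hd', commutatorElement_def]; group
      calc e * f * a = e * (a * f) := by rw [mul_assoc, (hfA a ha).eq]
        _ = (d * e) * a * d⁻¹ := by rw [← e1, hde.eq]; group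
        _ = _ := by group
    refine centralizing_translate hS hA ⟨hA', hAA⟩ hcen hne a ha ha1 ⟨?_, Cfsg.conjBy M d,
      hS.conj_mem M hM.1 d, ⟨e * a, heaM, hconj.symm⟩⟩
    rw [hconj]
    intro h0
    exact hea (by rwa [mul_inv_eq_one, mul_eq_left] at h0)
  refine eq_of_inter hS hEE hE' hAC.1 he ?_ he1
  rw [eq_inv_of_mul_eq_one_left hef]
  exact inv_mem hfF

/-- On each line through `A` some point is in the commutator case with a given rank one partner of `A`. -/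
theorem exists_case_point (hS : Cfsg.IsRootSubgroupSet S)
    (hall : ∀ A ∈ S, ∃ A', A' ∈ S ∧ Cfsg.IsRankOnePair A A')
    {A A' B : Subgroup G} (hA : A ∈ S) (hA' : A' ∈ S) (hAA : Cfsg.IsRankOnePair A A')
    (hB : B ∈ Cfsg.linePartners S A) :
    ∃ E, E ∈ S ∧ E ≠ A ∧ Cfsg.RootCommutatorCase S E A' ∧ ⁅A, ⁅E, A'⁆⁆ = E ∧ A ⊔ E = A ⊔ B := by
  obtain ⟨⟨hBS, hBA, hcomm⟩, hpart⟩ := hB
  have hB' : B ∈ Cfsg.linePartners S A := ⟨⟨hBS, hBA, hcomm⟩, hpart⟩
  obtain ⟨b, hb, hb1⟩ := (Subgroup.bot_or_exists_ne_one _).resolve_left (hS.ne_bot _ hBS)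
  have hbA : b ∉ A := fun h => hBA (eq_of_inter hS hAA hA' hBS h hb hb1)
  rcases hS.pair B hBS A' hA' with h | h | h
  · exact absurd (fun x hx => commute_of_bracket_bot h hb hx)
      (fun hc => line_translate hS hA hA' hB' hAA (Subgroup.mem_sup_right hb) hbA hc)
  · -- another point of the line is not a partner of `A'`
    obtain ⟨a', ha', ha'1, hU⟩ := h.cond_left b⁻¹ (inv_mem hb) (inv_ne_one.2 hb1)
    rw [inv_inv] at hU
    obtain ⟨a, ha, ha1, hW⟩ := hAA.cond_right a' ha' ha'1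
    set e := a * b with he
    have he1 : e ≠ 1 := fun h0 => hbA (by rw [eq_inv_of_mul_eq_one_right h0]; exact inv_mem ha)
    have heA : e ∉ A := fun h0 => hbA (by
      have := mul_mem (inv_mem ha) h0; rwa [he, inv_mul_cancel_left] at this)
    obtain ⟨E, hE, heE⟩ := hpart.2.1 e (mul_mem (Subgroup.mem_sup_left ha) (Subgroup.mem_sup_right hb)) he1
    have hEA : E ≠ A := fun h0 => heA (h0 ▸ heE)
    have hcommconj : ⁅Cfsg.conjBy A' e, A'⁆ = ⊥ := by
      have h1 : ⁅Cfsg.conjBy A a'⁻¹, Cfsg.conjBy B a'⁻¹⁆ = ⊥ := by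
        rw [Cfsg.conjBy, Cfsg.conjBy, ← Subgroup.map_commutator, hcomm, Subgroup.map_bot]
      have hU' : Cfsg.conjBy B a'⁻¹ = Cfsg.conjBy A' b := hU
      rw [hU', ← hW] at h1
      have h2 := congrArg (fun K : Subgroup G => Cfsg.conjBy K a) h1
      change (Subgroup.map _ ⁅_, _⁆) = Subgroup.map _ ⊥ at h2
      rw [Subgroup.map_commutator, Subgroup.map_bot] at h2
      change ⁅Cfsg.conjBy (Cfsg.conjBy A' a⁻¹) a, Cfsg.conjBy (Cfsg.conjBy A' b) a⁆ = ⊥ at h2
      rw [conjBy_cancel', ← conjBy_mul, Subgroup.commutator_comm] at h2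
      exact h2
    rcases hS.pair E hE.1 A' hA' with k | k | k
    · exact absurd (fun x hx => commute_of_bracket_bot k heE hx)
        (fun hc => line_translate hS hA hA' hB' hAA (hE.2 heE) heA hc)
    · refine absurd hcommconj (not_commuting (pair_of_ne k ?_ (right_mem k) ?_).1)
      · exact conj_mem' (right_mem k) (Subgroup.mem_sup_left heE)
      · intro h0
        exact he1 (fix_right k heE h0)
    · obtain ⟨hC, hEq⟩ := translation_of_case hS hA hA' hB' hAA hE.1 hE.2 hEA (hall E hE.1) k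
      have hcase := commutator_case hS hA hC (hEq.symm ▸ hE.1)
      refine ⟨E, hE.1, hEA, k, hEq, le_antisymm (sup_le le_sup_left hE.2) (sup_le le_sup_left ?_)⟩
      have hbE : b ∈ A ⊔ ⁅A, ⁅E, A'⁆⁆ := by
        rw [hEq, show b = a⁻¹ * e by rw [he, inv_mul_cancel_left]]
        exact mul_mem (Subgroup.mem_sup_left (inv_mem ha)) (Subgroup.mem_sup_right heE)
      obtain ⟨M, hM, hbM⟩ := (partition_sup hS hAA hA hA' hC hcase).2.1 b hbE hb1
      obtain ⟨B', hB'S, hBB⟩ := hall B hBS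
      have hMB : M = B := eq_of_inter hS hBB hB'S hM.1 hb hbM hb1
      have hle := hM.2
      rw [hMB, hEq] at hle
      exact hle
  · obtain ⟨hC, hEq⟩ := translation_of_case hS hA hA' hB' hAA hBS le_sup_right hBA (hall B hBS) h
    exact ⟨B, hBS, hBA, h, hEq, rfl⟩

/-- A line has a translation fixing one of its points and moving `A`. -/
theorem exists_translation (hS : Cfsg.IsRootSubgroupSet S)
    (hall : ∀ A ∈ S, ∃ A', A' ∈ S ∧ Cfsg.IsRankOnePair A A')
    {A B : Subgroup G} (hA : A ∈ S) (hB : B ∈ Cfsg.linePartners S A) :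
    ∃ E D, D ∈ S ∧ Cfsg.RootCommutatorCase S A D ∧ ⁅A, D⁆ = E ∧ A ⊔ E = A ⊔ B := by
  obtain ⟨A', hA', hAA⟩ := hall A hA
  obtain ⟨E, hE, -, k, hEq, hsup⟩ := exists_case_point hS hall hA hA' hAA hB
  exact ⟨E, _, k.1, commutator_case hS hA k.1 (hEq.symm ▸ hE), hEq, hsup⟩

/-- The point given by `exists_case_point` is a line partner. -/
theorem linePartner_of_sup {A B E : Subgroup G} (hE : E ∈ S) (hEA : E ≠ A)
    (hsup : A ⊔ E = A ⊔ B) (hS : Cfsg.IsRootSubgroupSet S) (hB : B ∈ Cfsg.linePartners S A)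
    (hA : A ∈ S) : E ∈ Cfsg.linePartners S A := by
  refine ⟨⟨hE, hEA, le_bot_iff.1 ((Subgroup.commutator_mono le_rfl
    ((le_sup_right : E ≤ A ⊔ E).trans hsup.le)).trans_eq ?_)⟩, hsup ▸ hB.2⟩
  rw [Subgroup.commutator_comm, Subgroup.commutator_eq_bot_iff_le_centralizer]
  exact sup_le (Subgroup.commutator_eq_bot_iff_le_centralizer.1
      (commutative_bracket (hS.commutative A hA)))
    (Subgroup.commutator_eq_bot_iff_le_centralizer.1 (by rw [Subgroup.commutator_comm]; exact hB.1.2.2))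

/-- Any two different points of a line span it, and each is a line partner of the other. -/
theorem line_pair (hS : Cfsg.IsRootSubgroupSet S) {A D E M N : Subgroup G} {A' : Subgroup G}
    (hAA : Cfsg.IsRankOnePair A A') (hA : A ∈ S) (hA' : A' ∈ S) (hD : D ∈ S)
    (hcase : Cfsg.RootCommutatorCase S A D) (hE : ⁅A, D⁆ = E)
    (hM : M ∈ Cfsg.membersIn S (A ⊔ E)) (hN : N ∈ Cfsg.membersIn S (A ⊔ E)) (hne : M ≠ N) :
    M ⊔ N = A ⊔ E ∧ N ∈ Cfsg.linePartners S M := by
  subst hE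
  have hpart := partition_sup hS hAA hA hA' hD hcase
  have hline : ∀ d ∈ D, Cfsg.conjBy A d ⊔ ⁅A, D⁆ = A ⊔ ⁅A, D⁆ := fun d hd => by
    conv_rhs => rw [← conj_line hcase hd]
    rw [conjBy_sup, conjBy_eq_self_of_comm (A := ⁅A, D⁆)
      (fun c hc => (hcase.2.1 c hc d (Subgroup.mem_sup_right hd)).symm)]
  have hsup : M ⊔ N = A ⊔ ⁅A, D⁆ := by
    have hM' := hM; have hN' := hN
    rw [membersIn_sup hS hAA hA hA' hD hcase] at hM' hN'
    rcases hM' with ⟨d, hd, rfl⟩ | rfl <;> rcases hN' with ⟨d', hd', rfl⟩ | rfl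
    · have hd1 : d⁻¹ * d' ≠ 1 := fun e => hne (by rw [inv_mul_eq_one.1 e])
      show Cfsg.conjBy A d ⊔ Cfsg.conjBy A d' = _
      rw [show Cfsg.conjBy A d' = Cfsg.conjBy (Cfsg.conjBy A (d⁻¹ * d')) d by
        rw [← conjBy_mul, mul_inv_cancel_left], ← conjBy_sup,
        sup_conjBy hcase (mul_mem (inv_mem hd) hd') hd1, conj_line hcase hd]
    · exact hline d hd
    · rw [sup_comm]; exact hline d' hd'
    · exact absurd rfl hne
  have hab : ⁅A ⊔ ⁅A, D⁆, A ⊔ ⁅A, D⁆⁆ = ⊥ := by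
    rw [Subgroup.commutator_eq_bot_iff_le_centralizer]
    refine sup_le ?_ ?_ <;> intro x hx <;> rw [Subgroup.mem_centralizer_iff] <;> intro y hy
    · have hle : A ⊔ ⁅A, D⁆ ≤ Subgroup.centralizer {x} := by
        refine sup_le ?_ ?_ <;> intro w hw <;> rw [Subgroup.mem_centralizer_singleton_iff]
        · exact commute_of_bracket_bot (commutative_bracket (hS.commutative A hA)) hw hx
        · exact hcase.2.1 w hw x (Subgroup.mem_sup_left hx)
      exact Subgroup.mem_centralizer_singleton_iff.1 (hle hy)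
    · have hle : A ⊔ ⁅A, D⁆ ≤ Subgroup.centralizer {x} := by
        refine sup_le ?_ ?_ <;> intro w hw <;> rw [Subgroup.mem_centralizer_singleton_iff]
        · exact (hcase.2.1 x hx w (Subgroup.mem_sup_left hw)).symm
        · exact commute_of_bracket_bot (commutative_bracket (hS.commutative _ hcase.1)) hw hx
      exact Subgroup.mem_centralizer_singleton_iff.1 (hle hy)
  refine ⟨hsup, ⟨hN.1, hne.symm, le_bot_iff.1 ((Subgroup.commutator_mono hM.2 hN.2).trans_eq hab)⟩, ?_⟩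
  rw [hsup]
  exact hpart

/-- The members normalising a line act doubly transitively on its points. -/
theorem line_two_transitive (hS : Cfsg.IsRootSubgroupSet S)
    (hall : ∀ A ∈ S, ∃ A', A' ∈ S ∧ Cfsg.IsRankOnePair A A') {A B : Subgroup G} (hA : A ∈ S)
    (hB : B ∈ Cfsg.linePartners S A) {C₁ C₂ D₁ D₂ : Subgroup G}
    (hC₁ : C₁ ∈ Cfsg.membersIn S (A ⊔ B)) (hC₂ : C₂ ∈ Cfsg.membersIn S (A ⊔ B))
    (hD₁ : D₁ ∈ Cfsg.membersIn S (A ⊔ B)) (hD₂ : D₂ ∈ Cfsg.membersIn S (A ⊔ B))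
    (hC : C₁ ≠ C₂) (hD : D₁ ≠ D₂) :
    ∃ x ∈ ⨆ E ∈ Cfsg.normalizingMembers S (A ⊔ B), E,
      Cfsg.conjBy C₁ x = D₁ ∧ Cfsg.conjBy C₂ x = D₂ := by
  set L := A ⊔ B with hL
  set K := ⨆ E ∈ Cfsg.normalizingMembers S L, E with hK
  -- every translation gives elements of `K` moving the points off its centre
  have orbit : ∀ P, P ∈ S → ∀ E T, T ∈ S → Cfsg.RootCommutatorCase S P T → ⁅P, T⁆ = E →
      P ⊔ E = L → (∀ t ∈ T, t ∈ K ∧ Cfsg.conjBy E t = E) ∧
      ∀ M ∈ Cfsg.membersIn S L, M ≠ E → ∃ t ∈ T, Cfsg.conjBy P t = M := by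
    intro P hP E T hT hcase hE hPE
    subst hE
    obtain ⟨P', hP', hPP⟩ := hall P hP
    refine ⟨fun t ht => ⟨?_, conjBy_eq_self_of_comm
      fun c hc => (hcase.2.1 c hc t (Subgroup.mem_sup_right ht)).symm⟩, fun M hM hne => ?_⟩
    · refine (le_iSup₂ (f := fun E _ => E) T ⟨hT, fun u hu => ?_⟩ : T ≤ K) ht
      rw [← hPE]
      exact mem_normalizer_iff_conjBy.2 (conj_line hcase hu)
    · rw [← hPE, membersIn_sup hS hPP hP hP' hT hcase] at hM
      rcases hM with ⟨t, ht, rfl⟩ | rfl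
      · exact ⟨t, ht, rfl⟩
      · exact absurd rfl hne
  have hstab : ∀ x ∈ K, ∀ M ∈ Cfsg.membersIn S L, Cfsg.conjBy M x ∈ Cfsg.membersIn S L := by
    intro x hx M hM
    have hle : K ≤ Subgroup.normalizer (L : Set G) := iSup₂_le fun E hE => hE.2
    refine ⟨hS.conj_mem M hM.1 x, ?_⟩
    have := conjBy_le (g := x) hM.2
    rwa [mem_normalizer_iff_conjBy.1 (hle hx)] at this
  obtain ⟨E, T, hT, hcase, hE, hAE⟩ := exists_translation hS hall hA hB
  obtain ⟨hTK, hT'⟩ := orbit A hA E T hT hcase hE (hAE.trans hL.symm)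
  obtain ⟨A', hA', hAA⟩ := hall A hA
  have hES : E ∈ S := hE ▸ hcase.1
  have hEA : E ≠ A := hE ▸ bracket_ne_left hS hcase
  have hEL : E ∈ Cfsg.membersIn S (A ⊔ E) := ⟨hES, le_sup_right⟩
  obtain ⟨-, hpart⟩ := line_pair hS hAA hA hA' hT hcase hE hEL ⟨hA, le_sup_left⟩ hEA
  obtain ⟨E₂, T₂, hT₂, hcase₂, hE₂, hEE₂⟩ := exists_translation hS hall hES hpart
  obtain ⟨hT₂K, hT₂'⟩ := orbit E hES E₂ T₂ hT₂ hcase₂ hE₂ (hEE₂.trans (by rw [sup_comm, hAE]))
  have hE₂E : E₂ ≠ E := hE₂ ▸ bracket_ne_left hS hcase₂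
  -- a point off both centres
  obtain ⟨P, hP, hPE, hPE₂⟩ : ∃ P ∈ Cfsg.membersIn S L, P ≠ E ∧ P ≠ E₂ := by
    by_cases hA2 : A = E₂
    · obtain ⟨t, ht, ht1⟩ := (Subgroup.bot_or_exists_ne_one _).resolve_left (hS.ne_bot _ hT)
      refine ⟨Cfsg.conjBy A t, hstab t (hTK t ht).1 A ⟨hA, le_sup_left⟩, fun h => ?_, fun h => ?_⟩
      · exact hEA (conjBy_inj (((hTK t ht).2).trans h.symm))
      · obtain ⟨a, ha, ha1⟩ := left_ne_bot hAA
        obtain ⟨c, hc, hc1⟩ := (Subgroup.bot_or_exists_ne_one _).resolve_left (hS.ne_bot _ hcase.1)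
        refine bracket_ne_left hS hcase (eq_of_inter hS hAA hA' hcase.1 ?_ hc hc1)
        have hle : ⁅A, T⁆ ≤ A := by
          rw [← hcase.2.2.2 t ht ht1, Subgroup.closure_le]
          rintro _ ⟨x, hx, rfl⟩
          have hfix : Cfsg.conjBy A t = A := h.trans hA2.symm
          have h1 : t * x⁻¹ * t⁻¹ ∈ A :=
            (Subgroup.mem_normalizer_iff.1 (mem_normalizer_iff_conjBy.2 hfix) _).1 (inv_mem hx)
          rw [SetLike.mem_coe]
          show x * t * x⁻¹ * t⁻¹ ∈ A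
          rw [show x * t * x⁻¹ * t⁻¹ = x * (t * x⁻¹ * t⁻¹) by group]
          exact mul_mem hx h1
        exact hle hc
    · exact ⟨A, ⟨hA, le_sup_left⟩, hEA.symm, hA2⟩
  -- `E` can be moved to every point
  have htrans : ∀ M ∈ Cfsg.membersIn S L, ∃ x ∈ K, Cfsg.conjBy M x = E := by
    obtain ⟨t, ht, htP⟩ := hT' P hP hPE
    obtain ⟨u, hu, huP⟩ := hT₂' P hP hPE₂
    intro M hM
    by_cases hME : M = E
    · exact ⟨1, one_mem _, by rw [conjBy_one, hME]⟩
    obtain ⟨v, hv, hvM⟩ := hT' M hM hME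
    refine ⟨u⁻¹ * t * v⁻¹, mul_mem (mul_mem (inv_mem (hT₂K u hu).1) (hTK t ht).1) (inv_mem (hTK v hv).1), ?_⟩
    rw [← hvM, conjBy_mul, conjBy_mul, conjBy_cancel, htP, ← huP, conjBy_cancel]
  obtain ⟨x, hx, hxC⟩ := htrans C₁ hC₁
  obtain ⟨y, hy, hyD⟩ := htrans D₁ hD₁
  have hC' : Cfsg.conjBy C₂ x ≠ E := fun h => hC (conjBy_inj (hxC.trans h.symm))
  have hD' : Cfsg.conjBy D₂ y ≠ E := fun h => hD (conjBy_inj (hyD.trans h.symm))
  obtain ⟨d, hd, hdC⟩ := hT' _ (hstab x hx C₂ hC₂) hC'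
  obtain ⟨d', hd', hdD⟩ := hT' _ (hstab y hy D₂ hD₂) hD'
  refine ⟨y⁻¹ * d' * d⁻¹ * x, mul_mem (mul_mem (mul_mem (inv_mem hy) (hTK d' hd').1)
    (inv_mem (hTK d hd).1)) hx, ?_, ?_⟩
  · rw [conjBy_mul, hxC, conjBy_mul, conjBy_mul, (hTK _ (inv_mem hd)).2, (hTK d' hd').2, ← hyD,
      conjBy_cancel]
  · rw [conjBy_mul, ← hdC, conjBy_mul, conjBy_mul, conjBy_cancel, hdD, conjBy_cancel]

end Cfsg.Agent.Classical.RankOne
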