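/-
Classes of abstract root subgroups: rank one pairs inside the group they generate, line partners.
-/
import Mathlib
import Cfsg.Prelude.Def_RootSubgroups
import Cfsg.Agent.Lib.Classical.RootLine

set_option autoImplicit false

namespace Cfsg.Agent.Classical.RankOne

open scoped commutatorElement

variable {G : Type*} [Group G] {S : Set (Subgroup G)}

/-- A rank one pair stays one inside a subgroup containing it. -/
theorem pair_subgroupOf {A B H : Subgroup G} (h : Cfsg.IsRankOnePair A B) (hA : A ≤ H) (hB : B ≤ H) :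
    Cfsg.IsRankOnePair (A.subgroupOf H) (B.subgroupOf H) := by
  have key : ∀ P Q : Subgroup G, P ≤ H → Q ≤ H → Cfsg.RankOneCondition P Q →
      Cfsg.RankOneCondition (P.subgroupOf H) (Q.subgroupOf H) := by
    intro P Q _ _ hc x hx hx1
    obtain ⟨q, hq, hq1, e⟩ := hc x hx fun e => hx1 (Subtype.ext e)
    refine ⟨⟨q, ‹Q ≤ H› hq⟩, hq, fun e => hq1 (congrArg Subtype.val e), ?_⟩
    ext y
    rw [mem_conjBy, mem_conjBy, Subgroup.mem_subgroupOf, Subgroup.mem_subgroupOf]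
    simp only [Subgroup.coe_mul, Subgroup.coe_inv, inv_inv]
    have := SetLike.ext_iff.1 e (y : G)
    simpa only [mem_conjBy, inv_inv] using this
  have nil : ∀ P : Subgroup G, P ≤ H → Group.IsNilpotent P → Group.IsNilpotent (P.subgroupOf H) :=
    fun P hP hn => by
      haveI := hn
      exact Group.nilpotent_of_mulEquiv (Subgroup.subgroupOfEquivOfLe hP).symm
  refine ⟨fun e => h.ne ?_, nil A hA h.nilpotent_left, nil B hB h.nilpotent_right,
    key A B hA hB h.cond_left, key B A hB hA h.cond_right⟩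
  have := congrArg (Subgroup.map H.subtype) e
  rwa [Subgroup.map_subgroupOf_eq_of_le hA, Subgroup.map_subgroupOf_eq_of_le hB] at this

/-- In a class with some rank one pair every member has a rank one partner. -/
theorem hall_of_class (hS : Cfsg.IsRootSubgroupClass S)
    (hex : ∃ A ∈ S, ∃ B ∈ S, Cfsg.IsRankOnePair A B) :
    ∀ A ∈ S, ∃ A', A' ∈ S ∧ Cfsg.IsRankOnePair A A' := by
  intro A hA
  obtain ⟨P, hP, Q, hQ, hPQ⟩ := hex
  obtain ⟨g, rfl⟩ := hS.2.2 P hP A hA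
  exact ⟨_, hS.1.conj_mem Q hQ g, conj_pair hPQ g⟩

/-- In a non-degenerate class every member has a line partner. -/
theorem exists_linePartner (hS : Cfsg.IsRootSubgroupClass S) (hnd : Cfsg.IsNondegenerateRootSet S) :
    ∀ A ∈ S, ∃ B, B ∈ Cfsg.linePartners S A := by
  intro A hA
  obtain ⟨-, hex, P, hP, Q, hQ, hPQ⟩ := hnd
  obtain ⟨g, rfl⟩ := hS.2.2 P hP A hA
  have hcase : Cfsg.RootCommutatorCase S (Cfsg.conjBy P g) (Cfsg.conjBy Q g) := by
    refine commutator_case hS.1 (hS.1.conj_mem P hP g) (hS.1.conj_mem Q hQ g) ?_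
    rw [Cfsg.conjBy, Cfsg.conjBy, ← Subgroup.map_commutator]
    exact hS.1.conj_mem _ hPQ.1 g
  obtain ⟨P', hP', hPP⟩ := hall_of_class hS hex _ hA
  exact ⟨_, (line_pair hS.1 hPP hA hP' (hS.1.conj_mem Q hQ g) hcase rfl ⟨hA, le_sup_left⟩
    ⟨hcase.1, le_sup_right⟩ (bracket_ne_left hS.1 hcase).symm).2⟩

/-- A rank one partner of `A` is in the commutator case with some line partner of `A`. -/
theorem exists_line_case (hS : Cfsg.IsRootSubgroupClass S) (hnd : Cfsg.IsNondegenerateRootSet S)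
    {A A' : Subgroup G} (hA : A ∈ S) (hA' : A' ∈ S) (hAA : Cfsg.IsRankOnePair A A') :
    ∃ C ∈ Cfsg.linePartners S A, Cfsg.RootCommutatorCase S C A' ∧ ⁅A, ⁅C, A'⁆⁆ = C := by
  obtain ⟨B, hB⟩ := exists_linePartner hS hnd A hA
  obtain ⟨E, hE, hEA, k, hEq, hsup⟩ :=
    exists_case_point hS.1 (hall_of_class hS hnd.2.1) hA hA' hAA hB
  exact ⟨E, linePartner_of_sup hE hEA hsup hS.1 hB hA, k, hEq⟩

/-- A non-trivial translation moves every point but its centre. -/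
theorem translate_ne (hS : Cfsg.IsRootSubgroupSet S) {A A' D : Subgroup G}
    (hAA : Cfsg.IsRankOnePair A A') (hA : A ∈ S) (hA' : A' ∈ S) (h : Cfsg.RootCommutatorCase S A D)
    {d : G} (hd : d ∈ D) (hd1 : d ≠ 1) : Cfsg.conjBy A d ≠ A := by
  intro hfix
  obtain ⟨c, hc, hc1⟩ := (Subgroup.bot_or_exists_ne_one _).resolve_left (hS.ne_bot _ h.1)
  refine bracket_ne_left hS h (eq_of_inter hS hAA hA' h.1 ?_ hc hc1)
  have hle : ⁅A, D⁆ ≤ A := by
    rw [← h.2.2.2 d hd hd1, Subgroup.closure_le]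
    rintro _ ⟨x, hx, rfl⟩
    have h1 : d * x⁻¹ * d⁻¹ ∈ A :=
      (Subgroup.mem_normalizer_iff.1 (mem_normalizer_iff_conjBy.2 hfix) _).1 (inv_mem hx)
    rw [SetLike.mem_coe]
    show x * d * x⁻¹ * d⁻¹ ∈ A
    rw [show x * d * x⁻¹ * d⁻¹ = x * (d * x⁻¹ * d⁻¹) by group]
    exact mul_mem hx h1
  exact hle hc

theorem linePartners_symm {A C : Subgroup G} (hA : A ∈ S) (h : C ∈ Cfsg.linePartners S A) :
    A ∈ Cfsg.linePartners S C :=
  ⟨⟨hA, h.1.2.1.symm, by rw [Subgroup.commutator_comm]; exact h.1.2.2⟩, by rw [sup_comm]; exact h.2⟩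

theorem linePartners_conj (hS : Cfsg.IsRootSubgroupSet S) {A C : Subgroup G}
    (h : C ∈ Cfsg.linePartners S A) (g : G) :
    Cfsg.conjBy C g ∈ Cfsg.linePartners S (Cfsg.conjBy A g) := by
  obtain ⟨⟨hC, hne, hcomm⟩, h1, h2, h3⟩ := h
  have hmem : ∀ x, ∀ K ∈ Cfsg.membersIn S (A ⊔ C), Cfsg.conjBy K x ∈ S :=
    fun x K hK => hS.conj_mem K hK.1 x
  refine ⟨⟨hS.conj_mem C hC g, fun e => hne (conjBy_inj e), ?_⟩, ?_⟩
  · rw [Cfsg.conjBy, Cfsg.conjBy, ← Subgroup.map_commutator, hcomm, Subgroup.map_bot]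
  rw [← conjBy_sup]
  have back : ∀ K ∈ Cfsg.membersIn S (Cfsg.conjBy (A ⊔ C) g),
      Cfsg.conjBy K g⁻¹ ∈ Cfsg.membersIn S (A ⊔ C) := fun K hK => by
    refine ⟨hS.conj_mem K hK.1 _, ?_⟩
    have := conjBy_le (g := g⁻¹) hK.2
    rwa [conjBy_cancel] at this
  refine ⟨fun K hK => hK.2, fun x hx hx1 => ?_, fun K hK L hL hne => ?_⟩
  · obtain ⟨y, hy, rfl⟩ := hx
    obtain ⟨K, hK, hyK⟩ := h2 y hy fun e => hx1 (by simp [e])
    exact ⟨Cfsg.conjBy K g, ⟨hmem g K hK, conjBy_le hK.2⟩, ⟨y, hyK, rfl⟩⟩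
  · have e := h3 _ (back K hK) _ (back L hL) fun e => hne (conjBy_inj e)
    refine le_bot_iff.1 fun x hx => ?_
    have hx' : g⁻¹ * x * g ∈ Cfsg.conjBy K g⁻¹ ⊓ Cfsg.conjBy L g⁻¹ :=
      ⟨mem_conjBy.2 (by simpa [mul_assoc] using hx.1), mem_conjBy.2 (by simpa [mul_assoc] using hx.2)⟩
    rw [e, Subgroup.mem_bot] at hx'
    rw [Subgroup.mem_bot, show x = g * (g⁻¹ * x * g) * g⁻¹ by group, hx']
    group

/-- The line graph of a non-degenerate class is connected. -/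
theorem line_connected (hS : Cfsg.IsRootSubgroupClass S) (hnd : Cfsg.IsNondegenerateRootSet S) :
    Cfsg.IsConnectedFamily (Cfsg.EAdj S S) S := by
  have hall := hall_of_class hS hnd.2.1
  have hsymm : ∀ {P Q : Subgroup G}, Relation.ReflTransGen (Cfsg.EAdj S S) P Q →
      Relation.ReflTransGen (Cfsg.EAdj S S) Q P := by
    intro P Q h
    induction h with
    | refl => exact .refl
    | tail _ h ih => exact ih.head ⟨h.2.1, h.1, linePartners_symm h.1 h.2.2⟩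
  have hline : ∀ P ∈ S, ∀ T ∈ S, Cfsg.RootCommutatorCase S P T → ∀ t ∈ T,
      Relation.ReflTransGen (Cfsg.EAdj S S) P (Cfsg.conjBy P t) := by
    intro P hP T hT hcase t ht
    by_cases h1 : Cfsg.conjBy P t = P
    · rw [h1]
    obtain ⟨P', hP', hPP⟩ := hall P hP
    exact .single ⟨hP, hS.1.conj_mem P hP t, (line_pair hS.1 hPP hP hP' hT hcase rfl
      ⟨hP, le_sup_left⟩ ⟨hS.1.conj_mem P hP t, conj_le_sup ht⟩ (Ne.symm h1)).2⟩
  let K : Subgroup G :=
    { carrier := {g | ∀ P ∈ S, Relation.ReflTransGen (Cfsg.EAdj S S) P (Cfsg.conjBy P g)}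
      one_mem' := fun P _ => by rw [conjBy_one]
      mul_mem' := fun {g h} hg hh P hP => by
        rw [conjBy_mul]
        exact (hh P hP).trans (hg _ (hS.1.conj_mem P hP h))
      inv_mem' := fun {g} hg P hP => by
        have := hg _ (hS.1.conj_mem P hP g⁻¹)
        rw [conjBy_cancel'] at this
        exact hsymm this }
  have hK : ∀ T ∈ S, T ≤ K := by
    intro T hT t ht P hP
    rcases hS.1.pair P hP T hT with h | h | h
    · rw [conjBy_eq_self_of_comm fun p hp => (commute_of_bracket_bot h hp ht).symm]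
    · obtain ⟨C, hC, hcase, -⟩ := exists_line_case hS hnd hP hT h
      have h1 : Cfsg.EAdj S S P C := ⟨hP, hC.1.1, hC⟩
      have h2 : Cfsg.EAdj S S (Cfsg.conjBy C t) (Cfsg.conjBy P t) :=
        ⟨hS.1.conj_mem C hC.1.1 t, hS.1.conj_mem P hP t,
          linePartners_symm (hS.1.conj_mem P hP t) (linePartners_conj hS.1 hC t)⟩
      exact ((Relation.ReflTransGen.single h1).trans (hline C hC.1.1 T hT hcase t ht)).tail h2
    · exact hline P hP T hT h t ht
  have htop : (⊤ : Subgroup G) ≤ K := hS.1.generates ▸ iSup₂_le hK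
  intro P hP Q hQ
  obtain ⟨g, rfl⟩ := hS.2.2 P hP Q hQ
  exact htop (Subgroup.mem_top g) P hP

/-- Each point of a line through `A` is conjugate to `A` inside the group generated by the line
partners of `A` and a rank one partner. -/
theorem line_conj (hS : Cfsg.IsRootSubgroupClass S) (hnd : Cfsg.IsNondegenerateRootSet S)
    {A B C R : Subgroup G} (hA : A ∈ S) (hB : B ∈ S) (hAB : Cfsg.IsRankOnePair A B)
    (hline : ∀ X ∈ Cfsg.linePartners S A, X ≤ R) (hBR : B ≤ R)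
    (hC : C ∈ Cfsg.linePartners S A) : ∃ r ∈ R, C = Cfsg.conjBy A r := by
  have hall := hall_of_class hS hnd.2.1
  obtain ⟨E, hE, hEA, k, hEq, hsup⟩ := exists_case_point hS.1 hall hA hB hAB hC
  have hEl := linePartner_of_sup hE hEA hsup hS.1 hC hA
  set D := ⁅E, B⁆ with hD
  have hDR : D ≤ R := Subgroup.commutator_le.2 fun e he b hb =>
    mul_mem (mul_mem (mul_mem (hline E hEl he) (hBR hb)) (inv_mem (hline E hEl he))) (inv_mem (hBR hb))
  have hcase : Cfsg.RootCommutatorCase S A D := commutator_case hS.1 hA k.1 (hEq.symm ▸ hE)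
  obtain ⟨E₂, T, hT, hcaseT, hE₂, hsupT⟩ :=
    exists_translation hS.1 hall hE (linePartners_symm hA hEl)
  obtain ⟨E', hE', hEE⟩ := hall E hE
  have hfix : ∀ d ∈ D, Cfsg.conjBy E d = E := fun d hd => conjBy_eq_self_of_comm fun e he =>
    (hcase.2.1 e (hEq.symm ▸ he) d (Subgroup.mem_sup_right hd)).symm
  have hmem : E₂ ∈ Cfsg.membersIn S (A ⊔ ⁅A, D⁆) := by
    refine ⟨hE₂ ▸ hcaseT.1, ?_⟩
    rw [hEq, sup_comm, ← hsupT]
    exact le_sup_right
  rw [membersIn_sup hS.1 hAB hA hB k.1 hcase] at hmem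
  obtain ⟨d, hd, hd2⟩ := hmem.resolve_right fun e => bracket_ne_left hS.1 hcaseT
    (by rw [hE₂, Set.mem_singleton_iff.1 e, hEq])
  set F := Cfsg.conjBy T d⁻¹ with hF
  have hFS : F ∈ S := hS.1.conj_mem T hT _
  have hEF : ⁅E, F⁆ = A := by
    rw [← hfix d⁻¹ (inv_mem hd), hF, Cfsg.conjBy, Cfsg.conjBy, ← Subgroup.map_commutator, hE₂, ← hd2]
    exact conjBy_cancel
  have hcaseF : Cfsg.RootCommutatorCase S E F := commutator_case hS.1 hE hFS (hEF.symm ▸ hA)
  have hcaseF' : Cfsg.RootCommutatorCase S F E :=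
    commutator_case hS.1 hFS hE (by rw [Subgroup.commutator_comm, hEF]; exact hA)
  obtain ⟨F', hF', hFF⟩ := hall F hFS
  have hFA : F ∈ Cfsg.linePartners S A := (line_pair hS.1 hFF hFS hF' hE hcaseF'
    (by rw [Subgroup.commutator_comm]; exact hEF) ⟨hA, le_sup_right⟩ ⟨hFS, le_sup_left⟩
    (fun e => bracket_ne_left hS.1 hcaseF' (by rw [Subgroup.commutator_comm, hEF]; exact e))).2
  have hpts : A ⊔ C = E ⊔ ⁅E, F⁆ := by rw [hEF, ← hsup, sup_comm]
  -- `E` is conjugate to `A`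
  obtain ⟨f, hf, hf1⟩ := (Subgroup.bot_or_exists_ne_one _).resolve_left (hS.1.ne_bot _ hFS)
  have hP : Cfsg.conjBy E f ∈ Cfsg.membersIn S (A ⊔ ⁅A, D⁆) := by
    refine ⟨hS.1.conj_mem E hE f, (conj_le_sup hf).trans_eq ?_⟩
    rw [hEF, hEq, sup_comm]
  rw [membersIn_sup hS.1 hAB hA hB k.1 hcase] at hP
  obtain ⟨d', hd', hP'⟩ := hP.resolve_right fun e => translate_ne hS.1 hEE hE hE' hcaseF hf hf1
    ((Set.mem_singleton_iff.1 e).trans hEq)
  by_cases hCA : C = A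
  · exact ⟨1, one_mem _, by rw [conjBy_one, hCA]⟩
  have hCm : C ∈ Cfsg.membersIn S (E ⊔ ⁅E, F⁆) := ⟨hC.1.1, hpts ▸ le_sup_right⟩
  rw [membersIn_sup hS.1 hEE hE hE' hFS hcaseF] at hCm
  obtain ⟨g, hg, rfl⟩ := hCm.resolve_right fun e => hCA ((Set.mem_singleton_iff.1 e).trans hEF)
  refine ⟨g * f⁻¹ * d', mul_mem (mul_mem (hline F hFA hg) (inv_mem (hline F hFA hf))) (hDR hd'), ?_⟩
  change Cfsg.conjBy A d' = Cfsg.conjBy E f at hP'
  rw [conjBy_mul, conjBy_mul, hP', conjBy_cancel]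

/-- The line partners of a member generate that member. -/
theorem le_of_linePartners (hS : Cfsg.IsRootSubgroupSet S)
    (hall : ∀ A ∈ S, ∃ A', A' ∈ S ∧ Cfsg.IsRankOnePair A A')
    {A C R : Subgroup G} (hA : A ∈ S) (hC : C ∈ Cfsg.linePartners S A)
    (hline : ∀ X ∈ Cfsg.linePartners S A, X ≤ R) : A ≤ R := by
  intro a ha
  by_cases ha1 : a = 1
  · rw [ha1]; exact one_mem _
  obtain ⟨A', hA', hAA⟩ := hall A hA
  obtain ⟨c, hc, hc1⟩ := (Subgroup.bot_or_exists_ne_one _).resolve_left (hS.ne_bot _ hC.1.1)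
  have hcA : c ∉ A := fun h => hC.1.2.1 (eq_of_inter hS hAA hA' hC.1.1 h hc hc1)
  have hne : a * c ≠ 1 := fun h0 => hcA (by rw [eq_inv_of_mul_eq_one_right h0]; exact inv_mem ha)
  obtain ⟨M, hM, hmM⟩ := hC.2.2.1 (a * c) (mul_mem (Subgroup.mem_sup_left ha)
    (Subgroup.mem_sup_right hc)) hne
  have hMA : M ≠ A := fun e => hcA (by
    have := mul_mem (inv_mem ha) (e ▸ hmM); rwa [inv_mul_cancel_left] at this)
  obtain ⟨E, D, hD, hcase, hE, hsup⟩ := exists_translation hS hall hA hC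
  rw [← hsup] at hM
  have hMl := (line_pair hS hAA hA hA' hD hcase hE ⟨hA, le_sup_left⟩ hM hMA.symm).2
  have := mul_mem (hline M hMl hmM) (inv_mem (hline C hC hc))
  rwa [mul_inv_cancel_right] at this

/-- The line partners of `A` and a rank one partner generate the group. -/
theorem line_generate (hS : Cfsg.IsRootSubgroupClass S) (hnd : Cfsg.IsNondegenerateRootSet S)
    {A B : Subgroup G} (hA : A ∈ S) (hB : B ∈ S) (hAB : Cfsg.IsRankOnePair A B) :
    (⨆ C ∈ Cfsg.linePartners S A, C) ⊔ B = ⊤ := by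
  set R := (⨆ C ∈ Cfsg.linePartners S A, C) ⊔ B with hR
  have hline : ∀ X ∈ Cfsg.linePartners S A, X ≤ R := fun X hX =>
    le_sup_of_le_left (le_iSup₂_of_le X hX le_rfl)
  obtain ⟨C, hC⟩ := exists_linePartner hS hnd A hA
  have hAR : A ≤ R := le_of_linePartners hS.1 (hall_of_class hS hnd.2.1) hA hC hline
  have hconj : ∀ Q ∈ S, ∃ r ∈ R, Q = Cfsg.conjBy A r := by
    intro Q hQ
    have hpath := line_connected hS hnd A hA Q hQ
    clear hQ
    induction hpath with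
    | refl => exact ⟨1, one_mem _, (conjBy_one A).symm⟩
    | tail _ hadj ih =>
      obtain ⟨r, hr, rfl⟩ := ih
      have h := linePartners_conj hS.1 hadj.2.2 r⁻¹
      rw [conjBy_cancel] at h
      obtain ⟨s, hs, he⟩ := line_conj hS hnd hA hB hAB hline le_sup_right h
      refine ⟨r * s, mul_mem hr hs, ?_⟩
      rw [conjBy_mul, ← he, conjBy_cancel']
  refine top_le_iff.1 (hS.1.generates ▸ iSup₂_le fun Q hQ => ?_)
  obtain ⟨r, hr, rfl⟩ := hconj Q hQ
  rintro _ ⟨a, ha, rfl⟩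
  exact mul_mem (mul_mem hr (hAR ha)) (inv_mem hr)

/-- In the commutator case `(A, B)` some member brings `[A, B]` back to `A`; it commutes with `A`. -/
theorem exists_opposite (hS : Cfsg.IsRootSubgroupSet S)
    (hall : ∀ A ∈ S, ∃ A', A' ∈ S ∧ Cfsg.IsRankOnePair A A') {A B : Subgroup G} (hA : A ∈ S)
    (hB : B ∈ S) (h : Cfsg.RootCommutatorCase S A B) :
    ∃ F ∈ S, ⁅⁅A, B⁆, F⁆ = A ∧ ⁅A, F⁆ = ⊥ := by
  obtain ⟨A', hA', hAA⟩ := hall A hA
  set C := ⁅A, B⁆ with hC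
  have hAC : A ∈ Cfsg.linePartners S C := (line_pair hS hAA hA hA' hB h rfl
    ⟨h.1, le_sup_right⟩ ⟨hA, le_sup_left⟩ (bracket_ne_left hS h)).2
  obtain ⟨E, T, hT, hcaseT, hE, hsup⟩ := exists_translation hS hall h.1 hAC
  have hmem : E ∈ Cfsg.membersIn S (A ⊔ C) :=
    ⟨hE ▸ hcaseT.1, by rw [sup_comm A C, ← hsup]; exact le_sup_right⟩
  rw [membersIn_sup hS hAA hA hA' hB h] at hmem
  obtain ⟨d, hd, rfl⟩ := hmem.resolve_right fun e => bracket_ne_left hS hcaseT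
    (hE.trans (Set.mem_singleton_iff.1 e))
  have hFS : Cfsg.conjBy T d⁻¹ ∈ S := hS.conj_mem T hT _
  have hCF : ⁅C, Cfsg.conjBy T d⁻¹⁆ = A := by
    have hfix : Cfsg.conjBy C d⁻¹ = C := conjBy_eq_self_of_comm fun c hc =>
      (h.2.1 c hc d⁻¹ (Subgroup.mem_sup_right (inv_mem hd))).symm
    rw [← hfix, Cfsg.conjBy, Cfsg.conjBy, ← Subgroup.map_commutator, hE]
    exact conjBy_cancel
  have hcaseF := commutator_case hS h.1 hFS (hCF.symm ▸ hA)
  exact ⟨_, hFS, hCF, le_bot_iff.1 (Subgroup.commutator_le.2 fun x hx f hf =>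
    Subgroup.mem_bot.2 (commutatorElement_eq_one_iff_mul_comm.2
      (hcaseF.2.1 x (hCF.symm ▸ hx) f (Subgroup.mem_sup_right hf))))⟩

/-- An invariant transitive relation on members under which no rank one pair is related is
symmetric on commuting members with a common rank one partner. -/
theorem rel_symm (R : Subgroup G → Subgroup G → Prop)
    (hconj : ∀ P Q : Subgroup G, ∀ g, R P Q → R (Cfsg.conjBy P g) (Cfsg.conjBy Q g))
    (htrans : ∀ P Q T : Subgroup G, R P Q → R Q T → R P T)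
    (hpair : ∀ P Q : Subgroup G, R P Q → Cfsg.IsRankOnePair P Q → False)
    {A C D : Subgroup G} (hcomm : ⁅A, C⁆ = ⊥) (hAD : Cfsg.IsRankOnePair A D)
    (hCD : Cfsg.IsRankOnePair C D) (h : R A C) : R C A := by
  have hac : ∀ {a c : G}, a ∈ A → c ∈ C → a * c = c * a := fun ha hc =>
    commute_of_bracket_bot hcomm ha hc
  have step : ∀ a ∈ A, a ≠ 1 → ∃ d c : G, d ∈ D ∧ c ∈ C ∧
      Cfsg.conjBy A d⁻¹ = Cfsg.conjBy D a⁻¹ ∧ Cfsg.conjBy C d⁻¹ = Cfsg.conjBy D c⁻¹ ∧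
      R D (Cfsg.conjBy D (a * c⁻¹)) := by
    intro a ha ha1
    obtain ⟨d, hd, hd1, e1⟩ := hAD.cond_left a ha ha1
    obtain ⟨c, hc, -, e2⟩ := hCD.cond_right d hd hd1
    refine ⟨d, c, hd, hc, e1, e2.symm, ?_⟩
    have h1 := hconj _ _ a (hconj _ _ d⁻¹ h)
    rwa [e1, ← e2, conjBy_cancel', ← conjBy_mul] at h1
  obtain ⟨a, ha, ha1⟩ := left_ne_bot hAD
  obtain ⟨d, c, -, hc, e1, e2, h1⟩ := step a ha ha1
  obtain ⟨-, c', -, hc', -, -, h2⟩ := step a⁻¹ (inv_mem ha) (inv_ne_one.2 ha1)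
  have hcc : c' = c⁻¹ := by
    have h3 := htrans _ _ _ h1 (hconj _ _ (a * c⁻¹) h2)
    rw [← conjBy_mul, show a * c⁻¹ * (a⁻¹ * c'⁻¹) = c⁻¹ * c'⁻¹ by
      rw [hac ha (inv_mem hc)]; group] at h3
    have hq : c⁻¹ * c'⁻¹ ∈ C := mul_mem (inv_mem hc) (inv_mem hc')
    by_contra hne
    have hne' : Cfsg.conjBy D (c⁻¹ * c'⁻¹) ≠ D := fun e => hne (by
      have h4 := fix_right hCD hq e
      have : c⁻¹ = c' := by rwa [mul_inv_eq_one] at h4
      exact this.symm)
    exact hpair _ _ h3 (pair_of_ne hCD (right_mem hCD)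
      (conj_mem' (right_mem hCD) (Subgroup.mem_sup_left hq)) hne'.symm).1
  rw [hcc, inv_inv] at h2
  have h5 := hconj _ _ c⁻¹ h2
  rw [← conjBy_mul, show c⁻¹ * (a⁻¹ * c) = a⁻¹ by rw [hac (inv_mem ha) hc]; group, ← e1, ← e2] at h5
  have h6 := hconj _ _ d h5
  rwa [conjBy_cancel', conjBy_cancel'] at h6

end Cfsg.Agent.Classical.RankOne
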