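/-
Translations over a subfield of odd prime index together with opposite translations over a translate of it generate
all translations.
-/
import Cfsg.Agent.Lib.Classical.SL2PlaneGen

set_option autoImplicit false
set_option linter.unusedSectionVars false

namespace Cfsg.Agent.Classical.SL2Plane

open Cfsg.Agent.Small Cfsg.Agent.Classical.Dickson

universe u

variable {F : Type u} [Field F] [Fintype F]

local notation "SL2" => Matrix.SpecialLinearGroup (Fin 2) F

/-- An element of order three, four or five in `PSL₂` has the square of its trace in a subfield of odd index. -/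
theorem trace_sq_mem {F₀ : Subfield F} {r : ℕ} (hr : r.Prime) (hodd : r ≠ 2) (hcard : Fintype.card F = Nat.card F₀ ^ r)
    {M : SL2} (h01 : M.1 0 1 ≠ 0) (h : PSL2.pr M ^ 3 = 1 ∨ PSL2.pr M ^ 4 = 1 ∨ PSL2.pr M ^ 5 = 1) :
    M.1.trace * M.1.trace ∈ F₀ := by
  classical
  obtain ⟨t, ht⟩ : ∃ t, t = M.1.trace := ⟨_, rfl⟩
  rw [← ht]
  have hCH : M.1 * M.1 = t • M.1 - 1 := by
    have hd := Fusion.Dickson.det_eq M
    ext i j
    rw [ht, Matrix.trace_fin_two]
    fin_cases i <;> fin_cases j <;> simp [Matrix.mul_apply, Fin.sum_univ_two] <;>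
      first | ring1 | linear_combination hd | linear_combination -hd
  have hsc : ∀ k : ℕ, PSL2.pr M ^ k = 1 → ∀ α β : F, (M ^ k).1 = α • M.1 + β • 1 → α = 0 := by
    intro k hk α β he
    rw [← map_pow, ← map_one PSL2.pr, PSL2.pr_eq_iff] at hk
    obtain ⟨ε, -, hε⟩ := hk
    have h1 := congrFun (congrFun hε 0) 1
    rw [he] at h1
    simp at h1
    exact h1.resolve_right h01
  have p3 : (M ^ 3).1 = (t * t - 1) • M.1 + (-t) • 1 := by
    rw [pow_succ, pow_succ, pow_one, PSL2.val_mul, PSL2.val_mul, hCH, Matrix.sub_mul, Matrix.smul_mul, hCH,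
      Matrix.one_mul]
    module
  have p4 : (M ^ 4).1 = (t * (t * t - 2)) • M.1 + (-(t * t - 1)) • 1 := by
    rw [pow_succ, PSL2.val_mul, p3, Matrix.add_mul, Matrix.smul_mul, hCH, Matrix.smul_mul, Matrix.one_mul]
    module
  have p5 : (M ^ 5).1 = (t * t * (t * t) - 3 * (t * t) + 1) • M.1 + (-(t * (t * t - 2))) • 1 := by
    rw [pow_succ, PSL2.val_mul, p4, Matrix.add_mul, Matrix.smul_mul, hCH, Matrix.smul_mul, Matrix.one_mul]
    module
  rcases h with h | h | h
  · have := hsc 3 h _ _ p3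
    rw [show t * t = 1 by linear_combination this]
    exact one_mem _
  · have := hsc 4 h _ _ p4
    rcases mul_eq_zero.mp this with e | e
    · rw [e, mul_zero]; exact zero_mem _
    · rw [show t * t = 1 + 1 by linear_combination e]
      exact add_mem (one_mem _) (one_mem _)
  have hq := hsc 5 h _ _ p5
  obtain ⟨u, hu⟩ : ∃ u, u = t * t := ⟨_, rfl⟩
  rw [← hu] at hq ⊢
  by_contra hu0
  letI : Algebra F₀ F := F₀.toAlgebra
  have hint : IsIntegral F₀ u := IsIntegral.of_finite F₀ u
  let P : Polynomial F₀ := Polynomial.X ^ 2 - 3 * Polynomial.X + 1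
  have hP : P.natDegree = 2 := by
    show (Polynomial.X ^ 2 - 3 * Polynomial.X + 1 : Polynomial F₀).natDegree = 2
    compute_degree!
  have hev : Polynomial.aeval u P = 0 := by
    simp only [P, map_add, map_sub, map_mul, map_pow, map_ofNat, map_one, Polynomial.aeval_X]
    linear_combination hq
  have hdeg : (minpoly F₀ u).natDegree ≤ 2 :=
    hP ▸ Polynomial.natDegree_le_of_dvd (minpoly.dvd F₀ u hev) (fun e => by rw [e] at hP; simp at hP)
  have hrk : Module.finrank F₀ F = r := by
    have h1 : Nat.card F = Nat.card F₀ ^ Module.finrank F₀ F := Module.natCard_eq_pow_finrank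
    rw [Nat.card_eq_fintype_card (α := F), hcard] at h1
    exact (Nat.pow_right_injective Finite.one_lt_card h1).symm
  have hdvd : (minpoly F₀ u).natDegree ∣ r := hrk ▸ minpoly.degree_dvd hint
  rcases hr.eq_one_or_self_of_dvd _ hdvd with e | e
  · obtain ⟨a, ha⟩ := minpoly.natDegree_eq_one_iff.mp e
    exact hu0 (ha ▸ a.2)
  · have := hr.two_le
    omega

/-- Translations over a subfield of odd index and opposite ones over a translate of it. -/
theorem opp_full {F₀ : Subfield F} {r : ℕ} (hr : r.Prime) (hcard : Fintype.card F = Nat.card F₀ ^ r)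
    (hodd : r ≠ 2) (h2F : (2 : F) ≠ 0) {G : Subgroup SL2} {c : F} (hcF : c ∉ F₀)
    (hvl : ∀ x ∈ F₀, PSL2.vS (x * c) ∈ G) (hul : ∀ x ∈ F₀, PSL2.uS x ∈ G) : ∀ μ, PSL2.uS μ ∈ G := by
  have hc : c ≠ 0 := fun e => hcF (e ▸ zero_mem _)
  have hl : PSL2.vS c ∈ G := by simpa using hvl 1 (one_mem _)
  classical
  obtain ⟨p, hp⟩ := CharP.exists F
  obtain ⟨⟨N, hN⟩, hpp, hcp⟩ := FiniteField.card F p
  change Fintype.card F = p ^ N at hcp
  haveI : Fact p.Prime := ⟨hpp⟩
  obtain ⟨e, -, hq⟩ : ∃ e ≤ N, Nat.card F₀ = p ^ e := (Nat.dvd_prime_pow hpp).mp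
    (hcp ▸ hcard ▸ dvd_pow_self _ hr.ne_zero)
  have hq1 : 1 < Nat.card F₀ := Finite.one_lt_card
  have he : 0 < e := Nat.pos_of_ne_zero fun h => by rw [h, pow_zero] at hq; omega
  obtain ⟨a, ha1⟩ : ∃ a : F, a = 1 := ⟨1, rfl⟩
  have hua : PSL2.uS a ∈ G := ha1 ▸ hul 1 (one_mem _)
  have ha0 : a ≠ 0 := ha1 ▸ one_ne_zero
  obtain ⟨G', hG'⟩ : ∃ G', G' = G ⊔ Subgroup.center SL2 := ⟨_, rfl⟩
  have hle : G ≤ G' := hG' ▸ le_sup_left
  have hkind := Dickson.kind (G := G') (hG' ▸ le_sup_right)
  -- translations as an elementary abelian subgroup of the image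
  let ψ : Multiplicative F₀ →* ↥(G'.map PSL2.pr) := MonoidHom.mk'
    (fun z => ⟨PSL2.pr (PSL2.uS (z.toAdd : F)), _, hle (hul _ z.toAdd.2), rfl⟩)
    (fun z w => Subtype.ext (by
      change PSL2.pr _ = PSL2.pr _ * PSL2.pr _
      rw [← map_mul, ← PSL2.uS_add, toAdd_mul, Subfield.coe_add]))
  have hψ : Function.Injective ψ := (injective_iff_map_eq_one ψ).mpr fun z hz => by
    have h1 : PSL2.pr (PSL2.uS (z.toAdd : F)) = 1 := congrArg Subtype.val hz
    rw [← map_one PSL2.pr, ← uS_zero, PSL2.pr_eq_iff] at h1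
    obtain ⟨ε, -, hε⟩ := h1
    have h00 := congrFun (congrFun hε 0) 0
    have h01 := congrFun (congrFun hε 0) 1
    simp at h00 h01
    first | exact h01 | simpa using h01
  have hdvd : p ∣ Nat.card ↥(G'.map PSL2.pr) := by
    refine dvd_trans ?_ (Subgroup.card_dvd_of_injective ψ hψ)
    rw [show Nat.card (Multiplicative F₀) = Nat.card F₀ from rfl, hq]
    exact dvd_pow_self p he.ne'
  -- the trace of a product
  have htr : ∀ x ∈ F₀, x ≠ 0 → (PSL2.pr (PSL2.uS x * PSL2.vS c) ^ 3 = 1 ∨ PSL2.pr (PSL2.uS x * PSL2.vS c) ^ 4 = 1 ∨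
      PSL2.pr (PSL2.uS x * PSL2.vS c) ^ 5 = 1) → (2 + x * c) * (2 + x * c) ∈ F₀ := by
    intro x hx hx0 h
    have h01 : (PSL2.uS x * PSL2.vS c).1 0 1 ≠ 0 := by simpa [PSL2.val_mul, Matrix.mul_fin_two] using hx0
    have := trace_sq_mem hr hodd hcard h01 h
    rwa [show (PSL2.uS x * PSL2.vS c).1.trace = 2 + x * c by
      simp [Matrix.trace_fin_two, PSL2.val_mul, Matrix.mul_fin_two]; ring] at this
  have hpoly : (∀ σ : ↥(G'.map PSL2.pr), σ ^ 3 = 1 ∨ σ ^ 4 = 1 ∨ σ ^ 5 = 1) → False := fun hall => by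
    have hmem : ∀ x ∈ F₀, PSL2.pr (PSL2.uS x * PSL2.vS c) ^ 3 = 1 ∨ PSL2.pr (PSL2.uS x * PSL2.vS c) ^ 4 = 1 ∨
        PSL2.pr (PSL2.uS x * PSL2.vS c) ^ 5 = 1 := fun x hx =>
      (hall ⟨_, _, hle (mul_mem (hul x hx) hl), rfl⟩).imp (congrArg Subtype.val)
        (Or.imp (congrArg Subtype.val) (congrArg Subtype.val))
    have e1 := htr 1 (one_mem _) one_ne_zero (hmem 1 (one_mem _))
    have e2 := htr (-1) (neg_mem (one_mem _)) (neg_ne_zero.mpr one_ne_zero) (hmem (-1) (neg_mem (one_mem _)))
    have e3 := sub_mem e1 e2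
    have h8 : (8 : F) ≠ 0 := by
      rw [show (8 : F) = 2 * 2 * 2 by norm_num]; exact mul_ne_zero (mul_ne_zero h2F h2F) h2F
    have h8' : (8 : F) ∈ F₀ := by simpa using natCast_mem F₀ 8
    refine hcF ?_
    have := mul_mem e3 (inv_mem h8')
    rwa [show ((2 + 1 * c) * (2 + 1 * c) - (2 + -1 * c) * (2 + -1 * c)) * (8 : F)⁻¹ = c by field_simp; ring] at this
  have hnd : ∀ k, (k ∣ (Fintype.card F - 1) / Nat.gcd 2 (Fintype.card F - 1) ∨
      k ∣ (Fintype.card F + 1) / Nat.gcd 2 (Fintype.card F - 1)) → ¬ p ∣ k := fun k hk hpk => by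
    have hd : p ∣ Fintype.card F := hcp ▸ dvd_pow_self p hN.ne'
    have h1 : 1 ≤ Fintype.card F := Fintype.card_pos
    have hg : Nat.gcd 2 (Fintype.card F - 1) ∣ Fintype.card F - 1 := Nat.gcd_dvd_right _ _
    have hg' : Nat.gcd 2 (Fintype.card F - 1) ∣ Fintype.card F + 1 := by
      have := dvd_add hg (Nat.gcd_dvd_left 2 (Fintype.card F - 1))
      rwa [show Fintype.card F - 1 + 2 = Fintype.card F + 1 by omega] at this
    rcases hk with h | h
    · have := hpk.trans (h.trans (Nat.div_dvd_of_dvd hg))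
      exact hpp.one_lt.ne' (Nat.dvd_one.mp (by
        have := Nat.dvd_sub hd this
        rwa [show Fintype.card F - (Fintype.card F - 1) = 1 by omega] at this))
    · have := hpk.trans (h.trans (Nat.div_dvd_of_dvd hg'))
      exact hpp.one_lt.ne' (Nat.dvd_one.mp (by simpa using Nat.dvd_sub this hd))
  have hp2 : (2 : F) ≠ 0 → p ≠ 2 := fun h h' => h (by subst h'; exact_mod_cast CharP.cast_eq_zero F 2)
  cases hkind with
  | cyclic k hk _ hcard' => exact absurd (hcard' ▸ hdvd) (hnd k hk)
  | dihedral k hk h2 hiso =>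
    obtain ⟨φ⟩ := hiso
    rw [Nat.card_congr φ.toEquiv, DihedralGroup.nat_card] at hdvd
    exfalso
    rcases hpp.dvd_mul.mp hdvd with h | h
    · exact hp2 h2F ((Nat.prime_dvd_prime_iff_eq hpp Nat.prime_two).mp h)
    · exact hnd k hk h
  | a4 h2 hiso =>
    obtain ⟨φ⟩ := hiso
    refine (hpoly fun σ => ?_).elim
    have h : ∀ τ : alternatingGroup (Fin 4), τ ^ 3 = 1 ∨ τ ^ 4 = 1 ∨ τ ^ 5 = 1 := by decide +kernel
    simpa only [← map_pow, map_eq_one_iff φ φ.injective] using h (φ σ)
  | s4 h2 hiso =>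
    obtain ⟨φ⟩ := hiso
    refine (hpoly fun σ => ?_).elim
    have h : ∀ τ : Equiv.Perm (Fin 4), τ ^ 3 = 1 ∨ τ ^ 4 = 1 ∨ τ ^ 5 = 1 := by decide +kernel
    simpa only [← map_pow, map_eq_one_iff φ φ.injective] using h (φ σ)
  | a5 h2 hiso =>
    obtain ⟨φ⟩ := hiso
    refine (hpoly fun σ => ?_).elim
    have h : ∀ τ : alternatingGroup (Fin 5), τ ^ 3 = 1 ∨ τ ^ 4 = 1 ∨ τ ^ 5 = 1 := by decide +kernel
    simpa only [← map_pow, map_eq_one_iff φ φ.injective] using h (φ σ)
  | borel g hg _ =>
    exfalso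
    have hX := hg _ ⟨PSL2.uS a, hle hua, rfl⟩
    have hY := hg _ ⟨PSL2.vS c, hle hl, rfl⟩
    obtain ⟨X, hXdef⟩ : ∃ X, X = PSL2.conjSL g (PSL2.uS a) := ⟨_, rfl⟩
    obtain ⟨Y, hYdef⟩ : ∃ Y, Y = PSL2.conjSL g (PSL2.vS c) := ⟨_, rfl⟩
    rw [show (PSL2.conjSL g).toMonoidHom (PSL2.uS a) = X from hXdef.symm] at hX
    rw [show (PSL2.conjSL g).toMonoidHom (PSL2.vS c) = Y from hYdef.symm] at hY
    have h1 : (X * Y * X⁻¹ * Y⁻¹).1.trace = 2 := by
      obtain ⟨x1, x2, x3, x4⟩ := Fusion.Dickson.inv_entries X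
      obtain ⟨y1, y2, y3, y4⟩ := Fusion.Dickson.inv_entries Y
      have dX := Fusion.Dickson.det_eq X
      have dY := Fusion.Dickson.det_eq Y
      have mm : ∀ P Q : SL2, (P * Q).1 = P.1 * Q.1 := fun _ _ => rfl
      rw [hX, mul_zero, sub_zero] at dX
      rw [hY, mul_zero, sub_zero] at dY
      rw [Matrix.trace_fin_two]
      simp only [Fusion.Dickson.mul_entry, Fin.isValue, x1, x2, x3, x4, y1, y2, y3, y4, hX, hY]
      linear_combination (2 * Y.1 0 0 * Y.1 1 1) * dX + 2 * dY
    have h2 : (X * Y * X⁻¹ * Y⁻¹).1.trace = 2 + a * a * c * c := by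
      rw [hXdef, hYdef, ← map_inv, ← map_inv, ← map_mul, ← map_mul, ← map_mul, PSL2.conjSL_val, Matrix.trace_units_conj,
        ← uS_neg, ← vS_neg]
      simp [Matrix.trace_fin_two, PSL2.val_mul, Matrix.mul_fin_two]
      ring
    rw [h1] at h2
    exact mul_ne_zero (mul_ne_zero (mul_ne_zero ha0 ha0) hc) hc (by linear_combination -h2)
  | field g K hlow hhigh _ =>
    -- unipotent elements have entries in `K`
    have hK : ∀ (s : F), PSL2.uS s ∈ G → ∀ i j, (PSL2.conjSL g (PSL2.uS s)).1 i j ∈ K := by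
      intro s hs i j
      obtain ⟨l, M, hM, hlM⟩ := hhigh _ ⟨_, hle hs, rfl⟩
      change (PSL2.conjSL g (PSL2.uS s)).1 = l • M at hlM
      have htr : (PSL2.conjSL g (PSL2.uS s)).1.trace = 2 := by
        rw [PSL2.conjSL_val, Matrix.trace_units_conj]; simp [Matrix.trace_fin_two]; norm_num
      have hdet := (PSL2.conjSL g (PSL2.uS s)).2
      rw [hlM, Matrix.det_smul, Fintype.card_fin] at hdet
      rw [hlM, Matrix.trace_smul, smul_eq_mul] at htr
      have hl0 : l ≠ 0 := fun h => by simp [h] at hdet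
      have hdK : M.det ∈ K := by
        rw [Matrix.det_fin_two]; exact sub_mem (mul_mem (hM _ _) (hM _ _)) (mul_mem (hM _ _) (hM _ _))
      have hl2 : l * l ∈ K := by
        rw [show l * l = (M.det)⁻¹ from eq_inv_of_mul_eq_one_left (by linear_combination hdet)]
        exact inv_mem hdK
      have hlK : l ∈ K := by
        by_cases h2 : (2 : F) = 0
        · haveI : Finite K := inferInstance
          have hinj : Function.Injective fun x : K => x * x := fun x y h => by
            have h' : (x : F) * x = (y : F) * y := by exact_mod_cast congrArg Subtype.val h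
            refine Subtype.ext (sub_eq_zero.mp (mul_self_eq_zero.mp ?_))
            linear_combination h' + ((y : F) * y - (x : F) * y) * h2
          obtain ⟨w, hw⟩ := (Finite.injective_iff_surjective.1 hinj) ⟨l * l, hl2⟩
          have hw' : (w : F) * w = l * l := congrArg Subtype.val hw
          have : (w : F) = l := sub_eq_zero.mp (mul_self_eq_zero.mp (by
            linear_combination hw' + (l * l - (w : F) * l) * h2))
          exact this ▸ w.2
        · have htK : M.trace ∈ K := by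
            rw [Matrix.trace_fin_two]; exact add_mem (hM _ _) (hM _ _)
          have hl' : l = 2 / M.trace := eq_div_of_mul_eq (fun h => h2 (by rw [← htr, h, mul_zero])) htr
          rw [hl', show (2 : F) = 1 + 1 by norm_num]
          exact div_mem (add_mem (one_mem _) (one_mem _)) htK
      rw [hlM]
      exact mul_mem hlK (hM i j)
    -- the off-diagonal part
    obtain ⟨N, hN'⟩ : ∃ N : Matrix (Fin 2) (Fin 2) F, N = g.val * !![0, 1; 0, 0] * g⁻¹.val := ⟨_, rfl⟩
    have hval : ∀ s, (PSL2.conjSL g (PSL2.uS s)).1 = 1 + s • N := fun s => by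
      rw [PSL2.conjSL_val, hN', show (PSL2.uS s).1 = 1 + s • (!![0, 1; 0, 0] : Matrix (Fin 2) (Fin 2) F) from by
        ext i j; fin_cases i <;> fin_cases j <;> simp, Matrix.mul_add, Matrix.add_mul, Matrix.mul_one, Units.mul_inv,
        Matrix.mul_smul, Matrix.smul_mul]
    obtain ⟨i, j, hij⟩ : ∃ i j, N i j ≠ 0 := by
      by_contra! h
      have h0 : N = 0 := Matrix.ext h
      rw [h0] at hN'
      have := congrArg (fun A => g⁻¹.val * A * g.val) hN'
      simp [Matrix.mul_assoc] at this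
      exact one_ne_zero (congrFun (congrFun this.symm 0) 1)
    have hs : ∀ s, PSL2.uS s ∈ G → s * N i j ∈ K := fun s hs => by
      have := hK s hs i j
      rw [hval, Matrix.add_apply, Matrix.smul_apply, smul_eq_mul] at this
      have h1 : (1 : Matrix (Fin 2) (Fin 2) F) i j ∈ K := by
        rw [Matrix.one_apply]; split_ifs <;> simp
      simpa using sub_mem this h1
    have haN := hs a hua
    have hF0 : F₀ ≤ K := fun x hx => by
      have := mul_mem (hs x (hul x hx)) (inv_mem haN)
      rwa [show x * N i j * (a * N i j)⁻¹ = x by rw [ha1]; field_simp] at this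
    -- the opposite translation has its product with the unit translation in `K`
    have hcK : c ∈ K := by
      obtain ⟨l, M, hM, hlM⟩ := hhigh _ ⟨_, hle (mul_mem (hul 1 (one_mem _)) hl), rfl⟩
      change (PSL2.conjSL g (PSL2.uS 1 * PSL2.vS c)).1 = l • M at hlM
      obtain ⟨l', M', hM', hlM'⟩ := hhigh _ ⟨_, hle (mul_mem (hul (-1) (neg_mem (one_mem _))) hl), rfl⟩
      change (PSL2.conjSL g (PSL2.uS (-1) * PSL2.vS c)).1 = l' • M' at hlM'
      have key : ∀ (y : SL2) (l : F) (M : Matrix (Fin 2) (Fin 2) F), (∀ i j, M i j ∈ K) →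
          (PSL2.conjSL g y).1 = l • M → y.1.trace * y.1.trace ∈ K := by
        intro y l M hM hlM
        have hdet := (PSL2.conjSL g y).2
        rw [hlM, Matrix.det_smul, Fintype.card_fin] at hdet
        have hdK : M.det ∈ K := by
          rw [Matrix.det_fin_two]; exact sub_mem (mul_mem (hM _ _) (hM _ _)) (mul_mem (hM _ _) (hM _ _))
        have hl2 : l * l ∈ K := by
          rw [show l * l = (M.det)⁻¹ from eq_inv_of_mul_eq_one_left (by linear_combination hdet)]
          exact inv_mem hdK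
        have htr : y.1.trace = l * M.trace := by
          rw [← Matrix.trace_units_conj g y.1, ← PSL2.conjSL_val, hlM, Matrix.trace_smul, smul_eq_mul]
        have hMt : M.trace ∈ K := by rw [Matrix.trace_fin_two]; exact add_mem (hM _ _) (hM _ _)
        rw [htr, show l * M.trace * (l * M.trace) = l * l * (M.trace * M.trace) by ring]
        exact mul_mem hl2 (mul_mem hMt hMt)
      have e1 := key _ l M hM hlM
      have e2 := key _ l' M' hM' hlM'
      have h8 : (8 : F) ≠ 0 := by
        rw [show (8 : F) = 2 * 2 * 2 by norm_num]; exact mul_ne_zero (mul_ne_zero h2F h2F) h2F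
      have h8' : (8 : F) ∈ K := by simpa using natCast_mem K 8
      have e4 : (PSL2.uS (1 : F) * PSL2.vS c).1.trace = 2 + c := by
        simp [Matrix.trace_fin_two, PSL2.val_mul, Matrix.mul_fin_two]; ring
      have e5 : (PSL2.uS (-1 : F) * PSL2.vS c).1.trace = 2 - c := by
        simp [Matrix.trace_fin_two, PSL2.val_mul, Matrix.mul_fin_two]; ring
      rw [e4] at e1
      rw [e5] at e2
      have := mul_mem (sub_mem e1 e2) (inv_mem h8')
      rwa [show ((2 + c) * (2 + c) - (2 - c) * (2 - c)) * (8 : F)⁻¹ = c by field_simp; ring] at this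
    have hall := eq_top_of_lt hr hcard hF0 hcK hcF
    have htop : ∀ A : SL2, A ∈ G'.map (PSL2.conjSL g).toMonoidHom := fun A => by
      refine Matrix.SL2.transvection_induction (fun A => A ∈ G'.map (PSL2.conjSL g).toMonoidHom) ?_ ?_ A
      · intro i j hij x
        fin_cases i <;> fin_cases j
        · exact absurd rfl hij
        · convert (hlow x (hall x)).1 using 1
          apply Subtype.ext
          rw [Matrix.SpecialLinearGroup.transvection_coe]
          ext a b; fin_cases a <;> fin_cases b <;> simp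
        · convert (hlow x (hall x)).2 using 1
          apply Subtype.ext
          rw [Matrix.SpecialLinearGroup.transvection_coe]
          ext a b; fin_cases a <;> fin_cases b <;> simp
        · exact absurd rfl hij
      · intro A B hA hB
        exact mul_mem hA hB
    have hG'top : ∀ A : SL2, A ∈ G' := fun A => by
      obtain ⟨B, hB, hBA⟩ := htop (PSL2.conjSL g A)
      exact (PSL2.conjSL g).injective hBA ▸ hB
    intro μ
    -- remove the centre
    have hsq : ∀ ν : F, PSL2.uS (ν + ν) ∈ G := fun ν => by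
      have h := hG'top (PSL2.uS ν)
      rw [hG', Subgroup.mem_sup_of_normal_right] at h
      obtain ⟨y, hy, z, hz, hyz⟩ := h
      obtain ⟨t, ht⟩ := SL2C.mem_center_iff.mp hz
      have hz2 : z * z = 1 := by
        apply Subtype.ext
        have hd := z.2
        rw [ht, Matrix.det_smul, Fintype.card_fin, Matrix.det_one, mul_one] at hd
        rw [PSL2.val_mul, ht, Matrix.smul_mul, Matrix.mul_smul, Matrix.mul_one, smul_smul, ← sq, hd, one_smul]
        rfl
      rw [PSL2.uS_add, ← hyz, mul_assoc, ← mul_assoc z y, ← Subgroup.mem_center_iff.mp hz y, mul_assoc y z, hz2, mul_one]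
      exact mul_mem hy hy
    by_cases h2 : (2 : F) = 0
    · have h := hG'top (PSL2.uS μ)
      rw [hG', Subgroup.mem_sup_of_normal_right] at h
      obtain ⟨y, hy, z, hz, hyz⟩ := h
      obtain ⟨t, ht⟩ := SL2C.mem_center_iff.mp hz
      have hz1 : z = 1 := by
        apply Subtype.ext
        have hd := z.2
        rw [ht, Matrix.det_smul, Fintype.card_fin, Matrix.det_one, mul_one] at hd
        rw [ht, show t = 1 from sub_eq_zero.mp (mul_self_eq_zero.mp (by linear_combination hd + (1 - t) * h2)),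
          one_smul]
        rfl
      rw [← hyz, hz1, mul_one]
      exact hy
    · have := hsq (μ / 2)
      rwa [show μ / 2 + μ / 2 = μ by field_simp; ring] at this

end Cfsg.Agent.Classical.SL2Plane
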