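/-
Subgroups of SL₂ containing a plane of translations over a subfield and an opposite translation.
-/
import Cfsg.Agent.Lib.Classical.SL2PlaneGen

set_option autoImplicit false
set_option linter.unusedSectionVars false

namespace Cfsg.Agent.Classical.SL2Plane

open Cfsg.Agent.Small Cfsg.Agent.Classical.Dickson

universe u

variable {F : Type u} [Field F] [Fintype F]

local notation "SL2" => Matrix.SpecialLinearGroup (Fin 2) F

/-- A plane of translations and an opposite translation give SL₂ over a subfield. -/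
theorem shifts_field {F₀ : Subfield F} {G : Subgroup SL2} {a c : F} (hc : c ≠ 0) (hl : PSL2.vS c ∈ G)
    (hu' : ∀ x ∈ F₀, ∀ y ∈ F₀, PSL2.uS (x * a + y) ∈ G) (ha : a ∉ F₀) :
    ∃ K₁ : Subfield F, F₀ ≤ K₁ ∧ a ∈ K₁ ∧ c ∈ K₁ ∧ ∀ μ ∈ K₁, PSL2.uS μ ∈ G ∧ PSL2.vS μ ∈ G := by
  classical
  have hu : ∀ x ∈ F₀, ∀ y ∈ F₀, PSL2.uS (x * a + y * 1) ∈ G := fun x hx y hy => by
    rw [mul_one]; exact hu' x hx y hy
  have hind : ∀ x ∈ F₀, ∀ y ∈ F₀, x * a + y * 1 = 0 → x = 0 ∧ y = 0 := fun x hx y hy e => by
    by_cases h0 : x = 0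
    · subst h0; exact ⟨rfl, by simpa using e⟩
    · exact absurd (by
        rw [show a = -(y * x⁻¹) by field_simp; linear_combination e]
        exact neg_mem (mul_mem hy (inv_mem hx))) ha
  obtain ⟨p, hp⟩ := CharP.exists F
  obtain ⟨⟨N, hN⟩, hpp, hcp⟩ := FiniteField.card F p
  change Fintype.card F = p ^ N at hcp
  haveI : Fact p.Prime := ⟨hpp⟩
  obtain ⟨e, -, hq⟩ : ∃ e ≤ N, Nat.card F₀ = p ^ e := by
    have h2 : Nat.card F = Nat.card F₀ ^ Module.finrank F₀ F := Module.natCard_eq_pow_finrank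
    rw [Nat.card_eq_fintype_card, hcp] at h2
    exact (Nat.dvd_prime_pow hpp).mp (h2 ▸ dvd_pow_self _ Module.finrank_pos.ne')
  have hq1 : 1 < Nat.card F₀ := Finite.one_lt_card
  have he : 0 < e := Nat.pos_of_ne_zero fun h => by rw [h, pow_zero] at hq; omega
  have ha0 : a ≠ 0 := fun h => one_ne_zero (hind 1 (one_mem _) 0 (zero_mem _) (by simp [h])).1
  obtain ⟨G', hG'⟩ : ∃ G', G' = G ⊔ Subgroup.center SL2 := ⟨_, rfl⟩
  have hle : G ≤ G' := hG' ▸ le_sup_left
  have hkind := Dickson.kind (G := G') (hG' ▸ le_sup_right)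
  -- translations as an elementary abelian subgroup of the image
  let ψ : Multiplicative (F₀ × F₀) →* ↥(G'.map PSL2.pr) := MonoidHom.mk'
    (fun z => ⟨PSL2.pr (PSL2.uS ((z.toAdd.1 : F) * a + (z.toAdd.2 : F) * 1)),
      _, hle (hu _ z.toAdd.1.2 _ z.toAdd.2.2), rfl⟩)
    (fun z w => Subtype.ext (by
      change PSL2.pr _ = PSL2.pr _ * PSL2.pr _
      rw [← map_mul, ← PSL2.uS_add, toAdd_mul]
      congr 2
      simp only [Prod.fst_add, Prod.snd_add, Subfield.coe_add]
      ring))
  have hψ : Function.Injective ψ := (injective_iff_map_eq_one ψ).mpr fun z hz => by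
    have h1 : PSL2.pr (PSL2.uS ((z.toAdd.1 : F) * a + (z.toAdd.2 : F) * 1)) = 1 := congrArg Subtype.val hz
    rw [← map_one PSL2.pr, ← uS_zero, PSL2.pr_eq_iff] at h1
    obtain ⟨ε, -, hε⟩ := h1
    have h00 := congrFun (congrFun hε 0) 0
    have h01 := congrFun (congrFun hε 0) 1
    simp at h00 h01
    obtain ⟨e1, e2⟩ := hind _ z.toAdd.1.2 _ z.toAdd.2.2 (by rwa [mul_one])
    exact Prod.ext (Subtype.ext e1) (Subtype.ext e2)
  have hdvd : p ^ 2 ∣ Nat.card ↥(G'.map PSL2.pr) := by
    refine dvd_trans ?_ (Subgroup.card_dvd_of_injective ψ hψ)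
    rw [show Nat.card (Multiplicative (F₀ × F₀)) = Nat.card F₀ * Nat.card F₀ from Nat.card_prod _ _, hq, ← pow_add]
    exact pow_dvd_pow p (by omega)
  have hnd : ∀ k, (k ∣ (Fintype.card F - 1) / Nat.gcd 2 (Fintype.card F - 1) ∨
      k ∣ (Fintype.card F + 1) / Nat.gcd 2 (Fintype.card F - 1)) → ¬ p ∣ k := fun k hk hpk => by
    have hd : p ∣ Fintype.card F := hcp ▸ dvd_pow_self p hN.ne'
    have h1 : 1 ≤ Fintype.card F := Fintype.card_pos
    have hg : Nat.gcd 2 (Fintype.card F - 1) ∣ Fintype.card F - 1 := Nat.gcd_dvd_right _ _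
    have hg' : Nat.gcd 2 (Fintype.card F - 1) ∣ Fintype.card F + 1 := by
      have := dvd_add hg (Nat.gcd_dvd_left 2 (Fintype.card F - 1))
      rwa [show Fintype.card F - 1 + 2 = Fintype.card F + 1 by omega] at this
    rcases hk with h | h
    · have := hpk.trans (h.trans (Nat.div_dvd_of_dvd hg))
      exact hpp.one_lt.ne' (Nat.dvd_one.mp (by
        have := Nat.dvd_sub hd this
        rwa [show Fintype.card F - (Fintype.card F - 1) = 1 by omega] at this))
    · have := hpk.trans (h.trans (Nat.div_dvd_of_dvd hg'))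
      exact hpp.one_lt.ne' (Nat.dvd_one.mp (by simpa using Nat.dvd_sub this hd))
  have hp2 : (2 : F) ≠ 0 → p ≠ 2 := fun h h' => h (by subst h'; exact_mod_cast CharP.cast_eq_zero F 2)
  have hsmall : ∀ k, (k = 12 ∨ k = 24 ∨ k = 60) → p ≠ 2 → ¬ p ^ 2 ∣ k := fun k hk h2 hd => by
    have h1 := Nat.le_of_dvd (by omega) hd
    have h3 : p ≤ 7 := by
      by_contra h
      have := Nat.pow_le_pow_left (show 8 ≤ p by omega) 2
      omega
    have := hpp.two_le
    interval_cases p <;> rcases hk with rfl | rfl | rfl <;> simp_all (config := {decide := true})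
  cases hkind with
  | cyclic k hk _ hcard' => exact absurd ((dvd_pow_self p two_ne_zero).trans (hcard' ▸ hdvd)) (hnd k hk)
  | dihedral k hk h2 hiso =>
    obtain ⟨φ⟩ := hiso
    rw [Nat.card_congr φ.toEquiv, DihedralGroup.nat_card] at hdvd
    exfalso
    by_cases hp' : p = 2
    · subst hp'
      exact hnd k hk (Nat.dvd_of_mul_dvd_mul_left two_pos (by rwa [← sq]))
    · rcases hpp.dvd_mul.mp ((dvd_pow_self p two_ne_zero).trans hdvd) with h | h
      · exact hp' ((Nat.prime_dvd_prime_iff_eq hpp Nat.prime_two).mp h)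
      · exact hnd k hk h
  | a4 h2 hiso =>
    obtain ⟨φ⟩ := hiso
    refine absurd hdvd ?_
    rw [Nat.card_congr φ.toEquiv, nat_card_alternatingGroup, Nat.card_fin]
    exact hsmall _ (Or.inl rfl) (hp2 h2)
  | s4 h2 hiso =>
    obtain ⟨φ⟩ := hiso
    refine absurd hdvd ?_
    rw [Nat.card_congr φ.toEquiv, Nat.card_eq_fintype_card, Fintype.card_perm, Fintype.card_fin]
    exact hsmall _ (Or.inr (Or.inl rfl)) (hp2 h2)
  | a5 h2 hiso =>
    obtain ⟨φ⟩ := hiso
    refine absurd hdvd ?_
    rw [Nat.card_congr φ.toEquiv, nat_card_alternatingGroup, Nat.card_fin]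
    exact hsmall _ (Or.inr (Or.inr rfl)) (hp2 h2)
  | borel g hg _ =>
    exfalso
    have hX := hg _ ⟨PSL2.uS a, hle (by simpa using hu 1 (one_mem _) 0 (zero_mem _)), rfl⟩
    have hY := hg _ ⟨PSL2.vS c, hle hl, rfl⟩
    obtain ⟨X, hXdef⟩ : ∃ X, X = PSL2.conjSL g (PSL2.uS a) := ⟨_, rfl⟩
    obtain ⟨Y, hYdef⟩ : ∃ Y, Y = PSL2.conjSL g (PSL2.vS c) := ⟨_, rfl⟩
    rw [show (PSL2.conjSL g).toMonoidHom (PSL2.uS a) = X from hXdef.symm] at hX
    rw [show (PSL2.conjSL g).toMonoidHom (PSL2.vS c) = Y from hYdef.symm] at hY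
    have h1 : (X * Y * X⁻¹ * Y⁻¹).1.trace = 2 := by
      obtain ⟨x1, x2, x3, x4⟩ := Fusion.Dickson.inv_entries X
      obtain ⟨y1, y2, y3, y4⟩ := Fusion.Dickson.inv_entries Y
      have dX := Fusion.Dickson.det_eq X
      have dY := Fusion.Dickson.det_eq Y
      have mm : ∀ P Q : SL2, (P * Q).1 = P.1 * Q.1 := fun _ _ => rfl
      rw [hX, mul_zero, sub_zero] at dX
      rw [hY, mul_zero, sub_zero] at dY
      rw [Matrix.trace_fin_two]
      simp only [Fusion.Dickson.mul_entry, Fin.isValue, x1, x2, x3, x4, y1, y2, y3, y4, hX, hY]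
      linear_combination (2 * Y.1 0 0 * Y.1 1 1) * dX + 2 * dY
    have h2 : (X * Y * X⁻¹ * Y⁻¹).1.trace = 2 + a * a * c * c := by
      rw [hXdef, hYdef, ← map_inv, ← map_inv, ← map_mul, ← map_mul, ← map_mul, PSL2.conjSL_val, Matrix.trace_units_conj,
        ← uS_neg, ← vS_neg]
      simp [Matrix.trace_fin_two, PSL2.val_mul, Matrix.mul_fin_two]
      ring
    rw [h1] at h2
    exact mul_ne_zero (mul_ne_zero (mul_ne_zero ha0 ha0) hc) hc (by linear_combination -h2)
  | field g K hlow hhigh _ =>
    -- unipotent elements have entries in `K`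
    have hK : ∀ A : SL2, A ∈ G → A.1.trace = 2 → ∀ i j, (PSL2.conjSL g A).1 i j ∈ K := by
      intro A hs htA i j
      obtain ⟨l, M, hM, hlM⟩ := hhigh _ ⟨_, hle hs, rfl⟩
      change (PSL2.conjSL g A).1 = l • M at hlM
      have htr : (PSL2.conjSL g A).1.trace = 2 := by
        rw [PSL2.conjSL_val, Matrix.trace_units_conj, htA]
      have hdet := (PSL2.conjSL g A).2
      rw [hlM, Matrix.det_smul, Fintype.card_fin] at hdet
      rw [hlM, Matrix.trace_smul, smul_eq_mul] at htr
      have hl0 : l ≠ 0 := fun h => by simp [h] at hdet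
      have hdK : M.det ∈ K := by
        rw [Matrix.det_fin_two]; exact sub_mem (mul_mem (hM _ _) (hM _ _)) (mul_mem (hM _ _) (hM _ _))
      have hl2 : l * l ∈ K := by
        rw [show l * l = (M.det)⁻¹ from eq_inv_of_mul_eq_one_left (by linear_combination hdet)]
        exact inv_mem hdK
      have hlK : l ∈ K := by
        by_cases h2 : (2 : F) = 0
        · haveI : Finite K := inferInstance
          have hinj : Function.Injective fun x : K => x * x := fun x y h => by
            have h' : (x : F) * x = (y : F) * y := by exact_mod_cast congrArg Subtype.val h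
            refine Subtype.ext (sub_eq_zero.mp (mul_self_eq_zero.mp ?_))
            linear_combination h' + ((y : F) * y - (x : F) * y) * h2
          obtain ⟨w, hw⟩ := (Finite.injective_iff_surjective.1 hinj) ⟨l * l, hl2⟩
          have hw' : (w : F) * w = l * l := congrArg Subtype.val hw
          have : (w : F) = l := sub_eq_zero.mp (mul_self_eq_zero.mp (by
            linear_combination hw' + (l * l - (w : F) * l) * h2))
          exact this ▸ w.2
        · have htK : M.trace ∈ K := by
            rw [Matrix.trace_fin_two]; exact add_mem (hM _ _) (hM _ _)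
          have hl' : l = 2 / M.trace := eq_div_of_mul_eq (fun h => h2 (by rw [← htr, h, mul_zero])) htr
          rw [hl', show (2 : F) = 1 + 1 by norm_num]
          exact div_mem (add_mem (one_mem _) (one_mem _)) htK
      rw [hlM]
      exact mul_mem hlK (hM i j)
    -- the off-diagonal part
    obtain ⟨N, hN'⟩ : ∃ N : Matrix (Fin 2) (Fin 2) F, N = g.val * !![0, 1; 0, 0] * g⁻¹.val := ⟨_, rfl⟩
    have hval : ∀ s, (PSL2.conjSL g (PSL2.uS s)).1 = 1 + s • N := fun s => by
      rw [PSL2.conjSL_val, hN', show (PSL2.uS s).1 = 1 + s • (!![0, 1; 0, 0] : Matrix (Fin 2) (Fin 2) F) from by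
        ext i j; fin_cases i <;> fin_cases j <;> simp, Matrix.mul_add, Matrix.add_mul, Matrix.mul_one, Units.mul_inv,
        Matrix.mul_smul, Matrix.smul_mul]
    obtain ⟨i, j, hij⟩ : ∃ i j, N i j ≠ 0 := by
      by_contra! h
      have h0 : N = 0 := Matrix.ext h
      rw [h0] at hN'
      have := congrArg (fun A => g⁻¹.val * A * g.val) hN'
      simp [Matrix.mul_assoc] at this
      exact one_ne_zero (congrFun (congrFun this.symm 0) 1)
    have hone : ∀ i j, (1 : Matrix (Fin 2) (Fin 2) F) i j ∈ K := fun i j => by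
      rw [Matrix.one_apply]; split_ifs <;> simp
    have htu : ∀ s : F, (PSL2.uS s).1.trace = 2 := fun s => by simp [Matrix.trace_fin_two]; norm_num
    have hs : ∀ s, PSL2.uS s ∈ G → ∀ i j, s * N i j ∈ K := fun s hs i j => by
      have := hK _ hs (htu s) i j
      rw [hval, Matrix.add_apply, Matrix.smul_apply, smul_eq_mul] at this
      simpa using sub_mem this (hone i j)
    have h1G : PSL2.uS (1 : F) ∈ G := by simpa using hu 0 (zero_mem _) 1 (one_mem _)
    have hNK : ∀ i j, N i j ∈ K := fun i j => by simpa using hs 1 h1G i j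
    have hsK : ∀ s, PSL2.uS s ∈ G → s ∈ K := fun s hs' => by
      have := mul_mem (hs s hs' i j) (inv_mem (hNK i j))
      rwa [mul_assoc, mul_inv_cancel₀ hij, mul_one] at this
    have haK : a ∈ K := hsK a (by simpa using hu 1 (one_mem _) 0 (zero_mem _))
    have hF0 : F₀ ≤ K := fun y hy => hsK y (by simpa using hu 0 (zero_mem _) y hy)
    have hcK : c ∈ K := by
      have htv : (PSL2.vS c).1.trace = 2 := by simp [Matrix.trace_fin_two]; norm_num
      have h1 := hK _ h1G (htu 1)
      have h2 := hK _ hl htv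
      have h3 : ((PSL2.conjSL g (PSL2.uS 1)).1 * (PSL2.conjSL g (PSL2.vS c)).1).trace ∈ K := by
        rw [Matrix.trace_fin_two, Matrix.mul_apply, Matrix.mul_apply, Fin.sum_univ_two, Fin.sum_univ_two]
        exact add_mem (add_mem (mul_mem (h1 _ _) (h2 _ _)) (mul_mem (h1 _ _) (h2 _ _)))
          (add_mem (mul_mem (h1 _ _) (h2 _ _)) (mul_mem (h1 _ _) (h2 _ _)))
      rw [← PSL2.val_mul, ← map_mul, PSL2.conjSL_val, Matrix.trace_units_conj,
        show (PSL2.uS (1 : F) * PSL2.vS c).1.trace = 2 + c by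
          simp [Matrix.trace_fin_two, PSL2.val_mul, Matrix.mul_fin_two]; ring] at h3
      have := sub_mem h3 (show (2 : F) ∈ K by rw [← one_add_one_eq_two]; exact add_mem (one_mem _) (one_mem _))
      simpa using this
    have hin : ∀ B : Matrix.SpecialLinearGroup (Fin 2) K,
        Matrix.SpecialLinearGroup.map K.subtype B ∈ G'.map (PSL2.conjSL g).toMonoidHom := fun B => by
      refine Matrix.SL2.transvection_induction
        (fun B => Matrix.SpecialLinearGroup.map K.subtype B ∈ G'.map (PSL2.conjSL g).toMonoidHom) ?_ ?_ B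
      · intro i j hij x
        fin_cases i <;> fin_cases j
        · exact absurd rfl hij
        · convert (hlow x x.2).1 using 1
          apply Subtype.ext
          simp [Matrix.SpecialLinearGroup.map_apply_coe, RingHom.mapMatrix_apply,
            Matrix.SpecialLinearGroup.transvection_coe]
          ext a b; fin_cases a <;> fin_cases b <;> simp
        · convert (hlow x x.2).2 using 1
          apply Subtype.ext
          simp [Matrix.SpecialLinearGroup.map_apply_coe, RingHom.mapMatrix_apply,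
            Matrix.SpecialLinearGroup.transvection_coe]
          ext a b; fin_cases a <;> fin_cases b <;> simp
        · exact absurd rfl hij
      · intro A B hA hB
        rw [map_mul]
        exact mul_mem hA hB
    have hG'u : ∀ μ ∈ K, PSL2.uS μ ∈ G' := fun μ hμ => by
      have hent : ∀ i j, (PSL2.conjSL g (PSL2.uS μ)).1 i j ∈ K := fun i j => by
        rw [hval, Matrix.add_apply, Matrix.smul_apply, smul_eq_mul]
        exact add_mem (hone i j) (mul_mem hμ (hNK i j))
      let B : Matrix (Fin 2) (Fin 2) K := fun i j => ⟨_, hent i j⟩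
      have hB : B.det = 1 := by
        apply Subtype.ext
        have h := (PSL2.conjSL g (PSL2.uS μ)).2
        rw [Matrix.det_fin_two] at h
        rw [Matrix.det_fin_two]
        simpa [B] using h
      obtain ⟨A, hA, e⟩ := hin ⟨B, hB⟩
      have e' : A = PSL2.uS μ := (PSL2.conjSL g).injective (e.trans (Subtype.ext (by ext i j; rfl)))
      exact e' ▸ hA
    have hGu : ∀ μ ∈ K, PSL2.uS μ ∈ G := by
      -- remove the centre
      have key : ∀ ν ∈ K, PSL2.uS (ν + ν) ∈ G ∧ ((2 : F) = 0 → PSL2.uS ν ∈ G) := fun ν hν => by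
        have h := hG'u ν hν
        rw [hG', Subgroup.mem_sup_of_normal_right] at h
        obtain ⟨y, hy, z, hz, hyz⟩ := h
        obtain ⟨t, ht⟩ := SL2C.mem_center_iff.mp hz
        have hd := z.2
        rw [ht, Matrix.det_smul, Fintype.card_fin, Matrix.det_one, mul_one] at hd
        have hz2 : z * z = 1 := by
          apply Subtype.ext
          rw [PSL2.val_mul, ht, Matrix.smul_mul, Matrix.mul_smul, Matrix.mul_one, smul_smul, ← sq, hd, one_smul]
          rfl
        refine ⟨?_, fun h2 => ?_⟩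
        · rw [PSL2.uS_add, ← hyz, mul_assoc, ← mul_assoc z y, ← Subgroup.mem_center_iff.mp hz y, mul_assoc y z, hz2,
            mul_one]
          exact mul_mem hy hy
        · have hz1 : z = 1 := by
            apply Subtype.ext
            rw [ht, show t = 1 from sub_eq_zero.mp (mul_self_eq_zero.mp (by linear_combination hd + (1 - t) * h2)),
              one_smul]
            rfl
          rw [← hyz, hz1, mul_one]
          exact hy
      intro μ hμ
      by_cases h2 : (2 : F) = 0
      · exact (key μ hμ).2 h2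
      · have := (key (μ / 2) (div_mem hμ (by rw [← one_add_one_eq_two]; exact add_mem (one_mem _) (one_mem _)))).1
        rwa [show μ / 2 + μ / 2 = μ by field_simp; ring] at this
    refine ⟨K, hF0, haK, hcK, fun μ hμ => ⟨hGu μ hμ, ?_⟩⟩
    set w := PSL2.uS (-c⁻¹) * PSL2.vS c * PSL2.uS (-c⁻¹) with hw
    have hwG : w ∈ G := mul_mem (mul_mem (hGu _ (neg_mem (inv_mem hcK))) hl) (hGu _ (neg_mem (inv_mem hcK)))
    have e : w * PSL2.uS (-μ / (c * c)) = PSL2.vS μ * w := by
      apply Subtype.ext
      rw [hw]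
      simp only [PSL2.val_mul]
      ext p q
      fin_cases p <;> fin_cases q <;> simp [Matrix.mul_fin_two] <;> field_simp <;> ring_nf <;> simp
    rw [show PSL2.vS μ = w * PSL2.uS (-μ / (c * c)) * w⁻¹ by rw [e, mul_inv_cancel_right]]
    exact mul_mem (mul_mem hwG (hGu _ (div_mem (neg_mem hμ) (mul_mem hcK hcK)))) (inv_mem hwG)

end Cfsg.Agent.Classical.SL2Plane
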