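/-
The relations of SL₂ over a finite field determine it.
-/
import Mathlib
import Cfsg.Agent.Lib.Classical.TransvectionRoot

set_option autoImplicit false

namespace Cfsg.Agent.Classical.SL2Rel

open Matrix

variable {F : Type*} [Field F] {G : Type*} [Group G]

/-- `m s = U s * L (-1/s) * U s`. -/
def m (U L : F → G) (s : F) : G := U s * L (-s⁻¹) * U s

/-- `h s = m s * (m 1)⁻¹`. -/
def h (U L : F → G) (s : F) : G := m U L s * (m U L 1)⁻¹

/-- The relations. -/
structure Rels (U L : F → G) : Prop where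
  addU : ∀ x y, U (x + y) = U x * U y
  addL : ∀ x y, L (x + y) = L x * L y
  conj : ∀ s, s ≠ 0 → ∀ x, m U L s * U x * (m U L s)⁻¹ = L (-x / s ^ 2)
  gen : Subgroup.closure (Set.range U ∪ Set.range L) = ⊤

variable {U L : F → G}

namespace Rels

theorem U_zero (r : Rels U L) : U 0 = 1 := by
  have h0 := r.addU 0 0
  rw [add_zero] at h0
  exact left_eq_mul.1 h0

theorem L_zero (r : Rels U L) : L 0 = 1 := by
  have h0 := r.addL 0 0
  rw [add_zero] at h0
  exact left_eq_mul.1 h0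

theorem U_neg (r : Rels U L) (x : F) : U (-x) = (U x)⁻¹ :=
  eq_inv_of_mul_eq_one_left (by rw [← r.addU, neg_add_cancel, r.U_zero])

theorem L_neg (r : Rels U L) (x : F) : L (-x) = (L x)⁻¹ :=
  eq_inv_of_mul_eq_one_left (by rw [← r.addL, neg_add_cancel, r.L_zero])

theorem m_neg (r : Rels U L) (s : F) : m U L (-s) = (m U L s)⁻¹ := by
  rw [m, m, inv_neg, neg_neg, r.U_neg, _root_.mul_inv_rev, _root_.mul_inv_rev, ← r.L_neg, neg_neg, mul_assoc]

theorem m_comm (r : Rels U L) {s : F} (hs : s ≠ 0) : m U L s = L (-s⁻¹) * U s * L (-s⁻¹) := by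
  have e := r.conj s hs s
  rw [show -s / s ^ 2 = -s⁻¹ by field_simp] at e
  have e2 : m U L s * U s = L (-s⁻¹) * m U L s := mul_inv_eq_iff_eq_mul.1 e
  refine mul_right_cancel (b := U s) ?_
  rw [e2, m]
  group

theorem conjL (r : Rels U L) {s : F} (hs : s ≠ 0) (y : F) :
    m U L s * L y * (m U L s)⁻¹ = U (-(y * s ^ 2)) := by
  have e := r.conj (-s) (neg_ne_zero.2 hs) (-(y * s ^ 2))
  rw [r.m_neg, inv_inv, show -(-(y * s ^ 2)) / (-s) ^ 2 = y by field_simp] at e
  rw [← e]; group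

theorem m_conj_m (r : Rels U L) {s t : F} (hs : s ≠ 0) (ht : t ≠ 0) :
    m U L t * m U L s * (m U L t)⁻¹ = m U L (t ^ 2 / s) := by
  rw [r.m_comm (div_ne_zero (pow_ne_zero 2 ht) hs), show -(t ^ 2 / s)⁻¹ = -s / t ^ 2 by field_simp,
    show U (t ^ 2 / s) = U (-(-s⁻¹ * t ^ 2)) by congr 1; field_simp,
    ← r.conj t ht s, ← r.conjL ht (-s⁻¹), m, m]
  group

theorem hU (r : Rels U L) {s : F} (hs : s ≠ 0) (x : F) : h U L s * U x = U (x * s ^ 2) * h U L s := by
  rw [← mul_inv_eq_iff_eq_mul]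
  have e1 : (m U L 1)⁻¹ * U x * m U L 1 = L (-x) := by
    have e := r.conj (-1) (by simp) x
    rw [r.m_neg, inv_inv] at e
    rw [e]; congr 1; ring
  calc h U L s * U x * (h U L s)⁻¹ = m U L s * ((m U L 1)⁻¹ * U x * m U L 1) * (m U L s)⁻¹ := by
        rw [h]; group
    _ = _ := by rw [e1, r.conjL hs, neg_mul, neg_neg]

theorem hL (r : Rels U L) {s : F} (hs : s ≠ 0) (y : F) : h U L s * L y = L (y / s ^ 2) * h U L s := by
  rw [← mul_inv_eq_iff_eq_mul]
  have e1 : (m U L 1)⁻¹ * L y * m U L 1 = U (-y) := by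
    have e := r.conjL (s := -1) (by simp) y
    rw [r.m_neg, inv_inv] at e
    rw [e]; congr 1; ring
  calc h U L s * L y * (h U L s)⁻¹ = m U L s * ((m U L 1)⁻¹ * L y * m U L 1) * (m U L s)⁻¹ := by
        rw [h]; group
    _ = _ := by rw [e1, r.conj s hs, neg_neg]

theorem h_one (r : Rels U L) : h U L 1 = 1 := by
  rw [h, mul_inv_cancel]

theorem h_conj_m (r : Rels U L) {s t : F} (hs : s ≠ 0) (ht : t ≠ 0) :
    h U L s * m U L t * (h U L s)⁻¹ = m U L (s ^ 2 * t) := by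
  have e1 : h U L s * U t * (h U L s)⁻¹ = U (s ^ 2 * t) := by
    rw [r.hU hs, mul_inv_cancel_right]; congr 1; ring
  have e2 : h U L s * L (-t⁻¹) * (h U L s)⁻¹ = L (-(s ^ 2 * t)⁻¹) := by
    rw [r.hL hs, mul_inv_cancel_right]; congr 1; field_simp
  calc _ = (h U L s * U t * (h U L s)⁻¹) * (h U L s * L (-t⁻¹) * (h U L s)⁻¹) *
        (h U L s * U t * (h U L s)⁻¹) := by rw [m]; group
    _ = _ := by rw [e1, e2]; rfl

theorem central (r : Rels U L) {c : G} (hU : ∀ x, c * U x = U x * c) (hL : ∀ x, c * L x = L x * c)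
    (g : G) : Commute c g := by
  have hle : Subgroup.closure (Set.range U ∪ Set.range L) ≤ Subgroup.centralizer {c} := by
    rw [Subgroup.closure_le]
    rintro _ (⟨x, rfl⟩ | ⟨x, rfl⟩) <;> rw [SetLike.mem_coe, Subgroup.mem_centralizer_singleton_iff]
    · exact (hU x).symm
    · exact (hL x).symm
  exact (Subgroup.mem_centralizer_singleton_iff.1 (hle (r.gen ▸ Subgroup.mem_top g))).symm

variable [Finite F]

theorem h_comm (r : Rels U L) {s t : F} (hs : s ≠ 0) (ht : t ≠ 0) :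
    Commute (h U L s) (h U L t) := by
  obtain ⟨g, hg⟩ := IsCyclic.exists_monoid_generator (α := Fˣ)
  have hg0 : (g : F) ≠ 0 := g.ne_zero
  set y := h U L (g : F) with hy
  have hpow : ∀ k : ℕ, (∀ x, y ^ k * U x = U (x * ((g : F) ^ k) ^ 2) * y ^ k) ∧
      (∀ x, y ^ k * L x = L (x / ((g : F) ^ k) ^ 2) * y ^ k) := by
    intro k
    induction k with
    | zero => simp
    | succ k ih =>
      refine ⟨fun x => ?_, fun x => ?_⟩
      · rw [pow_succ y, mul_assoc, hy, r.hU hg0, ← mul_assoc, ← hy, ih.1, mul_assoc]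
        congr 2; ring
      · rw [pow_succ y, mul_assoc, hy, r.hL hg0, ← mul_assoc, ← hy, ih.2, mul_assoc]
        congr 2; field_simp; ring
  have key : ∀ u : F, u ≠ 0 → ∃ (k : ℕ) (c : G), (∀ z, Commute c z) ∧ h U L u = c * y ^ k := by
    intro u hu
    obtain ⟨k, hk⟩ := hg (Units.mk0 u hu)
    have hk' : (g : F) ^ k = u := by
      have := congrArg (fun v : Fˣ => (v : F)) hk
      simpa using this
    refine ⟨k, h U L u * (y ^ k)⁻¹, r.central (fun x => ?_) (fun x => ?_), by rw [inv_mul_cancel_right]⟩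
    · have e := (hpow k).1 (x / u ^ 2)
      rw [hk', div_mul_cancel₀ _ (pow_ne_zero 2 hu)] at e
      have e' : (y ^ k)⁻¹ * U x = U (x / u ^ 2) * (y ^ k)⁻¹ := by
        rw [inv_mul_eq_iff_eq_mul, ← mul_assoc, e, mul_inv_cancel_right]
      rw [mul_assoc, e', ← mul_assoc, r.hU hu, div_mul_cancel₀ _ (pow_ne_zero 2 hu), mul_assoc]
    · have e := (hpow k).2 (x * u ^ 2)
      rw [hk', mul_div_cancel_right₀ _ (pow_ne_zero 2 hu)] at e
      have e' : (y ^ k)⁻¹ * L x = L (x * u ^ 2) * (y ^ k)⁻¹ := by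
        rw [inv_mul_eq_iff_eq_mul, ← mul_assoc, e, mul_inv_cancel_right]
      rw [mul_assoc, e', ← mul_assoc, r.hL hu, mul_div_cancel_right₀ _ (pow_ne_zero 2 hu), mul_assoc]
  obtain ⟨i, c, hc, ei⟩ := key s hs
  obtain ⟨j, d, hd, ej⟩ := key t ht
  rw [ei, ej]
  exact (hc _).mul_left ((hd _).symm.mul_right (Commute.pow_pow_self y i j))

theorem h_square (r : Rels U L) {s t : F} (hs : s ≠ 0) (ht : t ≠ 0) :
    h U L (s ^ 2 * t) = h U L (s ^ 2) * h U L t := by
  have hs2 : s ^ 2 ≠ 0 := pow_ne_zero 2 hs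
  have e : h U L s * h U L t * (h U L s)⁻¹ = h U L t := by
    rw [(r.h_comm hs ht).eq, mul_inv_cancel_right]
  have e2 : h U L s * h U L t * (h U L s)⁻¹ = h U L (s ^ 2 * t) * (h U L (s ^ 2))⁻¹ := by
    calc _ = (h U L s * m U L t * (h U L s)⁻¹) * (h U L s * m U L 1 * (h U L s)⁻¹)⁻¹ := by
          rw [show h U L t = m U L t * (m U L 1)⁻¹ from rfl]; group
      _ = _ := by rw [r.h_conj_m hs ht, r.h_conj_m hs one_ne_zero, mul_one, h, h]; group
  rw [e] at e2
  rw [(r.h_comm hs2 ht).eq]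
  exact (eq_mul_inv_iff_mul_eq.1 e2).symm

theorem m_one_h (r : Rels U L) {s : F} (hs : s ≠ 0) : m U L 1 * h U L s = h U L s⁻¹ * m U L 1 := by
  have e := r.m_conj_m hs (t := 1) one_ne_zero
  rw [one_pow, one_div] at e
  rw [h, h, inv_mul_cancel_right, ← mul_assoc]
  exact e

theorem sum_one (r : Rels U L) {u v : F} (hu : u ≠ 0) (hv : v ≠ 0) (huv : u + v = 1) :
    h U L u * h U L v⁻¹ = h U L (u / v) := by
  have hUm : ∀ {s : F}, s ≠ 0 → U s = L s⁻¹ * m U L s * L s⁻¹ := by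
    intro s hs
    rw [r.m_comm hs, r.L_neg]; group
  have hmL : ∀ {s : F} (y : F), s ≠ 0 → m U L s * L y = U (-(y * s ^ 2)) * m U L s := fun {s} y hs => by
    rw [← r.conjL hs y, inv_mul_cancel_right]
  have e1 : U (1 : F) = L u⁻¹ * U (-(u / v)) * (m U L u * m U L v) * L v⁻¹ := by
    calc U (1 : F) = U u * U v := by rw [← r.addU, huv]
      _ = L u⁻¹ * m U L u * (L u⁻¹ * L v⁻¹) * m U L v * L v⁻¹ := by rw [hUm hu, hUm hv]; group
      _ = _ := by
        rw [← r.addL, mul_assoc (L u⁻¹) (m U L u), hmL _ hu,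
          show -((u⁻¹ + v⁻¹) * u ^ 2) = -(u / v) by
            field_simp
            first | linear_combination (u : F) * huv | linear_combination huv | linear_combination -huv]
        group
  have e2 : m U L u * m U L v = U (u / v) * L (-(v / u)) * U (u / v) * m U L 1 := by
    have e4 : U (u / v) * m U L 1 = m U L 1 * L (-(u / v)) := by
      rw [hmL _ one_ne_zero, one_pow, mul_one, neg_neg]
    calc m U L u * m U L v = U (u / v) * (L u⁻¹)⁻¹ * (L u⁻¹ * U (-(u / v)) * (m U L u * m U L v) * L v⁻¹) *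
          (L v⁻¹)⁻¹ := by rw [r.U_neg]; group
      _ = U (u / v) * (L u⁻¹)⁻¹ * U 1 * (L v⁻¹)⁻¹ := by rw [← e1]
      _ = U (u / v) * ((L u⁻¹)⁻¹ * L 1) * (m U L 1 * (L 1 * (L v⁻¹)⁻¹)) := by
        rw [hUm one_ne_zero, inv_one]; group
      _ = _ := by
        rw [← r.L_neg, ← r.L_neg, ← r.addL, ← r.addL, show -u⁻¹ + 1 = -(v / u) by
          field_simp; linear_combination huv, show 1 + -v⁻¹ = -(u / v) by
          field_simp; linear_combination huv, ← e4]
        group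
  have e3 : m U L (u / v) = U (u / v) * L (-(v / u)) * U (u / v) := by rw [m, inv_div]
  rw [← e3] at e2
  have e5 : h U L v⁻¹ = m U L 1 * h U L v * (m U L 1)⁻¹ := by
    rw [r.m_one_h hv, mul_inv_cancel_right]
  calc h U L u * h U L v⁻¹ = m U L u * m U L v * (m U L 1)⁻¹ * (m U L 1)⁻¹ := by
        rw [e5, h, h]; group
    _ = _ := by rw [e2, h]; group

theorem h_mul (r : Rels U L) {s t : F} (hs : s ≠ 0) (ht : t ≠ 0) :
    h U L (s * t) = h U L s * h U L t := by
  by_cases hsq : ∃ c, s = c ^ 2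
  · obtain ⟨c, rfl⟩ := hsq
    exact r.h_square (by intro h0; exact hs (by rw [h0]; ring)) ht
  by_cases hsq' : ∃ c, t = c ^ 2
  · obtain ⟨c, rfl⟩ := hsq'
    rw [mul_comm, r.h_square (by intro h0; exact ht (by rw [h0]; ring)) hs, (r.h_comm ht hs).eq]
  classical
  have := Fintype.ofFinite F
  have hodd : ringChar F ≠ 2 := fun h2 => hsq ((FiniteField.isSquare_of_char_two h2 s).imp fun c hc => by rw [hc]; ring)
  have hsquare : ∀ x : F, x ≠ 0 → (∀ c, x ≠ c ^ 2) → ∃ c, c ≠ 0 ∧ x = c ^ 2 * s := by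
    intro x hx hxs
    have h1 : quadraticChar F x = -1 := quadraticChar_neg_one_iff_not_isSquare.2 fun ⟨c, hc⟩ => hxs c (by rw [hc]; ring)
    have h2 : quadraticChar F s = -1 :=
      quadraticChar_neg_one_iff_not_isSquare.2 fun ⟨c, hc⟩ => hsq ⟨c, by rw [hc]; ring⟩
    have h3 : quadraticChar F (x * s) = 1 := by rw [map_mul, h1, h2]; norm_num
    obtain ⟨c, hc⟩ := (quadraticChar_one_iff_isSquare (mul_ne_zero hx hs)).1 h3
    refine ⟨c / s, div_ne_zero (fun h0 => by rw [h0, mul_zero] at hc; exact mul_ne_zero hx hs hc) hs, ?_⟩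
    field_simp
    linear_combination hc
  -- two non-squares with sum one
  obtain ⟨a, b, hab⟩ : ∃ a b : F, a ^ 2 + b ^ 2 = s⁻¹ := by
    have h2 := Nat.Prime.two_le (CharP.char_is_prime F (ringChar F))
    obtain ⟨a, b, hab⟩ := FiniteField.exists_root_sum_quadratic (f := (Polynomial.X : Polynomial F) ^ 2)
      (g := (Polynomial.X : Polynomial F) ^ 2 - Polynomial.C s⁻¹) (Polynomial.degree_X_pow 2)
      (Polynomial.degree_X_pow_sub_C (by norm_num) _) (FiniteField.odd_card_of_char_ne_two hodd)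
    refine ⟨a, b, ?_⟩
    simp at hab
    linear_combination hab
  have hsi : ∀ c, s⁻¹ ≠ c ^ 2 := fun c hc => hsq ⟨c⁻¹, by rw [inv_pow, ← hc, inv_inv]⟩
  have ha0 : a ≠ 0 := fun h0 => hsi b (by rw [← hab, h0]; ring)
  have hb0 : b ≠ 0 := fun h0 => hsi a (by rw [← hab, h0]; ring)
  have hu : a ^ 2 * s ≠ 0 := mul_ne_zero (pow_ne_zero 2 ha0) hs
  have hv : b ^ 2 * s ≠ 0 := mul_ne_zero (pow_ne_zero 2 hb0) hs
  have key := r.sum_one hu hv (by rw [← add_mul, hab, inv_mul_cancel₀ hs])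
  obtain ⟨c, hc0, hc⟩ := hsquare (b ^ 2 * s)⁻¹ (inv_ne_zero hv) fun c hc => hsq ⟨(c * b)⁻¹, by
    rw [inv_pow, mul_pow, ← hc]; field_simp⟩
  obtain ⟨d, hd0, hd⟩ := hsquare t ht fun c hc => hsq' ⟨c, hc⟩
  -- reduces to the value at one non-square
  have hss : h U L (s * s) = h U L s * h U L s := by
    have hca : c * a ≠ 0 := mul_ne_zero hc0 ha0
    rw [hc, div_eq_mul_inv, hc, r.h_square ha0 hs, r.h_square hc0 hs,
      show a ^ 2 * s * (c ^ 2 * s) = (c * a) ^ 2 * (s * s) by ring,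
      r.h_square hca (mul_ne_zero hs hs), show (c * a) ^ 2 = a ^ 2 * c ^ 2 by ring,
      r.h_square ha0 (pow_ne_zero 2 hc0)] at key
    rw [show h U L (a ^ 2) * h U L s * (h U L (c ^ 2) * h U L s) =
      h U L (a ^ 2) * h U L (c ^ 2) * (h U L s * h U L s) by
        rw [mul_assoc, ← mul_assoc (h U L s), (r.h_comm hs (pow_ne_zero 2 hc0)).eq]; group] at key
    exact (mul_left_cancel key).symm
  rw [hd, r.h_square hd0 hs, show s * (d ^ 2 * s) = d ^ 2 * (s * s) by ring,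
    r.h_square hd0 (mul_ne_zero hs hs), hss, ← mul_assoc, ← mul_assoc,
    (r.h_comm (pow_ne_zero 2 hd0) hs).eq]

/-- The normal form. -/
theorem normal_form (r : Rels U L) (g : G) :
    (∃ x s, s ≠ 0 ∧ g = U x * h U L s) ∨ ∃ x s y, s ≠ 0 ∧ g = U x * h U L s * m U L 1 * U y := by
  set P : G → Prop := fun g =>
    (∃ x s, s ≠ 0 ∧ g = U x * h U L s) ∨ ∃ x s y, s ≠ 0 ∧ g = U x * h U L s * m U L 1 * U y with hP
  have hm1 : m U L 1 * m U L 1 = h U L (-1) := by
    have e : h U L (-1) = (m U L 1)⁻¹ * (m U L 1)⁻¹ := by rw [h, r.m_neg]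
    have e2 : h U L (-1) * h U L (-1) = 1 := by
      rw [← r.h_mul (by simp) (by simp), neg_mul_neg, one_mul, r.h_one]
    rw [mul_eq_one_iff_eq_inv.1 e2, e, _root_.mul_inv_rev, inv_inv]
  have hmU : ∀ z, P z → ∀ y, P (z * U y) := by
    rintro z (⟨x, s, hs, rfl⟩ | ⟨x, s, y₀, hs, rfl⟩) y
    · exact Or.inl ⟨x + y * s ^ 2, s, hs, by rw [mul_assoc, r.hU hs, ← mul_assoc, r.addU]⟩
    · exact Or.inr ⟨x, s, y₀ + y, hs, by rw [r.addU, mul_assoc (U x * h U L s * m U L 1)]⟩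
  have hmh : ∀ z, P z → ∀ t, t ≠ 0 → P (z * h U L t) := by
    rintro z (⟨x, s, hs, rfl⟩ | ⟨x, s, y, hs, rfl⟩) t ht
    · exact Or.inl ⟨x, s * t, mul_ne_zero hs ht, by rw [r.h_mul hs ht, mul_assoc]⟩
    · refine Or.inr ⟨x, s * t⁻¹, y / t ^ 2, mul_ne_zero hs (inv_ne_zero ht), ?_⟩
      have e : U y * h U L t = h U L t * U (y / t ^ 2) := by
        rw [r.hU ht, div_mul_cancel₀ _ (pow_ne_zero 2 ht)]
      calc U x * h U L s * m U L 1 * U y * h U L t
          = U x * h U L s * (m U L 1 * h U L t) * U (y / t ^ 2) := by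
            rw [mul_assoc _ (U y), e]; group
        _ = _ := by rw [r.m_one_h ht, r.h_mul hs (inv_ne_zero ht)]; group
  have hmm : ∀ z, P z → P (z * m U L 1) := by
    rintro z (⟨x, s, hs, rfl⟩ | ⟨x, s, y, hs, rfl⟩)
    · exact Or.inr ⟨x, s, 0, hs, by rw [r.U_zero, mul_one]⟩
    · by_cases hy : y = 0
      · subst hy
        refine Or.inl ⟨x, s * -1, mul_ne_zero hs (by simp), ?_⟩
        rw [r.h_mul hs (by simp), ← hm1, r.U_zero]
        group
      · have hy' : y⁻¹ ≠ 0 := inv_ne_zero hy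
        have e1 : m U L 1 * U y = L (-y) * m U L 1 := by
          rw [← mul_inv_eq_iff_eq_mul, r.conj 1 one_ne_zero]; congr 1; ring
        have e2 : L (-y) = U (-y⁻¹) * (h U L y⁻¹ * m U L 1) * U (-y⁻¹) := by
          rw [h, inv_mul_cancel_right, m, inv_inv, r.U_neg]; group
        have h5 := hmh _ (Or.inr ⟨x + -y⁻¹ * s ^ 2, s * y⁻¹, -y⁻¹, mul_ne_zero hs hy', rfl⟩ :
          P (U (x + -y⁻¹ * s ^ 2) * h U L (s * y⁻¹) * m U L 1 * U (-y⁻¹))) (-1) (by simp)
        convert h5 using 1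
        calc U x * h U L s * m U L 1 * U y * m U L 1
            = U x * (h U L s * U (-y⁻¹)) * h U L y⁻¹ * m U L 1 * U (-y⁻¹) * (m U L 1 * m U L 1) := by
              rw [mul_assoc _ (m U L 1) (U y), e1, e2]; group
          _ = _ := by
              rw [hm1, r.hU hs, r.addU, r.h_mul hs hy']; group
  have hL : ∀ z, P z → ∀ y, P (z * L y) := by
    intro z hz y
    have e : L y = m U L 1 * U (-y) * (m U L 1 * h U L (-1)) := by
      have e3 : m U L 1 * h U L (-1) = (m U L 1)⁻¹ := by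
        refine eq_inv_of_mul_eq_one_right ?_
        rw [← mul_assoc, hm1, ← r.h_mul (by simp) (by simp), neg_mul_neg, one_mul, r.h_one]
      rw [e3, r.conj 1 one_ne_zero]; congr 1; ring
    rw [e, ← mul_assoc, ← mul_assoc, ← mul_assoc]
    exact hmh _ (hmm _ (hmU _ (hmm _ hz) _)) _ (by simp)
  have h1 : P 1 := Or.inl ⟨0, 1, one_ne_zero, by rw [r.U_zero, r.h_one, mul_one]⟩
  have hg : g ∈ Subgroup.closure (Set.range U ∪ Set.range L) := r.gen ▸ Subgroup.mem_top g
  induction hg using Subgroup.closure_induction_right with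
  | one => exact h1
  | mul_right z w _ hw ih =>
    rcases hw with ⟨y, rfl⟩ | ⟨y, rfl⟩
    · exact hmU _ ih y
    · exact hL _ ih y
  | mul_inv_cancel z w _ hw ih =>
    rcases hw with ⟨y, rfl⟩ | ⟨y, rfl⟩
    · rw [← r.U_neg]; exact hmU _ ih _
    · rw [← r.L_neg]; exact hL _ ih _

end Rels

/-- The unitriangular generators of `SL₂`. -/
abbrev u₂ (x : F) : Matrix.SpecialLinearGroup (Fin 2) F :=
  Matrix.SpecialLinearGroup.transvection (show (0 : Fin 2) ≠ 1 by decide) x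

/-- The lower unitriangular generators of `SL₂`. -/
abbrev l₂ (x : F) : Matrix.SpecialLinearGroup (Fin 2) F :=
  Matrix.SpecialLinearGroup.transvection (show (1 : Fin 2) ≠ 0 by decide) x

theorem m_coe {s : F} (hs : s ≠ 0) :
    ((m (u₂ (F := F)) l₂ s : Matrix.SpecialLinearGroup (Fin 2) F) : Matrix (Fin 2) (Fin 2) F) =
      !![0, s; -s⁻¹, 0] := by
  ext i j
  fin_cases i <;> fin_cases j <;>
    simp [m, u₂, l₂, Matrix.SpecialLinearGroup.transvection_coe, Matrix.mul_apply, Fin.sum_univ_two,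
      mul_inv_cancel₀ hs, inv_mul_cancel₀ hs]

theorem h_coe {s : F} (hs : s ≠ 0) :
    ((h (u₂ (F := F)) l₂ s : Matrix.SpecialLinearGroup (Fin 2) F) : Matrix (Fin 2) (Fin 2) F) =
      !![s, 0; 0, s⁻¹] := by
  rw [h, Matrix.SpecialLinearGroup.coe_mul, Matrix.SpecialLinearGroup.coe_inv, m_coe hs, m_coe one_ne_zero,
    Matrix.adjugate_fin_two_of]
  ext i j
  fin_cases i <;> fin_cases j <;> simp [Matrix.mul_apply, Fin.sum_univ_two]

theorem gen₂ : Subgroup.closure (Set.range (u₂ (F := F)) ∪ Set.range (l₂ (F := F))) = ⊤ := by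
  rw [eq_top_iff, ← sl_closure_transvections, Subgroup.closure_le]
  rintro g ⟨i, j, hij, c, rfl⟩
  fin_cases i <;> fin_cases j
  · exact absurd rfl hij
  · exact Subgroup.subset_closure (Or.inl ⟨c, rfl⟩)
  · exact Subgroup.subset_closure (Or.inr ⟨c, rfl⟩)
  · exact absurd rfl hij

theorem rels₂ : Rels (u₂ (F := F)) l₂ := by
  refine ⟨fun x y => (TransRoot.trans_mul _ x y).symm, fun x y => (TransRoot.trans_mul _ x y).symm,
    fun s hs x => ?_, gen₂⟩
  rw [mul_inv_eq_iff_eq_mul]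
  apply Subtype.ext
  show ((m (u₂ (F := F)) l₂ s * u₂ x : Matrix.SpecialLinearGroup (Fin 2) F) : Matrix (Fin 2) (Fin 2) F) =
    ((l₂ (-x / s ^ 2) * m u₂ l₂ s : Matrix.SpecialLinearGroup (Fin 2) F) : Matrix (Fin 2) (Fin 2) F)
  rw [Matrix.SpecialLinearGroup.coe_mul, Matrix.SpecialLinearGroup.coe_mul, m_coe hs]
  ext i j
  fin_cases i <;> fin_cases j <;>
    simp [u₂, l₂, Matrix.SpecialLinearGroup.transvection_coe, Matrix.mul_apply, Fin.sum_univ_two] <;>
    field_simp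

/-- A group with the relations is an image of `SL₂`. -/
theorem exists_hom [Finite F] (r : Rels U L) :
    ∃ φ : Matrix.SpecialLinearGroup (Fin 2) F →* G, (∀ x, φ (u₂ x) = U x) ∧ (∀ x, φ (l₂ x) = L x) ∧
      Function.Surjective φ := by
  set Γ : Subgroup (G × Matrix.SpecialLinearGroup (Fin 2) F) :=
    Subgroup.closure ((Set.range fun x => (U x, u₂ x)) ∪ Set.range fun x => (L x, l₂ x)) with hΓ
  let U' : F → Γ := fun x => ⟨(U x, u₂ x), Subgroup.subset_closure (Or.inl ⟨x, rfl⟩)⟩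
  let L' : F → Γ := fun x => ⟨(L x, l₂ x), Subgroup.subset_closure (Or.inr ⟨x, rfl⟩)⟩
  have r' : Rels U' L' := by
    refine ⟨fun x y => Subtype.ext (Prod.ext (r.addU x y) (rels₂.addU x y)),
      fun x y => Subtype.ext (Prod.ext (r.addL x y) (rels₂.addL x y)),
      fun s hs x => Subtype.ext (Prod.ext (r.conj s hs x) (rels₂.conj s hs x)), ?_⟩
    apply Subgroup.map_injective Γ.subtype_injective
    rw [MonoidHom.map_closure, ← MonoidHom.range_eq_map, Subgroup.range_subtype, Set.image_union,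
      ← Set.range_comp, ← Set.range_comp]
    exact hΓ.symm
  let π : Γ →* Matrix.SpecialLinearGroup (Fin 2) F := (MonoidHom.snd _ _).comp Γ.subtype
  let π₁ : Γ →* G := (MonoidHom.fst _ _).comp Γ.subtype
  have hsurj : Function.Surjective π := by
    rw [← MonoidHom.range_eq_top, eq_top_iff, ← gen₂, Subgroup.closure_le]
    rintro _ (⟨x, rfl⟩ | ⟨x, rfl⟩)
    · exact ⟨U' x, rfl⟩
    · exact ⟨L' x, rfl⟩
  have hπU : ∀ x, π (U' x) = u₂ x := fun x => rfl
  have hπm : ∀ s, π (m U' L' s) = m u₂ l₂ s := fun s => by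
    simp only [m, map_mul, hπU]; rfl
  have hπh : ∀ s, π (h U' L' s) = h u₂ l₂ s := fun s => by
    simp only [h, map_mul, map_inv, hπm]
  have hinj : Function.Injective π := by
    rw [← MonoidHom.ker_eq_bot_iff, Subgroup.eq_bot_iff_forall]
    intro g hg
    rw [MonoidHom.mem_ker] at hg
    rcases r'.normal_form g with ⟨x, s, hs, rfl⟩ | ⟨x, s, y, hs, rfl⟩
    · rw [map_mul, hπU, hπh] at hg
      have hv := congrArg (fun A : Matrix.SpecialLinearGroup (Fin 2) F => (A : Matrix (Fin 2) (Fin 2) F)) hg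
      simp only [Matrix.SpecialLinearGroup.coe_mul, h_coe hs, Matrix.SpecialLinearGroup.coe_one] at hv
      have h00 := congrFun (congrFun hv 0) 0
      have h01 := congrFun (congrFun hv 0) 1
      simp [u₂, Matrix.SpecialLinearGroup.transvection_coe, Matrix.mul_apply, Fin.sum_univ_two] at h00 h01
      subst h00
      obtain rfl : x = 0 := by simpa using h01
      rw [r'.U_zero, r'.h_one, mul_one]
    · exfalso
      rw [map_mul, map_mul, map_mul, hπU, hπU, hπh, hπm] at hg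
      have hv := congrArg (fun A : Matrix.SpecialLinearGroup (Fin 2) F => (A : Matrix (Fin 2) (Fin 2) F)) hg
      simp only [Matrix.SpecialLinearGroup.coe_mul, h_coe hs, m_coe one_ne_zero,
        Matrix.SpecialLinearGroup.coe_one] at hv
      have h10 := congrFun (congrFun hv 1) 0
      simp [u₂, Matrix.SpecialLinearGroup.transvection_coe, Matrix.mul_apply, Fin.sum_univ_two, hs] at h10
  let e : Γ ≃* Matrix.SpecialLinearGroup (Fin 2) F := MulEquiv.ofBijective π ⟨hinj, hsurj⟩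
  refine ⟨π₁.comp e.symm.toMonoidHom, fun x => ?_, fun x => ?_, ?_⟩
  · show π₁ (e.symm (u₂ x)) = U x
    rw [show u₂ x = e (U' x) from rfl, e.symm_apply_apply]; rfl
  · show π₁ (e.symm (l₂ x)) = L x
    rw [show l₂ x = e (L' x) from rfl, e.symm_apply_apply]; rfl
  · rw [← MonoidHom.range_eq_top, eq_top_iff, ← r.gen, Subgroup.closure_le]
    rintro _ (⟨x, rfl⟩ | ⟨x, rfl⟩)
    · exact ⟨e (U' x), by show π₁ (e.symm (e (U' x))) = U x; rw [e.symm_apply_apply]; rfl⟩
    · exact ⟨e (L' x), by show π₁ (e.symm (e (L' x))) = L x; rw [e.symm_apply_apply]; rfl⟩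

end Cfsg.Agent.Classical.SL2Rel
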