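import Cfsg.Agent.Lib.Classical.SOSingerSpinor

/-!
# An element order missing from `Ω_{2m+3}(q)`

For a primitive prime divisor `r` of `q^(2m) - 1`, `q` odd, `m ≥ 2`, the derived group of the
orthogonal group of dimension `2m+3` has no element of order `p (q^m+1)`.
-/

set_option autoImplicit false
set_option linter.unusedSectionVars false
set_option linter.style.haveILetI false

namespace Cfsg.Agent.Classical.SOSinger

open Module QuadraticMap OCount ORefl OOmega

variable {F : Type*} [Field F] {V : Type*} [AddCommGroup V] [Module F V] {Q : QuadraticForm F V}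

/-- The restriction of a form. -/
noncomputable abbrev res (Q : QuadraticForm F V) (U : Submodule F V) : QuadraticForm F U := Q.comp U.subtype

theorem res_polar (U : Submodule F V) (u v : U) : polar (res Q U) u v = polar Q (u : V) v := rfl

/-- Two orthogonal complementary subspaces. -/
structure OSplit (Q : QuadraticForm F V) (W C : Submodule F V) : Prop where
  compl : IsCompl W C
  perp : ∀ w ∈ W, ∀ c ∈ C, polar Q w c = 0

variable {W C : Submodule F V} (hs : OSplit Q W C)
include hs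

theorem pnd_left (hQ : PND Q) : PND (res Q W) := fun w hw => Subtype.ext (hQ _ fun v => by
  obtain ⟨a, ha, c, hc, rfl⟩ :=
    Submodule.mem_sup.mp (hs.compl.sup_eq_top ▸ Submodule.mem_top : v ∈ W ⊔ C)
  rw [polar_add_right, hs.perp _ w.2 c hc, add_zero]
  exact hw ⟨a, ha⟩)

theorem pnd_right (hQ : PND Q) : PND (res Q C) := fun w hw => Subtype.ext (hQ _ fun v => by
  obtain ⟨a, ha, c, hc, rfl⟩ :=
    Submodule.mem_sup.mp (hs.compl.sup_eq_top ▸ Submodule.mem_top : v ∈ W ⊔ C)
  rw [polar_add_right, polar_comm Q _ a, hs.perp a ha _ w.2, zero_add]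
  exact hw ⟨c, hc⟩)

theorem exists_decomp (v : V) : ∃ a ∈ W, ∃ c ∈ C, a + c = v :=
  Submodule.mem_sup.mp (hs.compl.sup_eq_top ▸ Submodule.mem_top : v ∈ W ⊔ C)

theorem map_split {a c : V} (ha : a ∈ W) (hc : c ∈ C) : Q (a + c) = Q a + Q c := by
  rw [map_two, hs.perp a ha c hc, add_zero]

theorem exists_ext :
    ∃ e : ↥(Iso (res Q W)) →* ↥(Iso Q), (∀ y, ∀ w : W, (e y).1 (w : V) = ((y.1 w : W) : V)) ∧ (∀ y, ∀ c ∈ C, (e y).1 c = c) ∧
      Function.Injective e := by
  let P := Submodule.prodEquivOfIsCompl W C hs.compl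
  have hP : ∀ (a : W) (c : C), P (a, c) = (a : V) + c := fun a c =>
    Submodule.coe_prodEquivOfIsCompl' W C hs.compl (a, c)
  let f : ↥(Iso (res Q W)) → (V ≃ₗ[F] V) := fun y =>
    P.symm.trans ((y.1.prodCongr (LinearEquiv.refl F C)).trans P)
  have hf : ∀ y (a : W) (c : C), f y ((a : V) + c) = (y.1 a : V) + c := fun y a c => by
    rw [← hP]
    change P ((y.1.prodCongr (LinearEquiv.refl F C)) (P.symm (P (a, c)))) = _
    rw [P.symm_apply_apply, LinearEquiv.prodCongr_apply, LinearEquiv.refl_apply, hP]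
  have hmem : ∀ y, f y ∈ Iso Q := fun y v => by
    obtain ⟨a, ha, c, hc, rfl⟩ := exists_decomp hs v
    rw [hf y ⟨a, ha⟩ ⟨c, hc⟩, map_split hs (y.1 ⟨a, ha⟩).2 hc, map_split hs ha hc]
    exact congrArg (· + Q c) (y.2 ⟨a, ha⟩)
  refine ⟨{ toFun := fun y => ⟨f y, hmem y⟩, map_one' := ?_, map_mul' := ?_ }, fun y w => ?_, fun y c hc => ?_,
    fun y z e => ?_⟩
  · refine Subtype.ext (LinearEquiv.ext fun v => ?_)
    obtain ⟨a, ha, c, hc, rfl⟩ := exists_decomp hs v
    exact hf 1 ⟨a, ha⟩ ⟨c, hc⟩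
  · intro y z
    refine Subtype.ext (LinearEquiv.ext fun v => ?_)
    obtain ⟨a, ha, c, hc, rfl⟩ := exists_decomp hs v
    change f (y * z) (a + c) = f y (f z (a + c))
    rw [hf (y * z) ⟨a, ha⟩ ⟨c, hc⟩, hf z ⟨a, ha⟩ ⟨c, hc⟩, hf y (z.1 ⟨a, ha⟩) ⟨c, hc⟩]
    rfl
  · have := hf y w 0
    simpa using this
  · have := hf y 0 ⟨c, hc⟩
    simpa using this
  · refine Subtype.ext (LinearEquiv.ext fun w => Subtype.ext ?_)
    have h1 := congrArg (fun g : ↥(Iso Q) => g.1 (w : V)) e
    change f y (w : V) = f z (w : V) at h1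
    have hy := hf y w 0
    have hz := hf z w 0
    simp only [Submodule.coe_zero, add_zero] at hy hz
    rw [← hy, ← hz, h1]

variable [Finite F] [FiniteDimensional F V]

/-- The extension preserves determinant and spinor norm. -/
theorem both_ext (h2 : (2 : F) ≠ 0) (hQ : PND Q) (hdW : 2 ≤ finrank F W) (hd : 2 ≤ finrank F V)
    (e : ↥(Iso (res Q W)) →* ↥(Iso Q)) (heW : ∀ y, ∀ w : W, (e y).1 (w : V) = ((y.1 w : W) : V))
    (heC : ∀ y, ∀ c ∈ C, (e y).1 c = c) (y : ↥(Iso (res Q W))) :
    both Q h2 hQ (e y) = both (res Q W) h2 (pnd_left hs hQ) y := by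
  refine DFunLike.congr_fun (hom_ext (f := (both Q h2 hQ).comp e) (pnd_left hs hQ) (two_ne h2) fun w hw => ?_) y
  have hwV : Q (w : V) ≠ 0 := hw
  have e1 : e (rf (res Q W) w) = rf Q (w : V) := by
    refine Subtype.ext (LinearEquiv.ext fun v => ?_)
    obtain ⟨a, ha, c, hc, rfl⟩ := exists_decomp hs v
    rw [map_add, heC _ c hc, show (e (rf (res Q W) w)).1 a = ((rf (res Q W) w).1 ⟨a, ha⟩ : V) from heW _ ⟨a, ha⟩]
    change ((refl (res Q W) w ⟨a, ha⟩ : W) : V) + c = refl Q (w : V) (a + c)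
    rw [refl_apply, refl_apply, polar_add_right, hs.perp _ w.2 c hc, add_zero, res_polar]
    simp only [QuadraticMap.comp_apply, Submodule.subtype_apply, AddSubgroupClass.coe_sub,
      SetLike.val_smul]
    abel
  rw [MonoidHom.comp_apply, e1]
  refine Prod.ext ?_ ?_
  · exact (dsign_rf h2 hQ hwV).trans (dsign_rf h2 (pnd_left hs hQ) hw).symm
  · change spinor Q (rf Q (w : V)) = spinor (res Q W) (rf (res Q W) w)
    have h3 := spinor_rf h2 hQ hd hwV
    have h4 := spinor_rf h2 (pnd_left hs hQ) hdW hw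
    rcases Int.units_eq_one_or (spinor Q (rf Q (w : V))) with a | a <;>
      rcases Int.units_eq_one_or (spinor (res Q W) (rf (res Q W) w)) with b | b <;>
      rw [a, b] <;> rw [a] at h3 <;> rw [b] at h4
    · exact absurd (h4.mpr (h3.mp rfl)) (by decide)
    · exact absurd (h3.mpr (h4.mp rfl)) (by decide)

omit hs

/-- In dimension three the `p`-th power of an isometry commuting with an element of order `p` is a scalar. -/
theorem pow_scalar_of_unipotent (p : ℕ) [Fact p.Prime] [CharP F p] (hp : p ≠ 2) (h2 : (2 : F) ≠ 0) (hQ : PND Q)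
    (hd : finrank F V = 3) {u c : Module.End F V} (hu : ∀ v w, polar Q (u v) (u w) = polar Q v w)
    (hup : u ^ p = 1) (hu1 : u ≠ 1) (hc : Commute c u) : ∃ a : F, c ^ p = a • 1 := by
  have hp3 : 3 ≤ p := by have := (Fact.out : p.Prime).two_le; omega
  haveI : Nontrivial V := Module.nontrivial_of_finrank_pos (R := F) (by omega)
  haveI : CharP (Module.End F V) p :=
    charP_of_injective_algebraMap (FaithfulSMul.algebraMap_injective F (Module.End F V)) p
  obtain ⟨N, hN⟩ : ∃ N, N = u - 1 := ⟨_, rfl⟩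
  have huN : u = 1 + N := by rw [hN]; abel
  have hnil : IsNilpotent N := ⟨p, by
    rw [hN, sub_pow_char_of_commute _ (Commute.one_right u), hup, one_pow, sub_self]⟩
  have hN3 : N ^ 3 = 0 := by
    obtain ⟨k, hk⟩ := hnil
    refine LinearMap.ker_eq_top.mp (top_le_iff.mp ?_)
    calc (⊤ : Submodule F V) = LinearMap.ker (N ^ k) := by rw [hk, LinearMap.ker_zero]
      _ ≤ LinearMap.ker (N ^ finrank F V) := Module.End.ker_pow_le_ker_pow_finrank N k
      _ = LinearMap.ker (N ^ 3) := by rw [hd]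
  have hiso : ∀ v w, polar Q (N v) w + polar Q v (N w) + polar Q (N v) (N w) = 0 := by
    intro v w
    have h := hu v w
    simp only [huN, LinearMap.add_apply, Module.End.one_apply, polar_add_left, polar_add_right] at h
    linear_combination h
  have hN2 : N ^ 2 ≠ 0 := by
    intro e
    have hNN : ∀ v, N (N v) = 0 := fun v => by
      have := LinearMap.congr_fun e v
      rwa [pow_two] at this
    have horth : ∀ k w, N k = 0 → polar Q k (N w) = 0 := fun k w hk => by
      have h := hiso k w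
      rwa [hk, polar_zero_left, polar_zero_left, zero_add, add_zero] at h
    have hskew : ∀ v w, polar Q (N v) w + polar Q v (N w) = 0 := fun v w => by
      have h := hiso v w
      rwa [horth (N v) w (hNN v), add_zero] at h
    have hrange : 2 * finrank F (LinearMap.range N) ≤ 3 := by
      have hle : LinearMap.range N ≤ LinearMap.BilinForm.orthogonal (QuadraticMap.polarBilin Q) (LinearMap.range N) := by
        rintro _ ⟨v, rfl⟩ _ ⟨w, rfl⟩
        exact horth (N w) v (hNN w)
      have h1 := Submodule.finrank_mono hle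
      have hrefl : (QuadraticMap.polarBilin Q).IsRefl := fun a b h => by
        simpa [QuadraticMap.polarBilin_apply_apply, polar_comm] using h
      rw [LinearMap.BilinForm.finrank_orthogonal (ORefl.nondeg hQ), hd] at h1
      omega
    have hN0 : N ≠ 0 := fun e0 => hu1 (by rw [huN, e0, add_zero])
    have hr1 : finrank F (LinearMap.range N) = 1 := by
      have : finrank F (LinearMap.range N) ≠ 0 := fun e0 =>
        hN0 (LinearMap.range_eq_bot.mp (Submodule.finrank_eq_zero.mp e0))
      omega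
    obtain ⟨e₀, he₀, hgen⟩ := finrank_eq_one_iff'.mp hr1
    have hcoef : ∀ v, ∃ t : F, N v = t • (e₀ : V) := fun v => by
      obtain ⟨t, ht⟩ := hgen ⟨N v, v, rfl⟩
      exact ⟨t, (congrArg Subtype.val ht).symm⟩
    choose φ hφ using hcoef
    have hprod : ∀ v, φ v * polar Q (e₀ : V) v = 0 := fun v => by
      have h := hskew v v
      rw [hφ, polar_smul_left, polar_smul_right, polar_comm Q v, smul_eq_mul] at h
      exact (mul_eq_zero.mp (by linear_combination h : (2 : F) * (φ v * polar Q (e₀ : V) v) = 0)).resolve_left h2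
    obtain ⟨a, ha⟩ : ∃ a, φ a ≠ 0 := by
      by_contra h; push Not at h
      exact hN0 (LinearMap.ext fun v => by rw [hφ, h v, zero_smul]; rfl)
    refine he₀ (Subtype.ext (hQ _ fun w => ?_))
    have ha' : polar Q (e₀ : V) a = 0 := (mul_eq_zero.mp (hprod a)).resolve_left ha
    by_contra hw
    have hw' : φ w = 0 := (mul_eq_zero.mp (hprod w)).resolve_right hw
    have hadd : φ (a + w) = φ a := by
      refine smul_left_injective F (fun e0 => he₀ (Subtype.ext e0)) ?_
      change φ (a + w) • (e₀ : V) = φ a • (e₀ : V)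
      rw [← hφ, map_add, hφ w, hw', zero_smul, add_zero, hφ]
    have h3 := hprod (a + w)
    rw [hadd, polar_add_right, ha', zero_add] at h3
    exact (mul_eq_zero.mp h3).elim ha hw
  obtain ⟨v, hv⟩ : ∃ v, (N ^ 2) v ≠ 0 := by
    by_contra h; push Not at h
    exact hN2 (LinearMap.ext h)
  have k3 : ∀ z, N (N z) = (N ^ 2) z := fun z => by rw [pow_two]; rfl
  have k4 : ∀ z, (N ^ 2) (N z) = 0 := fun z => by
    have := LinearMap.congr_fun hN3 z
    rw [pow_succ] at this
    exact this
  have k5 : ∀ z, N ((N ^ 2) z) = 0 := fun z => by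
    have := LinearMap.congr_fun hN3 z
    rw [pow_succ'] at this
    exact this
  have hli : LinearIndependent F ![v, N v, (N ^ 2) v] := by
    rw [Fintype.linearIndependent_iff]
    intro t ht
    rw [Fin.sum_univ_three] at ht
    change t 0 • v + t 1 • N v + t 2 • (N ^ 2) v = 0 at ht
    have k6 : (N ^ 2) ((N ^ 2) v) = 0 := by rw [← k3 v, k4]
    have e0 := congrArg (fun z => (N ^ 2) z) ht
    simp only [map_add, map_smul, map_zero, k4, k6, smul_zero, add_zero] at e0
    have t0 : t 0 = 0 := (smul_eq_zero.mp e0).resolve_right hv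
    rw [t0, zero_smul, zero_add] at ht
    have e1 := congrArg (fun z => N z) ht
    simp only [map_add, map_smul, map_zero, k3, k5, smul_zero, add_zero] at e1
    have t1 : t 1 = 0 := (smul_eq_zero.mp e1).resolve_right hv
    rw [t1, zero_smul, zero_add] at ht
    have t2 : t 2 = 0 := (smul_eq_zero.mp ht).resolve_right hv
    intro i; fin_cases i <;> assumption
  have hspan : ∀ w, ∃ a b d : F, w = a • v + b • N v + d • (N ^ 2) v := by
    intro w
    have htop : Submodule.span F (Set.range ![v, N v, (N ^ 2) v]) = ⊤ :=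
      hli.span_eq_top_of_card_eq_finrank (by simp [hd])
    obtain ⟨t, ht⟩ := (Submodule.mem_span_range_iff_exists_fun F).mp (htop ▸ Submodule.mem_top : w ∈ _)
    exact ⟨t 0, t 1, t 2, by rw [← ht, Fin.sum_univ_three]; rfl⟩
  have hcN : Commute c N := hN ▸ hc.sub_right (Commute.one_right c)
  obtain ⟨a, b, d, hcv⟩ := hspan (c v)
  have hceq : c = a • 1 + N * (b • 1 + d • N) := by
    refine LinearMap.ext fun w => ?_
    obtain ⟨a', b', d', rfl⟩ := hspan w
    have k1 : c (N v) = N (c v) := LinearMap.congr_fun hcN.eq v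
    have k2 : c ((N ^ 2) v) = (N ^ 2) (c v) := LinearMap.congr_fun (hcN.pow_right 2).eq v
    have k6 : (N ^ 2) ((N ^ 2) v) = 0 := by rw [← k3 v, k4]
    simp only [map_add, map_smul, k1, k2, hcv, LinearMap.add_apply, LinearMap.smul_apply, Module.End.one_apply,
      Module.End.mul_apply, k3, k4, k5, k6, smul_add, smul_zero, add_zero]
    module
  refine ⟨a ^ p, ?_⟩
  have hcm : Commute N (b • 1 + d • N) :=
    ((Commute.one_right N).smul_right b).add_right ((Commute.refl N).smul_right d)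
  rw [hceq, add_pow_char_of_commute _ ((Commute.one_left _).smul_left a), hcm.mul_pow,
    pow_eq_zero_of_le hp3 hN3, zero_mul, add_zero, smul_pow, one_pow]

/-- An isometry preserving a subspace restricts to it. -/
theorem exists_res (U : Submodule F V) (g : ↥(Iso Q)) (hU : ∀ v ∈ U, g.1 v ∈ U) :
    ∃ y : ↥(Iso (res Q U)), ∀ u : U, ((y.1 u : U) : V) = g.1 u := by
  have hmap : U.map (g.1 : V →ₗ[F] V) = U := by
    refine Submodule.eq_of_le_of_finrank_eq ?_ (LinearEquiv.finrank_map_eq g.1 U)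
    rintro _ ⟨v, hv, rfl⟩; exact hU v hv
  exact ⟨⟨g.1.ofSubmodules U U hmap, fun u => g.2 (u : V)⟩, fun u => rfl⟩

theorem res_pow {U : Submodule F V} {g : ↥(Iso Q)} {y : ↥(Iso (res Q U))}
    (hy : ∀ u : U, ((y.1 u : U) : V) = g.1 u) (n : ℕ) (u : U) :
    (((y ^ n).1 u : U) : V) = (g ^ n).1 u := by
  rw [SubmonoidClass.coe_pow, SubmonoidClass.coe_pow]
  exact coe_pow_ofSubmodules y.1 hy n u

/-- The main result. -/
theorem orderOf_ne (p : ℕ) [Fact p.Prime] [CharP F p] (hp : p ≠ 2) (h2 : (2 : F) ≠ 0) (hQ : PND Q) {m r : ℕ}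
    (hm : 2 ≤ m) (hd : finrank F V = 2 * m + 3) (hr : r.Prime) (hord : orderOf (Nat.card F : ZMod r) = 2 * m)
    (hrd : r ∣ Nat.card F ^ m + 1) {g : ↥(Iso Q)} (hg : g ∈ commutator ↥(Iso Q)) :
    orderOf g ≠ p * (Nat.card F ^ m + 1) := by
  intro ho
  obtain ⟨M, hM⟩ : ∃ M, M = Nat.card F ^ m + 1 := ⟨_, rfl⟩
  rw [← hM] at hrd ho
  obtain ⟨L, hL⟩ := hrd
  have hp0 : 0 < p := (Fact.out : p.Prime).pos
  have hM0 : 0 < M := by omega
  have hL0 : 0 < L := Nat.pos_of_mul_pos_left (hL ▸ hM0 : 0 < r * L)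
  have hpow : g ^ (p * M) = 1 := ho ▸ pow_orderOf_eq_one g
  have hr0 : (r : F) ≠ 0 := by
    rw [Ne, CharP.cast_eq_zero_iff F p]
    intro h
    rw [Nat.prime_dvd_prime_iff_eq Fact.out hr] at h
    subst h
    haveI := Fintype.ofFinite F
    obtain ⟨e, -, he⟩ := FiniteField.card F p
    have h3 : p ∣ Nat.card F ^ m := by
      rw [Nat.card_eq_fintype_card, he]
      exact dvd_pow (dvd_pow_self p e.ne_zero) (by omega)
    exact (Fact.out : p.Prime).not_dvd_one ((Nat.dvd_add_right h3).mp (hM ▸ hL ▸ dvd_mul_right p L))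
  obtain ⟨x, hx⟩ : ∃ x, x = g ^ (p * L) := ⟨_, rfl⟩
  have hxr : x ^ r = 1 := by rw [hx, ← pow_mul, mul_assoc, mul_comm L r, ← hL, hpow]
  have hxg : Commute g x := hx ▸ Commute.self_pow g _
  obtain ⟨D, hD⟩ : ∃ D, D = lm x - 1 := ⟨_, rfl⟩
  have hDa : ∀ v, D v = x.1 v - v := fun v => by rw [hD]; rfl
  let W := LinearMap.range D
  let C := LinearMap.ker D
  have hC : ∀ v, v ∈ C ↔ x.1 v = v := fun v => by
    rw [LinearMap.mem_ker, hDa, sub_eq_zero]
  have hdisj : Disjoint W C := by
    rw [Submodule.disjoint_def]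
    rintro v ⟨w, rfl⟩ hv
    rw [hC] at hv
    have hi : ∀ i : ℕ, (x ^ i).1 w = w + (i : F) • D w := by
      intro i
      induction i with
      | zero => simp
      | succ i ih =>
        rw [pow_succ']
        change x.1 ((x ^ i).1 w) = _
        rw [ih, map_add, map_smul, hv, Nat.cast_succ, add_smul, one_smul, hDa w]
        abel
    have h1 := hi r
    rw [hxr] at h1
    exact (smul_eq_zero.mp (add_left_cancel (h1.symm.trans (add_zero w).symm))).resolve_left hr0
  have hs : OSplit Q W C := by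
    refine ⟨⟨hdisj, codisjoint_iff.mpr
      (Submodule.eq_top_of_disjoint W C (LinearMap.finrank_range_add_finrank_ker D).ge hdisj)⟩, ?_⟩
    rintro _ ⟨v, rfl⟩ c hc
    rw [hC] at hc
    rw [hDa, polar_sub_left, sub_eq_zero]
    conv_lhs => rw [← hc]
    exact polar_iso x.2 v c
  have hgx : ∀ v, g.1 (x.1 v) = x.1 (g.1 v) := fun v => LinearEquiv.congr_fun (congrArg Subtype.val hxg.eq) v
  have hgW : ∀ v ∈ W, g.1 v ∈ W := by
    rintro _ ⟨w, rfl⟩
    exact ⟨g.1 w, by rw [hDa, hDa, map_sub, hgx]⟩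
  have hgC : ∀ v ∈ C, g.1 v ∈ C := fun v hv => by
    rw [hC] at hv ⊢
    rw [← hgx, hv]
  have hxW : ∀ v ∈ W, x.1 v ∈ W := by
    rintro _ ⟨w, rfl⟩
    exact ⟨x.1 w, by rw [hDa, hDa, map_sub]⟩
  obtain ⟨gW, hgW'⟩ := exists_res W g hgW
  obtain ⟨gC, hgC'⟩ := exists_res C g hgC
  obtain ⟨xW, hxW'⟩ := exists_res W x hxW
  have hfix : ∀ w : W, xW.1 w = w → w = 0 := fun w hw => by
    refine Subtype.ext (Submodule.disjoint_def.mp hdisj _ w.2 ?_)
    rw [hC, ← hxW', hw]
  have hxWr : xW ^ r = 1 := Subtype.ext (LinearEquiv.ext fun w => Subtype.ext (by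
    rw [res_pow hxW', hxr]; rfl))
  have hWne : W ≠ ⊥ := fun e => by
    have hx1 : x = 1 := Subtype.ext (LinearEquiv.ext fun v => by
      have h0 : D v = 0 := by
        have : D v ∈ W := ⟨v, rfl⟩
        rwa [e, Submodule.mem_bot] at this
      rwa [hDa, sub_eq_zero] at h0)
    have h1 := orderOf_dvd_of_pow_eq_one (hx ▸ hx1)
    rw [ho, hL] at h1
    have h4 := Nat.le_of_dvd (by positivity) h1
    have := hr.two_le
    nlinarith [Nat.mul_pos hp0 hL0]
  have hdW : finrank F W = 2 * m := by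
    obtain ⟨k, hk⟩ := dvd_finrank hr hord xW.1 (congrArg Subtype.val hxWr) hfix
    have h1 : finrank F W ≠ 0 := fun e => hWne (Submodule.finrank_eq_zero.mp e)
    have h3 := Submodule.finrank_le W
    rw [hd] at h3
    rcases Nat.lt_or_ge k 2 with h | h
    · interval_cases k
      · omega
      · omega
    · nlinarith
  have hdC : finrank F C = 3 := by
    have h1 : finrank F W + finrank F C = finrank F V := LinearMap.finrank_range_add_finrank_ker D
    omega
  have hT : TorusData (res Q W) xW m r :=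
    { pnd := pnd_left hs hQ, two := h2, dim := hdW, hm := by omega, prime := hr, ord := hord,
      rdvd := ⟨L, hM ▸ hL⟩, pow := hxWr, fix := hfix }
  have hcW : Commute gW xW := Subtype.ext (LinearEquiv.ext fun w => Subtype.ext (by
    change ((gW.1 (xW.1 w) : W) : V) = ((xW.1 (gW.1 w) : W) : V)
    rw [hgW', hxW', hxW', hgW', hgx]))
  have hgWM : gW ^ M = 1 := hM ▸ pow_torus (p := p) hT hcW
  have hu1 : gC ^ M ≠ 1 := fun e => by
    have h1 : g ^ M = 1 := Subtype.ext (LinearEquiv.ext fun v => by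
      obtain ⟨a, ha, c, hc, rfl⟩ := exists_decomp hs v
      rw [map_add, ← res_pow hgW' M ⟨a, ha⟩, ← res_pow hgC' M ⟨c, hc⟩, hgWM, e]
      rfl)
    have h4 := Nat.le_of_dvd hM0 (ho ▸ orderOf_dvd_of_pow_eq_one h1)
    have := (Fact.out : p.Prime).two_le
    nlinarith
  have hup : (gC ^ M) ^ p = 1 := Subtype.ext (LinearEquiv.ext fun c => Subtype.ext (by
    rw [← pow_mul, mul_comm, res_pow hgC', hpow]; rfl))
  obtain ⟨a, ha⟩ := pow_scalar_of_unipotent p hp h2 (pnd_right hs hQ) hdC (u := lm (gC ^ M)) (c := lm gC)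
    (fun v w => polar_iso (gC ^ M).2 v w) (by rw [← lm_pow, hup]; rfl)
    (fun e => hu1 (lm_injective e)) (lm_pow gC M ▸ Commute.self_pow (lm gC) M)
  have hCp : ∀ c : C, ((g ^ p).1 (c : V)) = a • (c : V) := fun c => by
    rw [← res_pow hgC' p c]
    have := LinearMap.congr_fun ha c
    rw [← lm_pow] at this
    exact congrArg Subtype.val this
  have ha1 : a = 1 ∨ a = -1 := by
    obtain ⟨c, hc⟩ := exists_nonsing h2 (pnd_right hs hQ) (by omega)
    have hc' : Q (c : V) ≠ 0 := hc
    have h1 := (g ^ p).2 (c : V)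
    rw [hCp, QuadraticMap.map_smul, smul_eq_mul] at h1
    exact mul_self_eq_one_iff.mp (mul_right_cancel₀ hc' (h1.trans (one_mul _).symm))
  obtain ⟨e, heW, heC, heinj⟩ := exists_ext hs
  have hdV2 : 2 ≤ finrank F V := by omega
  have hb : ∀ y, both Q h2 hQ (e y) = both (res Q W) h2 (pnd_left hs hQ) y :=
    both_ext hs h2 hQ (by omega) hdV2 e heW heC
  have hgb : both Q h2 hQ (g ^ p) = 1 := by
    rw [map_pow, MonoidHom.mem_ker.mp (commutator_eq h2 hQ hdV2 ▸ hg), one_pow]
  rcases ha1 with rfl | rfl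
  · have heq : g ^ p = e (gW ^ p) := Subtype.ext (LinearEquiv.ext fun v => by
      obtain ⟨w, hw, c, hc, rfl⟩ := exists_decomp hs v
      rw [map_add, map_add, heC _ c hc, hCp ⟨c, hc⟩, one_smul, ← res_pow hgW' p ⟨w, hw⟩]
      exact congrArg (· + c) (heW (gW ^ p) ⟨w, hw⟩).symm)
    have hoW : orderOf (gW ^ p) = Nat.card F ^ m + 1 := by
      rw [← orderOf_injective e heinj, ← heq, orderOf_pow_of_dvd hp0.ne' (ho ▸ dvd_mul_right p M), ho,
        Nat.mul_div_cancel_left _ hp0, hM]
    refine not_mem_commutator (p := p) hT hoW (hcW.pow_left p) ?_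
    rw [← hb, ← heq]
    exact hgb
  · obtain ⟨y, hy⟩ : ∃ y, y = negI (res Q W) * gW ^ p := ⟨_, rfl⟩
    have hcy : Commute y xW := by
      rw [hy]
      refine Commute.mul_left ?_ (hcW.pow_left p)
      exact Subtype.ext (LinearEquiv.ext fun w => (map_neg xW.1 w).symm)
    have heq : g ^ p = negI Q * e y := Subtype.ext (LinearEquiv.ext fun v => by
      obtain ⟨w, hw, c, hc, rfl⟩ := exists_decomp hs v
      change (g ^ p).1 (w + c) = -((e y).1 (w + c))
      rw [map_add, map_add, heC _ c hc, hCp ⟨c, hc⟩, heW y ⟨w, hw⟩, hy, ← res_pow hgW' p ⟨w, hw⟩]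
      change _ = -((((-(gW ^ p).1 ⟨w, hw⟩ : W)) : V) + c)
      rw [Submodule.coe_neg, neg_one_smul, neg_add, neg_neg])
    have hsy : dsign h2 (pnd_left hs hQ) y = 1 := by
      classical
      change (if _ then _ else _) = _
      rw [if_pos (det_torus hT hcy)]
    have hne : dsign h2 hQ (negI Q) = -1 := by
      refine if_neg ?_
      change LinearMap.det ((negI Q).1 : V →ₗ[F] V) ≠ 1
      rw [show ((negI Q).1 : V →ₗ[F] V) = (-1 : F) • (1 : Module.End F V) from
        LinearMap.ext fun v => (neg_one_smul F v).symm, LinearMap.det_smul,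
        show LinearMap.det (1 : Module.End F V) = 1 from LinearMap.det_id, mul_one, hd,
        show 2 * m + 3 = 2 * (m + 1) + 1 by ring, pow_succ, pow_mul, neg_one_sq, one_pow, one_mul]
      exact fun e => h2 (by linear_combination -e)
    have h1 : dsign h2 hQ (g ^ p) = 1 := congrArg Prod.fst hgb
    have h3 : dsign h2 hQ (e y) = 1 := (congrArg Prod.fst (hb y)).trans hsy
    rw [heq, map_mul, hne, h3] at h1
    exact absurd h1 (by decide)

end Cfsg.Agent.Classical.SOSinger
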