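import Cfsg.Agent.Lib.Classical.OrthPOmega

/-!
# An anisotropic torus of an orthogonal group is not contained in the derived group

Let `Q` be nondegenerate of dimension `2m` over the field with `q` elements, `q` odd, and let an
isometry `x` have prime order `r` such that `q` has order `2m` modulo `r`.  The commutant of `x` is
a field, its isometries satisfy `y ^ (q^m+1) = 1`, and an element of order `q^m+1` among them is not
in the derived group: otherwise a Frattini argument makes the abelianisation cyclic.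
-/

set_option autoImplicit false
set_option linter.unusedSectionVars false
set_option linter.style.haveILetI false

namespace Cfsg.Agent.Classical.SOSinger

open Module QuadraticMap OCount ORefl OOmega

variable {F : Type*} [Field F] [Finite F] {V : Type*} [AddCommGroup V] [Module F V] [FiniteDimensional F V]
  {Q : QuadraticForm F V}

theorem coe_pow_ofSubmodules {x : V ≃ₗ[F] V} {U : Submodule F V} (y : U ≃ₗ[F] U)
    (hy : ∀ v : U, ((y v : U) : V) = x v) (n : ℕ) (v : U) : (((y ^ n) v : U) : V) = (x ^ n) v := by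
  induction n generalizing v with
  | zero => rfl
  | succ n ih =>
    rw [pow_succ, pow_succ]
    change (((y ^ n) (y v) : U) : V) = (x ^ n) (x v)
    rw [ih, hy]

/-- An element of order dividing `r` with no non-zero fixed vector forces the dimension. -/
theorem dvd_finrank {r k : ℕ} (hr : r.Prime) (hk : orderOf (Nat.card F : ZMod r) = k) (x : V ≃ₗ[F] V)
    (hx : x ^ r = 1) (hfix : ∀ v, x v = v → v = 0) : k ∣ finrank F V := by
  haveI : Finite V := Module.finite_of_finite F
  haveI := Fact.mk hr
  have hP : IsPGroup r ↥(Subgroup.zpowers x) := by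
    rintro ⟨g, i, rfl⟩
    refine ⟨1, Subtype.ext ?_⟩
    rw [pow_one, SubmonoidClass.coe_pow, OneMemClass.coe_one]
    change (x ^ i) ^ r = 1
    rw [← zpow_natCast, ← zpow_mul, mul_comm, zpow_mul, zpow_natCast, hx, one_zpow]
  have h1 := hP.card_modEq_card_fixedPoints V
  have hfp : MulAction.fixedPoints ↥(Subgroup.zpowers x) V = {0} := by
    ext v
    rw [MulAction.mem_fixedPoints, Set.mem_singleton_iff]
    refine ⟨fun h => hfix v ?_, fun h g => ?_⟩
    · exact h ⟨x, Subgroup.mem_zpowers x⟩
    · rw [h]; exact smul_zero _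
  rw [hfp, Nat.card_coe_set_eq, Set.ncard_singleton, Module.natCard_eq_pow_finrank (K := F)] at h1
  rw [← hk]
  refine orderOf_dvd_of_pow_eq_one ?_
  rw [← Nat.cast_pow, ← Nat.cast_one, ZMod.natCast_eq_natCast_iff]
  exact h1

/-- Below twice the dimension there are no invariant subspaces. -/
theorem invariant_eq_top {r k : ℕ} (hr : r.Prime) (hk : orderOf (Nat.card F : ZMod r) = k) (x : V ≃ₗ[F] V)
    (hx : x ^ r = 1) (hfix : ∀ v, x v = v → v = 0) (hd : finrank F V = k) {U : Submodule F V}
    (hU : ∀ v ∈ U, x v ∈ U) (h0 : U ≠ ⊥) : U = ⊤ := by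
  have hmap : U.map (x : V →ₗ[F] V) = U := by
    refine Submodule.eq_of_le_of_finrank_eq ?_ ?_
    · rintro _ ⟨v, hv, rfl⟩; exact hU v hv
    · exact LinearEquiv.finrank_map_eq x U
  obtain ⟨y, hy⟩ : ∃ y : U ≃ₗ[F] U, ∀ v : U, ((y v : U) : V) = x v :=
    ⟨x.ofSubmodules U U hmap, fun v => rfl⟩
  have h1 := dvd_finrank hr hk y (LinearEquiv.ext fun v => Subtype.ext (by
      rw [coe_pow_ofSubmodules y hy, hx]; rfl))
    (fun v hv => Subtype.ext (hfix _ (by rw [← hy, hv])))
  have h2 : finrank F U ≠ 0 := fun e => h0 (Submodule.finrank_eq_zero.mp e)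
  have h3 := Nat.le_of_dvd (Nat.pos_of_ne_zero h2) h1
  exact Submodule.eq_top_of_finrank_eq (le_antisymm (Submodule.finrank_le U) (by omega))

section Torus

variable {p : ℕ} [Fact p.Prime] [CharP F p] {m r : ℕ} {x : ↥(Iso Q)}

/-- The linear map of an isometry. -/
abbrev lm (g : ↥(Iso Q)) : Module.End F V := (g.1 : V →ₗ[F] V)

theorem lm_mul (g h : ↥(Iso Q)) : lm (g * h) = lm g * lm h := rfl

theorem lm_pow (g : ↥(Iso Q)) (n : ℕ) : lm (g ^ n) = lm g ^ n := by
  induction n with
  | zero => rfl
  | succ n ih => rw [pow_succ, lm_mul, ih, pow_succ]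

theorem lm_injective : Function.Injective (lm : ↥(Iso Q) → Module.End F V) := fun g h e =>
  Subtype.ext (LinearEquiv.ext fun v => LinearMap.congr_fun e v)

/-- The standing hypotheses. -/
structure TorusData (Q : QuadraticForm F V) (x : ↥(Iso Q)) (m r : ℕ) : Prop where
  pnd : PND Q
  two : (2 : F) ≠ 0
  dim : finrank F V = 2 * m
  hm : 1 ≤ m
  prime : r.Prime
  ord : orderOf (Nat.card F : ZMod r) = 2 * m
  rdvd : r ∣ Nat.card F ^ m + 1
  pow : x ^ r = 1
  fix : ∀ v, x.1 v = v → v = 0

/-- The algebra generated by the torus element. -/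
noncomputable abbrev alg (x : ↥(Iso Q)) : Subalgebra F (Module.End F V) := Algebra.adjoin F {lm x}

theorem alg_comm {a b : Module.End F V} (ha : a ∈ alg x) (hb : b ∈ alg x) : Commute a b :=
  Algebra.commute_of_mem_adjoin_singleton_of_commute hb
    (Algebra.commute_of_mem_adjoin_singleton_of_commute ha (Commute.refl (lm x))).symm

variable (h : TorusData Q x m r)
include h

theorem exists_ne_zero : ∃ v : V, v ≠ 0 := by
  haveI : Nontrivial V := Module.nontrivial_of_finrank_pos (R := F) (by have := h.hm; rw [h.dim]; omega)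
  exact exists_ne 0

theorem pow_r : x.1 ^ r = 1 := congrArg Subtype.val h.pow

theorem invariant {U : Submodule F V} (hU : ∀ v ∈ U, x.1 v ∈ U) (h0 : U ≠ ⊥) : U = ⊤ :=
  invariant_eq_top h.prime h.ord x.1 (pow_r h) h.fix h.dim hU h0

theorem mem_alg_of_commute {a : Module.End F V} (ha : Commute a (lm x)) : a ∈ alg x := by
  obtain ⟨v0, hv0⟩ := exists_ne_zero h
  have htop : (Subalgebra.toSubmodule (alg x)).map (LinearMap.applyₗ v0) = ⊤ := by
    refine invariant h ?_ fun e => hv0 ?_
    · rintro _ ⟨b, hb, rfl⟩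
      exact ⟨lm x * b, (alg x).mul_mem (Algebra.self_mem_adjoin_singleton F _) hb, rfl⟩
    · have : (LinearMap.applyₗ v0) (1 : Module.End F V) ∈
          (Subalgebra.toSubmodule (alg x)).map (LinearMap.applyₗ v0) := ⟨1, one_mem (alg x), rfl⟩
      rw [e] at this
      exact (Submodule.mem_bot F).mp this
  obtain ⟨b, hb, hbv⟩ : a v0 ∈ (Subalgebra.toSubmodule (alg x)).map (LinearMap.applyₗ v0) :=
    htop ▸ Submodule.mem_top
  have e : a = b := LinearMap.ext fun w => by
    obtain ⟨c, hc, rfl⟩ : w ∈ (Subalgebra.toSubmodule (alg x)).map (LinearMap.applyₗ v0) :=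
      htop ▸ Submodule.mem_top
    have h1 : Commute a c := Algebra.commute_of_mem_adjoin_singleton_of_commute hc ha
    have h2 : Commute b c := alg_comm hb hc
    change (a * c) v0 = (b * c) v0
    rw [h1.eq, h2.eq]
    change c (a v0) = c (b v0)
    rw [show a v0 = b v0 from hbv.symm]
  exact e ▸ hb

theorem alg_eq_zero {a : Module.End F V} (ha : a ∈ alg x) {v : V} (hv : v ≠ 0) (hav : a v = 0) : a = 0 := by
  have htop : LinearMap.ker a = ⊤ := by
    refine invariant h (fun w hw => ?_) fun e => hv ?_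
    · have h1 : Commute (lm x) a := Algebra.commute_of_mem_adjoin_singleton_of_commute ha (Commute.refl _)
      rw [LinearMap.mem_ker] at hw ⊢
      have h2 := LinearMap.congr_fun h1.eq w
      change x.1 (a w) = a (x.1 w) at h2
      rw [← h2, hw, map_zero]
    · have : v ∈ LinearMap.ker a := hav
      rwa [e, Submodule.mem_bot] at this
  exact LinearMap.ker_eq_top.mp htop

include p in
/-- The adjoint on the commutant is the power map of exponent `q^m`. -/
theorem adjoint {a : Module.End F V} (ha : a ∈ alg x) :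
    ∀ u v, polar Q (a u) v = polar Q u ((a ^ (Nat.card F ^ m)) v) := by
  classical
  haveI := Fintype.ofFinite F
  obtain ⟨e, hp, hcard⟩ := FiniteField.card F p
  have hqm : Nat.card F ^ m = p ^ ((e : ℕ) * m) := by rw [Nat.card_eq_fintype_card, hcard, pow_mul]
  haveI : Nontrivial V := Module.nontrivial_of_finrank_pos (R := F) (by have := h.hm; rw [h.dim]; omega)
  haveI : CharP (Module.End F V) p :=
    charP_of_injective_algebraMap (FaithfulSMul.algebraMap_injective F (Module.End F V)) p
  induction ha using Algebra.adjoin_induction with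
  | mem a ha =>
    intro u v
    rw [Set.mem_singleton_iff] at ha
    subst ha
    have h1 : x ^ (Nat.card F ^ m + 1) = 1 := by
      obtain ⟨k, hk⟩ := h.rdvd
      rw [hk, pow_mul, h.pow, one_pow]
    rw [← lm_pow, show x ^ (Nat.card F ^ m) = x⁻¹ from eq_inv_of_mul_eq_one_left (by rw [← pow_succ, h1])]
    change polar Q (x.1 u) v = polar Q u (x.1.symm v)
    conv_lhs => rw [← x.1.apply_symm_apply v]
    exact polar_iso x.2 _ _
  | algebraMap c =>
    intro u v
    have hc : c ^ (Nat.card F ^ m) = c := by rw [Nat.card_eq_fintype_card, FiniteField.pow_card_pow]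
    rw [← map_pow, hc, Module.algebraMap_end_apply, Module.algebraMap_end_apply, polar_smul_left,
      polar_smul_right]
  | add a b ha hb iha ihb =>
    intro u v
    rw [hqm, add_pow_char_pow_of_commute _ _ (alg_comm ha hb), ← hqm, LinearMap.add_apply,
      LinearMap.add_apply, polar_add_left, polar_add_right, iha, ihb]
  | mul a b ha hb iha ihb =>
    intro u v
    have hab : Commute a b := alg_comm ha hb
    change polar Q (a (b u)) v = _
    rw [iha, ihb, hab.mul_pow, (hab.pow_pow _ _).eq]
    rfl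

include p in
/-- Isometries in the commutant have order dividing `q^m+1`. -/
theorem pow_torus {y : ↥(Iso Q)} (hy : Commute y x) : y ^ (Nat.card F ^ m + 1) = 1 := by
  have hc : Commute (lm y) (lm x) := by
    rw [Commute, SemiconjBy, ← lm_mul, ← lm_mul, hy.eq]
  have ha := adjoint (p := p) h (mem_alg_of_commute h hc)
  refine lm_injective ?_
  rw [lm_pow]
  refine LinearMap.ext fun v => ?_
  change (lm y ^ (Nat.card F ^ m + 1)) v = v
  rw [pow_succ, Module.End.mul_apply, ← sub_eq_zero]
  refine h.pnd _ fun u => ?_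
  rw [polar_comm, polar_sub_right, ← ha, sub_eq_zero]
  exact polar_iso y.2 u v

theorem det_torus {y : ↥(Iso Q)} (hy : Commute y x) : LinearMap.det (lm y) = 1 := by
  classical
  have hc : Commute (lm y) (lm x) := by
    rw [Commute, SemiconjBy, ← lm_mul, ← lm_mul, hy.eq]
  by_cases hz : lm y + 1 = 0
  · rw [show lm y = (-1 : F) • (1 : Module.End F V) by rw [neg_one_smul]; exact eq_neg_of_add_eq_zero_left hz,
      LinearMap.det_smul, show LinearMap.det (1 : Module.End F V) = 1 from LinearMap.det_id, mul_one, h.dim,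
      pow_mul, neg_one_sq, one_pow]
  · have ha : lm y + 1 ∈ alg x := add_mem (mem_alg_of_commute h hc) (one_mem _)
    have hdet : LinearMap.det (lm y + 1) ≠ 0 := fun e => by
      obtain ⟨v, hv, hv0⟩ := Submodule.exists_mem_ne_zero_of_ne_bot
        (LinearMap.bot_lt_ker_of_det_eq_zero e).ne'
      exact hz (alg_eq_zero h ha hv0 (LinearMap.mem_ker.mp hv))
    let b := Module.finBasis F V
    let B := QuadraticMap.polarBilin Q
    have hG : (LinearMap.toMatrix₂ b b B).det ≠ 0 :=
      (LinearMap.BilinForm.nondegenerate_iff_det_ne_zero b).mp (ORefl.nondeg h.pnd)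
    have e1 : B.compl₁₂ (lm y) (lm y) = B := LinearMap.ext fun u => LinearMap.ext fun v => by
      simp only [LinearMap.compl₁₂_apply, B, QuadraticMap.polarBilin_apply_apply]
      exact polar_iso y.2 u v
    have e2 : B.compl₁₂ (lm y + 1) (lm y) = B.compl₁₂ LinearMap.id (lm y + 1) := by
      refine LinearMap.ext fun u => LinearMap.ext fun v => ?_
      have h1 := LinearMap.congr_fun (LinearMap.congr_fun e1 u) v
      simp only [LinearMap.compl₁₂_apply, LinearMap.add_apply, map_add, Module.End.one_apply,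
        LinearMap.id_apply] at h1 ⊢
      rw [h1, add_comm]
    have e3 := congrArg (fun f => (LinearMap.toMatrix₂ b b f).det) e2
    simp only [LinearMap.toMatrix₂_compl₁₂ b b b b, Matrix.det_mul, Matrix.det_transpose,
      LinearMap.det_toMatrix, LinearMap.det_id, one_mul] at e3
    refine mul_left_cancel₀ (mul_ne_zero hdet hG) ?_
    rw [e3, mul_one]
    ring

include p in
theorem centralizer_cyclic :
    IsCyclic ↥(Subgroup.centralizer ({x} : Set ↥(Iso Q))) ∧
      Nat.card ↥(Subgroup.centralizer ({x} : Set ↥(Iso Q))) ∣ Nat.card F ^ m + 1 := by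
  haveI : Finite V := Module.finite_of_finite F
  haveI : Finite (V ≃ₗ[F] V) := Finite.of_injective (fun g => (g : V → V)) DFunLike.coe_injective
  haveI : Finite ↥(Iso Q) := inferInstance
  haveI : Nontrivial V := Module.nontrivial_of_finrank_pos (R := F) (by have := h.hm; rw [h.dim]; omega)
  letI : CommRing ↥(alg x) :=
    { (inferInstance : Ring ↥(alg x)) with mul_comm := fun a b => Subtype.ext (alg_comm a.2 b.2).eq }
  haveI : NoZeroDivisors ↥(alg x) := ⟨fun {a b} e => by
    by_cases hb : b = 0
    · exact Or.inr hb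
    · left
      obtain ⟨v, hv⟩ : ∃ v, b.1 v ≠ 0 := by
        by_contra hc; push Not at hc
        exact hb (Subtype.ext (LinearMap.ext hc))
      refine Subtype.ext (alg_eq_zero h a.2 hv ?_)
      exact LinearMap.congr_fun (congrArg Subtype.val e) v⟩
  haveI : Nontrivial ↥(alg x) := ⟨⟨0, 1, fun e => zero_ne_one (congrArg Subtype.val e)⟩⟩
  haveI : IsDomain ↥(alg x) := NoZeroDivisors.to_isDomain _
  have hmem : ∀ y : ↥(Subgroup.centralizer ({x} : Set ↥(Iso Q))), lm y.1 ∈ alg x := fun y =>
    mem_alg_of_commute h (by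
      rw [Commute, SemiconjBy, ← lm_mul, ← lm_mul, Subgroup.mem_centralizer_singleton_iff.mp y.2])
  have hcyc : IsCyclic ↥(Subgroup.centralizer ({x} : Set ↥(Iso Q))) :=
    isCyclic_of_injective_ringHom
      ({ toFun := fun y => (⟨lm y.1, hmem y⟩ : ↥(alg x))
         map_one' := rfl
         map_mul' := fun _ _ => rfl } : ↥(Subgroup.centralizer ({x} : Set ↥(Iso Q))) →* ↥(alg x))
      fun a b e => Subtype.ext (lm_injective (congrArg Subtype.val e))
  refine ⟨hcyc, ?_⟩
  obtain ⟨g, hg⟩ := IsCyclic.exists_generator (α := ↥(Subgroup.centralizer ({x} : Set ↥(Iso Q))))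
  rw [← orderOf_eq_card_of_forall_mem_zpowers hg]
  refine orderOf_dvd_of_pow_eq_one (Subtype.ext ?_)
  rw [SubmonoidClass.coe_pow]
  exact pow_torus (p := p) h (Subgroup.mem_centralizer_singleton_iff.mp g.2)

include p in
/-- An element of order `q^m+1` in the commutant is outside the derived group. -/
theorem not_mem_commutator {s : ↥(Iso Q)} (hs : orderOf s = Nat.card F ^ m + 1) (hsx : Commute s x) :
    both Q h.two h.pnd s ≠ 1 := by
  intro hcon
  classical
  haveI : Finite V := Module.finite_of_finite F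
  haveI : Finite (V ≃ₗ[F] V) := Finite.of_injective (fun g => (g : V → V)) DFunLike.coe_injective
  haveI : Finite ↥(Iso Q) := inferInstance
  haveI := Fintype.ofFinite ↥(Iso Q)
  haveI := Fact.mk h.prime
  obtain ⟨hcyc, hcard⟩ := centralizer_cyclic (p := p) h
  set T := Subgroup.centralizer ({x} : Set ↥(Iso Q)) with hT
  have hsT : s ∈ T := Subgroup.mem_centralizer_singleton_iff.mpr hsx.eq
  have hTs : Subgroup.zpowers s = T := Subgroup.eq_of_le_of_card_ge (Subgroup.zpowers_le.mpr hsT) (by
    rw [Nat.card_zpowers, hs]; exact Nat.le_of_dvd (by positivity) hcard)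
  let K := (both Q h.two h.pnd).ker
  have hTK : T ≤ K := hTs ▸ Subgroup.zpowers_le.mpr hcon
  have hxK : x ∈ K := hTK (Subgroup.mem_centralizer_singleton_iff.mpr rfl)
  have hxP : IsPGroup r ↥(Subgroup.zpowers (⟨x, hxK⟩ : K)) := by
    rintro ⟨g, i, rfl⟩
    refine ⟨1, Subtype.ext (Subtype.ext ?_)⟩
    simp only [pow_one, SubmonoidClass.coe_pow, SubgroupClass.coe_zpow, OneMemClass.coe_one]
    rw [← zpow_natCast, ← zpow_mul, mul_comm, zpow_mul, zpow_natCast, h.pow, one_zpow]
  obtain ⟨P₀, hP₀⟩ := hxP.exists_le_sylow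
  set P := (P₀ : Subgroup K).map K.subtype with hP
  have hxPm : x ∈ P := ⟨⟨x, hxK⟩, hP₀ (Subgroup.mem_zpowers _), rfl⟩
  have hPp : IsPGroup r ↥P := P₀.2.map _
  have hx1 : x ≠ 1 := fun e => by
    obtain ⟨v, hv⟩ := exists_ne_zero h
    exact hv (h.fix v (by rw [e]; rfl))
  haveI : Nontrivial ↥P := ⟨⟨x, hxPm⟩, 1, fun e => hx1 (congrArg Subtype.val e)⟩
  haveI := hPp.center_nontrivial
  have hPT : P ≤ T := by
    obtain ⟨z, hz⟩ := exists_ne (1 : Subgroup.center ↥P)
    obtain ⟨k, hk⟩ := IsPGroup.iff_orderOf.mp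
      (hPp.to_subgroup (Subgroup.center ↥P)) z
    have hk0 : k ≠ 0 := fun e => hz (by rwa [e, pow_zero, orderOf_eq_one_iff] at hk)
    obtain ⟨z', hz', hz'o⟩ : ∃ z' : Subgroup.center ↥P, z' ≠ 1 ∧ z' ^ r = 1 := by
      refine ⟨z ^ r ^ (k - 1), fun e => ?_, ?_⟩
      · have := orderOf_dvd_of_pow_eq_one e
        rw [hk] at this
        have := (Nat.pow_dvd_pow_iff_le_right h.prime.one_lt).mp this
        omega
      · rw [← pow_mul, ← pow_succ, show k - 1 + 1 = k by omega, ← hk, pow_orderOf_eq_one]
    have hzT : (z'.1 : ↥(Iso Q)) ∈ T := Subgroup.mem_centralizer_singleton_iff.mpr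
      (congrArg Subtype.val (Subgroup.mem_center_iff.mp z'.2 ⟨x, hxPm⟩)).symm
    have hxz : x ∈ Subgroup.zpowers (z'.1 : ↥(Iso Q)) := by
      haveI := hcyc
      let a : T := ⟨_, hzT⟩
      let b : T := ⟨x, Subgroup.mem_centralizer_singleton_iff.mpr rfl⟩
      have ha : a ^ r = 1 := Subtype.ext (congrArg (fun w : Subgroup.center ↥P => (w.1 : ↥(Iso Q))) hz'o)
      have ha1 : a ≠ 1 := fun e => hz' (Subtype.ext (Subtype.ext (show (z'.1 : ↥(Iso Q)) = 1 from congrArg (fun w : T => w.1) e)))
      have hao : orderOf a = r := orderOf_eq_prime ha ha1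
      have hle := IsCyclic.card_pow_eq_one_le (α := T) h.prime.pos
      have hsub : (Finset.univ.filter fun w : T => w ∈ Subgroup.zpowers a) ⊆
          Finset.univ.filter fun w : T => w ^ r = 1 := fun w hw => by
        rw [Finset.mem_filter] at hw ⊢
        obtain ⟨i, hi⟩ := hw.2
        refine ⟨hw.1, ?_⟩
        rw [← hi]
        change (a ^ i) ^ r = 1
        rw [← zpow_natCast, ← zpow_mul, mul_comm, zpow_mul, zpow_natCast, ha, one_zpow]
      have hcardz : (Finset.univ.filter fun w : T => w ∈ Subgroup.zpowers a).card = r := by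
        rw [← Fintype.card_subtype]
        rw [← hao, ← Fintype.card_zpowers]
      have heq := Finset.eq_of_subset_of_card_le hsub (hcardz.symm ▸ hle)
      have hbm : b ∈ Finset.univ.filter fun w : T => w ^ r = 1 :=
        Finset.mem_filter.mpr ⟨Finset.mem_univ _, Subtype.ext h.pow⟩
      rw [← heq, Finset.mem_filter] at hbm
      obtain ⟨i, hi⟩ := hbm.2
      exact ⟨i, congrArg Subtype.val hi⟩
    intro w hw
    obtain ⟨i, hi⟩ := hxz
    refine Subgroup.mem_centralizer_singleton_iff.mpr ?_
    rw [← hi]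
    have : Commute w (z'.1 : ↥(Iso Q)) := congrArg Subtype.val (Subgroup.mem_center_iff.mp z'.2 ⟨w, hw⟩)
    exact (this.zpow_right i).eq
  have hfrat : Subgroup.normalizer P ⊔ K = ⊤ := Sylow.normalizer_sup_eq_top P₀
  have hcent : Subgroup.centralizer (P : Set ↥(Iso Q)) ≤ K := le_trans
    (Subgroup.centralizer_le (Set.singleton_subset_iff.mpr hxPm)) hTK
  haveI : IsCyclic ↥P := by
    haveI := hcyc
    exact isCyclic_of_injective (Subgroup.inclusion hPT) (Subgroup.inclusion_injective _)
  obtain ⟨k, hk⟩ := hPp.exists_card_eq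
  haveI : IsCyclic (MulAut ↥P) := by
    haveI : IsCyclic (ZMod (Nat.card ↥P))ˣ := by
      rw [hk]
      refine ZMod.isCyclic_units_of_prime_pow r h.prime (fun e => ?_) k
      have h1 : orderOf (Nat.card F : ZMod r) ≤ 1 := by
        subst e
        rw [show (Nat.card F : ZMod 2) = 1 from ?_, orderOf_one]
        have : Nat.card F % 2 = 1 := by
          haveI := Fintype.ofFinite F
          rw [Nat.card_eq_fintype_card]
          rcases Nat.mod_two_eq_zero_or_one (Fintype.card F) with e | e
          · exfalso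
            have h2 := FiniteField.even_card_iff_char_two.mpr e
            refine h.two ?_
            have h3 := ringChar.Nat.cast_ringChar (R := F)
            rw [h2, Nat.cast_ofNat] at h3
            exact h3
          · exact e
        rw [← ZMod.natCast_mod, this, Nat.cast_one]
      rw [h.ord] at h1
      have := h.hm
      omega
    exact isCyclic_of_surjective (IsCyclic.mulAutMulEquiv ↥P).symm (MulEquiv.surjective _)
  haveI : IsCyclic P.normalizerMonoidHom.range := inferInstance
  obtain ⟨⟨_, a, rfl⟩, ha⟩ := IsCyclic.exists_generator (α := P.normalizerMonoidHom.range)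
  obtain ⟨c, hc⟩ : ∃ c, c = both Q h.two h.pnd a.1 := ⟨_, rfl⟩
  have hall : ∀ w : ℤˣ × ℤˣ, w ∈ Subgroup.zpowers c := by
    intro w
    have hdim : 2 ≤ finrank F V := by have := h.hm; rw [h.dim]; omega
    obtain ⟨g, hg⟩ := both_surjective h.two h.pnd hdim w
    have hle : Subgroup.normalizer P ⊔ K ≤ (Subgroup.zpowers c).comap (both Q h.two h.pnd) := by
      refine sup_le (fun g hg => ?_) fun g hg => ?_
      · obtain ⟨i, hi⟩ := ha ⟨_, ⟨g, hg⟩, rfl⟩
        have hi' := congrArg Subtype.val hi
        simp only [SubgroupClass.coe_zpow] at hi'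
        rw [← map_zpow] at hi'
        have hker : (a ^ i)⁻¹ * ⟨g, hg⟩ ∈ P.normalizerMonoidHom.ker := by
          rw [MonoidHom.mem_ker, map_mul, map_inv, hi', inv_mul_cancel]
        rw [Subgroup.normalizerMonoidHom_ker, Subgroup.mem_subgroupOf] at hker
        have h1 : both Q h.two h.pnd (((a ^ i)⁻¹ * ⟨g, hg⟩ : Subgroup.normalizer P) : ↥(Iso Q)) = 1 :=
          hcent hker
        simp only [Subgroup.coe_mul, Subgroup.coe_inv, SubgroupClass.coe_zpow, map_mul, map_inv, map_zpow,
          ← hc, inv_mul_eq_one] at h1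
        exact ⟨i, h1⟩
      · rw [Subgroup.mem_comap, MonoidHom.mem_ker.mp hg]; exact one_mem _
    rw [← hg]
    exact hle (hfrat ▸ Subgroup.mem_top g)
  have hcc : ∀ w : ℤˣ × ℤˣ, w * w = 1 := by decide
  have hle := Nat.le_of_dvd two_pos (orderOf_dvd_of_pow_eq_one (by rw [pow_two]; exact hcc c) : orderOf c ∣ 2)
  have h4 : Nat.card ↥(Subgroup.zpowers c) = 4 := by
    rw [show Subgroup.zpowers c = ⊤ from eq_top_iff.mpr fun w _ => hall w, Subgroup.card_top]
    simp [Nat.card_prod]
  rw [Nat.card_zpowers] at h4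
  omega

end Torus

end Cfsg.Agent.Classical.SOSinger
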