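/-
Sums of norm one multiples in the field with q² elements.
-/
import Cfsg.Agent.Lib.Classical.UnitaryForm
import Cfsg.Agent.Lib.Classical.UnitaryOrders
import Cfsg.Agent.Lib.Classical.FormPower

set_option autoImplicit false
set_option linter.unusedSectionVars false

namespace Cfsg.Agent.Classical.UFrame

open Cfsg.Agent.Classical Cfsg.Agent.Classical.UCount

universe u

variable {q : ℕ} {F : Type u} [Field F] [Fintype F] [DecidableEq F] {σ : F ≃+* F}

/-- The norm one elements. -/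
def muF (σ : F ≃+* F) : Finset F := Finset.univ.filter fun z => z * σ z = 1

/-- The fixed elements. -/
def fixF (σ : F ≃+* F) : Finset F := Finset.univ.filter fun z => σ z = z

theorem mem_muF {z : F} : z ∈ muF σ ↔ z * σ z = 1 := by simp [muF]

theorem mem_fixF {z : F} : z ∈ fixF σ ↔ σ z = z := by simp [fixF]

theorem ne_zero_of_mem {z : F} (h : z ∈ muF σ) : z ≠ 0 := left_ne_zero_of_mul_eq_one (mem_muF.mp h)

theorem one_mem_muF : (1 : F) ∈ muF σ := mem_muF.mpr (by rw [map_one, one_mul])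

theorem inv_eq_of_mem {z : F} (h : z ∈ muF σ) : σ z = z⁻¹ := eq_inv_of_mul_eq_one_right (mem_muF.mp h)

theorem mul_mem_muF {z w : F} (hz : z ∈ muF σ) (hw : w ∈ muF σ) : z * w ∈ muF σ :=
  mem_muF.mpr (by rw [map_mul, mul_mul_mul_comm, mem_muF.mp hz, mem_muF.mp hw, one_mul])

theorem inv_mem_muF {z : F} (hz : z ∈ muF σ) : z⁻¹ ∈ muF σ :=
  mem_muF.mpr (by rw [map_inv₀, ← mul_inv, mem_muF.mp hz, inv_one])

theorem neg_mem_muF {z : F} (hz : z ∈ muF σ) : -z ∈ muF σ :=
  mem_muF.mpr (by rw [map_neg, neg_mul_neg, mem_muF.mp hz])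

variable (hσ : IsUSigma q σ)
include hσ

theorem norm_fix (x : F) : σ (x * σ x) = x * σ x := by rw [map_mul, hσ.involutive, mul_comm]

theorem card_fixF : (fixF σ).card = q := by
  rw [← hσ.card_fixed, ← Fintype.card_coe, ← Nat.card_eq_fintype_card]
  exact Nat.card_congr (Equiv.subtypeEquivRight fun z => mem_fixF)

theorem card_muF : (muF σ).card = q + 1 := by
  rw [← card_mu hσ, Nat.card_eq_fintype_card, ← Fintype.card_coe]
  refine Fintype.card_congr
    { toFun := fun z => ⟨Units.mk0 (z : F) (ne_zero_of_mem z.2), MonoidHom.mem_ker.mpr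
        (pow_eq_one_of_norm hσ (by simpa using mem_muF.mp z.2))⟩
      invFun := fun u => ⟨((u : Fˣ) : F), mem_muF.mpr (norm_of_pow_eq_one hσ (MonoidHom.mem_ker.mp u.2))⟩
      left_inv := fun z => rfl
      right_inv := fun u => Subtype.ext (Units.ext rfl) }

/-- A norm one element avoiding a given set. -/
theorem exists_mu_out {s : Finset F} (h : s.card < q + 1) : ∃ z ∈ muF σ, z ∉ s := by
  by_contra hcon
  push Not at hcon
  have := Finset.card_le_card (show muF σ ⊆ s from hcon)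
  rw [card_muF hσ] at this
  omega

/-- Traces of the multiples of a non-zero element take at least half as many values as there are multipliers. -/
theorem card_trace {b : F} (hb : b ≠ 0) :
    q + 1 ≤ 2 * ((muF σ).image fun z => z * b + σ (z * b)).card := by
  rw [← card_muF hσ]
  refine Finset.card_le_mul_card_image _ 2 fun t ht => ?_
  obtain ⟨z, hz, rfl⟩ := Finset.mem_image.mp ht
  refine (Finset.card_le_card (show _ ⊆ ({z, σ (z * b) / b} : Finset F) from fun w hw => ?_)).trans Finset.card_le_two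
  obtain ⟨hw, he⟩ := Finset.mem_filter.mp hw
  have hn : w * b * σ (w * b) = z * b * σ (z * b) := by
    rw [map_mul, map_mul]
    linear_combination (b * σ b) * (mem_muF.mp hw - mem_muF.mp hz)
  have : (w * b - z * b) * (w * b - σ (z * b)) = 0 := by linear_combination (w * b) * he - hn
  rcases mul_eq_zero.mp this with h | h
  · exact Finset.mem_insert.mpr (Or.inl (mul_right_cancel₀ hb (sub_eq_zero.mp h)))
  · refine Finset.mem_insert.mpr (Or.inr (Finset.mem_singleton.mpr ?_))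
    rw [eq_div_iff hb]
    exact sub_eq_zero.mp h

/-- Two large subsets of the fixed field meet. -/
theorem exists_meet {A B : Finset F} (hA : A ⊆ fixF σ) (hB : B ⊆ fixF σ) (cA : q + 1 ≤ 2 * A.card)
    (cB : q + 1 ≤ 2 * B.card) : ∃ x ∈ A, x ∈ B := by
  by_contra hcon
  push Not at hcon
  have h := Finset.card_union_of_disjoint (Finset.disjoint_left.mpr hcon)
  have h2 := Finset.card_le_card (Finset.union_subset hA hB)
  rw [card_fixF hσ] at h2
  omega

/-- Two traces add up to anything fixed. -/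
theorem exists_trace_sum {a b : F} (ha : a ≠ 0) (hb : b ≠ 0) {t : F} (ht : σ t = t) :
    ∃ z w, z * σ z = 1 ∧ w * σ w = 1 ∧ z * a + σ (z * a) + (w * b + σ (w * b)) = t := by
  obtain ⟨x, hx, hx'⟩ := exists_meet hσ (A := (muF σ).image fun z => z * a + σ (z * a))
    (B := ((muF σ).image fun z => z * b + σ (z * b)).image fun y => t - y)
    (fun x hx => by
      obtain ⟨z, -, rfl⟩ := Finset.mem_image.mp hx
      rw [mem_fixF, map_add, hσ.involutive]; ring)
    (fun x hx => by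
      obtain ⟨y, hy, rfl⟩ := Finset.mem_image.mp hx
      obtain ⟨z, -, rfl⟩ := Finset.mem_image.mp hy
      rw [mem_fixF, map_sub, ht, map_add, hσ.involutive]; ring)
    (card_trace hσ ha) (by
      rw [Finset.card_image_of_injective _ fun x y h => by simpa using h]; exact card_trace hσ hb)
  obtain ⟨z, hz, rfl⟩ := Finset.mem_image.mp hx
  obtain ⟨y, hy, he⟩ := Finset.mem_image.mp hx'
  obtain ⟨w, hw, rfl⟩ := Finset.mem_image.mp hy
  exact ⟨z, w, mem_muF.mp hz, mem_muF.mp hw, by rw [← he]; ring⟩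

/-- The norms of a two-term combination take many values. -/
theorem card_norm_pair {a b : F} (ha : a ≠ 0) (hb : b ≠ 0) :
    q + 1 ≤ 2 * ((muF σ).image fun z => (z * a + b) * σ (z * a + b)).card := by
  have e : ((muF σ).image fun z => (z * a + b) * σ (z * a + b)) =
      ((muF σ).image fun z => z * (a * σ b) + σ (z * (a * σ b))).image fun t => a * σ a + b * σ b + t := by
    rw [Finset.image_image]
    refine Finset.image_congr fun z hz => ?_
    simp only [Function.comp_apply, map_add, map_mul, hσ.involutive]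
    linear_combination (a * σ a) * mem_muF.mp hz
  rw [e, Finset.card_image_of_injective _ fun x y h => by simpa using h]
  exact card_trace hσ (mul_ne_zero ha ((map_ne_zero σ).mpr hb))

/-- Four terms cancel. -/
theorem exists_four_zero {a b c d : F} (ha : a ≠ 0) (hb : b ≠ 0) (hc : c ≠ 0) (hd : d ≠ 0) :
    ∃ x y z, x * σ x = 1 ∧ y * σ y = 1 ∧ z * σ z = 1 ∧ a * x + b + (c * y + d * z) = 0 := by
  obtain ⟨t, ht, ht'⟩ := exists_meet hσ (A := (muF σ).image fun z => (z * a + b) * σ (z * a + b))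
    (B := (muF σ).image fun z => (z * c + d) * σ (z * c + d))
    (fun x hx => by
      obtain ⟨z, -, rfl⟩ := Finset.mem_image.mp hx
      exact mem_fixF.mpr (norm_fix hσ _))
    (fun x hx => by
      obtain ⟨z, -, rfl⟩ := Finset.mem_image.mp hx
      exact mem_fixF.mpr (norm_fix hσ _))
    (card_norm_pair hσ ha hb) (card_norm_pair hσ hc hd)
  obtain ⟨x, hx, rfl⟩ := Finset.mem_image.mp ht
  obtain ⟨w, hw, he⟩ := Finset.mem_image.mp ht'
  by_cases h0 : w * c + d = 0
  · have h1 : x * a + b = 0 := by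
      rw [h0, zero_mul] at he
      rcases mul_eq_zero.mp he.symm with h | h
      exacts [h, (map_eq_zero σ).mp h]
    exact ⟨x, w, 1, mem_muF.mp hx, mem_muF.mp hw, by rw [map_one, one_mul], by linear_combination h1 + h0⟩
  · obtain ⟨ρ, hρ⟩ : ∃ ρ, ρ = -((x * a + b) / (w * c + d)) := ⟨_, rfl⟩
    have hρn : ρ * σ ρ = 1 := by
      rw [hρ, map_neg, map_div₀, neg_mul_neg, div_mul_div_comm, ← he, div_self]
      exact mul_ne_zero h0 ((map_ne_zero σ).mpr h0)
    refine ⟨x, ρ * w, ρ, mem_muF.mp hx, mem_muF.mp (mul_mem_muF (mem_muF.mpr hρn) hw), hρn, ?_⟩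
    have : ρ * (w * c + d) = -(x * a + b) := by rw [hρ, neg_mul, div_mul_cancel₀ _ h0]
    linear_combination this

/-- Four free terms reach anything. -/
theorem exists_four (f : F) {a b c d : F} (ha : a ≠ 0) (hb : b ≠ 0) (hc : c ≠ 0) (hd : d ≠ 0) :
    ∃ x y z w, x * σ x = 1 ∧ y * σ y = 1 ∧ z * σ z = 1 ∧ w * σ w = 1 ∧
      f + (a * x + b * y + c * z + d * w) = 0 := by
  by_cases hf : f = 0
  · obtain ⟨x, y, z, hx, hy, hz, h⟩ := exists_four_zero hσ ha hb hc hd
    exact ⟨x, 1, y, z, hx, by rw [map_one, one_mul], hy, hz, by rw [hf]; linear_combination h⟩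
  obtain ⟨w, hw, hwf⟩ := exists_mu_out hσ (s := {-f / d}) (by rw [Finset.card_singleton]; have := hσ.two_le; omega)
  rw [Finset.mem_singleton, eq_div_iff hd] at hwf
  have hf' : f + d * w ≠ 0 := fun h => hwf (by linear_combination h)
  obtain ⟨x, y, z, hx, hy, hz, h⟩ := exists_four_zero hσ ha hf' hb hc
  exact ⟨x, y, z, w, hx, hy, hz, mem_muF.mp hw, by linear_combination h⟩

/-- A torus element with prescribed product making a linear form vanish. -/
theorem exists_sol {ι : Type} [Fintype ι] [DecidableEq ι] (c f : ι → F) (hf : ∀ p, f p * σ (f p) = 1)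
    (G : Finset ι) {a₁ a₂ a₃ a₄ b₁ b₂ b₃ b₄ : ι} (ha : [a₁, a₂, a₃, a₄].Nodup) (hb : [b₁, b₂, b₃, b₄].Nodup)
    (haG : ∀ p ∈ [a₁, a₂, a₃, a₄], p ∈ G ∧ c p ≠ 0) (hbG : ∀ p ∈ [b₁, b₂, b₃, b₄], p ∉ G ∧ c p ≠ 0)
    (hco : Nat.Coprime G.card Gᶜ.card) {P : F} (hP : P * σ P = 1) :
    ∃ θ : ι → F, (∀ p, θ p * σ (θ p) = 1) ∧ ∑ p, c p * θ p = 0 ∧ ∏ p, θ p = P ∧
      ∃ ρ τ : F, ρ ≠ 0 ∧ τ ≠ 0 ∧ (∀ p ∈ G, p ∉ [a₁, a₂, a₃, a₄] → θ p = ρ * f p) ∧
        ∀ p, p ∉ G → p ∉ [b₁, b₂, b₃, b₄] → θ p = τ * f p := by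
  have one : ∀ (H : Finset ι) (x₁ x₂ x₃ x₄ : ι), [x₁, x₂, x₃, x₄].Nodup →
      (∀ p ∈ [x₁, x₂, x₃, x₄], p ∈ H ∧ c p ≠ 0) →
      ∃ θ : ι → F, (∀ p, θ p * σ (θ p) = 1) ∧ ∑ p ∈ H, c p * θ p = 0 ∧
        ∀ p, p ∉ [x₁, x₂, x₃, x₄] → θ p = f p := by
    intro H x₁ x₂ x₃ x₄ hnd hx
    simp only [List.nodup_cons, List.mem_cons, List.not_mem_nil, or_false, not_or, List.nodup_nil, and_true] at hnd
    obtain ⟨⟨h12, h13, h14⟩, ⟨h23, h24⟩, h34, -⟩ := hnd
    let s : Finset ι := {x₁, x₂, x₃, x₄}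
    obtain ⟨x, y, z, w, hx', hy, hz, hw, he⟩ := exists_four hσ (∑ p ∈ H \ s, c p * f p)
      (hx x₁ (by simp)).2 (hx x₂ (by simp)).2 (hx x₃ (by simp)).2 (hx x₄ (by simp)).2
    refine ⟨fun p => if p = x₁ then x else if p = x₂ then y else if p = x₃ then z else if p = x₄ then w else f p,
      fun p => by dsimp only; split_ifs <;> first | assumption | exact hf p, ?_, fun p hp => ?_⟩
    · have hs : s ⊆ H := by
        intro p hp
        simp only [s, Finset.mem_insert, Finset.mem_singleton] at hp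
        exact (hx p (by simpa using hp)).1
      rw [← Finset.sum_sdiff hs, Finset.sum_congr rfl fun p hp => ?_]
      · convert he using 2
        simp [s, h12, h13, h14, h23, h24, h34, Ne.symm h12, Ne.symm h13, Ne.symm h14, Ne.symm h23, Ne.symm h24,
          Ne.symm h34, add_assoc]
      · simp only [s, Finset.mem_sdiff, Finset.mem_insert, Finset.mem_singleton, not_or] at hp
        dsimp only
        rw [if_neg hp.2.1, if_neg hp.2.2.1, if_neg hp.2.2.2.1, if_neg hp.2.2.2.2]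
    · simp only [List.mem_cons, List.not_mem_nil, or_false, not_or] at hp
      dsimp only
      rw [if_neg hp.1, if_neg hp.2.1, if_neg hp.2.2.1, if_neg hp.2.2.2]
  obtain ⟨θ₀, h0n, h0s, h0f⟩ := one G a₁ a₂ a₃ a₄ ha haG
  obtain ⟨θ₁, h1n, h1s, h1f⟩ := one Gᶜ b₁ b₂ b₃ b₄ hb fun p hp => ⟨Finset.mem_compl.mpr (hbG p hp).1, (hbG p hp).2⟩
  obtain ⟨Q, hQ⟩ : ∃ Q, Q = P / ((∏ p ∈ G, θ₀ p) * ∏ p ∈ Gᶜ, θ₁ p) := ⟨_, rfl⟩
  have hprod : ∀ (H : Finset ι) (θ : ι → F), (∀ p, θ p * σ (θ p) = 1) → (∏ p ∈ H, θ p) * σ (∏ p ∈ H, θ p) = 1 :=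
    fun H θ h => by rw [map_prod, ← Finset.prod_mul_distrib]; exact Finset.prod_eq_one fun p _ => h p
  have hQn : Q * σ Q = 1 := by
    rw [hQ, map_div₀, map_mul, div_mul_div_comm, hP, mul_mul_mul_comm, hprod _ _ h0n, hprod _ _ h1n]
    simp
  have hQ0 : Q ≠ 0 := left_ne_zero_of_mul_eq_one hQn
  have hbez := Nat.gcd_eq_gcd_ab G.card Gᶜ.card
  rw [hco.gcd_eq_one] at hbez
  let i : ℤ := Nat.gcdA G.card Gᶜ.card
  let j : ℤ := Nat.gcdB G.card Gᶜ.card
  have hzn : ∀ m : ℤ, Q ^ m * σ (Q ^ m) = 1 := fun m => by rw [map_zpow₀, ← mul_zpow, hQn, one_zpow]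
  have hQp : (Q ^ i) ^ G.card * (Q ^ j) ^ Gᶜ.card = Q := by
    rw [← zpow_natCast, ← zpow_natCast, ← _root_.zpow_mul, ← _root_.zpow_mul, ← zpow_add₀ hQ0]
    conv_rhs => rw [← zpow_one Q]
    congr 1
    push_cast at hbez
    linear_combination -hbez
  refine ⟨fun p => if p ∈ G then Q ^ i * θ₀ p else Q ^ j * θ₁ p, fun p => ?_, ?_, ?_, Q ^ i, Q ^ j,
    zpow_ne_zero _ hQ0, zpow_ne_zero _ hQ0, fun p hp hpa => ?_, fun p hp hpb => ?_⟩
  · dsimp only
    split_ifs
    · rw [map_mul, mul_mul_mul_comm, hzn, h0n, one_mul]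
    · rw [map_mul, mul_mul_mul_comm, hzn, h1n, one_mul]
  · rw [← Finset.sum_add_sum_compl G,
      Finset.sum_congr rfl fun p hp => show _ = Q ^ i * (c p * θ₀ p) by dsimp only; rw [if_pos hp]; ring,
      Finset.sum_congr (s₁ := Gᶜ) rfl fun p hp => show _ = Q ^ j * (c p * θ₁ p) by
        dsimp only; rw [if_neg (Finset.mem_compl.mp hp)]; ring,
      ← Finset.mul_sum, ← Finset.mul_sum, h0s, h1s, mul_zero, mul_zero, add_zero]
  · rw [← Finset.prod_mul_prod_compl G,
      Finset.prod_congr rfl fun p hp => show _ = Q ^ i * θ₀ p by rw [if_pos hp],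
      Finset.prod_congr (s₁ := Gᶜ) rfl fun p hp => show _ = Q ^ j * θ₁ p by rw [if_neg (Finset.mem_compl.mp hp)],
      Finset.prod_mul_distrib, Finset.prod_mul_distrib, Finset.prod_const, Finset.prod_const, mul_mul_mul_comm,
      hQp, hQ, div_mul_cancel₀]
    exact mul_ne_zero (left_ne_zero_of_mul_eq_one (hprod _ _ h0n)) (left_ne_zero_of_mul_eq_one (hprod _ _ h1n))
  · dsimp only
    rw [if_pos hp, h0f p hpa]
  · dsimp only
    rw [if_neg hp, h1f p hpb]

end Cfsg.Agent.Classical.UFrame
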