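/-
Tensor decompositions with a monomial factor, for a group containing all transvections of a form.
-/
import Mathlib
import Cfsg.Agent.Lib.Classical.TensorNotMax

set_option autoImplicit false
set_option linter.unusedSectionVars false

namespace Cfsg.Agent.Classical.TNotMax

open Matrix Module Cfsg.Geo Cfsg.Agent.Classical
open scoped Kronecker

variable {F : Type*} [Field F] {ι : Type} [Fintype ι] [DecidableEq ι] {n₁ n₂ : ℕ}
variable {σ : F → F} {f : (ι → F) → (ι → F) → F} {f₁ : (Fin n₁ → F) → (Fin n₁ → F) → F}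
  {f₂ : (Fin n₂ → F) → (Fin n₂ → F) → F} {e : ι ≃ Fin n₁ × Fin n₂} {P : GL ι F}

theorem Sesq.zero_left {κ : Type} {τ : F → F} {g : (κ → F) → (κ → F) → F} (hg : Sesq τ g) (v : κ → F) :
    g 0 v = 0 := by
  rw [← zero_smul F (0 : κ → F), hg.smul_left, zero_mul]

/-- The criterion for a group of isometries containing all transvections with isotropic centre. -/
theorem trans_not_max [Fintype F] (hσ : ∀ x y, σ (x * y) = σ x * σ y) (hf : Sesq σ f) (hf₁ : Sesq σ f₁)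
    (hf₂ : Sesq σ f₂) (hnd : ∀ y, y ≠ 0 → ∃ y', f₂ y y' ≠ 0) (hT : IsTensorFormStructure σ f f₁ f₂ e P)
    {Gs : Subgroup (GL ι F)}
    (hpres : ∀ g ∈ Gs, ∀ x y, f ((g : Matrix ι ι F) *ᵥ x) ((g : Matrix ι ι F) *ᵥ y) = f x y)
    (htr : ∀ s, f s s = 0 → ∃ g ∈ Gs, ∀ x, (g : Matrix ι ι F) *ᵥ x = x + f x s • s)
    {w : Fin n₁ → Fin n₁ → F} {d : F} (hd : d ≠ 0) (hw : ∀ j l, f₁ (w j) (w l) = if j = l then d else 0)
    (hmono : ∀ (a : GL (Fin n₁) F) (lam : F), lam ≠ 0 →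
      (∀ u u', f₁ ((a : Matrix (Fin n₁) (Fin n₁) F) *ᵥ u) ((a : Matrix (Fin n₁) (Fin n₁) F) *ᵥ u') =
        lam * f₁ u u') → ∀ j, ∃ (l : Fin n₁) (μ : F), (a : Matrix (Fin n₁) (Fin n₁) F) *ᵥ w j = μ • w l)
    {i₀ i₁ : Fin n₁} (hi : i₀ ≠ i₁) {v₀ y₁ : Fin n₂ → F} (hv₀ : f₂ v₀ v₀ = 0) (hy₁ : f₂ y₁ v₀ ≠ 0) :
    ∃ K : Subgroup (GL ι F), tensorProductSubgroup n₁ n₂ e P ⊓ Gs < K ∧ K < Gs := by
  obtain ⟨c, hc, hpair⟩ := exists_pairing hσ hf₁ hf₂ hT
  have hv0 : v₀ ≠ 0 := fun h => hy₁ (by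
    rw [h] at hv₀ ⊢
    have h' := hf₂.smul_right 0 y₁ 0
    have h'' := hf₂.add_right y₁ 0 0
    simp only [add_zero] at h''
    linear_combination -h'')
  have hw0 : w i₀ ≠ 0 := fun h => hd (by
    have h' := hw i₀ i₀
    rw [if_pos rfl, h, hf₁.zero_left] at h'
    exact h'.symm)
  obtain ⟨g₁, hg₁, hg₁a⟩ := htr (tau e P (w i₀) v₀) (by rw [hpair, hv₀, mul_zero, mul_zero])
  obtain ⟨g₂, hg₂, hg₂a⟩ := htr (tau e P (w i₀) v₀ + tau e P (w i₁) v₀) (by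
    simp [hf.add_left, hf.add_right, hpair, hv₀])
  have hα : ∀ u, f (tau e P (w i₀) u) (tau e P (w i₀) v₀) = c * (d * f₂ u v₀) := fun u => by
    rw [hpair, hw, if_pos rfl]
  refine not_max hσ hf₁ hf₂ hnd hT hpres hd hw hmono hi
    ⟨g₁, hg₁, fun j v => ?_, fun v => ?_, y₁, fun μ h => ?_⟩
    ⟨g₂, hg₂, y₁, y₁ + (c * (d * f₂ y₁ v₀)) • v₀, (c * (d * f₂ y₁ v₀)) • v₀, fun h => ?_, ?_, ?_⟩
    hf.add_left
  · rw [hg₁a]
    by_cases hj : j = i₀
    · subst hj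
      exact ⟨_, by rw [← LinearMap.map_smul, ← LinearMap.map_add]⟩
    · exact ⟨v, by rw [hpair, hw, if_neg hj, zero_mul, mul_zero, zero_smul, add_zero]⟩
  · rw [hg₁a, hpair, hw, if_neg hi.symm, zero_mul, mul_zero, zero_smul, add_zero]
  · simp only [hg₁a, hα, ← LinearMap.map_smul, ← LinearMap.map_add] at h
    have h' := tau_injective e P hw0 h
    have hv' := congrArg (fun u => f₂ u v₀) h'
    simp only [hf₂.add_left, hf₂.smul_left, hv₀, mul_zero, add_zero] at hv'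
    have hμ : μ = 1 := mul_right_cancel₀ hy₁ (by rw [one_mul, ← hv'])
    rw [hμ, one_smul] at h'
    exact smul_ne_zero (mul_ne_zero hc (mul_ne_zero hd hy₁)) hv0 (add_eq_left.1 h')
  · have h' := congrArg (fun u => f₂ u v₀) h
    simp only [hf₂.add_left, hf₂.smul_left, hv₀, mul_zero, add_zero, hf₂.zero_left] at h'
    exact hy₁ h'
  · exact smul_ne_zero (mul_ne_zero hc (mul_ne_zero hd hy₁)) hv0
  · rw [hg₂a, hf.add_right, hα, hpair, hw, if_neg hi, zero_mul, mul_zero, add_zero, map_add, map_smul, map_smul,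
      smul_add, add_assoc]

/-- The bijection with the two tensor factors exchanged. -/
def swapIdx (e : ι ≃ Fin n₁ × Fin n₂) : ι ≃ Fin n₂ × Fin n₁ := e.trans (Equiv.prodComm _ _)

theorem tensorProductSubgroup_swap_le (e : ι ≃ Fin n₁ × Fin n₂) (P : GL ι F) :
    tensorProductSubgroup n₁ n₂ e P ≤ tensorProductSubgroup n₂ n₁ (swapIdx e) P := by
  rintro _ ⟨_, ⟨k, ⟨a, b, hk⟩, rfl⟩, rfl⟩
  refine Subgroup.mem_map_of_mem _ ⟨glReindex (Equiv.prodComm (Fin n₁) (Fin n₂)) k, ⟨b, a, ?_⟩, ?_⟩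
  · change Matrix.reindex (Equiv.prodComm (Fin n₁) (Fin n₂)) (Equiv.prodComm (Fin n₁) (Fin n₂))
      (k : Matrix (Fin n₁ × Fin n₂) (Fin n₁ × Fin n₂) F) = _
    rw [hk]
    ext ⟨i, j⟩ ⟨i', j'⟩
    simp [mul_comm]
  · refine Units.ext ?_
    change Matrix.reindex _ _ (Matrix.reindex _ _ (k : Matrix (Fin n₁ × Fin n₂) (Fin n₁ × Fin n₂) F)) =
      Matrix.reindex e.symm e.symm (k : Matrix (Fin n₁ × Fin n₂) (Fin n₁ × Fin n₂) F)
    ext i j
    simp [swapIdx]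

theorem tensorProductSubgroup_swap (e : ι ≃ Fin n₁ × Fin n₂) (P : GL ι F) :
    tensorProductSubgroup n₂ n₁ (swapIdx e) P = tensorProductSubgroup n₁ n₂ e P := by
  refine le_antisymm ?_ (tensorProductSubgroup_swap_le e P)
  have h := tensorProductSubgroup_swap_le (swapIdx e) P
  rwa [show swapIdx (swapIdx e) = e from Equiv.ext fun i => by simp [swapIdx]] at h

theorem structure_swap {f₁ : (Fin n₁ → F) → (Fin n₁ → F) → F} {f₂ : (Fin n₂ → F) → (Fin n₂ → F) → F}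
    {e : ι ≃ Fin n₁ × Fin n₂} (h : IsTensorFormStructure σ f f₁ f₂ e P) :
    IsTensorFormStructure σ f f₂ f₁ (swapIdx e) P := by
  obtain ⟨c, hc, h⟩ := h
  refine ⟨c, hc, fun x y => ?_⟩
  have hx : ∀ z : Fin n₂ × Fin n₁ → F, z ∘ swapIdx e = (fun p => z p.swap) ∘ e := fun z => rfl
  rw [hx, hx, h]
  congr 1
  rw [formOfGram, formOfGram]
  refine Fintype.sum_equiv (Equiv.prodComm _ _) _ _ fun p => Fintype.sum_equiv (Equiv.prodComm _ _) _ _ fun r => ?_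
  simp [mul_comm (gramMatrix f₁ p.1 r.1)]

end Cfsg.Agent.Classical.TNotMax
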