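/-
Subspace stabilisers in special unitary groups of dimension at least six.
-/
import Cfsg.Agent.Lib.Classical.RadicalFormSplit
import Cfsg.Agent.Lib.Classical.UnitaryOvergroup
import Cfsg.Agent.Lib.Classical.RadicalForm

set_option autoImplicit false
open Cfsg

namespace Cfsg.Agent.Classical.SULists

theorem singular {F : Type*} [Field F] [Fintype F] (n q : ℕ) (hF : Fintype.card F = q ^ 2) (hn : 6 ≤ n) (W : Submodule F (Fin n → F)) (hW0 : W ≠ ⊥) (hW : Cfsg.Geo.IsTotallySingularFor (Cfsg.hermForm n F q) W) : Cfsg.Geo.IsMaximalIn (Cfsg.GU n F q ⊓ Cfsg.Geo.specialLinear (Fin n) F) (Cfsg.Geo.subspaceStabilizer W ⊓ (Cfsg.GU n F q ⊓ Cfsg.Geo.specialLinear (Fin n) F)) := by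
  classical
  haveI : Nonempty (Fin n) := ⟨⟨0, by omega⟩⟩
  obtain ⟨p, e, σ, -, -, -, -, hσ⟩ := Cfsg.Agent.Classical.exists_usigma hF
  have hh := hσ.isUnitaryForm (n := n)
  obtain ⟨θ, hθ⟩ : ∃ θ : F, θ + σ θ ≠ 0 := by
    by_contra hcon
    push Not at hcon
    refine hσ.ne_refl (RingEquiv.ext fun x => ?_)
    have h1 := hcon 1
    rw [map_one] at h1
    show σ x = x
    linear_combination hcon x - x * h1
  obtain ⟨c, hc0, hc⟩ := hσ.exists_skew
  refine Cfsg.Agent.Classical.Radical.isMaximal_form (G := Cfsg.GU n F q ⊓ Cfsg.Geo.specialLinear (Fin n) F) (σ := σ) (ε := 1)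
    (Cfsg.Agent.Classical.reflexForm_of_unitary hh) (fun g hg x y => hg.1 x y) (fun g h1 hg => ⟨hg, h1⟩)
    (fun v => ⟨θ * Cfsg.hermForm n F q v v / (θ + σ θ), ?_⟩) ⟨c, hc0, by rwa [one_mul]⟩
    (fun K hK => Cfsg.Agent.Classical.UOver.suGL_le hσ (by omega) fun v c hv hc g hg => ?_) hW0 hW
  · rw [one_mul, map_div₀, map_mul, map_add, hσ.involutive, ← hh.herm v v, add_comm (σ θ) θ, ← add_div,
      ← add_mul, mul_div_cancel_left₀ _ hθ]
  by_cases hv0 : v = 0
  · convert one_mem K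
    refine Cfsg.Agent.Classical.gl_ext_mulVec fun x => ?_
    rw [hg x, hv0, Units.val_one, Matrix.one_mulVec, smul_zero, add_zero]
  · exact hK v c hv hv0 (by rwa [one_mul]) g hg


theorem nondegenerate {F : Type*} [Field F] [Fintype F] (n q : ℕ) (hF : Fintype.card F = q ^ 2) (hn : 6 ≤ n) (W : Submodule F (Fin n → F)) (hW0 : W ≠ ⊥) (hW : Cfsg.Geo.IsNondegenerateOn (Cfsg.hermForm n F q) W) (hdim : 2 * Module.finrank F W < n) : Cfsg.Geo.IsMaximalIn (Cfsg.GU n F q ⊓ Cfsg.Geo.specialLinear (Fin n) F) (Cfsg.Geo.subspaceStabilizer W ⊓ (Cfsg.GU n F q ⊓ Cfsg.Geo.specialLinear (Fin n) F)) := by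
  classical
  haveI : Nonempty (Fin n) := ⟨⟨0, by omega⟩⟩
  obtain ⟨p, e, σ, -, -, -, -, hσ⟩ := Cfsg.Agent.Classical.exists_usigma hF
  have hh := hσ.isUnitaryForm (n := n)
  obtain ⟨θ, hθ⟩ : ∃ θ : F, θ + σ θ ≠ 0 := by
    by_contra hcon
    push Not at hcon
    refine hσ.ne_refl (RingEquiv.ext fun x => ?_)
    have h1 := hcon 1
    rw [map_one] at h1
    show σ x = x
    linear_combination hcon x - x * h1
  obtain ⟨c, hc0, hc⟩ := hσ.exists_skew
  have hiso2 : ∀ Y : Submodule F (Fin n → F), 2 ≤ Module.finrank F Y →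
      ∃ y ∈ Y, y ≠ 0 ∧ Cfsg.hermForm n F q y y = 0 := by
    intro Y hY
    obtain ⟨x, hx, hx0⟩ := Submodule.exists_mem_ne_zero_of_ne_bot (p := Y) fun e => by
      rw [e, finrank_bot] at hY; omega
    by_cases hxx : Cfsg.hermForm n F q x x = 0
    · exact ⟨x, hx, hx0, hxx⟩
    obtain ⟨z, hz, hzx⟩ : ∃ z ∈ Y, z ∉ Submodule.span F {x} := by
      by_contra hcon
      push Not at hcon
      have h1 := Submodule.finrank_mono (show Y ≤ Submodule.span F {x} from hcon)
      rw [finrank_span_singleton hx0] at h1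
      omega
    have hs := Cfsg.Agent.Classical.semiForm_of_unitary hh
    obtain ⟨z', hz'⟩ : ∃ z', z' = z - (Cfsg.hermForm n F q z x / Cfsg.hermForm n F q x x) • x := ⟨_, rfl⟩
    have hz'x : Cfsg.hermForm n F q z' x = 0 := by
      rw [hz', sub_eq_add_neg, ← neg_smul, hs.add_left, hs.smul_left, neg_mul, div_mul_cancel₀ _ hxx, add_neg_cancel]
    have hxz' : Cfsg.hermForm n F q x z' = 0 := by rw [hh.herm, hz'x, map_zero]
    have hz'0 : z' ≠ 0 := fun e => hzx (by
      rw [sub_eq_zero.mp (hz'.symm.trans e)]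
      exact Submodule.smul_mem _ _ (Submodule.mem_span_singleton_self x))
    have hz'Y : z' ∈ Y := hz' ▸ sub_mem hz (Y.smul_mem _ hx)
    by_cases hzz : Cfsg.hermForm n F q z' z' = 0
    · exact ⟨z', hz'Y, hz'0, hzz⟩
    obtain ⟨t, ht0, ht⟩ := hσ.norm_surjective (t := -Cfsg.hermForm n F q x x / Cfsg.hermForm n F q z' z')
      (div_ne_zero (neg_ne_zero.mpr hxx) hzz) (by rw [map_div₀, map_neg, ← hh.herm x x, ← hh.herm z' z'])
    refine ⟨x + t • z', Y.add_mem hx (Y.smul_mem _ hz'Y), fun e => hxx ?_, ?_⟩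
    · have h1 : Cfsg.hermForm n F q (x + t • z') x = 0 := by rw [e, ← zero_smul F x, hs.smul_left, zero_mul]
      rwa [hs.add_left, hs.smul_left, hz'x, mul_zero, add_zero] at h1
    · rw [hs.add_left, hs.add_right, hs.add_right, hs.smul_left, hs.smul_left, hs.smul_right, hs.smul_right, hz'x,
        hxz', mul_zero, mul_zero, add_zero, zero_add, ← mul_assoc, ht, div_mul_cancel₀ _ hzz, add_neg_cancel]
  refine Cfsg.Agent.Classical.Radical.isMaximal_formSplit (G := Cfsg.GU n F q ⊓ Cfsg.Geo.specialLinear (Fin n) F) (σ := σ) (ε := 1)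
    (Cfsg.Agent.Classical.reflexForm_of_unitary hh) (fun g hg x y => hg.1 x y) (fun g h1 hg => ⟨hg, h1⟩)
    (fun v => ⟨θ * Cfsg.hermForm n F q v v / (θ + σ θ), ?_⟩) hiso2 ⟨c, hc0, by rwa [one_mul]⟩
    (fun K hK => Cfsg.Agent.Classical.UOver.suGL_le hσ (by omega) fun v c hv hc g hg => ?_) hW0 hW
    (by rw [Fintype.card_fin]; omega) (by rw [Fintype.card_fin]; omega)
  · rw [one_mul, map_div₀, map_mul, map_add, hσ.involutive, ← hh.herm v v, add_comm (σ θ) θ, ← add_div,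
      ← add_mul, mul_div_cancel_left₀ _ hθ]
  by_cases hv0 : v = 0
  · convert one_mem K
    refine Cfsg.Agent.Classical.gl_ext_mulVec fun x => ?_
    rw [hg x, hv0, Units.val_one, Matrix.one_mulVec, smul_zero, add_zero]
  · exact hK v c hv hv0 (by rwa [one_mul]) g hg


end Cfsg.Agent.Classical.SULists
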