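/-
Stabilisers of orthogonal decompositions into non-degenerate subspaces are maximal in the symplectic group.
-/
import Cfsg.Agent.Lib.Classical.SpOvergroup
import Cfsg.Agent.Lib.Classical.SymplecticIso

set_option autoImplicit false
set_option linter.unusedSectionVars false
set_option linter.style.haveILetI false

namespace Cfsg.Agent.Classical.SpDecompMax

open Matrix Cfsg.Geo Module
open Cfsg.Agent.Classical

universe u

variable {m : ℕ} {F : Type u} [Field F] [Fintype F] {t k : ℕ}
  {D : Fin t → Submodule F (Fin m ⊕ Fin m → F)}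

local notation "Vm" => Fin m ⊕ Fin m → F
local notation "Gl" => GL (Fin m ⊕ Fin m) F
local notation "φ" => sympForm m F

/-- The form as a bilinear map. -/
def bf (m : ℕ) (F : Type u) [Field F] [Fintype F] :
    (Fin m ⊕ Fin m → F) →ₗ[F] (Fin m ⊕ Fin m → F) →ₗ[F] F :=
  LinearMap.mk₂ F (sympForm m F) (sympForm_isSymplectic (m := m) (F := F)).bilinear.add_left
    (sympForm_isSymplectic (m := m) (F := F)).bilinear.smul_left
    (sympForm_isSymplectic (m := m) (F := F)).bilinear.add_right
    (sympForm_isSymplectic (m := m) (F := F)).bilinear.smul_right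

theorem bf_apply (u v : Vm) : bf m F u v = φ u v := rfl

variable (hm : 0 < m) (hD : IsNondegenerateMDecomposition (sympForm m F) k D)

include hm hD

/-- A basis adapted to the decomposition with the same Gram matrix in every block. -/
theorem exists_basis : ∃ (r : ℕ) (b : Basis (Fin t × (Fin r ⊕ Fin r)) F Vm),
    (∀ a j, b (a, j) ∈ D a) ∧
      ∀ x y, φ (b x) (b y) = if x.1 = y.1 then Matrix.J (Fin r) F x.2 y.2 else 0 := by
  classical
  haveI : Nonempty (Fin m ⊕ Fin m) := ⟨.inl ⟨0, hm⟩⟩
  have hfs := sympForm_isSymplectic (m := m) (F := F)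
  have hdec := hD.decomp
  obtain ⟨r, hr⟩ : Even k := by
    have := even_finrank_of_alternating hfs (hD.nondegenerate ⟨0, by have := hdec.two_le; omega⟩)
    rwa [hdec.finrank_eq] at this
  have hfam : ∀ a, Nonempty (SpCount.SpFam ((bf m F).compl₁₂ (D a).subtype (D a).subtype) r) := fun a => by
    refine SpCount.exists_fam r ⟨fun v => hfs.alternating _, fun v hv => ?_⟩ (by rw [hdec.finrank_eq, hr, two_mul])
    by_contra h0
    obtain ⟨x, hx, hxv⟩ := (hD.nondegenerate a v.1 v.2 fun e => h0 (Subtype.ext e)).2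
    exact hxv (hv ⟨x, hx⟩)
  let fam := fun a => (hfam a).some
  let b : Fin t × (Fin r ⊕ Fin r) → Vm := fun p => ((fam p.1).1 p.2 : Vm)
  have hb : ∀ x y, φ (b x) (b y) = if x.1 = y.1 then Matrix.J (Fin r) F x.2 y.2 else 0 := by
    rintro ⟨a, i⟩ ⟨c, j⟩
    by_cases h : a = c
    · subst h
      rw [if_pos rfl]
      exact (fam a).2 i j
    · rw [if_neg h]
      exact hD.orthogonal a c h _ ((fam a).1 i).2 _ ((fam c).1 j).2
  have hli : LinearIndependent F b := by
    rw [Fintype.linearIndependent_iff]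
    rintro c hc ⟨a, i⟩
    have h : ∀ j, ∑ l, c (a, l) * Matrix.J (Fin r) F l j = 0 := fun j => by
      have := congrArg (fun x => bf m F x (b (a, j))) hc
      simp only [map_sum, map_smul, LinearMap.coe_sum, Finset.sum_apply, LinearMap.smul_apply, bf_apply, hb,
        smul_eq_mul, map_zero, LinearMap.zero_apply, Fintype.sum_prod_type, mul_ite, mul_zero] at this
      rwa [Finset.sum_eq_single a (fun a' _ ha' => Finset.sum_eq_zero fun l _ => if_neg ha')
        (fun ha' => absurd (Finset.mem_univ _) ha'), Finset.sum_congr rfl (fun l _ => if_pos rfl)] at this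
    rcases i with i | i
    · simpa [Fintype.sum_sum_type, SpCount.J_apply] using h (.inr i)
    · simpa [Fintype.sum_sum_type, SpCount.J_apply] using h (.inl i)
  have hcard : Fintype.card (Fin t × (Fin r ⊕ Fin r)) = finrank F Vm := by
    haveI : Nonempty (Fin t) := ⟨⟨0, by have := hdec.two_le; omega⟩⟩
    let e := (DirectSum.IsInternal.collectedBasis
      (DirectSum.isInternal_submodule_of_iSupIndep_of_iSup_eq_top hdec.indep hdec.iSup_eq_top)
      fun a => Module.finBasisOfFinrankEq F (D a) (hdec.finrank_eq a))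
    rw [Module.finrank_eq_card_basis e, Fintype.card_sigma, Fintype.card_prod, Fintype.card_sum, Fintype.card_fin,
      Fintype.card_fin, Finset.sum_const, Finset.card_univ, Fintype.card_fin, smul_eq_mul, hr, Fintype.card_fin]
  haveI : Nonempty (Fin t × (Fin r ⊕ Fin r)) := by
    have hr0 : 0 < r := by have := hdec.pos; omega
    exact ⟨(⟨0, by have := hdec.two_le; omega⟩, .inl ⟨0, hr0⟩)⟩
  refine ⟨r, basisOfLinearIndependentOfCardEqFinrank hli hcard, fun a j => ?_, fun x y => ?_⟩
  · rw [coe_basisOfLinearIndependentOfCardEqFinrank]; exact ((fam a).1 j).2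
  · rw [coe_basisOfLinearIndependentOfCardEqFinrank]; exact hb x y

/-- Every vector is a sum of components. -/
theorem exists_components (x : Vm) : ∃ c : Fin t → Vm, (∀ a, c a ∈ D a) ∧ ∑ a, c a = x := by
  obtain ⟨r, b, hb, -⟩ := exists_basis hm hD
  refine ⟨fun a => ∑ j, b.repr x (a, j) • b (a, j), fun a => Submodule.sum_mem _ fun j _ => Submodule.smul_mem _ _ (hb a j), ?_⟩
  conv_rhs => rw [← b.sum_repr x]
  rw [Fintype.sum_prod_type]

/-- The members are permuted arbitrarily. -/
theorem exists_perm (σ : Equiv.Perm (Fin t)) :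
    ∃ g ∈ decompositionStabilizer D ⊓ spGL m F, ∀ a x, x ∈ D a →
      (g : Matrix (Fin m ⊕ Fin m) (Fin m ⊕ Fin m) F) *ᵥ x ∈ D (σ a) := by
  classical
  obtain ⟨r, b, hb, hG⟩ := exists_basis hm hD
  let e : Vm ≃ₗ[F] Vm := b.equiv b (Equiv.prodCongr σ (Equiv.refl _))
  have he : ∀ a j, e (b (a, j)) = b (σ a, j) := fun a j => by simp [e]
  obtain ⟨g, hg⟩ : ∃ g : Gl, ∀ x, (g : Matrix (Fin m ⊕ Fin m) (Fin m ⊕ Fin m) F) *ᵥ x = e x := by
    refine ⟨Matrix.GeneralLinearGroup.toLin.symm (LinearMap.GeneralLinearGroup.ofLinearEquiv e), fun x => ?_⟩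
    rw [← Matrix.toLin'_apply]
    change (Matrix.GeneralLinearGroup.toLin (Matrix.GeneralLinearGroup.toLin.symm
      (LinearMap.GeneralLinearGroup.ofLinearEquiv e)) : Vm →ₗ[F] Vm) x = e x
    rw [MulEquiv.apply_symm_apply]
    rfl
  have hspan : ∀ a x, x ∈ D a → x ∈ Submodule.span F (Set.range fun j => b (a, j)) := fun a x hx => by
    have hli : LinearIndependent F fun j => b (a, j) := b.linearIndependent.comp _ (Prod.mk_right_injective a)
    have hle : Submodule.span F (Set.range fun j => b (a, j)) ≤ D a :=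
      Submodule.span_le.mpr (Set.range_subset_iff.mpr fun j => hb a j)
    have hfr : finrank F (Submodule.span F (Set.range fun j => b (a, j))) = finrank F (D a) := by
      rw [finrank_span_eq_card hli, hD.decomp.finrank_eq]
      have h1 := Module.finrank_eq_card_basis b
      have h2 := Module.finrank_eq_card_basis (DirectSum.IsInternal.collectedBasis
        (DirectSum.isInternal_submodule_of_iSupIndep_of_iSup_eq_top hD.decomp.indep hD.decomp.iSup_eq_top)
        fun a => Module.finBasisOfFinrankEq F (D a) (hD.decomp.finrank_eq a))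
      rw [h1] at h2
      simp at h2
      have := hD.decomp.two_le
      rw [Fintype.card_sum, Fintype.card_fin]
      exact h2.resolve_right (by omega)
    rw [Submodule.eq_of_le_of_finrank_eq hle hfr]
    exact hx
  have hmap : ∀ a x, x ∈ D a → e x ∈ D (σ a) := fun a x hx => by
    have h : Submodule.span F (Set.range fun j => b (a, j)) ≤ (D (σ a)).comap e.toLinearMap :=
      Submodule.span_le.mpr (Set.range_subset_iff.mpr fun j => by
        change e (b (a, j)) ∈ D (σ a)
        rw [he]; exact hb _ _)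
    exact h (hspan a x hx)
  refine ⟨g, ⟨⟨σ, fun a => ?_⟩, ?_⟩, fun a x hx => by rw [hg]; exact hmap a x hx⟩
  · refine Submodule.eq_of_le_of_finrank_eq (Submodule.map_le_iff_le_comap.mpr fun x hx => ?_) ?_
    · change Matrix.toLin' _ x ∈ D (σ a)
      rw [Matrix.toLin'_apply, hg]; exact hmap a x hx
    · rw [← (Submodule.equivMapOfInjective _ (fun x y h => gl_mulVec_injective g (by
        simpa [Matrix.toLin'_apply] using h)) (D a)).finrank_eq, hD.decomp.finrank_eq, hD.decomp.finrank_eq]
  · refine mem_spGL_of fun u v => ?_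
    rw [hg, hg, ← bf_apply, ← bf_apply]
    change ((bf m F).compl₁₂ e.toLinearMap e.toLinearMap) u v = _
    congr 2
    refine LinearMap.ext_basis b b fun x y => ?_
    change φ (e (b x)) (e (b y)) = φ (b x) (b y)
    obtain ⟨a, i⟩ := x
    obtain ⟨c, j⟩ := y
    rw [he, he, hG, hG]
    simp

/-- The stabiliser is maximal. -/
theorem isMaximal (hex : ¬ (k = 2 ∧ Fintype.card F = 2)) :
    IsMaximalIn (spGL m F) (decompositionStabilizer D ⊓ spGL m F) := by
  classical
  haveI : Nonempty (Fin m ⊕ Fin m) := ⟨.inl ⟨0, hm⟩⟩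
  have hfs := sympForm_isSymplectic (m := m) (F := F)
  have hadd := hfs.bilinear.add_left
  have haddr := hfs.bilinear.add_right
  have hsl := hfs.bilinear.smul_left
  have hsr := hfs.bilinear.smul_right
  have hdec := hD.decomp
  have hk2 : 1 < k := by
    have := even_finrank_of_alternating hfs (hD.nondegenerate ⟨0, by have := hdec.two_le; omega⟩)
    rw [hdec.finrank_eq] at this
    obtain ⟨r, hr⟩ := this
    have := hdec.pos
    omega
  refine ⟨lt_of_le_of_ne inf_le_right fun e => not_sp_le_decomp hm hdec hk2 (inf_eq_right.mp e),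
    fun K hK hKS => or_iff_not_imp_left.mpr fun hne => le_antisymm hKS ?_⟩
  let C : Vm → Prop := fun v => ∀ (c : F) (g : Gl), SpOver.Tv g v c → g ∈ K
  have hzero : C 0 := fun c g hg => by
    rw [show g = 1 from gl_ext_mulVec fun x => by rw [hg, smul_zero, add_zero, Units.val_one, Matrix.one_mulVec]]
    exact one_mem K
  -- transvections centred in a member
  have hblock : ∀ a v, v ∈ D a → C v := by
    intro a v hv c g hg
    refine hK ⟨⟨1, fun b => ?_⟩, ?_⟩
    · refine Submodule.eq_of_le_of_finrank_eq (Submodule.map_le_iff_le_comap.mpr fun x hx => ?_) ?_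
      · change Matrix.toLin' _ x ∈ D b
        rw [Matrix.toLin'_apply, hg]
        by_cases hab : b = a
        · exact (D b).add_mem hx ((D b).smul_mem _ (hab ▸ hv))
        · rw [hD.orthogonal b a hab x hx v hv, mul_zero, zero_smul, add_zero]; exact hx
      · rw [← (Submodule.equivMapOfInjective _ (fun x y h => gl_mulVec_injective g (by
          simpa [Matrix.toLin'_apply] using h)) (D b)).finrank_eq, Equiv.Perm.one_apply]
    · obtain ⟨g', hg', h'⟩ := exists_sp_transvection v c
      rwa [SpOver.tv_unique hg h']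
  have hscale : ∀ {v : Vm} (s : F), C v → C (s • v) := fun {v} s hv c g hg => hv _ g (SpOver.tv_smul s hg)
  have hjoin : ∀ {u u' : Vm} (s : F), C u → C u' → φ u u' ≠ 0 → C (u + s • u') := by
    intro u u' s hu hu' hne c g hg
    obtain ⟨h, hhs, hh⟩ := exists_sp_transvection u' (s / φ u u')
    obtain ⟨T, hTs, hT⟩ := exists_sp_transvection u c
    have := SpOver.tv_conj hhs hT
    rw [hh, div_mul_cancel₀ _ hne] at this
    rw [SpOver.tv_unique hg this]
    exact mul_mem (mul_mem (hu' _ _ hh) (hu c T hT)) (inv_mem (hu' _ _ hh))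
  -- pairing with a member sees one component
  have hpair : ∀ (c : Fin t → Vm), (∀ a, c a ∈ D a) → ∀ a z, z ∈ D a → φ (∑ b, c b) z = φ (c a) z := by
    intro c hc a z hz
    rw [← bf_apply, map_sum, LinearMap.coe_sum, Finset.sum_apply]
    exact Finset.sum_eq_single a
      (fun b _ hb => hD.orthogonal b a hb _ (hc b) _ hz) (fun h => absurd (Finset.mem_univ _) h)
  have hsep : ∀ {a u v}, u ∈ D a → v ∈ D a → u ≠ 0 → v ≠ 0 → ∃ z ∈ D a, φ u z ≠ 0 ∧ φ z v ≠ 0 := by
    intro a u v hu hv hu0 hv0
    obtain ⟨x, hx, hux⟩ := (hD.nondegenerate a u hu hu0).2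
    obtain ⟨y, hy, hyv⟩ := (hD.nondegenerate a v hv hv0).1
    by_cases h1 : φ x v = 0
    swap
    · exact ⟨x, hx, hux, h1⟩
    by_cases h2 : φ u y = 0
    swap
    · exact ⟨y, hy, h2, hyv⟩
    exact ⟨x + y, add_mem hx hy, by rw [haddr, h2, add_zero]; exact hux, by rw [hadd, h1, zero_add]; exact hyv⟩
  -- changing one component
  have hrep1 : ∀ {w a u v}, C w → u ∈ D a → v ∈ D a → (∀ z ∈ D a, φ w z = φ u z) → φ u v ≠ 0 → C (w - u + v) := by
    intro w a u v hw hu hv hwu huv
    have hne : φ w (v - u) ≠ 0 := by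
      rw [hwu _ (sub_mem hv hu), ← bf_apply, map_sub, bf_apply, bf_apply, hfs.alternating, sub_zero]
      exact huv
    have := hjoin 1 hw (hblock a _ (sub_mem hv hu)) hne
    rw [one_smul, ← add_sub_assoc] at this
    rwa [sub_add_eq_add_sub]
  have hrep : ∀ {w a u v}, C w → u ∈ D a → v ∈ D a → (∀ z ∈ D a, φ w z = φ u z) → u ≠ 0 → v ≠ 0 →
      C (w - u + v) := by
    intro w a u v hw hu hv hwu hu0 hv0
    by_cases huv : φ u v = 0
    swap
    · exact hrep1 hw hu hv hwu huv
    obtain ⟨z, hz, huz, hzv⟩ := hsep hu hv hu0 hv0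
    have h1 := hrep1 hw hu hz hwu huz
    have h2 := hrep1 (u := z) h1 hz hv (fun y hy => by
      rw [← bf_apply, map_add, map_sub, LinearMap.add_apply, LinearMap.sub_apply, bf_apply, bf_apply, bf_apply,
        hwu y hy, sub_self, zero_add]) hzv
    rwa [add_sub_cancel_right] at h2
  -- a mixed centre
  obtain ⟨g, hg, hgn⟩ : ∃ g ∈ K, g ∉ decompositionStabilizer D := by
    by_contra hcon
    push Not at hcon
    exact hne (le_antisymm (le_inf hcon hKS) hK)
  obtain ⟨w, hwC, hwmix⟩ : ∃ w, C w ∧ ∀ b, w ∉ D b := by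
    by_contra hcon
    push Not at hcon
    apply hgn
    have hin : ∀ a v, v ∈ D a → ∃ b, (g : Matrix (Fin m ⊕ Fin m) (Fin m ⊕ Fin m) F) *ᵥ v ∈ D b := fun a v hv =>
      hcon _ fun c h hh => by
        obtain ⟨T, -, hT⟩ := exists_sp_transvection v c
        rw [SpOver.tv_unique hh (SpOver.tv_conj (hKS hg) hT)]
        exact mul_mem (mul_mem hg (hblock a v hv c T hT)) (inv_mem hg)
    have hone : ∀ a, ∃ b, ∀ v ∈ D a, (g : Matrix (Fin m ⊕ Fin m) (Fin m ⊕ Fin m) F) *ᵥ v ∈ D b := by
      intro a
      obtain ⟨v₀, hv₀, hv₀0⟩ : ∃ v ∈ D a, v ≠ 0 := Submodule.exists_mem_ne_zero_of_ne_bot fun e => by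
        have := hdec.finrank_eq a
        rw [e, finrank_bot] at this
        omega
      obtain ⟨b, hb⟩ := hin a v₀ hv₀
      refine ⟨b, fun v hv => ?_⟩
      obtain ⟨b', hb'⟩ := hin a v hv
      by_cases hbb : b' = b
      · exact hbb ▸ hb'
      obtain ⟨c, hc⟩ := hin a (v₀ + v) (add_mem hv₀ hv)
      rw [Matrix.mulVec_add] at hc
      by_cases hcb : c = b
      · subst hcb
        simpa using (D c).sub_mem hc hb
      · exfalso
        have h0 := Submodule.disjoint_def.mp (hdec.indep b) _ hb (by
          have e : (g : Matrix (Fin m ⊕ Fin m) (Fin m ⊕ Fin m) F) *ᵥ v₀ =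
              ((g : Matrix (Fin m ⊕ Fin m) (Fin m ⊕ Fin m) F) *ᵥ v₀ +
                (g : Matrix (Fin m ⊕ Fin m) (Fin m ⊕ Fin m) F) *ᵥ v) -
              (g : Matrix (Fin m ⊕ Fin m) (Fin m ⊕ Fin m) F) *ᵥ v := (add_sub_cancel_right _ _).symm
          rw [e]
          exact sub_mem (Submodule.mem_iSup_of_mem c (Submodule.mem_iSup_of_mem hcb hc))
            (Submodule.mem_iSup_of_mem b' (Submodule.mem_iSup_of_mem hbb hb')))
        exact hv₀0 (gl_mulVec_injective g (h0.trans (Matrix.mulVec_zero _).symm))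
    choose σ hσ using hone
    have hmap : ∀ a, (D a).map (Matrix.toLin' (g : Matrix (Fin m ⊕ Fin m) (Fin m ⊕ Fin m) F)) = D (σ a) := fun a => by
      refine Submodule.eq_of_le_of_finrank_eq (Submodule.map_le_iff_le_comap.mpr fun x hx => by
        change Matrix.toLin' _ x ∈ D (σ a)
        rw [Matrix.toLin'_apply]; exact hσ a x hx) ?_
      rw [← (Submodule.equivMapOfInjective _ (fun x y h => gl_mulVec_injective g (by
        simpa [Matrix.toLin'_apply] using h)) (D a)).finrank_eq, hdec.finrank_eq, hdec.finrank_eq]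
    have hinj : Function.Injective σ := fun a a' h => by
      by_contra hne'
      have h1 : D a = D a' := Submodule.map_injective_of_injective
        (f := Matrix.toLin' (g : Matrix (Fin m ⊕ Fin m) (Fin m ⊕ Fin m) F)) (fun x y h => gl_mulVec_injective g (by
        simpa [Matrix.toLin'_apply] using h)) (by rw [hmap, hmap, h])
      have h2 : D a = ⊥ := disjoint_self.mp ((hdec.indep.pairwiseDisjoint hne').mono_right h1.le)
      have := hdec.finrank_eq a
      rw [h2, finrank_bot] at this
      omega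
    exact ⟨Equiv.ofBijective σ (Finite.injective_iff_bijective.mp hinj), hmap⟩
  -- two members
  obtain ⟨c, hc, hcw⟩ := exists_components hm hD w
  obtain ⟨a, ha⟩ : ∃ a, c a ≠ 0 := by
    by_contra hcon
    push Not at hcon
    exact hwmix ⟨0, by have := hdec.two_le; omega⟩ (by rw [← hcw, Finset.sum_eq_zero fun a _ => hcon a]; exact zero_mem _)
  obtain ⟨b, hba, hb⟩ : ∃ b, b ≠ a ∧ c b ≠ 0 := by
    by_contra hcon
    push Not at hcon
    refine hwmix a ?_
    rw [← hcw, Finset.sum_eq_single a (fun b _ hb => hcon b hb) (fun h => absurd (Finset.mem_univ _) h)]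
    exact hc a
  have hpa : ∀ z ∈ D a, φ w z = φ (c a) z := fun z hz => hcw ▸ hpair c hc a z hz
  have hpb : ∀ z ∈ D b, φ w z = φ (c b) z := fun z hz => hcw ▸ hpair c hc b z hz
  obtain ⟨u, hu, hua⟩ := (hD.nondegenerate a _ (hc a) ha).2
  obtain ⟨u', hu', hu'0, hu'b, hu'ne⟩ : ∃ u' ∈ D b, u' ≠ 0 ∧ φ (c b) u' = 0 ∧ u' ≠ c b := by
    by_cases hq : Fintype.card F = 2
    · let ψ : D b →ₗ[F] F := (bf m F (c b)).comp (D b).subtype
      obtain ⟨x, hx, hxn⟩ : ∃ x ∈ LinearMap.ker ψ, x ∉ Submodule.span F {(⟨c b, hc b⟩ : D b)} := by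
        by_contra hcon
        push Not at hcon
        have h1 := Submodule.finrank_mono (show LinearMap.ker ψ ≤ Submodule.span F {(⟨c b, hc b⟩ : D b)} from hcon)
        have h2 := ψ.finrank_range_add_finrank_ker
        have h3 := Submodule.finrank_le (LinearMap.range ψ)
        rw [Module.finrank_self] at h3
        rw [hdec.finrank_eq] at h2
        rw [finrank_span_singleton (fun e => hb (congrArg Subtype.val e))] at h1
        exact hex ⟨by omega, hq⟩
      exact ⟨x, x.2, fun e => hxn (by rw [show x = 0 from Subtype.ext e]; exact zero_mem _), hx,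
        fun e => hxn (by rw [show x = ⟨c b, hc b⟩ from Subtype.ext e]; exact Submodule.mem_span_singleton_self _)⟩
    · obtain ⟨μ, hμ0, hμ1⟩ : ∃ μ : F, μ ≠ 0 ∧ μ ≠ 1 := by
        by_contra hcon
        push Not at hcon
        have h1 : (Finset.univ : Finset F) ⊆ {0, 1} := fun x _ => by
          by_cases hx : x = 0
          · simp [hx]
          · simp [hcon x hx]
        have := Finset.card_le_card h1
        have := Finset.card_le_two (a := (0 : F)) (b := 1)
        have := Fintype.one_lt_card (α := F)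
        rw [Finset.card_univ] at *
        omega
      exact ⟨μ • c b, Submodule.smul_mem _ _ (hc b), smul_ne_zero hμ0 hb, by rw [hsr, hfs.alternating, mul_zero],
        fun e => hμ1 (smul_left_injective F hb (e.trans (one_smul F (c b)).symm))⟩
  have hu0 : u ≠ 0 := fun e => hua (by rw [e, ← bf_apply, map_zero])
  have hw1 := hrep hwC (hc a) hu hpa ha hu0
  have hw2 := hrep hw1 (hc b) hu' (fun z hz => by
    rw [← bf_apply, map_add, map_sub, LinearMap.add_apply, LinearMap.sub_apply, bf_apply, bf_apply, bf_apply,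
      hD.orthogonal a b hba.symm _ (hc a) _ hz, hD.orthogonal a b hba.symm _ hu _ hz, sub_zero, add_zero, hpb z hz])
    hb hu'0
  have hne2 : φ w (w - c a + u - c b + u') ≠ 0 := by
    simp only [← bf_apply, map_add, map_sub]
    simp only [bf_apply, hfs.alternating, hpa _ (hc a), hpa _ hu, hpb _ (hc b), hpb _ hu', hu'b]
    simpa using hua
  have hp := hjoin (-1) hwC hw2 hne2
  rw [neg_one_smul, show w + -(w - c a + u - c b + u') = (c a - u) + (c b - u') by abel] at hp
  have hau : c a - u ≠ 0 := fun e => hua (by rw [← sub_eq_zero.mp e, hfs.alternating])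
  have hbu : c b - u' ≠ 0 := fun e => hu'ne (sub_eq_zero.mp e).symm
  -- every pair of members
  have hab : ∀ x ∈ D a, ∀ y ∈ D b, C (x + y) := by
    intro x hx y hy
    by_cases hx0 : x = 0
    · rw [hx0, zero_add]; exact hblock b y hy
    by_cases hy0 : y = 0
    · rw [hy0, add_zero]; exact hblock a x hx
    have h1 := hrep hp (sub_mem (hc a) hu) hx (fun z hz => by
      rw [hadd, hD.orthogonal b a hba _ (sub_mem (hc b) hu') _ hz, add_zero]) hau hx0
    rw [add_sub_cancel_left] at h1
    have h2 := hrep h1 (sub_mem (hc b) hu') hy (fun z hz => by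
      rw [hadd, hD.orthogonal a b hba.symm _ hx _ hz, add_zero]) hbu hy0
    rwa [add_sub_cancel_left] at h2
  have hall2 : ∀ a' b', a' ≠ b' → ∀ x ∈ D a', ∀ y ∈ D b', C (x + y) := by
    intro a' b' hab' x hx y hy
    obtain ⟨σ, hσa, hσb⟩ : ∃ σ : Equiv.Perm (Fin t), σ a' = a ∧ σ b' = b := by
      refine ⟨Equiv.swap (Equiv.swap a' a b') b * Equiv.swap a' a, ?_, ?_⟩
      · rw [Equiv.Perm.mul_apply, Equiv.swap_apply_left]
        refine Equiv.swap_apply_of_ne_of_ne (fun e => hab' ?_) hba.symm
        have := congrArg (Equiv.swap a' a) e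
        rw [Equiv.swap_apply_right, Equiv.swap_apply_self] at this
        exact this
      · rw [Equiv.Perm.mul_apply, Equiv.swap_apply_left]
    obtain ⟨h, hh, hhσ⟩ := exists_perm hm hD σ
    intro c₀ g₀ hg₀
    have h1 := hhσ a' x hx
    have h2 := hhσ b' y hy
    rw [hσa] at h1
    rw [hσb] at h2
    have := hab _ h1 _ h2 c₀ (h * g₀ * h⁻¹)
    rw [← Matrix.mulVec_add] at this
    have h3 := this (SpOver.tv_conj hh.2 hg₀)
    have h4 := mul_mem (mul_mem (inv_mem (hK hh)) h3) (hK hh)
    rwa [show h⁻¹ * (h * g₀ * h⁻¹) * h = g₀ by group] at h4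
  -- every vector
  have hfin : ∀ (c : Fin t → Vm), (∀ a, c a ∈ D a) → ∀ s : Finset (Fin t), C (∑ a ∈ s, c a) := by
    intro c hc s
    induction s using Finset.induction with
    | empty => rw [Finset.sum_empty]; exact hzero
    | insert i s hi ih =>
      rw [Finset.sum_insert hi]
      by_cases hs : ∃ j ∈ s, c j ≠ 0
      swap
      · push Not at hs
        rw [Finset.sum_eq_zero hs, add_zero]; exact hblock i _ (hc i)
      obtain ⟨j, hj, hcj⟩ := hs
      have hij : j ≠ i := fun e => hi (e ▸ hj)
      have hR : ∀ z ∈ D j, φ (∑ a ∈ s, c a) z = φ (c j) z := fun z hz => by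
        rw [← bf_apply, map_sum, LinearMap.coe_sum, Finset.sum_apply]
        exact Finset.sum_eq_single j
          (fun b _ hb => hD.orthogonal b j hb _ (hc b) _ hz) (fun h => absurd hj h)
      obtain ⟨x, hx, hxj⟩ := (hD.nondegenerate j _ (hc j) hcj).2
      have hcjx : c j - x ≠ 0 := fun e => hxj (by rw [← sub_eq_zero.mp e, hfs.alternating])
      have h1 := hrep ih (hc j) (sub_mem (hc j) hx) hR hcj hcjx
      have h2 := hjoin 1 h1 (hall2 j i hij x hx (c i) (hc i)) (by
        have hi0 : φ (∑ a ∈ s, c a) (c i) = 0 := by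
          rw [← bf_apply, map_sum, LinearMap.coe_sum, Finset.sum_apply]
          exact Finset.sum_eq_zero fun b hb => hD.orthogonal b i (fun e => hi (e ▸ hb)) _ (hc b) _ (hc i)
        have e1 := hR x hx
        simp only [← bf_apply, map_add, map_sub, LinearMap.add_apply, LinearMap.sub_apply]
        simp only [bf_apply, hfs.alternating, hD.orthogonal j i hij _ (hc j) _ (hc i),
          hD.orthogonal j i hij _ hx _ (hc i), hi0, e1]
        simpa using hxj)
      convert h2 using 1
      module
  refine SpOver.spGL_le fun v c₀ g₀ hg₀ => ?_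
  obtain ⟨c', hc', rfl⟩ := exists_components hm hD v
  exact hfin c' hc' Finset.univ c₀ g₀ hg₀

end Cfsg.Agent.Classical.SpDecompMax
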