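/-
Subfield subgroups of prime index are maximal in the symplectic group.
-/
import Cfsg.Agent.Lib.Classical.SpOvergroup
import Cfsg.Agent.Lib.Classical.SL2PlaneGen
import Cfsg.Agent.Lib.Classical.Subfield

set_option autoImplicit false
set_option linter.unusedSectionVars false
set_option linter.style.haveILetI false

namespace Cfsg.Agent.Classical.SpSubMax

open Matrix Cfsg.Geo
open Cfsg.Agent.Classical

universe u

variable {ι : Type} [Fintype ι] [DecidableEq ι] {F : Type u} [Field F] [Fintype F] {F₀ : Subfield F}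
  {f : (ι → F) → (ι → F) → F} {K : Subgroup (GL ι F)}

/-- `x ↦ x + L x` is in `K`. -/
def In (K : Subgroup (GL ι F)) (L : (ι → F) → ι → F) : Prop :=
  ∃ g ∈ K, ∀ x, (g : Matrix ι ι F) *ᵥ x = x + L x

/-- The map of the transvection. -/
def tq (f : (ι → F) → (ι → F) → F) (v : ι → F) (c : F) : (ι → F) → ι → F := fun x => (c * f x v) • v

theorem In.congr {L L' : (ι → F) → ι → F} (h : In K L) (e : ∀ x, L x = L' x) : In K L' := by
  obtain ⟨g, hg, h'⟩ := h
  exact ⟨g, hg, fun x => by rw [h', e]⟩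

theorem In.comp {L L' : (ι → F) → ι → F} (h : In K L) (h' : In K L') :
    In K fun x => L' x + L (x + L' x) := by
  obtain ⟨g, hg, hg'⟩ := h
  obtain ⟨k, hk, hk'⟩ := h'
  exact ⟨g * k, mul_mem hg hk, fun x => by rw [gl_mul_mulVec, hk', hg', add_assoc]⟩

theorem In.inv {L L' : (ι → F) → ι → F} (h : In K L) (e : ∀ x, L' x + L (x + L' x) = 0) : In K L' := by
  obtain ⟨g, hg, hg'⟩ := h
  refine ⟨g⁻¹, inv_mem hg, fun x => gl_mulVec_injective g ?_⟩
  simp only []
  rw [gl_mulVec_inv_cancel, hg', add_assoc, e, add_zero]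

theorem In.conj {L : (ι → F) → ι → F} (h : In K L) {y : GL ι F} (hy : y ∈ K) :
    In K fun x => (y : Matrix ι ι F) *ᵥ L (((y⁻¹ : GL ι F) : Matrix ι ι F) *ᵥ x) := by
  obtain ⟨g, hg, hg'⟩ := h
  exact ⟨y * g * y⁻¹, mul_mem (mul_mem hy hg) (inv_mem hy), fun x => by
    rw [gl_mul_mulVec, gl_mul_mulVec, hg', Matrix.mulVec_add, gl_mulVec_inv_cancel]⟩

omit [Fintype ι] [DecidableEq ι] in
/-- Every element of the subfield is a sum of two squares in it. -/
theorem sum_two_sq {n : F} (hn : n ∈ F₀) : ∃ u ∈ F₀, ∃ v ∈ F₀, u * u + v * v = n := by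
  haveI : Fintype F₀ := Fintype.ofFinite F₀
  by_cases h : Fintype.card F₀ % 2 = 1
  · open Polynomial in
    obtain ⟨a, b, hab⟩ := FiniteField.exists_root_sum_quadratic (R := F₀) (f := X ^ 2) (g := X ^ 2 - C ⟨n, hn⟩)
      (degree_X_pow 2) (degree_X_pow_sub_C (by norm_num) _) h
    rw [Polynomial.eval_pow, Polynomial.eval_X, Polynomial.eval_sub, Polynomial.eval_pow, Polynomial.eval_X,
      Polynomial.eval_C, add_sub, sub_eq_zero] at hab
    exact ⟨a, a.2, b, b.2, by rw [← sq, ← sq]; exact congrArg Subtype.val hab⟩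
  · haveI : Finite F₀ := inferInstance
    obtain ⟨a, ha⟩ := FiniteField.isSquare_of_char_two (F := F₀) (by
      by_contra h2
      exact h (FiniteField.odd_card_of_char_ne_two h2)) ⟨n, hn⟩
    exact ⟨a, a.2, 0, zero_mem _, by rw [mul_zero, add_zero]; exact (congrArg Subtype.val ha).symm⟩

/-- The setting. -/
structure Setup (F₀ : Subfield F) (f : (ι → F) → (ι → F) → F) (K : Subgroup (GL ι F)) : Prop where
  symp : IsSymplecticForm f
  rat : ∀ u v : ι → F, (∀ i, u i ∈ F₀) → (∀ i, v i ∈ F₀) → f u v ∈ F₀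
  iso : ∀ g ∈ K, ∀ u v, f ((g : Matrix ι ι F) *ᵥ u) ((g : Matrix ι ι F) *ᵥ v) = f u v
  base : ∀ (v : ι → F) (c : F), (∀ i, v i ∈ F₀) → c ∈ F₀ → In K (tq f v c)

variable (S : Setup F₀ f K)

include S

theorem f_zero_left (x : ι → F) : f 0 x = 0 := by rw [← zero_smul F (0 : ι → F), S.symp.bilinear.smul_left, zero_mul]

theorem f_zero_right (x : ι → F) : f x 0 = 0 := by rw [← zero_smul F (0 : ι → F), S.symp.bilinear.smul_right, zero_mul]

theorem f_neg_left (a x : ι → F) : f (-a) x = -f a x := by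
  rw [← neg_one_smul F a, S.symp.bilinear.smul_left]; ring

theorem f_sub_left (a b x : ι → F) : f (a - b) x = f a x - f b x := by
  rw [sub_eq_add_neg, ← neg_one_smul F b, S.symp.bilinear.add_left, S.symp.bilinear.smul_left]; ring

theorem f_sub_right (a b x : ι → F) : f x (a - b) = f x a - f x b := by
  rw [sub_eq_add_neg, ← neg_one_smul F b, S.symp.bilinear.add_right, S.symp.bilinear.smul_right]; ring

theorem conj_iso {y : GL ι F} (hy : y ∈ K) (x v : ι → F) :
    f (((y⁻¹ : GL ι F) : Matrix ι ι F) *ᵥ x) v = f x ((y : Matrix ι ι F) *ᵥ v) := by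
  conv_rhs => rw [← gl_mulVec_inv_cancel y x]
  rw [S.iso y hy]

theorem In.conj_tq {v : ι → F} {c : F} (h : In K (tq f v c)) {y : GL ι F} (hy : y ∈ K) :
    In K (tq f ((y : Matrix ι ι F) *ᵥ v) c) :=
  (h.conj hy).congr fun x => by simp only [tq, Matrix.mulVec_smul, conj_iso S hy]

/-- A rational element `x ↦ x + f(x,z) b + f(x,b) z`. -/
theorem exists_shear {z b : ι → F} (hz : ∀ i, z i ∈ F₀) (hb : ∀ i, b i ∈ F₀) (hzb : f z b = 0) :
    ∃ y ∈ K, ∀ x, (y : Matrix ι ι F) *ᵥ x = x + (f x z • b + f x b • z) := by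
  have hbz : f b z = 0 := by rw [S.symp.skew, hzb, neg_zero]
  have h := ((S.base (z + b) 1 (fun i => add_mem (hz i) (hb i)) (one_mem _)).comp
    (S.base z (-1) hz (neg_mem (one_mem _)))).comp (S.base b (-1) hb (neg_mem (one_mem _)))
  refine h.congr fun x => ?_
  simp only [tq, S.symp.bilinear.add_left, S.symp.bilinear.add_right, S.symp.bilinear.smul_left, S.symp.alternating,
    hzb, hbz]
  simp only [mul_zero, add_zero, one_mul, neg_mul, zero_add, neg_smul]
  module

/-- Rational vectors represent rational functionals. -/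
theorem exists_rep (φ : (ι → F₀) →ₗ[F₀] F₀) :
    ∃ u : ι → F₀, ∀ x : ι → F₀, f (fun i => (u i : F)) (fun i => (x i : F)) = φ x := by
  let Φ : (ι → F₀) →ₗ[F₀] Module.Dual F₀ (ι → F₀) :=
    LinearMap.mk₂ F₀ (fun u x => (⟨f (fun i => (u i : F)) (fun i => (x i : F)), S.rat _ _ (fun i => (u i).2) fun i => (x i).2⟩ : F₀))
      (fun a b x => Subtype.ext (by
        rw [Subfield.coe_add]
        exact S.symp.bilinear.add_left (fun i => (a i : F)) (fun i => (b i : F)) _))
      (fun c a x => Subtype.ext (by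
        rw [smul_eq_mul, Subfield.coe_mul]
        exact S.symp.bilinear.smul_left (c : F) (fun i => (a i : F)) _))
      (fun x a b => Subtype.ext (by
        rw [Subfield.coe_add]
        exact S.symp.bilinear.add_right _ (fun i => (a i : F)) (fun i => (b i : F))))
      (fun c x a => Subtype.ext (by
        rw [smul_eq_mul, Subfield.coe_mul]
        exact S.symp.bilinear.smul_right (c : F) _ (fun i => (a i : F))))
  have hinj : Function.Injective Φ := (injective_iff_map_eq_zero Φ).mpr fun a ha => by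
    by_contra hne
    obtain ⟨x, hx⟩ := (S.symp.nondegenerate (fun i => (a i : F)) fun e => hne (funext fun i => Subtype.ext (congrFun e i))).2
    refine hx ?_
    rw [pi_eq_sum_univ' x]
    let L : (ι → F) →ₗ[F] F :=
      { toFun := fun y => f (fun i => (a i : F)) y, map_add' := S.symp.bilinear.add_right _,
        map_smul' := fun c y => S.symp.bilinear.smul_right c _ y }
    change L _ = 0
    rw [map_sum]
    refine Finset.sum_eq_zero fun i _ => ?_
    rw [map_smul]
    have h1 := congrArg Subtype.val (LinearMap.congr_fun ha (Pi.single i 1))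
    have h2 : (fun j => (((Pi.single i 1 : ι → F₀) j : F₀) : F)) = Pi.single i (1 : F) := funext fun j => by
      by_cases h : j = i <;> simp [h]
    simp only [Φ, LinearMap.mk₂_apply, LinearMap.zero_apply, h2] at h1
    change _ • f _ (Pi.single i 1) = 0
    rw [h1]
    simp
  have hsurj : Function.Surjective Φ := (LinearMap.injective_iff_surjective_of_finrank_eq_finrank
    (Subspace.dual_finrank_eq).symm).mp hinj
  obtain ⟨u, hu⟩ := hsurj φ
  exact ⟨u, fun x => by rw [← hu]; rfl⟩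

/-- Determination by rational test vectors. -/
theorem eq_of_rat {a b : ι → F} (h : ∀ x : ι → F₀, f a (fun i => (x i : F)) = f b (fun i => (x i : F))) : a = b := by
  by_contra hne
  obtain ⟨y, hy⟩ := (S.symp.nondegenerate (a - b) (sub_ne_zero.mpr hne)).2
  refine hy ?_
  rw [pi_eq_sum_univ' y]
  let L : (ι → F) →ₗ[F] F :=
    { toFun := fun y => f (a - b) y, map_add' := S.symp.bilinear.add_right _,
      map_smul' := fun c y => S.symp.bilinear.smul_right c _ y }
  change L _ = 0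
  rw [map_sum]
  refine Finset.sum_eq_zero fun i _ => ?_
  rw [map_smul]
  change _ • f (a - b) _ = 0
  have h2 : (fun j => (((Pi.single i 1 : ι → F₀) j : F₀) : F)) = Pi.single i (1 : F) := funext fun j => by
    by_cases h : j = i <;> simp [h]
  have := h (Pi.single i 1)
  rw [h2] at this
  rw [f_sub_left S, this, sub_self, smul_zero]

/-- A rational vector pairing to one with `v` and to zero with `u`. -/
theorem exists_sep {u v : ι → F} (hu : ∀ i, u i ∈ F₀) (hv : ∀ i, v i ∈ F₀) (hv0 : v ≠ 0)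
    (hind : ∀ k : F, k • u ≠ v) : ∃ z : ι → F, (∀ i, z i ∈ F₀) ∧ f z v = 1 ∧ f z u = 0 := by
  let u' : ι → F₀ := fun i => ⟨u i, hu i⟩
  let v' : ι → F₀ := fun i => ⟨v i, hv i⟩
  have hnot : v' ∉ Submodule.span F₀ {u'} := fun h => by
    obtain ⟨k, hk⟩ := Submodule.mem_span_singleton.mp h
    exact hind k (funext fun i => congrArg Subtype.val (congrFun hk i))
  obtain ⟨φ, hφ, hH⟩ := Submodule.exists_dual_map_eq_bot_of_notMem hnot inferInstance
  obtain ⟨z, hz⟩ := exists_rep S ((φ v')⁻¹ • φ)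
  refine ⟨fun i => (z i : F), fun i => (z i).2, ?_, ?_⟩
  · rw [show v = fun i => (v' i : F) from rfl, hz, LinearMap.smul_apply, smul_eq_mul, inv_mul_cancel₀ hφ]
    rfl
  · have h0 : φ u' = 0 := by
      have : φ u' ∈ (Submodule.span F₀ {u'}).map φ := Submodule.mem_map_of_mem (Submodule.mem_span_singleton_self _)
      rwa [hH, Submodule.mem_bot] at this
    rw [show u = fun i => (u' i : F) from rfl, hz, LinearMap.smul_apply, h0, smul_zero]
    rfl

/-- A rational vector orthogonal to four given ones. -/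
theorem exists_orth_four (h6 : 6 ≤ Fintype.card ι) (a : Fin 4 → ι → F) (ha : ∀ j i, a j i ∈ F₀) :
    ∃ b : ι → F, b ≠ 0 ∧ (∀ i, b i ∈ F₀) ∧ ∀ j, f b (a j) = 0 := by
  let a' : Fin 4 → ι → F₀ := fun j i => ⟨a j i, ha j i⟩
  let φ : (ι → F₀) →ₗ[F₀] Fin 4 → F₀ :=
    { toFun := fun x j => ⟨f (fun i => (x i : F)) (a j), S.rat _ _ (fun i => (x i).2) (ha j)⟩
      map_add' := fun x y => funext fun j => Subtype.ext (by
        rw [Pi.add_apply, Subfield.coe_add]
        exact S.symp.bilinear.add_left (fun i => (x i : F)) (fun i => (y i : F)) _)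
      map_smul' := fun c x => funext fun j => Subtype.ext (by
        rw [RingHom.id_apply, Pi.smul_apply, smul_eq_mul, Subfield.coe_mul]
        exact S.symp.bilinear.smul_left (c : F) (fun i => (x i : F)) _) }
  obtain ⟨x, hx, hx0⟩ : ∃ x, x ∈ LinearMap.ker φ ∧ x ≠ 0 := by
    refine Submodule.exists_mem_ne_zero_of_ne_bot fun e => ?_
    have h1 := φ.finrank_range_add_finrank_ker
    have h2 := Submodule.finrank_le (LinearMap.range φ)
    rw [e, finrank_bot, add_zero, Module.finrank_fintype_fun_eq_card] at h1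
    rw [Module.finrank_fintype_fun_eq_card, Fintype.card_fin] at h2
    omega
  exact ⟨fun i => (x i : F), fun e => hx0 (funext fun i => Subtype.ext (congrFun e i)), fun i => (x i).2,
    fun j => congrArg Subtype.val (congrFun (LinearMap.mem_ker.mp hx) j)⟩

omit S in
/-- The map of a symmetric matrix on three vectors. -/
def qm (f : (ι → F) → (ι → F) → F) (b : Fin 3 → ι → F) (M : Matrix (Fin 3) (Fin 3) F) : (ι → F) → ι → F :=
  fun x => ∑ i, ∑ j, (M i j * f x (b i)) • b j

theorem qm_zero {b : Fin 3 → ι → F} (horth : ∀ i j, f (b i) (b j) = 0) (x : ι → F) (M : Matrix (Fin 3) (Fin 3) F)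
    (i : Fin 3) : f (qm f b M x) (b i) = 0 := by
  simp only [qm, Fin.sum_univ_three, S.symp.bilinear.add_left, S.symp.bilinear.smul_left, horth, mul_zero, add_zero]

theorem qm_add {b : Fin 3 → ι → F} (horth : ∀ i j, f (b i) (b j) = 0) {M N : Matrix (Fin 3) (Fin 3) F}
    (hM : In K (qm f b M)) (hN : In K (qm f b N)) : In K (qm f b (M + N)) :=
  (hM.comp hN).congr fun x => by
    have e : ∀ i, f (x + qm f b N x) (b i) = f x (b i) := fun i => by
      rw [S.symp.bilinear.add_left, qm_zero S horth, add_zero]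
    rw [show qm f b M (x + qm f b N x) = qm f b M x from
      Finset.sum_congr rfl fun i _ => Finset.sum_congr rfl fun j _ => by rw [e]]
    simp only [qm, Fin.sum_univ_three, Matrix.add_apply]
    module

theorem qm_sub {b : Fin 3 → ι → F} (horth : ∀ i j, f (b i) (b j) = 0) {M N : Matrix (Fin 3) (Fin 3) F}
    (hM : In K (qm f b M)) (hN : In K (qm f b N)) : In K (qm f b (M - N)) := by
  have hneg : In K (qm f b (-N)) := hN.inv fun x => by
    have e : ∀ i, f (x + qm f b (-N) x) (b i) = f x (b i) := fun i => by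
      rw [S.symp.bilinear.add_left, qm_zero S horth, add_zero]
    simp only [qm, Fin.sum_univ_three, Matrix.neg_apply] at e ⊢
    simp only [e]
    module
  rw [sub_eq_add_neg]
  exact qm_add S horth hM hneg

theorem qm_move {b : Fin 3 → ι → F} (hb : ∀ j i, b j i ∈ F₀) (horth : ∀ i j, f (b i) (b j) = 0) {z : Fin 3 → ι → F}
    (hz : ∀ j i, z j i ∈ F₀) (hdual : ∀ i j, f (z i) (b j) = if i = j then 1 else 0) {p q : Fin 3} (hpq : p ≠ q)
    {M : Matrix (Fin 3) (Fin 3) F} (h : In K (qm f b M)) :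
    In K (qm f b ((Matrix.transvection p q (1 : F))ᵀ * M * Matrix.transvection p q 1)) := by
  obtain ⟨y, hy, hyx⟩ := exists_shear S (fun i => neg_mem (hz p i)) (hb q) (z := -z p) (by
    rw [← neg_one_smul F (z p), S.symp.bilinear.smul_left, hdual, if_neg hpq, mul_zero])
  have hyb : ∀ i, (y : Matrix ι ι F) *ᵥ b i = b i + (if i = p then (1 : F) else 0) • b q := fun i => by
    rw [hyx, horth, zero_smul, add_zero, ← neg_one_smul F (z p), S.symp.bilinear.smul_right, S.symp.skew, hdual]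
    by_cases hi : i = p
    · subst hi; simp
    · simp [hi, Ne.symm hi]
  refine (h.conj hy).congr fun x => ?_
  simp only [qm, Fin.sum_univ_three, Matrix.mulVec_add, Matrix.mulVec_smul, conj_iso S hy, hyb,
    S.symp.bilinear.add_right, S.symp.bilinear.smul_right]
  fin_cases p <;> fin_cases q <;> first
    | exact absurd rfl hpq
    | (simp [Matrix.mul_apply, Fin.sum_univ_three, Matrix.transvection, Matrix.single, Matrix.one_apply]; module)

/-- A quadratic map on a rational plane gives transvections with rational centre. -/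
theorem pair_step (h6 : 6 ≤ Fintype.card ι) {b₁ b₂ : ι → F} (h1 : ∀ i, b₁ i ∈ F₀) (h2 : ∀ i, b₂ i ∈ F₀)
    (hb1 : b₁ ≠ 0) (hb2 : b₂ ≠ 0) (hind : ∀ k : F, k • b₁ ≠ b₂) (h12 : f b₁ b₂ = 0) {s11 s12 s22 : F}
    (h : In K fun x => (s11 * f x b₁ + s12 * f x b₂) • b₁ + (s12 * f x b₁ + s22 * f x b₂) • b₂) :
    ∃ b : ι → F, b ≠ 0 ∧ (∀ i, b i ∈ F₀) ∧ In K (tq f b s22) ∧ In K (tq f b (2 * s12)) := by
  have hind' : ∀ k : F, k • b₂ ≠ b₁ := fun k hk => by
    by_cases hk0 : k = 0
    · exact hb1 (by rw [← hk, hk0, zero_smul])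
    · exact hind k⁻¹ (by rw [← hk, smul_smul, inv_mul_cancel₀ hk0, one_smul])
  obtain ⟨z₁, hz1, hz11, hz12⟩ := exists_sep S h2 h1 hb1 hind'
  obtain ⟨z₂, hz2, hz22, hz21⟩ := exists_sep S h1 h2 hb2 hind
  obtain ⟨b₃, hb3, hb3r, hb3o⟩ := exists_orth_four S h6 ![b₁, b₂, z₁, z₂] (fun j => by
    fin_cases j <;> assumption)
  have h31 : f b₃ b₁ = 0 := hb3o 0
  have h32 : f b₃ b₂ = 0 := hb3o 1
  have h3z1 : f b₃ z₁ = 0 := hb3o 2
  have h3z2 : f b₃ z₂ = 0 := hb3o 3
  have hz13 : f z₁ b₃ = 0 := by rw [S.symp.skew, h3z1, neg_zero]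
  have hz23 : f z₂ b₃ = 0 := by rw [S.symp.skew, h3z2, neg_zero]
  obtain ⟨z₃, hz3, hz33, hz31, hz32⟩ : ∃ z₃ : ι → F, (∀ i, z₃ i ∈ F₀) ∧ f z₃ b₃ = 1 ∧ f z₃ b₁ = 0 ∧ f z₃ b₂ = 0 := by
    obtain ⟨z, hz, hzb, -⟩ := exists_sep S (u := 0) (fun _ => zero_mem _) hb3r hb3
      (fun k e => hb3 (by rw [← e, smul_zero]))
    refine ⟨z - f z b₁ • z₁ - f z b₂ • z₂, fun i => sub_mem (sub_mem (hz i) (mul_mem (S.rat _ _ hz h1) (hz1 i)))
      (mul_mem (S.rat _ _ hz h2) (hz2 i)), ?_, ?_, ?_⟩
    · rw [f_sub_left S, f_sub_left S, S.symp.bilinear.smul_left, S.symp.bilinear.smul_left, hzb, hz13, hz23]; ring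
    · rw [f_sub_left S, f_sub_left S, S.symp.bilinear.smul_left, S.symp.bilinear.smul_left, hz11, hz21]; ring
    · rw [f_sub_left S, f_sub_left S, S.symp.bilinear.smul_left, S.symp.bilinear.smul_left, hz12, hz22]; ring
  have h21 : f b₂ b₁ = 0 := by rw [S.symp.skew, h12, neg_zero]
  have h13 : f b₁ b₃ = 0 := by rw [S.symp.skew, h31, neg_zero]
  have h23 : f b₂ b₃ = 0 := by rw [S.symp.skew, h32, neg_zero]
  let b : Fin 3 → ι → F := ![b₁, b₂, b₃]
  let z : Fin 3 → ι → F := ![z₁, z₂, z₃]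
  have hb : ∀ j i, b j i ∈ F₀ := fun j => by fin_cases j <;> assumption
  have hz : ∀ j i, z j i ∈ F₀ := fun j => by fin_cases j <;> assumption
  have horth : ∀ i j, f (b i) (b j) = 0 := fun i j => by
    fin_cases i <;> fin_cases j <;> first | exact S.symp.alternating _ | assumption
  have hdual : ∀ i j, f (z i) (b j) = if i = j then 1 else 0 := fun i j => by
    fin_cases i <;> fin_cases j <;> simp [b, z, hz11, hz12, hz21, hz22, hz13, hz23, hz31, hz32, hz33]
  have e0 : In K (qm f b !![s11, s12, 0; s12, s22, 0; 0, 0, 0]) := h.congr fun x => by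
    simp [qm, b, Fin.sum_univ_three]
    module
  have mv : ∀ {p q : Fin 3}, p ≠ q → ∀ {M M' : Matrix (Fin 3) (Fin 3) F}, In K (qm f b M) →
      (Matrix.transvection p q (1 : F))ᵀ * M * Matrix.transvection p q 1 - M = M' → In K (qm f b M') :=
    fun {p q} hpq {M M'} hM e => by subst e; exact qm_sub S horth (qm_move S hb horth hz hdual hpq hM) hM
  have e1 : In K (qm f b !![0, 0, s12; 0, 0, s22; s12, s22, s22]) := mv (p := 1) (q := 2) (by decide) e0 (by
    ext i j; fin_cases i <;> fin_cases j <;>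
      simp [Matrix.mul_apply, Fin.sum_univ_three, Matrix.transvection, Matrix.single, Matrix.one_apply] <;> ring)
  have e2 : In K (qm f b !![0, 0, 0; 0, 0, s12; 0, s12, 0]) := mv (p := 0) (q := 1) (by decide) e1 (by
    ext i j; fin_cases i <;> fin_cases j <;>
      simp [Matrix.mul_apply, Fin.sum_univ_three, Matrix.transvection, Matrix.single, Matrix.one_apply] <;> ring)
  have e3 : In K (qm f b !![0, 0, 0; 0, 0, 0; 0, 0, 2 * s12]) := mv (p := 1) (q := 2) (by decide) e2 (by
    ext i j; fin_cases i <;> fin_cases j <;>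
      simp [Matrix.mul_apply, Fin.sum_univ_three, Matrix.transvection, Matrix.single, Matrix.one_apply] <;> ring)
  have e4 : In K (qm f b !![0, 0, s12; 0, 0, 0; s12, 0, 0]) := mv (p := 1) (q := 0) (by decide) e2 (by
    ext i j; fin_cases i <;> fin_cases j <;>
      simp [Matrix.mul_apply, Fin.sum_univ_three, Matrix.transvection, Matrix.single, Matrix.one_apply] <;> ring)
  have e5 : In K (qm f b !![2 * s12, 0, 0; 0, 0, 0; 0, 0, 0]) := mv (p := 2) (q := 0) (by decide) e4 (by
    ext i j; fin_cases i <;> fin_cases j <;>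
      simp [Matrix.mul_apply, Fin.sum_univ_three, Matrix.transvection, Matrix.single, Matrix.one_apply] <;> ring)
  have e6 : In K (qm f b !![2 * s12 + s22, s22, 0; s22, 0, 0; 0, 0, 0]) := mv (p := 1) (q := 0) (by decide) e0 (by
    ext i j; fin_cases i <;> fin_cases j <;>
      simp [Matrix.mul_apply, Fin.sum_univ_three, Matrix.transvection, Matrix.single, Matrix.one_apply] <;> ring)
  have hN : In K (qm f b !![0, 0, 0; 0, 0, s22; 0, s22, s22]) := by
    convert qm_sub S horth e1 e4 using 2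
    ext i j; fin_cases i <;> fin_cases j <;> simp
  have e7 : In K (qm f b !![s22, s22, s22; s22, 0, 0; s22, 0, 0]) := mv (p := 2) (q := 0) (by decide) hN (by
    ext i j; fin_cases i <;> fin_cases j <;>
      simp [Matrix.mul_apply, Fin.sum_univ_three, Matrix.transvection, Matrix.single, Matrix.one_apply] <;> ring)
  have e8 : In K (qm f b !![0, 0, s22; 0, 0, 0; s22, 0, 0]) := by
    convert qm_sub S horth e7 (qm_sub S horth e6 e5) using 2
    ext i j; fin_cases i <;> fin_cases j <;> simp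
  have e9 : In K (qm f b !![0, 0, 0; 0, 0, s22; 0, s22, 0]) := mv (p := 0) (q := 1) (by decide) e8 (by
    ext i j; fin_cases i <;> fin_cases j <;>
      simp [Matrix.mul_apply, Fin.sum_univ_three, Matrix.transvection, Matrix.single, Matrix.one_apply] <;> ring)
  have e10 : In K (qm f b !![0, 0, 0; 0, 0, 0; 0, 0, s22]) := by
    convert qm_sub S horth hN e9 using 2
    ext i j; fin_cases i <;> fin_cases j <;> simp
  refine ⟨b₃, hb3, hb3r, e10.congr fun x => ?_, e3.congr fun x => ?_⟩ <;> simp [qm, tq, b, Fin.sum_univ_three]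

/-- Both diagonal coefficients and twice the other. -/
theorem pair_bad (h6 : 6 ≤ Fintype.card ι) {b₁ b₂ : ι → F} (h1 : ∀ i, b₁ i ∈ F₀) (h2 : ∀ i, b₂ i ∈ F₀)
    (hb1 : b₁ ≠ 0) (hb2 : b₂ ≠ 0) (hind : ∀ k : F, k • b₁ ≠ b₂) (h12 : f b₁ b₂ = 0) {s11 s12 s22 : F}
    (h : In K fun x => (s11 * f x b₁ + s12 * f x b₂) • b₁ + (s12 * f x b₁ + s22 * f x b₂) • b₂)
    (hbad : s11 ∉ F₀ ∨ 2 * s12 ∉ F₀ ∨ s22 ∉ F₀) :
    ∃ (b : ι → F) (l : F), b ≠ 0 ∧ (∀ i, b i ∈ F₀) ∧ l ∉ F₀ ∧ In K (tq f b l) := by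
  obtain ⟨b, hb, hbr, hA, hB⟩ := pair_step S h6 h1 h2 hb1 hb2 hind h12 h
  rcases hbad with hs | hs | hs
  · have hind' : ∀ k : F, k • b₂ ≠ b₁ := fun k hk => by
      by_cases hk0 : k = 0
      · exact hb1 (by rw [← hk, hk0, zero_smul])
      · exact hind k⁻¹ (by rw [← hk, smul_smul, inv_mul_cancel₀ hk0, one_smul])
    obtain ⟨b', hb', hbr', hA', -⟩ := pair_step S h6 h2 h1 hb2 hb1 hind' (by rw [S.symp.skew, h12, neg_zero])
      (s11 := s22) (s12 := s12) (s22 := s11) (h.congr fun x => by module)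
    exact ⟨b', _, hb', hbr', hs, hA'⟩
  · exact ⟨b, _, hb, hbr, hs, hB⟩
  · exact ⟨b, _, hb, hbr, hs, hA⟩

/-- An irrational transvection whose centre is orthogonal to a rational vector. -/
theorem orth_case (h6 : 6 ≤ Fintype.card ι) {w b : ι → F} {c : F} (h : In K (tq f w c))
    (hbad : ∃ k l, c * (w k * w l) ∉ F₀) (hb : b ≠ 0) (hbr : ∀ i, b i ∈ F₀) (hwb : f w b = 0) :
    ∃ (b : ι → F) (l : F), b ≠ 0 ∧ (∀ i, b i ∈ F₀) ∧ l ∉ F₀ ∧ In K (tq f b l) := by
  obtain ⟨hadd, hsl, hsr⟩ := And.intro S.symp.bilinear.add_left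
    (And.intro S.symp.bilinear.smul_left S.symp.bilinear.smul_right)
  have haddr := S.symp.bilinear.add_right
  have hbw : f b w = 0 := by rw [S.symp.skew, hwb, neg_zero]
  by_cases hgen : ∃ a z : ι → F, (∀ i, a i ∈ F₀) ∧ (∀ i, z i ∈ F₀) ∧ f a b = 0 ∧ f z b = 0 ∧
      c * (f w a * f w z) ∉ F₀
  · obtain ⟨a, z, har, hzr, hab, hzb, hs⟩ := hgen
    have hbz : f b z = 0 := by rw [S.symp.skew, hzb, neg_zero]
    obtain ⟨α, hα⟩ : ∃ α, α = f w a := ⟨_, rfl⟩
    obtain ⟨γ, hγ⟩ : ∃ γ, γ = f w z := ⟨_, rfl⟩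
    rw [← hα, ← hγ] at hs
    obtain ⟨y, hy, hyx⟩ := exists_shear S har hbr hab
    have hyw : (y : Matrix ι ι F) *ᵥ w = w + α • b := by rw [hyx, hwb, zero_smul, add_zero, hα]
    have hD : In K fun x => (c * α) • (f x w • b + f x b • w) + (c * α * α * f x b) • b := by
      have h1 := In.conj_tq S h hy
      rw [hyw] at h1
      have h0 : In K (tq f w (-c)) := h.inv fun x => by
        simp only [tq, hadd, hsl, S.symp.alternating]
        module
      refine (h1.comp h0).congr fun x => ?_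
      simp only [tq, hadd, haddr, hsl, hsr, S.symp.alternating, hwb]
      module
    obtain ⟨t, ht, htx⟩ := S.base z 1 hzr (one_mem _)
    have htw : (t : Matrix ι ι F) *ᵥ w = w + γ • z := by rw [htx, tq, one_mul, hγ]
    have htb : (t : Matrix ι ι F) *ᵥ b = b := by rw [htx, tq, hbz, mul_zero, zero_smul, add_zero]
    have hD' : In K fun x => (c * α) • (f x (w + γ • z) • b + f x b • (w + γ • z)) + (c * α * α * f x b) • b :=
      (hD.conj ht).congr fun x => by
        simp only [Matrix.mulVec_add, Matrix.mulVec_smul, conj_iso S ht, htw, htb]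
    have hDi : In K fun x => (-(c * α)) • (f x w • b + f x b • w) + (-(c * α * α) * f x b) • b :=
      hD.inv fun x => by
        simp only [hadd, hsl, S.symp.alternating, hwb, hbw]
        module
    obtain ⟨s, hsdef⟩ : ∃ s, s = c * α * γ := ⟨_, rfl⟩
    have hpair : In K fun x => (-(s * s) * f x b + s * f x z) • b + (s * f x b + 0 * f x z) • z :=
      (hD'.comp hDi).congr fun x => by
        simp only [hadd, haddr, hsl, hsr, S.symp.alternating, hwb, hbw, hbz, ← hγ, hsdef]
        module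
    have hz0 : z ≠ 0 := fun e => hs (by rw [hγ, e, f_zero_right S, mul_zero, mul_zero]; exact zero_mem _)
    refine pair_bad S h6 hbr hzr hb hz0 (fun k hk => hs ?_) hbz hpair ?_
    · rw [hγ, ← hk, hsr, hwb, mul_zero, mul_zero, mul_zero]; exact zero_mem _
    · have hs' : s ∉ F₀ := by rw [hsdef, mul_assoc]; exact hs
      by_cases h2 : (2 : F) = 0
      · refine Or.inl fun hm => hs' ?_
        have hss : s * s ∈ F₀ := by simpa using neg_mem hm
        haveI : Finite F₀ := inferInstance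
        have hinj : Function.Injective fun x : F₀ => x * x := fun x y h => by
          have h' : (x : F) * x = (y : F) * y := congrArg Subtype.val h
          refine Subtype.ext (sub_eq_zero.mp (mul_self_eq_zero.mp ?_))
          linear_combination h' + ((y : F) * y - (x : F) * y) * h2
        obtain ⟨v, hv⟩ := (Finite.injective_iff_surjective.1 hinj) ⟨s * s, hss⟩
        have hv' : (v : F) * v = s * s := congrArg Subtype.val hv
        have : (v : F) = s := sub_eq_zero.mp (mul_self_eq_zero.mp (by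
          linear_combination hv' + (s * s - (v : F) * s) * h2))
        exact this ▸ v.2
      · refine Or.inr (Or.inl fun hm => hs' ?_)
        have h2m : (2 : F) ∈ F₀ := by rw [show (2 : F) = 1 + 1 by norm_num]; exact add_mem (one_mem _) (one_mem _)
        have := mul_mem (inv_mem h2m) hm
        rwa [inv_mul_cancel_left₀ h2] at this
  push Not at hgen
  obtain ⟨z₀, hz₀, hz₀b, -⟩ := exists_sep S (u := 0) (fun _ => zero_mem _) hbr hb
    (fun k e => hb (by rw [← e, smul_zero]))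
  obtain ⟨w', hw'⟩ : ∃ w', w' = w + f w z₀ • b := ⟨_, rfl⟩
  have hproj : ∀ x : ι → F, f w' x = f w (x - f x b • z₀) := fun x => by
    rw [hw', hadd, hsl, f_sub_right S, hsr, S.symp.skew b x]; ring
  have hperp : ∀ x : ι → F₀, ∀ i, ((fun i => (x i : F)) - f (fun i => (x i : F)) b • z₀) i ∈ F₀ ∧
      f ((fun i => (x i : F)) - f (fun i => (x i : F)) b • z₀) b = 0 := fun x i => by
    refine ⟨sub_mem (x i).2 (mul_mem (S.rat _ _ (fun i => (x i).2) hbr) (hz₀ i)), ?_⟩
    rw [f_sub_left S, hsl, hz₀b, mul_one, sub_self]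
  obtain ⟨k, l, hkl⟩ := hbad
  by_cases hw'0 : w' = 0
  · have hw : w = (-f w z₀) • b := by
      rw [neg_smul]; exact eq_neg_of_add_eq_zero_left (hw'.symm.trans hw'0)
    refine ⟨b, c * (f w z₀ * f w z₀), hb, hbr, fun hm => hkl ?_, h.congr fun x => ?_⟩
    · have := mul_mem hm (mul_mem (hbr k) (hbr l))
      rw [hw]
      simp only [Pi.smul_apply, smul_eq_mul]
      ring_nf at this ⊢
      exact this
    · simp only [tq]
      conv_lhs => rw [hw]
      rw [hsr]
      module
  obtain ⟨x₀, hx₀⟩ : ∃ x : ι → F₀, f w' (fun i => (x i : F)) ≠ 0 := by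
    by_contra hcon
    push Not at hcon
    exact hw'0 (eq_of_rat S fun x => by rw [hcon, f_zero_left S])
  obtain ⟨α₀, hα₀⟩ : ∃ a, a = f w' (fun i => (x₀ i : F)) := ⟨_, rfl⟩
  rw [← hα₀] at hx₀
  have hprod : ∀ x y : ι → F₀, c * (f w' (fun i => (x i : F)) * f w' (fun i => (y i : F))) ∈ F₀ := fun x y => by
    rw [hproj, hproj]
    haveI : Nonempty ι := Fintype.card_pos_iff.mp (by omega)
    exact hgen _ _ (fun i => (hperp x i).1) (fun i => (hperp y i).1) (hperp x (Classical.arbitrary ι)).2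
      (hperp y (Classical.arbitrary ι)).2
  have hc : c ≠ 0 := fun e => hkl (by rw [e, zero_mul]; exact zero_mem _)
  have hratio : ∀ x : ι → F₀, α₀⁻¹ * f w' (fun i => (x i : F)) ∈ F₀ := fun x => by
    have := mul_mem (hprod x x₀) (inv_mem (hprod x₀ x₀))
    rw [← hα₀] at this
    rwa [show c * (f w' (fun i => (x i : F)) * α₀) * (c * (α₀ * α₀))⁻¹ = α₀⁻¹ * f w' (fun i => (x i : F)) by
      field_simp] at this
  obtain ⟨u, hu⟩ := exists_rep S
    { toFun := fun x => (⟨_, hratio x⟩ : F₀)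
      map_add' := fun x y => Subtype.ext (by
        rw [Subfield.coe_add, ← mul_add, ← haddr]; rfl)
      map_smul' := fun a x => Subtype.ext (by
        rw [RingHom.id_apply, smul_eq_mul, Subfield.coe_mul]
        change α₀⁻¹ * f w' ((a : F) • fun i => (x i : F)) = _
        rw [hsr]; ring) }
  obtain ⟨u', hu'⟩ : ∃ u' : ι → F, u' = fun i => (u i : F) := ⟨_, rfl⟩
  have hw'u : w' = α₀ • u' := eq_of_rat S fun x => by
    rw [hsl, hu', hu]
    exact (mul_inv_cancel_left₀ hx₀ _).symm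
  have hur : ∀ i, u' i ∈ F₀ := fun i => hu' ▸ (u i).2
  have hw : w = α₀ • u' + (-f w z₀) • b := by rw [← hw'u, hw']; module
  have hbu : f b u' = 0 := by
    have h1 : f w' b = 0 := by rw [hw', hadd, hsl, hwb, S.symp.alternating, mul_zero, add_zero]
    rw [hw'u, hsl] at h1
    rw [S.symp.skew, (mul_eq_zero.mp h1).resolve_left hx₀, neg_zero]
  by_cases hprop : ∃ t : F, t • b = u'
  · obtain ⟨t, ht⟩ := hprop
    refine ⟨b, c * ((α₀ * t - f w z₀) * (α₀ * t - f w z₀)), hb, hbr, fun hm => hkl ?_, h.congr fun x => ?_⟩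
    · have := mul_mem hm (mul_mem (hbr k) (hbr l))
      rw [hw, ← ht]
      simp only [Pi.add_apply, Pi.smul_apply, smul_eq_mul]
      ring_nf at this ⊢
      exact this
    · simp only [tq]
      conv_lhs => rw [hw, ← ht]
      rw [haddr, hsr, hsr, hsr]
      module
  push Not at hprop
  have hu0 : u' ≠ 0 := fun e => hprop 0 (by rw [e, zero_smul])
  obtain ⟨τ, hτ⟩ : ∃ τ, τ = -f w z₀ := ⟨_, rfl⟩
  rw [← hτ] at hw
  refine pair_bad S h6 hbr hur hb hu0 hprop hbu (s11 := c * (τ * τ)) (s12 := c * (τ * α₀)) (s22 := c * (α₀ * α₀))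
    (h.congr fun x => ?_) ?_
  · simp only [tq, hw, haddr, hsr]
    module
  by_contra hcon
  push Not at hcon
  obtain ⟨ha, hb2, hd⟩ := hcon
  have hmid : c * (τ * α₀) ∈ F₀ := by
    by_cases h2 : (2 : F) = 0
    · haveI : Finite F₀ := inferInstance
      have hinj : Function.Injective fun x : F₀ => x * x := fun x y h => by
        have h' : (x : F) * x = (y : F) * y := congrArg Subtype.val h
        refine Subtype.ext (sub_eq_zero.mp (mul_self_eq_zero.mp ?_))
        linear_combination h' + ((y : F) * y - (x : F) * y) * h2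
      obtain ⟨v, hv⟩ := (Finite.injective_iff_surjective.1 hinj) ⟨_, mul_mem ha hd⟩
      have hv' : (v : F) * v = c * (τ * τ) * (c * (α₀ * α₀)) := congrArg Subtype.val hv
      have : (v : F) = c * (τ * α₀) := sub_eq_zero.mp (mul_self_eq_zero.mp (by
        linear_combination hv' + (c * (τ * α₀) * (c * (τ * α₀)) - (v : F) * (c * (τ * α₀))) * h2))
      exact this ▸ v.2
    · have h2m : (2 : F) ∈ F₀ := by rw [show (2 : F) = 1 + 1 by norm_num]; exact add_mem (one_mem _) (one_mem _)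
      have := mul_mem (inv_mem h2m) hb2
      rwa [inv_mul_cancel_left₀ h2] at this
  refine hkl ?_
  rw [hw]
  simp only [Pi.add_apply, Pi.smul_apply, smul_eq_mul]
  have := add_mem (add_mem (mul_mem hd (mul_mem (hur k) (hur l))) (mul_mem ha (mul_mem (hbr k) (hbr l))))
    (mul_mem hmid (add_mem (mul_mem (hur k) (hbr l)) (mul_mem (hbr k) (hur l))))
  ring_nf at this ⊢
  exact this

/-- An irrational transvection with rational centre. -/
theorem exists_center (h6 : 6 ≤ Fintype.card ι) {r : ℕ} (hr : r.Prime)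
    (hcard : Fintype.card F = Nat.card F₀ ^ r) {g : GL ι F} (hg : g ∈ K)
    (hgn : ∃ k l k' l', (g : Matrix ι ι F) k k' * (g : Matrix ι ι F) l l' ∉ F₀) :
    ∃ (b : ι → F) (l : F), b ≠ 0 ∧ (∀ i, b i ∈ F₀) ∧ l ∉ F₀ ∧ In K (tq f b l) := by
  classical
  have hadd := S.symp.bilinear.add_left
  have haddr := S.symp.bilinear.add_right
  have hsl := S.symp.bilinear.smul_left
  have hsr := S.symp.bilinear.smul_right
  have hone : ∀ i j, (Pi.single i (1 : F) : ι → F) j ∈ F₀ := fun i j => by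
    rw [Pi.single_apply]; split_ifs; exacts [one_mem _, zero_mem _]
  -- an irrational transvection
  obtain ⟨v, hvr, k₀, l₀, hkl₀⟩ : ∃ v : ι → F, (∀ i, v i ∈ F₀) ∧
      ∃ k l, ((g : Matrix ι ι F) *ᵥ v) k * ((g : Matrix ι ι F) *ᵥ v) l ∉ F₀ := by
    by_contra hcon
    push Not at hcon
    obtain ⟨k, l, i, j, hbad⟩ := hgn
    have hcol : ∀ i k l, (g : Matrix ι ι F) k i * (g : Matrix ι ι F) l i ∈ F₀ := fun i k l => by
      have := hcon _ (hone i) k l
      rwa [Matrix.mulVec_single_one, Matrix.col_apply, Matrix.col_apply] at this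
    have hcross : ∀ i j k l, (g : Matrix ι ι F) k i * (g : Matrix ι ι F) l j +
        (g : Matrix ι ι F) k j * (g : Matrix ι ι F) l i ∈ F₀ := fun i j k l => by
      have := hcon (Pi.single i 1 + Pi.single j 1) (fun t => add_mem (hone i t) (hone j t)) k l
      rw [Matrix.mulVec_add, Pi.add_apply, Pi.add_apply, Matrix.mulVec_single_one, Matrix.mulVec_single_one,
        Matrix.col_apply, Matrix.col_apply, Matrix.col_apply, Matrix.col_apply] at this
      have := sub_mem (sub_mem this (hcol i k l)) (hcol j k l)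
      ring_nf at this ⊢
      exact this
    have hrow : ∀ i j k, (g : Matrix ι ι F) k i * (g : Matrix ι ι F) k j ∈ F₀ := fun i j k => by
      by_cases h2 : (2 : F) = 0
      · haveI : Finite F₀ := inferInstance
        have hinj : Function.Injective fun x : F₀ => x * x := fun x y h => by
          have h' : (x : F) * x = (y : F) * y := congrArg Subtype.val h
          refine Subtype.ext (sub_eq_zero.mp (mul_self_eq_zero.mp ?_))
          linear_combination h' + ((y : F) * y - (x : F) * y) * h2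
        obtain ⟨v, hv⟩ := (Finite.injective_iff_surjective.1 hinj) ⟨_, mul_mem (hcol i k k) (hcol j k k)⟩
        have hv' : (v : F) * v = (g : Matrix ι ι F) k i * (g : Matrix ι ι F) k i *
            ((g : Matrix ι ι F) k j * (g : Matrix ι ι F) k j) := congrArg Subtype.val hv
        have : (v : F) = (g : Matrix ι ι F) k i * (g : Matrix ι ι F) k j := sub_eq_zero.mp (mul_self_eq_zero.mp (by
          linear_combination hv' + ((g : Matrix ι ι F) k i * (g : Matrix ι ι F) k j *
            ((g : Matrix ι ι F) k i * (g : Matrix ι ι F) k j) -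
              (v : F) * ((g : Matrix ι ι F) k i * (g : Matrix ι ι F) k j)) * h2))
        exact this ▸ v.2
      · have h2m : (2 : F) ∈ F₀ := by rw [show (2 : F) = 1 + 1 by norm_num]; exact add_mem (one_mem _) (one_mem _)
        have := mul_mem (inv_mem h2m) (hcross i j k k)
        rwa [mul_comm ((g : Matrix ι ι F) k j), ← two_mul, inv_mul_cancel_left₀ h2] at this
    refine hbad ?_
    by_cases h0 : (g : Matrix ι ι F) k j = 0
    · simpa [h0] using hcross i j k l
    · have := mul_mem (mul_mem (hrow i j k) (hcol j k l)) (inv_mem (hcol j k k))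
      rwa [show (g : Matrix ι ι F) k i * (g : Matrix ι ι F) k j * ((g : Matrix ι ι F) k j * (g : Matrix ι ι F) l j) *
        ((g : Matrix ι ι F) k j * (g : Matrix ι ι F) k j)⁻¹ = (g : Matrix ι ι F) k i * (g : Matrix ι ι F) l j by
          field_simp] at this
  obtain ⟨w, hwdef⟩ : ∃ w, w = (g : Matrix ι ι F) *ᵥ v := ⟨_, rfl⟩
  rw [← hwdef] at hkl₀
  have hw : In K (tq f w 1) := hwdef ▸ In.conj_tq S (S.base v 1 hvr (one_mem _)) hg
  by_cases hann : ∃ b : ι → F, b ≠ 0 ∧ (∀ i, b i ∈ F₀) ∧ f w b = 0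
  · obtain ⟨b, hb, hbr, hwb⟩ := hann
    exact orth_case S h6 hw ⟨k₀, l₀, by rwa [one_mul]⟩ hb hbr hwb
  push Not at hann
  -- many field elements
  have hr6 : 6 ≤ r := by
    let Ψ : (ι → F₀) → F := fun x => f w (fun i => (x i : F))
    have hΨ : Function.Injective Ψ := fun x y hxy => by
      by_contra hne
      refine hann ((fun i => (x i : F)) - fun i => (y i : F)) (fun e => hne (funext fun i =>
        Subtype.ext (sub_eq_zero.mp (congrFun e i)))) (fun i => sub_mem (x i).2 (y i).2) ?_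
      rw [f_sub_right S]
      exact sub_eq_zero.mpr hxy
    have h := Nat.card_le_card_of_injective Ψ hΨ
    rw [Nat.card_fun, Nat.card_eq_fintype_card (α := F), hcard, Nat.card_eq_fintype_card (α := ι)] at h
    exact h6.trans ((Nat.pow_le_pow_iff_right Finite.one_lt_card).mp h)
  obtain ⟨b₁', hb1', hb1r', -⟩ := exists_orth_four S h6 (fun _ => 0) (fun _ _ => zero_mem _)
  obtain ⟨z₁', hz1', hz11', -⟩ := exists_sep S (u := 0) (fun _ => zero_mem _) hb1r' hb1'
    (fun k e => hb1' (by rw [← e, smul_zero]))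
  obtain ⟨b₂, hb2, hb2r, hb2o⟩ := exists_orth_four S h6 ![b₁', z₁', 0, 0] (fun j => by
    fin_cases j <;> first | assumption | exact fun _ => zero_mem _)
  have hb21' : f b₂ b₁' = 0 := hb2o 0
  have hind₀ : ∀ k : F, k • b₁' ≠ b₂ := fun k hk => by
    have h1 : f z₁' b₂ = 0 := by rw [S.symp.skew, show f b₂ z₁' = 0 from hb2o 1, neg_zero]
    rw [← hk, hsr, hz11', mul_one] at h1
    exact hb2 (by rw [← hk, h1, zero_smul])
  have hnz : ∀ b : ι → F, b ≠ 0 → (∀ i, b i ∈ F₀) → f b w ≠ 0 := fun b h1 h2 e => hann b h1 h2 (by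
    rw [S.symp.skew, e, neg_zero])
  -- arrange that the squared ratio is irrational
  obtain ⟨b₁, hb1, hb1r, hind, hb12, hσ⟩ : ∃ b₁ : ι → F, b₁ ≠ 0 ∧ (∀ i, b₁ i ∈ F₀) ∧
      (∀ k : F, k • b₁ ≠ b₂) ∧ f b₁ b₂ = 0 ∧ (f b₁ w / f b₂ w) * (f b₁ w / f b₂ w) ∉ F₀ := by
    have h12' : f b₁' b₂ = 0 := by rw [S.symp.skew, hb21', neg_zero]
    have hσ0 : f b₁' w / f b₂ w ∉ F₀ := fun hm => by
      have hne : b₁' - (f b₁' w / f b₂ w) • b₂ ≠ 0 := fun e => by
        by_cases h0 : f b₁' w / f b₂ w = 0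
        · exact hb1' (by rw [h0, zero_smul, sub_zero] at e; exact e)
        · exact hind₀ _ (by rw [sub_eq_zero.mp e, smul_smul, inv_mul_cancel₀ h0, one_smul])
      refine hnz _ hne (fun i => sub_mem (hb1r' i) (mul_mem hm (hb2r i))) ?_
      rw [f_sub_left S, hsl, div_mul_cancel₀ _ (hnz b₂ hb2 hb2r), sub_self]
    by_cases hsq : f b₁' w / f b₂ w * (f b₁' w / f b₂ w) ∈ F₀
    swap
    · exact ⟨b₁', hb1', hb1r', hind₀, h12', hsq⟩
    have hadd0 : b₁' + b₂ ≠ 0 := fun e => hind₀ (-1) (by rw [neg_one_smul]; exact (eq_neg_of_add_eq_zero_right e).symm)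
    refine ⟨b₁' + b₂, hadd0, fun i => add_mem (hb1r' i) (hb2r i), fun k hk => ?_, by
      rw [hadd, h12', S.symp.alternating, add_zero], fun hm => hσ0 ?_⟩
    · rw [smul_add, ← eq_sub_iff_add_eq, show b₂ - k • b₂ = (1 - k) • b₂ by rw [sub_smul, one_smul]] at hk
      by_cases hk0 : 1 - k = 0
      · rw [hk0, zero_smul, smul_eq_zero] at hk
        rcases hk with hk | hk
        · exact one_ne_zero (by rwa [hk, sub_zero] at hk0)
        · exact hb1' hk
      · exact hind₀ ((1 - k)⁻¹ * k) (by rw [← smul_smul, hk, smul_smul, inv_mul_cancel₀ hk0, one_smul])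
    · obtain ⟨σ, hσd⟩ : ∃ σ, σ = f b₁' w / f b₂ w := ⟨_, rfl⟩
      rw [show f (b₁' + b₂) w / f b₂ w = σ + 1 by
        rw [hadd, add_div, div_self (hnz b₂ hb2 hb2r), hσd]] at hm
      rw [← hσd] at hsq ⊢
      by_cases h2 : (2 : F) = 0
      · haveI : Finite F₀ := inferInstance
        have hinj : Function.Injective fun x : F₀ => x * x := fun x y h => by
          have h' : (x : F) * x = (y : F) * y := congrArg Subtype.val h
          refine Subtype.ext (sub_eq_zero.mp (mul_self_eq_zero.mp ?_))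
          linear_combination h' + ((y : F) * y - (x : F) * y) * h2
        obtain ⟨v, hv⟩ := (Finite.injective_iff_surjective.1 hinj) ⟨σ * σ, hsq⟩
        have hv' : (v : F) * v = σ * σ := congrArg Subtype.val hv
        have : (v : F) = σ := sub_eq_zero.mp (mul_self_eq_zero.mp (by
          linear_combination hv' + (σ * σ - (v : F) * σ) * h2))
        exact this ▸ v.2
      · have h2m : (2 : F) ∈ F₀ := by rw [show (2 : F) = 1 + 1 by norm_num]; exact add_mem (one_mem _) (one_mem _)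
        have := mul_mem (inv_mem h2m) (sub_mem (sub_mem hm hsq) (one_mem _))
        rwa [show (σ + 1) * (σ + 1) - σ * σ - 1 = 2 * σ by ring, inv_mul_cancel_left₀ h2] at this
  obtain ⟨l₁, hl₁⟩ : ∃ l, l = f b₁ w := ⟨_, rfl⟩
  obtain ⟨l₂, hl₂⟩ : ∃ l, l = f b₂ w := ⟨_, rfl⟩
  rw [← hl₁, ← hl₂] at hσ
  have hl20 : l₂ ≠ 0 := hl₂ ▸ hnz b₂ hb2 hb2r
  have hb21 : f b₂ b₁ = 0 := by rw [S.symp.skew, hb12, neg_zero]
  have hwb2 : f w b₂ = -l₂ := by rw [S.symp.skew, hl₂]
  -- the translation to be realised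
  obtain ⟨μ, hμ⟩ : ∃ μ : F, ∀ a ∈ F₀, ∀ b ∈ F₀, ∀ c ∈ F₀,
      (a * (l₁ * l₁) + b * (l₁ * l₂) + c * (l₂ * l₂)) / l₂ ≠ μ := by
    by_contra hcon
    push Not at hcon
    let Θ : F₀ × F₀ × F₀ → F := fun t =>
      ((t.1 : F) * (l₁ * l₁) + (t.2.1 : F) * (l₁ * l₂) + (t.2.2 : F) * (l₂ * l₂)) / l₂
    have h := Nat.card_le_card_of_surjective Θ fun μ => by
      obtain ⟨a, ha, b, hb, c, hc, e⟩ := hcon μ
      exact ⟨(⟨a, ha⟩, ⟨b, hb⟩, ⟨c, hc⟩), e⟩
    rw [Nat.card_prod, Nat.card_prod, Nat.card_eq_fintype_card (α := F), hcard] at h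
    have h1 : 1 < Nat.card F₀ := Finite.one_lt_card
    have h2 : Nat.card F₀ ^ r ≤ Nat.card F₀ ^ 3 := le_of_le_of_eq h (by ring)
    exact absurd ((Nat.pow_le_pow_iff_right h1).mp h2) (by omega)
  obtain ⟨p, hp⟩ : ∃ p, p = l₂ • b₁ - l₁ • b₂ := ⟨_, rfl⟩
  have hpb2 : f p b₂ = 0 := by rw [hp, f_sub_left S, hsl, hsl, hb12, S.symp.alternating]; ring
  have hpb1 : f p b₁ = 0 := by rw [hp, f_sub_left S, hsl, hsl, hb21, S.symp.alternating]; ring
  have hpw : f p w = 0 := by rw [hp, f_sub_left S, hsl, hsl, ← hl₁, ← hl₂]; ring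
  let π : (ι → F) → Fin 2 → F := fun x => ![f x w, f x b₂]
  obtain ⟨W, hW⟩ : ∃ W, W = Submodule.span F ({w, b₁, b₂} : Set (ι → F)) := ⟨_, rfl⟩
  have hperp : ∀ {y : GL ι F}, y ∈ K → (y : Matrix ι ι F) *ᵥ p = p → ∀ {x}, f x p = 0 →
      f ((y : Matrix ι ι F) *ᵥ x) p = 0 := fun {y} hy hyp {x} hx => by
    conv_lhs => rw [← hyp]
    rw [S.iso y hy, hx]
  let G : Subgroup (Matrix.SpecialLinearGroup (Fin 2) F) :=
    { carrier := {M | ∃ y ∈ K, (y : Matrix ι ι F) *ᵥ p = p ∧ (∀ x, (y : Matrix ι ι F) *ᵥ x - x ∈ W) ∧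
        ∀ x, f x p = 0 → π ((y : Matrix ι ι F) *ᵥ x) = (M : Matrix (Fin 2) (Fin 2) F) *ᵥ π x}
      one_mem' := ⟨1, one_mem _, by simp, fun x => by simp, fun x _ => by simp⟩
      mul_mem' := by
        rintro M N ⟨y, hy, hyp, hyW, hyM⟩ ⟨z, hz, hzp, hzW, hzN⟩
        refine ⟨y * z, mul_mem hy hz, by rw [gl_mul_mulVec, hzp, hyp], fun x => ?_, fun x hx => ?_⟩
        · rw [gl_mul_mulVec]
          have := W.add_mem (hyW ((z : Matrix ι ι F) *ᵥ x)) (hzW x)
          rwa [sub_add_sub_cancel] at this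
        · rw [gl_mul_mulVec, hyM _ (hperp hz hzp hx), hzN x hx, Matrix.mulVec_mulVec]; rfl
      inv_mem' := by
        rintro M ⟨y, hy, hyp, hyW, hyM⟩
        have hip : ((y⁻¹ : GL ι F) : Matrix ι ι F) *ᵥ p = p := by
          conv_lhs => rw [← hyp]
          rw [gl_inv_mulVec_cancel]
        refine ⟨y⁻¹, inv_mem hy, hip, fun x => ?_, fun x hx => ?_⟩
        · have := W.neg_mem (hyW (((y⁻¹ : GL ι F) : Matrix ι ι F) *ᵥ x))
          rwa [gl_mulVec_inv_cancel, neg_sub] at this
        · have := hyM _ (hperp (inv_mem hy) hip hx)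
          rw [gl_mulVec_inv_cancel] at this
          rw [this, Matrix.mulVec_mulVec, ← Matrix.SpecialLinearGroup.coe_mul, inv_mul_cancel]
          simp }
  have hon : ∀ x, f x p = 0 → f x b₁ = l₁ / l₂ * f x b₂ := fun x hx => by
    rw [hp, f_sub_right S, hsr, hsr] at hx
    field_simp
    linear_combination hx
  have hmem₁ : w ∈ W ∧ b₁ ∈ W ∧ b₂ ∈ W := by
    rw [hW]; exact ⟨Submodule.subset_span (by simp), Submodule.subset_span (by simp), Submodule.subset_span (by simp)⟩
  obtain ⟨y, hyK, hyp, hyW, hyM⟩ : Cfsg.Agent.Small.PSL2.uS μ ∈ G := by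
    refine SL2Plane.shifts_full hr hcard (F₀ := F₀) (a := l₁ * l₁ / l₂) (b := l₂) (c := -l₂) (neg_ne_zero.mpr hl20)
      ?_ ?_ ?_ _
    · obtain ⟨s, hsK, hsx⟩ := hw
      refine ⟨s, hsK, by rw [hsx, tq, hpw, mul_zero, zero_smul, add_zero], fun x => ?_, fun x _ => ?_⟩
      · rw [hsx, add_sub_cancel_left, tq]; exact W.smul_mem _ hmem₁.1
      · rw [hsx]
        ext a
        fin_cases a <;> simp [π, tq, Matrix.mulVec, hadd, hsl, hwb2, S.symp.alternating]
        ring
    · intro x hx y hy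
      have hv1 : In K (tq f b₁ x) := S.base b₁ x hb1r hx
      have hv2 : In K (tq f b₂ y) := S.base b₂ y hb2r hy
      obtain ⟨t, htK, htx⟩ := hv1.comp hv2
      refine ⟨t, htK, ?_, fun z => ?_, fun z hz => ?_⟩
      · rw [htx]
        simp [tq, hadd, hsl, hpb1, hpb2, f_zero_left S]
      · rw [htx, add_sub_cancel_left]
        exact W.add_mem (W.smul_mem _ hmem₁.2.2) (W.smul_mem _ hmem₁.2.1)
      · rw [htx]
        ext a
        fin_cases a <;>
          simp [π, tq, Matrix.mulVec, hadd, hsl, hb12, hb21, S.symp.alternating, ← hl₁, ← hl₂, hon z hz]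
        ring
    · intro x hx y hy h
      by_cases hx0 : x = 0
      · exact ⟨hx0, by simpa [hx0, hl20] using h⟩
      · exfalso
        refine hσ ?_
        have e : l₁ / l₂ * (l₁ / l₂) = -y / x := by field_simp at h ⊢; linear_combination h
        rw [e]; exact div_mem (neg_mem hy) hx
  have hy2 : ∀ x, f x p = 0 → f ((y : Matrix ι ι F) *ᵥ x) b₂ = f x b₂ := fun x hx => by
    have := congrFun (hyM x hx) 1
    simpa [π, Matrix.mulVec] using this
  have hyw : ∀ x, f x p = 0 → f ((y : Matrix ι ι F) *ᵥ x) w = f x w + μ * f x b₂ := fun x hx => by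
    have := congrFun (hyM x hx) 0
    simpa [π, Matrix.mulVec] using this
  have hdec : ∀ x, f ((y : Matrix ι ι F) *ᵥ x) b₂ = f x b₂ →
      ∃ a b : F, (y : Matrix ι ι F) *ᵥ x = x + (a • b₁ + b • b₂) := fun x hxb => by
    have h := hyW x
    rw [hW, Submodule.mem_span_insert] at h
    obtain ⟨c, z, hz, hcz⟩ := h
    obtain ⟨a, b, rfl⟩ := Submodule.mem_span_pair.mp hz
    refine ⟨a, b, ?_⟩
    have h3 := congrArg (fun v => f v b₂) hcz
    simp only [f_sub_left S, hadd, hsl, hwb2, hb12, S.symp.alternating, hxb, sub_self, mul_zero, add_zero] at h3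
    have hc : c = 0 := by simpa [hl20] using h3.symm
    rw [hc, zero_smul, zero_add] at hcz
    rw [← hcz, add_sub_cancel]
  have hb1p : f b₁ p = 0 := by rw [S.symp.skew, hpb1, neg_zero]
  have hb2p : f b₂ p = 0 := by rw [S.symp.skew, hpb2, neg_zero]
  obtain ⟨a₁, c₁, hv1⟩ := hdec b₁ (hy2 b₁ hb1p)
  obtain ⟨a₂, c₂, hv2⟩ := hdec b₂ (hy2 b₂ hb2p)
  have hw1 : a₁ * l₁ + c₁ * l₂ = 0 := by
    have := hyw b₁ hb1p
    rw [hv1, hadd, hadd, hsl, hsl, hb12, ← hl₁, ← hl₂] at this
    linear_combination this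
  have hw2 : a₂ * l₁ + c₂ * l₂ = 0 := by
    have := hyw b₂ hb2p
    rw [hv2, hadd, hadd, hsl, hsl, S.symp.alternating, ← hl₁, ← hl₂] at this
    linear_combination this
  have hrel : l₂ * a₁ = l₁ * a₂ := by
    have h := hyp
    rw [hp, Matrix.mulVec_sub, Matrix.mulVec_smul, Matrix.mulVec_smul, hv1, hv2] at h
    have h' : (l₂ * a₁ - l₁ * a₂) • b₁ + (l₂ * c₁ - l₁ * c₂) • b₂ = 0 := by
      rw [← sub_eq_zero] at h
      rw [← h]
      module
    by_contra hne
    have h0 : l₂ * a₁ - l₁ * a₂ ≠ 0 := sub_ne_zero.mpr hne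
    by_cases hc : l₂ * c₁ - l₁ * c₂ = 0
    · rw [hc, zero_smul, add_zero] at h'
      exact hb1 ((smul_eq_zero.mp h').resolve_left h0)
    · refine hind (-(l₂ * a₁ - l₁ * a₂) / (l₂ * c₁ - l₁ * c₂)) ?_
      rw [div_eq_inv_mul, ← smul_smul, neg_smul, neg_eq_of_add_eq_zero_right h', smul_smul, inv_mul_cancel₀ hc, one_smul]
  -- the images of the two centres
  by_cases hbad₁ : (1 + a₁) * (1 + a₁) ∉ F₀ ∨ c₁ * c₁ ∉ F₀
  · refine pair_bad S h6 hb1r hb2r hb1 hb2 hind hb12 (s11 := (1 + a₁) * (1 + a₁)) (s12 := (1 + a₁) * c₁)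
      (s22 := c₁ * c₁) ((In.conj_tq S (S.base b₁ 1 hb1r (one_mem _)) hyK).congr fun x => ?_)
      (hbad₁.imp id Or.inr)
    simp only [tq, hv1, haddr, hsr]
    module
  by_cases hbad₂ : (1 + c₂) * (1 + c₂) ∉ F₀
  · refine pair_bad S h6 hb1r hb2r hb1 hb2 hind hb12 (s11 := a₂ * a₂) (s12 := a₂ * (1 + c₂))
      (s22 := (1 + c₂) * (1 + c₂)) ((In.conj_tq S (S.base b₂ 1 hb2r (one_mem _)) hyK).congr fun x => ?_)
      (Or.inr (Or.inr hbad₂))
    simp only [tq, hv2, haddr, hsr]
    module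
  push Not at hbad₁ hbad₂
  have he : a₁ * a₁ ∈ F₀ := by
    have hc2 : c₂ = -a₁ := mul_right_cancel₀ hl20 (by linear_combination hw2 + hrel)
    rw [hc2] at hbad₂
    by_cases h2 : (2 : F) = 0
    · have := sub_mem hbad₁.1 (one_mem _)
      rwa [show (1 + a₁) * (1 + a₁) - 1 = a₁ * a₁ by linear_combination a₁ * h2] at this
    · have h2m : (2 : F) ∈ F₀ := by rw [show (2 : F) = 1 + 1 by norm_num]; exact add_mem (one_mem _) (one_mem _)
      have := mul_mem (inv_mem (mul_mem h2m h2m)) (sub_mem hbad₁.1 hbad₂)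
      rw [show (2 * 2)⁻¹ * ((1 + a₁) * (1 + a₁) - (1 + -a₁) * (1 + -a₁)) = a₁ by field_simp; ring] at this
      exact mul_mem this this
  have ha₁ : a₁ = 0 := by
    by_contra hne
    refine hσ ?_
    have hc1 : c₁ = -(a₁ * (l₁ / l₂)) := by field_simp; linear_combination hw1
    have := mul_mem (inv_mem he) hbad₁.2
    rwa [hc1, show (a₁ * a₁)⁻¹ * (-(a₁ * (l₁ / l₂)) * -(a₁ * (l₁ / l₂))) = l₁ / l₂ * (l₁ / l₂) by field_simp] at this
  have hfix1 : (y : Matrix ι ι F) *ᵥ b₁ = b₁ := by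
    have : c₁ = 0 := by
      rw [ha₁] at hw1
      simpa [hl20] using hw1
    rw [hv1, ha₁, this, zero_smul, zero_smul, add_zero, add_zero]
  have hfix2 : (y : Matrix ι ι F) *ᵥ b₂ = b₂ := by
    have hc : c₂ = 0 := mul_right_cancel₀ hl20 (by linear_combination hw2 + hrel - l₂ * ha₁)
    have ha : a₂ = 0 := by
      have hl10 : l₁ ≠ 0 := hl₁ ▸ hnz b₁ hb1 hb1r
      exact mul_left_cancel₀ hl10 (by linear_combination -hrel + l₂ * ha₁)
    rw [hv2, ha, hc, zero_smul, zero_smul, add_zero, add_zero]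
  -- the whole element
  have hdec' : ∀ x, ∃ a b : F, (y : Matrix ι ι F) *ᵥ x = x + (a • b₁ + b • b₂) := fun x =>
    hdec x (by conv_lhs => rw [← hfix2]
               rw [S.iso y hyK])
  choose A B hAB using hdec'
  have hind' : ∀ k : F, k • b₂ ≠ b₁ := fun k hk => by
    by_cases hk0 : k = 0
    · exact hb1 (by rw [← hk, hk0, zero_smul])
    · exact hind k⁻¹ (by rw [← hk, smul_smul, inv_mul_cancel₀ hk0, one_smul])
  obtain ⟨z₁, -, hz11, hz12⟩ := exists_sep S hb2r hb1r hb1 hind'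
  obtain ⟨z₂, -, hz22, hz21⟩ := exists_sep S hb1r hb2r hb2 hind
  have hsym : ∀ x z, A x * f b₁ z + B x * f b₂ z + (A z * f x b₁ + B z * f x b₂) = 0 := fun x z => by
    have := S.iso y hyK x z
    rw [hAB, hAB] at this
    simp only [hadd, haddr, hsl, hsr, hb12, hb21, S.symp.alternating] at this
    linear_combination this
  have hA : ∀ x, A x = A z₁ * f x b₁ + B z₁ * f x b₂ := fun x => by
    have := hsym x z₁
    rw [S.symp.skew b₁, S.symp.skew b₂, hz11, hz12] at this
    linear_combination -this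
  have hB : ∀ x, B x = A z₂ * f x b₁ + B z₂ * f x b₂ := fun x => by
    have := hsym x z₂
    rw [S.symp.skew b₁, S.symp.skew b₂, hz21, hz22] at this
    linear_combination -this
  have hmid : A z₂ = B z₁ := by
    have := hA z₂
    rwa [hz21, hz22, mul_zero, zero_add, mul_one] at this
  refine pair_bad S h6 hb1r hb2r hb1 hb2 hind hb12 (s11 := A z₁) (s12 := B z₁) (s22 := B z₂)
    ⟨y, hyK, fun x => by rw [hAB, hA x, hB x, hmid]⟩ ?_
  by_contra hcon
  push Not at hcon
  obtain ⟨ha, hb', hd⟩ := hcon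
  refine hμ _ ha _ hb' _ hd ?_
  obtain ⟨x, hx⟩ : ∃ x, x = (l₁ / l₂) • z₁ + z₂ := ⟨_, rfl⟩
  have hx1 : f x b₁ = l₁ / l₂ := by rw [hx, hadd, hsl, hz11, hz21, mul_one, add_zero]
  have hx2 : f x b₂ = 1 := by rw [hx, hadd, hsl, hz12, hz22, mul_zero, zero_add]
  have := hyw x (by rw [hp, f_sub_right S, hsr, hsr, hx1, hx2]; field_simp; ring)
  rw [hAB, hA x, hB x, hmid, hadd, hadd, hsl, hsl, hx1, hx2, ← hl₁, ← hl₂] at this
  field_simp at this ⊢
  linear_combination this

/-- All transvections, from an irrational one with rational centre. -/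
theorem full_of_center {r : ℕ} (hr : r.Prime) (hcard : Fintype.card F = Nat.card F₀ ^ r)
    (hcen : ∃ (b : ι → F) (l : F), b ≠ 0 ∧ (∀ i, b i ∈ F₀) ∧ l ∉ F₀ ∧ In K (tq f b l))
    (v : ι → F) (c : F) : In K (tq f v c) := by
  classical
  obtain ⟨b, l, hb, hbr, hl, hT⟩ := hcen
  have hadd := S.symp.bilinear.add_left
  have haddr := S.symp.bilinear.add_right
  have hsl := S.symp.bilinear.smul_left
  have hsr := S.symp.bilinear.smul_right
  -- every rational centre
  have hmove : ∀ {a a' : ι → F}, (∀ i, a i ∈ F₀) → (∀ i, a' i ∈ F₀) → f a a' ≠ 0 → ∀ {k}, In K (tq f a k) →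
      In K (tq f a' k) := by
    intro a a' ha ha' hne k h
    obtain ⟨t, ht, htx⟩ := S.base (a' - a) (f a a')⁻¹ (fun i => sub_mem (ha' i) (ha i)) (inv_mem (S.rat _ _ ha ha'))
    have := In.conj_tq S h ht
    rwa [htx, tq, f_sub_right S, S.symp.alternating, sub_zero, inv_mul_cancel₀ hne, one_smul, add_sub_cancel] at this
  have hall : ∀ a : ι → F, (∀ i, a i ∈ F₀) → In K (tq f a l) := by
    intro a ha
    by_cases ha0 : a = 0
    · exact ⟨1, one_mem _, fun x => by simp [tq, ha0, f_zero_right S]⟩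
    by_cases hba : f b a = 0
    · obtain ⟨z₁, hz1, hz11, -⟩ := exists_sep S (u := 0) (fun _ => zero_mem _) hbr hb
        (fun k e => hb (by rw [← e, smul_zero]))
      obtain ⟨z₂, hz2, hz22, -⟩ := exists_sep S (u := 0) (fun _ => zero_mem _) ha ha0
        (fun k e => ha0 (by rw [← e, smul_zero]))
      obtain ⟨z, hz, hzb, hza⟩ : ∃ z : ι → F, (∀ i, z i ∈ F₀) ∧ f z b ≠ 0 ∧ f z a ≠ 0 := by
        by_cases h1 : f z₁ a = 0
        swap
        · exact ⟨z₁, hz1, by rw [hz11]; exact one_ne_zero, h1⟩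
        by_cases h2 : f z₂ b = 0
        swap
        · exact ⟨z₂, hz2, h2, by rw [hz22]; exact one_ne_zero⟩
        exact ⟨z₁ + z₂, fun i => add_mem (hz1 i) (hz2 i), by rw [hadd, hz11, h2, add_zero]; exact one_ne_zero,
          by rw [hadd, hz22, h1, zero_add]; exact one_ne_zero⟩
      exact hmove hz ha hza (hmove hbr hz (by rw [S.symp.skew]; exact neg_ne_zero.mpr hzb) hT)
    · exact hmove hbr ha hba hT
  -- every coefficient
  have hcoef : ∀ e : ι → F, (∀ i, e i ∈ F₀) → ∀ k, In K (tq f e k) := by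
    intro e he k
    by_cases he0 : e = 0
    · exact ⟨1, one_mem _, fun x => by simp [tq, he0, f_zero_right S]⟩
    obtain ⟨e', he', hee, -⟩ := exists_sep S (u := 0) (fun _ => zero_mem _) he he0
      (fun k h => he0 (by rw [← h, smul_zero]))
    have he'e : f e e' = -1 := by rw [S.symp.skew, hee]
    let π : (ι → F) → Fin 2 → F := fun x => ![f x e', f x e]
    obtain ⟨W, hW⟩ : ∃ W, W = Submodule.span F ({e, e'} : Set (ι → F)) := ⟨_, rfl⟩
    have hmem : e ∈ W ∧ e' ∈ W := by
      rw [hW]; exact ⟨Submodule.subset_span (by simp), Submodule.subset_span (by simp)⟩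
    let G : Subgroup (Matrix.SpecialLinearGroup (Fin 2) F) :=
      { carrier := {M | ∃ y ∈ K, ∀ x, (y : Matrix ι ι F) *ᵥ x - x ∈ W ∧
          π ((y : Matrix ι ι F) *ᵥ x) = (M : Matrix (Fin 2) (Fin 2) F) *ᵥ π x}
        one_mem' := ⟨1, one_mem _, fun x => ⟨by simp, by simp⟩⟩
        mul_mem' := by
          rintro M N ⟨y, hy, hyM⟩ ⟨z, hz, hzN⟩
          refine ⟨y * z, mul_mem hy hz, fun x => ⟨?_, ?_⟩⟩
          · rw [gl_mul_mulVec]
            have := W.add_mem (hyM ((z : Matrix ι ι F) *ᵥ x)).1 (hzN x).1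
            rwa [sub_add_sub_cancel] at this
          · rw [gl_mul_mulVec, (hyM _).2, (hzN x).2, Matrix.mulVec_mulVec]; rfl
        inv_mem' := by
          rintro M ⟨y, hy, hyM⟩
          refine ⟨y⁻¹, inv_mem hy, fun x => ⟨?_, ?_⟩⟩
          · have := W.neg_mem (hyM (((y⁻¹ : GL ι F) : Matrix ι ι F) *ᵥ x)).1
            rwa [gl_mulVec_inv_cancel, neg_sub] at this
          · have := (hyM (((y⁻¹ : GL ι F) : Matrix ι ι F) *ᵥ x)).2
            rw [gl_mulVec_inv_cancel] at this
            rw [this, Matrix.mulVec_mulVec, ← Matrix.SpecialLinearGroup.coe_mul, inv_mul_cancel]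
            simp }
    have hμ : Cfsg.Agent.Small.PSL2.uS (-k) ∈ G := by
      refine SL2Plane.shifts_full hr hcard (F₀ := F₀) (a := 1) (b := l) (c := 1) one_ne_zero ?_ ?_ ?_ _
      · obtain ⟨t, ht, htx⟩ := S.base e' 1 he' (one_mem _)
        refine ⟨t, ht, fun x => ⟨by rw [htx, add_sub_cancel_left]; exact W.smul_mem _ hmem.2, ?_⟩⟩
        rw [htx]
        ext a
        fin_cases a <;> simp [π, tq, Matrix.mulVec, hadd, hsl, hee, S.symp.alternating]
        ring
      · intro x hx y hy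
        have h2 : In K (tq f e (-y * l)) := by
          have hsmul : ∀ n : F, n ∈ F₀ → In K (tq f e (n * l)) := by
            intro n hn
            obtain ⟨u, hu, v, hv, huv⟩ := sum_two_sq hn
            have hsc : ∀ u ∈ F₀, In K (tq f e (u * u * l)) := fun u hu =>
              (hall (u • e) fun i => mul_mem hu (he i)).congr fun z => by
                simp only [tq, hsr]; module
            exact ((hsc u hu).comp (hsc v hv)).congr fun z => by
              simp only [tq, hadd, hsl, S.symp.alternating, ← huv]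
              module
          exact hsmul _ (neg_mem hy)
        obtain ⟨t, ht, htx⟩ := (S.base e (-x) he (neg_mem hx)).comp h2
        refine ⟨t, ht, fun z => ⟨?_, ?_⟩⟩
        · rw [htx, add_sub_cancel_left]; exact W.add_mem (W.smul_mem _ hmem.1) (W.smul_mem _ hmem.1)
        · rw [htx]
          ext a
          fin_cases a <;> simp [π, tq, Matrix.mulVec, hadd, hsl, f_neg_left S, he'e, S.symp.alternating]
          ring
      · intro x hx y hy h
        by_cases hy0 : y = 0
        · exact ⟨by simpa [hy0] using h, hy0⟩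
        · exfalso
          refine hl ?_
          rw [show l = -x / y by field_simp; linear_combination h]
          exact div_mem (neg_mem hx) hy
    obtain ⟨y, hy, hyM⟩ := hμ
    refine ⟨y, hy, fun x => ?_⟩
    obtain ⟨hxW, hxπ⟩ := hyM x
    rw [hW] at hxW
    obtain ⟨a, b, hab⟩ := Submodule.mem_span_pair.mp hxW
    have hy' : (y : Matrix ι ι F) *ᵥ x = x + (a • e + b • e') := by rw [hab, add_sub_cancel]
    have h0 := congrFun hxπ 0
    have h1 := congrFun hxπ 1
    simp [π, Matrix.mulVec, hy', hadd, hsl, hee, he'e, S.symp.alternating] at h0 h1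
    rw [hy', tq, h1, zero_smul, add_zero]
    congr 2
  -- every centre
  haveI : Fintype F₀ := Fintype.ofFinite F₀
  have hF4 : 4 ≤ Fintype.card F := by
    rw [hcard]
    calc 4 = 2 ^ 2 := rfl
      _ ≤ Nat.card F₀ ^ 2 := Nat.pow_le_pow_left Finite.one_lt_card 2
      _ ≤ _ := Nat.pow_le_pow_right Nat.card_pos hr.two_le
  let C : (ι → F) → Prop := fun v => ∀ k, In K (tq f v k)
  have hscale : ∀ {v : ι → F} (s : F), C v → C (s • v) := fun {v} s hv k => (hv (k * s * s)).congr fun x => by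
    simp only [tq, hsr]; module
  have hjoin : ∀ {u u' : ι → F} (s : F), C u → C u' → f u u' ≠ 0 → C (u + s • u') := by
    intro u u' s hu hu' hne k
    obtain ⟨t, ht, htx⟩ := hu' (s / f u u')
    have := In.conj_tq S (hu k) ht
    rwa [htx, tq, div_mul_cancel₀ _ hne] at this
  have hCrat : ∀ {e : ι → F}, (∀ i, e i ∈ F₀) → C e := fun {e} he => hcoef e he
  -- two rational vectors
  have htwo : ∀ {e e' : ι → F} (k : F), (∀ i, e i ∈ F₀) → (∀ i, e' i ∈ F₀) → C (k • e + e') := by
    intro e e' k he he'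
    by_cases hk : k ∈ F₀
    · exact hCrat fun i => add_mem (mul_mem hk (he i)) (he' i)
    by_cases hne : f e e' = 0
    swap
    · have := hjoin (u := k • e) (u' := e') 1 (hscale k (hCrat he)) (hCrat he')
        (by rw [hsl]; exact mul_ne_zero (fun h => hk (h ▸ zero_mem _)) hne)
      rwa [one_smul] at this
    by_cases he0 : e = 0
    · rw [he0, smul_zero, zero_add]; exact hCrat he'
    by_cases hprop : ∃ t : F, t • e = e'
    · obtain ⟨t, ht⟩ := hprop
      rw [← ht, ← add_smul]; exact hscale _ (hCrat he)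
    push Not at hprop
    have he'0 : e' ≠ 0 := fun h => hprop 0 (by rw [h, zero_smul])
    have hprop' : ∀ t : F, t • e' ≠ e := fun t ht => by
      by_cases ht0 : t = 0
      · exact he0 (by rw [← ht, ht0, zero_smul])
      · exact hprop t⁻¹ (by rw [← ht, smul_smul, inv_mul_cancel₀ ht0, one_smul])
    obtain ⟨z₁, hz1, hz11, hz12⟩ := exists_sep S he' he he0 hprop'
    obtain ⟨z₂, hz2, hz22, hz21⟩ := exists_sep S he he' he'0 hprop
    obtain ⟨z, hz⟩ : ∃ z, z = z₁ + z₂ := ⟨_, rfl⟩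
    have hze : f z e = 1 := by rw [hz, hadd, hz11, hz21, add_zero]
    have hze' : f z e' = 1 := by rw [hz, hadd, hz12, hz22, zero_add]
    have hzr : ∀ i, z i ∈ F₀ := fun i => hz ▸ add_mem (hz1 i) (hz2 i)
    have h1 := hjoin (u := k • e) (u' := z) 1 (hscale k (hCrat he)) (hCrat hzr) (by
      rw [hsl, S.symp.skew, hze, mul_neg, mul_one, neg_ne_zero]; exact fun h => hk (h ▸ zero_mem _))
    have h2 := hjoin (u' := e') 1 h1 (hCrat he') (by
      rw [one_smul, hadd, hsl, hne, hze', mul_zero, zero_add]; exact one_ne_zero)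
    have h3 := hjoin (u' := z) (-1) h2 (hCrat hzr) (by
      rw [one_smul, one_smul, hadd, hadd, hsl, S.symp.alternating, S.symp.skew e z, hze, S.symp.skew e' z, hze']
      intro h
      exact hk (by rw [show k = -1 by linear_combination -h]; exact neg_mem (one_mem _)))
    convert h3 using 1
    module
  have hstep : ∀ (u : ι → F) (a : F) (e : ι → F), C u → (∀ i, e i ∈ F₀) → C (u + a • e) := by
    intro u a e hu he
    by_cases hue : f u e = 0
    swap
    · exact hjoin a hu (hCrat he) hue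
    by_cases hu0 : u = 0
    · rw [hu0, zero_add]; exact hscale a (hCrat he)
    by_cases he0 : e = 0
    · rw [he0, smul_zero, add_zero]; exact hu
    by_cases hsum : u + a • e = 0
    · rw [hsum]; intro k; exact ⟨1, one_mem _, fun x => by simp [tq, f_zero_right S]⟩
    have hrex : ∀ {v : ι → F}, v ≠ 0 → ∃ z : ι → F, (∀ i, z i ∈ F₀) ∧ f v z ≠ 0 := fun {v} hv => by
      by_contra hcon
      push Not at hcon
      exact hv (eq_of_rat S fun x => by rw [hcon _ fun i => (x i).2, f_zero_left S])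
    obtain ⟨z₁, hz1, hu1⟩ := hrex hu0
    obtain ⟨z₂, hz2, hk1, hk2, hk3⟩ : ∃ z₂ : ι → F, (∀ i, z₂ i ∈ F₀) ∧
        (f u z₁ ≠ 0 ∨ f u z₂ ≠ 0) ∧ (f e z₁ ≠ 0 ∨ f e z₂ ≠ 0) ∧ (f (u + a • e) z₁ ≠ 0 ∨ f (u + a • e) z₂ ≠ 0) := by
      by_cases h : f (u + a • e) z₁ = 0
      · have he1 : f e z₁ ≠ 0 := fun h0 => hu1 (by rw [hadd, hsl, h0, mul_zero, add_zero] at h; exact h)
        obtain ⟨z₂, hz2, h3⟩ := hrex hsum
        exact ⟨z₂, hz2, Or.inl hu1, Or.inl he1, Or.inr h3⟩
      · obtain ⟨z₂, hz2, h2⟩ := hrex he0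
        exact ⟨z₂, hz2, Or.inl hu1, Or.inr h2, Or.inl h⟩
    obtain ⟨k, hk⟩ : ∃ k : F, k * f u z₁ + f u z₂ ≠ 0 ∧ k * f e z₁ + f e z₂ ≠ 0 ∧
        k * f (u + a • e) z₁ + f (u + a • e) z₂ ≠ 0 := by
      by_contra hcon
      have hroot : ∀ (α β : F), (α ≠ 0 ∨ β ≠ 0) → ∀ k, k * α + β = 0 → k = -β / α := fun α β h k hk => by
        have hα : α ≠ 0 := fun h0 => by
          rw [h0, mul_zero, zero_add] at hk
          exact h.elim (fun h => h h0) (fun h => h hk)
        field_simp
        linear_combination hk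
      have hsub : (Finset.univ : Finset F) ⊆
          {-f u z₂ / f u z₁, -f e z₂ / f e z₁, -f (u + a • e) z₂ / f (u + a • e) z₁} := fun k _ => by
        simp only [Finset.mem_insert, Finset.mem_singleton]
        by_contra h
        push Not at h
        exact hcon ⟨k, fun h' => h.1 (hroot _ _ hk1 k h'), fun h' => h.2.1 (hroot _ _ hk2 k h'),
          fun h' => h.2.2 (hroot _ _ hk3 k h')⟩
      have h1 := Finset.card_le_card hsub
      have h2 := Finset.card_le_three (a := -f u z₂ / f u z₁) (b := -f e z₂ / f e z₁)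
        (c := -f (u + a • e) z₂ / f (u + a • e) z₁)
      rw [Finset.card_univ] at h1
      omega
    obtain ⟨z, hz⟩ : ∃ z, z = k • z₁ + z₂ := ⟨_, rfl⟩
    have hfz : ∀ v, f v z = k * f v z₁ + f v z₂ := fun v => by rw [hz, haddr, hsr]
    have hCz : C z := hz ▸ htwo k hz1 hz2
    have h1 := hjoin (u := u) (u' := z) 1 hu hCz (by rw [hfz]; exact hk.1)
    have h2 := hjoin (u' := e) a h1 (hCrat he) (by
      rw [one_smul, hadd, hue, zero_add, S.symp.skew, hfz, neg_ne_zero]; exact hk.2.1)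
    have h3 := hjoin (u' := z) (-1) h2 hCz (by
      have := hk.2.2
      rw [← hfz] at this
      rw [one_smul, hadd, hadd, S.symp.alternating, add_zero]
      rwa [hadd] at this)
    convert h3 using 1
    module
  have hC : ∀ s : Finset ι, C (∑ i ∈ s, v i • (Pi.single i 1 : ι → F)) := fun s => by
    induction s using Finset.induction with
    | empty => intro k; exact ⟨1, one_mem _, fun x => by simp [tq, f_zero_right S]⟩
    | insert i s hi ih =>
      rw [Finset.sum_insert hi, add_comm]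
      exact hstep _ _ _ ih fun j => by rw [Pi.single_apply]; split_ifs; exacts [one_mem _, zero_mem _]
  have := hC Finset.univ c
  rwa [← pi_eq_sum_univ' v] at this

/-- All transvections. -/
theorem full (h6 : 6 ≤ Fintype.card ι) {r : ℕ} (hr : r.Prime) (hcard : Fintype.card F = Nat.card F₀ ^ r)
    {g : GL ι F} (hg : g ∈ K) (hgn : ∃ k l k' l', (g : Matrix ι ι F) k k' * (g : Matrix ι ι F) l l' ∉ F₀)
    (v : ι → F) (c : F) : In K (tq f v c) :=
  full_of_center S hr hcard (exists_center S h6 hr hcard hg hgn) v c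

end Cfsg.Agent.Classical.SpSubMax

namespace Cfsg.Agent.Classical.SpSubMax

open Matrix Cfsg.Geo
open Cfsg.Agent.Classical

universe u

variable {m : ℕ} {F : Type u} [Field F] [Fintype F] {F₀ : Subfield F}

local notation "Vm" => Fin m ⊕ Fin m → F
local notation "Gl" => GL (Fin m ⊕ Fin m) F

/-- Maximality, given irrational transvections with rational centre in all irrational overgroups. -/
theorem isMaximal_of (hm : 2 ≤ m) {r : ℕ} (hr : r.Prime) (hcard : Fintype.card F = Nat.card F₀ ^ r) (P : Gl) {ζ : F}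
    (hζ : ζ ≠ 0) (hP : IsFormRationalStructure (sympForm m F) F₀ ζ P)
    (hcen : ∀ (f : Vm → Vm → F) (K : Subgroup Gl) (g : Gl), Setup F₀ f K → g ∈ K →
      (∃ k l k' l', (g : Matrix (Fin m ⊕ Fin m) (Fin m ⊕ Fin m) F) k k' *
        (g : Matrix (Fin m ⊕ Fin m) (Fin m ⊕ Fin m) F) l l' ∉ F₀) →
      ∃ (b : Vm) (l : F), b ≠ 0 ∧ (∀ i, b i ∈ F₀) ∧ l ∉ F₀ ∧ In K (tq f b l)) :
    IsMaximalIn (spGL m F) (subfieldSubgroup F₀ P ⊓ spGL m F) := by
  classical
  have hfs := sympForm_isSymplectic (m := m) (F := F)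
  let f : Vm → Vm → F := fun u v =>
    ζ * sympForm m F ((P : Matrix (Fin m ⊕ Fin m) (Fin m ⊕ Fin m) F) *ᵥ u)
      ((P : Matrix (Fin m ⊕ Fin m) (Fin m ⊕ Fin m) F) *ᵥ v)
  have hsymp : IsSymplecticForm f :=
    { bilinear :=
        { add_left := fun x y v => by simp only [f, Matrix.mulVec_add, hfs.bilinear.add_left]; ring
          smul_left := fun c x v => by simp only [f, Matrix.mulVec_smul, hfs.bilinear.smul_left]; ring
          add_right := fun x y v => by simp only [f, Matrix.mulVec_add, hfs.bilinear.add_right]; ring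
          smul_right := fun c x v => by simp only [f, Matrix.mulVec_smul, hfs.bilinear.smul_right]; ring }
      skew := fun v w => by simp only [f]; rw [hfs.skew]; ring
      alternating := fun v => by simp only [f, hfs.alternating, mul_zero]
      nondegenerate := fun v hv => by
        obtain ⟨⟨a, ha⟩, ⟨b, hb⟩⟩ := hfs.nondegenerate _ fun e => hv (gl_mulVec_injective P (e.trans (Matrix.mulVec_zero _).symm))
        exact ⟨⟨((P⁻¹ : Gl) : Matrix (Fin m ⊕ Fin m) (Fin m ⊕ Fin m) F) *ᵥ a, by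
            simp only [f, gl_mulVec_inv_cancel]; exact mul_ne_zero hζ ha⟩,
          ⟨((P⁻¹ : Gl) : Matrix (Fin m ⊕ Fin m) (Fin m ⊕ Fin m) F) *ᵥ b, by
            simp only [f, gl_mulVec_inv_cancel]; exact mul_ne_zero hζ hb⟩⟩ }
  have hone : ∀ i j, (Pi.single i (1 : F) : Vm) j ∈ F₀ := fun i j => by
    rw [Pi.single_apply]; split_ifs; exacts [one_mem _, zero_mem _]
  -- the rational transvections
  have hbase : ∀ (v : Vm) (c : F), (∀ i, v i ∈ F₀) → c ∈ F₀ → ∃ t ∈ subfieldSubgroup F₀ P ⊓ spGL m F,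
      ∀ x, ((P⁻¹ * t * P : Gl) : Matrix (Fin m ⊕ Fin m) (Fin m ⊕ Fin m) F) *ᵥ x = x + tq f v c x := by
    intro v c hv hc
    obtain ⟨t, hts, ht⟩ := exists_sp_transvection ((P : Matrix (Fin m ⊕ Fin m) (Fin m ⊕ Fin m) F) *ᵥ v) (c * ζ)
    have hx : ∀ x, ((P⁻¹ * t * P : Gl) : Matrix (Fin m ⊕ Fin m) (Fin m ⊕ Fin m) F) *ᵥ x = x + tq f v c x := fun x => by
      rw [gl_mul_mulVec, gl_mul_mulVec, ht, Matrix.mulVec_add, gl_inv_mulVec_cancel, Matrix.mulVec_smul,
        gl_inv_mulVec_cancel, tq, mul_assoc]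
    refine ⟨t, ⟨mem_subfieldSubgroup.mpr (Subgroup.mem_sup_left (mem_range_map_subfield fun i j => ?_)), hts⟩, hx⟩
    have h := congrFun (hx (Pi.single j 1)) i
    rw [Matrix.mulVec_single_one, Matrix.col_apply] at h
    rw [h]
    exact add_mem (hone j i) (mul_mem (mul_mem hc (hP _ _ (hone j) hv)) (hv i))
  refine ⟨lt_of_le_of_ne inf_le_right fun e => ?_, fun K hK hKS => or_iff_not_imp_left.mpr fun hne =>
    le_antisymm hKS ?_⟩
  · -- an irrational transvection in the symplectic group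
    obtain ⟨l, hl⟩ : ∃ l : F, l ∉ F₀ := by
      by_contra hh
      push Not at hh
      have e : Nat.card F₀ = Fintype.card F := by
        rw [← Nat.card_eq_fintype_card]; exact Nat.card_congr (Equiv.subtypeUnivEquiv hh)
      rw [e] at hcard
      exact hr.ne_one ((Nat.pow_eq_self_iff Fintype.one_lt_card).mp hcard.symm)
    let i : Fin m ⊕ Fin m := .inl ⟨0, by omega⟩
    let j : Fin m ⊕ Fin m := .inl ⟨1, by omega⟩
    obtain ⟨⟨k, hk⟩, -⟩ : (∃ k, f (Pi.single k 1) (Pi.single i 1) ≠ 0) ∧ True := by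
      refine ⟨?_, trivial⟩
      by_contra hcon
      push Not at hcon
      obtain ⟨x, hx⟩ := (hsymp.nondegenerate (Pi.single i 1) (by simp)).1
      refine hx ?_
      rw [pi_eq_sum_univ' x]
      let L : Vm →ₗ[F] F :=
        { toFun := fun y => f y (Pi.single i 1), map_add' := fun a b => hsymp.bilinear.add_left a b _,
          map_smul' := fun c y => hsymp.bilinear.smul_left c y _ }
      change L _ = 0
      rw [map_sum]
      refine Finset.sum_eq_zero fun t _ => ?_
      rw [map_smul]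
      change _ • f _ _ = 0
      rw [hcon, smul_zero]
    obtain ⟨t, hts, ht⟩ := exists_sp_transvection ((P : Matrix (Fin m ⊕ Fin m) (Fin m ⊕ Fin m) F) *ᵥ Pi.single i 1)
      (l * ζ)
    have hmem : t ∈ subfieldSubgroup F₀ P := (inf_eq_right.mp e) hts
    rw [mem_subfieldSubgroup, Subgroup.mem_sup_of_normal_right] at hmem
    obtain ⟨g, hg, z, hz, hgz⟩ := hmem
    obtain ⟨a, ha⟩ := (mem_scalars_iff z).mp hz
    have hx : ∀ x, ((P⁻¹ * t * P : Gl) : Matrix (Fin m ⊕ Fin m) (Fin m ⊕ Fin m) F) *ᵥ x =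
        x + tq f (Pi.single i 1) l x := fun x => by
      rw [gl_mul_mulVec, gl_mul_mulVec, ht, Matrix.mulVec_add, gl_inv_mulVec_cancel, Matrix.mulVec_smul,
        gl_inv_mulVec_cancel, tq, mul_assoc]
    have hm' := range_map_subfield_entries hg
    have hent : ∀ c d, (Pi.single d (1 : F) : Vm) c + tq f (Pi.single i 1) l (Pi.single d 1) c =
        (a : F) * (g : Matrix (Fin m ⊕ Fin m) (Fin m ⊕ Fin m) F) c d := fun c d => by
      have h := congrFun (hx (Pi.single d 1)) c
      rw [← hgz, Units.val_mul, ha, Matrix.mulVec_single_one, Matrix.col_apply, Matrix.mul_smul, Matrix.mul_one,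
        Matrix.smul_apply, smul_eq_mul] at h
      exact h.symm
    have haF : (a : F)⁻¹ ∈ F₀ := by
      have h := hent i i
      simp only [tq, hsymp.alternating, mul_zero, zero_smul, Pi.zero_apply, add_zero, Pi.single_eq_same] at h
      rw [inv_eq_of_mul_eq_one_right h.symm]
      exact hm' i i
    have h := hent i k
    simp only [tq, Pi.smul_apply, Pi.single_eq_same, smul_eq_mul, mul_one] at h
    have hfk : f (Pi.single k 1) (Pi.single i 1) ∈ F₀ := hP _ _ (hone k) (hone i)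
    refine hl ?_
    rw [show l = ((a : F) * (g : Matrix (Fin m ⊕ Fin m) (Fin m ⊕ Fin m) F) i k - (Pi.single k (1 : F) : Vm) i) /
      f (Pi.single k 1) (Pi.single i 1) by rw [eq_div_iff hk]; linear_combination h]
    exact div_mem (sub_mem (mul_mem (inv_inv (a : F) ▸ inv_mem haF) (hm' i k)) (hone k i)) hfk
  · -- the overgroup is everything
    let K' : Subgroup Gl := K.comap (MulAut.conj P).toMonoidHom
    have hmemK' : ∀ y, y ∈ K' ↔ P * y * P⁻¹ ∈ K := fun y => Iff.rfl
    have S : Setup F₀ f K' :=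
      { symp := hsymp
        rat := fun u v hu hv => hP u v hu hv
        iso := fun y hy u v => by
          have h := hKS ((hmemK' y).mp hy) ((P : Matrix (Fin m ⊕ Fin m) (Fin m ⊕ Fin m) F) *ᵥ u)
            ((P : Matrix (Fin m ⊕ Fin m) (Fin m ⊕ Fin m) F) *ᵥ v)
          change sympForm m F (((P * y * P⁻¹ : Gl) : Matrix (Fin m ⊕ Fin m) (Fin m ⊕ Fin m) F) *ᵥ _)
            (((P * y * P⁻¹ : Gl) : Matrix (Fin m ⊕ Fin m) (Fin m ⊕ Fin m) F) *ᵥ _) = _ at h
          simp only [gl_mul_mulVec, gl_inv_mulVec_cancel] at h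
          simp only [f, h]
        base := fun v c hv hc => by
          obtain ⟨t, ht, htx⟩ := hbase v c hv hc
          exact ⟨_, (hmemK' _).mpr (by rw [show P * (P⁻¹ * t * P) * P⁻¹ = t by group]; exact hK ht), htx⟩ }
    obtain ⟨g, hg, hgs⟩ : ∃ g ∈ K, g ∉ subfieldSubgroup F₀ P := by
      by_contra hcon
      push Not at hcon
      exact hne (le_antisymm (le_inf hcon hKS) hK)
    have hall := full_of_center S hr hcard <| hcen f K' (P⁻¹ * g * P) S
      ((hmemK' _).mpr (by rwa [show P * (P⁻¹ * g * P) * P⁻¹ = g by group])) (by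
      by_contra hcon
      push Not at hcon
      refine hgs (mem_subfieldSubgroup.mpr ?_)
      obtain ⟨M, hM⟩ : ∃ M, M = ((P⁻¹ * g * P : Gl) : Matrix (Fin m ⊕ Fin m) (Fin m ⊕ Fin m) F) := ⟨_, rfl⟩
      rw [← hM] at hcon
      obtain ⟨k, l, hkl⟩ : ∃ k l, M k l ≠ 0 := by
        by_contra h
        push Not at h
        haveI : Nonempty (Fin m ⊕ Fin m) := ⟨.inl ⟨0, by omega⟩⟩
        have h0 : M = 0 := Matrix.ext fun a b => h a b
        exact ((Matrix.isUnit_iff_isUnit_det _).mp (P⁻¹ * g * P : Gl).isUnit).ne_zero (by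
          rw [← hM, h0, Matrix.det_zero])
      have hd : ((M k l)⁻¹ • M).det ≠ 0 := by
        rw [Matrix.det_smul]
        refine mul_ne_zero (pow_ne_zero _ (inv_ne_zero hkl)) ?_
        rw [hM]
        exact ((Matrix.isUnit_iff_isUnit_det _).mp (P⁻¹ * g * P : Gl).isUnit).ne_zero
      have e : P⁻¹ * g * P = Matrix.GeneralLinearGroup.mkOfDetNeZero _ hd *
          Units.map (Matrix.scalar (Fin m ⊕ Fin m) : F →+* Matrix (Fin m ⊕ Fin m) (Fin m ⊕ Fin m) F).toMonoidHom
            (Units.mk0 _ hkl) := by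
        refine Units.ext (Matrix.ext fun a b => ?_)
        rw [← hM, Units.val_mul (Matrix.GeneralLinearGroup.mkOfDetNeZero _ hd), Matrix.GeneralLinearGroup.val_mkOfDetNeZero]
        simp [Matrix.mul_diagonal, Matrix.scalar_apply]
        field_simp
      rw [e]
      refine mul_mem (Subgroup.mem_sup_left (mem_range_map_subfield fun a b => ?_)) (Subgroup.mem_sup_right ⟨_, rfl⟩)
      rw [Matrix.GeneralLinearGroup.val_mkOfDetNeZero, Matrix.smul_apply, smul_eq_mul]
      have := mul_mem (hcon a k b l) (inv_mem (hcon k k l l))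
      rwa [show M a b * M k l * (M k l * M k l)⁻¹ = (M k l)⁻¹ * M a b by field_simp] at this)
    refine SpOver.spGL_le fun v c g ht => ?_
    obtain ⟨y, hy, hyx⟩ := hall (((P⁻¹ : Gl) : Matrix (Fin m ⊕ Fin m) (Fin m ⊕ Fin m) F) *ᵥ v) (c / ζ)
    have e : g = P * y * P⁻¹ := gl_ext_mulVec fun x => by
      rw [gl_mul_mulVec, gl_mul_mulVec, hyx, ht, Matrix.mulVec_add, gl_mulVec_inv_cancel, tq, Matrix.mulVec_smul,
        gl_mulVec_inv_cancel]
      simp only [f, gl_mulVec_inv_cancel]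
      congr 2
      field_simp
    rw [e]
    exact hy

theorem isMaximal (hm : 3 ≤ m) {r : ℕ} (hr : r.Prime) (hcard : Fintype.card F = Nat.card F₀ ^ r) (P : Gl) {ζ : F}
    (hζ : ζ ≠ 0) (hP : IsFormRationalStructure (sympForm m F) F₀ ζ P) :
    IsMaximalIn (spGL m F) (subfieldSubgroup F₀ P ⊓ spGL m F) :=
  isMaximal_of (by omega) hr hcard P hζ hP fun f K g S hg hgn =>
    exists_center S (by rw [Fintype.card_sum, Fintype.card_fin]; omega) hr hcard hg hgn

end Cfsg.Agent.Classical.SpSubMax
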