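/-
Symplectic groups in dimension four in odd characteristic: normalisers of two-groups, and the small exceptions
over the field with three elements.
-/
import Cfsg.Agent.Lib.Classical.FormPlaneCube
import Cfsg.Agent.Lib.Classical.FormSpMaximal
import Cfsg.Agent.Lib.Classical.OrthRoot

set_option autoImplicit false
set_option linter.style.haveILetI false
set_option linter.unusedSectionVars false

namespace Cfsg.Agent.Classical.SpFour

open Matrix Cfsg.Geo Cfsg.Agent.Classical
open scoped Kronecker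

local notation "ι₄" => Fin 2 ⊕ Fin 2

variable {F : Type*} [Field F] [Fintype F]

/-- The symplectic group in dimension four normalises no absolutely irreducible two-group of order 32. -/
theorem not_sp_le_normalizer (h2 : (2 : F) ≠ 0) {R : Subgroup (GL ι₄ F)} (hR : IsSymplecticTypeGroup 2 R)
    (hRa : ActsAbsolutelyIrreducibly (matrixSet R)) (hsim : R ≤ similarityGroup (sympForm 2 F))
    (hc : Nat.card R = 32) (hZ : Nat.card (Subgroup.center R) = 2) : ¬ spGL 2 F ≤ subgroupNormalizer R := by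
  classical
  intro hle
  have hfs := sympForm_isSymplectic (m := 2) (F := F)
  have hcomm := symplecticTypeGroup_comm hR hRa
  -- central elements are plus or minus one
  have hpm : ∀ z : R, z ∈ Subgroup.center R → ((z : GL ι₄ F) : Matrix ι₄ ι₄ F) = 1 ∨
      ((z : GL ι₄ F) : Matrix ι₄ ι₄ F) = -1 := fun z hz => by
    obtain ⟨c, hc'⟩ := (mem_scalars_iff _).mp (mem_scalars_of_absIrr hRa fun y hy =>
      (congrArg Subtype.val (Subgroup.mem_center_iff.mp hz ⟨y, hy⟩)).symm : (z : GL ι₄ F) ∈ scalars ι₄ F)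
    have h1 : ((⟨z, hz⟩ : Subgroup.center R) ^ 2) = 1 := by
      have := pow_card_eq_one' (x := (⟨z, hz⟩ : Subgroup.center R))
      rwa [hZ] at this
    have h3 : (z : GL ι₄ F) ^ 2 = 1 := congrArg (fun w : Subgroup.center R => ((w : R) : GL ι₄ F)) h1
    have h4 := congrArg (fun w : GL ι₄ F => (w : Matrix ι₄ ι₄ F) (.inl 0) (.inl 0)) h3
    simp only [Units.val_pow_eq_pow_val, pow_two, Units.val_mul, Units.val_one] at h4
    rw [hc'] at h4
    simp [Matrix.one_apply] at h4
    rcases mul_self_eq_one_iff.mp h4 with h5 | h5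
    · exact Or.inl (by rw [hc', h5, one_smul])
    · exact Or.inr (by rw [hc', h5, neg_smul, one_smul])
  have hcen : ∀ x y : R, x * y * x⁻¹ * y⁻¹ ∈ Subgroup.center R := fun x y => by
    obtain ⟨c, hc'⟩ := (mem_scalars_iff _).mp (hcomm x x.2 y y.2)
    refine Subgroup.mem_center_iff.mpr fun w => Subtype.ext (Units.ext ?_)
    simp only [Subgroup.coe_mul, Subgroup.coe_inv, Units.val_mul] at hc' ⊢
    rw [hc', Matrix.mul_smul, Matrix.mul_one, Matrix.smul_mul, Matrix.one_mul]
  have hsq : ∀ x : R, x * x ∈ Subgroup.center R := fun x => Subgroup.mem_center_iff.mpr fun y => by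
    have hc1 := hcen y x
    set c := y * x * y⁻¹ * x⁻¹ with hcd
    have hc2 : c * c = 1 := by
      have h1 : ((⟨c, hc1⟩ : Subgroup.center R) ^ 2) = 1 := by
        have := pow_card_eq_one' (x := (⟨c, hc1⟩ : Subgroup.center R))
        rwa [hZ] at this
      exact (pow_two c).symm.trans (congrArg Subtype.val h1)
    have e : y * x = c * x * y := by rw [hcd]; group
    have hcx := Subgroup.mem_center_iff.mp hc1 x
    calc y * (x * x) = c * x * (y * x) := (mul_assoc y x x).symm.trans ((congrArg (· * x) e).trans (mul_assoc (c * x) y x))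
      _ = c * (x * c) * x * y := by rw [e]; simp only [mul_assoc]
      _ = c * (c * x) * x * y := by rw [hcx]
      _ = x * x * y := by rw [← mul_assoc c c x, hc2, one_mul]
  -- a non-central involution
  obtain ⟨x, hx, hxx⟩ : ∃ x : R, x ∉ Subgroup.center R ∧ x * x = 1 := by
    obtain ⟨x, hx⟩ : ∃ x : R, x ∉ Subgroup.center R := by
      by_contra h
      push Not at h
      have : Nat.card (Subgroup.center R) = Nat.card R :=
        by rw [(Subgroup.eq_top_iff' _).mpr h]; exact Subgroup.card_top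
      omega
    by_cases hxx : x * x = 1
    · exact ⟨x, hx, hxx⟩
    let φ : R →* Subgroup.center R :=
      { toFun := fun y => ⟨y * x * y⁻¹ * x⁻¹, hcen y x⟩
        map_one' := Subtype.ext (by simp)
        map_mul' := fun a b => Subtype.ext (by
          change a * b * x * (a * b)⁻¹ * x⁻¹ = a * x * a⁻¹ * x⁻¹ * (b * x * b⁻¹ * x⁻¹)
          have h := Subgroup.mem_center_iff.mp (hcen b x)
          calc a * b * x * (a * b)⁻¹ * x⁻¹ = a * ((b * x * b⁻¹ * x⁻¹) * (x * a⁻¹ * x⁻¹)) := by group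
            _ = a * ((x * a⁻¹ * x⁻¹) * (b * x * b⁻¹ * x⁻¹)) := by rw [← h (x * a⁻¹ * x⁻¹)]
            _ = _ := by group) }
    have hker : 16 ≤ Nat.card φ.ker := by
      have h1 := Subgroup.index_mul_card φ.ker
      rw [hc, Subgroup.index_ker] at h1
      have h3 : Nat.card φ.range ≤ 2 := (Subgroup.card_le_card_group φ.range).trans_eq hZ
      nlinarith
    obtain ⟨y, hy, hy'⟩ : ∃ y, y ∈ φ.ker ∧ y ∉ Subgroup.center R ∧ y * x ∉ Subgroup.center R := by
      by_contra hcon
      have hsub : ((φ.ker : Set R)) ⊆ (Subgroup.center R : Set R) ∪ (fun z => z * x⁻¹) '' (Subgroup.center R : Set R) := by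
        intro y hy
        by_cases h1 : y ∈ Subgroup.center R
        · exact Or.inl h1
        · refine Or.inr ⟨y * x, ?_, by simp⟩
          by_contra h3
          exact hcon ⟨y, hy, h1, h3⟩
      have h1 := Set.ncard_le_ncard hsub (Set.toFinite _)
      have h3 := Set.ncard_union_le (Subgroup.center R : Set R) ((fun z => z * x⁻¹) '' (Subgroup.center R : Set R))
      have h4 : ((fun z => z * x⁻¹) '' (Subgroup.center R : Set R)).ncard ≤ (Subgroup.center R : Set R).ncard :=
        Set.ncard_image_le (Set.toFinite _)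
      rw [← Nat.card_coe_set_eq] at h1
      have h5 : (Subgroup.center R : Set R).ncard = 2 := by rw [← Nat.card_coe_set_eq]; exact hZ
      change Nat.card φ.ker ≤ _ at h1
      omega
    by_cases hyy : y * y = 1
    · exact ⟨y, hy'.1, hyy⟩
    have hyx : y * x = x * y := by
      have := congrArg Subtype.val (MonoidHom.mem_ker.mp hy)
      change y * x * y⁻¹ * x⁻¹ = 1 at this
      rw [mul_inv_eq_one, mul_inv_eq_iff_eq_mul] at this
      exact this
    have hneg : ∀ z : R, z * z ≠ 1 → ((z : GL ι₄ F) : Matrix ι₄ ι₄ F) * (z : GL ι₄ F) = -1 := fun z hz =>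
      (hpm _ (hsq z)).resolve_left fun e => hz (Subtype.ext (Units.ext e))
    refine ⟨y * x, hy'.2, ?_⟩
    rw [show y * x * (y * x) = y * (x * y) * x by group, ← hyx]
    refine Subtype.ext (Units.ext ?_)
    simp only [Subgroup.coe_mul, Units.val_mul, Subgroup.coe_one, Units.val_one]
    rw [← Matrix.mul_assoc, hneg y hyy, Matrix.neg_mul, Matrix.one_mul, Matrix.neg_mul, hneg x hxx, neg_neg]
  set X := ((x : GL ι₄ F) : Matrix ι₄ ι₄ F) with hX
  have hXX : X * X = 1 := congrArg (fun z : R => ((z : GL ι₄ F) : Matrix ι₄ ι₄ F)) hxx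
  have hXs : ∀ c : F, X ≠ c • (1 : Matrix ι₄ ι₄ F) := fun c e => hx (Subgroup.mem_center_iff.mpr fun w =>
    Subtype.ext (Units.ext (by simp only [Subgroup.coe_mul, Units.val_mul, ← hX, e]; simp)))
  obtain ⟨lam, hlam⟩ := hsim x.2
  -- a vector which is orthogonal to its image but is not an eigenvector
  obtain ⟨s, hsf, hsn⟩ : ∃ s : ι₄ → F, sympForm 2 F (X *ᵥ s) s = 0 ∧ ∀ c : F, X *ᵥ s ≠ c • s := by
    obtain ⟨P, hP⟩ : ∃ P : F → Submodule F (ι₄ → F), ∀ c, P c = LinearMap.ker (Matrix.toLin' X - c • LinearMap.id) :=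
      ⟨_, fun _ => rfl⟩
    have hmemP : ∀ c v, v ∈ P c ↔ X *ᵥ v = c • v := fun c v => by simp [hP, sub_eq_zero]
    have hXv : ∀ v, X *ᵥ (X *ᵥ v) = v := fun v => by rw [Matrix.mulVec_mulVec, hXX, Matrix.one_mulVec]
    have hin : ∀ (c : F), c * c = 1 → ∀ v, v + c • (X *ᵥ v) ∈ P c := fun c hc v => by
      rw [hmemP, Matrix.mulVec_add, Matrix.mulVec_smul, hXv, smul_add, smul_smul, hc, one_smul, add_comm]
    have htop : (⊤ : Submodule F (ι₄ → F)) ≤ P 1 ⊔ P (-1) := fun v _ => by
      have e : v = (2 : F)⁻¹ • ((v + (1 : F) • (X *ᵥ v)) + (v + (-1 : F) • (X *ᵥ v))) := by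
        rw [one_smul, neg_smul, one_smul, show v + X *ᵥ v + (v + -(X *ᵥ v)) = (2 : F) • v by
          rw [two_smul]; abel, smul_smul, inv_mul_cancel₀ h2, one_smul]
      rw [e]
      exact Submodule.smul_mem _ _ (Submodule.add_mem_sup (hin 1 (one_mul _) v) (hin (-1) (by ring) v))
    have hnz : ∀ c : F, c * c = 1 → P c ≠ ⊥ := fun c hc e => hXs (-c) (by
      refine Matrix.toLin'.injective (LinearMap.ext fun v => ?_)
      have h := hin c hc v
      rw [e, Submodule.mem_bot] at h
      have h' := congrArg (fun w => c • w) h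
      simp only [smul_add, smul_smul, hc, one_smul, smul_zero] at h'
      rw [Matrix.toLin'_apply, map_smul, LinearMap.smul_apply, Matrix.toLin'_one, LinearMap.id_apply, neg_smul]
      exact eq_neg_of_add_eq_zero_right h')
    have hdim : 4 ≤ Module.finrank F (P 1) + Module.finrank F (P (-1)) := by
      have h1 := Submodule.finrank_mono htop
      rw [finrank_top, Module.finrank_fintype_fun_eq_card] at h1
      simp at h1
      have h3 := Submodule.finrank_sup_add_finrank_inf_eq (P 1) (P (-1))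
      omega
    have pick : ∀ c : F, (c = 1 ∨ c = -1) → 2 ≤ Module.finrank F (P (-c)) →
        ∃ s : ι₄ → F, sympForm 2 F (X *ᵥ s) s = 0 ∧ ∀ a : F, X *ᵥ s ≠ a • s := by
      intro c hcc hd
      have hc : c * c = 1 := by rcases hcc with rfl | rfl <;> ring
      obtain ⟨v, hv, hv0⟩ := Submodule.exists_mem_ne_zero_of_ne_bot (hnz c hc)
      obtain ⟨L, hL⟩ : ∃ L : P (-c) →ₗ[F] F, ∀ w, L w = sympForm 2 F (w : ι₄ → F) v :=
        ⟨{ toFun := fun w => sympForm 2 F (w : ι₄ → F) v
           map_add' := fun a b => hfs.bilinear.add_left _ _ _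
           map_smul' := fun a w => hfs.bilinear.smul_left _ _ _ }, fun _ => rfl⟩
      have h1 := LinearMap.finrank_range_add_finrank_ker L
      have h3 : Module.finrank F (LinearMap.range L) ≤ 1 := (Submodule.finrank_le _).trans_eq (Module.finrank_self F)
      obtain ⟨w, hw, hw0⟩ := Submodule.exists_mem_ne_zero_of_ne_bot (p := LinearMap.ker L) fun e => by
        rw [e, finrank_bot] at h1; omega
      have hwv : sympForm 2 F (w : ι₄ → F) v = 0 := (hL w).symm.trans hw
      have hXv' := (hmemP c v).mp hv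
      have hXw := (hmemP (-c) _).mp w.2
      refine ⟨v + (w : ι₄ → F), ?_, fun a e => ?_⟩
      · rw [Matrix.mulVec_add, hXv', hXw, hfs.bilinear.add_left, hfs.bilinear.smul_left, hfs.bilinear.smul_left,
          hfs.bilinear.add_right, hfs.bilinear.add_right, hfs.skew v (w : ι₄ → F), hwv, hfs.alternating, hfs.alternating]
        ring
      · have hind : ∀ α β : F, α • v + β • (w : ι₄ → F) = 0 → α = 0 ∧ β = 0 := fun α β h => by
          have h' := congrArg (fun u => X *ᵥ u) h
          simp only [Matrix.mulVec_add, Matrix.mulVec_smul, hXv', hXw, Matrix.mulVec_zero, smul_smul] at h'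
          have h4 := congrArg (fun u => c • u) h'
          simp only [smul_add, smul_smul, smul_zero] at h4
          rw [show c * (α * c) = α by linear_combination α * hc,
            show c * (β * -c) = -β by linear_combination -β * hc] at h4
          have hα : (2 * α) • v = 0 := by
            rw [two_mul, add_smul]
            calc α • v + α • v = (α • v + β • (w : ι₄ → F)) + (α • v + -β • (w : ι₄ → F)) := by rw [neg_smul]; abel
              _ = 0 := by rw [h, h4, add_zero]
          have hα0 : α = 0 := ((mul_eq_zero.mp ((smul_eq_zero.mp hα).resolve_right hv0)).resolve_left h2)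
          rw [hα0, zero_smul, zero_add] at h
          exact ⟨hα0, (smul_eq_zero.mp h).resolve_right fun e => hw0 (Subtype.ext e)⟩
        rw [Matrix.mulVec_add, hXv', hXw, smul_add] at e
        obtain ⟨e1, e2⟩ := hind (c - a) (-c - a) (by
          rw [sub_smul, sub_smul, sub_add_sub_comm, e, sub_self])
        exact h2 (by linear_combination c * e1 - c * e2 - 2 * hc)
    by_cases hd : 2 ≤ Module.finrank F (P (-1))
    · exact pick 1 (Or.inl rfl) hd
    · exact pick (-1) (Or.inr rfl) (by rw [neg_neg]; omega)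
  -- the transvection with that centre
  obtain ⟨g, hg, hgm⟩ := exists_sp_transvection (m := 2) s (1 : F)
  simp only [one_mul] at hgm
  set X' := (((x⁻¹ : R) : GL ι₄ F) : Matrix ι₄ ι₄ F) with hX'
  have hy : (x : GL ι₄ F) * g * (x : GL ι₄ F)⁻¹ * g⁻¹ ∈ R := by
    rw [mul_assoc, mul_assoc]
    refine mul_mem x.2 ?_
    rw [← mul_assoc]
    exact (Subgroup.mem_normalizer_iff.mp (hle hg) _).mp (inv_mem x.2)
  set y := (x : GL ι₄ F) * g * (x : GL ι₄ F)⁻¹ * g⁻¹ with hyd
  have hfs' : ∀ u, sympForm 2 F (X *ᵥ s) s = 0 → sympForm 2 F ((X : Matrix ι₄ ι₄ F) *ᵥ u) (X *ᵥ s) =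
      lam * sympForm 2 F u s := fun u _ => hlam u s
  have hginv : ∀ u, ((g⁻¹ : GL ι₄ F) : Matrix ι₄ ι₄ F) *ᵥ u = u - sympForm 2 F u s • s := fun u => by
    have h : (g : Matrix ι₄ ι₄ F) *ᵥ (u - sympForm 2 F u s • s) = u := by
      rw [hgm, sub_eq_add_neg u, hfs.bilinear.add_left, ← neg_smul, hfs.bilinear.smul_left, hfs.alternating,
        mul_zero, add_zero, add_assoc, ← add_smul, neg_add_cancel, zero_smul, add_zero]
    conv_lhs => rw [← h]
    exact gl_inv_mulVec_cancel g _
  have hxinv : ∀ u, ((x : GL ι₄ F)⁻¹ : GL ι₄ F).val *ᵥ u = X *ᵥ u := fun u => by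
    conv_lhs => rw [← Matrix.one_mulVec u, ← hXX, ← Matrix.mulVec_mulVec]
    exact gl_inv_mulVec_cancel _ _
  have hym : ∀ u, (y : Matrix ι₄ ι₄ F) *ᵥ u = u - sympForm 2 F u s • s +
      ((lam : F) * sympForm 2 F u (X *ᵥ s)) • (X *ᵥ s) := fun u => by
    rw [hyd, gl_mul_mulVec, gl_mul_mulVec, gl_mul_mulVec, hginv, hxinv, hgm, ← hX, Matrix.mulVec_add,
      Matrix.mulVec_mulVec, hXX, Matrix.one_mulVec, Matrix.mulVec_smul]
    congr 2
    have h := hlam (u - sympForm 2 F u s • s) (X *ᵥ s)
    rw [← hX, Matrix.mulVec_mulVec, hXX, Matrix.one_mulVec] at h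
    rw [h, sub_eq_add_neg u, hfs.bilinear.add_left, ← neg_smul, hfs.bilinear.smul_left, hfs.skew s (X *ᵥ s), hsf]
    ring
  obtain ⟨N, hN⟩ : ∃ N : Matrix ι₄ ι₄ F, N = (y : Matrix ι₄ ι₄ F) - 1 := ⟨_, rfl⟩
  have hNv : ∀ u, N *ᵥ u = -(sympForm 2 F u s • s) + ((lam : F) * sympForm 2 F u (X *ᵥ s)) • (X *ᵥ s) := fun u => by
    rw [hN, Matrix.sub_mulVec, hym, Matrix.one_mulVec]; abel
  have hNN : N * N = 0 := Matrix.toLin'.injective (LinearMap.ext fun u => by
    rw [Matrix.toLin'_apply, ← Matrix.mulVec_mulVec, hNv u, Matrix.mulVec_add, Matrix.mulVec_neg, Matrix.mulVec_smul,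
      Matrix.mulVec_smul, hNv, hNv, hfs.alternating, hfs.alternating, hsf, hfs.skew s (X *ᵥ s), hsf]
    simp)
  obtain ⟨e, he⟩ := hR.pGroup ⟨y, hy⟩
  have hpow : ∀ j : ℕ, ((y : Matrix ι₄ ι₄ F)) ^ j = 1 + (j : F) • N := by
    intro j
    induction j with
    | zero => simp
    | succ j ih =>
      rw [pow_succ, ih, show (y : Matrix ι₄ ι₄ F) = 1 + N by rw [hN]; abel, Matrix.add_mul, Matrix.one_mul,
        Matrix.smul_mul, Matrix.mul_add, Matrix.mul_one, hNN, add_zero, Nat.cast_succ, add_smul, one_smul]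
      abel
  have hN0 : N = 0 := by
    have h1 := congrArg (fun z : R => ((z : GL ι₄ F) : Matrix ι₄ ι₄ F)) he
    simp only [SubgroupClass.coe_pow, Units.val_pow_eq_pow_val, Subgroup.coe_one, Units.val_one] at h1
    rw [hpow, add_eq_left, smul_eq_zero, Nat.cast_pow, Nat.cast_ofNat] at h1
    exact h1.resolve_left (pow_ne_zero _ h2)
  obtain ⟨⟨u, hu⟩, -⟩ := hfs.nondegenerate s fun e => hsn 0 (by rw [e]; simp)
  have h := hNv u
  rw [hN0, Matrix.zero_mulVec] at h
  have hs : s = ((sympForm 2 F u s)⁻¹ * ((lam : F) * sympForm 2 F u (X *ᵥ s))) • (X *ᵥ s) := by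
    rw [← smul_smul, ← neg_add_eq_zero.mp h.symm, smul_smul, inv_mul_cancel₀ hu, one_smul]
  set a := (sympForm 2 F u s)⁻¹ * ((lam : F) * sympForm 2 F u (X *ᵥ s))
  by_cases ha : a = 0
  · rw [ha, zero_smul] at hs
    exact hsn 0 (by rw [hs]; simp)
  · refine hsn a⁻¹ ?_
    conv_rhs => rw [hs]
    rw [smul_smul, inv_mul_cancel₀ ha, one_smul]

end Cfsg.Agent.Classical.SpFour
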