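/-
The product of a quaternion group and an orthogonal group of a plane over the field with three elements.
-/
import Cfsg.Agent.Lib.Classical.FormPlaneCube
import Cfsg.Agent.Lib.Classical.SpFourSmall

set_option autoImplicit false
set_option linter.style.haveILetI false
set_option linter.unusedSectionVars false

namespace Cfsg.Agent.Classical.SpFour

open Matrix Cfsg.Geo Cfsg.Agent.Classical
open scoped Kronecker

variable {F : Type*} [Field F]

/-- The Kronecker product of two invertible matrices of degree two. -/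
def kron : GL (Fin 2) F × GL (Fin 2) F →* GL (Fin 2 × Fin 2) F where
  toFun p := ⟨(p.1 : Matrix (Fin 2) (Fin 2) F) ⊗ₖ (p.2 : Matrix (Fin 2) (Fin 2) F),
    ((p.1⁻¹ : GL (Fin 2) F) : Matrix (Fin 2) (Fin 2) F) ⊗ₖ ((p.2⁻¹ : GL (Fin 2) F) : Matrix (Fin 2) (Fin 2) F),
    by rw [← Matrix.mul_kronecker_mul, Units.mul_inv, Units.mul_inv, Matrix.one_kronecker_one],
    by rw [← Matrix.mul_kronecker_mul, Units.inv_mul, Units.inv_mul, Matrix.one_kronecker_one]⟩
  map_one' := Units.ext (by simp)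
  map_mul' a b := Units.ext (by simp [Matrix.mul_kronecker_mul])

theorem kron_coe (a b : GL (Fin 2) F) : ((kron (a, b) : GL (Fin 2 × Fin 2) F) : Matrix (Fin 2 × Fin 2) (Fin 2 × Fin 2) F) =
    (a : Matrix (Fin 2) (Fin 2) F) ⊗ₖ (b : Matrix (Fin 2) (Fin 2) F) := rfl

/-- Isometries of the standard plane. -/
def orthTwo (F : Type*) [Field F] : Subgroup (GL (Fin 2) F) where
  carrier := {d | (d : Matrix (Fin 2) (Fin 2) F)ᵀ * (d : Matrix (Fin 2) (Fin 2) F) = 1}
  one_mem' := by simp
  mul_mem' {a b} ha hb := by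
    simp only [Set.mem_setOf_eq, Units.val_mul, Matrix.transpose_mul] at ha hb ⊢
    rw [Matrix.mul_assoc, ← Matrix.mul_assoc (a : Matrix (Fin 2) (Fin 2) F)ᵀ, ha, Matrix.one_mul, hb]
  inv_mem' {a} ha := by
    simp only [Set.mem_setOf_eq] at ha ⊢
    rw [Units.inv_eq_of_mul_eq_one_left ha, Matrix.transpose_transpose]
    exact mul_eq_one_comm.mp ha

theorem orth_conj_similitude {B d : GL (Fin 2) F} {s : F} (hs : s ≠ 0)
    (hB : (B : Matrix (Fin 2) (Fin 2) F)ᵀ * (B : Matrix (Fin 2) (Fin 2) F) = s • (1 : Matrix (Fin 2) (Fin 2) F))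
    (hd : d ∈ orthTwo F) : B * d * B⁻¹ ∈ orthTwo F := by
  have hinv : ((B⁻¹ : GL (Fin 2) F) : Matrix (Fin 2) (Fin 2) F) = s⁻¹ • (B : Matrix (Fin 2) (Fin 2) F)ᵀ :=
    Units.inv_eq_of_mul_eq_one_left (by rw [Matrix.smul_mul, hB, smul_smul, inv_mul_cancel₀ hs, one_smul])
  change (d : Matrix (Fin 2) (Fin 2) F)ᵀ * (d : Matrix (Fin 2) (Fin 2) F) = 1 at hd
  change _ᵀ * _ = (1 : Matrix (Fin 2) (Fin 2) F)
  simp only [Units.val_mul, hinv, Matrix.transpose_mul, Matrix.transpose_smul, Matrix.transpose_transpose,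
    Matrix.smul_mul, Matrix.mul_smul, smul_smul]
  rw [show (B : Matrix (Fin 2) (Fin 2) F) * ((d : Matrix (Fin 2) (Fin 2) F)ᵀ * (B : Matrix (Fin 2) (Fin 2) F)ᵀ) *
      ((B : Matrix (Fin 2) (Fin 2) F) * d * (B : Matrix (Fin 2) (Fin 2) F)ᵀ) =
      (B : Matrix (Fin 2) (Fin 2) F) * ((d : Matrix (Fin 2) (Fin 2) F)ᵀ *
        ((B : Matrix (Fin 2) (Fin 2) F)ᵀ * B) * d) * (B : Matrix (Fin 2) (Fin 2) F)ᵀ by simp only [Matrix.mul_assoc],
    hB, Matrix.mul_smul, Matrix.mul_one, Matrix.smul_mul, hd, Matrix.mul_smul, Matrix.smul_mul, Matrix.mul_one, smul_smul]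
  have hBB : (B : Matrix (Fin 2) (Fin 2) F) * (B : Matrix (Fin 2) (Fin 2) F)ᵀ = s • (1 : Matrix (Fin 2) (Fin 2) F) := by
    have h := Units.mul_inv B
    rw [hinv, Matrix.mul_smul] at h
    calc (B : Matrix (Fin 2) (Fin 2) F) * (B : Matrix (Fin 2) (Fin 2) F)ᵀ
        = s • (s⁻¹ • ((B : Matrix (Fin 2) (Fin 2) F) * (B : Matrix (Fin 2) (Fin 2) F)ᵀ)) := by
          rw [smul_smul, mul_inv_cancel₀ hs, one_smul]
      _ = _ := by rw [h]
  rw [hBB, smul_smul]
  convert one_smul F (1 : Matrix (Fin 2) (Fin 2) F) using 2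
  field_simp

theorem orth_card_fact : Fintype.card {A : Matrix (Fin 2) (Fin 2) (ZMod 3) // Aᵀ * A = 1} = 8 := by decide

theorem orth_comm_fact : ∀ a b : {A : Matrix (Fin 2) (Fin 2) (ZMod 3) // Aᵀ * A = 1},
    (a.1 * b.1 = b.1 * a.1 ∨ a.1 * b.1 = -(b.1 * a.1)) ∧ (a.1 * a.1 = 1 ∨ a.1 * a.1 = -1) := by decide

/-- A rotation of the plane is a power of the quarter turn. -/
theorem orth_rot_fact : ∀ a : {A : Matrix (Fin 2) (Fin 2) (ZMod 3) // Aᵀ * A = 1},
    (∃ i : Fin 4, a.1 = (!![0, 1; -1, 0] : Matrix (Fin 2) (Fin 2) (ZMod 3)) ^ (i : ℕ)) ∨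
      ((!![1, 1; -1, 1] : Matrix (Fin 2) (Fin 2) (ZMod 3)) * a.1 * !![2, -2; 2, 2] * a.1 ≠
        a.1 * ((!![1, 1; -1, 1] : Matrix (Fin 2) (Fin 2) (ZMod 3)) * a.1 * !![2, -2; 2, 2])) := by
  decide

section three

variable [Fintype F] (hF : Fintype.card F = 3)
include hF

theorem orth_transfer {d : GL (Fin 2) F} (hd : d ∈ orthTwo F) (φ : ZMod 3 ≃+* F) :
    ∃ a : {A : Matrix (Fin 2) (Fin 2) (ZMod 3) // Aᵀ * A = 1}, φ.mapMatrix a.1 = (d : Matrix (Fin 2) (Fin 2) F) := by
  obtain ⟨a, ha⟩ := φ.mapMatrix.surjective (d : Matrix (Fin 2) (Fin 2) F)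
  refine ⟨⟨a, φ.mapMatrix.injective ?_⟩, ha⟩
  rw [map_mul, map_one]
  have e : φ.mapMatrix aᵀ = (φ.mapMatrix a)ᵀ := by ext i j; rfl
  rw [e, ha]
  exact hd

theorem orth_comm {a b : GL (Fin 2) F} (ha : a ∈ orthTwo F) (hb : b ∈ orthTwo F) :
    ((a : Matrix (Fin 2) (Fin 2) F) * b = (b : Matrix (Fin 2) (Fin 2) F) * a ∨
      (a : Matrix (Fin 2) (Fin 2) F) * b = -((b : Matrix (Fin 2) (Fin 2) F) * a)) := by
  obtain ⟨φ⟩ := exists_equiv_three hF
  obtain ⟨x, hx⟩ := orth_transfer hF ha φ
  obtain ⟨y, hy⟩ := orth_transfer hF hb φ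
  rw [← hx, ← hy, ← map_mul, ← map_mul, ← map_neg, φ.mapMatrix.injective.eq_iff, φ.mapMatrix.injective.eq_iff]
  exact (orth_comm_fact x y).1

theorem orth_sq {a : GL (Fin 2) F} (ha : a ∈ orthTwo F) :
    (a : Matrix (Fin 2) (Fin 2) F) * a = 1 ∨ (a : Matrix (Fin 2) (Fin 2) F) * a = -1 := by
  obtain ⟨φ⟩ := exists_equiv_three hF
  obtain ⟨x, hx⟩ := orth_transfer hF ha φ
  rw [← hx, ← map_mul, ← map_one φ.mapMatrix, ← map_neg, φ.mapMatrix.injective.eq_iff, φ.mapMatrix.injective.eq_iff]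
  exact (orth_comm_fact x x).2

theorem card_orthTwo : Nat.card (orthTwo F) = 8 := by
  obtain ⟨φ⟩ := exists_equiv_three hF
  let g : {A : Matrix (Fin 2) (Fin 2) (ZMod 3) // Aᵀ * A = 1} → orthTwo F := fun a =>
    ⟨⟨φ.mapMatrix a.1, φ.mapMatrix a.1ᵀ, by rw [← map_mul, mul_eq_one_comm.mp a.2, map_one],
      by rw [← map_mul, a.2, map_one]⟩, by
        change (φ.mapMatrix a.1)ᵀ * φ.mapMatrix a.1 = 1
        rw [show (φ.mapMatrix a.1)ᵀ = φ.mapMatrix a.1ᵀ by ext i j; rfl, ← map_mul, a.2, map_one]⟩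
  have hg : Function.Bijective g := by
    refine ⟨fun a b h => Subtype.ext (φ.mapMatrix.injective (congrArg (fun z : orthTwo F => ((z : GL (Fin 2) F) : Matrix (Fin 2) (Fin 2) F)) h)), fun d => ?_⟩
    obtain ⟨a, ha⟩ := orth_transfer hF d.2 φ
    exact ⟨a, Subtype.ext (Units.ext ha)⟩
  rw [← Nat.card_eq_of_bijective g hg, Nat.card_eq_fintype_card, orth_card_fact]

/-- A similitude that moves the reflections. -/
def turn : GL (Fin 2) F :=
  ⟨!![1, 1; -1, 1], (2 : F) • !![1, -1; 1, 1], by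
    obtain ⟨φ⟩ := exists_equiv_three hF
    have h3 : (3 : F) = 0 := by
      rw [show (3 : F) = φ 3 from (map_ofNat φ 3).symm, show (3 : ZMod 3) = 0 from rfl, map_zero]
    ext i j; fin_cases i <;> fin_cases j <;> simp <;> linear_combination h3, by
    obtain ⟨φ⟩ := exists_equiv_three hF
    have h3 : (3 : F) = 0 := by
      rw [show (3 : F) = φ 3 from (map_ofNat φ 3).symm, show (3 : ZMod 3) = 0 from rfl, map_zero]
    ext i j; fin_cases i <;> fin_cases j <;> simp <;> linear_combination h3⟩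

theorem orth_dichotomy {d : GL (Fin 2) F} (hd : d ∈ orthTwo F) :
    (∃ i : ℕ, (d : Matrix (Fin 2) (Fin 2) F) = (J2 F) ^ i) ∨ turn hF * d * (turn hF)⁻¹ * d ≠ d * (turn hF * d * (turn hF)⁻¹) := by
  obtain ⟨φ⟩ := exists_equiv_three hF
  obtain ⟨x, hx⟩ := orth_transfer hF hd φ
  rcases orth_rot_fact x with ⟨i, hi⟩ | hne
  · refine Or.inl ⟨i, ?_⟩
    rw [← hx, hi, map_pow]
    congr 1
    ext a b; fin_cases a <;> fin_cases b <;> simp [J2]
  · refine Or.inr fun h => hne (φ.mapMatrix.injective ?_)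
    have h' := congrArg (fun z : GL (Fin 2) F => (z : Matrix (Fin 2) (Fin 2) F)) h
    simp only [Units.val_mul, turn, Units.inv_mk, ← hx] at h'
    have e1 : φ.mapMatrix !![1, 1; -1, 1] = (!![1, 1; -1, 1] : Matrix (Fin 2) (Fin 2) F) := by
      ext a b; fin_cases a <;> fin_cases b <;> simp
    have e2 : φ.mapMatrix !![2, -2; 2, 2] = (2 : F) • (!![1, -1; 1, 1] : Matrix (Fin 2) (Fin 2) F) := by
      ext a b; fin_cases a <;> fin_cases b <;> simp [map_ofNat]
    simp only [map_mul, e1, e2]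
    exact h'

theorem turn_conj {d : GL (Fin 2) F} (hd : d ∈ orthTwo F) : turn hF * d * (turn hF)⁻¹ ∈ orthTwo F := by
  have ht : ((turn hF : GL (Fin 2) F) : Matrix (Fin 2) (Fin 2) F)ᵀ * (turn hF : GL (Fin 2) F) =
      (2 : F) • (1 : Matrix (Fin 2) (Fin 2) F) := by
    ext i j; fin_cases i <;> fin_cases j <;> simp [turn, Matrix.mul_apply, Fin.sum_univ_two] <;> norm_num
  exact orth_conj_similitude (three_two_ne hF) ht hd

variable {ι : Type} [Fintype ι] [DecidableEq ι]

omit hF [Fintype F] in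
/-- Coordinates on the square. -/
def sqIso (e : ι ≃ Fin 2 × Fin 2) (P : GL ι F) : GL (Fin 2 × Fin 2) F ≃* GL ι F :=
  (glReindex e.symm).trans (MulAut.conj P)

omit hF [Fintype F] in
theorem matCoord_sqIso (e : ι ≃ Fin 2 × Fin 2) (P : GL ι F) (g : GL (Fin 2 × Fin 2) F) :
    matCoord e P ((sqIso e P g : GL ι F) : Matrix ι ι F) = (g : Matrix (Fin 2 × Fin 2) (Fin 2 × Fin 2) F) := by
  rw [show ((sqIso e P g : GL ι F) : Matrix ι ι F) = (P : Matrix ι ι F) *
      (g : Matrix (Fin 2 × Fin 2) (Fin 2 × Fin 2) F).submatrix e e * ((P⁻¹ : GL ι F) : Matrix ι ι F) from rfl, matCoord]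
  simp [Matrix.mul_assoc, Matrix.submatrix_submatrix, ← Matrix.mul_assoc ((P⁻¹ : GL ι F) : Matrix ι ι F) (P : Matrix ι ι F)]

/-- The quaternion group times the orthogonal group of a plane, in coordinates. -/
def squareGroup (e : ι ≃ Fin 2 × Fin 2) (P : GL ι F) : Subgroup (GL ι F) :=
  ((quatGroup hF).prod (orthTwo F)).map ((sqIso e P).toMonoidHom.comp kron)

variable {e : ι ≃ Fin 2 × Fin 2} {P : GL ι F}

theorem mem_squareGroup {g : GL ι F} : g ∈ squareGroup hF e P ↔
    ∃ x ∈ quatGroup hF, ∃ d ∈ orthTwo F, sqIso e P (kron (x, d)) = g := by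
  simp only [squareGroup, Subgroup.mem_map, Subgroup.mem_prod, Prod.exists, MonoidHom.comp_apply,
    MulEquiv.toMonoidHom_eq_coe, MonoidHom.coe_coe]
  constructor
  · rintro ⟨x, d, ⟨hx, hd⟩, rfl⟩; exact ⟨x, hx, d, hd, rfl⟩
  · rintro ⟨x, hx, d, hd, rfl⟩; exact ⟨x, d, ⟨hx, hd⟩, rfl⟩

theorem square_comm {g k : GL ι F} (hg : g ∈ squareGroup hF e P) (hk : k ∈ squareGroup hF e P) :
    (g : Matrix ι ι F) * k = (k : Matrix ι ι F) * g ∨ (g : Matrix ι ι F) * k = -((k : Matrix ι ι F) * g) := by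
  obtain ⟨x, hx, d, hd, rfl⟩ := (mem_squareGroup hF).mp hg
  obtain ⟨y, hy, c, hc, rfl⟩ := (mem_squareGroup hF).mp hk
  have key : ∀ M N : Matrix ι ι F, matCoord e P M = matCoord e P N → M = N := fun M N h => matCoord_injective e P h
  have hneg : ∀ M : Matrix ι ι F, matCoord e P (-M) = -matCoord e P M := fun M => by
    rw [← neg_one_smul F M, matCoord_smul, neg_one_smul]
  rcases quat_comm hF hx hy with h1 | h1 <;> rcases orth_comm hF hd hc with h3 | h3
  · refine Or.inl (key _ _ ?_)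
    rw [matCoord_mul, matCoord_mul, matCoord_sqIso, matCoord_sqIso, kron_coe, kron_coe, ← Matrix.mul_kronecker_mul,
      ← Matrix.mul_kronecker_mul, h1, h3]
  · refine Or.inr (key _ _ ?_)
    rw [hneg, matCoord_mul, matCoord_mul, matCoord_sqIso, matCoord_sqIso, kron_coe, kron_coe, ← Matrix.mul_kronecker_mul,
      ← Matrix.mul_kronecker_mul, h1, h3]
    ext; simp
  · refine Or.inr (key _ _ ?_)
    rw [hneg, matCoord_mul, matCoord_mul, matCoord_sqIso, matCoord_sqIso, kron_coe, kron_coe, ← Matrix.mul_kronecker_mul,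
      ← Matrix.mul_kronecker_mul, h1, h3]
    ext; simp
  · refine Or.inl (key _ _ ?_)
    rw [matCoord_mul, matCoord_mul, matCoord_sqIso, matCoord_sqIso, kron_coe, kron_coe, ← Matrix.mul_kronecker_mul,
      ← Matrix.mul_kronecker_mul, h1, h3]
    ext; simp

theorem square_pow_four {g : GL ι F} (hg : g ∈ squareGroup hF e P) : g ^ 4 = 1 := by
  obtain ⟨x, hx, d, hd, rfl⟩ := (mem_squareGroup hF).mp hg
  have h1 : x ^ 4 = 1 := Units.ext (by
    rw [Units.val_pow_eq_pow_val, show 4 = 2 + 2 from rfl, pow_add, pow_two]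
    rcases quat_sq hx with e1 | e1 <;> simp [e1])
  have h3 : d ^ 4 = 1 := Units.ext (by
    rw [Units.val_pow_eq_pow_val, show 4 = 2 + 2 from rfl, pow_add, pow_two]
    rcases orth_sq hF hd with e1 | e1 <;> simp [e1])
  rw [← map_pow, ← map_pow, Prod.pow_mk, h1, h3]
  exact (congrArg _ kron.map_one).trans (map_one _)

theorem square_absIrr : ActsAbsolutelyIrreducibly (matrixSet (squareGroup hF e P)) := by
  refine absIrr_of_adjoin_eq_top (eq_top_iff.mpr fun M _ => ?_)
  set S := Algebra.adjoin F (matrixSet (squareGroup hF e P))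
  let L : Matrix (Fin 2) (Fin 2) F →ₗ[F] Matrix (Fin 2) (Fin 2) F →ₗ[F] Matrix ι ι F :=
    LinearMap.mk₂ F (fun X Y => matLift e P (X ⊗ₖ Y))
      (fun X X' Y => matCoord_injective e P (by
        simp only [matCoord, Matrix.mul_add, Matrix.add_mul, Matrix.submatrix_add, Pi.add_apply]
        rw [← matCoord, ← matCoord, ← matCoord, matCoord_matLift, matCoord_matLift, matCoord_matLift, Matrix.add_kronecker]))
      (fun c X Y => matCoord_injective e P (by
        rw [matCoord_smul, matCoord_matLift, matCoord_matLift, Matrix.smul_kronecker]))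
      (fun X Y Y' => matCoord_injective e P (by
        simp only [matCoord, Matrix.mul_add, Matrix.add_mul, Matrix.submatrix_add, Pi.add_apply]
        rw [← matCoord, ← matCoord, ← matCoord, matCoord_matLift, matCoord_matLift, matCoord_matLift, Matrix.kronecker_add]))
      (fun c X Y => matCoord_injective e P (by
        rw [matCoord_smul, matCoord_matLift, matCoord_matLift, Matrix.kronecker_smul]))
  have hL : ∀ X Y, L X Y = matLift e P (X ⊗ₖ Y) := fun X Y => rfl
  have hmem : ∀ x ∈ quatGroup hF, ∀ d ∈ orthTwo F,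
      L (x : Matrix (Fin 2) (Fin 2) F) (d : Matrix (Fin 2) (Fin 2) F) ∈ Subalgebra.toSubmodule S := by
    intro x hx d hd
    refine Algebra.subset_adjoin (R := F) ?_
    rw [hL, show matLift e P ((x : Matrix (Fin 2) (Fin 2) F) ⊗ₖ (d : Matrix (Fin 2) (Fin 2) F)) =
        ((sqIso e P (kron (x, d)) : GL ι F) : Matrix ι ι F) from matCoord_injective e P (by
          rw [matCoord_matLift, matCoord_sqIso, kron_coe])]
    exact coe_mem_matrixSet ((mem_squareGroup hF).mpr ⟨x, hx, d, hd, rfl⟩)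
  have hX : ∀ X, ∀ d ∈ orthTwo F, L X (d : Matrix (Fin 2) (Fin 2) F) ∈ Subalgebra.toSubmodule S := fun X d hd => by
    have := quat_span hF ((Subalgebra.toSubmodule S).comap (L.flip (d : Matrix (Fin 2) (Fin 2) F)))
      fun x hx => hmem x hx d hd
    have h := (this.symm ▸ Submodule.mem_top : X ∈ (Subalgebra.toSubmodule S).comap (L.flip (d : Matrix (Fin 2) (Fin 2) F)))
    exact h
  have hXY : ∀ X Y, L X Y ∈ Subalgebra.toSubmodule S := fun X Y => by
    have h2 := three_two_ne hF
    have mk : ∀ D : Matrix (Fin 2) (Fin 2) F, Dᵀ * D = 1 → L X D ∈ Subalgebra.toSubmodule S := fun D hD =>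
      hX X ⟨D, Dᵀ, mul_eq_one_comm.mp hD, hD⟩ hD
    have e : Y = ((Y 0 0 + Y 1 1) / 2) • (1 : Matrix (Fin 2) (Fin 2) F) + ((Y 0 1 - Y 1 0) / 2) • J2 F +
        ((Y 0 0 - Y 1 1) / 2) • !![1, 0; 0, -1] + ((Y 0 1 + Y 1 0) / 2) • !![0, 1; 1, 0] := by
      ext i j; fin_cases i <;> fin_cases j <;> simp [J2] <;> field_simp <;> ring
    rw [e]
    simp only [map_add, map_smul]
    refine Submodule.add_mem _ (Submodule.add_mem _ (Submodule.add_mem _ ?_ ?_) ?_) ?_ <;>
      refine Submodule.smul_mem _ _ (mk _ ?_)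
    · simp
    all_goals ext i j; fin_cases i <;> fin_cases j <;> simp [J2, Matrix.mul_apply, Fin.sum_univ_two]
  have hM : M = matLift e P (matCoord e P M) := (matLift_matCoord e P M).symm
  have hdec : matCoord e P M = ∑ p : Fin 2 × Fin 2, ∑ r : Fin 2 × Fin 2,
      matCoord e P M p r • (Matrix.single p.1 r.1 (1 : F) ⊗ₖ Matrix.single p.2 r.2 (1 : F)) := by
    conv_lhs => rw [Matrix.matrix_eq_sum_single (matCoord e P M)]
    refine Finset.sum_congr rfl fun p _ => Finset.sum_congr rfl fun r _ => ?_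
    rw [Matrix.single_kronecker_single, mul_one, Matrix.smul_single, smul_eq_mul, mul_one]
  have hlin : matLift e P (matCoord e P M) = ∑ p : Fin 2 × Fin 2, ∑ r : Fin 2 × Fin 2,
      matCoord e P M p r • L (Matrix.single p.1 r.1 1) (Matrix.single p.2 r.2 1) := by
    refine matCoord_injective e P ?_
    rw [matCoord_matLift]
    let φ : Matrix ι ι F →ₗ[F] Matrix (Fin 2 × Fin 2) (Fin 2 × Fin 2) F :=
      { toFun := matCoord e P
        map_add' := fun A B => by simp [matCoord, Matrix.mul_add, Matrix.add_mul]; rfl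
        map_smul' := fun c A => matCoord_smul e P c A }
    have hφ : ∀ A, φ A = matCoord e P A := fun A => rfl
    conv_lhs => rw [hdec]
    change _ = φ _
    rw [map_sum]
    refine Finset.sum_congr rfl fun p _ => ?_
    rw [map_sum]
    refine Finset.sum_congr rfl fun r _ => ?_
    rw [map_smul, hφ, hL, matCoord_matLift]
  rw [hM, hlin]
  exact Submodule.sum_mem _ fun p _ => Submodule.sum_mem _ fun r _ => Submodule.smul_mem _ _ (hXY _ _)

theorem neg_one_mem_square : (-1 : GL ι F) ∈ squareGroup hF e P := by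
  refine (mem_squareGroup hF).mpr ⟨-1, isQuat_pm (Or.inr rfl), 1, one_mem _, Units.ext (matCoord_injective e P ?_)⟩
  rw [matCoord_sqIso, kron_coe]
  simp only [Units.val_neg, Units.val_one]
  rw [← neg_one_smul F (1 : Matrix ι ι F), matCoord_smul, matCoord_one]
  ext; simp [Matrix.one_apply, Prod.ext_iff]; split_ifs <;> simp_all

theorem card_squareGroup : Nat.card (squareGroup hF e P) = 32 := by
  classical
  let Q := (quatGroup hF).prod (orthTwo F)
  let h : Q →* GL ι F := ((sqIso e P).toMonoidHom.comp kron).comp Q.subtype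
  have hr : h.range = squareGroup hF e P := by
    rw [MonoidHom.range_eq_map, ← Subgroup.map_map, ← MonoidHom.range_eq_map, Subgroup.range_subtype]
    rfl
  have hQ : Nat.card Q = 64 := by
    rw [Nat.card_congr (Subgroup.prodEquiv _ _).toEquiv, Nat.card_prod, card_quatGroup, card_orthTwo hF]
  have hne : (-1 : GL (Fin 2) F) ≠ 1 := fun e1 => by
    have := congrArg (fun g : GL (Fin 2) F => (g : Matrix (Fin 2) (Fin 2) F) 0 0) e1
    simp only [Units.val_neg, Units.val_one, Matrix.neg_apply, Matrix.one_apply_eq] at this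
    exact three_two_ne hF (by linear_combination -this)
  have hmn : ((-1 : GL (Fin 2) F), (-1 : GL (Fin 2) F)) ∈ Q :=
    ⟨isQuat_pm (Or.inr rfl), by simp [orthTwo]⟩
  have hker : Nat.card h.ker = 2 := by
    have hset : ∀ z : Q, z ∈ h.ker ↔ z ∈ ({1, ⟨_, hmn⟩} : Finset Q) := fun z => by
      rw [MonoidHom.mem_ker, Finset.mem_insert, Finset.mem_singleton]
      constructor
      · intro hz
        obtain ⟨⟨x, d⟩, hx, hd⟩ := z
        have hk : (x : Matrix (Fin 2) (Fin 2) F) ⊗ₖ (d : Matrix (Fin 2) (Fin 2) F) = 1 := by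
          have h1 : sqIso e P (kron (x, d)) = 1 := hz
          rw [MulEquiv.map_eq_one_iff] at h1
          exact congrArg Units.val h1
        have hk' : ∀ a a' b b', (x : Matrix (Fin 2) (Fin 2) F) a a' * (d : Matrix (Fin 2) (Fin 2) F) b b' =
            if a = a' ∧ b = b' then 1 else 0 := fun a a' b b' => by
          have := congrFun (congrFun hk (a, b)) (a', b')
          simpa [Matrix.one_apply, Prod.ext_iff] using this
        have hd0 : (d : Matrix (Fin 2) (Fin 2) F) 0 0 ≠ 0 := fun e0 => by simpa [e0] using hk' 0 0 0 0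
        set l := (x : Matrix (Fin 2) (Fin 2) F) 0 0 with hl
        have hxl : (x : Matrix (Fin 2) (Fin 2) F) = l • (1 : Matrix (Fin 2) (Fin 2) F) := by
          ext a a'
          refine mul_right_cancel₀ hd0 ?_
          rw [hk', Matrix.smul_apply, smul_eq_mul, Matrix.one_apply, hl]
          by_cases h : a = a' <;> simp [h, hk']
        have hll : l * l = 1 := by
          have h := hx.1
          rw [hxl, Matrix.det_smul, Matrix.det_one, Fintype.card_fin, mul_one, pow_two] at h
          exact h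
        have hdl : (d : Matrix (Fin 2) (Fin 2) F) = l • (1 : Matrix (Fin 2) (Fin 2) F) := by
          ext b b'
          have h := hk' 0 0 b b'
          rw [← hl] at h
          rw [Matrix.smul_apply, smul_eq_mul, Matrix.one_apply]
          have h' := congrArg (fun t => l * t) h
          simp only [← mul_assoc, hll, one_mul] at h'
          rw [h']
          by_cases hb : b = b' <;> simp [hb]
        rcases mul_self_eq_one_iff.mp hll with e1 | e1
        · exact Or.inl (Subtype.ext (Prod.ext (Units.ext (by simp [hxl, e1])) (Units.ext (by simp [hdl, e1]))))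
        · exact Or.inr (Subtype.ext (Prod.ext (Units.ext (by simp [hxl, e1])) (Units.ext (by simp [hdl, e1]))))
      · rintro (rfl | rfl)
        · exact h.map_one
        · refine (MulEquiv.map_eq_one_iff (sqIso e P) (x := kron ((-1 : GL (Fin 2) F), (-1 : GL (Fin 2) F)))).mpr (Units.ext ?_)
          rw [kron_coe, Units.val_one]
          ext; simp [Matrix.one_apply, Prod.ext_iff]; split_ifs <;> simp_all
    rw [Nat.card_congr (Equiv.subtypeEquivRight hset), Nat.card_eq_fintype_card, Fintype.card_coe, Finset.card_pair]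
    exact fun h1 => hne (congrArg (fun z : Q => z.1.1) h1).symm
  have hmul := Subgroup.index_mul_card h.ker
  rw [Subgroup.index_ker, hker, hQ, hr] at hmul
  omega

theorem card_center_square : Nat.card (Subgroup.center (squareGroup hF e P)) = 2 := by
  classical
  have i : ι := e.symm (0, 0)
  have hset : ∀ g : squareGroup hF e P, g ∈ Subgroup.center (squareGroup hF e P) ↔
      g ∈ ({1, ⟨-1, neg_one_mem_square hF⟩} : Finset (squareGroup hF e P)) := fun g => by
    rw [Finset.mem_insert, Finset.mem_singleton]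
    constructor
    · intro hg
      obtain ⟨c, hc⟩ := (mem_scalars_iff _).mp (mem_scalars_of_absIrr (square_absIrr hF (e := e) (P := P)) fun y hy =>
        (congrArg Subtype.val (Subgroup.mem_center_iff.mp hg ⟨y, hy⟩)).symm : (g : GL ι F) ∈ scalars ι F)
      obtain ⟨φ⟩ := exists_equiv_three hF
      obtain ⟨a, ha⟩ := φ.surjective (c : F)
      have key : ∀ a : ZMod 3, a = 0 ∨ a = 1 ∨ a = -1 := by decide
      rcases key a with rfl | rfl | rfl
      · exact absurd (ha.symm.trans (map_zero φ)) c.ne_zero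
      · rw [map_one] at ha
        exact Or.inl (Subtype.ext (Units.ext (by rw [hc, ← ha, one_smul]; rfl)))
      · rw [map_neg, map_one] at ha
        exact Or.inr (Subtype.ext (Units.ext (by rw [hc, ← ha, neg_smul, one_smul]; rfl)))
    · rintro (rfl | rfl)
      · exact one_mem _
      · exact Subgroup.mem_center_iff.mpr fun y => Subtype.ext (by simp)
  rw [Nat.card_congr (Equiv.subtypeEquivRight hset), Nat.card_eq_fintype_card, Fintype.card_coe, Finset.card_pair]
  intro h
  have := congrArg (fun z : squareGroup hF e P => ((z : GL ι F) : Matrix ι ι F) i i) h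
  simp only [OneMemClass.coe_one, Units.val_neg, Units.val_one, Matrix.neg_apply, Matrix.one_apply_eq] at this
  exact three_two_ne hF (by linear_combination this)

/-- A pure tensor preserving the form normalises the square group. -/
theorem tensor_normalises {g : GL ι F} {A B : GL (Fin 2) F} {s : F} (hs : s ≠ 0)
    (hB : (B : Matrix (Fin 2) (Fin 2) F)ᵀ * (B : Matrix (Fin 2) (Fin 2) F) = s • (1 : Matrix (Fin 2) (Fin 2) F))
    (hg : matCoord e P (g : Matrix ι ι F) = (A : Matrix (Fin 2) (Fin 2) F) ⊗ₖ (B : Matrix (Fin 2) (Fin 2) F)) :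
    g ∈ subgroupNormalizer (squareGroup hF e P) := by
  classical
  obtain rfl : g = sqIso e P (kron (A, B)) :=
    Units.ext (matCoord_injective e P (by rw [hg, matCoord_sqIso, kron_coe]))
  refine Subgroup.mem_normalizer_fintype fun y hy => ?_
  obtain ⟨x, hx, d, hd, rfl⟩ := (mem_squareGroup hF).mp hy
  refine (mem_squareGroup hF).mpr ⟨A * x * A⁻¹, quat_conj_mem hF hx A, B * d * B⁻¹, orth_conj_similitude hs hB hd, ?_⟩
  rw [← map_inv, ← map_inv, ← map_mul, ← map_mul, ← map_mul, ← map_mul]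
  rfl

/-- The square group has symplectic type. -/
theorem square_symplecticType : IsSymplecticTypeGroup 2 (squareGroup hF e P) := by
  classical
  have hmk : ∀ x ∈ quatGroup hF, ∀ d ∈ orthTwo F, sqIso e P (kron (x, d)) ∈ squareGroup hF e P :=
    fun x hx d hd => (mem_squareGroup hF).mpr ⟨x, hx, d, hd, rfl⟩
  refine ⟨Nat.prime_two, fun g => ⟨2, Subtype.ext (square_pow_four hF g.2)⟩, fun A hA hcomm => ?_, ?_⟩
  · haveI := hcomm
    have hA2 : ∀ a ∈ A, ∀ b ∈ A, ((a : squareGroup hF e P) : GL ι F) * (b : GL ι F) = (b : GL ι F) * a :=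
      fun a ha b hb => congrArg (fun z : A => ((z : squareGroup hF e P) : GL ι F)) (mul_comm' (⟨a, ha⟩ : A) ⟨b, hb⟩)
    -- conjugation by a tensor keeps `A`
    have hconj : ∀ (T S : GL (Fin 2) F) (s : F), s ≠ 0 →
        (S : Matrix (Fin 2) (Fin 2) F)ᵀ * (S : Matrix (Fin 2) (Fin 2) F) = s • (1 : Matrix (Fin 2) (Fin 2) F) →
        ∀ a : squareGroup hF e P, a ∈ A → ∃ b ∈ A, (b : GL ι F) =
          sqIso e P (kron (T, S)) * (a : GL ι F) * (sqIso e P (kron (T, S)))⁻¹ := by
      intro T S s hs hS a ha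
      have hn : sqIso e P (kron (T, S)) ∈ subgroupNormalizer (squareGroup hF e P) :=
        tensor_normalises hF hs hS (by rw [matCoord_sqIso, kron_coe])
      set N := sqIso e P (kron (T, S))
      let α : squareGroup hF e P ≃* squareGroup hF e P :=
        { toFun := fun g => ⟨N * g * N⁻¹, (Subgroup.mem_normalizer_iff.mp hn _).mp g.2⟩
          invFun := fun g => ⟨N⁻¹ * g * N, (Subgroup.mem_normalizer_iff.mp hn _).mpr (by
            rw [show N * (N⁻¹ * (g : GL ι F) * N) * N⁻¹ = g by group]; exact g.2)⟩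
          left_inv := fun g => Subtype.ext (by group)
          right_inv := fun g => Subtype.ext (by group)
          map_mul' := fun g k => Subtype.ext (by simp [mul_assoc]) }
      refine ⟨α a, ?_, rfl⟩
      have := hA.fixed α
      exact Subgroup.mem_comap.mp (this.symm ▸ ha : a ∈ A.comap α.toMonoidHom)
    have hone : ((1 : GL (Fin 2) F) : Matrix (Fin 2) (Fin 2) F)ᵀ * ((1 : GL (Fin 2) F) : Matrix (Fin 2) (Fin 2) F) =
        (1 : F) • (1 : Matrix (Fin 2) (Fin 2) F) := by simp
    have hturn : ((turn hF : GL (Fin 2) F) : Matrix (Fin 2) (Fin 2) F)ᵀ * (turn hF : GL (Fin 2) F) =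
        (2 : F) • (1 : Matrix (Fin 2) (Fin 2) F) := by
      ext i j; fin_cases i <;> fin_cases j <;> simp [turn, Matrix.mul_apply, Fin.sum_univ_two] <;> norm_num
    have hinj : ∀ {x y : GL (Fin 2) F}, sqIso e P (kron (x, 1)) = sqIso e P (kron (y, 1)) → x = y := by
      intro x y h
      refine Units.ext (Matrix.ext fun i j => ?_)
      have := congrFun (congrFun (congrArg (fun z : GL (Fin 2 × Fin 2) F => (z : Matrix (Fin 2 × Fin 2) (Fin 2 × Fin 2) F)) ((sqIso e P).injective h)) (i, 0)) (j, 0)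
      simpa [kron_coe] using this
    have hinj' : ∀ {x y : GL (Fin 2) F}, sqIso e P (kron (1, x)) = sqIso e P (kron (1, y)) → x = y := by
      intro x y h
      refine Units.ext (Matrix.ext fun i j => ?_)
      have := congrFun (congrFun (congrArg (fun z : GL (Fin 2 × Fin 2) F => (z : Matrix (Fin 2 × Fin 2) (Fin 2 × Fin 2) F)) ((sqIso e P).injective h)) (0, i)) (0, j)
      simpa [kron_coe] using this
    -- the first factor of an element of `A` is plus or minus one
    have hfirst : ∀ a ∈ A, ∀ x ∈ quatGroup hF, ∀ d ∈ orthTwo F, (a : GL ι F) = sqIso e P (kron (x, d)) →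
        (x : Matrix (Fin 2) (Fin 2) F) = 1 ∨ (x : Matrix (Fin 2) (Fin 2) F) = -1 := by
      intro a ha x hx d hd hax
      by_contra hpm
      obtain ⟨b, hb, hbv⟩ := hconj (unitU F) 1 1 one_ne_zero hone a ha
      set q := unitU F * x * (unitU F)⁻¹ * x⁻¹ with hq
      have hqQ : q ∈ quatGroup hF := mul_mem (quat_conj_mem hF hx _) (inv_mem hx)
      have hc : b * a⁻¹ ∈ A := mul_mem hb (inv_mem ha)
      have hcv : ((b * a⁻¹ : squareGroup hF e P) : GL ι F) = sqIso e P (kron (q, 1)) := by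
        rw [Subgroup.coe_mul, Subgroup.coe_inv, hbv, hax, ← map_inv, ← map_inv, ← map_inv, ← map_inv, ← map_mul,
          ← map_mul, ← map_mul, ← map_mul, ← map_mul, ← map_mul]
        refine congrArg _ (congrArg _ (Prod.ext ?_ ?_))
        · simp [hq]
        · simp
      obtain ⟨c, hc2, hcv2⟩ := hconj (unitU F) 1 1 one_ne_zero hone _ hc
      have hqpm : ¬ ((q : Matrix (Fin 2) (Fin 2) F) = 1 ∨ (q : Matrix (Fin 2) (Fin 2) F) = -1) := fun h => by
        refine quat_conj_noncomm hF hx hpm ?_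
        have e1 : unitU F * x * (unitU F)⁻¹ = q * x := by rw [hq, inv_mul_cancel_right]
        rw [e1]
        rcases h with h | h
        · rw [show q = 1 from Units.ext h]; simp
        · rw [show q = -1 from Units.ext h]; simp
      refine quat_conj_noncomm hF hqQ hqpm (hinj ?_)
      have := hA2 _ hc2 _ hc
      rw [hcv2, hcv, ← map_inv, ← map_inv, ← map_mul, ← map_mul, ← map_mul, ← map_mul, ← map_mul, ← map_mul,
        ← map_mul, ← map_mul] at this
      simpa using this
    have hsec : ∀ a ∈ A, ∃ i : ℕ, ((a : squareGroup hF e P) : GL ι F) =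
        (sqIso e P (kron (1, Matrix.GeneralLinearGroup.mkOfDetNeZero (J2 F) (by rw [J2_det]; exact one_ne_zero)))) ^ i := by
      intro a ha
      obtain ⟨x, hx, d, hd, hax⟩ := (mem_squareGroup hF).mp a.2
      -- absorb the sign
      obtain ⟨d', hd', hax'⟩ : ∃ d' ∈ orthTwo F, sqIso e P (kron (1, d')) = (a : GL ι F) := by
        rcases hfirst a ha x hx d hd hax.symm with h | h
        · exact ⟨d, hd, by rw [← hax, show x = 1 from Units.ext h]⟩
        · refine ⟨-d, ?_, ?_⟩
          · change _ᵀ * _ = (1 : Matrix (Fin 2) (Fin 2) F)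
            rw [Units.val_neg, Matrix.transpose_neg, Matrix.neg_mul, Matrix.mul_neg, neg_neg]
            exact hd
          · rw [← hax, show x = -1 from Units.ext h]
            exact congrArg _ (Units.ext (by rw [kron_coe, kron_coe]; ext; simp))
      rcases orth_dichotomy hF hd' with ⟨i, hi⟩ | hne
      · refine ⟨i, ?_⟩
        rw [← hax', ← map_pow, ← map_pow, Prod.pow_mk, one_pow]
        refine congrArg _ (congrArg _ (Prod.ext rfl (Units.ext ?_)))
        rw [Units.val_pow_eq_pow_val, hi]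
        rfl
      · exfalso
        obtain ⟨b, hb, hbv⟩ := hconj 1 (turn hF) 2 (three_two_ne hF) hturn a ha
        refine hne (hinj' ?_)
        have := hA2 _ hb _ ha
        rw [hbv, ← hax', ← map_inv, ← map_inv, ← map_mul, ← map_mul, ← map_mul, ← map_mul, ← map_mul, ← map_mul,
          ← map_mul, ← map_mul] at this
        simpa using this
    have hJ : Matrix.GeneralLinearGroup.mkOfDetNeZero (J2 F) (by rw [J2_det]; exact one_ne_zero) ∈ orthTwo F := by
      change (J2 F)ᵀ * J2 F = 1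
      ext i j; fin_cases i <;> fin_cases j <;> simp [J2, Matrix.mul_apply, Fin.sum_univ_two]
    set z : squareGroup hF e P := ⟨_, hmk 1 (one_mem _) _ hJ⟩
    have hle : A ≤ Subgroup.zpowers z := fun a ha => by
      obtain ⟨i, hi⟩ := hsec a ha
      exact ⟨i, Subtype.ext (by simpa [z] using hi.symm)⟩
    exact isCyclic_of_injective (Subgroup.inclusion hle) (Subgroup.inclusion_injective hle)
  · change Monoid.exponent (squareGroup hF e P) = 2 * Nat.gcd 2 2
    rw [Nat.gcd_self]
    have hd : Monoid.exponent (squareGroup hF e P) ∣ 2 ^ 2 :=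
      Monoid.exponent_dvd_of_forall_pow_eq_one fun g => Subtype.ext (square_pow_four hF g.2)
    obtain ⟨k, hk, hk'⟩ := (Nat.dvd_prime_pow Nat.prime_two).mp hd
    interval_cases k
    all_goals first | exact hk' | skip
    all_goals
      exfalso
      have hdvd : Monoid.exponent (squareGroup hF e P) ∣ 2 := by rw [hk']; norm_num
      let jj : GL (Fin 2) F := Matrix.GeneralLinearGroup.mkOfDetNeZero (J2 F) (by rw [J2_det]; exact one_ne_zero)
      have hm : sqIso e P (kron (jj, 1)) ∈ squareGroup hF e P :=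
        hmk jj ⟨J2_det, Or.inl (by simp [jj, J2, Matrix.trace_fin_two])⟩ 1 (one_mem _)
      have h1 := congrArg Subtype.val (Monoid.exponent_dvd_iff_forall_pow_eq_one.mp hdvd ⟨_, hm⟩)
      simp only [SubgroupClass.coe_pow, OneMemClass.coe_one] at h1
      rw [← map_pow, ← map_pow, MulEquiv.map_eq_one_iff] at h1
      have h3 := congrFun (congrFun (congrArg (fun z : GL (Fin 2 × Fin 2) F => (z : Matrix (Fin 2 × Fin 2) (Fin 2 × Fin 2) F)) h1) (0, 0)) (0, 0)
      simp [kron, jj, pow_two, J2, Matrix.GeneralLinearGroup.mkOfDetNeZero, Matrix.mul_apply] at h3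
      exact three_two_ne hF (by linear_combination -h3)

theorem square_fixes {f : (ι → F) → (ι → F) → F} (hf : ∀ g : GL ι F, ∀ A B : GL (Fin 2) F,
      matCoord e P (g : Matrix ι ι F) = (A : Matrix (Fin 2) (Fin 2) F) ⊗ₖ (B : Matrix (Fin 2) (Fin 2) F) →
      (A : Matrix (Fin 2) (Fin 2) F).det = 1 →
      (B : Matrix (Fin 2) (Fin 2) F)ᵀ * (B : Matrix (Fin 2) (Fin 2) F) = 1 →
      ∀ u v, f ((g : Matrix ι ι F) *ᵥ u) ((g : Matrix ι ι F) *ᵥ v) = f u v) :
    FixesForm (matrixSet (squareGroup hF e P)) f := by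
  rintro _ ⟨g, hg, rfl⟩
  obtain ⟨x, hx, d, hd, rfl⟩ := (mem_squareGroup hF).mp hg
  exact hf _ x d (by rw [matCoord_sqIso, kron_coe]) hx.1 hd

end three

end Cfsg.Agent.Classical.SpFour
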