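/-
The exceptions of the symplectic group in dimension four over the field with three elements.
-/
import Cfsg.Agent.Lib.Classical.SpFourThree
import Cfsg.Agent.Lib.Classical.DecompFamily

set_option autoImplicit false
set_option linter.style.haveILetI false
set_option linter.unusedSectionVars false

namespace Cfsg.Agent.Classical.SpFour

open Matrix Cfsg.Geo Cfsg.Agent.Classical
open scoped Kronecker

local notation "ι₄" => Fin 2 ⊕ Fin 2

variable {F : Type*} [Field F] [Fintype F]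

/-- Over three elements the stabiliser of two complementary totally isotropic planes fixes two orthogonal planes. -/
theorem planes_of_ts_pair (hF : Fintype.card F = 3) {D : Fin 2 → Submodule F (ι₄ → F)} (hD : IsMDecomposition 2 D)
    (hts : ∀ i, IsTotallySingularFor (sympForm 2 F) (D i)) :
    ∃ D' : Fin 2 → Submodule F (ι₄ → F), IsNondegenerateMDecomposition (sympForm 2 F) 2 D' ∧
      decompositionStabilizer D ⊓ spGL 2 F ≤ decompositionStabilizer D' := by
  classical
  have h2 := three_two_ne hF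
  have hfs := sympForm_isSymplectic (m := 2) (F := F)
  have hf := reflexForm_of_symplectic hfs
  obtain ⟨φ⟩ := exists_equiv_three hF
  have hunit : ∀ d : F, d ≠ 0 → d * d = 1 := fun d hd => by
    obtain ⟨a, rfl⟩ := φ.surjective d
    have key : ∀ a : ZMod 3, a = 0 ∨ a * a = 1 := by decide
    rcases key a with h | h
    · exact absurd (by rw [h, map_zero]) hd
    · rw [← map_mul, h, map_one]
  set f := sympForm 2 F with hfdef
  let bE := Module.finBasisOfFinrankEq F (D 0) (hD.finrank_eq 0)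
  let E : Fin 2 → ι₄ → F := fun i => (bE i : ι₄ → F)
  have hE : ∀ i, E i ∈ D 0 := fun i => (bE i).2
  have hEs : ∀ v ∈ D 0, ∃ x y : F, v = x • E 0 + y • E 1 := fun v hv => by
    have h := congrArg Subtype.val (bE.sum_repr ⟨v, hv⟩)
    rw [Fin.sum_univ_two] at h
    exact ⟨_, _, h.symm⟩
  have hneg : ∀ u v, f u (-v) = -f u v := fun u v => by
    rw [← neg_one_smul F v, hfs.bilinear.smul_right, neg_one_mul]
  have hnegl : ∀ u v, f (-u) v = -f u v := fun u v => by
    rw [← neg_one_smul F u, hfs.bilinear.smul_left, neg_one_mul]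
  have hsup : ∀ v : ι₄ → F, ∃ a ∈ D 0, ∃ b ∈ D 1, v = a + b := fun v => by
    have hv : v ∈ D 0 ⊔ D 1 := by
      have h : iSup D ≤ D 0 ⊔ D 1 := iSup_le fun i => by
        fin_cases i
        exacts [le_sup_left, le_sup_right]
      exact h (hD.iSup_eq_top ▸ Submodule.mem_top)
    obtain ⟨a, ha, b, hb, e⟩ := Submodule.mem_sup.mp hv
    exact ⟨a, ha, b, hb, e.symm⟩
  let L : D 1 →ₗ[F] (Fin 2 → F) :=
    { toFun := fun y i => f (E i) (y : ι₄ → F)
      map_add' := fun a b => funext fun i => hfs.bilinear.add_right _ _ _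
      map_smul' := fun c a => funext fun i => hfs.bilinear.smul_right _ _ _ }
  have hLi : Function.Injective L := (injective_iff_map_eq_zero L).mpr fun y hy => by
    by_contra hy0
    obtain ⟨⟨x, hx⟩, -⟩ := hfs.nondegenerate (y : ι₄ → F) fun e => hy0 (Subtype.ext e)
    obtain ⟨a, ha, b, hb, rfl⟩ := hsup x
    obtain ⟨s, t, rfl⟩ := hEs a ha
    rw [hfs.bilinear.add_left, hts 1 b hb _ y.2, add_zero, hfs.bilinear.add_left, hfs.bilinear.smul_left,
      hfs.bilinear.smul_left, show f (E 0) y = 0 from congrFun hy 0, show f (E 1) y = 0 from congrFun hy 1] at hx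
    simp at hx
  have hLs : Function.Surjective L := (LinearMap.injective_iff_surjective_of_finrank_eq_finrank
    (by rw [hD.finrank_eq, Module.finrank_fin_fun])).mp hLi
  choose T hT using fun j : Fin 2 => hLs (Pi.single j 1)
  let G : Fin 2 → ι₄ → F := fun j => (T j : ι₄ → F)
  have hG : ∀ j, G j ∈ D 1 := fun j => (T j).2
  have hEG : ∀ i j, f (E i) (G j) = if i = j then 1 else 0 := fun i j => by
    have := congrFun (hT j) i
    rw [Pi.single_apply] at this
    exact this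
  have hGE : ∀ i j, f (G j) (E i) = -(if i = j then 1 else 0) := fun i j => by rw [hfs.skew, hEG]
  have hEE : ∀ i j, f (E i) (E j) = 0 := fun i j => hts 0 _ (hE i) _ (hE j)
  have hGG : ∀ i j, f (G i) (G j) = 0 := fun i j => hts 1 _ (hG i) _ (hG j)
  have hGs : ∀ v ∈ D 1, v = f (E 0) v • G 0 + f (E 1) v • G 1 := fun v hv => by
    have h : (⟨v, hv⟩ : D 1) = f (E 0) v • T 0 + f (E 1) v • T 1 := hLi (by
      rw [map_add, map_smul, map_smul, hT, hT]
      funext i; fin_cases i <;> simp [L])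
    exact congrArg Subtype.val h
  let b : Fin 2 × Fin 2 → ι₄ → F := fun x =>
    ![![E 0 + G 1, E 1 - G 0], ![E 1 + G 0, E 0 - G 1]] x.1 x.2
  have hD' := hf.nondeg_decomp_of_family (t := 2) (k := 2) le_rfl two_pos (by simp) b
    (G := !![0, -2; 2, 0]) (by simpa [Matrix.det_fin_two] using h2) fun x y => by
      obtain ⟨x1, x2⟩ := x
      obtain ⟨y1, y2⟩ := y
      fin_cases x1 <;> fin_cases x2 <;> fin_cases y1 <;> fin_cases y2 <;>
        simp [b, sub_eq_add_neg, hneg, hnegl, hfs.bilinear.add_left,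
          hfs.bilinear.add_right, hfs.bilinear.smul_left, hfs.bilinear.smul_right, hEE, hGG, hEG, hGE] <;> ring
  refine ⟨blockSpan b, hD', ?_⟩
  rintro g ⟨⟨π, hπ⟩, hg⟩
  have hgf : ∀ u v, f ((g : Matrix ι₄ ι₄ F) *ᵥ u) ((g : Matrix ι₄ ι₄ F) *ᵥ v) = f u v := fun u v => hg u v
  -- the twisted graph with slope `c`
  have hgraph : ∀ c : F, c * c = 1 → ∃ i, ∀ x y : F, x • (E 0 + c • G 1) + y • (E 1 - c • G 0) ∈ blockSpan b i := by
    intro c hc
    rcases mul_self_eq_one_iff.mp hc with rfl | rfl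
    · refine ⟨0, fun x y => ?_⟩
      rw [one_smul, one_smul]
      exact Submodule.add_mem _ (Submodule.smul_mem _ _ (mem_blockSpan b 0 0)) (Submodule.smul_mem _ _ (mem_blockSpan b 0 1))
    · refine ⟨1, fun x y => ?_⟩
      rw [neg_one_smul, neg_one_smul, sub_neg_eq_add, ← sub_eq_add_neg, add_comm (x • (E 0 - G 1))]
      exact Submodule.add_mem _ (Submodule.smul_mem _ _ (mem_blockSpan b 1 0)) (Submodule.smul_mem _ _ (mem_blockSpan b 1 1))
  have hgD : ∀ i, ∀ v ∈ D i, (g : Matrix ι₄ ι₄ F) *ᵥ v ∈ D (π i) := fun i v hv => by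
    rw [← hπ]; exact ⟨v, hv, Matrix.toLin'_apply _ _⟩
  suffices key : ∀ c : F, c * c = 1 → ∃ c' : F, c' * c' = 1 ∧
      (∃ x y : F, (g : Matrix ι₄ ι₄ F) *ᵥ (E 0 + c • G 1) = x • (E 0 + c' • G 1) + y • (E 1 - c' • G 0)) ∧
      ∃ x y : F, (g : Matrix ι₄ ι₄ F) *ᵥ (E 1 - c • G 0) = x • (E 0 + c' • G 1) + y • (E 1 - c' • G 0) by
    refine mem_stabilizer_of_family hD'.decomp fun i => ?_
    fin_cases i
    · obtain ⟨c', hc', ⟨x, y, h0⟩, x', y', h1⟩ := key 1 (one_mul _)
      obtain ⟨k, hk⟩ := hgraph c' hc'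
      refine ⟨k, fun j => ?_⟩
      fin_cases j
      · change (g : Matrix ι₄ ι₄ F) *ᵥ (E 0 + G 1) ∈ _
        rw [← one_smul F (G 1), h0]; exact hk _ _
      · change (g : Matrix ι₄ ι₄ F) *ᵥ (E 1 - G 0) ∈ _
        rw [← one_smul F (G 0), h1]; exact hk _ _
    · obtain ⟨c', hc', ⟨x, y, h0⟩, x', y', h1⟩ := key (-1) (by ring)
      obtain ⟨k, hk⟩ := hgraph c' hc'
      refine ⟨k, fun j => ?_⟩
      fin_cases j
      · change (g : Matrix ι₄ ι₄ F) *ᵥ (E 1 + G 0) ∈ _
        rw [show E 1 + G 0 = E 1 - (-1 : F) • G 0 by rw [neg_one_smul, sub_neg_eq_add], h1]; exact hk _ _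
      · change (g : Matrix ι₄ ι₄ F) *ᵥ (E 0 - G 1) ∈ _
        rw [show E 0 - G 1 = E 0 + (-1 : F) • G 1 by rw [neg_one_smul, ← sub_eq_add_neg], h0]; exact hk _ _
  intro c hc
  have hcase : π 0 = 0 ∧ π 1 = 1 ∨ π 0 = 1 ∧ π 1 = 0 := by
    have h01 : π 0 ≠ π 1 := fun e => absurd (π.injective e) (by decide)
    rcases Fin.exists_fin_two.mp ⟨π 0, rfl⟩ with h | h <;> rcases Fin.exists_fin_two.mp ⟨π 1, rfl⟩ with h' | h' <;>
      rw [h, h'] at h01 ⊢ <;> simp at h01 ⊢
  have h00 := hgf (E 0) (G 0)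
  have h01' := hgf (E 0) (G 1)
  have h10 := hgf (E 1) (G 0)
  have h11 := hgf (E 1) (G 1)
  rcases hcase with ⟨p0, p1⟩ | ⟨p0, p1⟩
  · obtain ⟨a00, a10, e0⟩ : ∃ x y : F, (g : Matrix ι₄ ι₄ F) *ᵥ E 0 = x • E 0 + y • E 1 :=
      hEs _ (by have := hgD 0 _ (hE 0); rwa [p0] at this)
    obtain ⟨a01, a11, e1⟩ : ∃ x y : F, (g : Matrix ι₄ ι₄ F) *ᵥ E 1 = x • E 0 + y • E 1 :=
      hEs _ (by have := hgD 0 _ (hE 1); rwa [p0] at this)
    obtain ⟨b00, b10, g0⟩ : ∃ x y : F, (g : Matrix ι₄ ι₄ F) *ᵥ G 0 = x • G 0 + y • G 1 :=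
      ⟨_, _, hGs _ (by have := hgD 1 _ (hG 0); rwa [p1] at this)⟩
    obtain ⟨b01, b11, g1⟩ : ∃ x y : F, (g : Matrix ι₄ ι₄ F) *ᵥ G 1 = x • G 0 + y • G 1 :=
      ⟨_, _, hGs _ (by have := hgD 1 _ (hG 1); rwa [p1] at this)⟩
    simp only [e0, e1, g0, g1, hfs.bilinear.add_left, hfs.bilinear.add_right, hfs.bilinear.smul_left,
      hfs.bilinear.smul_right, hEG] at h00 h01' h10 h11
    simp at h00 h01' h10 h11
    set d := a00 * a11 - a10 * a01 with hd
    have hB : b00 * d = a11 ∧ b10 * d = -a01 ∧ b01 * d = -a10 ∧ b11 * d = a00 :=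
      ⟨by linear_combination a11 * h00 - a10 * h10, by linear_combination a00 * h10 - a01 * h00,
        by linear_combination a11 * h01' - a10 * h11, by linear_combination a00 * h11 - a01 * h01'⟩
    have hdd : d * d = 1 := hunit d fun e => by
      rw [e] at hB
      obtain ⟨q0, q1, q2, q3⟩ := hB
      exact one_ne_zero (α := F) (by linear_combination -h00 - b00 * q3 + b10 * q2)
    obtain ⟨q0, q1, q2, q3⟩ := hB
    refine ⟨c * d, by linear_combination d * d * hc + hdd, ⟨a00, a10, ?_⟩, a01, a11, ?_⟩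
    · rw [Matrix.mulVec_add, Matrix.mulVec_smul, e0, g1]
      match_scalars
      · ring
      · ring
      · linear_combination c * d * q2 - c * b01 * hdd
      · linear_combination c * d * q3 - c * b11 * hdd
    · rw [Matrix.mulVec_sub, Matrix.mulVec_smul, e1, g0]
      match_scalars
      · ring
      · ring
      · linear_combination -c * d * q0 + c * b00 * hdd
      · linear_combination -c * d * q1 + c * b10 * hdd
  · obtain ⟨a00, a10, e0⟩ : ∃ x y : F, (g : Matrix ι₄ ι₄ F) *ᵥ E 0 = x • G 0 + y • G 1 :=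
      ⟨_, _, hGs _ (by have := hgD 0 _ (hE 0); rwa [p0] at this)⟩
    obtain ⟨a01, a11, e1⟩ : ∃ x y : F, (g : Matrix ι₄ ι₄ F) *ᵥ E 1 = x • G 0 + y • G 1 :=
      ⟨_, _, hGs _ (by have := hgD 0 _ (hE 1); rwa [p0] at this)⟩
    obtain ⟨b00, b10, g0⟩ : ∃ x y : F, (g : Matrix ι₄ ι₄ F) *ᵥ G 0 = x • E 0 + y • E 1 :=
      hEs _ (by have := hgD 1 _ (hG 0); rwa [p1] at this)
    obtain ⟨b01, b11, g1⟩ : ∃ x y : F, (g : Matrix ι₄ ι₄ F) *ᵥ G 1 = x • E 0 + y • E 1 :=
      hEs _ (by have := hgD 1 _ (hG 1); rwa [p1] at this)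
    simp only [e0, e1, g0, g1, hfs.bilinear.add_left, hfs.bilinear.add_right, hfs.bilinear.smul_left,
      hfs.bilinear.smul_right, hGE, hEG] at h00 h01' h10 h11
    simp at h00 h01' h10 h11
    set d := a00 * a11 - a10 * a01 with hd
    have hB : b00 * d = -a11 ∧ b10 * d = a01 ∧ b01 * d = a10 ∧ b11 * d = -a00 :=
      ⟨by linear_combination -a11 * h00 + a10 * h10, by linear_combination -a00 * h10 + a01 * h00,
        by linear_combination -a11 * h01' + a10 * h11, by linear_combination -a00 * h11 + a01 * h01'⟩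
    have hdd : d * d = 1 := hunit d fun e => by
      rw [e] at hB
      obtain ⟨q0, q1, q2, q3⟩ := hB
      exact one_ne_zero (α := F) (by linear_combination -h00 - b00 * q3 + b10 * q2)
    obtain ⟨q0, q1, q2, q3⟩ := hB
    refine ⟨c * d, by linear_combination d * d * hc + hdd, ⟨c * d * a10, -(c * d * a00), ?_⟩, c * d * a11, -(c * d * a01), ?_⟩
    · rw [Matrix.mulVec_add, Matrix.mulVec_smul, e0, g1]
      match_scalars
      · linear_combination -a00 * (c * c * hdd + hc)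
      · linear_combination -a10 * (c * c * hdd + hc)
      · linear_combination c * d * q2 - c * b01 * hdd
      · linear_combination c * d * q3 - c * b11 * hdd
    · rw [Matrix.mulVec_sub, Matrix.mulVec_smul, e1, g0]
      match_scalars
      · linear_combination -a01 * (c * c * hdd + hc)
      · linear_combination -a11 * (c * c * hdd + hc)
      · linear_combination -c * d * q0 + c * b00 * hdd
      · linear_combination -c * d * q1 + c * b10 * hdd

/-- Over three elements the normaliser of a unitary field structure normalises a two-group of minus type. -/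
theorem normalizer_of_field_three (hF : Fintype.card F = 3) {K : Subalgebra F (Matrix ι₄ ι₄ F)}
    (hK : IsFieldSubalgebra 2 K) (hadj : IsAdjointClosedFor (sympForm 2 F) K)
    (hns : ¬ IsSelfAdjointFor (sympForm 2 F) K) :
    ∃ R : Subgroup (GL ι₄ F), IsSymplecticTypeGroup 2 R ∧ ActsAbsolutelyIrreducibly (matrixSet R) ∧
      R ≤ similarityGroup (sympForm 2 F) ∧ Nat.card R = 32 ∧ Nat.card (Subgroup.center R) = 2 ∧ IsOfMinusType 2 R ∧
      subalgebraNormalizer K ⊓ spGL 2 F ≤ subgroupNormalizer R := by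
  classical
  have h2 := three_two_ne hF
  obtain ⟨φ⟩ := exists_equiv_three hF
  have h3 : (3 : F) = 0 := by
    rw [show (3 : F) = φ 3 from (map_ofNat φ 3).symm, show (3 : ZMod 3) = 0 from rfl, map_zero]
  have hfs := sympForm_isSymplectic (m := 2) (F := F)
  set f := sympForm 2 F with hfdef
  let one : K := ⟨1, K.one_mem⟩
  -- a square root of minus one
  obtain ⟨k₀, hk₀, hk₀n⟩ : ∃ k ∈ K, ∀ c : F, k ≠ c • (1 : Matrix ι₄ ι₄ F) := by
    by_contra hcon
    push Not at hcon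
    have h1 : Module.finrank F K ≤ 1 := by
      refine finrank_le_one one fun x => ?_
      obtain ⟨c, hc⟩ := hcon x.1 x.2
      exact ⟨c, Subtype.ext hc.symm⟩
    rw [hK.finrank_eq] at h1
    omega
  have hspan : ∀ x ∈ K, ∃ a c : F, x = a • (1 : Matrix ι₄ ι₄ F) + c • k₀ := by
    intro x hx
    have hli : LinearIndependent F ![one, ⟨k₀, hk₀⟩] := by
      refine LinearIndependent.pair_iff.mpr fun s t h => ?_
      have h' := congrArg Subtype.val h
      simp [one] at h'
      by_cases ht : t = 0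
      · refine ⟨?_, ht⟩
        rw [ht, zero_smul, add_zero] at h'
        simpa using congrFun (congrFun h' (.inl 0)) (.inl 0)
      · exfalso
        refine hk₀n (-(t⁻¹ * s)) ?_
        have h4 := congrArg (fun z => t⁻¹ • z) h'
        simp only [smul_add, smul_smul, inv_mul_cancel₀ ht, one_smul, smul_zero] at h4
        rw [neg_smul, eq_neg_iff_add_eq_zero, add_comm]
        exact h4
    have htop := hli.span_eq_top_of_card_eq_finrank' (by rw [Fintype.card_fin, hK.finrank_eq])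
    have hmem : (⟨x, hx⟩ : K) ∈ Submodule.span F (Set.range ![one, ⟨k₀, hk₀⟩]) := htop ▸ Submodule.mem_top
    obtain ⟨s, hs⟩ := (Submodule.mem_span_range_iff_exists_fun F).mp hmem
    refine ⟨s 0, s 1, ?_⟩
    have h' := congrArg Subtype.val hs
    simp [Fin.sum_univ_two, one] at h'
    exact h'.symm
  have hdom : ∀ x ∈ K, ∀ y ∈ K, x * y = 0 → x = 0 ∨ y = 0 := fun x hx y hy h => fieldSubalgebra_mul_eq_zero hK hx h
  obtain ⟨k, hk, hkk, hkn⟩ : ∃ k ∈ K, k * k = -1 ∧ ∀ c : F, k ≠ c • (1 : Matrix ι₄ ι₄ F) := by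
    obtain ⟨a, c, hsq⟩ := hspan _ (K.mul_mem hk₀ hk₀)
    set k := k₀ + c • (1 : Matrix ι₄ ι₄ F) with hkd
    have hk : k ∈ K := K.add_mem hk₀ (K.smul_mem K.one_mem c)
    have hkn : ∀ t : F, k ≠ t • (1 : Matrix ι₄ ι₄ F) := fun t e => hk₀n (t - c) (by
      rw [sub_smul, eq_sub_iff_add_eq, ← hkd, e])
    have hkk : k * k = (a + c * c) • (1 : Matrix ι₄ ι₄ F) := by
      rw [hkd, Matrix.add_mul, Matrix.mul_add, Matrix.mul_add, hsq]
      simp only [Matrix.smul_mul, Matrix.mul_smul, Matrix.one_mul, Matrix.mul_one, smul_smul, add_smul]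
      rw [show c • k₀ = c • k₀ from rfl]
      match_scalars
      · ring
      · linear_combination c * h3
    refine ⟨k, hk, ?_, hkn⟩
    obtain ⟨r, hr⟩ := φ.surjective (a + c * c)
    have key : ∀ r : ZMod 3, r = 0 ∨ r = 1 ∨ r = -1 := by decide
    rcases key r with rfl | rfl | rfl
    · rw [← hr, map_zero, zero_smul] at hkk
      rcases hdom k hk k hk hkk with h | h <;> exact absurd (h.trans (zero_smul F 1).symm) (hkn 0)
    · rw [← hr, map_one, one_smul] at hkk
      rcases hdom (k - 1) (K.sub_mem hk K.one_mem) (k + 1) (K.add_mem hk K.one_mem) (by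
        rw [Matrix.sub_mul, Matrix.mul_add, hkk, Matrix.mul_one, Matrix.one_mul]; abel) with h | h
      · exact absurd ((sub_eq_zero.mp h).trans (one_smul F 1).symm) (hkn 1)
      · exact absurd ((eq_neg_of_add_eq_zero_left h).trans (by rw [neg_smul, one_smul])) (hkn (-1))
    · rw [hkk, ← hr, map_neg, map_one, neg_smul, one_smul]
  have hKk : ∀ x ∈ K, ∃ a c : F, x = a • (1 : Matrix ι₄ ι₄ F) + c • k := by
    intro x hx
    obtain ⟨a, c, h⟩ := hspan x hx
    obtain ⟨a', c', h'⟩ := hspan k hk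
    have hc' : c' ≠ 0 := fun e => hkn a' (by rw [h', e, zero_smul, add_zero])
    refine ⟨a - c * c'⁻¹ * a', c * c'⁻¹, ?_⟩
    rw [h, h']
    match_scalars
    · ring
    · field_simp
  have hroot : ∀ a c : F, (a • (1 : Matrix ι₄ ι₄ F) + c • k) * (a • (1 : Matrix ι₄ ι₄ F) + c • k) = -1 →
      a = 0 ∧ c * c = 1 := by
    intro a c h
    have e : (a * a - c * c + 1) • (1 : Matrix ι₄ ι₄ F) + (2 * a * c) • k = 0 := by
      have h' : (a • (1 : Matrix ι₄ ι₄ F) + c • k) * (a • (1 : Matrix ι₄ ι₄ F) + c • k) + 1 = 0 := by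
        rw [h, neg_add_cancel]
      rw [← h']
      simp only [Matrix.add_mul, Matrix.mul_add, Matrix.smul_mul, Matrix.mul_smul, Matrix.one_mul, Matrix.mul_one,
        smul_smul, hkk, smul_neg]
      match_scalars <;> ring
    have hac : 2 * a * c = 0 := by
      by_contra hne
      refine hkn (-((2 * a * c)⁻¹ * (a * a - c * c + 1))) ?_
      rw [neg_smul, eq_neg_iff_add_eq_zero, ← smul_smul]
      have := congrArg (fun z => (2 * a * c)⁻¹ • z) e
      simp only [smul_add, smul_zero] at this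
      rw [smul_smul (2 * a * c)⁻¹ (2 * a * c), inv_mul_cancel₀ hne, one_smul, add_comm] at this
      exact this
    rw [hac, zero_smul, add_zero] at e
    have e0 : a * a - c * c + 1 = 0 := by simpa using congrFun (congrFun e (.inl 0)) (.inl 0)
    rcases mul_eq_zero.mp hac with h0 | h0
    · have ha : a = 0 := (mul_eq_zero.mp h0).resolve_left h2
      exact ⟨ha, by rw [ha] at e0; linear_combination -e0⟩
    · exfalso
      rw [h0] at e0
      exact three_not_sq hF a (by linear_combination e0)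
  -- the square root is skew
  obtain ⟨k', hk', hkadj⟩ := hadj k hk
  have hskew : ∀ u v, f (k *ᵥ u) v = -f u (k *ᵥ v) := by
    have hk'' : k' * k' = -1 := by
      refine Matrix.toLin'.injective (LinearMap.ext fun v => ?_)
      rw [Matrix.toLin'_apply, Matrix.toLin'_apply, Matrix.neg_mulVec, Matrix.one_mulVec]
      by_contra hne
      obtain ⟨⟨u, hu⟩, -⟩ := hfs.nondegenerate ((k' * k') *ᵥ v + v) fun e => hne (eq_neg_of_add_eq_zero_left e)
      refine hu ?_
      rw [hfs.bilinear.add_right, ← Matrix.mulVec_mulVec, ← hkadj, ← hkadj, Matrix.mulVec_mulVec, hkk,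
        Matrix.neg_mulVec, Matrix.one_mulVec, ← neg_one_smul F u, hfs.bilinear.smul_left]
      ring
    obtain ⟨a, c, rfl⟩ := hKk k' hk'
    obtain ⟨rfl, hc⟩ := hroot a c hk''
    intro u v
    rcases mul_self_eq_one_iff.mp hc with rfl | rfl
    · exfalso
      refine hns fun x hx => ?_
      obtain ⟨a', c', rfl⟩ := hKk x hx
      intro u v
      simp only [Matrix.add_mulVec, Matrix.smul_mulVec, Matrix.one_mulVec, hfs.bilinear.add_left, hfs.bilinear.add_right,
        hfs.bilinear.smul_left, hfs.bilinear.smul_right]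
      rw [hkadj, zero_smul, zero_add, one_smul]
    · rw [hkadj, zero_smul, zero_add, neg_smul, one_smul, Matrix.neg_mulVec, ← neg_one_smul F (k *ᵥ v),
        hfs.bilinear.smul_right, neg_one_mul]
  have hkv : ∀ v, k *ᵥ (k *ᵥ v) = -v := fun v => by
    rw [Matrix.mulVec_mulVec, hkk, Matrix.neg_mulVec, Matrix.one_mulVec]
  have hneg : ∀ u v, f u (-v) = -f u v := fun u v => by
    rw [← neg_one_smul F v, hfs.bilinear.smul_right, neg_one_mul]
  have hkpres : ∀ u v, f (k *ᵥ u) (k *ᵥ v) = f u v := fun u v => by rw [hskew, hkv, hneg, neg_neg]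
  -- a basis
  obtain ⟨ev, hev0, hev⟩ : ∃ v, v ≠ 0 ∧ f (k *ᵥ v) v = 0 := by
    obtain ⟨B, hB⟩ : ∃ B : LinearMap.BilinForm F (ι₄ → F), ∀ u v, B u v = f (k *ᵥ u) v :=
      ⟨LinearMap.mk₂ F (fun u v => f (k *ᵥ u) v) (fun a b v => by simp [Matrix.mulVec_add, hfs.bilinear.add_left])
        (fun c a v => by simp [Matrix.mulVec_smul, hfs.bilinear.smul_left]) (fun a b v => hfs.bilinear.add_right _ _ _)
        (fun c a v => hfs.bilinear.smul_right _ _ _), fun _ _ => rfl⟩
    obtain ⟨Q, hQ⟩ : ∃ Q : QuadraticForm F (ι₄ → F), Q = LinearMap.BilinMap.toQuadraticMap B := ⟨_, rfl⟩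
    have hsymm : ∀ u v, f (k *ᵥ u) v = f (k *ᵥ v) u := fun u v => by rw [hskew, hfs.skew u (k *ᵥ v), neg_neg]
    have hpol : ∀ u v, QuadraticMap.polar Q u v = 2 * f (k *ᵥ u) v := fun u v => by
      simp only [QuadraticMap.polar, hQ, LinearMap.BilinMap.toQuadraticMap_apply, hB, Matrix.mulVec_add,
        hfs.bilinear.add_left, hfs.bilinear.add_right, hsymm v u]
      ring
    obtain ⟨v, hv0, hv⟩ := OOmega.exists_singular (Q := Q) h2 (fun v hv => by
      by_contra hv0
      obtain ⟨-, x, hx⟩ := hfs.nondegenerate (k *ᵥ v) fun e => hv0 (by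
        have := hkv v; rw [e, Matrix.mulVec_zero] at this; exact neg_eq_zero.mp this.symm)
      exact hx ((mul_eq_zero.mp ((hpol v x).symm.trans (hv x))).resolve_left h2))
      (by rw [Module.finrank_fintype_fun_eq_card]; simp)
    exact ⟨v, hv0, by rw [← hB, ← hv, hQ, LinearMap.BilinMap.toQuadraticMap_apply]⟩
  obtain ⟨g₀, hg1, hg2⟩ : ∃ g₀, f ev g₀ = 1 ∧ f (k *ᵥ ev) g₀ = 0 := by
    let L : (ι₄ → F) →ₗ[F] (Fin 2 → F) :=
      { toFun := fun y => ![f ev y, f (k *ᵥ ev) y]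
        map_add' := fun a b => by funext i; fin_cases i <;> simp [hfs.bilinear.add_right]
        map_smul' := fun c a => by funext i; fin_cases i <;> simp [hfs.bilinear.smul_right] }
    obtain ⟨-, x, hx⟩ := hfs.nondegenerate ev hev0
    have hdet : f ev x * f ev x + f (k *ᵥ ev) x * f (k *ᵥ ev) x ≠ 0 := fun e => by
      refine three_not_sq hF ((f (k *ᵥ ev) x) * (f ev x)⁻¹) ?_
      field_simp
      linear_combination e
    obtain ⟨s, hs⟩ : ∃ s : F, s = (f ev x * f ev x + f (k *ᵥ ev) x * f (k *ᵥ ev) x)⁻¹ := ⟨_, rfl⟩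
    have h1 : f ev (k *ᵥ x) = -f (k *ᵥ ev) x := by rw [hskew, neg_neg]
    have h4 : f (k *ᵥ ev) (k *ᵥ x) = f ev x := hkpres _ _
    refine ⟨(s * f ev x) • x + (-(s * f (k *ᵥ ev) x)) • (k *ᵥ x), ?_, ?_⟩
    · rw [hfs.bilinear.add_right, hfs.bilinear.smul_right, hfs.bilinear.smul_right, h1, hs]
      linear_combination mul_inv_cancel₀ hdet
    · rw [hfs.bilinear.add_right, hfs.bilinear.smul_right, hfs.bilinear.smul_right, h4]
      ring
  set t := f g₀ (k *ᵥ g₀) with ht
  set gv := g₀ + t • (k *ᵥ ev) with hgv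
  have h1 : f ev gv = 1 := by
    rw [hgv, hfs.bilinear.add_right, hfs.bilinear.smul_right, hg1, show f ev (k *ᵥ ev) = 0 by
      rw [hfs.skew, hev, neg_zero]]
    ring
  have h2' : f ev (k *ᵥ gv) = 0 := by
    rw [← neg_neg (f ev _), ← hskew, hgv, hfs.bilinear.add_right, hfs.bilinear.smul_right, hg2, hfs.alternating]
    ring
  have h4 : f gv (k *ᵥ gv) = 0 := by
    have e1 : f ev g₀ = 1 := hg1
    have e2 : f g₀ ev = -1 := by rw [hfs.skew, hg1]
    have e3 : f (k *ᵥ ev) (k *ᵥ g₀) = 1 := by rw [hkpres, hg1]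
    have e4 : f (k *ᵥ ev) ev = 0 := hev
    rw [hgv, Matrix.mulVec_add, Matrix.mulVec_smul, hkv, hfs.bilinear.add_left, hfs.bilinear.add_right,
      hfs.bilinear.add_right, hfs.bilinear.smul_left, hfs.bilinear.smul_left, hfs.bilinear.smul_right,
      hfs.bilinear.smul_right, hneg, hneg, e2, e3, e4]
    linear_combination t * h3 + (0 : F) * e1 + (0 : F) * ht
  let bas : Fin 2 × Fin 2 → ι₄ → F := fun p => ![![ev, -(k *ᵥ ev)], ![gv, -(k *ᵥ gv)]] p.1 p.2
  have hnegl : ∀ u v, f (-u) v = -f u v := fun u v => by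
    rw [← neg_one_smul F u, hfs.bilinear.smul_left, neg_one_mul]
  have hbas : ∀ p r, f (bas p) (bas r) = (J2 F ⊗ₖ (1 : Matrix (Fin 2) (Fin 2) F)) p r := by
    have e1 : f ev (k *ᵥ ev) = 0 := by rw [hfs.skew, hev, neg_zero]
    have e2 : f gv ev = -1 := by rw [hfs.skew, h1]
    have e3 : f (k *ᵥ gv) ev = 0 := by rw [hfs.skew, h2', neg_zero]
    have e4 : f (k *ᵥ ev) gv = 0 := by rw [hskew, h2', neg_zero]
    have e5 : f gv (k *ᵥ ev) = 0 := by rw [hfs.skew, e4, neg_zero]
    have e6 : f (k *ᵥ gv) gv = 0 := by rw [hfs.skew, h4, neg_zero]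
    rintro ⟨p1, p2⟩ ⟨r1, r2⟩
    fin_cases p1 <;> fin_cases p2 <;> fin_cases r1 <;> fin_cases r2 <;>
      simp [bas, J2, hnegl, hneg, hkpres, hfs.alternating, hev, h1, h2', h4, e1, e2, e3, e4, e5, e6]
  let e : ι₄ ≃ Fin 2 × Fin 2 := (finSumFinEquiv.trans (finCongr (by norm_num : 2 + 2 = 2 * 2))).trans finProdFinEquiv.symm
  obtain ⟨Pm, hPm⟩ : ∃ Pm : Matrix ι₄ ι₄ F, ∀ i j, Pm i j = bas (e j) i := ⟨fun i j => bas (e j) i, fun _ _ => rfl⟩
  have hform : ∀ (A B : Matrix ι₄ ι₄ F) i j,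
      (Aᵀ * Matrix.J (Fin 2) F * B) i j = f (A *ᵥ Pi.single i 1) (B *ᵥ Pi.single j 1) := by
    intro A B i j
    rw [Matrix.mulVec_single_one, Matrix.mulVec_single_one]
    simp only [hfdef, Cfsg.sympForm, dotProduct, Matrix.mulVec, Matrix.mul_apply, Matrix.transpose_apply, Matrix.col_apply,
      Finset.sum_mul, Finset.mul_sum, mul_assoc]
    exact Finset.sum_comm
  set Ω := J2 F ⊗ₖ (1 : Matrix (Fin 2) (Fin 2) F) with hΩ
  have hgram : Pmᵀ * Matrix.J (Fin 2) F * Pm = Ω.submatrix e e := by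
    ext i j
    rw [hform, Matrix.submatrix_apply, ← hbas, Matrix.mulVec_single_one, Matrix.mulVec_single_one]
    congr 1 <;> funext a <;> rw [Matrix.col_apply, hPm]
  have hΩd : Ω.det ≠ 0 := by
    rw [hΩ, Matrix.det_kronecker, J2_det, Matrix.det_one]
    simp
  have hPd : Pm.det ≠ 0 := fun h => hΩd (by
    have := congrArg Matrix.det hgram
    rw [Matrix.det_mul, h, mul_zero, Matrix.det_submatrix_equiv_self] at this
    exact this.symm)
  set P := Matrix.GeneralLinearGroup.mkOfDetNeZero Pm hPd with hP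
  have hPc : (P : Matrix ι₄ ι₄ F) = Pm := rfl
  have hgramC : ∀ g : GL ι₄ F, (g ∈ spGL 2 F ↔
      (matCoord e P (g : Matrix ι₄ ι₄ F))ᵀ * Ω * matCoord e P (g : Matrix ι₄ ι₄ F) = Ω) := by
    intro g
    have hiff : g ∈ spGL 2 F ↔ (g : Matrix ι₄ ι₄ F)ᵀ * Matrix.J (Fin 2) F * (g : Matrix ι₄ ι₄ F) = Matrix.J (Fin 2) F := by
      constructor
      · intro hg
        ext i j
        refine (hform _ _ i j).trans ((hg _ _).trans ?_)
        have h := hform 1 1 i j
        rw [Matrix.transpose_one, Matrix.one_mul, Matrix.mul_one, Matrix.one_mulVec, Matrix.one_mulVec] at h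
        exact h.symm
      · intro h u v
        show f ((g : Matrix ι₄ ι₄ F) *ᵥ u) ((g : Matrix ι₄ ι₄ F) *ᵥ v) = f u v
        simp only [hfdef, Cfsg.sympForm]
        rw [← Matrix.vecMul_transpose, ← Matrix.dotProduct_mulVec, Matrix.mulVec_mulVec, Matrix.mulVec_mulVec, h]
    have hM : (matCoord e P (g : Matrix ι₄ ι₄ F))ᵀ * Ω * matCoord e P (g : Matrix ι₄ ι₄ F) =
        ((P : Matrix ι₄ ι₄ F)ᵀ * ((g : Matrix ι₄ ι₄ F)ᵀ * Matrix.J (Fin 2) F * g) * P).submatrix e.symm e.symm := by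
      have hΩ' : Ω = ((P : Matrix ι₄ ι₄ F)ᵀ * Matrix.J (Fin 2) F * P).submatrix e.symm e.symm := by
        rw [hPc, hgram, Matrix.submatrix_submatrix, Equiv.self_comp_symm, Matrix.submatrix_id_id]
      rw [hΩ', matCoord, Matrix.transpose_submatrix, Matrix.submatrix_mul_equiv, Matrix.submatrix_mul_equiv]
      congr 1
      simp only [Matrix.transpose_mul, Matrix.mul_assoc]
      rw [← Matrix.mul_assoc (P : Matrix ι₄ ι₄ F) ((P⁻¹ : GL ι₄ F) : Matrix ι₄ ι₄ F), Units.mul_inv, Matrix.one_mul,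
        ← Matrix.mul_assoc ((P⁻¹ : GL ι₄ F) : Matrix ι₄ ι₄ F)ᵀ (P : Matrix ι₄ ι₄ F)ᵀ, ← Matrix.transpose_mul,
        Units.mul_inv, Matrix.transpose_one, Matrix.one_mul]
    rw [hiff, hM]
    constructor
    · intro h
      rw [h, hPc, hgram, Matrix.submatrix_submatrix, Equiv.self_comp_symm, Matrix.submatrix_id_id]
    · intro h
      have h' := congrArg (fun M => Matrix.submatrix M e e) h
      simp only [Matrix.submatrix_submatrix, Equiv.symm_comp_self, Matrix.submatrix_id_id] at h'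
      rw [← hgram, ← hPc] at h'
      have h'' := congrArg (fun M => ((P⁻¹ : GL ι₄ F) : Matrix ι₄ ι₄ F)ᵀ * M * ((P⁻¹ : GL ι₄ F) : Matrix ι₄ ι₄ F)) h'
      simp only [Matrix.mul_assoc, Units.mul_inv, Matrix.mul_one] at h''
      rw [← Matrix.mul_assoc ((P⁻¹ : GL ι₄ F) : Matrix ι₄ ι₄ F)ᵀ, ← Matrix.mul_assoc ((P⁻¹ : GL ι₄ F) : Matrix ι₄ ι₄ F)ᵀ,
        ← Matrix.transpose_mul, Units.mul_inv, Matrix.transpose_one, Matrix.one_mul, Matrix.one_mul] at h''
      rw [Matrix.mul_assoc]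
      exact h''
  -- the square root in coordinates
  set K0 := (1 : Matrix (Fin 2) (Fin 2) F) ⊗ₖ J2 F with hK0
  have hkP : k * (P : Matrix ι₄ ι₄ F) = (P : Matrix ι₄ ι₄ F) * K0.submatrix e e := by
    ext i j
    have hr : ∑ x, Pm i x * K0.submatrix e e x j = ∑ p, bas p i * K0 p (e j) :=
      Fintype.sum_equiv e _ _ fun x => by rw [hPm, Matrix.submatrix_apply]
    rw [hPc, Matrix.mul_apply, Matrix.mul_apply, hr]
    have hl : ∑ x, k i x * Pm x j = (k *ᵥ bas (e j)) i := by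
      simp [Matrix.mulVec, dotProduct, hPm]
    rw [hl]
    obtain ⟨p1, p2⟩ := e j
    fin_cases p1 <;> fin_cases p2 <;>
      simp [bas, K0, J2, Fintype.sum_prod_type, Fin.sum_univ_two, Matrix.one_apply, Matrix.mulVec_neg, hkv]
  have hcoordk : matCoord e P k = K0 := by
    rw [matCoord, Matrix.mul_assoc, hkP, ← Matrix.mul_assoc, Units.inv_mul, Matrix.one_mul,
      Matrix.submatrix_submatrix, Equiv.self_comp_symm, Matrix.submatrix_id_id]
  have hfix := square_fixes hF (e := e) (P := P) (f := f) fun g A B hg hA hB u v => by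
    refine ((hgramC g).mpr ?_) u v
    rw [hg, ← Matrix.kroneckerMap_transpose, hΩ, ← Matrix.mul_kronecker_mul, ← Matrix.mul_kronecker_mul, J2_congr, hA,
      one_smul, Matrix.mul_one, hB]
  haveI : Nonempty ι₄ := ⟨.inl 0⟩
  refine ⟨squareGroup hF e P, square_symplecticType hF, square_absIrr hF,
    fun g hg => ⟨1, fun u v => by rw [Units.val_one, one_mul]; exact hfix _ (coe_mem_matrixSet hg) u v⟩,
    card_squareGroup hF, card_center_square hF,
    minus_type_of_symplectic h2 hfs (square_absIrr hF) hfix (fun x y => square_comm hF x.2 y.2)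
      (card_squareGroup hF) (card_center_square hF), ?_⟩
  rintro g ⟨hgK, hg⟩
  have hG := (hgramC g).mp hg
  set G := matCoord e P (g : Matrix ι₄ ι₄ F) with hGd
  -- the action on the square root
  have hpm : G * K0 = K0 * G ∨ G * K0 = -(K0 * G) := by
    have hin := (hgK k).mp hk
    obtain ⟨a, c, hac⟩ := hKk _ hin
    have hsq : (a • (1 : Matrix ι₄ ι₄ F) + c • k) * (a • (1 : Matrix ι₄ ι₄ F) + c • k) = -1 := by
      rw [← hac]
      simp only [Matrix.mul_assoc]
      rw [← Matrix.mul_assoc ((g⁻¹ : GL ι₄ F) : Matrix ι₄ ι₄ F) (g : Matrix ι₄ ι₄ F), Units.inv_mul, Matrix.one_mul,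
        ← Matrix.mul_assoc k k, hkk, Matrix.neg_mul, Matrix.one_mul, Matrix.mul_neg, Units.mul_inv]
    obtain ⟨rfl, hc⟩ := hroot a c hsq
    rw [zero_smul, zero_add] at hac
    have hgk : (g : Matrix ι₄ ι₄ F) * k = c • (k * (g : Matrix ι₄ ι₄ F)) := by
      rw [← Matrix.smul_mul, ← hac, Matrix.mul_assoc, Units.inv_mul, Matrix.mul_one]
    have hG' := congrArg (matCoord e P) hgk
    rw [matCoord_smul, matCoord_mul, matCoord_mul, hcoordk] at hG'
    rcases mul_self_eq_one_iff.mp hc with rfl | rfl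
    · exact Or.inl (by rw [hG', one_smul])
    · exact Or.inr (by rw [hG', neg_smul, one_smul])
  set S0 := (1 : Matrix (Fin 2) (Fin 2) F) ⊗ₖ (!![1, 0; 0, -1] : Matrix (Fin 2) (Fin 2) F) with hS0
  have hS2 : (!![1, 0; 0, -1] : Matrix (Fin 2) (Fin 2) F) * !![1, 0; 0, -1] = 1 := by
    ext i j; fin_cases i <;> fin_cases j <;> simp
  have hSS : S0 * S0 = 1 := by rw [hS0, ← Matrix.mul_kronecker_mul, Matrix.one_mul, hS2, Matrix.one_kronecker_one]
  -- the commuting case
  have main : ∀ M : Matrix (Fin 2 × Fin 2) (Fin 2 × Fin 2) F, M * K0 = K0 * M → Mᵀ * Ω * M = Ω →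
      ∃ A B : Matrix (Fin 2) (Fin 2) F, M = A ⊗ₖ B := by
    intro M hc hΩM
    obtain ⟨A, hAd⟩ : ∃ A : Matrix (Fin 2) (Fin 2) F, ∀ a a', A a a' = M (a, 0) (a', 0) :=
      ⟨Matrix.of fun a a' => M (a, 0) (a', 0), fun _ _ => rfl⟩
    obtain ⟨B, hBd⟩ : ∃ B : Matrix (Fin 2) (Fin 2) F, ∀ a a', B a a' = M (a, 0) (a', 1) :=
      ⟨Matrix.of fun a a' => M (a, 0) (a', 1), fun _ _ => rfl⟩
    have hent : ∀ a a', M (a, 1) (a', 0) = -B a a' ∧ M (a, 1) (a', 1) = A a a' := fun a a' => by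
      have p := congrFun (congrFun hc (a, 0)) (a', 0)
      have q := congrFun (congrFun hc (a, 0)) (a', 1)
      simp [K0, J2, Matrix.mul_apply, Fintype.sum_prod_type, Fin.sum_univ_two, Matrix.one_apply] at p q
      rw [hBd, hAd]
      exact ⟨p.symm, q.symm⟩
    have hM : M = A ⊗ₖ (1 : Matrix (Fin 2) (Fin 2) F) + B ⊗ₖ J2 F := by
      ext ⟨a, i⟩ ⟨a', j⟩
      fin_cases i <;> fin_cases j <;> simp [J2, Matrix.kroneckerMap_apply, ← hAd, ← hBd, (hent a a').1, (hent a a').2]
    have q0 := congrFun (congrFun hΩM (0, 0)) (1, 0)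
    have q1 := congrFun (congrFun hΩM (0, 0)) (0, 1)
    have q2 := congrFun (congrFun hΩM (1, 0)) (1, 1)
    have q3 := congrFun (congrFun hΩM (0, 0)) (1, 1)
    simp [Ω, J2, Matrix.mul_apply, Fintype.sum_prod_type, Fin.sum_univ_two, Matrix.one_apply, hM] at q0 q1 q2 q3
    have r0 : A.det + B.det = 1 := by rw [Matrix.det_fin_two, Matrix.det_fin_two]; linear_combination q0
    have r1 : A 0 0 * B 1 0 - A 1 0 * B 0 0 = 0 := by
      refine (mul_eq_zero.mp (show (2 : F) * _ = 0 from ?_)).resolve_left h2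
      linear_combination q1
    have r2 : A 0 1 * B 1 1 - A 1 1 * B 0 1 = 0 := by
      refine (mul_eq_zero.mp (show (2 : F) * _ = 0 from ?_)).resolve_left h2
      linear_combination q2
    have r3 : A 0 0 * B 1 1 - A 1 0 * B 0 1 + (A 0 1 * B 1 0 - A 1 1 * B 0 0) = 0 := by linear_combination q3
    have prop : ∀ A B : Matrix (Fin 2) (Fin 2) F, A.det ≠ 0 → A 0 0 * B 1 0 - A 1 0 * B 0 0 = 0 →
        A 0 1 * B 1 1 - A 1 1 * B 0 1 = 0 →
        A 0 0 * B 1 1 - A 1 0 * B 0 1 + (A 0 1 * B 1 0 - A 1 1 * B 0 0) = 0 → ∃ t : F, B = t • A := by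
      intro A B hd p1 p2 p3
      rw [Matrix.det_fin_two] at hd
      obtain ⟨t, ht⟩ : ∃ t : F, t * (A 0 0 * A 1 1 - A 0 1 * A 1 0) = B 0 0 * A 1 1 - B 1 0 * A 0 1 :=
        ⟨(B 0 0 * A 1 1 - B 1 0 * A 0 1) * (A 0 0 * A 1 1 - A 0 1 * A 1 0)⁻¹, by
          rw [mul_assoc, inv_mul_cancel₀ hd, mul_one]⟩
      refine ⟨t, ?_⟩
      ext i j
      rw [Matrix.smul_apply, smul_eq_mul]
      refine mul_right_cancel₀ hd ?_
      fin_cases i <;> fin_cases j <;> simp only [Fin.zero_eta, Fin.mk_one]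
      · linear_combination -A 0 0 * ht + A 0 1 * p1
      · linear_combination -A 0 1 * ht - A 0 0 * p2 + A 0 1 * p3
      · linear_combination -A 1 0 * ht + A 1 1 * p1
      · linear_combination -A 1 1 * ht - A 1 0 * p2 + A 1 1 * p3
    by_cases hA : A.det = 0
    · obtain ⟨t, ht⟩ := prop B A (fun e => one_ne_zero (α := F) (by rw [← r0, hA, e, add_zero]))
        (by linear_combination -r1) (by linear_combination -r2) (by linear_combination -r3)
      refine ⟨B, t • (1 : Matrix (Fin 2) (Fin 2) F) + J2 F, ?_⟩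
      rw [hM, ht, Matrix.kronecker_add, Matrix.smul_kronecker, Matrix.kronecker_smul]
    · obtain ⟨t, ht⟩ := prop A B hA r1 r2 r3
      refine ⟨A, (1 : Matrix (Fin 2) (Fin 2) F) + t • J2 F, ?_⟩
      rw [hM, ht, Matrix.kronecker_add, Matrix.smul_kronecker, Matrix.kronecker_smul]
  obtain ⟨A, B, hAB⟩ : ∃ A B : Matrix (Fin 2) (Fin 2) F, G = A ⊗ₖ B := by
    rcases hpm with h | h
    · exact main G h hG
    have hJS : K0 * S0 = -(S0 * K0) := by
      rw [hS0, hK0, ← Matrix.mul_kronecker_mul, ← Matrix.mul_kronecker_mul,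
        show J2 F * !![1, 0; 0, -1] = -((!![1, 0; 0, -1] : Matrix (Fin 2) (Fin 2) F) * J2 F) by
          ext i j; fin_cases i <;> fin_cases j <;> simp [J2]]
      ext; simp only [Matrix.kroneckerMap_apply, Matrix.neg_apply, mul_neg]
    obtain ⟨A, B, hAB⟩ := main (G * S0) (by
      rw [Matrix.mul_assoc, ← neg_neg (S0 * K0), ← hJS, Matrix.mul_neg, ← Matrix.mul_assoc, h, Matrix.neg_mul, neg_neg,
        Matrix.mul_assoc]) (by
      have hS0t : S0ᵀ = S0 := by
        rw [hS0, ← Matrix.kroneckerMap_transpose, Matrix.transpose_one,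
          show (!![1, 0; 0, -1] : Matrix (Fin 2) (Fin 2) F)ᵀ = !![1, 0; 0, -1] by
            ext i j; fin_cases i <;> fin_cases j <;> simp]
      have hΩS : S0 * Ω * S0 = Ω := by
        rw [hS0, hΩ, ← Matrix.mul_kronecker_mul, ← Matrix.mul_kronecker_mul, Matrix.one_mul, Matrix.mul_one,
          Matrix.mul_one, hS2]
      calc (G * S0)ᵀ * Ω * (G * S0) = S0 * (Gᵀ * Ω * G) * S0 := by
            rw [Matrix.transpose_mul, hS0t]; simp only [Matrix.mul_assoc]
        _ = Ω := by rw [hG, hΩS])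
    refine ⟨A, B * !![1, 0; 0, -1], ?_⟩
    calc G = G * S0 * S0 := by rw [Matrix.mul_assoc, hSS, Matrix.mul_one]
      _ = _ := by rw [hAB, hS0, ← Matrix.mul_kronecker_mul, Matrix.mul_one]
  rw [hAB, ← Matrix.kroneckerMap_transpose, hΩ, ← Matrix.mul_kronecker_mul, ← Matrix.mul_kronecker_mul, J2_congr,
    Matrix.mul_one] at hG
  have hsB : A.det • (Bᵀ * B) = (1 : Matrix (Fin 2) (Fin 2) F) := by
    ext i j
    simpa [J2] using congrFun (congrFun hG (0, i)) (1, j)
  have hA0 : A.det ≠ 0 := fun e => by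
    rw [e, zero_smul] at hsB
    exact zero_ne_one hsB
  have hB' : Bᵀ * B = A.det⁻¹ • (1 : Matrix (Fin 2) (Fin 2) F) := by
    rw [← hsB, smul_smul, inv_mul_cancel₀ hA0, one_smul]
  have hB0 : B.det ≠ 0 := fun e => by
    have := congrArg Matrix.det hsB
    rw [Matrix.det_smul, Matrix.det_mul, e, mul_zero, mul_zero, Matrix.det_one] at this
    exact zero_ne_one this
  exact tensor_normalises hF (A := Matrix.GeneralLinearGroup.mkOfDetNeZero A hA0)
    (B := Matrix.GeneralLinearGroup.mkOfDetNeZero B hB0) (inv_ne_zero hA0) hB' (by rw [← hGd]; exact hAB)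

end Cfsg.Agent.Classical.SpFour
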