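/-
A skew square root of a non-square inside the symplectic group: overgroups of its centraliser.
-/
import Cfsg.Agent.Lib.Classical.OInUTools
import Cfsg.Agent.Lib.Classical.OSimMaximal
import Cfsg.Agent.Lib.Classical.TensorMax.SpO.SpOFinal

set_option autoImplicit false
set_option linter.unusedSectionVars false
set_option linter.style.haveILetI false

namespace Cfsg.Agent.Classical.UInSp

open Matrix Cfsg.Geo
open Cfsg.Agent.Classical
open Cfsg.Agent.Classical.OInU (Tr)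

variable {ι : Type} [Fintype ι] [DecidableEq ι] {F : Type*} [Field F] [Fintype F]
  {f : (ι → F) → (ι → F) → F} {J : Matrix ι ι F} {ν : F} {Q : (ι → F) → F} {K : Subgroup (GL ι F)}

/-- The setting. -/
structure Setup (f : (ι → F) → (ι → F) → F) (J : Matrix ι ι F) (ν : F) (Q : (ι → F) → F)
    (K : Subgroup (GL ι F)) : Prop where
  D : OSim.Data Q
  fs : IsSymplecticForm f
  skewJ : ∀ x y, f (J *ᵥ x) y = -f x (J *ᵥ y)
  sq : ∀ x, J *ᵥ (J *ᵥ x) = ν • x
  nsq : ∀ c : F, c * c ≠ ν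
  hQ : ∀ x y, QuadraticMap.polar Q x y = f x (J *ᵥ y)
  iso : ∀ g ∈ K, ∀ x y, f ((g : Matrix ι ι F) *ᵥ x) ((g : Matrix ι ι F) *ᵥ y) = f x y
  trans : ∀ v c, ∃ g : GL ι F, Tr f g v c
  base : ∀ g : GL ι F, (∀ x y, f ((g : Matrix ι ι F) *ᵥ x) ((g : Matrix ι ι F) *ᵥ y) = f x y) →
    (∀ x, (g : Matrix ι ι F) *ᵥ (J *ᵥ x) = J *ᵥ ((g : Matrix ι ι F) *ᵥ x)) → g ∈ K

/-- All transvections with centre `v` lie in the group. -/
def Ctr (f : (ι → F) → (ι → F) → F) (K : Subgroup (GL ι F)) (v : ι → F) : Prop :=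
  ∀ (c : F) (g : GL ι F), Tr f g v c → g ∈ K

variable (S : Setup f J ν Q K)

include S

theorem tr_iso {g : GL ι F} {v : ι → F} {c : F} (hg : Tr f g v c) (x y : ι → F) :
    f ((g : Matrix ι ι F) *ᵥ x) ((g : Matrix ι ι F) *ᵥ y) = f x y := by
  rw [hg, hg, S.fs.bilinear.add_left, S.fs.bilinear.add_right, S.fs.bilinear.add_right, S.fs.bilinear.smul_left,
    S.fs.bilinear.smul_left, S.fs.bilinear.smul_right, S.fs.bilinear.smul_right, S.fs.alternating, S.fs.skew v y]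
  ring

theorem f_J_J (x y : ι → F) : f (J *ᵥ x) (J *ᵥ y) = -(ν * f x y) := by
  rw [S.skewJ, S.sq, S.fs.bilinear.smul_right]

/-- A pair of transvections commuting with `J`. -/
theorem exists_unitary {v : ι → F} (hv : Q v = 0) (b : F) :
    ∃ g ∈ K, (∀ x, (g : Matrix ι ι F) *ᵥ x = x + (b * f x (J *ᵥ v)) • (J *ᵥ v) + (-(b * ν) * f x v) • v) ∧
      ∀ x, (g : Matrix ι ι F) *ᵥ (J *ᵥ x) = J *ᵥ ((g : Matrix ι ι F) *ᵥ x) := by
  have hvv : f v (J *ᵥ v) = 0 := by rw [← S.hQ, OSim.self_zero S.D hv]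
  obtain ⟨s, hs⟩ := S.trans v (-(b * ν))
  obtain ⟨t, ht⟩ := S.trans (J *ᵥ v) b
  have hf : ∀ x, ((s * t : GL ι F) : Matrix ι ι F) *ᵥ x =
      x + (b * f x (J *ᵥ v)) • (J *ᵥ v) + (-(b * ν) * f x v) • v := fun x => by
    rw [gl_mul_mulVec, ht, hs, S.fs.bilinear.add_left, S.fs.bilinear.smul_left, S.fs.skew (J *ᵥ v) v, hvv, neg_zero,
      mul_zero, add_zero]
  have hcomm : ∀ x, ((s * t : GL ι F) : Matrix ι ι F) *ᵥ (J *ᵥ x) = J *ᵥ (((s * t : GL ι F) : Matrix ι ι F) *ᵥ x) :=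
    fun x => by
    rw [hf, hf, Matrix.mulVec_add, Matrix.mulVec_add, Matrix.mulVec_smul, Matrix.mulVec_smul, S.sq, f_J_J S, S.skewJ]
    module
  refine ⟨s * t, S.base _ (fun x y => ?_) hcomm, hf, hcomm⟩
  rw [gl_mul_mulVec, gl_mul_mulVec, tr_iso S hs, tr_iso S ht]

theorem Ctr.conj {v : ι → F} {y : GL ι F} (hy : y ∈ K) (h : Ctr f K v) :
    Ctr f K ((y : Matrix ι ι F) *ᵥ v) := by
  intro c g hg
  have hinv : ∀ x, f ((y : Matrix ι ι F) *ᵥ x) ((y : Matrix ι ι F) *ᵥ v) = f x v := fun x => S.iso y hy x v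
  have e := h c (y⁻¹ * g * y) fun x => by
    rw [gl_mul_mulVec, gl_mul_mulVec, hg, hinv, Matrix.mulVec_add, Matrix.mulVec_smul, gl_inv_mulVec_cancel,
      gl_inv_mulVec_cancel]
  rw [show g = y * (y⁻¹ * g * y) * y⁻¹ by group]
  exact mul_mem (mul_mem hy e) (inv_mem hy)

theorem Ctr.smul {v : ι → F} (h : Ctr f K v) (l : F) : Ctr f K (l • v) := fun c g hg =>
  h (c * l * l) g fun x => by
    rw [hg, S.fs.bilinear.smul_right, smul_smul]; congr 2; ring

theorem Ctr.plane {v x : ι → F} (hv : Ctr f K v) (hx : Ctr f K x) (hxv : f x v ≠ 0) (t : F) :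
    Ctr f K (x + t • v) := by
  obtain ⟨g, hg⟩ := S.trans v (t * (f x v)⁻¹)
  have := Ctr.conj S (hv _ g hg) hx
  rwa [hg, mul_assoc, inv_mul_cancel₀ hxv, mul_one] at this

theorem nsq_ne_zero : ν ≠ 0 := fun e => S.nsq 0 (by rw [e, mul_zero])

theorem J_ne {w : ι → F} (hw : w ≠ 0) (c : F) : J *ᵥ w ≠ c • w := fun e => by
  have := S.sq w
  rw [e, Matrix.mulVec_smul, e, smul_smul] at this
  exact S.nsq c (smul_left_injective F hw this)

theorem f_Jl (x y : ι → F) : f (J *ᵥ x) y = -QuadraticMap.polar Q x y := by rw [S.skewJ, S.hQ]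

theorem p_Jr (x y : ι → F) : QuadraticMap.polar Q x (J *ᵥ y) = ν * f x y := by
  rw [S.hQ, S.sq, S.fs.bilinear.smul_right]

theorem p_Jl (x y : ι → F) : QuadraticMap.polar Q (J *ᵥ x) y = -(ν * f x y) := by
  rw [S.hQ, f_J_J S]

theorem p_JJ (x y : ι → F) : QuadraticMap.polar Q (J *ᵥ x) (J *ᵥ y) = -(ν * QuadraticMap.polar Q x y) := by
  rw [p_Jl S, ← S.hQ]

theorem p_self_J (x : ι → F) : QuadraticMap.polar Q x (J *ᵥ x) = 0 := by
  rw [p_Jr S, S.fs.alternating, mul_zero]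

theorem f_of (x y : ι → F) : f x y = ν⁻¹ * QuadraticMap.polar Q x (J *ᵥ y) := by
  rw [p_Jr S, ← mul_assoc, inv_mul_cancel₀ (nsq_ne_zero S), one_mul]

theorem q_J (x : ι → F) : Q (J *ᵥ x) = -(ν * Q x) := by
  refine mul_left_cancel₀ S.D.h2 ?_
  rw [← OSim.self_eq S.D, p_JJ S, OSim.self_eq S.D]
  ring

/-- An anisotropic vector orthogonal to an orthogonal anisotropic family. -/
theorem aniso_extend {k : ℕ} (s : Fin k → ι → F) (hq : ∀ i, Q (s i) ≠ 0)
    (ho : ∀ i j, i ≠ j → QuadraticMap.polar Q (s i) (s j) = 0) (hk : k < Fintype.card ι) :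
    ∃ d, Q d ≠ 0 ∧ ∀ i, QuadraticMap.polar Q d (s i) = 0 := by
  classical
  by_contra hcon
  push Not at hcon
  obtain ⟨U, hU, hd⟩ := OSim.exists_perpSpace S.D s
  obtain ⟨d, hdU, hd0⟩ := Submodule.exists_mem_ne_zero_of_ne_bot (p := U) fun e => by
    rw [e, finrank_bot] at hd; omega
  have hzero : ∀ z, (∀ i, QuadraticMap.polar Q z (s i) = 0) → Q z = 0 := fun z hz => by
    by_contra h
    obtain ⟨i, hi⟩ := hcon z h
    exact hi (hz i)
  have hds := hU d hdU
  obtain ⟨z, hz⟩ : ∃ z, QuadraticMap.polar Q z d ≠ 0 := by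
    by_contra h
    push Not at h
    exact hd0 (OSim.eq_zero_of_perp S.D h)
  let L : (i : Fin k) → (ι → F) →ₗ[F] F := fun i =>
    { toFun := fun x => QuadraticMap.polar Q x (s i)
      map_add' := fun x y => OSim.add_left S.D x y _
      map_smul' := fun c x => OSim.smul_left S.D c x _ }
  let L' : (ι → F) →ₗ[F] F :=
    { toFun := fun x => QuadraticMap.polar Q x d
      map_add' := fun x y => OSim.add_left S.D x y _
      map_smul' := fun c x => OSim.smul_left S.D c x _ }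
  obtain ⟨z', hz'⟩ : ∃ z', z' = z - ∑ j, (QuadraticMap.polar Q z (s j) / (2 * Q (s j))) • s j := ⟨_, rfl⟩
  have hz's : ∀ i, QuadraticMap.polar Q z' (s i) = 0 := fun i => by
    change L i z' = 0
    rw [hz', map_sub, map_sum, Finset.sum_eq_single i (fun j _ hj => by
      rw [map_smul]; change _ * QuadraticMap.polar Q (s j) (s i) = 0; rw [ho j i hj, mul_zero]) (by simp), map_smul]
    change QuadraticMap.polar Q z (s i) - _ * QuadraticMap.polar Q (s i) (s i) = 0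
    rw [OSim.self_eq S.D, div_mul_cancel₀ _ (mul_ne_zero S.D.h2 (hq i)), sub_self]
  have hz'd : QuadraticMap.polar Q z' d = QuadraticMap.polar Q z d := by
    change L' z' = L' z
    rw [hz', map_sub, map_sum, Finset.sum_eq_zero fun j _ => by
      rw [map_smul]; change _ * QuadraticMap.polar Q (s j) d = 0
      rw [show QuadraticMap.polar Q (s j) d = 0 by rw [OSim.symm S.D]; exact hds j, mul_zero], sub_zero]
  have h := hzero (z' + d) fun i => by rw [OSim.add_left S.D, hz's, hds, add_zero]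
  rw [OSim.quad_sum S.D, hzero z' hz's, hzero d hds, hz'd, add_zero, zero_add] at h
  exact hz h

/-- A hyperbolic partner of an isotropic line. -/
theorem exists_b0 {z : ι → F} (hz : Q z = 0) (hz0 : z ≠ 0) :
    ∃ b, Q b = 0 ∧ b ≠ 0 ∧ QuadraticMap.polar Q z b = 0 ∧ QuadraticMap.polar Q (J *ᵥ z) b = 1 := by
  obtain ⟨x, hxs, hxJ⟩ := OSim.exists_sep S.D (s := ![z]) (a := J *ᵥ z) fun hm => by
    obtain ⟨c, hc⟩ := OSim.mem_span1 S.D hm
    exact J_ne S hz0 c hc
  have hxz : QuadraticMap.polar Q x z = 0 := hxs 0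
  have hJJ : QuadraticMap.polar Q (J *ᵥ z) (J *ᵥ z) = 0 := by rw [p_JJ S, OSim.self_zero S.D hz, mul_zero, neg_zero]
  refine ⟨x + (-Q x) • (J *ᵥ z), ?_, fun e => ?_, ?_, ?_⟩
  · rw [OSim.quad_sum S.D, OSim.quad_smul S.D, q_J S, hz, OSim.smul_right S.D, hxJ]; ring
  · have := congrArg (fun w => QuadraticMap.polar Q w (J *ᵥ z)) e
    simp only [OSim.add_left S.D, OSim.smul_left S.D, hxJ, hJJ, OSim.zero_left S.D, mul_zero, add_zero] at this
    exact one_ne_zero this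
  · rw [OSim.add_right S.D, OSim.smul_right S.D, OSim.symm S.D z x, hxz, p_self_J S, mul_zero, add_zero]
  · rw [OSim.add_right S.D, OSim.smul_right S.D, OSim.symm S.D _ x, hxJ, hJJ, mul_zero, add_zero]

/-- An anisotropic vector orthogonal to a hyperbolic pair of lines. -/
theorem aniso_perp {v u : ι → F} (hv : Q v = 0) (hl : QuadraticMap.polar Q v u ≠ 0)
    (hJ : QuadraticMap.polar Q (J *ᵥ v) u = 0) :
    ∃ y, Q y ≠ 0 ∧ ∀ i, QuadraticMap.polar Q y (![v, J *ᵥ v, u, J *ᵥ u] i) = 0 := by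
  classical
  by_contra hcon
  push Not at hcon
  obtain ⟨U, hU, hd⟩ := OSim.exists_perpSpace S.D ![v, J *ᵥ v, u, J *ᵥ u]
  obtain ⟨d, hdU, hd0⟩ := Submodule.exists_mem_ne_zero_of_ne_bot (p := U) fun e => by
    have := S.D.hn
    rw [e, finrank_bot] at hd; omega
  have hzero : ∀ z, (∀ i, QuadraticMap.polar Q z (![v, J *ᵥ v, u, J *ᵥ u] i) = 0) → Q z = 0 := fun z hz => by
    by_contra h
    obtain ⟨i, hi⟩ := hcon z h
    exact hi (hz i)
  obtain ⟨x, hx⟩ : ∃ x, QuadraticMap.polar Q x d ≠ 0 := by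
    by_contra h
    push Not at h
    exact hd0 (OSim.eq_zero_of_perp S.D h)
  have hν := nsq_ne_zero S
  obtain ⟨lam, hlam⟩ : ∃ l, l = QuadraticMap.polar Q v u := ⟨_, rfl⟩
  rw [← hlam] at hl
  obtain ⟨α, hα⟩ : ∃ α, α = QuadraticMap.polar Q x v / lam := ⟨_, rfl⟩
  obtain ⟨β, hβ⟩ : ∃ β, β = -QuadraticMap.polar Q x (J *ᵥ v) / (ν * lam) := ⟨_, rfl⟩
  obtain ⟨γ, hγ⟩ : ∃ γ, γ = (QuadraticMap.polar Q x u - α * (2 * Q u)) / lam := ⟨_, rfl⟩
  obtain ⟨δ, hδ⟩ : ∃ δ, δ = -(QuadraticMap.polar Q x (J *ᵥ u) + β * (ν * (2 * Q u))) / (ν * lam) := ⟨_, rfl⟩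
  obtain ⟨x', hx'⟩ : ∃ x', x' = x - α • u - β • (J *ᵥ u) - γ • v - δ • (J *ᵥ v) := ⟨_, rfl⟩
  have vv := OSim.self_zero S.D hv
  have uu := OSim.self_eq S.D u
  have vJv := p_self_J S v
  have uJu := p_self_J S u
  have Jvv : QuadraticMap.polar Q (J *ᵥ v) v = 0 := by rw [OSim.symm S.D]; exact vJv
  have Juu : QuadraticMap.polar Q (J *ᵥ u) u = 0 := by rw [OSim.symm S.D]; exact uJu
  have uv : QuadraticMap.polar Q u v = lam := by rw [hlam, OSim.symm S.D]
  have uJv : QuadraticMap.polar Q u (J *ᵥ v) = 0 := by rw [OSim.symm S.D]; exact hJ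
  have vJu : QuadraticMap.polar Q v (J *ᵥ u) = 0 := by
    rw [p_Jr S, ← neg_eq_zero, ← p_Jl S]; exact hJ
  have Juv : QuadraticMap.polar Q (J *ᵥ u) v = 0 := by rw [OSim.symm S.D]; exact vJu
  have JuJv : QuadraticMap.polar Q (J *ᵥ u) (J *ᵥ v) = -(ν * lam) := by rw [p_JJ S, uv]
  have JvJu : QuadraticMap.polar Q (J *ᵥ v) (J *ᵥ u) = -(ν * lam) := by rw [p_JJ S, ← hlam]
  have JuJu : QuadraticMap.polar Q (J *ᵥ u) (J *ᵥ u) = -(ν * (2 * Q u)) := by rw [p_JJ S, uu]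
  have JvJv : QuadraticMap.polar Q (J *ᵥ v) (J *ᵥ v) = 0 := by rw [p_JJ S, vv, mul_zero, neg_zero]
  have hs' : ∀ i, QuadraticMap.polar Q x' (![v, J *ᵥ v, u, J *ᵥ u] i) = 0 := by
    intro i
    fin_cases i
    · change QuadraticMap.polar Q x' v = 0
      simp only [hx', OSim.sub_left S.D, OSim.smul_left S.D, uv, Juv, vv, Jvv, hα]
      field_simp
      ring
    · change QuadraticMap.polar Q x' (J *ᵥ v) = 0
      simp only [hx', OSim.sub_left S.D, OSim.smul_left S.D, uJv, JuJv, vJv, JvJv, hβ]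
      field_simp
      ring
    · change QuadraticMap.polar Q x' u = 0
      simp only [hx', OSim.sub_left S.D, OSim.smul_left S.D, uu, Juu, ← hlam, hJ, hγ]
      field_simp
      ring
    · change QuadraticMap.polar Q x' (J *ᵥ u) = 0
      simp only [hx', OSim.sub_left S.D, OSim.smul_left S.D, uJu, JuJu, vJu, JvJu, hδ]
      field_simp
      ring
  have hds := hU d hdU
  have hx'd : QuadraticMap.polar Q x' d = QuadraticMap.polar Q x d := by
    have d0 : QuadraticMap.polar Q v d = 0 := by rw [OSim.symm S.D]; exact hds 0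
    have d1 : QuadraticMap.polar Q (J *ᵥ v) d = 0 := by rw [OSim.symm S.D]; exact hds 1
    have d2 : QuadraticMap.polar Q u d = 0 := by rw [OSim.symm S.D]; exact hds 2
    have d3 : QuadraticMap.polar Q (J *ᵥ u) d = 0 := by rw [OSim.symm S.D]; exact hds 3
    simp only [hx', OSim.sub_left S.D, OSim.smul_left S.D, d0, d1, d2, d3]
    ring
  have h := hzero (x' + d) fun i => by rw [OSim.add_left S.D, hs', hds, add_zero]
  rw [OSim.quad_sum S.D, hzero x' hs', hzero d hds, hx'd, add_zero, zero_add] at h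
  exact hx h

/-- An isotropic vector orthogonal to an anisotropic line and not to an outside vector. -/
theorem iso_pick {y z : ι → F} (hy : Q y ≠ 0) (hz : z ∉ Submodule.span F (Set.range ![y, J *ᵥ y])) :
    ∃ a, Q a = 0 ∧ QuadraticMap.polar Q a y = 0 ∧ QuadraticMap.polar Q a (J *ᵥ y) = 0 ∧
      QuadraticMap.polar Q a z ≠ 0 := by
  classical
  have hν := nsq_ne_zero S
  have h2 := S.D.h2
  have yy := OSim.self_eq S.D y
  have yJy := p_self_J S y
  have Jyy : QuadraticMap.polar Q (J *ᵥ y) y = 0 := by rw [OSim.symm S.D]; exact yJy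
  have JyJy : QuadraticMap.polar Q (J *ᵥ y) (J *ᵥ y) = -(ν * (2 * Q y)) := by rw [p_JJ S, yy]
  obtain ⟨z1, hz1⟩ : ∃ z1, z1 = z - (QuadraticMap.polar Q z y / (2 * Q y)) • y -
      (QuadraticMap.polar Q z (J *ᵥ y) / (-(ν * (2 * Q y)))) • (J *ᵥ y) := ⟨_, rfl⟩
  have z1y : QuadraticMap.polar Q z1 y = 0 := by
    simp only [hz1, OSim.sub_left S.D, OSim.smul_left S.D, yy, Jyy]; field_simp; ring
  have z1Jy : QuadraticMap.polar Q z1 (J *ᵥ y) = 0 := by
    simp only [hz1, OSim.sub_left S.D, OSim.smul_left S.D, yJy, JyJy]; field_simp; ring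
  have hperpz : ∀ w, QuadraticMap.polar Q w y = 0 → QuadraticMap.polar Q w (J *ᵥ y) = 0 →
      QuadraticMap.polar Q w z1 = QuadraticMap.polar Q w z := fun w h h' => by
    simp only [hz1, OSim.sub_right S.D, OSim.smul_right S.D, h, h']; ring
  by_cases hQ1 : Q z1 = 0
  · obtain ⟨x, hxs, hxz⟩ := OSim.exists_sep S.D hz
    have hxy : QuadraticMap.polar Q x y = 0 := hxs 0
    have hxJ : QuadraticMap.polar Q x (J *ᵥ y) = 0 := hxs 1
    refine ⟨x + (-Q x) • z1, ?_, ?_, ?_, ?_⟩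
    · rw [OSim.quad_sum S.D, OSim.quad_smul S.D, hQ1, OSim.smul_right S.D, hperpz x hxy hxJ, hxz]; ring
    · rw [OSim.add_left S.D, OSim.smul_left S.D, hxy, z1y]; ring
    · rw [OSim.add_left S.D, OSim.smul_left S.D, hxJ, z1Jy]; ring
    · rw [OSim.add_left S.D, OSim.smul_left S.D, hxz, ← hperpz z1 z1y z1Jy, OSim.self_zero S.D hQ1]
      simp
  have Jzy : QuadraticMap.polar Q (J *ᵥ z1) y = 0 := by rw [p_Jl S, ← p_Jr S, z1Jy, neg_zero]
  have JzJy : QuadraticMap.polar Q (J *ᵥ z1) (J *ᵥ y) = 0 := by rw [p_JJ S, z1y, mul_zero, neg_zero]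
  obtain ⟨c, hc, hcs⟩ := aniso_extend S ![y, J *ᵥ y, z1, J *ᵥ z1]
    (fun i => by
      fin_cases i
      · exact hy
      · change Q (J *ᵥ y) ≠ 0
        rw [q_J S]; exact neg_ne_zero.mpr (mul_ne_zero hν hy)
      · exact hQ1
      · change Q (J *ᵥ z1) ≠ 0
        rw [q_J S]; exact neg_ne_zero.mpr (mul_ne_zero hν hQ1))
    (fun i j hij => by
      have := p_self_J S z1
      fin_cases i <;> fin_cases j <;>
        first
        | exact absurd rfl hij
        | assumption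
        | (change QuadraticMap.polar Q _ _ = 0; rw [OSim.symm S.D]; assumption))
    (by have := S.D.hn; omega)
  have cy : QuadraticMap.polar Q c y = 0 := hcs 0
  have cJy : QuadraticMap.polar Q c (J *ᵥ y) = 0 := hcs 1
  have cz : QuadraticMap.polar Q c z1 = 0 := hcs 2
  have cJz : QuadraticMap.polar Q c (J *ᵥ z1) = 0 := hcs 3
  have Jcy : QuadraticMap.polar Q (J *ᵥ c) y = 0 := by rw [p_Jl S, ← p_Jr S, cJy, neg_zero]
  have JcJy : QuadraticMap.polar Q (J *ᵥ c) (J *ᵥ y) = 0 := by rw [p_JJ S, cy, mul_zero, neg_zero]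
  have Jcz : QuadraticMap.polar Q (J *ᵥ c) z1 = 0 := by rw [p_Jl S, ← p_Jr S, cJz, neg_zero]
  obtain ⟨s, t, hst⟩ := FiniteField.exists_root_sum_quadratic (R := F)
    (f := Polynomial.C (Q c) * Polynomial.X ^ 2)
    (g := Polynomial.C (-(ν * Q c)) * Polynomial.X ^ 2 + Polynomial.C (Q z1))
    (Polynomial.degree_C_mul_X_pow 2 hc)
    (by rw [Polynomial.degree_add_C (by rw [Polynomial.degree_C_mul_X_pow 2 (neg_ne_zero.mpr (mul_ne_zero hν hc))]; norm_num),
      Polynomial.degree_C_mul_X_pow 2 (neg_ne_zero.mpr (mul_ne_zero hν hc))]; rfl)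
    (FiniteField.odd_card_of_char_ne_two fun hh => h2 (by
      haveI := ringChar.of_eq hh
      exact CharTwo.two_eq_zero))
  simp only [Polynomial.eval_mul, Polynomial.eval_C, Polynomial.eval_pow, Polynomial.eval_X,
    Polynomial.eval_add] at hst
  refine ⟨z1 + s • c + t • (J *ᵥ c), ?_, ?_, ?_, ?_⟩
  · simp only [OSim.quad_sum S.D, OSim.quad_smul S.D, OSim.add_left S.D, OSim.smul_left S.D, OSim.smul_right S.D,
      q_J S, OSim.symm S.D z1 c, cz, OSim.symm S.D z1 (J *ᵥ c), Jcz, p_self_J S]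
    linear_combination hst
  · simp only [OSim.add_left S.D, OSim.smul_left S.D, z1y, cy, Jcy]; ring
  · simp only [OSim.add_left S.D, OSim.smul_left S.D, z1Jy, cJy, JcJy]; ring
  · rw [← hperpz _ (by simp only [OSim.add_left S.D, OSim.smul_left S.D, z1y, cy, Jcy]; ring)
      (by simp only [OSim.add_left S.D, OSim.smul_left S.D, z1Jy, cJy, JcJy]; ring)]
    simp only [OSim.add_left S.D, OSim.smul_left S.D, OSim.self_eq S.D, cz, Jcz, mul_zero, add_zero]
    exact mul_ne_zero h2 hQ1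

/-- An element moving vectors along an isotropic line and an orthogonal vector. -/
theorem exists_siegel {v y : ι → F} (hv : Q v = 0) (hyv : QuadraticMap.polar Q y v = 0) (hfyv : f y v = 0) :
    ∃ k ∈ K, ∀ x, (k : Matrix ι ι F) *ᵥ x = x + (f x (J *ᵥ v)) • y + (-f x v) • (J *ᵥ y)
      + (-f x (J *ᵥ y)) • v + (f x y) • (J *ᵥ v) + (-Q y) • ((f x (J *ᵥ v)) • v + (-f x v) • (J *ᵥ v)) := by
  obtain ⟨E, hE⟩ : ∃ E : F → (ι → F) → ι → F, ∀ e x, E e x = x + (e * f x (J *ᵥ v)) • y + (-(e * f x v)) • (J *ᵥ y)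
      + (-(e * f x (J *ᵥ y))) • v + (e * f x y) • (J *ᵥ v)
      + (-(e * e * Q y)) • ((f x (J *ᵥ v)) • v + (-f x v) • (J *ᵥ v)) := ⟨_, fun _ _ => rfl⟩
  have hfl : ∀ a b c, f (a + b) c = f a c + f b c := S.fs.bilinear.add_left
  have hfs : ∀ (r : F) a c, f (r • a) c = r * f a c := S.fs.bilinear.smul_left
  have e1 : f v v = 0 := S.fs.alternating v
  have e2 : f v (J *ᵥ v) = 0 := by rw [← S.hQ]; exact OSim.self_zero S.D hv
  have e3 : f (J *ᵥ v) v = 0 := by rw [S.fs.skew, e2, neg_zero]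
  have e4 : f (J *ᵥ v) (J *ᵥ v) = 0 := S.fs.alternating _
  have e5 : f v y = 0 := by rw [S.fs.skew, hfyv, neg_zero]
  have e6 : f y (J *ᵥ v) = 0 := by rw [← S.hQ]; exact hyv
  have e7 : f (J *ᵥ v) y = 0 := by rw [S.fs.skew, e6, neg_zero]
  have e8 : f v (J *ᵥ y) = 0 := by rw [← S.hQ, OSim.symm S.D]; exact hyv
  have e9 : f (J *ᵥ y) v = 0 := by rw [S.fs.skew, e8, neg_zero]
  have e10 : f (J *ᵥ y) (J *ᵥ v) = 0 := by rw [f_J_J S, hfyv, mul_zero, neg_zero]
  have e11 : f (J *ᵥ v) (J *ᵥ y) = 0 := by rw [S.fs.skew, e10, neg_zero]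
  have e12 : f y (J *ᵥ y) = 2 * Q y := by rw [← S.hQ, OSim.self_eq S.D]
  have e13 : f (J *ᵥ y) y = -(2 * Q y) := by rw [S.fs.skew, e12]
  have e14 : f y y = 0 := S.fs.alternating y
  have e15 : f (J *ᵥ y) (J *ᵥ y) = 0 := S.fs.alternating _
  have hcomp : ∀ e x, E e (E (-e) x) = x := fun e x => by
    rw [hE e, hE (-e)]
    simp only [hfl, hfs, e1, e2, e3, e4, e5, hfyv, e6, e7, e8, e9, e10, e11, e12, e13, e14, e15]
    match_scalars <;> ring
  let L : F → ((ι → F) →ₗ[F] (ι → F)) := fun e =>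
    { toFun := E e
      map_add' := fun a b => by simp only [hE, hfl]; match_scalars <;> ring
      map_smul' := fun r a => by simp only [hE, hfs, RingHom.id_apply]; match_scalars <;> ring }
  have hL : ∀ e x, LinearMap.toMatrix' (L e) *ᵥ x = E e x := fun e x => by
    rw [← Matrix.toLin'_apply, Matrix.toLin'_toMatrix']; rfl
  let k : GL ι F := ⟨LinearMap.toMatrix' (L 1), LinearMap.toMatrix' (L (-1)),
    Matrix.ext_of_mulVec_single fun i => by rw [← Matrix.mulVec_mulVec, hL, hL, hcomp, Matrix.one_mulVec],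
    Matrix.ext_of_mulVec_single fun i => by
      rw [← Matrix.mulVec_mulVec, hL, hL, Matrix.one_mulVec]
      conv_lhs => enter [2, 1]; rw [← neg_neg (1 : F)]
      rw [hcomp]⟩
  have hk : ∀ x, (k : Matrix ι ι F) *ᵥ x = E 1 x := hL 1
  refine ⟨k, S.base k (fun a b => ?_) (fun x => ?_), fun x => ?_⟩
  · simp only [hk, hE]
    simp only [hfl, hfs, S.fs.bilinear.add_right, S.fs.bilinear.smul_right, e1, e2, e3, e4, e5, hfyv, e6, e7, e8, e9,
      e10, e11, e12, e13, e14, e15, S.fs.skew v b, S.fs.skew (J *ᵥ v) b, S.fs.skew y b, S.fs.skew (J *ᵥ y) b]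
    ring
  · simp only [hk, hE, Matrix.mulVec_add, Matrix.mulVec_smul, S.sq, S.skewJ x, S.fs.bilinear.smul_right]
    match_scalars <;> ring
  · rw [hk, hE]
    simp only [one_mul]

/-- A fixed isotropic vector with moved partner in general position: the centre. -/
theorem ctr_flat {g : GL ι F} (hg : g ∈ K) {v : ι → F} (hv : Q v = 0) (hv0 : v ≠ 0)
    (hgv : (g : Matrix ι ι F) *ᵥ v = v)
    (hP : QuadraticMap.polar Q ((g : Matrix ι ι F) *ᵥ (J *ᵥ v)) v = 0)
    (hout : (g : Matrix ι ι F) *ᵥ (J *ᵥ v) ∉ Submodule.span F (Set.range ![v, J *ᵥ v])) :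
    ∃ d, Q d = 0 ∧ d ≠ 0 ∧ Ctr f K d := by
  obtain ⟨u', hu'⟩ : ∃ u', u' = (g : Matrix ι ι F) *ᵥ (J *ᵥ v) := ⟨_, rfl⟩
  rw [← hu'] at hP hout
  obtain ⟨y, hys, hyu⟩ := OSim.exists_sep S.D hout
  have hyv : QuadraticMap.polar Q y v = 0 := hys 0
  have hyJv : QuadraticMap.polar Q y (J *ᵥ v) = 0 := hys 1
  have hfyv : f y v = 0 := by rw [f_of S, hyJv, mul_zero]
  have fnr : ∀ x z, f x (-z) = -f x z := fun x z => by rw [← neg_one_smul F z, S.fs.bilinear.smul_right]; ring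
  have fnl : ∀ x z, f (-x) z = -f x z := fun x z => by rw [← neg_one_smul F x, S.fs.bilinear.smul_left]; ring
  have hvJv : f v (J *ᵥ v) = 0 := by rw [← S.hQ]; exact OSim.self_zero S.D hv
  have h_uu' : f v u' = 0 := by
    conv_lhs => arg 1; rw [← hgv]
    rw [hu', S.iso g hg, hvJv]
  have h_u'u : f u' v = 0 := by rw [S.fs.skew, h_uu', neg_zero]
  have h_u'Jv : f u' (J *ᵥ v) = 0 := by rw [← S.hQ]; exact hP
  obtain ⟨d, hd⟩ : ∃ d, d = (-f u' (J *ᵥ y)) • v + (f u' y) • (J *ᵥ v) := ⟨_, rfl⟩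
  have hu'Jy : f u' (J *ᵥ y) = 1 := by rw [← S.hQ, OSim.symm S.D]; exact hyu
  obtain ⟨k1, hk1, hk1x⟩ := exists_siegel S hv hyv hfyv
  obtain ⟨k2, hk2, hk2x⟩ := exists_siegel S (y := -y) hv (by rw [OSim.neg_left S.D, hyv, neg_zero])
    (by rw [fnl, hfyv, neg_zero])
  have hfix : ∀ {k : GL ι F} {w : ι → F}, (∀ x, (k : Matrix ι ι F) *ᵥ x = x + (f x (J *ᵥ v)) • w + (-f x v) • (J *ᵥ w)
      + (-f x (J *ᵥ w)) • v + (f x w) • (J *ᵥ v) + (-Q w) • ((f x (J *ᵥ v)) • v + (-f x v) • (J *ᵥ v))) →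
      QuadraticMap.polar Q w v = 0 → f w v = 0 → (k : Matrix ι ι F) *ᵥ v = v := fun {k w} hkx h1 h1' => by
    have a1 : f v (J *ᵥ w) = 0 := by rw [← S.hQ, OSim.symm S.D]; exact h1
    have a2 : f v w = 0 := by rw [S.fs.skew, h1', neg_zero]
    rw [hkx, hvJv, S.fs.alternating, a1, a2]
    simp
  have hk1v := hfix hk1x hyv hfyv
  have hk2v := hfix hk2x (by rw [OSim.neg_left S.D, hyv, neg_zero]) (by rw [fnl, hfyv, neg_zero])
  have hk1u : (k1 : Matrix ι ι F) *ᵥ u' = u' + d := by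
    rw [hk1x, h_u'u, h_u'Jv, hd]; module
  have hk2u : (k2 : Matrix ι ι F) *ᵥ u' = u' + -d := by
    rw [hk2x, h_u'u, h_u'Jv, hd, Matrix.mulVec_neg, fnr, fnr]; module
  have h_ud : f v d = 0 := by
    rw [hd, S.fs.bilinear.add_right, S.fs.bilinear.smul_right, S.fs.bilinear.smul_right, S.fs.alternating, hvJv]; ring
  have h_u'd : f u' d = 0 := by
    rw [hd, S.fs.bilinear.add_right, S.fs.bilinear.smul_right, S.fs.bilinear.smul_right, h_u'u, h_u'Jv]; ring
  have h_du : f d v = 0 := by rw [S.fs.skew, h_ud, neg_zero]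
  have h_du' : f d u' = 0 := by rw [S.fs.skew, h_u'd, neg_zero]
  have hd0 : d ≠ 0 := fun e => by
    rw [hd, hu'Jy] at e
    by_cases hc : f u' y = 0
    · rw [hc, zero_smul, add_zero] at e
      exact hv0 ((smul_eq_zero.mp e).resolve_left (neg_ne_zero.mpr one_ne_zero))
    · refine J_ne S hv0 (f u' y)⁻¹ ?_
      rw [neg_one_smul, neg_add_eq_zero] at e
      conv_rhs => arg 2; rw [e]
      rw [smul_smul, inv_mul_cancel₀ hc, one_smul]
  have hdQ : Q d = 0 := by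
    rw [hd, OSim.quad_sum S.D, OSim.quad_smul S.D, OSim.quad_smul S.D, q_J S, hv, OSim.smul_left S.D,
      OSim.smul_right S.D, p_self_J S]
    ring
  refine ⟨d, hdQ, hd0, fun c y' hy => ?_⟩
  obtain ⟨U, hU, hUv, -⟩ := exists_unitary S hv (c / 2)
  obtain ⟨X, hX⟩ : ∃ X, X = g * U * g⁻¹ := ⟨_, rfl⟩
  have hXK : X ∈ K := hX ▸ mul_mem (mul_mem hg hU) (inv_mem hg)
  have hginv : ∀ x w, f (((g⁻¹ : GL ι F) : Matrix ι ι F) *ᵥ x) w = f x ((g : Matrix ι ι F) *ᵥ w) := fun x w => by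
    rw [← S.iso g hg, gl_mulVec_inv_cancel]
  have hXv : ∀ x, (X : Matrix ι ι F) *ᵥ x = x + (c / 2 * f x u') • u' + (-(c / 2 * ν) * f x v) • v := fun x => by
    rw [hX, gl_mul_mulVec, gl_mul_mulVec, hUv, Matrix.mulVec_add, Matrix.mulVec_add, gl_mulVec_inv_cancel,
      Matrix.mulVec_smul, Matrix.mulVec_smul, hginv, hginv, ← hu', hgv]
  have hconj : ∀ k ∈ K, (k : Matrix ι ι F) *ᵥ v = v → ∀ x, ((k * X * k⁻¹ : GL ι F) : Matrix ι ι F) *ᵥ x =
      x + (c / 2 * f x ((k : Matrix ι ι F) *ᵥ u')) • ((k : Matrix ι ι F) *ᵥ u') + (-(c / 2 * ν) * f x v) • v := by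
    intro k hk hku x
    have hk' : ∀ x w, f (((k⁻¹ : GL ι F) : Matrix ι ι F) *ᵥ x) w = f x ((k : Matrix ι ι F) *ᵥ w) := fun x w => by
      rw [← S.iso k hk, gl_mulVec_inv_cancel]
    rw [gl_mul_mulVec, gl_mul_mulVec, hXv, Matrix.mulVec_add, Matrix.mulVec_add, gl_mulVec_inv_cancel,
      Matrix.mulVec_smul, Matrix.mulVec_smul, hk', hk', hku]
  have hA := hconj k1 hk1 hk1v
  have hB := hconj k2 hk2 hk2v
  rw [hk1u] at hA
  rw [hk2u] at hB
  obtain ⟨A, hAdef⟩ : ∃ A, A = k1 * X * k1⁻¹ := ⟨_, rfl⟩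
  obtain ⟨B, hBdef⟩ : ∃ B, B = k2 * X * k2⁻¹ := ⟨_, rfl⟩
  rw [← hAdef] at hA
  rw [← hBdef] at hB
  have key : y' * X * X = A * B := gl_ext_mulVec fun x => by
    rw [gl_mul_mulVec, gl_mul_mulVec, gl_mul_mulVec, hXv, hXv, hy, hB, hA]
    simp only [S.fs.bilinear.add_left, S.fs.bilinear.add_right, S.fs.bilinear.smul_left, S.fs.bilinear.smul_right,
      S.fs.alternating, fnr, fnl, h_uu', h_u'u, h_ud, h_du, h_u'd, h_du', mul_zero, add_zero, zero_add, smul_add, mul_add,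
      neg_zero, smul_neg]
    have := S.D.h2
    match_scalars <;> field_simp <;> ring
  have hy' : y' = A * B * X⁻¹ * X⁻¹ := by rw [← key]; group
  rw [hy']
  exact mul_mem (mul_mem (mul_mem (hAdef ▸ mul_mem (mul_mem hk1 hXK) (inv_mem hk1))
    (hBdef ▸ mul_mem (mul_mem hk2 hXK) (inv_mem hk2))) (inv_mem hXK)) (inv_mem hXK)

/-- A fixed isotropic vector with moved partner spanning a hyperbolic line: the centre. -/
theorem ctr_hyp {g : GL ι F} (hg : g ∈ K) {v : ι → F} (hv : Q v = 0) (hv0 : v ≠ 0)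
    (hgv : (g : Matrix ι ι F) *ᵥ v = v)
    (hP : QuadraticMap.polar Q ((g : Matrix ι ι F) *ᵥ (J *ᵥ v)) v ≠ 0) :
    ∃ d, Q d = 0 ∧ d ≠ 0 ∧ Ctr f K d := by
  classical
  have h2 := S.D.h2
  have hν := nsq_ne_zero S
  obtain ⟨u, hu⟩ : ∃ u, u = (g : Matrix ι ι F) *ᵥ (J *ᵥ v) := ⟨_, rfl⟩
  obtain ⟨w, hw⟩ : ∃ w, w = J *ᵥ v := ⟨_, rfl⟩
  rw [← hu] at hP
  obtain ⟨L, hL⟩ : ∃ L, L = f u w := ⟨_, rfl⟩
  have hPL : QuadraticMap.polar Q u v = L := by rw [hL, hw, S.hQ]
  rw [hPL] at hP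
  have fvv : f v v = 0 := S.fs.alternating v
  have fww : f w w = 0 := S.fs.alternating w
  have fuu : f u u = 0 := S.fs.alternating u
  have fvw : f v w = 0 := by rw [hw, ← S.hQ]; exact OSim.self_zero S.D hv
  have fwv : f w v = 0 := by rw [S.fs.skew, fvw, neg_zero]
  have fvu : f v u = 0 := by
    conv_lhs => arg 1; rw [← hgv]
    rw [hu, S.iso g hg, ← hw, fvw]
  have fuv : f u v = 0 := by rw [S.fs.skew, fvu, neg_zero]
  have fwu : f w u = -L := by rw [hL, S.fs.skew]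
  have hfl : ∀ a b c, f (a + b) c = f a c + f b c := S.fs.bilinear.add_left
  have hfs : ∀ (r : F) a c, f (r • a) c = r * f a c := S.fs.bilinear.smul_left
  have hfr : ∀ a b c, f a (b + c) = f a b + f a c := S.fs.bilinear.add_right
  have hfsr : ∀ (r : F) a c, f a (r • c) = r * f a c := S.fs.bilinear.smul_right
  have hinv : ∀ k ∈ K, ∀ x z, f (((k⁻¹ : GL ι F) : Matrix ι ι F) *ᵥ x) z = f x ((k : Matrix ι ι F) *ᵥ z) :=
    fun k hk x z => by rw [← S.iso k hk, gl_mulVec_inv_cancel]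
  obtain ⟨b, hb⟩ : ∃ b, b = (L * L)⁻¹ := ⟨_, rfl⟩
  obtain ⟨U1, hU1, hU1v, -⟩ := exists_unitary S hv 1
  obtain ⟨Ub, hUb, hUbv, -⟩ := exists_unitary S hv b
  rw [← hw] at hU1v hUbv
  have hXv : ∀ x, ((g * U1 * g⁻¹ : GL ι F) : Matrix ι ι F) *ᵥ x = x + f x u • u + (-ν * f x v) • v := fun x => by
    rw [gl_mul_mulVec, gl_mul_mulVec, hU1v, Matrix.mulVec_add, Matrix.mulVec_add, gl_mulVec_inv_cancel,
      Matrix.mulVec_smul, Matrix.mulVec_smul, hinv g hg, hinv g hg, hw, ← hu, hgv, one_mul, one_mul]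
  obtain ⟨Y, hYd⟩ : ∃ Y, Y = (g * U1 * g⁻¹ * Ub * (g * U1 * g⁻¹)) * (g * U1 * g⁻¹ * Ub * (g * U1 * g⁻¹)) :=
    ⟨_, rfl⟩
  have hYK : Y ∈ K := hYd ▸
    mul_mem (mul_mem (mul_mem (mul_mem (mul_mem hg hU1) (inv_mem hg)) hUb) (mul_mem (mul_mem hg hU1) (inv_mem hg)))
      (mul_mem (mul_mem (mul_mem (mul_mem hg hU1) (inv_mem hg)) hUb) (mul_mem (mul_mem hg hU1) (inv_mem hg)))
  obtain ⟨h, hh⟩ : ∃ h : (ι → F) → ι → F, ∀ x, h x = x + (-(2 / L) * f x w) • u + (2 / L * f x u) • w :=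
    ⟨_, fun _ => rfl⟩
  obtain ⟨χ, hχ⟩ : ∃ χ, χ = -(2 * ν * (2 + b)) := ⟨_, rfl⟩
  have hY : ∀ x, (Y : Matrix ι ι F) *ᵥ x = h x + (χ * f x v) • v := fun x => by
    have e : ∀ x, ((g * U1 * g⁻¹ * Ub * (g * U1 * g⁻¹) : GL ι F) : Matrix ι ι F) *ᵥ x =
        x + (f x u - L⁻¹ * f x w) • u + (L⁻¹ * f x u + b * f x w - L⁻¹ * 0) • w + (-ν * (2 + b) * f x v) • v := fun x => by
      rw [gl_mul_mulVec, gl_mul_mulVec, hXv x, hUbv, hXv]
      simp only [hfl, hfs, fvv, fww, fuu, fvw, fwv, fvu, fuv, fwu, ← hL, smul_zero, zero_smul, hb]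
      match_scalars <;> field_simp <;> ring
    rw [hYd, gl_mul_mulVec, e, e, hh, hχ]
    simp only [hfl, hfs, fvv, fww, fuu, fvw, fwv, fvu, fuv, fwu, ← hL, smul_zero, zero_smul, hb,
      S.fs.bilinear.smul_left]
    match_scalars <;> field_simp <;> ring
  have hhv : h v = v := by rw [hh, fvw, fvu]; simp
  have hY2 : ∀ x, ((Y * Y : GL ι F) : Matrix ι ι F) *ᵥ x = x + (2 * χ * f x v) • v := fun x => by
    rw [gl_mul_mulVec, hY x, hY, hh, hh]
    simp only [hfl, hfs, fvv, fww, fuu, fvw, fwv, fvu, fuv, fwu, ← hL]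
    match_scalars <;> field_simp <;> ring
  have hpow : ∀ (j : ℕ) x, ((Y ^ (2 * j + 1) : GL ι F) : Matrix ι ι F) *ᵥ x =
      h x + (((2 * j + 1 : ℕ) : F) * χ * f x v) • v := fun j => by
    induction j with
    | zero => intro x; rw [mul_zero, zero_add, pow_one, hY, Nat.cast_one, one_mul]
    | succ j ih =>
      intro x
      rw [show 2 * (j + 1) + 1 = (2 * j + 1) + 2 by ring, pow_add, pow_two, gl_mul_mulVec, hY2, ih,
        show h (x + (2 * χ * f x v) • v) = h x + (2 * χ * f x v) • h v by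
          rw [hh, hh, hh]; simp only [hfl, hfs, fvw, fvu]; match_scalars <;> ring,
        hhv, hfl, hfs, fvv, mul_zero, add_zero]
      push_cast
      match_scalars <;> ring
  obtain ⟨p, hp⟩ := CharP.exists F
  haveI : Fact p.Prime := ⟨CharP.char_is_prime F p⟩
  obtain ⟨j, hj⟩ : ∃ j, p = 2 * j + 1 := (Fact.out : p.Prime).odd_of_ne_two fun e => h2 (by
    subst e; exact CharP.cast_eq_zero F 2)
  obtain ⟨H, hHK, hH⟩ : ∃ H ∈ K, ∀ x, (H : Matrix ι ι F) *ᵥ x = h x := by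
    refine ⟨Y ^ (2 * j + 1), pow_mem hYK _, fun x => ?_⟩
    rw [hpow, ← hj, CharP.cast_eq_zero, zero_mul, zero_mul, zero_smul, add_zero]
  -- shears by the anisotropic part
  obtain ⟨y0, hy0, hys⟩ := aniso_perp S (v := v) (u := u) hv (by rw [OSim.symm S.D, hPL]; exact hP)
    (by rw [p_Jl S, fvu, mul_zero, neg_zero])
  have main : ∀ y, QuadraticMap.polar Q y v = 0 → QuadraticMap.polar Q y (J *ᵥ v) = 0 →
      QuadraticMap.polar Q y u = 0 → QuadraticMap.polar Q y (J *ᵥ u) = 0 →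
      ∃ Z ∈ K, ∀ x, (Z : Matrix ι ι F) *ᵥ x = x + (-(4 * Q y)) • (f x w • v + f x v • w) := by
    intro y hyv hyJv hyu hyJu
    have fyv : f y v = 0 := by rw [f_of S, hyJv, mul_zero]
    have fyu : f y u = 0 := by rw [f_of S, hyJu, mul_zero]
    have fuy : f u y = 0 := by rw [S.fs.skew, fyu, neg_zero]
    have fvy : f v y = 0 := by rw [S.fs.skew, fyv, neg_zero]
    have fyw : f y w = 0 := by rw [hw, ← S.hQ]; exact hyv
    have fwy : f w y = 0 := by rw [S.fs.skew, fyw, neg_zero]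
    have fyy : f y y = 0 := S.fs.alternating y
    have fwJy : f w (J *ᵥ y) = 0 := by rw [hw, f_J_J S, fvy, mul_zero, neg_zero]
    have fuJy : f u (J *ᵥ y) = 0 := by rw [← S.hQ, OSim.symm S.D]; exact hyu
    have fnr : ∀ x z, f x (-z) = -f x z := fun x z => by rw [← neg_one_smul F z, hfsr]; ring
    obtain ⟨k1, hk1, hk1x⟩ := exists_siegel S hv hyv fyv
    obtain ⟨k2, hk2, hk2x⟩ := exists_siegel S (y := -y) hv (by rw [OSim.neg_left S.D, hyv, neg_zero])
      (by rw [← neg_one_smul F y, hfs, fyv, mul_zero])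
    have hQn : Q (-y) = Q y := by rw [← neg_one_smul F y, OSim.quad_smul S.D]; ring
    have k1w : (k1 : Matrix ι ι F) *ᵥ w = w := by
      rw [hk1x, ← hw, fwv, fww, fwy, fwJy]; module
    have k2w : (k2 : Matrix ι ι F) *ᵥ w = w := by
      rw [hk2x, Matrix.mulVec_neg, ← hw, fnr, fnr, fwv, fww, fwy, fwJy]; module
    have k1u : (k1 : Matrix ι ι F) *ᵥ u = u + L • y + (-(Q y * L)) • v := by
      rw [hk1x, ← hw, fuv, fuy, fuJy, ← hL]; module
    have k2u : (k2 : Matrix ι ι F) *ᵥ u = u + (-L) • y + (-(Q y * L)) • v := by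
      rw [hk2x, Matrix.mulVec_neg, ← hw, fnr, fnr, fuv, fuy, fuJy, ← hL, hQn]; module
    have hconj : ∀ k ∈ K, (k : Matrix ι ι F) *ᵥ w = w → ∀ x, ((k * H * k⁻¹ : GL ι F) : Matrix ι ι F) *ᵥ x =
        x + (-(2 / L) * f x w) • ((k : Matrix ι ι F) *ᵥ u) + (2 / L * f x ((k : Matrix ι ι F) *ᵥ u)) • w :=
      fun k hk hkw x => by
        rw [gl_mul_mulVec, gl_mul_mulVec, hH, hh, Matrix.mulVec_add, Matrix.mulVec_add, gl_mulVec_inv_cancel,
          Matrix.mulVec_smul, Matrix.mulVec_smul, hinv k hk, hinv k hk, hkw]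
    refine ⟨k1 * H * k1⁻¹ * H * (k2 * H * k2⁻¹ * H), mul_mem (mul_mem (mul_mem (mul_mem hk1 hHK) (inv_mem hk1)) hHK)
      (mul_mem (mul_mem (mul_mem hk2 hHK) (inv_mem hk2)) hHK), fun x => ?_⟩
    rw [gl_mul_mulVec, gl_mul_mulVec, gl_mul_mulVec (k2 * H * k2⁻¹) H, hH, hH, hconj k1 hk1 k1w, hconj k2 hk2 k2w,
      k1u, k2u, hh, hh]
    simp only [hfl, hfs, hfr, hfsr, fvv, fww, fuu, fvw, fwv, fvu, fuv, fwu, fyy, fyv, fyu, fuy, fvy, fyw, fwy, ← hL]
    match_scalars <;> field_simp <;> ring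
  refine ⟨v, hv, hv0, fun c y hy => ?_⟩
  obtain ⟨a, e, hae⟩ := FiniteField.exists_root_sum_quadratic (R := F)
    (f := Polynomial.C (4 * Q y0) * Polynomial.X ^ 2)
    (g := Polynomial.C (4 * -(ν * Q y0)) * Polynomial.X ^ 2 + Polynomial.C (c / (2 * L)))
    (Polynomial.degree_C_mul_X_pow 2 (mul_ne_zero (by rw [show (4 : F) = 2 * 2 by norm_num]; exact mul_ne_zero h2 h2) hy0))
    (by
      have hne : (4 * -(ν * Q y0) : F) ≠ 0 := mul_ne_zero (by rw [show (4 : F) = 2 * 2 by norm_num]; exact mul_ne_zero h2 h2)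
        (neg_ne_zero.mpr (mul_ne_zero hν hy0))
      rw [Polynomial.degree_add_C (by rw [Polynomial.degree_C_mul_X_pow 2 hne]; norm_num),
        Polynomial.degree_C_mul_X_pow 2 hne]; rfl)
    (FiniteField.odd_card_of_char_ne_two fun hh' => h2 (by
      haveI := ringChar.of_eq hh'
      exact CharTwo.two_eq_zero))
  obtain ⟨a', e', hae'⟩ := FiniteField.exists_root_sum_quadratic (R := F)
    (f := Polynomial.C (4 * Q y0) * Polynomial.X ^ 2)
    (g := Polynomial.C (4 * -(ν * Q y0)) * Polynomial.X ^ 2 + Polynomial.C (1 : F))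
    (Polynomial.degree_C_mul_X_pow 2 (mul_ne_zero (by rw [show (4 : F) = 2 * 2 by norm_num]; exact mul_ne_zero h2 h2) hy0))
    (by
      have hne : (4 * -(ν * Q y0) : F) ≠ 0 := mul_ne_zero (by rw [show (4 : F) = 2 * 2 by norm_num]; exact mul_ne_zero h2 h2)
        (neg_ne_zero.mpr (mul_ne_zero hν hy0))
      rw [Polynomial.degree_add_C (by rw [Polynomial.degree_C_mul_X_pow 2 hne]; norm_num),
        Polynomial.degree_C_mul_X_pow 2 hne]; rfl)
    (FiniteField.odd_card_of_char_ne_two fun hh' => h2 (by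
      haveI := ringChar.of_eq hh'
      exact CharTwo.two_eq_zero))
  simp only [Polynomial.eval_mul, Polynomial.eval_C, Polynomial.eval_pow, Polynomial.eval_X,
    Polynomial.eval_add] at hae hae'
  have y0v : QuadraticMap.polar Q y0 v = 0 := hys 0
  have y0Jv : QuadraticMap.polar Q y0 (J *ᵥ v) = 0 := hys 1
  have y0u : QuadraticMap.polar Q y0 u = 0 := hys 2
  have y0Ju : QuadraticMap.polar Q y0 (J *ᵥ u) = 0 := hys 3
  have Jy0v : QuadraticMap.polar Q (J *ᵥ y0) v = 0 := by rw [p_Jl S, ← p_Jr S, y0Jv, neg_zero]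
  have Jy0Jv : QuadraticMap.polar Q (J *ᵥ y0) (J *ᵥ v) = 0 := by rw [p_JJ S, y0v, mul_zero, neg_zero]
  have Jy0u : QuadraticMap.polar Q (J *ᵥ y0) u = 0 := by rw [p_Jl S, ← p_Jr S, y0Ju, neg_zero]
  have Jy0Ju : QuadraticMap.polar Q (J *ᵥ y0) (J *ᵥ u) = 0 := by rw [p_JJ S, y0u, mul_zero, neg_zero]
  have get : ∀ a e : F, ∃ Z ∈ K, ∀ x, (Z : Matrix ι ι F) *ᵥ x =
      x + (-(4 * ((a ^ 2 - ν * e ^ 2) * Q y0))) • (f x w • v + f x v • w) := fun a e => by
    obtain ⟨Z, hZ, hZx⟩ := main (a • y0 + e • (J *ᵥ y0))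
      (by rw [OSim.add_left S.D, OSim.smul_left S.D, OSim.smul_left S.D, y0v, Jy0v]; ring)
      (by rw [OSim.add_left S.D, OSim.smul_left S.D, OSim.smul_left S.D, y0Jv, Jy0Jv]; ring)
      (by rw [OSim.add_left S.D, OSim.smul_left S.D, OSim.smul_left S.D, y0u, Jy0u]; ring)
      (by rw [OSim.add_left S.D, OSim.smul_left S.D, OSim.smul_left S.D, y0Ju, Jy0Ju]; ring)
    refine ⟨Z, hZ, fun x => ?_⟩
    rw [hZx, OSim.quad_sum S.D, OSim.quad_smul S.D, OSim.quad_smul S.D, q_J S, OSim.smul_left S.D,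
      OSim.smul_right S.D, p_self_J S]
    congr 2
    ring
  obtain ⟨Z, hZ, hZx⟩ := get a e
  rw [show -(4 * ((a ^ 2 - ν * e ^ 2) * Q y0)) = c / (2 * L) by linear_combination -hae] at hZx
  obtain ⟨Z0, hZ0, hZ0x⟩ := get a' e'
  rw [show -(4 * ((a' ^ 2 - ν * e' ^ 2) * Q y0)) = (1 : F) by linear_combination -hae'] at hZ0x
  have hZ' : ∀ x, ((g * Z0 * g⁻¹ : GL ι F) : Matrix ι ι F) *ᵥ x = x + (f x u • v + f x v • u) := fun x => by
    rw [gl_mul_mulVec, gl_mul_mulVec, hZ0x, Matrix.mulVec_add, gl_mulVec_inv_cancel, one_smul, Matrix.mulVec_add,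
      Matrix.mulVec_smul, Matrix.mulVec_smul, hinv g hg, hinv g hg, hw, ← hu, hgv]
  have key : Z * (g * Z0 * g⁻¹) = y * ((g * Z0 * g⁻¹) * Z) := gl_ext_mulVec fun x => by
    rw [gl_mul_mulVec, hZ', hZx, gl_mul_mulVec, gl_mul_mulVec (g * Z0 * g⁻¹) Z, hy, hZx, hZ']
    simp only [hfl, hfs, fvv, fww, fuu, fvw, fwv, fvu, fuv, fwu, ← hL]
    match_scalars <;> field_simp <;> ring
  rw [show y = Z * (g * Z0 * g⁻¹) * ((g * Z0 * g⁻¹) * Z)⁻¹ by rw [key, mul_inv_cancel_right]]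
  exact mul_mem (mul_mem hZ (mul_mem (mul_mem hg hZ0) (inv_mem hg)))
    (inv_mem (mul_mem (mul_mem (mul_mem hg hZ0) (inv_mem hg)) hZ))

/-- An element moving an isotropic line off the lines of `J` gives a centre. -/
theorem exists_ctr {g : GL ι F} (hg : g ∈ K) {v : ι → F} (hv : Q v = 0)
    (hmove : (g : Matrix ι ι F) *ᵥ (J *ᵥ v) ∉
      Submodule.span F (Set.range ![(g : Matrix ι ι F) *ᵥ v, J *ᵥ ((g : Matrix ι ι F) *ᵥ v)])) :
    ∃ d, Q d = 0 ∧ d ≠ 0 ∧ Ctr f K d := by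
  classical
  have hv0 : v ≠ 0 := fun e => by
    subst e
    refine hmove ?_
    simp only [Matrix.mulVec_zero]
    exact Submodule.zero_mem _
  obtain ⟨y, hy⟩ : ∃ y, y = (g : Matrix ι ι F) *ᵥ v := ⟨_, rfl⟩
  obtain ⟨z, hz⟩ : ∃ z, z = (g : Matrix ι ι F) *ᵥ (J *ᵥ v) := ⟨_, rfl⟩
  rw [← hy, ← hz] at hmove
  have hy0 : y ≠ 0 := fun e => hv0 (gl_mulVec_injective g ((hy.symm.trans e).trans (Matrix.mulVec_zero _).symm))
  have hfyz : f y z = 0 := by rw [hy, hz, S.iso g hg, ← S.hQ]; exact OSim.self_zero S.D hv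
  have hfzy : f z y = 0 := by rw [S.fs.skew, hfyz, neg_zero]
  have m0 : y ∈ Submodule.span F (Set.range ![y, J *ᵥ y]) := Submodule.subset_span ⟨0, rfl⟩
  have m1 : J *ᵥ y ∈ Submodule.span F (Set.range ![y, J *ᵥ y]) := Submodule.subset_span ⟨1, rfl⟩
  obtain ⟨b, hb, hby, hbz⟩ : ∃ b ∈ K, (b : Matrix ι ι F) *ᵥ y = y ∧
      ∀ α β : F, (b : Matrix ι ι F) *ᵥ z ≠ α • y + β • z := by
    by_cases hQy : Q y = 0
    · have fix : ∀ x, QuadraticMap.polar Q x y = 0 → f x y = 0 → ∀ k : GL ι F,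
          (∀ w, (k : Matrix ι ι F) *ᵥ w = w + (f w (J *ᵥ y)) • x + (-f w y) • (J *ᵥ x) + (-f w (J *ᵥ x)) • y
            + (f w x) • (J *ᵥ y) + (-Q x) • ((f w (J *ᵥ y)) • y + (-f w y) • (J *ᵥ y))) →
          (k : Matrix ι ι F) *ᵥ y = y := fun x h1 h1' k hk => by
        have a0 : f y (J *ᵥ y) = 0 := by rw [← S.hQ]; exact OSim.self_zero S.D hQy
        have a1 : f y (J *ᵥ x) = 0 := by rw [← S.hQ, OSim.symm S.D]; exact h1
        have a2 : f y x = 0 := by rw [S.fs.skew, h1', neg_zero]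
        rw [hk, a0, a1, a2, S.fs.alternating]
        simp
      by_cases hzy : QuadraticMap.polar Q z y = 0
      · obtain ⟨x, hxs, hxz⟩ := OSim.exists_sep S.D (s := ![y, J *ᵥ y]) (a := J *ᵥ z) fun hm => hmove (by
          obtain ⟨α, β, e⟩ := OSim.mem_span2 S.D hm
          have e2 := congrArg (fun w => ν⁻¹ • (J *ᵥ w)) e
          simp only [Matrix.mulVec_add, Matrix.mulVec_smul, S.sq, smul_add, smul_smul,
            inv_mul_cancel₀ (nsq_ne_zero S), one_smul] at e2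
          rw [e2]
          exact add_mem (Submodule.smul_mem _ _ m1) (Submodule.smul_mem _ _ m0))
        have hxy : QuadraticMap.polar Q x y = 0 := hxs 0
        have hfxy : f x y = 0 := by rw [f_of S, show QuadraticMap.polar Q x (J *ᵥ y) = 0 from hxs 1, mul_zero]
        obtain ⟨k, hk, hkx⟩ := exists_siegel S hQy hxy hfxy
        refine ⟨k, hk, fix x hxy hfxy k hkx, fun α β e => ?_⟩
        have hfzx : f z x ≠ 0 := by
          rw [S.fs.skew, f_of S, hxz, mul_one]; exact neg_ne_zero.mpr (inv_ne_zero (nsq_ne_zero S))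
        rw [hkx, hfzy, ← S.hQ z y, hzy] at e
        have e' : (1 - β) • z = (α + f z (J *ᵥ x)) • y + (-f z x) • (J *ᵥ y) := by
          linear_combination (norm := module) e
        by_cases hβ : 1 - β = 0
        · rw [hβ, zero_smul, neg_smul, ← sub_eq_add_neg, eq_comm, sub_eq_zero] at e'
          refine J_ne S hy0 ((f z x)⁻¹ * (α + f z (J *ᵥ x))) ?_
          rw [← smul_smul, e', smul_smul, inv_mul_cancel₀ hfzx, one_smul]
        · refine hmove ?_
          rw [show z = (1 - β)⁻¹ • ((1 - β) • z) by rw [smul_smul, inv_mul_cancel₀ hβ, one_smul], e']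
          exact Submodule.smul_mem _ _ (add_mem (Submodule.smul_mem _ _ m0) (Submodule.smul_mem _ _ m1))
      · obtain ⟨x, hxs, hxt⟩ := OSim.exists_perp S.D ![y, J *ᵥ y] ![y, J *ᵥ y, z] (by have := S.D.hn; omega)
        have hxy : QuadraticMap.polar Q x y = 0 := hxs 0
        have hfxy : f x y = 0 := by rw [f_of S, show QuadraticMap.polar Q x (J *ᵥ y) = 0 from hxs 1, mul_zero]
        obtain ⟨k, hk, hkx⟩ := exists_siegel S hQy hxy hfxy
        refine ⟨k, hk, fix x hxy hfxy k hkx, fun α β e => hxt ?_⟩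
        rw [hkx, hfzy, ← S.hQ z y] at e
        have e' : QuadraticMap.polar Q z y • x = (α + f z (J *ᵥ x) + Q x * QuadraticMap.polar Q z y) • y +
            (-f z x) • (J *ᵥ y) + (β - 1) • z := by
          linear_combination (norm := module) e
        rw [show x = (QuadraticMap.polar Q z y)⁻¹ • (QuadraticMap.polar Q z y • x) by
          rw [smul_smul, inv_mul_cancel₀ hzy, one_smul], e']
        exact Submodule.smul_mem _ _ (add_mem (add_mem (Submodule.smul_mem _ _ (Submodule.subset_span ⟨0, rfl⟩))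
          (Submodule.smul_mem _ _ (Submodule.subset_span ⟨1, rfl⟩)))
          (Submodule.smul_mem _ _ (Submodule.subset_span ⟨2, rfl⟩)))
    · obtain ⟨a, ha, hay, haJy, haz⟩ := iso_pick S hQy hmove
      obtain ⟨k, hk, hkx, -⟩ := exists_unitary S ha 1
      have a1 : f y (J *ᵥ a) = 0 := by rw [← S.hQ, OSim.symm S.D]; exact hay
      have a2 : f y a = 0 := by rw [S.fs.skew, f_of S, haJy, mul_zero, neg_zero]
      refine ⟨k, hk, by rw [hkx, a1, a2]; simp, fun α β e => ?_⟩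
      rw [hkx] at e
      have e' : (β - 1) • z + α • y = (1 * f z (J *ᵥ a)) • (J *ᵥ a) + (-(1 * ν) * f z a) • a := by
        linear_combination (norm := module) -e
      have za : QuadraticMap.polar Q z a ≠ 0 := by rw [OSim.symm S.D]; exact haz
      have ya : QuadraticMap.polar Q y a = 0 := by rw [OSim.symm S.D]; exact hay
      have Jaa : QuadraticMap.polar Q (J *ᵥ a) a = 0 := by rw [OSim.symm S.D]; exact p_self_J S a
      have Jay : QuadraticMap.polar Q (J *ᵥ a) y = 0 := by rw [p_Jl S, ← p_Jr S, haJy, neg_zero]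
      have g1 := congrArg (fun w => QuadraticMap.polar Q w a) e'
      have g2 := congrArg (fun w => QuadraticMap.polar Q w y) e'
      simp only [OSim.add_left S.D, OSim.smul_left S.D, ya, Jaa, OSim.self_zero S.D ha, mul_zero, add_zero] at g1
      simp only [OSim.add_left S.D, OSim.smul_left S.D, Jay, hay, OSim.self_eq S.D y, mul_zero, add_zero] at g2
      have hβ := (mul_eq_zero.mp g1).resolve_right za
      rw [hβ, zero_mul, zero_add] at g2
      have hα := (mul_eq_zero.mp g2).resolve_right (mul_ne_zero S.D.h2 hQy)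
      rw [hβ, hα, zero_smul, zero_smul, add_zero, one_mul, ← S.hQ, neg_mul, neg_smul, ← sub_eq_add_neg,
        eq_comm, sub_eq_zero] at e'
      refine J_ne S (w := a) (fun e0 => haz (by rw [e0, OSim.zero_left S.D]))
        ((QuadraticMap.polar Q z a)⁻¹ * (1 * ν * f z a)) ?_
      rw [← smul_smul, ← e', smul_smul, inv_mul_cancel₀ za, one_smul]
  obtain ⟨k, hk⟩ : ∃ k, k = g⁻¹ * b * g := ⟨_, rfl⟩
  have hkK : k ∈ K := hk ▸ mul_mem (mul_mem (inv_mem hg) hb) hg
  have hkv : (k : Matrix ι ι F) *ᵥ v = v := by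
    rw [hk, gl_mul_mulVec, gl_mul_mulVec, ← hy, hby, hy, gl_inv_mulVec_cancel]
  by_cases hP : QuadraticMap.polar Q ((k : Matrix ι ι F) *ᵥ (J *ᵥ v)) v = 0
  · refine ctr_flat S hkK hv hv0 hkv hP fun hm => ?_
    obtain ⟨α, β, e⟩ := OSim.mem_span2 S.D hm
    refine hbz α β ?_
    have e2 := congrArg (fun w => (g : Matrix ι ι F) *ᵥ w) e
    simp only [hk, gl_mul_mulVec, gl_mulVec_inv_cancel, Matrix.mulVec_add, Matrix.mulVec_smul, ← hy, ← hz] at e2
    exact e2
  · exact ctr_hyp S hkK hv hv0 hkv hP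

/-- The triangle of isotropic vectors at an isotropic vector. -/
theorem exists_tri {z : ι → F} (hz : Q z = 0) (hz0 : z ≠ 0) (r : F) :
    ∃ b c, Q b = 0 ∧ Q c = 0 ∧ b ≠ 0 ∧ c ≠ 0 ∧ QuadraticMap.polar Q z b = 0 ∧ f z b ≠ 0 ∧
      QuadraticMap.polar Q b c = 0 ∧ f b c ≠ 0 ∧ QuadraticMap.polar Q (J *ᵥ z) c = r ∧ f (J *ᵥ z) c ≠ 0 ∧
      f z c = -(ν⁻¹ * r) := by
  have hν := nsq_ne_zero S
  obtain ⟨b, hb, hb0, hzb, hJzb⟩ := exists_b0 S hz hz0
  obtain ⟨l, hl, hls⟩ := aniso_perp S (v := J *ᵥ z) (u := b) (by rw [q_J S, hz, mul_zero, neg_zero])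
    (by rw [hJzb]; exact one_ne_zero) (by rw [S.sq, OSim.smul_left S.D, hzb, mul_zero])
  have lJz : QuadraticMap.polar Q l (J *ᵥ z) = 0 := hls 0
  have lz : QuadraticMap.polar Q l z = 0 := by
    have : QuadraticMap.polar Q l (J *ᵥ (J *ᵥ z)) = 0 := hls 1
    rw [S.sq, OSim.smul_right S.D] at this
    exact (mul_eq_zero.mp this).resolve_left hν
  have lb : QuadraticMap.polar Q l b = 0 := hls 2
  have lJb : QuadraticMap.polar Q l (J *ᵥ b) = 0 := hls 3
  have zJb : QuadraticMap.polar Q z (J *ᵥ b) = -1 := by rw [p_Jr S, ← hJzb, p_Jl S, neg_neg]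
  have bz : QuadraticMap.polar Q b z = 0 := by rw [OSim.symm S.D]; exact hzb
  have zz := OSim.self_zero S.D hz
  have bb := OSim.self_zero S.D hb
  have bJz : QuadraticMap.polar Q b (J *ᵥ z) = 1 := by rw [OSim.symm S.D]; exact hJzb
  obtain ⟨c, hc⟩ : ∃ c, c = z + r • b + Q l • (J *ᵥ b) + l := ⟨_, rfl⟩
  have Pzc : QuadraticMap.polar Q z c = -Q l := by
    rw [hc]
    simp only [OSim.add_right S.D, OSim.smul_right S.D, zz, hzb, zJb, OSim.symm S.D z l, lz]
    ring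
  have Pbc : QuadraticMap.polar Q b c = 0 := by
    rw [hc]
    simp only [OSim.add_right S.D, OSim.smul_right S.D, bz, bb, p_self_J S, OSim.symm S.D b l, lb]
    ring
  have PJzc : QuadraticMap.polar Q (J *ᵥ z) c = r := by
    rw [hc]
    simp only [OSim.add_right S.D, OSim.smul_right S.D, hJzb, OSim.symm S.D (J *ᵥ z) z, p_self_J S, p_JJ S, hzb,
      OSim.symm S.D (J *ᵥ z) l, lJz]
    ring
  refine ⟨b, c, hb, ?_, hb0, fun e => ?_, hzb, ?_, Pbc, ?_, PJzc, ?_, ?_⟩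
  · rw [hc]
    simp only [OSim.quad_sum S.D, OSim.quad_smul S.D, OSim.add_left S.D, OSim.smul_left S.D, OSim.smul_right S.D,
      q_J S, hz, hb, hzb, zJb, p_self_J S, OSim.symm S.D z l, lz, OSim.symm S.D b l, lb, OSim.symm S.D (J *ᵥ b) l, lJb]
    ring
  · rw [e, OSim.zero_right S.D] at Pzc
    exact hl (neg_eq_zero.mp Pzc.symm)
  · rw [f_of S, zJb]; simpa using hν
  · have : f b c = ν⁻¹ := by
      rw [S.fs.skew, f_of S, hc]
      simp only [OSim.add_left S.D, OSim.smul_left S.D, zJb, p_JJ S, bb, p_self_J S, lJb]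
      ring
    rw [this]; exact inv_ne_zero hν
  · rw [f_Jl S, Pzc, neg_neg]; exact hl
  · rw [← PJzc, p_Jl S]; field_simp

/-- If all isotropic lines stay on the lines of `J` then `J` is normalised. -/
theorem exists_coeff {g : GL ι F} (H : ∀ v, Q v = 0 → ∃ p q : F,
      ((g⁻¹ : GL ι F) : Matrix ι ι F) *ᵥ (J *ᵥ ((g : Matrix ι ι F) *ᵥ v)) = p • v + q • (J *ᵥ v)) :
    ∃ p q : F, ∀ v, ((g⁻¹ : GL ι F) : Matrix ι ι F) *ᵥ (J *ᵥ ((g : Matrix ι ι F) *ᵥ v)) = p • v + q • (J *ᵥ v) := by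
  classical
  obtain ⟨T, hT⟩ : ∃ T : (ι → F) → ι → F,
      ∀ x, T x = ((g⁻¹ : GL ι F) : Matrix ι ι F) *ᵥ (J *ᵥ ((g : Matrix ι ι F) *ᵥ x)) := ⟨_, fun _ => rfl⟩
  simp only [← hT] at H ⊢
  have hTa : ∀ x y, T (x + y) = T x + T y := fun x y => by simp only [hT, Matrix.mulVec_add]
  have hTs : ∀ (c : F) x, T (c • x) = c • T x := fun c x => by simp only [hT, Matrix.mulVec_smul]
  have hTT : ∀ x, T (T x) = ν • x := fun x => by
    simp only [hT, gl_mulVec_inv_cancel, S.sq, Matrix.mulVec_smul, gl_inv_mulVec_cancel]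
  -- linked isotropic vectors have equal coefficients
  have rel : ∀ z b : ι → F, Q z = 0 → Q b = 0 → QuadraticMap.polar Q z b = 0 → f z b ≠ 0 → ∀ p q : F,
      T z = p • z + q • (J *ᵥ z) → T b = p • b + q • (J *ᵥ b) := by
    intro z b hz hb hzb hf p q hp
    obtain ⟨p', q', hp'⟩ := H b hb
    obtain ⟨r, s, hr⟩ := H (z + b) (by rw [OSim.quad_sum S.D, hz, hb, hzb]; ring)
    rw [hTa, hp, hp', Matrix.mulVec_add] at hr
    have fbz : f b z ≠ 0 := fun e => hf (by rw [S.fs.skew, e, neg_zero])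
    have bz : QuadraticMap.polar Q b z = 0 := by rw [OSim.symm S.D]; exact hzb
    have e1 := congrArg (fun w => f w b) hr
    have e2 := congrArg (fun w => QuadraticMap.polar Q w b) hr
    have e3 := congrArg (fun w => f w z) hr
    have e4 := congrArg (fun w => QuadraticMap.polar Q w z) hr
    simp only [S.fs.bilinear.add_left, S.fs.bilinear.smul_left, S.fs.alternating, f_Jl S, hzb,
      OSim.self_zero S.D hb, OSim.self_zero S.D hz, bz, neg_zero, mul_zero, add_zero, zero_add] at e1 e3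
    simp only [OSim.add_left S.D, OSim.smul_left S.D, p_Jl S, hzb, bz, S.fs.alternating, OSim.self_zero S.D hb,
      OSim.self_zero S.D hz, neg_zero, mul_zero, add_zero, zero_add] at e2 e4
    have c1 : p = r := mul_right_cancel₀ hf (by linear_combination e1)
    have c2 : q = s := mul_right_cancel₀ (mul_ne_zero (nsq_ne_zero S) hf) (by linear_combination -e2)
    have c3 : p' = r := mul_right_cancel₀ fbz (by linear_combination e3)
    have c4 : q' = s := mul_right_cancel₀ (mul_ne_zero (nsq_ne_zero S) fbz) (by linear_combination -e4)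
    rw [hp', c3, c4, c1, c2]
  have sgn : ∀ z : ι → F, Q z = 0 → z ≠ 0 → ∃ q : F, T z = q • (J *ᵥ z) ∧ T (J *ᵥ z) = q • (J *ᵥ (J *ᵥ z)) := by
    intro z hz hz0
    obtain ⟨p, q, hp⟩ := H z hz
    obtain ⟨b, c, hb, hc, -, -, hzb, hfzb, hbc, hfbc, hJc, hfJc, -⟩ := exists_tri S hz hz0 0
    have h1 := rel z b hz hb hzb hfzb p q hp
    have h2 := rel b c hb hc hbc hfbc p q h1
    have hJz : Q (J *ᵥ z) = 0 := by rw [q_J S, hz, mul_zero, neg_zero]
    have h3 := rel c (J *ᵥ z) hc hJz (by rw [OSim.symm S.D]; exact hJc)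
      (fun e => hfJc (by rw [S.fs.skew, e, neg_zero])) p q h2
    have e := hTT z
    rw [hp, hTa, hTs, hTs, hp, h3, S.sq] at e
    have e' : (p * p + q * q * ν - ν) • z + (2 * (p * q)) • (J *ᵥ z) = 0 := by
      linear_combination (norm := module) e
    have hpq : 2 * (p * q) = 0 := by
      by_contra hne
      refine J_ne S hz0 (-(2 * (p * q))⁻¹ * (p * p + q * q * ν - ν)) ?_
      rw [← smul_smul, eq_neg_of_add_eq_zero_left e', smul_neg, neg_smul, neg_neg, smul_smul, inv_mul_cancel₀ hne,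
        one_smul]
    rw [hpq, zero_smul, add_zero, smul_eq_zero] at e'
    have hp0 : p = 0 := by
      rcases mul_eq_zero.mp ((mul_eq_zero.mp hpq).resolve_left S.D.h2) with h | h
      · exact h
      · have := e'.resolve_right hz0
        rw [h, zero_mul, zero_mul, add_zero] at this
        exact absurd (sub_eq_zero.mp this) (S.nsq p)
    refine ⟨q, by rw [hp, hp0, zero_smul, zero_add], by rw [h3, hp0, zero_smul, zero_add]⟩
  obtain ⟨z1, hz1, -, hz1x⟩ := OSim.exists_iso_val S.D (s := (![] : Fin 0 → ι → F))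
    (a := Pi.single (Classical.choice (Fintype.card_pos_iff.mp (by have := S.D.hn; omega : 0 < Fintype.card ι))) 1)
    (by rw [Matrix.range_empty, Submodule.span_empty, Submodule.mem_bot]; simp) (by have := S.D.hn; omega)
  have hz10 : z1 ≠ 0 := fun e => by rw [e, OSim.zero_left S.D] at hz1x; exact zero_ne_one hz1x
  obtain ⟨q, hq, -⟩ := sgn z1 hz1 hz10
  refine ⟨0, q, ?_⟩
  have hJinj : ∀ w, J *ᵥ w = 0 → w = 0 := fun w e => by
    have := S.sq w
    rw [e, Matrix.mulVec_zero] at this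
    exact (smul_eq_zero.mp this.symm).resolve_left (nsq_ne_zero S)
  have hiso : ∀ b, Q b = 0 → T b = q • (J *ᵥ b) := by
    intro b hb
    by_cases hb0 : b = 0
    · rw [hb0, Matrix.mulVec_zero, smul_zero, ← zero_smul F (0 : ι → F), hTs, zero_smul, zero_smul]
    obtain ⟨q', hq', hq'J⟩ := sgn b hb hb0
    suffices q' = q by rw [hq', this]
    have hJ0 : J *ᵥ b ≠ 0 := fun e => hb0 (hJinj b e)
    obtain ⟨b', hb', hb'0, hPb, hTb'⟩ : ∃ b', Q b' = 0 ∧ b' ≠ 0 ∧ QuadraticMap.polar Q z1 b' = 0 ∧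
        T b' = q' • (J *ᵥ b') := by
      by_cases hP : QuadraticMap.polar Q z1 b = 0
      · exact ⟨b, hb, hb0, hP, hq'⟩
      refine ⟨(-QuadraticMap.polar Q z1 (J *ᵥ b) / QuadraticMap.polar Q z1 b) • b + J *ᵥ b, ?_, fun e => ?_, ?_, ?_⟩
      · rw [OSim.quad_sum S.D, OSim.quad_smul S.D, q_J S, hb, OSim.smul_left S.D, p_self_J S]; ring
      · exact J_ne S hb0 _ ((eq_neg_of_add_eq_zero_right e).trans (neg_smul _ _).symm)
      · rw [OSim.add_right S.D, OSim.smul_right S.D, div_mul_cancel₀ _ hP, neg_add_cancel]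
      · rw [hTa, hTs, hq', hq'J, Matrix.mulVec_add, Matrix.mulVec_smul]; module
    by_cases hf : f z1 b' = 0
    · obtain ⟨r, s, hr⟩ := H (z1 + b') (by rw [OSim.quad_sum S.D, hz1, hb', hPb]; ring)
      by_cases hw0 : z1 + b' = 0
      · rw [eq_neg_of_add_eq_zero_right hw0, Matrix.mulVec_neg, ← neg_one_smul F z1, hTs, hq, neg_one_smul, smul_neg,
          neg_inj] at hTb'
        exact (smul_left_injective F (fun e => hz10 (hJinj z1 e)) hTb').symm
      obtain ⟨s', hs', -⟩ := sgn (z1 + b') (by rw [OSim.quad_sum S.D, hz1, hb', hPb]; ring) hw0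
      rw [hTa, hq, hTb', Matrix.mulVec_add] at hs'
      have e : J *ᵥ ((q - s') • z1 + (q' - s') • b') = 0 := by
        rw [Matrix.mulVec_add, Matrix.mulVec_smul, Matrix.mulVec_smul]
        linear_combination (norm := module) hs'
      have e2 := hJinj _ e
      by_cases hqs : q' - s' = 0
      · rw [hqs, zero_smul, add_zero, smul_eq_zero] at e2
        exact (sub_eq_zero.mp hqs).trans (sub_eq_zero.mp (e2.resolve_right hz10)).symm
      · have hb'z : b' = (-(q' - s')⁻¹ * (q - s')) • z1 := by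
          rw [← smul_smul, eq_neg_of_add_eq_zero_left e2, smul_neg, neg_smul, neg_neg, smul_smul, inv_mul_cancel₀ hqs,
            one_smul]
        rw [hb'z, Matrix.mulVec_smul, hTs, hq, smul_comm] at hTb'
        refine (smul_left_injective F (fun e => ?_) hTb').symm
        rw [← Matrix.mulVec_smul, ← hb'z] at e
        exact hb'0 (hJinj _ e)
    · have := rel z1 b' hz1 hb' hPb hf 0 q (by rw [hq, zero_smul, zero_add])
      rw [zero_smul, zero_add, hTb'] at this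
      exact smul_left_injective F (fun e => hb'0 (hJinj b' e)) this
  intro x
  rw [zero_smul, zero_add]
  by_cases hx : Q x = 0
  · exact hiso x hx
  obtain ⟨e, he, -, hex⟩ := OSim.exists_iso_val S.D (s := (![] : Fin 0 → ι → F)) (a := x) (fun hm => by
    rw [Matrix.range_empty, Submodule.span_empty, Submodule.mem_bot] at hm
    exact hx (by rw [hm, OSim.quad_zero' S.D])) (by have := S.D.hn; omega)
  have h1 := hiso (x + (-Q x) • e) (by
    rw [OSim.quad_sum S.D, OSim.quad_smul S.D, he, OSim.smul_right S.D, OSim.symm S.D x e, hex]; ring)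
  rw [hTa, hTs, hiso e he, Matrix.mulVec_add, Matrix.mulVec_smul] at h1
  linear_combination (norm := module) h1

/-- Centres propagate to isotropic vectors linked with them. -/
theorem Ctr.move {x y : ι → F} (hy : Q y = 0) (hxy : QuadraticMap.polar Q x y = 0) (hf : f x y ≠ 0)
    (hx : Ctr f K x) : Ctr f K y := by
  obtain ⟨g, hg, hgv, -⟩ := exists_unitary S hy (-(ν * f x y))⁻¹
  have h := Ctr.conj S hg hx
  rw [hgv, show f x (J *ᵥ y) = 0 by rw [← S.hQ]; exact hxy, mul_zero, zero_smul, add_zero,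
    show -((-(ν * f x y))⁻¹ * ν) * f x y = 1 by have := nsq_ne_zero S; field_simp, one_smul] at h
  have h' := Ctr.plane S hx h (by
    rw [S.fs.bilinear.add_left, S.fs.alternating, zero_add, S.fs.skew]; exact neg_ne_zero.mpr hf) (-1)
  rwa [neg_one_smul, ← sub_eq_add_neg, add_sub_cancel_left] at h'

/-- From one isotropic centre, every centre. -/
theorem all_ctr {d : ι → F} (hd : Q d = 0) (hd0 : d ≠ 0) (hC : Ctr f K d) (v : ι → F) : Ctr f K v := by
  classical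
  have hν := nsq_ne_zero S
  have hfs' := S.fs.bilinear
  have B : TensorMax.Form.SForm f := ⟨reflexForm_of_symplectic S.fs, S.fs.alternating⟩
  have hJ : ∀ {z : ι → F}, Q z = 0 → z ≠ 0 → Ctr f K z → Q (J *ᵥ z) = 0 ∧ J *ᵥ z ≠ 0 ∧ Ctr f K (J *ᵥ z) := by
    intro z hz hz0 hC
    have hJz : Q (J *ᵥ z) = 0 := by rw [q_J S, hz, mul_zero, neg_zero]
    refine ⟨hJz, fun e => hz0 ?_, ?_⟩
    · have := S.sq z
      rw [e, Matrix.mulVec_zero] at this
      exact (smul_eq_zero.mp this.symm).resolve_left hν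
    obtain ⟨b, c, hb, hc, -, -, hzb, hfzb, hbc, hfbc, hJc, hfJc, -⟩ := exists_tri S hz hz0 0
    exact Ctr.move S hJz (by rw [OSim.symm S.D]; exact hJc) (fun e => hfJc (by rw [S.fs.skew, e, neg_zero]))
      (Ctr.move S hc hbc hfbc (Ctr.move S hb hzb hfzb hC))
  have fam : ∀ {z : ι → F}, Q z = 0 → z ≠ 0 → Ctr f K z → ∀ x, QuadraticMap.polar Q z x = 0 →
      QuadraticMap.polar Q (J *ᵥ z) x = 1 → ∃ w, Q w = 0 ∧ w ≠ 0 ∧ Ctr f K w ∧ f z w ≠ 0 ∧
        w = x + (-Q x) • (J *ᵥ z) := by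
    intro z hz hz0 hC x hzx hJzx
    obtain ⟨w, hw⟩ : ∃ w, w = x + (-Q x) • (J *ᵥ z) := ⟨_, rfl⟩
    have hQw : Q w = 0 := by
      rw [hw, OSim.quad_sum S.D, OSim.quad_smul S.D, q_J S, hz, OSim.smul_right S.D, OSim.symm S.D x, hJzx]; ring
    have hzw : QuadraticMap.polar Q z w = 0 := by
      rw [hw, OSim.add_right S.D, OSim.smul_right S.D, hzx, p_self_J S, mul_zero, add_zero]
    have hfzw : f z w ≠ 0 := fun e => by
      have : QuadraticMap.polar Q (J *ᵥ z) w = 1 := by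
        rw [hw, OSim.add_right S.D, OSim.smul_right S.D, hJzx, p_JJ S, OSim.self_zero S.D hz]; ring
      rw [p_Jl S, e, mul_zero, neg_zero] at this
      exact zero_ne_one this
    exact ⟨w, hQw, fun e => hfzw (by rw [e, B.refl.zero_right]), Ctr.move S hQw hzw hfzw hC, hfzw, hw⟩
  have flin : ∀ {D z : ι → F}, f D (J *ᵥ z) = 0 → Q z = 0 → z ≠ 0 → Ctr f K z →
      (∀ w, Q w = 0 → w ≠ 0 → Ctr f K w → f z w ≠ 0 → f D w = 0) →
      ∀ y, QuadraticMap.polar Q z y = 0 → f D y = 0 := by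
    intro D z hDJ hz hz0 hC hD y hzy
    have aff : ∀ x, QuadraticMap.polar Q z x = 0 → QuadraticMap.polar Q (J *ᵥ z) x = 1 → f D x = 0 :=
      fun x h1 h2 => by
      obtain ⟨w, hQw, hw0, hCw, hfw, hw⟩ := fam hz hz0 hC x h1 h2
      have := hD w hQw hw0 hCw hfw
      rwa [hw, hfs'.add_right, hfs'.smul_right, hDJ, mul_zero, add_zero] at this
    obtain ⟨b, -, -, hzb, hJzb⟩ := exists_b0 S hz hz0
    have h1 := aff b hzb hJzb
    have h2 := aff (y + (1 - QuadraticMap.polar Q (J *ᵥ z) y) • b)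
      (by rw [OSim.add_right S.D, OSim.smul_right S.D, hzy, hzb]; ring)
      (by rw [OSim.add_right S.D, OSim.smul_right S.D, hJzb]; ring)
    rwa [hfs'.add_right, hfs'.smul_right, h1, mul_zero, add_zero] at h2
  refine TensorMax.SpO.grow B S.D.h2 (T := Ctr f K) (S := fun w => Q w = 0 ∧ w ≠ 0 ∧ Ctr f K w) ?_ ?_ ?_ ?_ ?_ ?_ v
  · intro c g hg
    rw [show g = 1 from gl_ext_mulVec fun x => by simp [hg x]]
    exact one_mem K
  · intro c w hw
    exact Ctr.smul S hw c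
  · intro x y hx hy hxy c
    exact Ctr.plane S hy hx hxy c
  · exact fun w hw => hw.2.2
  · intro D hD
    obtain ⟨hQJ, hJ0, hCJ⟩ := hJ hd hd0 hC
    obtain ⟨hQJ2, hJ20, hCJ2⟩ := hJ hQJ hJ0 hCJ
    obtain ⟨b, hb, hb0, hdb, hJdb⟩ := exists_b0 S hd hd0
    have hCb : Ctr f K b := Ctr.move S hb hdb (fun e => by
      rw [p_Jl S, e, mul_zero, neg_zero] at hJdb
      exact zero_ne_one hJdb) hC
    have key := flin (D := D) (hD _ ⟨hQJ2, hJ20, hCJ2⟩) hQJ hJ0 hCJ fun w a b c _ => hD w ⟨a, b, c⟩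
    by_contra hD0
    obtain ⟨⟨y, hy⟩, -⟩ := S.fs.nondegenerate D hD0
    refine hy ?_
    rw [S.fs.skew]
    have := key (y - QuadraticMap.polar Q (J *ᵥ d) y • b) (by
      rw [OSim.sub_right S.D, OSim.smul_right S.D, hJdb, mul_one, sub_self])
    rw [sub_eq_add_neg, ← neg_smul, hfs'.add_right, hfs'.smul_right, hD b ⟨hb, hb0, hCb⟩, mul_zero, add_zero] at this
    rw [this, neg_zero]
  · rintro u w ⟨hu, hu0, hCu⟩ ⟨hw, hw0, hCw⟩
    by_contra hcon
    push Not at hcon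
    have hnb : ∀ x, QuadraticMap.polar Q u x = 0 → QuadraticMap.polar Q (J *ᵥ u) x = 1 →
        f w x = Q x * f w (J *ᵥ u) := fun x h1 h2 => by
      obtain ⟨z, hz, hz0, hCz, hfz, hzd⟩ := fam hu hu0 hCu x h1 h2
      have := hcon z ⟨hz, hz0, hCz⟩ hfz
      rw [hzd, hfs'.add_right, hfs'.smul_right] at this
      linear_combination this
    obtain ⟨b, hb, hb0, hub, hJub⟩ := exists_b0 S hu hu0
    by_cases hμ : f w (J *ᵥ u) = 0
    swap
    · obtain ⟨l, hl, hls⟩ := aniso_perp S (v := J *ᵥ u) (u := b) (by rw [q_J S, hu, mul_zero, neg_zero])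
        (by rw [hJub]; exact one_ne_zero) (by rw [S.sq, OSim.smul_left S.D, hub, mul_zero])
      have lu : QuadraticMap.polar Q l u = 0 := by
        have : QuadraticMap.polar Q l (J *ᵥ (J *ᵥ u)) = 0 := hls 1
        rw [S.sq, OSim.smul_right S.D] at this
        exact (mul_eq_zero.mp this).resolve_left hν
      have lJu : QuadraticMap.polar Q l (J *ᵥ u) = 0 := hls 0
      have lb : QuadraticMap.polar Q l b = 0 := hls 2
      have bl : QuadraticMap.polar Q b l = 0 := by rw [OSim.symm S.D]; exact lb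
      have ul : QuadraticMap.polar Q u l = 0 := by rw [OSim.symm S.D]; exact lu
      have Jul : QuadraticMap.polar Q (J *ᵥ u) l = 0 := by rw [OSim.symm S.D]; exact lJu
      have h0 := hnb b hub hJub
      have h1 := hnb (b + (1 : F) • l) (by rw [OSim.add_right S.D, OSim.smul_right S.D, hub, ul]; ring)
        (by rw [OSim.add_right S.D, OSim.smul_right S.D, hJub, Jul]; ring)
      have h2 := hnb (b + (-1 : F) • l) (by rw [OSim.add_right S.D, OSim.smul_right S.D, hub, ul]; ring)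
        (by rw [OSim.add_right S.D, OSim.smul_right S.D, hJub, Jul]; ring)
      simp only [hfs'.add_right, hfs'.smul_right, OSim.quad_sum S.D, OSim.quad_smul S.D, OSim.smul_right S.D, bl, hb]
        at h0 h1 h2
      exact mul_ne_zero (mul_ne_zero S.D.h2 hl) hμ (by linear_combination 2 * h0 - h1 - h2)
    have hflat : ∀ y, QuadraticMap.polar Q u y = 0 → f w y = 0 :=
      flin (D := w) hμ hu hu0 hCu fun z a b c hfz => hcon z ⟨a, b, c⟩ hfz
    have hwJ : w = f w (J *ᵥ b) • (J *ᵥ u) := by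
      refine sub_eq_zero.mp ?_
      by_contra hne
      obtain ⟨-, y, hy⟩ := S.fs.nondegenerate _ hne
      refine hy ?_
      have e1 : QuadraticMap.polar Q u (J *ᵥ b) = -1 := by rw [p_Jr S, ← hJub, p_Jl S, neg_neg]
      have e2 := hflat (y + QuadraticMap.polar Q u y • (J *ᵥ b)) (by
        rw [OSim.add_right S.D, OSim.smul_right S.D, e1]; ring)
      rw [hfs'.add_right, hfs'.smul_right] at e2
      rw [sub_eq_add_neg, ← neg_smul, hfs'.add_left, hfs'.smul_left, f_Jl S]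
      linear_combination e2
    obtain ⟨b', c, hb', hc, -, hc0, hub', hfub', hbc, hfbc, -, hfJc, hfuc⟩ := exists_tri S hu hu0 1
    have hCc : Ctr f K c := Ctr.move S hc hbc hfbc (Ctr.move S hb' hub' hfub' hCu)
    have := hcon c ⟨hc, hc0, hCc⟩ (by rw [hfuc, mul_one]; exact neg_ne_zero.mpr (inv_ne_zero hν))
    rw [hwJ, hfs'.smul_left] at this
    exact mul_ne_zero (fun e => hw0 (by rw [hwJ, e, zero_smul])) hfJc this

end Cfsg.Agent.Classical.UInSp
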