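/-
The normaliser of a quadratic extension acting skew is maximal in the symplectic group.
-/
import Cfsg.Agent.Lib.Classical.UInSpTools
import Cfsg.Agent.Lib.Classical.SpOvergroup
import Cfsg.Agent.Lib.Classical.LinOutcome

set_option autoImplicit false
set_option linter.unusedSectionVars false
set_option linter.style.haveILetI false

namespace Cfsg.Agent.Classical.UInSp

open Matrix Cfsg.Geo
open Cfsg.Agent.Classical
open Cfsg.Agent.Classical.OInU (Tr)

theorem matrix_eq_of_mulVec {ι : Type} [Fintype ι] [DecidableEq ι] {F : Type*} [Field F] {A B : Matrix ι ι F}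
    (h : ∀ x, A *ᵥ x = B *ᵥ x) : A = B := Matrix.ext_of_mulVec_single fun i => h _

theorem isMaximal {F : Type*} [Field F] [Fintype F] {m : ℕ} (hm : 3 ≤ m) (hodd : Odd (Fintype.card F))
    (K : Subalgebra F (Matrix (Fin m ⊕ Fin m) (Fin m ⊕ Fin m) F)) (hK : IsFieldSubalgebra 2 K)
    (hac : IsAdjointClosedFor (sympForm m F) K) (hnsa : ¬ IsSelfAdjointFor (sympForm m F) K) :
    IsMaximalIn (spGL m F) (subalgebraNormalizer K ⊓ spGL m F) := by
  classical
  obtain ⟨f, hfdef⟩ : ∃ f, f = sympForm m F := ⟨_, rfl⟩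
  have hfs : IsSymplecticForm f := hfdef ▸ sympForm_isSymplectic
  rw [← hfdef] at hac hnsa
  have hb := hfs.bilinear
  have h2 : (2 : F) ≠ 0 := two_ne_zero_of_odd_card hodd
  haveI : Nonempty (Fin m ⊕ Fin m) := ⟨.inl ⟨0, by omega⟩⟩
  have hnd : ∀ v, (∀ x, f x v = 0) → v = 0 := fun v h => by
    by_contra hv
    obtain ⟨⟨x, hx⟩, -⟩ := hfs.nondegenerate v hv
    exact hx (h x)
  have hsubr : ∀ x a b, f x (a - b) = f x a - f x b := fun x a b => by
    rw [sub_eq_add_neg, hb.add_right, ← neg_one_smul F b, hb.smul_right]; ring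
  have huniq : ∀ A B : Matrix (Fin m ⊕ Fin m) (Fin m ⊕ Fin m) F, (∀ u v, f u (A *ᵥ v) = f u (B *ᵥ v)) → A = B :=
    fun A B h => matrix_eq_of_mulVec fun v => sub_eq_zero.mp (hnd _ fun u => by rw [hsubr, h, sub_self])
  -- the skew generator
  obtain ⟨k, hk, hkne⟩ : ∃ k ∈ K, ¬ ∀ u v, f (k *ᵥ u) v = f u (k *ᵥ v) := by
    by_contra hcon
    push Not at hcon
    exact hnsa hcon
  obtain ⟨k', hk', hka⟩ := hac k hk
  obtain ⟨J, hJdef⟩ : ∃ J, J = k - k' := ⟨_, rfl⟩
  have hJK : J ∈ K := hJdef ▸ sub_mem hk hk'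
  have hkb : ∀ u v, f (k' *ᵥ u) v = f u (k *ᵥ v) := fun u v => by
    rw [hfs.skew, ← hka v u, hfs.skew, neg_neg]
  have hskew : ∀ x y, f (J *ᵥ x) y = -f x (J *ᵥ y) := fun x y => by
    rw [hJdef, Matrix.sub_mulVec, Matrix.sub_mulVec, hsubr, sub_eq_add_neg (k *ᵥ x), hb.add_left,
      ← neg_one_smul F (k' *ᵥ x), hb.smul_left, hka, hkb]
    ring
  have hJne : ∀ c : F, J ≠ c • (1 : Matrix (Fin m ⊕ Fin m) (Fin m ⊕ Fin m) F) := by
    intro c e
    have hc : c = 0 := by
      by_contra hc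
      obtain ⟨⟨y, hy⟩, -⟩ := hfs.nondegenerate (Pi.single (Sum.inl ⟨0, by omega⟩) 1) (by simp)
      have h := hskew y (Pi.single (Sum.inl ⟨0, by omega⟩) 1)
      rw [e, Matrix.smul_mulVec, Matrix.one_mulVec, Matrix.smul_mulVec, Matrix.one_mulVec, hb.smul_left,
        hb.smul_right] at h
      have h' : (2 * c) * f y (Pi.single (Sum.inl ⟨0, by omega⟩) 1) = 0 := by linear_combination h
      exact hy ((mul_eq_zero.mp h').resolve_left (mul_ne_zero h2 hc))
    refine hkne fun u v => ?_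
    rw [hc, zero_smul, hJdef, sub_eq_zero] at e
    rw [hka, ← e]
  have hKspan : ∀ z ∈ K, ∃ a b : F, z = a • (1 : Matrix (Fin m ⊕ Fin m) (Fin m ⊕ Fin m) F) + b • J := by
    have hli : LinearIndependent F ![(1 : Matrix (Fin m ⊕ Fin m) (Fin m ⊕ Fin m) F), J] := by
      rw [LinearIndependent.pair_iff]
      intro a b e
      by_cases hb0 : b = 0
      · rw [hb0, zero_smul, add_zero] at e
        exact ⟨(smul_eq_zero.mp e).resolve_right one_ne_zero, hb0⟩
      · refine absurd ?_ (hJne (-(b⁻¹ * a)))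
        rw [← sub_eq_zero, show J - (-(b⁻¹ * a)) • (1 : Matrix (Fin m ⊕ Fin m) (Fin m ⊕ Fin m) F) =
          b⁻¹ • (a • 1 + b • J) by rw [smul_add, smul_smul, smul_smul, inv_mul_cancel₀ hb0, one_smul]; module,
          e, smul_zero]
    have hle : Submodule.span F (Set.range ![(1 : Matrix (Fin m ⊕ Fin m) (Fin m ⊕ Fin m) F), J]) ≤
        Subalgebra.toSubmodule K := by
      rw [Submodule.span_le]
      rintro _ ⟨i, rfl⟩
      fin_cases i
      · exact one_mem K
      · exact hJK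
    haveI : FiniteDimensional F (Subalgebra.toSubmodule K) := inferInstance
    have heq := Submodule.eq_of_le_of_finrank_eq hle (by
      rw [finrank_span_eq_card hli, Subalgebra.finrank_toSubmodule, hK.finrank_eq, Fintype.card_fin])
    intro z hz
    rw [← Subalgebra.mem_toSubmodule, ← heq, Submodule.mem_span_range_iff_exists_fun] at hz
    obtain ⟨c, hc⟩ := hz
    exact ⟨c 0, c 1, by rw [← hc]; simp [Fin.sum_univ_succ]⟩
  obtain ⟨ν, β, hsq'⟩ := hKspan _ (mul_mem hJK hJK)
  have hβ : β = 0 := by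
    by_contra hne
    apply hJne 0
    rw [zero_smul]
    refine huniq J 0 fun u v => ?_
    have e := congrArg (fun M => f u (M *ᵥ v)) hsq'
    have e' := congrArg (fun M => f (M *ᵥ u) v) hsq'
    simp only [← Matrix.mulVec_mulVec, Matrix.add_mulVec, Matrix.smul_mulVec, Matrix.one_mulVec, hb.add_left,
      hb.add_right, hb.smul_left, hb.smul_right, hskew, neg_neg] at e e'
    have h0 : f u ((0 : Matrix (Fin m ⊕ Fin m) (Fin m ⊕ Fin m) F) *ᵥ v) = 0 := by
      rw [Matrix.zero_mulVec, ← zero_smul F (0 : Fin m ⊕ Fin m → F), hb.smul_right, zero_mul]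
    rw [h0]
    have h' : (2 * β) * f u (J *ᵥ v) = 0 := by linear_combination e' - e
    exact (mul_eq_zero.mp h').resolve_left (mul_ne_zero h2 hne)
  have hsq : ∀ x, J *ᵥ (J *ᵥ x) = ν • x := fun x => by
    rw [Matrix.mulVec_mulVec, hsq', hβ, zero_smul, add_zero, Matrix.smul_mulVec, Matrix.one_mulVec]
  have hnsq : ∀ c : F, c * c ≠ ν := fun c hc => by
    have e : (J - c • 1) * (J + c • 1) = 0 := by
      rw [mul_add, sub_mul, sub_mul, hsq', hβ, ← hc]
      simp [smul_smul]
    rcases fieldSubalgebra_mul_eq_zero hK (sub_mem hJK (K.smul_mem (one_mem K) c)) e with h | h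
    · exact hJne c (sub_eq_zero.mp h)
    · exact hJne (-c) (by rw [neg_smul]; exact eq_neg_of_add_eq_zero_left h)
  have hν : ν ≠ 0 := fun e => hnsq 0 (by rw [e, mul_zero])
  -- the quadratic form
  obtain ⟨Q, hQdef⟩ : ∃ Q : (Fin m ⊕ Fin m → F) → F, ∀ x, Q x = 2⁻¹ * f x (J *ᵥ x) := ⟨_, fun _ => rfl⟩
  have hsym : ∀ x y, f y (J *ᵥ x) = f x (J *ᵥ y) := fun x y => by rw [hfs.skew, hskew, neg_neg]
  have hpol : ∀ x y, QuadraticMap.polar Q x y = f x (J *ᵥ y) := fun x y => by
    simp only [QuadraticMap.polar, hQdef, Matrix.mulVec_add, hb.add_left, hb.add_right, hsym x y]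
    field_simp
    ring
  have D : OSim.Data Q := by
    refine ⟨⟨fun c v => ?_, ⟨fun x y v => ?_, fun c x v => ?_, fun v x y => ?_, fun c v x => ?_⟩, fun v hv => ?_⟩, h2, ?_⟩
    · rw [hQdef, hQdef, Matrix.mulVec_smul, hb.smul_left, hb.smul_right]; ring
    · rw [hpol, hpol, hpol, hb.add_left]
    · rw [hpol, hpol, hb.smul_left]
    · rw [hpol, hpol, hpol, Matrix.mulVec_add, hb.add_right]
    · rw [hpol, hpol, Matrix.mulVec_smul, hb.smul_right]
    · obtain ⟨⟨x, hx⟩, -⟩ := hfs.nondegenerate (J *ᵥ v) (fun e => hv (by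
        have := hsq v
        rw [e, Matrix.mulVec_zero] at this
        exact (smul_eq_zero.mp this.symm).resolve_left hν))
      exact ⟨⟨x, by rwa [hpol]⟩, ⟨x, by rwa [QuadraticMap.polar_comm, hpol]⟩⟩
    · simp only [Fintype.card_sum, Fintype.card_fin]; omega
  -- elements commuting with J normalise K
  have hcomm : ∀ g : GL (Fin m ⊕ Fin m) F, (∀ x, (g : Matrix _ _ F) *ᵥ (J *ᵥ x) = J *ᵥ ((g : Matrix _ _ F) *ᵥ x)) →
      g ∈ subalgebraNormalizer K := by
    intro g hg
    have hc : ∀ z ∈ K, (g : Matrix _ _ F) * z = z * (g : Matrix _ _ F) := fun z hz => by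
      obtain ⟨a, b, rfl⟩ := hKspan z hz
      refine matrix_eq_of_mulVec fun x => ?_
      simp only [← Matrix.mulVec_mulVec, Matrix.add_mulVec, Matrix.smul_mulVec, Matrix.one_mulVec, Matrix.mulVec_add,
        Matrix.mulVec_smul, hg]
    intro z
    refine ⟨fun hz => ?_, fun hz => ?_⟩
    · rwa [hc z hz, Matrix.mul_assoc, ← Units.val_mul, mul_inv_cancel, Units.val_one, Matrix.mul_one]
    · have := hc _ hz
      simp only [Matrix.mul_assoc, Units.inv_mul, Matrix.mul_one] at this
      have e := (Units.mul_right_inj g).mp this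
      rw [← Matrix.mul_assoc] at e
      exact e ▸ hz
  refine ⟨lt_of_le_of_ne inf_le_right fun e => ?_, fun H hH hHS => or_iff_not_imp_left.mpr fun hne =>
    le_antisymm hHS ?_⟩
  · obtain ⟨v, hv, -⟩ := OSim.exists_aniso D (k := 0) ![] (by simp only [Fintype.card_sum, Fintype.card_fin]; omega)
    obtain ⟨t, hts, ht⟩ := exists_sp_transvection v (1 : F)
    rw [← hfdef] at ht
    have hn : t ∈ subalgebraNormalizer K := inf_eq_right.mp e hts
    obtain ⟨p, q, hpq⟩ := hKspan _ ((hn J).mp hJK)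
    have hpq' : ∀ x, (t : Matrix _ _ F) *ᵥ (J *ᵥ x) = p • ((t : Matrix _ _ F) *ᵥ x) + q • (J *ᵥ ((t : Matrix _ _ F) *ᵥ x)) := fun x => by
      have := congrArg (fun M => M *ᵥ ((t : Matrix _ _ F) *ᵥ x)) hpq
      simp only [← Matrix.mulVec_mulVec, gl_inv_mulVec_cancel, Matrix.add_mulVec, Matrix.smul_mulVec,
        Matrix.one_mulVec] at this
      exact this
    have e1 := hpq' v
    rw [ht, ht, hfs.alternating, mul_zero, zero_smul, add_zero, one_mul] at e1
    have hfJ : f (J *ᵥ v) v ≠ 0 := by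
      rw [hfs.skew, neg_ne_zero, ← hpol, OSim.self_eq D]
      exact mul_ne_zero h2 hv
    have hv0 : v ≠ 0 := fun e => hv (by rw [e, OSim.quad_zero' D])
    have hq : q = 1 := by
      by_contra hq
      have e2 : (1 - q) • (J *ᵥ v) = (p - f (J *ᵥ v) v) • v := by linear_combination (norm := module) e1
      obtain ⟨r, e3⟩ : ∃ r : F, J *ᵥ v = r • v := ⟨(1 - q)⁻¹ * (p - f (J *ᵥ v) v), by
        rw [← smul_smul, ← e2, smul_smul, inv_mul_cancel₀ (sub_ne_zero.mpr (Ne.symm hq)), one_smul]⟩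
      have := hsq v
      rw [e3, Matrix.mulVec_smul, e3, smul_smul] at this
      exact hnsq _ (smul_left_injective F hv0 this)
    obtain ⟨w, hws, hwt⟩ := OSim.exists_perp D ![v, J *ᵥ v] ![(0 : Fin m ⊕ Fin m → F)] (by simp only [Fintype.card_sum, Fintype.card_fin]; omega)
    have hw1 : f w (J *ᵥ v) = 0 := by rw [← hpol]; exact hws 0
    have hw2 : f w v = 0 := by
      have := hws 1
      change QuadraticMap.polar Q w (J *ᵥ v) = 0 at this
      rw [hpol, hsq, hb.smul_right] at this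
      exact (mul_eq_zero.mp this).resolve_left hν
    have e2 := hpq' w
    rw [ht, ht, hw2, hskew, hw1, neg_zero, mul_zero, zero_smul, add_zero, add_zero, hq, one_smul] at e2
    have e2 : p • w = 0 := by linear_combination (norm := module) -e2
    rcases smul_eq_zero.mp e2 with hp | hw0
    · rw [hp, zero_smul, zero_add, hq, one_smul, add_eq_left] at e1
      exact hfJ ((smul_eq_zero.mp e1).resolve_right hv0)
    · exact hwt (by rw [hw0]; exact zero_mem _)
  obtain ⟨g, hg, hgn⟩ : ∃ g ∈ H, g ∉ subalgebraNormalizer K := by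
    by_contra hcon
    push Not at hcon
    exact hne (le_antisymm (le_inf hcon hHS) hH)
  have S : Setup f J ν Q H :=
    { D := D
      fs := hfs
      skewJ := hskew
      sq := hsq
      nsq := hnsq
      hQ := hpol
      iso := fun g hg x y => by rw [hfdef]; exact hHS hg x y
      trans := fun v c => by
        obtain ⟨t, -, ht⟩ := exists_sp_transvection v c
        exact ⟨t, by rw [hfdef]; exact ht⟩
      base := fun g h1 h2' => hH ⟨hcomm g h2', mem_spGL_of fun x y => by rw [hfdef] at h1; exact h1 x y⟩ }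
  by_cases hmove : ∃ v, Q v = 0 ∧ (g : Matrix _ _ F) *ᵥ (J *ᵥ v) ∉
      Submodule.span F (Set.range ![(g : Matrix _ _ F) *ᵥ v, J *ᵥ ((g : Matrix _ _ F) *ᵥ v)])
  · obtain ⟨v, hv, hgv⟩ := hmove
    obtain ⟨d, hd, hd0, hC⟩ := exists_ctr S hg hv hgv
    refine SpOver.spGL_le fun w c t ht => all_ctr S hd hd0 hC w c t ?_
    rw [hfdef]
    exact ht
  exfalso
  push Not at hmove
  obtain ⟨p, q, hpq⟩ := exists_coeff S (g := g) fun v hv => by
    obtain ⟨a, b, e⟩ := OSim.mem_span2 D (hmove v hv)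
    by_cases hv0 : v = 0
    · exact ⟨0, 0, by simp [hv0]⟩
    have hb0 : b ≠ 0 := fun hb0 => by
      rw [hb0, zero_smul, add_zero, ← Matrix.mulVec_smul] at e
      have e' := gl_mulVec_injective g e
      have := hsq v
      rw [e', Matrix.mulVec_smul, e', smul_smul] at this
      exact hnsq _ (smul_left_injective F hv0 this)
    refine ⟨-(b⁻¹ * a), b⁻¹, gl_mulVec_injective g ?_⟩
    dsimp only
    rw [gl_mulVec_inv_cancel, Matrix.mulVec_add, Matrix.mulVec_smul, Matrix.mulVec_smul, e, smul_add, smul_smul,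
      smul_smul, inv_mul_cancel₀ hb0, one_smul]
    module
  have hM : ((g⁻¹ : GL _ F) : Matrix _ _ F) * J * (g : Matrix _ _ F) = p • 1 + q • J := matrix_eq_of_mulVec fun x => by
    simp only [← Matrix.mulVec_mulVec, Matrix.add_mulVec, Matrix.smul_mulVec, Matrix.one_mulVec, hpq]
  have hJ' : J = p • 1 + q • ((g : Matrix _ _ F) * J * ((g⁻¹ : GL _ F) : Matrix _ _ F)) := by
    have := congrArg (fun M => (g : Matrix _ _ F) * M * ((g⁻¹ : GL _ F) : Matrix _ _ F)) hM
    simp only [← Matrix.mul_assoc, ← Units.val_mul, mul_inv_cancel, Units.val_one, Matrix.one_mul] at this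
    rw [Matrix.mul_assoc, ← Units.val_mul, mul_inv_cancel, Units.val_one, Matrix.mul_one] at this
    conv_lhs => rw [this]
    simp [Matrix.mul_add, Matrix.add_mul, ← Units.val_mul]
  have hq : q ≠ 0 := fun e => hJne p (by rw [e, zero_smul, add_zero] at hJ'; exact hJ')
  apply hgn
  intro z
  refine ⟨fun hz => ?_, fun hz => ?_⟩
  · obtain ⟨a, b, rfl⟩ := hKspan z hz
    have e : (g : Matrix _ _ F) * J * ((g⁻¹ : GL _ F) : Matrix _ _ F) = q⁻¹ • (J - p • 1) := by
      conv_rhs => rw [hJ']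
      rw [add_sub_cancel_left, smul_smul, inv_mul_cancel₀ hq, one_smul]
    rw [Matrix.mul_add, Matrix.add_mul, Matrix.mul_smul, Matrix.smul_mul, Matrix.mul_smul, Matrix.smul_mul, e,
      Matrix.mul_one, ← Units.val_mul, mul_inv_cancel, Units.val_one]
    exact add_mem (K.smul_mem (one_mem K) a) (K.smul_mem (K.smul_mem (sub_mem hJK (K.smul_mem (one_mem K) p)) _) b)
  · obtain ⟨a, b, e⟩ := hKspan _ hz
    have e' : z = a • 1 + b • (p • 1 + q • J) := by
      rw [← hM]
      have := congrArg (fun M => ((g⁻¹ : GL _ F) : Matrix _ _ F) * M * (g : Matrix _ _ F)) e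
      simp only [← Matrix.mul_assoc, ← Units.val_mul, inv_mul_cancel, Units.val_one, Matrix.one_mul] at this
      rw [Matrix.mul_assoc, ← Units.val_mul, inv_mul_cancel, Units.val_one, Matrix.mul_one] at this
      rw [this]
      simp [Matrix.mul_add, Matrix.add_mul, ← Units.val_mul]
    rw [e']
    exact add_mem (K.smul_mem (one_mem K) a) (K.smul_mem (add_mem (K.smul_mem (one_mem K) p) (K.smul_mem hJK q)) b)

end Cfsg.Agent.Classical.UInSp
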