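/-
The symplectic similitudes of determinant one form a maximal subgroup of the special linear group.
-/
import Cfsg.Agent.Lib.Classical.LinMaximal
import Cfsg.Agent.Lib.Classical.Forms
import Cfsg.Agent.Lib.Classical.FixCodim

set_option autoImplicit false
set_option linter.unusedSectionVars false
set_option linter.style.haveILetI false

namespace Cfsg.Agent.Classical.SpMaxSL

open Matrix Cfsg.Geo
open Cfsg.Agent.Classical

variable {ι : Type} [Fintype ι] [DecidableEq ι] {F : Type*} [Field F] {f : (ι → F) → (ι → F) → F}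

/-- `g` translates `x` along `v` by `c * f x u`. -/
def Tv (f : (ι → F) → (ι → F) → F) (g : GL ι F) (v u : ι → F) (c : F) : Prop :=
  ∀ x, (g : Matrix ι ι F) *ᵥ x = x + (c * f x u) • v

variable (hf : IsSymplecticForm f)

include hf

theorem apply_gram (x y : ι → F) : f x y = x ⬝ᵥ (gramMatrix f *ᵥ y) := by
  have h := semiForm_apply (RingEquiv.refl F) (semiForm_of_bilinear hf.bilinear) x y
  rw [h]
  simp [dotProduct, RingEquiv.coe_refl]

theorem gram_unit : IsUnit (gramMatrix f).det := by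
  rw [isUnit_iff_ne_zero]
  intro h
  obtain ⟨v, hv, hGv⟩ := Matrix.exists_mulVec_eq_zero_iff.mpr h
  obtain ⟨x, hx⟩ := (hf.nondegenerate v hv).1
  exact hx (by rw [apply_gram hf, hGv, dotProduct_zero])

/-- Every functional is given by the form. -/
theorem exists_rep (r : ι → F) : ∃ u, ∀ x, f x u = x ⬝ᵥ r :=
  ⟨(gramMatrix f)⁻¹ *ᵥ r, fun x => by
    rw [apply_gram hf, Matrix.mulVec_mulVec, Matrix.mul_nonsing_inv _ (gram_unit hf), Matrix.one_mulVec]⟩

theorem exists_tv {v u : ι → F} (h : f v u = 0) (c : F) : ∃ g ∈ specialLinear ι F, Tv f g v u c := by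
  let r : ι → F := c • (gramMatrix f *ᵥ u)
  let M : Matrix ι ι F := 1 + Matrix.replicateCol Unit v * Matrix.replicateRow Unit r
  have hd : M.det = 1 := by
    rw [Matrix.det_one_add_replicateCol_mul_replicateRow]
    simp only [r, smul_dotProduct]
    rw [dotProduct_comm, ← apply_gram hf, h, smul_zero, add_zero]
  refine ⟨Matrix.GeneralLinearGroup.mkOfDetNeZero M (by rw [hd]; exact one_ne_zero),
    mem_specialLinear_iff.mpr (by rw [Matrix.GeneralLinearGroup.val_mkOfDetNeZero]; exact hd), fun x => ?_⟩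
  rw [Matrix.GeneralLinearGroup.val_mkOfDetNeZero]
  simp only [M]
  rw [Matrix.add_mulVec, Matrix.one_mulVec, ← Matrix.mulVec_mulVec, apply_gram hf x u]
  congr 1
  funext i
  simp [Matrix.mulVec, dotProduct, r, Matrix.replicateCol_apply, Matrix.replicateRow_apply, Finset.mul_sum,
    Finset.sum_mul, mul_assoc, mul_comm, mul_left_comm]

theorem tv_isometry {g : GL ι F} {v : ι → F} {c : F} (hg : Tv f g v v c) (x y : ι → F) :
    f ((g : Matrix ι ι F) *ᵥ x) ((g : Matrix ι ι F) *ᵥ y) = f x y := by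
  rw [hg, hg, hf.bilinear.add_left, hf.bilinear.add_right, hf.bilinear.add_right, hf.bilinear.smul_left,
    hf.bilinear.smul_left, hf.bilinear.smul_right, hf.bilinear.smul_right, hf.alternating, hf.skew v y]
  ring

/-- Symplectic transvections lie in the group. -/
theorem tv_mem {g : GL ι F} {v : ι → F} {c : F} (hg : Tv f g v v c) :
    g ∈ similarityGroup f ⊓ specialLinear ι F := by
  obtain ⟨g', hg', h'⟩ := exists_tv hf (hf.alternating v) c
  have e : g = g' := gl_ext_mulVec fun x => by rw [hg, h']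
  exact ⟨⟨1, fun x y => by rw [Units.val_one, one_mul]; exact tv_isometry hf hg x y⟩, e ▸ hg'⟩

/-- A subgroup containing the transvections contains isometries moving orthogonal pairs. -/
theorem exists_move_pair' {K : Subgroup (GL ι F)} (hK : ∀ (g : GL ι F) (v : ι → F) (c : F), Tv f g v v c → g ∈ K)
    {v u v' u' : ι → F} (hv : v ≠ 0) (hv' : v' ≠ 0) (hu : ∀ k : F, k • v ≠ u) (hu' : ∀ k : F, k • v' ≠ u')
    (h : f v u = 0) (h' : f v' u' = 0) :
    ∃ g ∈ K, (∀ x y, f ((g : Matrix ι ι F) *ᵥ x) ((g : Matrix ι ι F) *ᵥ y) = f x y) ∧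
      (g : Matrix ι ι F) *ᵥ v = v' ∧ (g : Matrix ι ι F) *ᵥ u = u' := by
  have hb := hf.bilinear
  have hsub : ∀ a b w : ι → F, f w (b - a) = f w b - f w a := fun a b w => by
    rw [sub_eq_add_neg, hb.add_right, ← neg_one_smul F a, hb.smul_right]; ring
  have step : ∀ a b : ι → F, f a b ≠ 0 → ∃ g ∈ K,
      (∀ x y, f ((g : Matrix ι ι F) *ᵥ x) ((g : Matrix ι ι F) *ᵥ y) = f x y) ∧ (g : Matrix ι ι F) *ᵥ a = b ∧
      ∀ w, f w (b - a) = 0 → (g : Matrix ι ι F) *ᵥ w = w := by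
    intro a b hab
    obtain ⟨g, -, hg⟩ := exists_tv hf (hf.alternating (b - a)) (f a b)⁻¹
    refine ⟨g, hK _ _ _ hg, tv_isometry hf hg, ?_, fun w hw => by rw [hg, hw, mul_zero, zero_smul, add_zero]⟩
    rw [hg, hsub, hf.alternating a, sub_zero, inv_mul_cancel₀ hab, one_smul, add_sub_cancel]
  have avoid : ∀ (P : (ι → F) → Prop), (∀ x y, P x → P y → P (x + y)) → ∀ (p q : ι → F),
      (∃ x, P x ∧ f p x ≠ 0) → (∃ x, P x ∧ f x q ≠ 0) → ∃ x, P x ∧ f p x ≠ 0 ∧ f x q ≠ 0 := by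
    rintro P hP p q ⟨x, hx, hxp⟩ ⟨y, hy, hyq⟩
    by_cases h1 : f x q = 0
    swap
    · exact ⟨x, hx, hxp, h1⟩
    by_cases h2 : f p y = 0
    swap
    · exact ⟨y, hy, h2, hyq⟩
    exact ⟨x + y, hP x y hx hy, by rw [hb.add_right, h2, add_zero]; exact hxp,
      by rw [hb.add_left, h1, zero_add]; exact hyq⟩
  -- the first vector
  obtain ⟨g₁, hg₁, hi₁, hgv⟩ : ∃ g ∈ K,
      (∀ x y, f ((g : Matrix ι ι F) *ᵥ x) ((g : Matrix ι ι F) *ᵥ y) = f x y) ∧ (g : Matrix ι ι F) *ᵥ v = v' := by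
    obtain ⟨z, -, h1, h2⟩ := avoid (fun _ => True) (fun _ _ _ _ => trivial) v v'
      (by obtain ⟨x, hx⟩ := (hf.nondegenerate v hv).2; exact ⟨x, trivial, hx⟩)
      (by obtain ⟨x, hx⟩ := (hf.nondegenerate v' hv').1; exact ⟨x, trivial, hx⟩)
    obtain ⟨a, ha, hai, hav, -⟩ := step v z h1
    obtain ⟨b, hb', hbi, hbz, -⟩ := step z v' h2
    exact ⟨b * a, mul_mem hb' ha, fun x y => by rw [gl_mul_mulVec, gl_mul_mulVec, hbi, hai],
      by rw [gl_mul_mulVec, hav, hbz]⟩
  -- the second vector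
  set u₁ := (g₁ : Matrix ι ι F) *ᵥ u
  have hu₁ : ∀ k : F, k • v' ≠ u₁ := fun k e => hu k (gl_mulVec_injective g₁ (by
    simp only [Matrix.mulVec_smul]; rw [hgv]; exact e))
  have h₁ : f v' u₁ = 0 := by rw [← hgv, hi₁]; exact h
  have sep : ∀ p : ι → F, (∀ k : F, k • v' ≠ p) → ∃ x, f v' x = 0 ∧ f p x ≠ 0 := by
    intro p hp
    by_contra hcon
    push Not at hcon
    obtain ⟨y, hy⟩ := (hf.nondegenerate v' hv').2
    have e : ∀ x, f (p - (f p y / f v' y) • v') x = 0 := fun x => by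
      have hx := hcon (x - (f v' x / f v' y) • y) (by
        rw [hsub, hb.smul_right, div_mul_cancel₀ _ hy, sub_self])
      rw [hsub, hb.smul_right] at hx
      rw [sub_eq_add_neg, hb.add_left, ← neg_smul, hb.smul_left]
      linear_combination hx
    by_cases h0 : p - (f p y / f v' y) • v' = 0
    · exact hp _ (sub_eq_zero.mp h0).symm
    · obtain ⟨x, hx⟩ := (hf.nondegenerate _ h0).2
      exact hx (e x)
  obtain ⟨z, hz, h1, h2⟩ := avoid (fun x => f v' x = 0) (fun x y hx hy => by rw [hb.add_right, hx, hy, add_zero]) u₁ u'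
    (sep u₁ hu₁) (by
      obtain ⟨x, hx, hxu⟩ := sep u' hu'
      exact ⟨x, hx, by rw [hf.skew]; exact neg_ne_zero.mpr hxu⟩)
  obtain ⟨a, ha, hai, hau, haf⟩ := step u₁ z h1
  obtain ⟨b, hb', hbi, hbz, hbf⟩ := step z u' h2
  refine ⟨b * (a * g₁), mul_mem hb' (mul_mem ha hg₁), fun x y => ?_, ?_, ?_⟩
  · rw [gl_mul_mulVec, gl_mul_mulVec, gl_mul_mulVec, gl_mul_mulVec, hbi, hai, hi₁]
  · rw [gl_mul_mulVec, gl_mul_mulVec, hgv, haf _ (by rw [hsub, hz, h₁, sub_zero]),
      hbf _ (by rw [hsub, h', hz, sub_zero])]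
  · rw [gl_mul_mulVec, gl_mul_mulVec, hau, hbz]

/-- A subgroup above the similitudes contains isometries moving orthogonal pairs. -/
theorem exists_move_pair {K : Subgroup (GL ι F)} (hK : similarityGroup f ⊓ specialLinear ι F ≤ K)
    {v u v' u' : ι → F} (hv : v ≠ 0) (hv' : v' ≠ 0) (hu : ∀ k : F, k • v ≠ u) (hu' : ∀ k : F, k • v' ≠ u')
    (h : f v u = 0) (h' : f v' u' = 0) :
    ∃ g ∈ K, (∀ x y, f ((g : Matrix ι ι F) *ᵥ x) ((g : Matrix ι ι F) *ᵥ y) = f x y) ∧
      (g : Matrix ι ι F) *ᵥ v = v' ∧ (g : Matrix ι ι F) *ᵥ u = u' :=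
  exists_move_pair' hf (fun _ _ _ hg => hK (tv_mem hf hg)) hv hv' hu hu' h h'

/-- The similitudes are maximal. -/
theorem isMaximal (h3 : 3 ≤ Fintype.card ι) :
    IsMaximalIn (specialLinear ι F) (similarityGroup f ⊓ specialLinear ι F) := by
  classical
  have hb := hf.bilinear
  refine ⟨lt_of_le_of_ne inf_le_right fun e => not_specialLinear_le_similarityGroup h3 (RingEquiv.refl F)
    (semiForm_of_bilinear hb) hf.nondegenerate (inf_eq_right.mp e), fun K hK hKS => ?_⟩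
  refine or_iff_not_imp_left.mpr fun hne => le_antisymm hKS ?_
  obtain ⟨g, hg, hgs⟩ : ∃ g ∈ K, g ∉ similarityGroup f := by
    by_contra hcon
    push Not at hcon
    exact hne (le_antisymm (le_inf hcon hKS) hK)
  haveI : Nonempty ι := Fintype.card_pos_iff.mp (by omega)
  -- a transvection outside the symplectic group
  choose u hu using fun v => exists_rep hf (((g⁻¹ : GL ι F) : Matrix ι ι F)ᵀ *ᵥ (gramMatrix f *ᵥ v))
  have huf : ∀ v x, f x (u v) = f (((g⁻¹ : GL ι F) : Matrix ι ι F) *ᵥ x) v := fun v x => by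
    rw [hu, apply_gram hf (((g⁻¹ : GL ι F) : Matrix ι ι F) *ᵥ x) v, Matrix.dotProduct_mulVec x,
      Matrix.vecMul_transpose]
  obtain ⟨v₀, hv₀, hindep⟩ : ∃ v, v ≠ 0 ∧ ∀ k : F, k • ((g : Matrix ι ι F) *ᵥ v) ≠ u v := by
    by_contra hcon
    push Not at hcon
    apply hgs
    set A : Matrix ι ι F := (gramMatrix f)⁻¹ * ((g⁻¹ : GL ι F) : Matrix ι ι F)ᵀ * gramMatrix f *
      ((g⁻¹ : GL ι F) : Matrix ι ι F)
    have hA : ∀ v, f v (A *ᵥ ((g : Matrix ι ι F) *ᵥ v)) = f v (u v) := fun v => by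
      rw [hu, apply_gram hf]
      simp only [A, Matrix.mul_assoc, ← Matrix.mulVec_mulVec, gl_inv_mulVec_cancel]
      rw [Matrix.mulVec_mulVec (M := gramMatrix f), Matrix.mul_nonsing_inv _ (gram_unit hf), Matrix.one_mulVec]
    have hAu : ∀ v, A *ᵥ ((g : Matrix ι ι F) *ᵥ v) = u v := fun v => by
      have h1 : ∀ x, x ⬝ᵥ (gramMatrix f *ᵥ (A *ᵥ ((g : Matrix ι ι F) *ᵥ v))) = x ⬝ᵥ (gramMatrix f *ᵥ u v) := fun x => by
        rw [← apply_gram hf x (u v), hu]
        simp only [A, Matrix.mul_assoc, ← Matrix.mulVec_mulVec, gl_inv_mulVec_cancel]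
        rw [Matrix.mulVec_mulVec (M := gramMatrix f), Matrix.mul_nonsing_inv _ (gram_unit hf), Matrix.one_mulVec]
      exact Matrix.mulVec_injective_iff_isUnit.mpr ((Matrix.isUnit_iff_isUnit_det _).mpr (gram_unit hf))
        (funext fun i => by simpa using h1 (Pi.single i 1))
    obtain ⟨c, hc⟩ := scalar_of_all_eigen (M := A) fun x hx => by
      obtain ⟨v, rfl⟩ : ∃ v, (g : Matrix ι ι F) *ᵥ v = x := ⟨_, gl_mulVec_inv_cancel g x⟩
      obtain ⟨k, hk⟩ := hcon v fun e => hx (by rw [e, Matrix.mulVec_zero])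
      exact ⟨k, by rw [hAu, hk]⟩
    have hgi : ∀ x y, f (((g⁻¹ : GL ι F) : Matrix ι ι F) *ᵥ x) (((g⁻¹ : GL ι F) : Matrix ι ι F) *ᵥ y) = c * f x y :=
      fun x y => by
        rw [← huf, ← hAu, gl_mulVec_inv_cancel, hc, Matrix.smul_mulVec, Matrix.one_mulVec, hb.smul_right]
    have hc0 : c ≠ 0 := fun e => by
      obtain ⟨i⟩ := ‹Nonempty ι›
      obtain ⟨x, hx⟩ := (hf.nondegenerate (Pi.single i 1) (by simp)).1
      have := hgi ((g : Matrix ι ι F) *ᵥ x) ((g : Matrix ι ι F) *ᵥ Pi.single i 1)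
      rw [gl_inv_mulVec_cancel, gl_inv_mulVec_cancel, e, zero_mul] at this
      exact hx this
    exact inv_inv g ▸ inv_mem (show g⁻¹ ∈ similarityGroup f from ⟨Units.mk0 c hc0, hgi⟩)
  set w := (g : Matrix ι ι F) *ᵥ v₀
  have hw0 : w ≠ 0 := fun e => hv₀ (gl_mulVec_injective g (e.trans (Matrix.mulVec_zero _).symm))
  have horth : f w (u v₀) = 0 := by rw [huf, gl_inv_mulVec_cancel]; exact hf.alternating v₀
  have hbase : ∀ c : F, ∃ t ∈ K, Tv f t w (u v₀) c := fun c => by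
    obtain ⟨t, -, ht⟩ := exists_tv hf (hf.alternating v₀) c
    refine ⟨g * t * g⁻¹, mul_mem (mul_mem hg (hK (tv_mem hf ht))) (inv_mem hg), fun x => ?_⟩
    rw [gl_mul_mulVec, gl_mul_mulVec, ht, Matrix.mulVec_add, gl_mulVec_inv_cancel, Matrix.mulVec_smul, huf]
  -- all transvections
  have hall : ∀ (v u' : ι → F) (c : F), f v u' = 0 → ∀ t : GL ι F, Tv f t v u' c → t ∈ K := by
    intro v u' c hvu t ht
    by_cases hv : v = 0
    · rw [show t = 1 from gl_ext_mulVec fun x => by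
        rw [ht, hv, smul_zero, add_zero, Units.val_one, Matrix.one_mulVec]]
      exact one_mem K
    by_cases hk : ∃ k : F, k • v = u'
    · obtain ⟨k, rfl⟩ := hk
      refine hK (tv_mem hf (v := v) (c := c * k) fun x => ?_)
      rw [ht, hb.smul_right, mul_assoc]
    push Not at hk
    obtain ⟨h, hh, hhi, hhw, hhu⟩ := exists_move_pair hf hK hw0 hv hindep hk horth hvu
    obtain ⟨s, hs, hst⟩ := hbase c
    have e : t = h * s * h⁻¹ := gl_ext_mulVec fun x => by
      rw [gl_mul_mulVec, gl_mul_mulVec, hst, Matrix.mulVec_add, gl_mulVec_inv_cancel, Matrix.mulVec_smul, hhw,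
        ← hhi (((h⁻¹ : GL ι F) : Matrix ι ι F) *ᵥ x) (u v₀), gl_mulVec_inv_cancel, hhu, ht]
    rw [e]
    exact mul_mem (mul_mem hh hs) (inv_mem hh)
  haveI : Nontrivial ι := Fintype.one_lt_card_iff_nontrivial.mp (by omega)
  intro x hx
  have hle : (⊤ : Subgroup (SpecialLinearGroup ι F)) ≤ K.comap Matrix.SpecialLinearGroup.toGL := by
    rw [← sl_closure_transvections, Subgroup.closure_le]
    rintro _ ⟨i, j, hij, c, rfl⟩
    obtain ⟨u', hu'⟩ := exists_rep hf (Pi.single j 1)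
    refine hall (Pi.single i 1) u' c (by rw [hu']; simp [hij]) (transGL hij c) fun y => ?_
    rw [transGL_mulVec, hu', dotProduct_single, mul_one, ← Pi.single_smul', smul_eq_mul, mul_one]
  let X : SpecialLinearGroup ι F := ⟨(x : Matrix ι ι F), mem_specialLinear_iff.mp hx⟩
  have h := hle (Subgroup.mem_top X)
  rw [Subgroup.mem_comap, show Matrix.SpecialLinearGroup.toGL X = x from Units.ext rfl] at h
  exact h

end Cfsg.Agent.Classical.SpMaxSL
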