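/-
The symplectic subgroups are maximal in the special unitary group.
-/
import Cfsg.Agent.Lib.Classical.UnitaryOvergroup
import Cfsg.Agent.Lib.Classical.UnitarySmallDim
import Cfsg.Agent.Lib.Classical.SpMaximalInSL

set_option autoImplicit false
set_option linter.unusedSectionVars false
set_option linter.style.haveILetI false

namespace Cfsg.Agent.Classical.SpInU

open Matrix Cfsg.Geo
open Cfsg.Agent.Classical

variable {F : Type*} [Field F] [Fintype F] {n q : ℕ} {σ : F ≃+* F} {F₀ : Subfield F}

/-- A rational vector with entries in the field. -/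
def up (u : Fin n → F₀) : Fin n → F := fun i => (u i : F)

theorem isMaximal (hσ : IsUSigma q σ) (h4 : 4 ≤ n) (hcard : Fintype.card F = Nat.card F₀ ^ 2) {ζ : F} (hζ0 : ζ ≠ 0)
    (hζ : ζ + ζ ^ q = 0) (P : GL (Fin n) F) (hP : IsFormRationalStructure (hermForm n F q) F₀ ζ P)
    (halt : ∀ u : Fin n → F, (∀ i, u i ∈ F₀) → hermForm n F q ((P : Matrix (Fin n) (Fin n) F) *ᵥ u)
      ((P : Matrix (Fin n) (Fin n) F) *ᵥ u) = 0) :
    IsMaximalIn (suGL n F q) (subfieldSubgroup F₀ P ⊓ suGL n F q) := by
  classical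
  refine ⟨lt_of_le_of_ne inf_le_right fun e => hσ.not_su_le_subfield_three (by omega) Nat.prime_two hcard P (inf_eq_right.mp e),
    fun K hK hKS => or_iff_not_imp_left.mpr fun hne => le_antisymm hKS ?_⟩
  have hh := hσ.isUnitaryForm (n := n)
  have hs := semiForm_of_unitary hh
  -- the fixed field
  haveI : Fintype F₀ := Fintype.ofFinite F₀
  have hq0 : Nat.card F₀ = q := by
    have h := hcard
    rw [hσ.card] at h
    exact (Nat.pow_left_injective two_ne_zero h).symm
  have hfix : ∀ x ∈ F₀, σ x = x := fun x hx => by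
    have h := congrArg Subtype.val (FiniteField.pow_card (⟨x, hx⟩ : F₀))
    rw [← Nat.card_eq_fintype_card, hq0] at h
    rw [hσ.apply_eq]
    exact h
  have hσζ : σ ζ = -ζ := by rw [hσ.apply_eq]; linear_combination hζ
  obtain ⟨θ, hθ⟩ : ∃ θ : F, θ ∉ F₀ := by
    by_contra hh'
    push Not at hh'
    have e : Nat.card F₀ = Fintype.card F := by
      rw [← Nat.card_eq_fintype_card]; exact Nat.card_congr (Equiv.subtypeUnivEquiv hh')
    rw [e] at hcard
    have := Fintype.one_lt_card (α := F)
    nlinarith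
  have hθσ : σ θ ≠ θ := by
    intro he
    -- the fixed elements form the subfield
    have hsub : (F₀ : Set F) ⊆ {x : F | x ^ q = x} := fun x hx => by rw [Set.mem_setOf_eq, ← hσ.apply_eq]; exact hfix x hx
    have hle : {x : F | x ^ q = x}.ncard ≤ q := by
      have hq := hσ.two_le
      have hX : (Polynomial.X ^ q - Polynomial.X : Polynomial F) ≠ 0 := FiniteField.X_pow_card_sub_X_ne_zero F (by omega)
      calc {x : F | x ^ q = x}.ncard ≤ ((Polynomial.X ^ q - Polynomial.X : Polynomial F).roots.toFinset : Set F).ncard :=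
            Set.ncard_le_ncard (fun x hx => by
              simp only [Finset.mem_coe, Multiset.mem_toFinset, Polynomial.mem_roots hX, Polynomial.IsRoot.def,
                Polynomial.eval_sub, Polynomial.eval_pow, Polynomial.eval_X]
              exact sub_eq_zero.mpr hx) (Set.toFinite _)
        _ ≤ _ := by
            rw [Set.ncard_coe_finset]
            exact ((Multiset.toFinset_card_le _).trans (Polynomial.card_roots' _)).trans
              (FiniteField.X_pow_card_sub_X_natDegree_eq F (by omega)).le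
    have := Set.eq_of_subset_of_ncard_le hsub (by
      rw [← Nat.card_coe_set_eq (F₀ : Set F)]; exact hle.trans hq0.ge) (Set.toFinite _)
    exact hθ (by rw [← SetLike.mem_coe, this, Set.mem_setOf_eq, ← hσ.apply_eq]; exact he)
  have hdec : ∀ x : F, ∃ a b : F₀, x = (a : F) + θ * b := by
    let Θ : F₀ × F₀ → F := fun p => (p.1 : F) + θ * p.2
    have hinj : Function.Injective Θ := by
      rintro ⟨a, b⟩ ⟨c, d⟩ h
      simp only [Θ] at h
      have hbd : (b : F) = d := by
        by_contra hne'
        refine hθ ?_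
        rw [show θ = ((c : F) - a) / ((b : F) - d) by
          rw [eq_div_iff (sub_ne_zero.mpr hne')]; linear_combination h]
        exact div_mem (sub_mem c.2 a.2) (sub_mem b.2 d.2)
      refine Prod.ext (Subtype.ext ?_) (Subtype.ext hbd)
      rw [hbd] at h
      exact add_right_cancel h
    have hsurj : Function.Surjective Θ := (hinj.bijective_of_nat_card_le (by
      rw [Nat.card_prod, Nat.card_eq_fintype_card (α := F), hcard, sq])).2
    intro x
    obtain ⟨⟨a, b⟩, h⟩ := hsurj x
    exact ⟨a, b, h.symm⟩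
  have hone : ∀ i j, (Pi.single i (1 : F) : Fin n → F) j ∈ F₀ := fun i j => by
    rw [Pi.single_apply]; split_ifs; exacts [one_mem _, zero_mem _]
  -- the alternating form on the rational structure
  let B : (Fin n → F₀) → (Fin n → F₀) → F₀ := fun u v =>
    ⟨ζ * hermForm n F q ((P : Matrix (Fin n) (Fin n) F) *ᵥ up u) ((P : Matrix (Fin n) (Fin n) F) *ᵥ up v),
      hP _ _ (fun i => (u i).2) fun i => (v i).2⟩
  have hBv : ∀ u v, ((B u v : F₀) : F) =
      ζ * hermForm n F q ((P : Matrix (Fin n) (Fin n) F) *ᵥ up u) ((P : Matrix (Fin n) (Fin n) F) *ᵥ up v) :=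
    fun _ _ => rfl
  have hupadd : ∀ u v : Fin n → F₀, up (u + v) = up u + up v := fun u v => funext fun i => Subfield.coe_add _ _ _
  have hupsmul : ∀ (c : F₀) (u : Fin n → F₀), up (c • u) = (c : F) • up u := fun c u => funext fun i => by
    simp [up]
  have hBskew : ∀ u v, B u v = -B v u := fun u v => Subtype.ext (by
    rw [Subfield.coe_neg, hBv, hBv]
    have h2 : σ ((B u v : F₀) : F) = (B u v : F) := hfix _ (B u v).2
    rw [hBv, map_mul, hσζ, ← hh.herm] at h2
    linear_combination -h2)
  have hBadd : ∀ x y v, B (x + y) v = B x v + B y v := fun x y v => Subtype.ext (by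
    rw [Subfield.coe_add, hBv, hBv, hBv, hupadd, Matrix.mulVec_add, hs.add_left]; ring)
  have hBsmul : ∀ (c : F₀) x v, B (c • x) v = c * B x v := fun c x v => Subtype.ext (by
    rw [Subfield.coe_mul, hBv, hBv, hupsmul, Matrix.mulVec_smul, hs.smul_left]; ring)
  have hBsymp : IsSymplecticForm B :=
    { bilinear :=
        { add_left := hBadd
          smul_left := hBsmul
          add_right := fun v x y => by rw [hBskew, hBadd, hBskew v x, hBskew v y]; ring
          smul_right := fun c v x => by rw [hBskew, hBsmul, hBskew v x]; ring }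
      skew := hBskew
      alternating := fun v => Subtype.ext (by
        rw [hBv, halt (up v) fun i => (v i).2, mul_zero]; rfl)
      nondegenerate := fun v hv => by
        have hne : ∃ x, B x v ≠ 0 := by
          by_contra hcon
          push Not at hcon
          have hv0 : (P : Matrix (Fin n) (Fin n) F) *ᵥ up v ≠ 0 := fun e =>
            hv (funext fun i => Subtype.ext (congrFun (gl_mulVec_injective P (e.trans (Matrix.mulVec_zero _).symm)) i))
          obtain ⟨y, hy⟩ := (hh.nondegenerate _ hv0).1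
          refine hy ?_
          obtain ⟨z, rfl⟩ : ∃ z, (P : Matrix (Fin n) (Fin n) F) *ᵥ z = y := ⟨_, gl_mulVec_inv_cancel P y⟩
          let L : (Fin n → F) →ₗ[F] F :=
            { toFun := fun z => hermForm n F q ((P : Matrix (Fin n) (Fin n) F) *ᵥ z) ((P : Matrix (Fin n) (Fin n) F) *ᵥ up v)
              map_add' := fun a b => by rw [Matrix.mulVec_add, hs.add_left]
              map_smul' := fun c a => by rw [Matrix.mulVec_smul, hs.smul_left]; rfl }
          change L z = 0
          rw [pi_eq_sum_univ' z, map_sum]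
          refine Finset.sum_eq_zero fun i _ => ?_
          rw [map_smul]
          have h := congrArg Subtype.val (hcon (Pi.single i 1))
          rw [hBv, show up (Pi.single i (1 : F₀)) = Pi.single i (1 : F) from funext fun j => by
            by_cases hj : j = i <;> simp [up, hj]] at h
          change _ • hermForm n F q _ _ = 0
          rw [(mul_eq_zero.mp h).resolve_left hζ0, smul_zero]
        obtain ⟨x, hx⟩ := hne
        exact ⟨⟨x, hx⟩, ⟨x, by rw [hBskew]; exact neg_ne_zero.mpr hx⟩⟩ }
  -- centres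
  let C : (Fin n → F) → Prop := fun v => hermForm n F q v v = 0 →
    ∀ c : F, c + σ c = 0 → ∀ g, UOver.Tv q g v c → g ∈ K
  have hscale : ∀ {v : Fin n → F} {s : F}, s ≠ 0 → C v → C (s • v) := fun {v s} hs0 hv hiso c hc g hg => by
    refine hv ?_ (c * s * σ s) ?_ g (UOver.tv_smul hσ s hg)
    · rw [hs.smul_left, hs.smul_right] at hiso
      exact ((mul_eq_zero.mp ((mul_eq_zero.mp hiso).resolve_left hs0))).resolve_left fun e => hs0 (by simpa using e)
    · rw [map_mul, map_mul, hσ.involutive]; linear_combination (s * σ s) * hc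
  have hpure : ∀ (u : Fin n → F₀), ∀ c : F, c + σ c = 0 → ∀ g,
      UOver.Tv q g ((P : Matrix (Fin n) (Fin n) F) *ᵥ up u) c → g ∈ K := by
    intro u c hc g hg
    have hmem := UOver.tv_mem hσ (halt _ fun i => (u i).2) hc hg
    refine hK ⟨mem_subfieldSubgroup.mpr (Subgroup.mem_sup_left (mem_range_map_subfield fun i j => ?_)), hmem⟩
    have h : ((P⁻¹ * g * P : GL (Fin n) F) : Matrix (Fin n) (Fin n) F) *ᵥ Pi.single j 1 =
        Pi.single j 1 + (c * hermForm n F q ((P : Matrix (Fin n) (Fin n) F) *ᵥ Pi.single j 1)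
          ((P : Matrix (Fin n) (Fin n) F) *ᵥ up u)) • up u := by
      rw [gl_mul_mulVec, gl_mul_mulVec, hg, Matrix.mulVec_add, gl_inv_mulVec_cancel, Matrix.mulVec_smul,
        gl_inv_mulVec_cancel]
    have h' := congrFun h i
    rw [Matrix.mulVec_single_one, Matrix.col_apply] at h'
    rw [h']
    refine add_mem (hone j i) (mul_mem ?_ (u i).2)
    have hc' : c / ζ ∈ F₀ := by
      by_contra hn'
      have h1 : σ (c / ζ) = c / ζ := by
        rw [map_div₀, hσζ, show σ c = -c by linear_combination hc, neg_div_neg_eq]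
      obtain ⟨a, b, hab⟩ := hdec (c / ζ)
      rw [hab, map_add, map_mul, hfix _ a.2, hfix _ b.2] at h1
      have hb : (b : F) * (σ θ - θ) = 0 := by linear_combination h1
      rw [(mul_eq_zero.mp hb).resolve_right (sub_ne_zero.mpr hθσ), mul_zero, add_zero] at hab
      exact hn' (hab ▸ a.2)
    have := mul_mem hc' (hP _ (up u) (hone j) fun i => (u i).2)
    rwa [← mul_assoc, div_mul_cancel₀ _ hζ0] at this
  -- isometries of the rational structure
  let φ : GL (Fin n) F₀ →* GL (Fin n) F :=
    (MulAut.conj P).toMonoidHom.comp (Matrix.GeneralLinearGroup.map (F₀.subtype : F₀ →+* F))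
  have hφ : ∀ A x, ((φ A : GL (Fin n) F) : Matrix (Fin n) (Fin n) F) *ᵥ ((P : Matrix (Fin n) (Fin n) F) *ᵥ up x) =
      (P : Matrix (Fin n) (Fin n) F) *ᵥ up ((A : Matrix (Fin n) (Fin n) F₀) *ᵥ x) := fun A x => by
    change ((P * Matrix.GeneralLinearGroup.map (F₀.subtype : F₀ →+* F) A * P⁻¹ : GL (Fin n) F) :
      Matrix (Fin n) (Fin n) F) *ᵥ _ = _
    rw [gl_mul_mulVec, gl_mul_mulVec, gl_inv_mulVec_cancel]
    congr 1
    funext i
    exact (RingHom.map_mulVec (F₀.subtype : F₀ →+* F) (A : Matrix (Fin n) (Fin n) F₀) x i).symm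
  have hspan : ∀ {L M : GL (Fin n) F}, (∀ x : Fin n → F₀,
      (L : Matrix (Fin n) (Fin n) F) *ᵥ ((P : Matrix (Fin n) (Fin n) F) *ᵥ up x) =
      (M : Matrix (Fin n) (Fin n) F) *ᵥ ((P : Matrix (Fin n) (Fin n) F) *ᵥ up x)) → L = M := fun {L M} h => by
    have e : L * P = M * P := Units.ext (Matrix.ext_of_mulVec_single fun i => by
      have h1 := h (Pi.single i 1)
      rw [show up (Pi.single i (1 : F₀)) = Pi.single i (1 : F) from funext fun j => by
        by_cases hj : j = i <;> simp [up, hj]] at h1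
      rw [gl_mul_mulVec, gl_mul_mulVec]; exact h1)
    exact mul_right_cancel e
  have hφK : ∀ (A : GL (Fin n) F₀) (v : Fin n → F₀) (c : F₀), SpMaxSL.Tv B A v v c → A ∈ K.comap φ := by
    intro A v c hA
    obtain ⟨t, -, ht⟩ := hσ.exists_transvection (v := (P : Matrix (Fin n) (Fin n) F) *ᵥ up v)
      (halt _ fun i => (v i).2) (c := (c : F) * ζ) (by rw [map_mul, hfix _ c.2, hσζ]; ring)
    have e : φ A = t := hspan fun x => by
      rw [hφ, hA, hupadd, hupsmul, Subfield.coe_mul, hBv, Matrix.mulVec_add, Matrix.mulVec_smul, ht, mul_assoc]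
    rw [Subgroup.mem_comap, e]
    exact hpure v _ (by rw [map_mul, hfix _ c.2, hσζ]; ring) t ht
  -- an irrational centre
  obtain ⟨g, hg, hgn⟩ : ∃ g ∈ K, g ∉ subfieldSubgroup F₀ P := by
    by_contra hcon
    push Not at hcon
    exact hne (le_antisymm (le_inf hcon hKS) hK)
  obtain ⟨M, hM⟩ : ∃ M, M = ((P⁻¹ * g * P : GL (Fin n) F) : Matrix (Fin n) (Fin n) F) := ⟨_, rfl⟩
  have hgC : ∀ x : Fin n → F₀, C ((P : Matrix (Fin n) (Fin n) F) *ᵥ (M *ᵥ up x)) := by
    intro x _ c hc h hh'
    rw [hM, gl_mul_mulVec, gl_mul_mulVec, gl_mulVec_inv_cancel] at hh'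
    obtain ⟨t, -, ht⟩ := hσ.exists_transvection (v := (P : Matrix (Fin n) (Fin n) F) *ᵥ up x)
      (halt _ fun i => (x i).2) hc
    rw [UOver.tv_unique hh' (UOver.tv_conj (hKS hg).1 ht)]
    exact mul_mem (mul_mem hg (hpure x c hc t ht)) (inv_mem hg)
  obtain ⟨x₀, hx₀⟩ : ∃ x : Fin n → F₀, ¬ ∃ a : F, ∀ i, ∃ r : F₀, (M *ᵥ up x) i = a * r := by
    by_contra hcon
    push Not at hcon
    apply hgn
    have hcol : ∀ i, ∃ (a : F) (R : Fin n → F₀), a ≠ 0 ∧ ∀ k, M k i = a * R k := fun i => by
      obtain ⟨a, ha⟩ := hcon (Pi.single i 1)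
      choose R hR using ha
      have hMi : ∀ k, M k i = a * R k := fun k => by
        rw [← hR, show up (Pi.single i (1 : F₀)) = Pi.single i (1 : F) from funext fun j => by
          by_cases hj : j = i <;> simp [up, hj], Matrix.mulVec_single_one, Matrix.col_apply]
      refine ⟨a, R, fun ha0 => ?_, hMi⟩
      refine ((Matrix.isUnit_iff_isUnit_det _).mp (P⁻¹ * g * P : GL (Fin n) F).isUnit).ne_zero ?_
      rw [← hM]
      exact Matrix.det_eq_zero_of_column_eq_zero i fun k => by rw [hMi, ha0, zero_mul]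
    choose a R ha hR using hcol
    let i₀ : Fin n := ⟨0, by omega⟩
    have hratio : ∀ j, a j / a i₀ ∈ F₀ := fun j => by
      by_cases hj : j = i₀
      · rw [hj, div_self (ha _)]; exact one_mem _
      obtain ⟨k, l, hkl⟩ : ∃ k l, R i₀ k * R j l - R i₀ l * R j k ≠ 0 := by
        by_contra hd
        push Not at hd
        refine ((Matrix.isUnit_iff_isUnit_det _).mp (P⁻¹ * g * P : GL (Fin n) F).isUnit).ne_zero ?_
        rw [← hM]
        obtain ⟨k, hk⟩ : ∃ k, R i₀ k ≠ 0 := by
          by_contra hk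
          push Not at hk
          have h0 : ∀ k, M k i₀ = 0 := fun k => by rw [hR, hk, Subfield.coe_zero, mul_zero]
          have := congrFun (congrFun (show
            (((P⁻¹ * g * P)⁻¹ : GL (Fin n) F) : Matrix (Fin n) (Fin n) F) * M = 1 from by rw [hM, Units.inv_mul]) i₀) i₀
          simp [Matrix.mul_apply, h0] at this
        have hcolj : ∀ l, M l j = (a j * R j k / (a i₀ * R i₀ k)) * M l i₀ := fun l => by
          have h := congrArg Subtype.val (hd k l)
          simp only [Subfield.coe_sub, Subfield.coe_mul, Subfield.coe_zero] at h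
          have hk' : (R i₀ k : F) ≠ 0 := fun e => hk (Subtype.ext e)
          have := ha i₀
          rw [hR, hR]
          field_simp
          linear_combination (a j) * h
        refine Matrix.exists_mulVec_eq_zero_iff.mp
          ⟨Pi.single j 1 - (a j * R j k / (a i₀ * R i₀ k)) • Pi.single i₀ 1, fun e => ?_, ?_⟩
        · have := congrFun e j
          simp [hj] at this
        · funext l
          rw [Matrix.mulVec_sub, Matrix.mulVec_smul, Matrix.mulVec_single_one, Matrix.mulVec_single_one]
          simp [hcolj l]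
      obtain ⟨b, hb⟩ := hcon (Pi.single i₀ 1 + Pi.single j 1)
      choose S hS using hb
      have hsum : ∀ k, a i₀ * R i₀ k + a j * R j k = b * S k := fun k => by
        rw [← hR, ← hR, ← hS, hupadd, Matrix.mulVec_add, Pi.add_apply,
          show up (Pi.single i₀ (1 : F₀)) = Pi.single i₀ (1 : F) from funext fun t => by
            by_cases ht : t = i₀ <;> simp [up, ht],
          show up (Pi.single j (1 : F₀)) = Pi.single j (1 : F) from funext fun t => by
            by_cases ht : t = j <;> simp [up, ht], Matrix.mulVec_single_one, Matrix.mulVec_single_one,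
          Matrix.col_apply, Matrix.col_apply]
      have hk := hsum k
      have hl := hsum l
      obtain ⟨D, hD⟩ : ∃ D : F, D = ((R i₀ k * R j l - R i₀ l * R j k : F₀) : F) := ⟨_, rfl⟩
      have hD0 : D ≠ 0 := fun e => hkl (Subtype.ext (hD.symm.trans e))
      rw [Subfield.coe_sub, Subfield.coe_mul, Subfield.coe_mul] at hD
      have e1 : a i₀ * D = b * ((S k : F) * R j l - S l * R j k) := by
        rw [hD]; linear_combination (R j l : F) * hk - (R j k : F) * hl
      have e2 : a j * D = b * ((S l : F) * R i₀ k - S k * R i₀ l) := by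
        rw [hD]; linear_combination (R i₀ k : F) * hl - (R i₀ l : F) * hk
      have hb0 : b ≠ 0 := fun e => ha i₀ ((mul_eq_zero.mp (by rw [e1, e, zero_mul] : a i₀ * D = 0)).resolve_right hD0)
      have hden : (S k : F) * R j l - S l * R j k ≠ 0 := fun e => by
        rw [e, mul_zero, mul_eq_zero] at e1; exact e1.elim (ha i₀) hD0
      rw [show a j / a i₀ = ((S l : F) * R i₀ k - S k * R i₀ l) / ((S k : F) * R j l - S l * R j k) by
        rw [div_eq_div_iff (ha _) hden]
        refine mul_right_cancel₀ hD0 ?_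
        linear_combination ((S k : F) * R j l - S l * R j k) * e2 - ((S l : F) * R i₀ k - S k * R i₀ l) * e1]
      exact div_mem (sub_mem (mul_mem (S l).2 (R i₀ k).2) (mul_mem (S k).2 (R i₀ l).2))
        (sub_mem (mul_mem (S k).2 (R j l).2) (mul_mem (S l).2 (R j k).2))
    rw [mem_subfieldSubgroup]
    have hd : ((a i₀)⁻¹ • M).det ≠ 0 := by
      rw [Matrix.det_smul]
      refine mul_ne_zero (pow_ne_zero _ (inv_ne_zero (ha _))) ?_
      rw [hM]
      exact ((Matrix.isUnit_iff_isUnit_det _).mp (P⁻¹ * g * P : GL (Fin n) F).isUnit).ne_zero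
    have e : P⁻¹ * g * P = Matrix.GeneralLinearGroup.mkOfDetNeZero _ hd *
        Units.map (Matrix.scalar (Fin n) : F →+* Matrix (Fin n) (Fin n) F).toMonoidHom (Units.mk0 _ (ha i₀)) := by
      refine Units.ext (Matrix.ext fun x y => ?_)
      rw [← hM, Units.val_mul (Matrix.GeneralLinearGroup.mkOfDetNeZero _ hd), Matrix.GeneralLinearGroup.val_mkOfDetNeZero]
      have := ha i₀
      simp [Matrix.mul_diagonal, Matrix.scalar_apply]
      field_simp
    rw [e]
    refine mul_mem (Subgroup.mem_sup_left (mem_range_map_subfield fun x y => ?_)) (Subgroup.mem_sup_right ⟨_, rfl⟩)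
    rw [Matrix.GeneralLinearGroup.val_mkOfDetNeZero, Matrix.smul_apply, smul_eq_mul, hR, ← mul_assoc,
      inv_mul_eq_div]
    exact mul_mem (hratio y) (R y x).2
  -- coordinates over the subfield
  have hsplit : ∀ w : Fin n → F, ∃ u u' : Fin n → F₀, w = up u + θ • up u' := fun w => by
    choose u u' h using fun i => hdec (w i)
    exact ⟨u, u', funext fun i => by simp [up, h i]⟩
  have horth : ∀ u u' : Fin n → F₀, hermForm n F q ((P : Matrix (Fin n) (Fin n) F) *ᵥ (up u + θ • up u'))
      ((P : Matrix (Fin n) (Fin n) F) *ᵥ (up u + θ • up u')) = 0 → B u u' = 0 := by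
    intro u u' h
    rw [Matrix.mulVec_add, Matrix.mulVec_smul, hs.add_left, hs.add_right, hs.add_right, hs.smul_left, hs.smul_left,
      hs.smul_right, hs.smul_right, halt (up u) fun i => (u i).2, halt (up u') fun i => (u' i).2] at h
    have e1 := hBv u u'
    have e2 := hBv u' u
    rw [hBskew u' u, Subfield.coe_neg] at e2
    have : ((B u u' : F₀) : F) * (σ θ - θ) = 0 := by linear_combination ζ * h + σ θ * e1 + θ * e2
    exact Subtype.ext ((mul_eq_zero.mp this).resolve_right (sub_ne_zero.mpr hθσ))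
  obtain ⟨u, u', huv⟩ := hsplit (M *ᵥ up x₀)
  have hu0 : u ≠ 0 := fun e => hx₀ ⟨θ, fun i => ⟨u' i, by rw [huv, e]; simp [up]⟩⟩
  have hind : ∀ k : F₀, k • u ≠ u' := fun k hk => hx₀ ⟨1 + θ * k, fun i => ⟨u i, by
    rw [huv, ← hk]; simp [up]; ring⟩⟩
  have hiso₀ : hermForm n F q ((P : Matrix (Fin n) (Fin n) F) *ᵥ (M *ᵥ up x₀))
      ((P : Matrix (Fin n) (Fin n) F) *ᵥ (M *ᵥ up x₀)) = 0 := by
    rw [hM, gl_mul_mulVec, gl_mul_mulVec, gl_mulVec_inv_cancel, mem_GU_iff.mp (hKS hg).1]
    exact halt _ fun i => (x₀ i).2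
  have hbase : B u u' = 0 := horth _ _ (huv ▸ hiso₀)
  -- all centres
  refine UOver.suGL_le hσ (by omega) fun v c hv hc t ht => ?_
  obtain ⟨z, rfl⟩ : ∃ z, (P : Matrix (Fin n) (Fin n) F) *ᵥ z = v := ⟨_, gl_mulVec_inv_cancel P v⟩
  obtain ⟨y, y', rfl⟩ := hsplit z
  have hall : C ((P : Matrix (Fin n) (Fin n) F) *ᵥ (up y + θ • up y')) := by
    have hzero : ∀ s : F, ∀ w : Fin n → F₀, C ((P : Matrix (Fin n) (Fin n) F) *ᵥ (s • up w)) := fun s w => by
      by_cases hs0 : s = 0
      · intro _ c _ g hg
        rw [show g = 1 from gl_ext_mulVec fun x => by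
          rw [hg, hs0, zero_smul, Matrix.mulVec_zero, smul_zero, add_zero, Units.val_one, Matrix.one_mulVec]]
        exact one_mem K
      rw [Matrix.mulVec_smul]
      exact hscale hs0 fun _ c hc g hg => hpure w c hc g hg
    by_cases hy : y = 0
    · rw [show up y + θ • up y' = θ • up y' by rw [hy]; funext i; simp [up]]
      exact hzero θ y'
    by_cases hdep : ∃ k : F₀, k • y = y'
    · obtain ⟨k, rfl⟩ := hdep
      rw [hupsmul, smul_smul, show up y + (θ * k) • up y = (1 + θ * k) • up y by rw [add_smul, one_smul]]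
      exact hzero _ y
    push Not at hdep
    intro hiso c hc g' hg'
    obtain ⟨A, hA, hAi, hAu, hAu'⟩ := SpMaxSL.exists_move_pair' hBsymp hφK (v := y) (u := y') (v' := u) (u' := u')
      hy hu0 hdep hind (horth _ _ hiso) hbase
    have hAS : φ A ∈ K := hA
    have he : ((φ A : GL (Fin n) F) : Matrix (Fin n) (Fin n) F) *ᵥ ((P : Matrix (Fin n) (Fin n) F) *ᵥ (up y + θ • up y')) =
        (P : Matrix (Fin n) (Fin n) F) *ᵥ (M *ᵥ up x₀) := by
      rw [huv, Matrix.mulVec_add, Matrix.mulVec_add, Matrix.mulVec_smul, Matrix.mulVec_smul, hφ, hAu, hφ, hAu',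
        Matrix.mulVec_add, Matrix.mulVec_smul]
    have h3 := UOver.tv_conj (hKS hAS).1 hg'
    rw [he] at h3
    have h4 := mul_mem (mul_mem (inv_mem hAS) (hgC x₀ hiso₀ c hc _ h3)) hAS
    rwa [show (φ A)⁻¹ * (φ A * g' * (φ A)⁻¹) * φ A = g' by group] at h4
  exact hall hv c hc t ht

end Cfsg.Agent.Classical.SpInU
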