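/-
Stabilisers of non-degenerate subspaces of less than half dimension are maximal in symplectic groups,
in every rank: the transvection centres of an overgroup are invariant, and the stabiliser has three orbits.
-/
import Cfsg.Agent.Lib.Classical.RadicalFormSplit
import Cfsg.Agent.Lib.Classical.SpOvergroup

set_option autoImplicit false
set_option linter.unusedSectionVars false

namespace Cfsg.Agent.Classical.SpSplit

open Matrix Cfsg.Geo Module
open Cfsg.Agent.Classical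

variable {m : ℕ} {F : Type*} [Field F] [Fintype F]

/-- All transvections with centre `v` lie in `K`. -/
def Has (K : Subgroup (GL (Fin m ⊕ Fin m) F)) (v : Fin m ⊕ Fin m → F) : Prop :=
  ∀ (c : F) (t : GL (Fin m ⊕ Fin m) F),
    (∀ x, (t : Matrix (Fin m ⊕ Fin m) (Fin m ⊕ Fin m) F) *ᵥ x = x + (c * sympForm m F x v) • v) → t ∈ K

variable {K : Subgroup (GL (Fin m ⊕ Fin m) F)}

/-- The centres are invariant. -/
theorem has_map (hKS : K ≤ spGL m F) {g : GL (Fin m ⊕ Fin m) F} (hg : g ∈ K) {v : Fin m ⊕ Fin m → F}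
    (hv : Has K v) : Has K ((g : Matrix (Fin m ⊕ Fin m) (Fin m ⊕ Fin m) F) *ᵥ v) := by
  have hfs := sympForm_isSymplectic (m := m) (F := F)
  intro c t ht
  have h : g⁻¹ * t * g ∈ K := hv c _ fun x => by
    rw [gl_mul_mulVec, gl_mul_mulVec, ht,
      show sympForm m F ((g : Matrix (Fin m ⊕ Fin m) (Fin m ⊕ Fin m) F) *ᵥ x)
        ((g : Matrix (Fin m ⊕ Fin m) (Fin m ⊕ Fin m) F) *ᵥ v) = sympForm m F x v from hKS hg x v, Matrix.mulVec_add, Matrix.mulVec_smul, gl_inv_mulVec_cancel,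
      gl_inv_mulVec_cancel]
  have h2 := mul_mem (mul_mem hg h) (inv_mem hg)
  simpa [mul_assoc] using h2

/-- Two vectors of a non-degenerate subspace with non-zero pairing are linked by a transvection in it. -/
theorem move_step (hKS : K ≤ spGL m F) {X : Submodule F (Fin m ⊕ Fin m → F)} (hX : ∀ u ∈ X, Has K u)
    {v w : Fin m ⊕ Fin m → F} (hv : v ∈ X) (hw : w ∈ X) (hvw : sympForm m F v w ≠ 0) :
    ∃ g ∈ K, (g : Matrix (Fin m ⊕ Fin m) (Fin m ⊕ Fin m) F) *ᵥ v = w ∧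
      ∀ y, (∀ u ∈ X, sympForm m F y u = 0) → (g : Matrix (Fin m ⊕ Fin m) (Fin m ⊕ Fin m) F) *ᵥ y = y := by
  have hfs := sympForm_isSymplectic (m := m) (F := F)
  obtain ⟨t, -, ht⟩ := exists_sp_transvection (w - v) (sympForm m F v w)⁻¹
  refine ⟨t, hX _ (sub_mem hw hv) _ t ht, ?_, fun y hy => by
    rw [ht, hy _ (sub_mem hw hv), mul_zero, zero_smul, add_zero]⟩
  have e : sympForm m F v (w - v) = sympForm m F v w := by
    have h := hfs.bilinear.add_right v (w - v) v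
    rwa [sub_add_cancel, hfs.alternating v, add_zero, eq_comm] at h
  rw [ht, e, inv_mul_cancel₀ hvw, one_smul]
  abel

/-- The transvections inside a non-degenerate subspace move its non-zero vectors transitively. -/
theorem move (hKS : K ≤ spGL m F) {X : Submodule F (Fin m ⊕ Fin m → F)} (hX : ∀ u ∈ X, Has K u)
    (hnd : IsNondegenerateOn (sympForm m F) X) {v w : Fin m ⊕ Fin m → F} (hv : v ∈ X) (hw : w ∈ X)
    (hv0 : v ≠ 0) (hw0 : w ≠ 0) :
    ∃ g ∈ K, (g : Matrix (Fin m ⊕ Fin m) (Fin m ⊕ Fin m) F) *ᵥ v = w ∧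
      ∀ y, (∀ u ∈ X, sympForm m F y u = 0) → (g : Matrix (Fin m ⊕ Fin m) (Fin m ⊕ Fin m) F) *ᵥ y = y := by
  have hfs := sympForm_isSymplectic (m := m) (F := F)
  by_cases hvw : sympForm m F v w ≠ 0
  · exact move_step hKS hX hv hw hvw
  obtain ⟨z, hz, hvz, hzw⟩ : ∃ z ∈ X, sympForm m F v z ≠ 0 ∧ sympForm m F z w ≠ 0 := by
    obtain ⟨-, ⟨x, hx, hvx⟩⟩ := hnd v hv hv0
    obtain ⟨⟨y, hy, hyw⟩, -⟩ := hnd w hw hw0
    by_cases h1 : sympForm m F x w ≠ 0
    · exact ⟨x, hx, hvx, h1⟩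
    by_cases h2 : sympForm m F v y ≠ 0
    · exact ⟨y, hy, h2, hyw⟩
    push Not at h1 h2
    exact ⟨x + y, X.add_mem hx hy, by rw [hfs.bilinear.add_right, h2, add_zero]; exact hvx,
      by rw [hfs.bilinear.add_left, h1, zero_add]; exact hyw⟩
  obtain ⟨g, hg, hgv, hgy⟩ := move_step hKS hX hv hz hvz
  obtain ⟨k, hk, hkz, hky⟩ := move_step hKS hX hz hw hzw
  exact ⟨k * g, mul_mem hk hg, by rw [gl_mul_mulVec, hgv, hkz], fun y hy => by rw [gl_mul_mulVec, hgy y hy, hky y hy]⟩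

/-- A linear map with values in the union of two subspaces has values in one of them. -/
theorem image_in_one {ι : Type*} {M : Matrix ι ι F} [Fintype ι] {P A B : Submodule F (ι → F)}
    (h : ∀ s ∈ P, M *ᵥ s ∈ A ∨ M *ᵥ s ∈ B) : (∀ s ∈ P, M *ᵥ s ∈ A) ∨ ∀ s ∈ P, M *ᵥ s ∈ B := by
  by_contra hcon
  push Not at hcon
  obtain ⟨⟨s, hs, hsA⟩, t, ht, htB⟩ := hcon
  have hsB := (h s hs).resolve_left hsA
  have htA := (h t ht).resolve_right htB
  rcases h (s + t) (P.add_mem hs ht) with h1 | h1 <;> rw [Matrix.mulVec_add] at h1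
  · exact hsA ((A.add_mem_iff_left htA).mp h1)
  · exact htB ((B.add_mem_iff_right hsB).mp h1)

/-- The stabiliser of a non-degenerate subspace of less than half dimension is maximal. -/
theorem isMaximal (W : Submodule F (Fin m ⊕ Fin m → F)) (hW0 : W ≠ ⊥) (hW : IsNondegenerateOn (sympForm m F) W)
    (hdim : finrank F W < m) : IsMaximalIn (spGL m F) (subspaceStabilizer W ⊓ spGL m F) := by
  classical
  haveI : Nonempty (Fin m ⊕ Fin m) := ⟨Sum.inl ⟨0, by omega⟩⟩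
  have hfs := sympForm_isSymplectic (m := m) (F := F)
  have hf := reflexForm_of_symplectic hfs
  obtain ⟨W', hW'⟩ : ∃ W', W' = hf.perp W := ⟨_, rfl⟩
  have hd := hf.finrank_perp W
  rw [← hW', Fintype.card_sum, Fintype.card_fin] at hd
  have orth' : ∀ a ∈ W, ∀ b ∈ W', sympForm m F b a = 0 := fun a ha b hb => (hW' ▸ hb : b ∈ hf.perp W) a ha
  have orth : ∀ a ∈ W, ∀ b ∈ W', sympForm m F a b = 0 := fun a ha b hb => hf.eq_zero_swap (orth' a ha b hb)
  have inter : ∀ x ∈ W, x ∈ W' → x = 0 := fun x hx hx' => by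
    by_contra h0
    obtain ⟨-, ⟨z, hz, hne⟩⟩ := hW x hx h0
    exact hne (orth' z hz x hx')
  have htop : W ⊔ W' = ⊤ := by
    refine Submodule.eq_top_of_finrank_eq ?_
    have h1 := Submodule.finrank_sup_add_finrank_inf_eq W W'
    rw [show W ⊓ W' = ⊥ from (Submodule.eq_bot_iff _).mpr fun x hx => inter x hx.1 hx.2, finrank_bot] at h1
    rw [Module.finrank_fintype_fun_eq_card, Fintype.card_sum, Fintype.card_fin]
    omega
  have dec : ∀ x, ∃ a ∈ W, ∃ b ∈ W', x = a + b := fun x => by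
    obtain ⟨a, ha, b, hb, e⟩ := Submodule.mem_sup.mp (htop ▸ Submodule.mem_top : x ∈ W ⊔ W')
    exact ⟨a, ha, b, hb, e.symm⟩
  have hW'nd : IsNondegenerateOn (sympForm m F) W' := fun b hb hb0 => by
    obtain ⟨-, ⟨x, hne⟩⟩ := hfs.nondegenerate b hb0
    obtain ⟨a, ha, b', hb', rfl⟩ := dec x
    rw [hfs.bilinear.add_right, orth' a ha b hb, zero_add] at hne
    exact ⟨⟨b', hb', fun e => hne (hf.eq_zero_swap e)⟩, ⟨b', hb', hne⟩⟩
  obtain ⟨a₀, ha₀, ha₀0⟩ := Submodule.exists_mem_ne_zero_of_ne_bot hW0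
  obtain ⟨b₀, hb₀, hb₀0⟩ := Submodule.exists_mem_ne_zero_of_ne_bot (p := W') fun e => by
    rw [e, finrank_bot] at hd; omega
  refine ⟨lt_of_le_of_ne inf_le_right fun e => ?_, fun K hK hKS => or_iff_not_imp_left.mpr fun hne =>
    le_antisymm hKS ?_⟩
  · obtain ⟨-, ⟨x, hx, hax⟩⟩ := hW a₀ ha₀ ha₀0
    obtain ⟨t, htS, ht⟩ := exists_sp_transvection (a₀ + b₀) (1 : F)
    have h1 := mem_subspaceStabilizer_iff.mp (inf_eq_right.mp e htS) x hx
    rw [ht, W.add_mem_iff_right hx, hfs.bilinear.add_right, orth x hx b₀ hb₀, add_zero,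
      W.smul_mem_iff (by rw [one_mul]; exact fun e => hax (hf.eq_zero_swap e)), W.add_mem_iff_right ha₀] at h1
    exact hb₀0 (inter b₀ h1 hb₀)
  have hHW : ∀ v ∈ W, Has K v := fun v hv c t ht => by
    obtain ⟨t', ht'S, ht'⟩ := exists_sp_transvection v c
    obtain rfl : t = t' := gl_ext_mulVec fun x => by rw [ht, ht']
    exact hK ⟨mem_subspaceStabilizer_iff.mpr fun w hw => by rw [ht]; exact W.add_mem hw (W.smul_mem _ hv), ht'S⟩
  have hHW' : ∀ v ∈ W', Has K v := fun v hv c t ht => by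
    obtain ⟨t', ht'S, ht'⟩ := exists_sp_transvection v c
    obtain rfl : t = t' := gl_ext_mulVec fun x => by rw [ht, ht']
    exact hK ⟨mem_subspaceStabilizer_iff.mpr fun w hw => by
      rw [ht, orth w hw v hv, mul_zero, zero_smul, add_zero]; exact hw, ht'S⟩
  obtain ⟨g, hg, hgn⟩ : ∃ g ∈ K, g ∉ subspaceStabilizer W := by
    by_contra hcon
    push Not at hcon
    exact hne (le_antisymm (le_inf hcon hKS) hK)
  -- a centre outside both parts
  obtain ⟨u, hu, huW, huW'⟩ : ∃ u, Has K u ∧ u ∉ W ∧ u ∉ W' := by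
    by_contra hcon
    push Not at hcon
    have hw : ∀ s ∈ W, (g : Matrix (Fin m ⊕ Fin m) (Fin m ⊕ Fin m) F) *ᵥ s ∈ W ∨
        (g : Matrix (Fin m ⊕ Fin m) (Fin m ⊕ Fin m) F) *ᵥ s ∈ W' := fun s hs =>
      or_iff_not_imp_left.mpr (hcon _ (has_map hKS hg (hHW s hs)))
    have hw' : ∀ s ∈ W', (g : Matrix (Fin m ⊕ Fin m) (Fin m ⊕ Fin m) F) *ᵥ s ∈ W ∨
        (g : Matrix (Fin m ⊕ Fin m) (Fin m ⊕ Fin m) F) *ᵥ s ∈ W' := fun s hs =>
      or_iff_not_imp_left.mpr (hcon _ (has_map hKS hg (hHW' s hs)))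
    rcases image_in_one hw with h1 | h1
    · exact hgn (mem_subspaceStabilizer_iff.mpr h1)
    let φ : (Fin m ⊕ Fin m → F) →ₗ[F] (Fin m ⊕ Fin m → F) :=
      Matrix.mulVecLin (g : Matrix (Fin m ⊕ Fin m) (Fin m ⊕ Fin m) F)
    have he := (Submodule.equivMapOfInjective φ (gl_mulVec_injective g) W').finrank_eq
    rcases image_in_one hw' with h2 | h2
    · have := Submodule.finrank_mono (show W'.map φ ≤ W from Submodule.map_le_iff_le_comap.mpr h2)
      omega
    · have h3 : W'.map φ = W' := Submodule.eq_of_le_of_finrank_eq (Submodule.map_le_iff_le_comap.mpr h2) he.symm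
      obtain ⟨s, hs, e⟩ := Submodule.mem_map.mp (h3.symm ▸ h1 a₀ ha₀ : φ a₀ ∈ W'.map φ)
      exact ha₀0 (inter a₀ ha₀ (gl_mulVec_injective g e ▸ hs))
  obtain ⟨a, ha, b, hb, rfl⟩ := dec u
  have ha0 : a ≠ 0 := fun e => huW' (by rw [e, zero_add]; exact hb)
  have hb0 : b ≠ 0 := fun e => huW (by rw [e, add_zero]; exact ha)
  refine SpOver.spGL_le fun x c t ht => ?_
  obtain ⟨a', ha', b', hb', rfl⟩ := dec x
  by_cases ha'0 : a' = 0
  · exact hHW' _ (by rw [ha'0, zero_add]; exact hb') c t ht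
  by_cases hb'0 : b' = 0
  · exact hHW _ (by rw [hb'0, add_zero]; exact ha') c t ht
  obtain ⟨g₁, hg₁, hg₁a, hg₁f⟩ := move hKS hHW hW ha ha' ha0 ha'0
  obtain ⟨g₂, hg₂, hg₂b, hg₂f⟩ := move hKS hHW' hW'nd hb hb' hb0 hb'0
  refine (?_ : Has K (a' + b')) c t ht
  have := has_map hKS (mul_mem hg₂ hg₁) hu
  rwa [gl_mul_mulVec, Matrix.mulVec_add, hg₁a, hg₁f b fun w hw => orth' w hw b hb, Matrix.mulVec_add, hg₂b,
    hg₂f a' fun w hw => orth a' ha' w hw] at this

end Cfsg.Agent.Classical.SpSplit
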