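/-
The items common to the lists of maximal geometric subgroups of symplectic groups.
-/
import Cfsg.Agent.Lib.Classical.SpSplitMax
import Cfsg.Agent.Lib.Classical.RadicalForm
import Cfsg.Agent.Lib.Classical.SpDecompMaximal
import Cfsg.Agent.Lib.Classical.TSPairMaximal
import Cfsg.Agent.Lib.Classical.FieldExt.Symp.Matrix
import Cfsg.Agent.Lib.Classical.UInSpMaximal
import Cfsg.Agent.Lib.Classical.TensorMax.SpO.SpOFinal
import Cfsg.Agent.Lib.Classical.SpSubfieldMaximal

set_option autoImplicit false
set_option linter.unusedSectionVars false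

namespace Cfsg.Agent.Classical.SpList

open Matrix Cfsg.Geo
open Cfsg.Agent.Classical

variable {m : ℕ} {F : Type*} [Field F] [Fintype F]

/-- Stabilisers of totally isotropic subspaces. -/
theorem parabolic (hm : 0 < m) (W : Submodule F (Fin m ⊕ Fin m → F)) (hW0 : W ≠ ⊥)
    (hW : IsTotallySingularFor (sympForm m F) W) :
    IsMaximalIn (spGL m F) (subspaceStabilizer W ⊓ spGL m F) := by
  classical
  haveI : Nonempty (Fin m ⊕ Fin m) := ⟨Sum.inl ⟨0, hm⟩⟩
  have hs := sympForm_isSymplectic (m := m) (F := F)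
  refine Radical.isMaximal_form (G := spGL m F) (σ := RingEquiv.refl F) (ε := -1)
    (reflexForm_of_symplectic hs) (fun g hg x y => hg x y) (fun g _ hg x y => hg x y)
    (fun v => ⟨0, by rw [mul_zero, map_zero, add_zero, hs.alternating v]⟩)
    ⟨1, one_ne_zero, by simp⟩ (fun K hK => SpOver.spGL_le fun v c g hg => ?_) hW0 hW
  by_cases hv0 : v = 0
  · convert one_mem K
    refine gl_ext_mulVec fun x => ?_
    rw [hg x, hv0, Units.val_one, Matrix.one_mulVec, smul_zero, add_zero]
  · exact hK v c (hs.alternating v) hv0 (by simp) g hg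

/-- Orthogonal groups in even characteristic. -/
theorem orthogonal (hm : 2 ≤ m) (heven : ¬ Odd (Fintype.card F)) (Q : (Fin m ⊕ Fin m → F) → F)
    (hQ : IsNondegenerateQuadraticForm Q) (hpol : ∀ u v, QuadraticMap.polar Q u v = sympForm m F u v) :
    IsMaximalIn (spGL m F) (quadSimilarityGroup Q ⊓ spGL m F) := by
  obtain ⟨Qf, rfl, hQf⟩ := ONotMax.exists_qform hQ
  have h2 : (2 : F) = 0 := by
    by_contra h
    exact heven ((Nat.odd_iff).mpr (FiniteField.odd_card_of_char_ne_two fun hc => h (by
      haveI := ringChar.of_eq hc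
      exact CharTwo.two_eq_zero)))
  exact SpOver.orth_maximal hm h2 hQf hQ hpol

end Cfsg.Agent.Classical.SpList
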