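/-
Special rank one pairs with abelian unipotent subgroups: the elements swapping them and the roots
they give.
-/
import Mathlib
import Cfsg.Prelude.Def_RootSubgroups
import Cfsg.Agent.Lib.Classical.RankOneAction

set_option autoImplicit false

namespace Cfsg.Agent.Classical.RankOne

variable {G : Type*} [Group G]

/-- The hypotheses: a special rank one pair of abelian groups. -/
structure Sp (A B : Subgroup G) : Prop where
  pair : Cfsg.IsRankOnePair A B
  commA : IsMulCommutative A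
  commB : IsMulCommutative B
  special : ∀ a ∈ A, a ≠ 1 → ∀ b ∈ B, b ≠ 1 → Cfsg.conjBy A b⁻¹ = Cfsg.conjBy B a⁻¹ →
    b⁻¹ * a * b = a⁻¹ * b⁻¹ * a

/-- `b` is the element of `B` belonging to `a`. -/
structure Rel (A B : Subgroup G) (a b : G) : Prop where
  memA : a ∈ A
  memB : b ∈ B
  ne : a ≠ 1
  ne' : b ≠ 1
  eq : Cfsg.conjBy A b⁻¹ = Cfsg.conjBy B a⁻¹

/-- The element interchanging `A` and `B`. -/
def mu (a b : G) : G := a * b⁻¹ * a

variable {A B : Subgroup G}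

theorem Sp.symm (h : Sp A B) : Sp B A := by
  refine ⟨Cfsg.RankOnePair_symm h.pair, h.commB, h.commA, fun b hb hb1 a ha ha1 he => ?_⟩
  have := congrArg (·⁻¹) (h.special a ha ha1 b hb hb1 he.symm)
  simp only [mul_inv_rev, inv_inv] at this
  rw [mul_assoc, mul_assoc]
  exact this.symm

theorem Rel.symm {a b : G} (h : Rel A B a b) : Rel B A b a := ⟨h.memB, h.memA, h.ne', h.ne, h.eq.symm⟩

theorem Sp.relation (h : Sp A B) {a b : G} (r : Rel A B a b) : mu a b = b⁻¹ * a * b⁻¹ := by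
  have e := h.special a r.memA r.ne b r.memB r.ne' r.eq
  calc mu a b = a * (b⁻¹ * a * b) * b⁻¹ := by rw [mu]; group
    _ = _ := by rw [e]; group

theorem Rel.conj_B {a b : G} (r : Rel A B a b) : Cfsg.conjBy B a⁻¹ = Cfsg.conjBy A b⁻¹ := r.eq.symm

theorem mu_conj_A {a b : G} (r : Rel A B a b) : Cfsg.conjBy A (mu a b) = B := by
  rw [mu, conjBy_mul, conjBy_of_mem r.memA, conjBy_mul, r.eq, conjBy_cancel']

theorem Sp.mu_conj_self (h : Sp A B) {a b : G} (r : Rel A B a b) : mu a b * a * (mu a b)⁻¹ = b⁻¹ := by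
  have e := h.special a r.memA r.ne b r.memB r.ne' r.eq
  calc mu a b * a * (mu a b)⁻¹ = a * (b⁻¹ * a * b) * a⁻¹ := by rw [mu]; group
    _ = _ := by rw [e]; group

theorem Sp.mu_conj_inv (h : Sp A B) {a b : G} (r : Rel A B a b) :
    mu a b * b⁻¹ * (mu a b)⁻¹ = a := by
  calc mu a b * b⁻¹ * (mu a b)⁻¹ = a * (b⁻¹ * a * b⁻¹) * (mu a b)⁻¹ := by rw [mu]; group
    _ = _ := by rw [← h.relation r, mul_inv_cancel_right]

theorem Sp.mu_conj_B (h : Sp A B) {a b : G} (r : Rel A B a b) : Cfsg.conjBy B (mu a b) = A := by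
  have hu : Cfsg.conjBy B (mu a b) ∈ Cfsg.unipotentSubgroups A B :=
    conj_mem' (right_mem h.pair) (mul_mem (mul_mem (Subgroup.mem_sup_left r.memA)
      (Subgroup.mem_sup_right (inv_mem r.memB))) (Subgroup.mem_sup_left r.memA))
  have ha : a ∈ Cfsg.conjBy B (mu a b) := ⟨b⁻¹, inv_mem r.memB, h.mu_conj_inv r⟩
  exact fix_only h.pair left_mem hu r.memA r.ne (conjBy_of_mem ha)

theorem Sp.rel_inv (h : Sp A B) {a b : G} (r : Rel A B a b) : Rel A B a⁻¹ b⁻¹ := by
  refine ⟨inv_mem r.memA, inv_mem r.memB, inv_ne_one.2 r.ne, inv_ne_one.2 r.ne', ?_⟩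
  have e := h.mu_conj_B r
  rw [h.relation r, conjBy_mul, conjBy_of_mem (inv_mem r.memB), conjBy_mul, conjBy_eq_iff, inv_inv] at e
  rw [inv_inv, inv_inv]
  exact e.symm

theorem Sp.exists_right (h : Sp A B) {a : G} (ha : a ∈ A) (ha1 : a ≠ 1) : ∃ b, Rel A B a b := by
  obtain ⟨b, hb, hb1, e⟩ := h.pair.cond_left a ha ha1
  exact ⟨b, ha, hb, ha1, hb1, e⟩

theorem Sp.exists_left (h : Sp A B) {b : G} (hb : b ∈ B) (hb1 : b ≠ 1) : ∃ a, Rel A B a b := by
  obtain ⟨a, r⟩ := h.symm.exists_right hb hb1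
  exact ⟨a, r.symm⟩

theorem Sp.unique_right (h : Sp A B) {a b b' : G} (r : Rel A B a b) (r' : Rel A B a b') : b = b' := by
  have e : Cfsg.conjBy A b⁻¹ = Cfsg.conjBy A b'⁻¹ := r.eq.trans r'.eq.symm
  have e2 : Cfsg.conjBy A (b' * b⁻¹) = A := by rw [conjBy_mul, e, conjBy_cancel']
  exact (mul_inv_eq_one.1 (fix_left h.pair (mul_mem r'.memB (inv_mem r.memB)) e2)).symm

theorem Sp.unique_left (h : Sp A B) {a a' b : G} (r : Rel A B a b) (r' : Rel A B a' b) : a = a' :=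
  h.symm.unique_right r.symm r'.symm

theorem comm_A (h : Sp A B) {x y : G} (hx : x ∈ A) (hy : y ∈ A) : x * y = y * x :=
  commute_of_bracket_bot (commutative_bracket h.commA) hx hy

theorem Sp.pow_conj (h : Sp A B) {a b : G} (r : Rel A B a b) (k : ℕ) :
    mu a b * a ^ k * (mu a b)⁻¹ = (b ^ k)⁻¹ := by
  rw [← conj_pow, h.mu_conj_self r, inv_pow]

theorem Sp.pow_eq_one_iff (h : Sp A B) {a b : G} (r : Rel A B a b) (k : ℕ) : a ^ k = 1 ↔ b ^ k = 1 := by
  rw [← inv_eq_one (a := b ^ k), ← h.pow_conj r k, mul_inv_eq_one, mul_eq_left]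

/-- The addition formula along the powers of one element. -/
theorem Sp.step (h : Sp A B) {a b u v : G} {k : ℕ} (r : Rel A B a b) (ru : Rel A B u (b ^ k))
    (rv : Rel A B (a ^ (k + 1)) v) : Rel A B (a * u) (b * v⁻¹) := by
  have e1 : Cfsg.conjBy (Cfsg.conjBy B (a ^ k)) (mu a b) = Cfsg.conjBy B u⁻¹ := by
    rw [← conjBy_mul, show mu a b * a ^ k = (b ^ k)⁻¹ * mu a b by
      rw [← h.pow_conj r k, inv_mul_cancel_right], conjBy_mul, h.mu_conj_B r, ru.eq]
  have e2 : Cfsg.conjBy (Cfsg.conjBy B (a ^ k)) (mu a b) = Cfsg.conjBy A (a * b⁻¹ * v) := by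
    have ev : Cfsg.conjBy B (a ^ (k + 1)) = Cfsg.conjBy A v := by
      have := (h.rel_inv rv).eq
      rwa [inv_inv, inv_inv, eq_comm] at this
    rw [← conjBy_mul, show mu a b * a ^ k = a * b⁻¹ * a ^ (k + 1) by rw [mu, pow_succ']; group,
      conjBy_mul, ev, ← conjBy_mul]
  have hcomm : b⁻¹ * v = (b * v⁻¹)⁻¹ := by
    rw [mul_inv_rev, inv_inv]
    exact comm_A h.symm (inv_mem r.memB) rv.memB
  have hcomm' : a⁻¹ * u⁻¹ = (a * u)⁻¹ := by
    rw [mul_inv_rev]
    exact comm_A h (inv_mem r.memA) (inv_mem ru.memA)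
  have key : Cfsg.conjBy A (b * v⁻¹)⁻¹ = Cfsg.conjBy B (a * u)⁻¹ := by
    rw [← hcomm, ← hcomm', conjBy_mul B a⁻¹ u⁻¹, ← e1, e2, ← conjBy_mul,
      show a⁻¹ * (a * b⁻¹ * v) = b⁻¹ * v by group]
  refine ⟨mul_mem r.memA ru.memA, mul_mem r.memB (inv_mem rv.memB), fun h0 => ?_, fun h0 => ?_, key⟩
  · rw [h0, inv_one, conjBy_one] at key
    have := congrArg (Cfsg.conjBy · (b * v⁻¹)) key
    rw [conjBy_cancel', conjBy_of_mem (mul_mem r.memB (inv_mem rv.memB))] at this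
    exact h.pair.ne this
  · rw [h0, inv_one, conjBy_one] at key
    have := congrArg (Cfsg.conjBy · (a * u)) key
    rw [conjBy_cancel', conjBy_of_mem (mul_mem r.memA ru.memA)] at this
    exact h.pair.ne this

/-- The element belonging to a power is a root of the element belonging to `a`. -/
theorem Sp.pow_root (k : ℕ) (hk : 1 ≤ k) : ∀ {A B : Subgroup G}, Sp A B → ∀ {a b v : G},
    Rel A B a b → a ^ k ≠ 1 → Rel A B (a ^ k) v → v ^ k = b := by
  induction k, hk using Nat.le_induction with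
  | base =>
    intro A B h a b v r _ rv
    rw [pow_one] at rv ⊢
    exact h.unique_right rv r
  | succ k hk ih =>
    intro A B h a b v r hne rv
    by_cases hak : a ^ k = 1
    · rw [pow_succ, hak, one_mul] at rv
      rw [h.unique_right rv r, pow_succ, (h.pow_eq_one_iff r k).1 hak, one_mul]
    have hbk : b ^ k ≠ 1 := fun e => hak ((h.pow_eq_one_iff r k).2 e)
    obtain ⟨u, ru⟩ := h.exists_left (pow_mem r.memB k) hbk
    have hu : u ^ k = a := ih h.symm r.symm hbk ru.symm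
    have hs := h.step r ru rv
    rw [← hu, ← pow_succ] at hs
    have hpow : (u ^ (k + 1)) ^ k = a ^ (k + 1) := by rw [← pow_mul, mul_comm, pow_mul, hu]
    have := ih h hs (hpow ▸ hne) (hpow.symm ▸ rv)
    rw [pow_succ, this, inv_mul_cancel_right]

theorem Sp.exists_root (h : Sp A B) {a : G} (ha : a ∈ A) {k : ℕ} (hk : 1 ≤ k) (hne : a ^ k ≠ 1) :
    ∃ c ∈ A, c ^ k = a := by
  obtain ⟨b, r⟩ := h.exists_right ha (fun e => hne (by rw [e, one_pow]))
  have hbk : b ^ k ≠ 1 := fun e => hne ((h.pow_eq_one_iff r k).2 e)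
  obtain ⟨u, ru⟩ := h.exists_left (pow_mem r.memB k) hbk
  exact ⟨u, ru.memA, Sp.pow_root k hk h.symm r.symm hbk ru.symm⟩

theorem Sp.eq_of_pow_eq (h : Sp A B) {a a' : G} (ha : a ∈ A) (ha' : a' ∈ A) {k : ℕ} (hk : 1 ≤ k)
    (hne : a ^ k ≠ 1) (he : a ^ k = a' ^ k) : a = a' := by
  obtain ⟨b, r⟩ := h.exists_right ha (fun e => hne (by rw [e, one_pow]))
  obtain ⟨b', r'⟩ := h.exists_right ha' (fun e => hne (by rw [he, e, one_pow]))
  obtain ⟨v, rv⟩ := h.exists_right (pow_mem ha k) hne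
  have e1 := Sp.pow_root k hk h r hne rv
  have e2 := Sp.pow_root k hk h r' (he ▸ hne) (he ▸ rv)
  exact h.unique_left r ((e2.symm.trans e1) ▸ r')

theorem Sp.prime_order (h : Sp A B) {a : G} (ha : a ∈ A) (ha1 : a ≠ 1) (hfin : IsOfFinOrder a) :
    (orderOf a).Prime := by
  by_contra hp
  have h2 : 2 ≤ orderOf a := by
    have := hfin.orderOf_pos
    have h1 : orderOf a ≠ 1 := fun e => ha1 (orderOf_eq_one_iff.1 e)
    omega
  obtain ⟨k, hk, hk2, hklt⟩ := Nat.exists_dvd_of_not_prime2 h2 hp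
  have hne : a ^ k ≠ 1 := fun e => absurd (Nat.le_of_dvd (by omega) (orderOf_dvd_of_pow_eq_one e)) (by omega)
  obtain ⟨b, r⟩ := h.exists_right ha ha1
  have hbk : b ^ k ≠ 1 := fun e => hne ((h.pow_eq_one_iff r k).2 e)
  obtain ⟨u, ru⟩ := h.exists_left (pow_mem r.memB k) hbk
  have hu : u ^ k = a := Sp.pow_root k (by omega) h.symm r.symm hbk ru.symm
  -- the order of `u` divides `orderOf a / k`
  obtain ⟨l, hl⟩ := hk
  have hul : u ^ l = 1 := by
    rw [h.pow_eq_one_iff ru, ← pow_mul, ← hl, ← h.pow_eq_one_iff r]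
    exact pow_orderOf_eq_one a
  have hal : a ^ l = 1 := by rw [← hu, ← pow_mul, mul_comm, pow_mul, hul, one_pow]
  have hlpos : 0 < l := by
    rcases Nat.eq_zero_or_pos l with h0 | h0
    · subst h0; omega
    · exact h0
  have := Nat.le_of_dvd hlpos (orderOf_dvd_of_pow_eq_one hal)
  nlinarith

end Cfsg.Agent.Classical.RankOne
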