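import Cfsg.Prelude.Def_Classical
import Mathlib

/-!
# Element orders of the projective symplectic group in dimension four over three elements
-/

set_option autoImplicit false
set_option linter.unusedSectionVars false

namespace Cfsg.Agent.Classical.SpectrumPSpFour

open Matrix Polynomial

/-- The set of element orders in question. -/
def good : Set ℕ := {d | d ∣ 5 ∨ d ∣ 9 ∨ d ∣ 12}

/-- A finite group in which every element has order dividing 5, 9 or 12 and which has
elements of these three orders has exactly this spectrum. -/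
theorem range_orderOf {H : Type*} [Group H] [Finite H]
    (hall : ∀ x : H, x ^ 5 = 1 ∨ x ^ 9 = 1 ∨ x ^ 12 = 1)
    (h5 : ∃ x : H, orderOf x = 5) (h9 : ∃ x : H, orderOf x = 9) (h12 : ∃ x : H, orderOf x = 12) :
    Set.range (orderOf : H → ℕ) = good := by
  ext d
  constructor
  · rintro ⟨x, rfl⟩
    rcases hall x with h | h | h
    · exact Or.inl (orderOf_dvd_of_pow_eq_one h)
    · exact Or.inr (Or.inl (orderOf_dvd_of_pow_eq_one h))
    · exact Or.inr (Or.inr (orderOf_dvd_of_pow_eq_one h))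
  · have key : ∀ n : ℕ, n ≠ 0 → d ∣ n → (∃ x : H, orderOf x = n) → d ∈ Set.range (orderOf : H → ℕ) := by
      rintro n hn hd ⟨x, hx⟩
      refine ⟨x ^ (n / d), ?_⟩
      rw [orderOf_pow' x (Nat.div_ne_zero_iff.2 ⟨fun e => hn (by simpa [e] using hd),
        Nat.le_of_dvd (Nat.pos_of_ne_zero hn) hd⟩), hx, Nat.gcd_eq_right (Nat.div_dvd_of_dvd hd),
        Nat.div_div_self hd hn]
    rintro (h | h | h)
    exacts [key 5 (by norm_num) h h5, key 9 (by norm_num) h h9, key 12 (by norm_num) h h12]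

section
variable {F : Type*} [Field F] [Fintype F]

theorem three_eq_zero (hF : Fintype.card F = 3) : (3 : F) = 0 := by
  have h := FiniteField.cast_card_eq_zero F
  rw [hF] at h
  exact_mod_cast h

theorem cases_three (hF : Fintype.card F = 3) (x : F) : x = 0 ∨ x = 1 ∨ x = -1 := by
  have h : x ^ 3 = x := by
    conv_rhs => rw [← FiniteField.pow_card x, hF]
  have h' : x * ((x - 1) * (x + 1)) = 0 := by linear_combination h
  rcases mul_eq_zero.1 h' with h0 | h0
  · exact Or.inl h0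
  · rcases mul_eq_zero.1 h0 with h1 | h1
    · exact Or.inr (Or.inl (sub_eq_zero.1 h1))
    · exact Or.inr (Or.inr (eq_neg_of_add_eq_zero_left h1))

/-- The characteristic polynomial of a symplectic matrix is self-reciprocal. -/
theorem charpoly_reverse {m : ℕ} (g : Matrix.symplecticGroup (Fin m) F) :
    g.1.charpoly.reverse = g.1.charpoly := by
  have hu : IsUnit g.1 := (Matrix.isUnit_iff_isUnit_det _).2 (SymplecticGroup.symplectic_det g.2)
  have h1 : (g.1)⁻¹.charpoly = g.1.charpoly := by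
    rw [← SymplecticGroup.coe_inv', SymplecticGroup.coe_inv]
    let U : (Matrix (Fin m ⊕ Fin m) (Fin m ⊕ Fin m) F)ˣ :=
      ⟨-Matrix.J (Fin m) F, Matrix.J (Fin m) F, by rw [neg_mul, Matrix.J_squared, neg_neg],
        by rw [mul_neg, Matrix.J_squared, neg_neg]⟩
    have := Matrix.charpoly_units_conj U (g.1)ᵀ
    rw [Matrix.charpoly_transpose] at this
    rw [← this, ← Matrix.coe_units_inv]
    rfl
  rw [Matrix.charpoly_inv _ hu, SymplecticGroup.det_eq_one g.2] at h1
  have hn : ((-1 : F[X]) ^ Fintype.card (Fin m ⊕ Fin m)) = 1 := by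
    rw [Fintype.card_sum, Fintype.card_fin, ← two_mul, pow_mul, neg_one_sq, one_pow]
  rw [hn, Ring.inverse_one, map_one, one_mul, one_mul] at h1
  rw [Matrix.reverse_charpoly]
  exact h1

theorem charpoly_four (g : Matrix.symplecticGroup (Fin 2) F) :
    ∃ a b : F, g.1.charpoly = X ^ 4 + C a * X ^ 3 + C b * X ^ 2 + C a * X + 1 := by
  have hd : g.1.charpoly.natDegree = 4 := by simp [Matrix.charpoly_natDegree_eq_dim]
  have hm := Matrix.charpoly_monic g.1
  have hr := charpoly_reverse g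
  have h4 : g.1.charpoly.coeff 4 = 1 := by
    have := hm.coeff_natDegree
    rwa [hd] at this
  have hc : ∀ i, i ≤ 4 → g.1.charpoly.coeff i = g.1.charpoly.coeff (4 - i) := by
    intro i hi
    conv_lhs => rw [← hr]
    rw [Polynomial.coeff_reverse, hd, Polynomial.revAt_le hi]
  refine ⟨g.1.charpoly.coeff 3, g.1.charpoly.coeff 2, ?_⟩
  conv_lhs => rw [hm.as_sum, hd]
  simp only [Finset.sum_range_succ, Finset.sum_range_zero]
  rw [hc 0 (by norm_num), hc 1 (by norm_num)]
  simp only [Nat.sub_zero, h4, Nat.reduceSub]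
  simp only [map_one, pow_zero, pow_one]
  ring

/-- Every element has a power in the centre with exponent 5, 9 or 12. -/
theorem pow_mem_center (hF : Fintype.card F = 3) (g : Matrix.symplecticGroup (Fin 2) F) :
    g ^ 5 ∈ Subgroup.center _ ∨ g ^ 9 ∈ Subgroup.center _ ∨ g ^ 12 ∈ Subgroup.center _ := by
  obtain ⟨a, b, hab⟩ := charpoly_four g
  have h0 := Matrix.aeval_self_charpoly g.1
  have h3 : (3 : F[X]) = 0 := by
    have := congrArg (C : F → F[X]) (three_eq_zero hF)
    rwa [map_ofNat, map_zero] at this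
  have key : ∀ (k : ℕ) (c : F) (Q : F[X]), (c = 1 ∨ c = -1) →
      X ^ k - C c = g.1.charpoly * Q → g ^ k ∈ Subgroup.center _ := by
    intro k c Q hc he
    have h1 := congrArg (Polynomial.aeval g.1) he
    rw [map_mul, h0, zero_mul, map_sub, map_pow, Polynomial.aeval_X, Polynomial.aeval_C,
      sub_eq_zero] at h1
    rw [Subgroup.mem_center_iff]
    intro x
    apply Subtype.ext
    simp only [Submonoid.coe_mul, SubmonoidClass.coe_pow]
    rw [h1]
    exact (Algebra.commutes c x.1).symm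
  rw [hab] at key
  rcases cases_three hF a with rfl | rfl | rfl <;> rcases cases_three hF b with rfl | rfl | rfl
  · refine Or.inr (Or.inr (key 12 (-1) (X ^ 8 - X ^ 4 + 1) (Or.inr rfl) ?_))
    simp only [map_zero, map_one, map_neg]; ring
  · refine Or.inr (Or.inr (key 12 1 (X ^ 8 - X ^ 6 + X ^ 2 - 1) (Or.inl rfl) ?_))
    simp only [map_zero, map_one]; ring
  · refine Or.inr (Or.inr (key 12 1 (X ^ 8 + X ^ 6 - X ^ 2 - 1) (Or.inl rfl) ?_))
    simp only [map_zero, map_one, map_neg]; ring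
  · refine Or.inr (Or.inl (key 9 (-1) (X ^ 5 - X ^ 4 + X ^ 3 + X ^ 2 - X + 1) (Or.inr rfl) ?_))
    simp only [map_zero, map_one, map_neg]
    linear_combination (-X ^ 3 - X ^ 6 : F[X]) * h3
  · refine Or.inl (key 5 1 (X - 1) (Or.inl rfl) ?_)
    simp only [map_one]; ring
  · refine Or.inr (Or.inr (key 12 1
      (X ^ 8 - X ^ 7 - X ^ 6 - X ^ 5 + X ^ 3 + X ^ 2 + X - 1) (Or.inl rfl) ?_))
    simp only [map_one, map_neg]
    linear_combination (-X ^ 2 + X ^ 10 : F[X]) * h3
  · refine Or.inr (Or.inl (key 9 1 (X ^ 5 + X ^ 4 + X ^ 3 - X ^ 2 - X - 1) (Or.inl rfl) ?_))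
    simp only [map_zero, map_one, map_neg]
    linear_combination (-X ^ 3 + X ^ 6 : F[X]) * h3
  · refine Or.inl (key 5 (-1) (X + 1) (Or.inr rfl) ?_)
    simp only [map_one, map_neg]; ring
  · refine Or.inr (Or.inr (key 12 1
      (X ^ 8 + X ^ 7 - X ^ 6 + X ^ 5 - X ^ 3 + X ^ 2 - X - 1) (Or.inl rfl) ?_))
    simp only [map_one, map_neg]
    linear_combination (-X ^ 2 + X ^ 10 : F[X]) * h3

end

/-- Matrices over three elements in dimension four. -/
abbrev M4 := Matrix (Fin 2 ⊕ Fin 2) (Fin 2 ⊕ Fin 2) (ZMod 3)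

def w5 : M4 := Matrix.fromBlocks !![0, 2; 1, 2] !![2, 2; 0, 0] !![0, 1; 0, 0] !![0, 0; 1, 0]
def w9 : M4 := Matrix.fromBlocks !![0, 0; 1, 0] !![0, 2; 0, 2] !![0, 1; 0, 0] !![2, 0; 1, 0]
def w12 : M4 := Matrix.fromBlocks !![1, 0; 0, 0] !![1, 0; 0, 1] !![0, 0; 0, 2] !![1, 0; 0, 0]
def nUp : M4 := Matrix.fromBlocks 1 !![1, 0; 0, 0] 0 1
def nDn : M4 := Matrix.fromBlocks 1 0 !![1, 0; 0, 0] 1
def nOff : M4 := Matrix.fromBlocks 1 !![0, 1; 1, 0] 0 1

/-- The defining equation of the symplectic group, as a Boolean test. -/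
def okB (M : M4) : Bool := decide (M * Matrix.J (Fin 2) (ZMod 3) * Mᵀ = Matrix.J (Fin 2) (ZMod 3))

theorem facts :
    (∀ M ∈ [w5, w9, w12, nUp, nDn, nOff], okB M = true) ∧
    w5 ^ 5 = 1 ∧ w5 * nUp ≠ nUp * w5 ∧
    w9 ^ 9 = -1 ∧ w9 ^ 3 * nUp ≠ nUp * w9 ^ 3 ∧
    w12 ^ 12 = 1 ∧ w12 ^ 4 * nDn ≠ nDn * w12 ^ 4 ∧ w12 ^ 6 * nOff ≠ nOff * w12 ^ 6 := by
  refine ⟨?_, ?_, ?_, ?_, ?_, ?_, ?_, ?_⟩
  · simp only [List.forall_mem_cons, List.not_mem_nil, false_implies, implies_true, and_true]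
    refine ⟨?_, ?_, ?_, ?_, ?_, ?_⟩ <;> decide +kernel
  all_goals decide +kernel

theorem psp_spectrum {F : Type*} [Field F] [Fintype F] (hF : Fintype.card F = 3) :
    Set.range (orderOf : Cfsg.PSp 2 F → ℕ) = good := by
  haveI : CharP F 3 := charP_of_card_eq_prime hF
  let f : ZMod 3 →+* F := ZMod.castHom (dvd_refl 3) F
  have hinj : Function.Injective f := ZMod.castHom_injective F
  have hmem : ∀ M ∈ [w5, w9, w12, nUp, nDn, nOff], f.mapMatrix M ∈ Matrix.symplecticGroup (Fin 2) F := by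
    intro M hM
    have := SymplecticGroup.map_mem (SymplecticGroup.mem_iff.2 (of_decide_eq_true (facts.1 M hM))) f
    simpa using this
  let lift : ∀ M ∈ [w5, w9, w12, nUp, nDn, nOff], Matrix.symplecticGroup (Fin 2) F :=
    fun M hM => ⟨f.mapMatrix M, hmem M hM⟩
  have hc1 : ∀ (M : M4) hM (k : ℕ) (s : ZMod 3), M ^ k = s • (1 : M4) →
      ((lift M hM) ^ k : Matrix.symplecticGroup (Fin 2) F) ∈ Subgroup.center _ := by
    intro M hM k s hs
    rw [Subgroup.mem_center_iff]
    intro x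
    apply Subtype.ext
    simp only [Submonoid.coe_mul, SubmonoidClass.coe_pow, lift]
    rw [← map_pow, hs]
    have : f.mapMatrix (s • (1 : M4)) = f s • (1 : Matrix (Fin 2 ⊕ Fin 2) (Fin 2 ⊕ Fin 2) F) := by
      ext i j
      by_cases h : i = j <;> simp [Matrix.one_apply, h]
    rw [this, mul_smul_comm, smul_mul_assoc, mul_one, one_mul]
  have hc2 : ∀ (M : M4) hM (N : M4) (_ : N ∈ [w5, w9, w12, nUp, nDn, nOff]) (k : ℕ),
      M ^ k * N ≠ N * M ^ k →
      ((lift M hM) ^ k : Matrix.symplecticGroup (Fin 2) F) ∉ Subgroup.center _ := by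
    intro M hM N hN k hne hcen
    rw [Subgroup.mem_center_iff] at hcen
    have h := congrArg Subtype.val (hcen (lift N hN))
    simp only [Submonoid.coe_mul, SubmonoidClass.coe_pow, lift] at h
    rw [← map_pow, ← map_mul, ← map_mul] at h
    exact hne (Matrix.map_injective hinj (by simpa [RingHom.mapMatrix_apply] using h)).symm
  have hq : ∀ (g : Matrix.symplecticGroup (Fin 2) F) (k : ℕ),
      ((g : Cfsg.PSp 2 F)) ^ k = 1 ↔ g ^ k ∈ Subgroup.center _ := fun g k => by
    rw [← QuotientGroup.mk_pow, QuotientGroup.eq_one_iff]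
  obtain ⟨-, f5, n5, f9, n9, f12, n12a, n12b⟩ := facts
  refine range_orderOf (fun x => ?_) ⟨(lift w5 (by simp) : Cfsg.PSp 2 F), ?_⟩
    ⟨(lift w9 (by simp) : Cfsg.PSp 2 F), ?_⟩ ⟨(lift w12 (by simp) : Cfsg.PSp 2 F), ?_⟩
  · obtain ⟨g, rfl⟩ := QuotientGroup.mk_surjective x
    simp only [hq]
    exact pow_mem_center hF g
  · haveI : Fact (Nat.Prime 5) := ⟨by norm_num⟩
    refine orderOf_eq_prime ((hq _ _).2 (hc1 w5 (by simp) 5 1 (by rw [one_smul, f5]))) (fun e => ?_)
    exact hc2 w5 (by simp) nUp (by simp) 1 (by rwa [pow_one]) ((hq _ 1).1 (by rwa [pow_one]))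
  · haveI : Fact (Nat.Prime 3) := ⟨by norm_num⟩
    refine orderOf_eq_prime_pow (p := 3) (n := 1) (fun e => ?_)
      ((hq _ _).2 (hc1 w9 (by simp) 9 (-1) (by rw [neg_smul, one_smul]; exact f9)))
    exact hc2 w9 (by simp) nUp (by simp) 3 n9 ((hq _ 3).1 e)
  · have h := orderOf_dvd_of_pow_eq_one ((hq (lift w12 (by simp)) 12).2
      (hc1 w12 (by simp) 12 1 (by rw [one_smul, f12])))
    have h4 : ¬ orderOf (lift w12 (by simp) : Cfsg.PSp 2 F) ∣ 4 := fun e =>
      hc2 w12 (by simp) nDn (by simp) 4 n12a ((hq _ 4).1 (orderOf_dvd_iff_pow_eq_one.1 e))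
    have h6 : ¬ orderOf (lift w12 (by simp) : Cfsg.PSp 2 F) ∣ 6 := fun e =>
      hc2 w12 (by simp) nOff (by simp) 6 n12b ((hq _ 6).1 (orderOf_dvd_iff_pow_eq_one.1 e))
    generalize orderOf (lift w12 (by simp) : Cfsg.PSp 2 F) = n at h h4 h6 ⊢
    have : n ≤ 12 := Nat.le_of_dvd (by norm_num) h
    clear * - h h4 h6 this; revert h h4 h6; interval_cases n <;> decide

end Cfsg.Agent.Classical.SpectrumPSpFour
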