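import Cfsg.Agent.Lib.Classical.SpectrumPSpFour

/-!
# A solvable group with element orders 1, 2, 3, 4, 5, 6, 9, 12

The kernel is a 3-group of class three over the field `F` with 81 elements: two chains of
superdiagonal entries `(a, a³, b⁹)` and `(a⁹, a³, -b)` glued at the corner, so that the cube of an
element is the central element `a³ (a b⁹ - a⁹ b)`.  It is extended by the semilinear group `5 : 4`.
-/

set_option autoImplicit false
set_option linter.unusedSectionVars false

namespace Cfsg.Agent.Classical.SpectrumSolvable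

/-- The 3-group. -/
@[ext]
structure Ker (F : Type) where
  a : F
  b : F
  p : F
  q : F
  r : F
  s : F
  c : F

namespace Ker
variable {F : Type} [Field F]

instance : One (Ker F) := ⟨⟨0, 0, 0, 0, 0, 0, 0⟩⟩

instance : Mul (Ker F) :=
  ⟨fun x y => ⟨x.a + y.a, x.b + y.b, x.p + y.p + x.a * y.a ^ 3, x.q + y.q + x.a ^ 9 * y.a ^ 3,
    x.r + y.r + x.a ^ 3 * y.b ^ 9, x.s + y.s - x.a ^ 3 * y.b,
    x.c + y.c + x.a * y.r + x.a ^ 9 * y.s + x.p * y.b ^ 9 - x.q * y.b⟩⟩

instance : Inv (Ker F) :=
  ⟨fun x => ⟨-x.a, -x.b, -x.p + x.a * x.a ^ 3, -x.q + x.a ^ 9 * x.a ^ 3,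
    -x.r + x.a ^ 3 * x.b ^ 9, -x.s - x.a ^ 3 * x.b,
    -x.c + x.a * x.r + x.a ^ 9 * x.s - (-x.p + x.a * x.a ^ 3) * x.b ^ 9
      + (-x.q + x.a ^ 9 * x.a ^ 3) * x.b⟩⟩

@[simp] theorem one_a : (1 : Ker F).a = 0 := rfl
@[simp] theorem one_b : (1 : Ker F).b = 0 := rfl
@[simp] theorem one_p : (1 : Ker F).p = 0 := rfl
@[simp] theorem one_q : (1 : Ker F).q = 0 := rfl
@[simp] theorem one_r : (1 : Ker F).r = 0 := rfl
@[simp] theorem one_s : (1 : Ker F).s = 0 := rfl
@[simp] theorem one_c : (1 : Ker F).c = 0 := rfl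
@[simp] theorem mul_a (x y : Ker F) : (x * y).a = x.a + y.a := rfl
@[simp] theorem mul_b (x y : Ker F) : (x * y).b = x.b + y.b := rfl
@[simp] theorem mul_p (x y : Ker F) : (x * y).p = x.p + y.p + x.a * y.a ^ 3 := rfl
@[simp] theorem mul_q (x y : Ker F) : (x * y).q = x.q + y.q + x.a ^ 9 * y.a ^ 3 := rfl
@[simp] theorem mul_r (x y : Ker F) : (x * y).r = x.r + y.r + x.a ^ 3 * y.b ^ 9 := rfl
@[simp] theorem mul_s (x y : Ker F) : (x * y).s = x.s + y.s - x.a ^ 3 * y.b := rfl
@[simp] theorem mul_c (x y : Ker F) :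
    (x * y).c = x.c + y.c + x.a * y.r + x.a ^ 9 * y.s + x.p * y.b ^ 9 - x.q * y.b := rfl

theorem add_nine [CharP F 3] (x y : F) : (x + y) ^ 9 = x ^ 9 + y ^ 9 := by
  haveI : Fact (Nat.Prime 3) := ⟨Nat.prime_three⟩
  exact add_pow_char_pow (p := 3) (n := 2) x y

theorem add_three [CharP F 3] (x y : F) : (x + y) ^ 3 = x ^ 3 + y ^ 3 := by
  haveI : Fact (Nat.Prime 3) := ⟨Nat.prime_three⟩
  exact add_pow_char (p := 3) x y

theorem neg_nine (x : F) : (-x) ^ 9 = -x ^ 9 := by ring

theorem neg_three (x : F) : (-x) ^ 3 = -x ^ 3 := by ring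

variable [CharP F 3]

instance : Group (Ker F) :=
  Group.ofLeftAxioms
    (fun x y z => by ext <;> simp [add_nine, add_three] <;> ring)
    (fun x => by ext <;> simp)
    (fun x => by
      ext <;> simp [show ∀ z : Ker F, z⁻¹.a = -z.a from fun _ => rfl,
        show ∀ z : Ker F, z⁻¹.b = -z.b from fun _ => rfl,
        show ∀ z : Ker F, z⁻¹.p = -z.p + z.a * z.a ^ 3 from fun _ => rfl,
        show ∀ z : Ker F, z⁻¹.q = -z.q + z.a ^ 9 * z.a ^ 3 from fun _ => rfl,
        show ∀ z : Ker F, z⁻¹.r = -z.r + z.a ^ 3 * z.b ^ 9 from fun _ => rfl,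
        show ∀ z : Ker F, z⁻¹.s = -z.s - z.a ^ 3 * z.b from fun _ => rfl,
        show ∀ z : Ker F, z⁻¹.c = -z.c + z.a * z.r + z.a ^ 9 * z.s
          - (-z.p + z.a * z.a ^ 3) * z.b ^ 9 + (-z.q + z.a ^ 9 * z.a ^ 3) * z.b from fun _ => rfl,
        neg_nine, neg_three] <;> ring)

instance [Finite F] : Finite (Ker F) :=
  Finite.of_injective (fun x => (x.a, x.b, x.p, x.q, x.r, x.s, x.c))
    (fun x y h => by simp only [Prod.mk.injEq] at h; ext <;> simp [h])

theorem three_zero : (3 : F) = 0 := by exact_mod_cast CharP.cast_eq_zero F 3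

theorem cube (x : Ker F) :
    x ^ 3 = ⟨0, 0, 0, 0, 0, 0, x.a ^ 3 * (x.a * x.b ^ 9 - x.a ^ 9 * x.b)⟩ := by
  have h3 : (3 : F) = 0 := three_zero
  have h9a := add_nine x.a x.a
  have h3a := add_three x.a x.a
  rw [pow_succ, pow_two]
  ext
  · simp; linear_combination x.a * h3
  · simp; linear_combination x.b * h3
  · simp; linear_combination (x.p + x.a ^ 4) * h3
  · simp [add_nine]; linear_combination (x.q + x.a ^ 12) * h3
  · simp [add_three]; linear_combination (x.r + x.a ^ 3 * x.b ^ 9) * h3
  · simp [add_three]; linear_combination (x.s - x.a ^ 3 * x.b) * h3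
  · simp [add_nine]
    linear_combination (x.c + x.a * x.r + x.a ^ 9 * x.s + x.p * x.b ^ 9 - x.q * x.b) * h3

theorem pow_nine (x : Ker F) : x ^ 9 = 1 := by
  rw [show 9 = 3 * 3 from rfl, pow_mul, cube, cube]
  ext <;> simp

theorem cube_eq_one {x : Ker F} (h : x.a * x.b ^ 9 = x.a ^ 9 * x.b) : x ^ 3 = 1 := by
  rw [cube]
  ext <;> simp [h]

/-- The semilinear maps of the kernel. -/
def act (u : F) (i : ℕ) (x : Ker F) : Ker F :=
  ⟨u * iterateFrobenius F 3 i x.a, u * iterateFrobenius F 3 i x.b,
    u ^ 4 * iterateFrobenius F 3 i x.p, u ^ 2 * iterateFrobenius F 3 i x.q,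
    u ^ 2 * iterateFrobenius F 3 i x.r, u ^ 4 * iterateFrobenius F 3 i x.s,
    u ^ 3 * iterateFrobenius F 3 i x.c⟩

theorem act_mul {u : F} (hu : u ^ 5 = 1) (i : ℕ) (x y : Ker F) :
    act u i (x * y) = act u i x * act u i y := by
  ext
  · simp [act, mul_add]
  · simp [act, mul_add]
  · simp [act]; ring
  · simp [act]
    linear_combination (-(u ^ 2 * (u ^ 5 + 1))
      * iterateFrobenius F 3 i x.a ^ 9 * iterateFrobenius F 3 i y.a ^ 3) * hu
  · simp [act]
    linear_combination (-(u ^ 2 * (u ^ 5 + 1))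
      * iterateFrobenius F 3 i x.a ^ 3 * iterateFrobenius F 3 i y.b ^ 9) * hu
  · simp [act]; ring
  · simp [act]
    linear_combination (-(u ^ 3 * (u ^ 5 + 1)) *
      (iterateFrobenius F 3 i x.a ^ 9 * iterateFrobenius F 3 i y.s
        + iterateFrobenius F 3 i x.p * iterateFrobenius F 3 i y.b ^ 9)) * hu

theorem act_act (u v : F) (i j : ℕ) (x : Ker F) :
    act u i (act v j x) = act (u * iterateFrobenius F 3 i v) (i + j) x := by
  ext <;> simp [act, iterateFrobenius_add_apply, mul_pow, mul_assoc]

theorem act_one (x : Ker F) : act (1 : F) 0 x = x := by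
  ext <;> simp [act]

end Ker

open Ker
open scoped commutatorElement

variable {F : Type} [Field F] [CharP F 3] [Fintype F]

theorem frob_four (hF : Fintype.card F = 81) (i : ℕ) (x : F) :
    iterateFrobenius F 3 i x = iterateFrobenius F 3 (i % 4) x := by
  have h4 : ∀ y : F, iterateFrobenius F 3 4 y = y := fun y => by
    rw [iterateFrobenius_def]
    calc y ^ 3 ^ 4 = y ^ Fintype.card F := by rw [hF]; norm_num
      _ = y := FiniteField.pow_card y
  induction i using Nat.strong_induction_on with
  | _ i ih =>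
    rcases Nat.lt_or_ge i 4 with h | h
    · rw [Nat.mod_eq_of_lt h]
    · rw [show i = 4 + (i - 4) by omega, iterateFrobenius_add_apply, h4, ih (i - 4) (by omega)]
      congr 2
      omega

theorem act_mod (hF : Fintype.card F = 81) (u : F) (i : ℕ) (x : Ker F) :
    act u i x = act u (i % 4) x := by
  ext <;> simp [act, ← frob_four hF]

variable (F)

/-- The group `5 : 4` of semilinear maps. -/
def top : Subgroup (MulAut (Ker F)) where
  carrier := {θ | ∃ (u : F) (i : ℕ), u ^ 5 = 1 ∧ ∀ x, θ x = act u i x}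
  mul_mem' := by
    rintro θ η ⟨u, i, hu, h⟩ ⟨v, j, hv, h'⟩
    refine ⟨u * iterateFrobenius F 3 i v, i + j, ?_, fun x => ?_⟩
    · rw [mul_pow, ← map_pow, hv, map_one, hu, mul_one]
    · rw [MulAut.mul_apply, h', h, act_act]
  one_mem' := ⟨1, 0, one_pow _, fun x => (act_one x).symm⟩
  inv_mem' := by
    intro θ hθ
    haveI : Finite (MulAut (Ker F)) := Finite.of_injective (fun e => (e : Ker F → Ker F)) DFunLike.coe_injective
    have hpow : ∀ n : ℕ, ∃ (u : F) (i : ℕ), u ^ 5 = 1 ∧ ∀ x, (θ ^ n) x = act u i x := by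
      intro n
      induction n with
      | zero => exact ⟨1, 0, one_pow _, fun x => by rw [pow_zero, act_one]; rfl⟩
      | succ n ih =>
        obtain ⟨u, i, hu, h⟩ := ih
        obtain ⟨v, j, hv, h'⟩ := hθ
        refine ⟨u * iterateFrobenius F 3 i v, i + j, ?_, fun x => ?_⟩
        · rw [mul_pow, ← map_pow, hv, map_one, hu, mul_one]
        · rw [pow_succ, MulAut.mul_apply, h', h, act_act]
    obtain ⟨u, i, hu, h⟩ := hpow (orderOf θ - 1)
    have he : θ⁻¹ = θ ^ (orderOf θ - 1) := by
      apply inv_eq_of_mul_eq_one_right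
      rw [← pow_succ', Nat.sub_add_cancel (orderOf_pos θ), pow_orderOf_eq_one]
    exact ⟨u, i, hu, fun x => by rw [he]; exact h x⟩

/-- The group. -/
abbrev Grp : Type := Ker F ⋊[(top F).subtype] (top F)

variable {F}

instance : Finite (MulAut (Ker F)) :=
  Finite.of_injective (fun e => (e : Ker F → Ker F)) DFunLike.coe_injective

instance : Finite (Grp F) :=
  Finite.of_equiv _ (SemidirectProduct.equivProd (φ := (top F).subtype)).symm

theorem grp_sq_left (g : Grp F) : (g ^ 2).left = g.left * g.right.1 g.left := by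
  rw [pow_two]
  rfl

/-- The basic computation: orders of elements outside the cyclic part. -/
theorem pow_six_of_half (hF : Fintype.card F = 81) (g : Grp F) {u : F} {i : ℕ} (hu : u ^ 5 = 1)
    (hi : i % 4 = 2) (h : ∀ x, g.right.1 x = act u i x) : g ^ 6 = 1 := by
  have h81 : ∀ y : F, (y ^ 9) ^ 9 = y := fun y => by
    rw [← pow_mul]
    have := FiniteField.pow_card y
    rwa [hF] at this
  have h9 : ∀ y : F, iterateFrobenius F 3 i y = y ^ 9 := fun y => by
    rw [frob_four hF, hi, iterateFrobenius_def]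
    norm_num
  have hu9 : u ^ 9 = u ^ 4 := by linear_combination u ^ 4 * hu
  have hr : g.right ^ 2 = 1 := by
    apply Subtype.ext
    apply MulEquiv.ext
    intro x
    rw [SubgroupClass.coe_pow, pow_two, MulAut.mul_apply, h, h, act_act, act_mod hF,
      show (i + i) % 4 = 0 by omega, show u * iterateFrobenius F 3 i u = 1 by
        rw [h9, hu9, ← pow_succ']; exact hu, act_one]
    rfl
  set z := g.left * g.right.1 g.left with hz
  have e2 : g ^ 2 = SemidirectProduct.inl z := by
    ext1
    · rw [grp_sq_left, SemidirectProduct.left_inl]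
    · rw [SemidirectProduct.right_inl, ← SemidirectProduct.rightHom_eq_right, map_pow,
        SemidirectProduct.rightHom_eq_right, hr]
  have hab : z.a * z.b ^ 9 = z.a ^ 9 * z.b := by
    have ea : z.a ^ 9 = u ^ 4 * z.a := by
      rw [hz, h]
      simp only [mul_a, act, h9]
      rw [add_nine, mul_pow, h81, hu9]
      linear_combination (-(g.left.a) ^ 9) * hu
    have eb : z.b ^ 9 = u ^ 4 * z.b := by
      rw [hz, h]
      simp only [mul_b, act, h9]
      rw [add_nine, mul_pow, h81, hu9]
      linear_combination (-(g.left.b) ^ 9) * hu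
    rw [ea, eb]
    ring
  rw [show 6 = 2 * 3 from rfl, pow_mul, e2, ← map_pow, cube_eq_one hab, map_one]

theorem pow_cases (hF : Fintype.card F = 81) (g : Grp F) : g ^ 5 = 1 ∨ g ^ 9 = 1 ∨ g ^ 12 = 1 := by
  obtain ⟨u, i, hu, h⟩ := g.right.2
  rcases (show i % 4 = 0 ∨ i % 4 = 2 ∨ (2 * i) % 4 = 2 by omega) with h0 | h2 | h1
  · by_cases hu1 : u = 1
    · right; left
      have hr : g.right = 1 := by
        apply Subtype.ext
        apply MulEquiv.ext
        intro x
        rw [h, act_mod hF, h0, hu1, act_one]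
        rfl
      have e : g = SemidirectProduct.inl g.left := by
        ext1
        · rw [SemidirectProduct.left_inl]
        · rw [SemidirectProduct.right_inl, hr]
      rw [e, ← map_pow, pow_nine, map_one]
    · left
      have hid : ∀ y : F, iterateFrobenius F 3 i y = y := fun y => by
        rw [frob_four hF, h0, iterateFrobenius_def]; simp
      have hpowr : ∀ n : ℕ, ∀ x, (g.right ^ n).1 x = act (u ^ n) 0 x := by
        intro n
        induction n with
        | zero => intro x; rw [pow_zero, pow_zero, act_one]; rfl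
        | succ n ih =>
          intro x
          rw [pow_succ, Subgroup.coe_mul, MulAut.mul_apply, h, ih, act_act, pow_succ,
            iterateFrobenius_zero_apply, act_mod hF (u ^ n * u), act_mod hF (u ^ n * u) 0,
            Nat.zero_add, h0]
      have hr5 : (g ^ 5).right = 1 := by
        rw [← SemidirectProduct.rightHom_eq_right, map_pow, SemidirectProduct.rightHom_eq_right]
        apply Subtype.ext
        apply MulEquiv.ext
        intro x
        rw [hpowr, hu, act_one]
        rfl
      set z := (g ^ 5).left with hz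
      have e5 : g ^ 5 = SemidirectProduct.inl z := by
        ext1
        · rw [hz, SemidirectProduct.left_inl]
        · rw [hr5, SemidirectProduct.right_inl]
      have hcomm : g.left * g.right.1 z = z * g.left := by
        have hc := congrArg SemidirectProduct.left ((Commute.self_pow g 5).eq)
        rw [e5] at hc
        simpa using hc
      rw [h] at hcomm
      have za : z.a = 0 := by
        have := congrArg Ker.a hcomm
        simp only [mul_a, act, hid] at this
        have h' : (u - 1) * z.a = 0 := by linear_combination this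
        exact (mul_eq_zero.1 h').resolve_left (sub_ne_zero.2 hu1)
      have zb : z.b = 0 := by
        have := congrArg Ker.b hcomm
        simp only [mul_b, act, hid] at this
        have h' : (u - 1) * z.b = 0 := by linear_combination this
        exact (mul_eq_zero.1 h').resolve_left (sub_ne_zero.2 hu1)
      have hk : ∀ k : ℕ, k.Coprime 5 → ∀ y : F, u ^ k * y = y → y = 0 := by
        intro k hk y hy
        have h' : (u ^ k - 1) * y = 0 := by linear_combination hy
        refine (mul_eq_zero.1 h').resolve_left (fun e => hu1 ?_)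
        have := orderOf_dvd_of_pow_eq_one (sub_eq_zero.1 e)
        have h5 := orderOf_dvd_of_pow_eq_one hu
        exact orderOf_eq_one_iff.1 (Nat.dvd_one.1 (hk ▸ Nat.dvd_gcd this h5))
      have zp : z.p = 0 := hk 4 (by norm_num) _ (by
        have := congrArg Ker.p hcomm
        simp [act, hid, za] at this
        linear_combination this)
      have zq : z.q = 0 := hk 2 (by norm_num) _ (by
        have := congrArg Ker.q hcomm
        simp [act, hid, za] at this
        linear_combination this)
      have zr : z.r = 0 := hk 2 (by norm_num) _ (by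
        have := congrArg Ker.r hcomm
        simp [act, hid, za, zb] at this
        linear_combination this)
      have zs : z.s = 0 := hk 4 (by norm_num) _ (by
        have := congrArg Ker.s hcomm
        simp [act, hid, za, zb] at this
        linear_combination this)
      have zc : z.c = 0 := hk 3 (by norm_num) _ (by
        have := congrArg Ker.c hcomm
        simp [act, hid, za, zb, zp, zq, zr, zs] at this
        linear_combination this)
      rw [e5, show z = 1 by ext <;> simp [za, zb, zp, zq, zr, zs, zc], map_one]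
  · right; right
    rw [show 12 = 6 * 2 from rfl, pow_mul, pow_six_of_half hF g hu h2 h, one_pow]
  · right; right
    rw [show 12 = 2 * 6 from rfl, pow_mul]
    refine pow_six_of_half hF (g ^ 2) (u := u * iterateFrobenius F 3 i u) (i := i + i)
      (by rw [mul_pow, ← map_pow, hu, map_one, mul_one]) (by omega) (fun x => ?_)
    rw [← SemidirectProduct.rightHom_eq_right, map_pow, SemidirectProduct.rightHom_eq_right,
      SubgroupClass.coe_pow, pow_two, MulAut.mul_apply, h, h, act_act]

theorem exists_top (hF : Fintype.card F = 81) {u : F} (hu : u ^ 5 = 1) (i : ℕ) :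
    ∃ θ : top F, ∀ x, θ.1 x = act u i x := by
  have hinj : Function.Injective (act u i : Ker F → Ker F) := by
    intro x y e
    have hu0 : u ≠ 0 := fun e' => by simp [e'] at hu
    simp only [act, Ker.mk.injEq] at e
    obtain ⟨e1, e2, e3, e4, e5, e6, e7⟩ := e
    have key : ∀ (w s t : F), w ≠ 0 → w * iterateFrobenius F 3 i s = w * iterateFrobenius F 3 i t → s = t :=
      fun w s t hw e' => RingHom.injective _ (mul_left_cancel₀ hw e')
    ext
    exacts [key _ _ _ hu0 e1, key _ _ _ hu0 e2, key _ _ _ (pow_ne_zero _ hu0) e3,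
      key _ _ _ (pow_ne_zero _ hu0) e4, key _ _ _ (pow_ne_zero _ hu0) e5,
      key _ _ _ (pow_ne_zero _ hu0) e6, key _ _ _ (pow_ne_zero _ hu0) e7]
  refine ⟨⟨MulEquiv.ofBijective ({ toFun := act u i, map_mul' := act_mul hu i } : Ker F →ₙ* Ker F)
    ((Finite.injective_iff_bijective).1 hinj), u, i, hu, fun x => rfl⟩, fun x => rfl⟩

theorem exists_orders (hF : Fintype.card F = 81) :
    (∃ g : Grp F, orderOf g = 5) ∧ (∃ g : Grp F, orderOf g = 9) ∧ (∃ g : Grp F, orderOf g = 12) := by
  obtain ⟨w, hw⟩ := IsCyclic.exists_ofOrder_eq_natCard (α := Fˣ)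
  rw [Nat.card_units, Nat.card_eq_fintype_card, hF] at hw
  set ζ : F := ((w ^ 16 : Fˣ) : F) with hζ
  have hζu : orderOf (w ^ 16) = 5 := by
    rw [orderOf_pow' w (by norm_num), hw]; norm_num
  have hζ5 : ζ ^ 5 = 1 := by
    rw [hζ, ← Units.val_pow_eq_pow_val, ← hζu, pow_orderOf_eq_one, Units.val_one]
  have hζ1 : ζ ≠ 1 := by
    intro e
    rw [hζ, Units.val_eq_one] at e
    rw [e, orderOf_one] at hζu
    omega
  have hζ0 : ζ ≠ 0 := Units.ne_zero _
  have hζ9 : ζ ^ 9 ≠ ζ := by
    intro e
    apply hζ1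
    have h8 : ζ ^ 8 = 1 := mul_left_cancel₀ hζ0 (by rw [mul_one, ← pow_succ']; exact e)
    have h3' : ζ ^ 3 = 1 := by linear_combination h8 - ζ ^ 3 * hζ5
    linear_combination (ζ ^ 3 + 1) * h3' - ζ * hζ5
  refine ⟨?_, ?_, ?_⟩
  · obtain ⟨θ, hθ⟩ := exists_top hF hζ5 0
    refine ⟨SemidirectProduct.inr θ, ?_⟩
    haveI : Fact (Nat.Prime 5) := ⟨by norm_num⟩
    have h5 : ∀ n : ℕ, ∀ x, (θ ^ n).1 x = act (ζ ^ n) 0 x := by
      intro n
      induction n with
      | zero => intro x; rw [pow_zero, pow_zero, act_one]; rfl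
      | succ n ih =>
        intro x
        rw [pow_succ, Subgroup.coe_mul, MulAut.mul_apply, hθ, ih, act_act, pow_succ,
          iterateFrobenius_zero_apply]
    refine orderOf_eq_prime ?_ ?_
    · rw [← map_pow, show θ ^ 5 = 1 from ?_, map_one]
      apply Subtype.ext
      apply MulEquiv.ext
      intro x
      rw [h5, hζ5, act_one]
      rfl
    · intro e
      have := congrArg (fun g : Grp F => (g.right.1 (⟨1, 0, 0, 0, 0, 0, 0⟩ : Ker F)).a) e
      simp only [SemidirectProduct.right_inr, SemidirectProduct.one_right, hθ] at this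
      simp [act] at this
      exact hζ1 this
  · haveI : Fact (Nat.Prime 3) := ⟨Nat.prime_three⟩
    refine ⟨SemidirectProduct.inl ⟨1, ζ, 0, 0, 0, 0, 0⟩, ?_⟩
    refine orderOf_eq_prime_pow (p := 3) (n := 1) (fun e => ?_) ?_
    · rw [pow_one, ← map_pow, cube] at e
      have := congrArg (fun g : Grp F => g.left.c) e
      simp at this
      exact hζ9 (sub_eq_zero.1 this)
    · rw [show 3 ^ (1 + 1) = 9 from rfl, ← map_pow, pow_nine, map_one]
  · obtain ⟨θ, hθ⟩ := exists_top hF (one_pow 5 : (1 : F) ^ 5 = 1) 1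
    set g : Grp F := SemidirectProduct.inl (⟨1, 0, 0, 0, 0, 0, 0⟩ : Ker F) * SemidirectProduct.inr θ
      with hg
    have gl : g.left = ⟨1, 0, 0, 0, 0, 0, 0⟩ := by simp [hg]
    have gr : g.right = θ := by simp [hg]
    refine ⟨g, ?_⟩
    have h2r : (g ^ 2).right = θ ^ 2 := by
      rw [← SemidirectProduct.rightHom_eq_right, map_pow, SemidirectProduct.rightHom_eq_right, gr]
    have hθ2 : ∀ x, (θ ^ 2).1 x = act 1 2 x := by
      intro x
      rw [SubgroupClass.coe_pow, pow_two, MulAut.mul_apply, hθ, hθ, act_act, map_one, one_mul]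
    have h12 : g ^ 12 = 1 := by
      rw [show 12 = 2 * 6 from rfl, pow_mul]
      exact pow_six_of_half hF (g ^ 2) (one_pow 5) (i := 2) rfl (fun x => by rw [h2r, hθ2])
    have n4 : g ^ 4 ≠ 1 := by
      intro e
      have h := congrArg (fun k : Grp F => k.left.a) e
      rw [show 4 = 2 * 2 from rfl, pow_mul] at h
      simp only [grp_sq_left, h2r, hθ2, gl, gr, hθ, SemidirectProduct.one_left] at h
      simp [act] at h
      have h3 : (3 : F) = 0 := three_zero
      exact one_ne_zero (show (1 : F) = 0 by linear_combination h - h3)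
    have n6 : g ^ 6 ≠ 1 := by
      intro e
      have hr : (g ^ 6).right = (θ ^ 2) ^ 3 := by
        rw [← SemidirectProduct.rightHom_eq_right, map_pow, SemidirectProduct.rightHom_eq_right, gr,
          ← pow_mul]
      rw [e, SemidirectProduct.one_right] at hr
      have h4 : θ ^ 4 = 1 := by
        apply Subtype.ext
        apply MulEquiv.ext
        intro x
        rw [show 4 = 2 * 2 from rfl, pow_mul, SubgroupClass.coe_pow, pow_two, MulAut.mul_apply,
          hθ2, hθ2, act_act, map_one, one_mul, act_mod hF, show (2 + 2) % 4 = 0 from rfl, act_one]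
        rfl
      have h2 : θ ^ 2 = 1 := by
        rw [← pow_mul, show 2 * 3 = 4 + 2 from rfl, pow_add, h4, one_mul] at hr
        exact hr.symm
      have := congrArg (fun k : top F => (k.1 (⟨ζ, 0, 0, 0, 0, 0, 0⟩ : Ker F)).a) h2
      simp only [hθ2] at this
      simp [act, iterateFrobenius_def] at this
      exact hζ9 this
    have hd := orderOf_dvd_of_pow_eq_one h12
    rw [Ne, ← orderOf_dvd_iff_pow_eq_one] at n4 n6
    generalize orderOf g = n at hd n4 n6 ⊢
    have hle : n ≤ 12 := Nat.le_of_dvd (by norm_num) hd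
    clear * - hd n4 n6 hle
    revert hd n4 n6
    interval_cases n <;> decide

theorem solvable_grp (hF : Fintype.card F = 81) : Group.IsSolvable (Grp F) := by
  haveI : Group.IsSolvable (Ker F) := by
    let π : Ker F →* Multiplicative (F × F) :=
      MonoidHom.mk' (fun x => Multiplicative.ofAdd (x.a, x.b)) (fun x y => rfl)
    haveI : Group.IsSolvable ↥π.ker := Group.isSolvable_of_comm (fun ⟨x, hx⟩ ⟨y, hy⟩ => by
      simp only [MonoidHom.mem_ker, π, MonoidHom.mk'_apply, ofAdd_eq_one, Prod.mk_eq_zero] at hx hy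
      apply Subtype.ext
      ext <;> simp [hx.1, hx.2, hy.1, hy.2] <;> ring)
    exact Group.isSolvable_of_ker_le_range π.ker.subtype π (by rw [Subgroup.range_subtype])
  haveI : Group.IsSolvable ↥(top F) := by
    let N : Subgroup (top F) :=
      { carrier := {θ | ∃ u : F, u ^ 5 = 1 ∧ ∀ x, θ.1 x = act u 0 x}
        mul_mem' := by
          rintro θ η ⟨u, hu, h⟩ ⟨v, hv, h'⟩
          refine ⟨u * v, by rw [mul_pow, hu, hv, one_mul], fun x => ?_⟩
          rw [Subgroup.coe_mul, MulAut.mul_apply, h', h, act_act, iterateFrobenius_zero_apply]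
        one_mem' := ⟨1, one_pow _, fun x => (act_one x).symm⟩
        inv_mem' := by
          rintro θ ⟨u, hu, h⟩
          refine ⟨u ^ 4, by rw [← pow_mul, mul_comm, pow_mul, hu, one_pow], fun x => ?_⟩
          apply θ.1.injective
          rw [Subgroup.coe_inv, MulAut.apply_inv_self, h, act_act, iterateFrobenius_zero_apply,
            ← pow_succ', hu, act_one] }
    haveI : Group.IsSolvable ↥N := Group.isSolvable_of_comm (fun ⟨θ, u, hu, h⟩ ⟨η, v, hv, h'⟩ => by
      apply Subtype.ext
      apply Subtype.ext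
      apply MulEquiv.ext
      intro x
      simp only [Subgroup.coe_mul, MulAut.mul_apply, h, h', act_act, iterateFrobenius_zero_apply]
      rw [mul_comm u v])
    refine Group.isSolvable_of_ker_le_range N.subtype (Abelianization.of : top F →* Abelianization (top F)) ?_
    rw [Abelianization.ker_of, Subgroup.range_subtype, commutator_def, Subgroup.commutator_le]
    rintro θ - η -
    obtain ⟨u, i, hu, h⟩ := θ.2
    obtain ⟨v, j, hv, h'⟩ := η.2
    have hne : ∀ w : F, w ^ 5 = 1 → w ≠ 0 := fun w hw e => by simp [e] at hw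
    have hd : (v * iterateFrobenius F 3 j u) ^ 5 = 1 := by rw [mul_pow, ← map_pow, hu, map_one, mul_one, hv]
    refine ⟨u * iterateFrobenius F 3 i v / (v * iterateFrobenius F 3 j u),
      by rw [div_pow, hd, div_one, mul_pow, ← map_pow, hv, map_one, mul_one, hu], fun x => ?_⟩
    obtain ⟨y, rfl⟩ := (η.1 * θ.1).surjective x
    have e : ⁅θ, η⁆.1 ((η.1 * θ.1) y) = (θ.1 * η.1) y := by
      rw [← MulAut.mul_apply, commutatorElement_def]
      congr 1
      simp only [Subgroup.coe_mul, Subgroup.coe_inv]
      group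
    rw [e, MulAut.mul_apply, MulAut.mul_apply, h', h, h', h, act_act, act_act, act_act,
      iterateFrobenius_zero_apply, Nat.zero_add, mul_assoc (_ / _), div_mul_cancel₀ _ (hne _ hd),
      Nat.add_comm j i]
  exact Group.isSolvable_of_ker_le_range (SemidirectProduct.inl) (SemidirectProduct.rightHom)
    (by rw [SemidirectProduct.range_inl_eq_ker_rightHom])

end Cfsg.Agent.Classical.SpectrumSolvable
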