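/-
The operators of a Clifford algebra on a binary tensor space in characteristic two: the orthogonal
transformations preserving the span of one and the lowering and raising operators.
-/
import Cfsg.Agent.Lib.Classical.FormCoord
import Cfsg.Agent.Lib.Classical.OrthogonalGroup

set_option autoImplicit false
set_option linter.unusedSectionVars false
set_option linter.style.haveILetI false

namespace Cfsg.Agent.Classical.Spin

open Matrix Cfsg.Geo
open scoped commutatorElement

variable {F : Type*} [Field F] {β : Type} [Fintype β] [DecidableEq β]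

theorem fin2_succ_ne : ∀ b : Fin 2, b + 1 ≠ b := by decide

theorem fin2_succ_succ : ∀ b : Fin 2, b + 1 + 1 = b := by decide

theorem fin2_of_ne : ∀ a b : Fin 2, a ≠ b → a = b + 1 := by decide

variable (F) in
/-- The operator sending the basis vector with entry `b + 1` at `i` to the one with entry `b` at `i`. -/
def op (i : β) (b : Fin 2) : Matrix (β → Fin 2) (β → Fin 2) F :=
  Matrix.of fun x y => if x i = b ∧ y = Function.update x i (b + 1) then 1 else 0

theorem op_mul_apply (i : β) (b : Fin 2) (M : Matrix (β → Fin 2) (β → Fin 2) F) (x y : β → Fin 2) :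
    (op F i b * M) x y = if x i = b then M (Function.update x i (b + 1)) y else 0 := by
  simp only [Matrix.mul_apply, op, Matrix.of_apply, ite_mul, one_mul, zero_mul]
  split_ifs with h
  · simp [h]
  · simp [h]

theorem op_sq (i : β) (b : Fin 2) : op F i b * op F i b = 0 := by
  ext x y
  rw [op_mul_apply, Matrix.zero_apply]
  split_ifs with h
  · simp [op, fin2_succ_ne]
  · rfl

theorem op_anti (i : β) (b : Fin 2) : op F i b * op F i (b + 1) + op F i (b + 1) * op F i b = 1 := by
  ext x y
  rw [Matrix.add_apply, op_mul_apply, op_mul_apply, Matrix.one_apply]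
  by_cases h : x i = b
  · have hne : x i ≠ b + 1 := fun e => fin2_succ_ne b (e.symm.trans h)
    rw [if_pos h, if_neg hne, add_zero]
    simp only [op, Matrix.of_apply, Function.update_self, fin2_succ_succ, Function.update_idem, true_and]
    rw [← h, Function.update_eq_self]
    simp [eq_comm]
  · have he : x i = b + 1 := fin2_of_ne _ _ h
    rw [if_neg h, if_pos he, zero_add]
    simp only [op, Matrix.of_apply, fin2_succ_succ, Function.update_self, Function.update_idem, true_and]
    rw [← he, Function.update_eq_self]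
    simp [eq_comm]

theorem op_comm {i j : β} (h : i ≠ j) (b c : Fin 2) : Commute (op F i b) (op F j c) := by
  ext x y
  rw [op_mul_apply, op_mul_apply]
  simp only [op, Matrix.of_apply, Function.update_of_ne h, Function.update_of_ne h.symm]
  rw [Function.update_comm h.symm]
  split_ifs <;> simp_all

/-- The complement of a binary vector. -/
def flipAll (x : β → Fin 2) : β → Fin 2 := fun i => x i + 1

theorem flipAll_flipAll (x : β → Fin 2) : flipAll (flipAll x) = x := funext fun _ => fin2_succ_succ _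

variable (F β) in
/-- The Gram matrix pairing a basis vector with its complement. -/
def J : Matrix (β → Fin 2) (β → Fin 2) F := Matrix.of fun x y => if y = flipAll x then 1 else 0

theorem J_mul_apply (M : Matrix (β → Fin 2) (β → Fin 2) F) (x y : β → Fin 2) : (J F β * M) x y = M (flipAll x) y := by
  simp [J, Matrix.mul_apply]

theorem mul_J_apply (M : Matrix (β → Fin 2) (β → Fin 2) F) (x y : β → Fin 2) : (M * J F β) x y = M x (flipAll y) := by
  rw [Matrix.mul_apply, Finset.sum_eq_single (flipAll y)]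
  · simp [J, flipAll_flipAll]
  · intro z _ hz
    simp only [J, Matrix.of_apply]
    rw [if_neg, mul_zero]
    rintro rfl
    exact hz (flipAll_flipAll z).symm
  · simp

theorem op_adj (i : β) (b : Fin 2) : J F β * op F i b = (op F i b)ᵀ * J F β := by
  ext x y
  rw [J_mul_apply, mul_J_apply, Matrix.transpose_apply]
  simp only [op, Matrix.of_apply]
  refine if_congr ?_ rfl rfl
  constructor
  all_goals
    rintro ⟨h1, h2⟩
    subst h2
    simp only [flipAll] at h1
    refine ⟨by simp [flipAll, fin2_succ_succ], funext fun j => ?_⟩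
    rcases eq_or_ne j i with rfl | hj
    · simp [flipAll, ← h1, fin2_succ_succ]
    · simp [flipAll, Function.update_of_ne hj, fin2_succ_succ]

/-- The non-zero entries of `N` join vectors differing exactly on `I`. -/
def Supp (I : Finset β) (N : Matrix (β → Fin 2) (β → Fin 2) F) : Prop :=
  ∀ x y, N x y ≠ 0 → ∀ j, x j ≠ y j ↔ j ∈ I

theorem supp_op (i : β) (b : Fin 2) : Supp {i} (op F i b) := by
  intro x y h j
  simp only [op, Matrix.of_apply, ne_eq, ite_eq_right_iff, one_ne_zero, imp_false, not_not] at h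
  obtain ⟨h1, rfl⟩ := h
  rcases eq_or_ne j i with rfl | hj
  · simp only [Finset.mem_singleton, Function.update_self, iff_true, h1]
    exact (fin2_succ_ne b).symm
  · simp [Function.update_of_ne hj, hj]

theorem Supp.mul {I K : Finset β} {M N : Matrix (β → Fin 2) (β → Fin 2) F} (hM : Supp I M) (hN : Supp K N)
    (hd : Disjoint I K) : Supp (I ∪ K) (M * N) := by
  intro x y h j
  rw [Matrix.mul_apply] at h
  obtain ⟨z, -, hz⟩ := Finset.exists_ne_zero_of_sum_ne_zero h
  have h1 := hM x z (left_ne_zero_of_mul hz) j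
  have h2 := hN z y (right_ne_zero_of_mul hz) j
  rw [Finset.mem_union]
  by_cases hI : j ∈ I
  · have h3 : z j = y j := not_not.mp fun e => Finset.disjoint_left.mp hd hI (h2.mp e)
    simp only [hI, true_or, iff_true]
    exact h3 ▸ h1.mpr hI
  · have h3 : x j = z j := not_not.mp fun e => hI (h1.mp e)
    simp only [hI, false_or, h3]
    exact h2

variable (F β) in
/-- The span of one and the lowering and raising operators. -/
def W : Submodule F (Matrix (β → Fin 2) (β → Fin 2) F) :=
  Submodule.span F (insert 1 (Set.range fun p : β × Fin 2 => op F p.1 p.2))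

theorem one_mem_W : (1 : Matrix (β → Fin 2) (β → Fin 2) F) ∈ W F β := Submodule.subset_span (Set.mem_insert _ _)

theorem op_mem_W (i : β) (b : Fin 2) : op F i b ∈ W F β :=
  Submodule.subset_span (Set.mem_insert_of_mem _ ⟨(i, b), rfl⟩)

theorem W_entry {M : Matrix (β → Fin 2) (β → Fin 2) F} (hM : M ∈ W F β) {x y : β → Fin 2} {i j : β} (hij : i ≠ j)
    (hi : x i ≠ y i) (hj : x j ≠ y j) : M x y = 0 := by
  induction hM using Submodule.span_induction with
  | mem M hM =>
    rcases hM with rfl | ⟨p, rfl⟩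
    · exact Matrix.one_apply_ne fun e => hi (congrFun e i)
    · by_contra h
      have h1 := (supp_op p.1 p.2 x y h i).mp hi
      have h2 := (supp_op p.1 p.2 x y h j).mp hj
      simp only [Finset.mem_singleton] at h1 h2
      exact hij (h1.trans h2.symm)
  | zero => rfl
  | add a b _ _ ha hb => rw [Matrix.add_apply, ha, hb, add_zero]
  | smul c a _ ha => rw [Matrix.smul_apply, ha, smul_zero]

/-- A self-adjoint operator of square zero with prescribed support. -/
structure Good (I : Finset β) (N : Matrix (β → Fin 2) (β → Fin 2) F) : Prop where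
  adj : J F β * N = Nᵀ * J F β
  sq : N * N = 0
  supp : Supp I N

theorem good_op (i : β) (b : Fin 2) : Good {i} (op F i b) := ⟨op_adj i b, op_sq i b, supp_op i b⟩

theorem Good.mul {I K : Finset β} {M N : Matrix (β → Fin 2) (β → Fin 2) F} (hM : Good I M) (hN : Good K N)
    (hc : Commute M N) (hd : Disjoint I K) : Good (I ∪ K) (M * N) := by
  refine ⟨?_, ?_, hM.supp.mul hN.supp hd⟩
  · rw [← Matrix.mul_assoc, hM.adj, Matrix.mul_assoc, hN.adj, ← Matrix.mul_assoc, ← Matrix.transpose_mul, hc.eq]
  · rw [Matrix.mul_assoc, ← Matrix.mul_assoc N, ← hc.eq, Matrix.mul_assoc M N N, hN.sq, Matrix.mul_zero,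
      Matrix.mul_zero]

theorem add_self (h2 : (2 : F) = 0) {κ : Type} (M : Matrix κ κ F) : M + M = 0 := by
  ext x y
  rw [Matrix.add_apply, Matrix.zero_apply, ← two_mul, h2, zero_mul]

theorem invol (h2 : (2 : F) = 0) {N : Matrix (β → Fin 2) (β → Fin 2) F} (hN : N * N = 0) : (1 + N) * (1 + N) = 1 := by
  have : (1 + N) * (1 + N) = 1 + ((N + N) + N * N) := by noncomm_ring
  rw [this, hN, add_self h2, add_zero, add_zero]

/-- A quadratic form with polar form a multiple of the pairing and singular basis vectors. -/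
structure IsQF (Q : ((β → Fin 2) → F) → F) (c : F) : Prop where
  smul : ∀ (a : F) v, Q (a • v) = a ^ 2 * Q v
  add : ∀ u v, Q (u + v) = Q u + Q v + c * (u ⬝ᵥ (J F β *ᵥ v))
  single : ∀ x, Q (Pi.single x 1) = 0

theorem IsQF.isometry_of {Q : ((β → Fin 2) → F) → F} {c : F} (hQ : IsQF Q c)
    {G : Matrix (β → Fin 2) (β → Fin 2) F} (hG : Gᵀ * J F β * G = J F β)
    (hcol : ∀ x, Q (G *ᵥ Pi.single x 1) = 0) (v : (β → Fin 2) → F) : Q (G *ᵥ v) = Q v := by
  have h0 : Q 0 = 0 := by simpa using hQ.smul 0 0
  have key : ∀ u w, (G *ᵥ u) ⬝ᵥ (J F β *ᵥ (G *ᵥ w)) = u ⬝ᵥ (J F β *ᵥ w) := fun u w => by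
    conv_rhs => rw [← hG, ← Matrix.mulVec_mulVec, ← Matrix.mulVec_mulVec, Matrix.dotProduct_mulVec,
      Matrix.vecMul_transpose]
  suffices h : ∀ s : Finset (β → Fin 2), Q (G *ᵥ ∑ x ∈ s, Pi.single x (v x)) = Q (∑ x ∈ s, Pi.single x (v x)) by
    simpa [Finset.univ_sum_single] using h Finset.univ
  intro s
  induction s using Finset.induction with
  | empty => simp [h0]
  | insert a s ha ih =>
    rw [Finset.sum_insert ha, Matrix.mulVec_add, hQ.add, hQ.add, ih, key]
    have : (Pi.single a (v a) : (β → Fin 2) → F) = v a • Pi.single a 1 := by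
      rw [← Pi.single_smul, smul_eq_mul, mul_one]
    rw [this, Matrix.mulVec_smul, hQ.smul, hQ.smul, hQ.single, hcol]

theorem IsQF.good_isometry (h2 : (2 : F) = 0) {Q : ((β → Fin 2) → F) → F} {c : F} (hQ : IsQF Q c)
    {I : Finset β} {N : Matrix (β → Fin 2) (β → Fin 2) F} (hN : Good I N) (hI : I ≠ Finset.univ)
    (v : (β → Fin 2) → F) : Q ((1 + N) *ᵥ v) = Q v := by
  refine hQ.isometry_of ?_ (fun x => ?_) v
  · rw [Matrix.transpose_add, Matrix.transpose_one, Matrix.add_mul, Matrix.one_mul, ← hN.adj, Matrix.add_mul,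
      Matrix.mul_add, Matrix.mul_add, Matrix.mul_one, Matrix.mul_one, Matrix.mul_assoc (J F β) N N, hN.sq,
      Matrix.mul_zero, add_zero, add_assoc, add_self h2, add_zero]
  · let y : β → Fin 2 := fun j => if j ∈ I then x j + 1 else x j
    have hcolN : N *ᵥ Pi.single x 1 = N y x • Pi.single y 1 := by
      funext z
      rw [Matrix.mulVec_single_one, Pi.smul_apply, smul_eq_mul, Pi.single_apply]
      split_ifs with hz
      · subst hz; simp
      · rw [mul_zero]
        by_contra h
        refine hz (funext fun j => ?_)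
        have := hN.supp z x h j
        simp only [y]
        split_ifs with hj
        · exact fin2_of_ne _ _ (this.mpr hj)
        · exact not_not.mp fun e => hj (this.mp e)
    obtain ⟨j, hj⟩ : ∃ j, j ∉ I := by
      by_contra h
      push Not at h
      exact hI (Finset.eq_univ_iff_forall.mpr h)
    have hyx : y ≠ flipAll x := fun e => by
      have := congrFun e j
      simp only [y, if_neg hj, flipAll] at this
      exact fin2_succ_ne _ this.symm
    rw [Matrix.add_mulVec, Matrix.one_mulVec, hcolN, hQ.add, hQ.smul, hQ.single, hQ.single, Matrix.mulVec_smul,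
      dotProduct_smul, single_dotProduct, Matrix.mulVec_single_one]
    simp [J, hyx]

theorem conj_formula (h2 : (2 : F) = 0) {A C D : Matrix (β → Fin 2) (β → Fin 2) F} (hCA : Commute C A)
    (hCD : Commute C D) (hC : C * C = 0) : (1 + A * C) * D * (1 + A * C) = D + (A * D + D * A) * C := by
  have e1 : A * C * D = A * D * C := by rw [Matrix.mul_assoc, hCD.eq, ← Matrix.mul_assoc]
  have e2 : A * C * D * (A * C) = 0 := by
    calc A * C * D * (A * C) = A * D * C * (A * C) := by rw [e1]
      _ = A * D * (C * A) * C := by simp only [Matrix.mul_assoc]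
      _ = A * D * A * (C * C) := by rw [hCA.eq]; simp only [Matrix.mul_assoc]
      _ = 0 := by rw [hC, Matrix.mul_zero]
  have : (1 + A * C) * D * (1 + A * C) = D + (A * C * D + D * A * C) + A * C * D * (A * C) := by noncomm_ring
  rw [this, e2, e1, add_zero, Matrix.add_mul]

theorem commutator_formula (h2 : (2 : F) = 0) {x u v C : Matrix (β → Fin 2) (β → Fin 2) F} (hxu : Commute x u)
    (hxv : Commute x v) (hxC : Commute x C) (huC : Commute u C) (hvC : Commute v C) (hx : x * x = 0)
    (hu : u * u = 0) (hv : v * v = 0) (hC : C * C = 0) (h : u * v + v * u = 1) :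
    (1 + x * u) * (1 + v * C) * (1 + x * u) * (1 + v * C) = 1 + x * C := by
  set A := x * u with hA
  set B := v * C with hB
  have hAA : A * A = 0 := by
    rw [hA, Matrix.mul_assoc, ← Matrix.mul_assoc u, ← hxu.eq, Matrix.mul_assoc x u u, hu, Matrix.mul_zero,
      Matrix.mul_zero]
  have hBB : B * B = 0 := by
    rw [hB, Matrix.mul_assoc, ← Matrix.mul_assoc C, ← hvC.eq, Matrix.mul_assoc v C C, hC, Matrix.mul_zero,
      Matrix.mul_zero]
  have hxB : Commute x B := hxv.mul_right hxC
  have hCA : Commute C A := hxC.symm.mul_right huC.symm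
  have hABA : A * B * A = 0 := by
    calc A * B * A = x * ((u * B) * x) * u := by rw [hA]; simp only [Matrix.mul_assoc]
      _ = x * x * (u * B * u) := by rw [← (hxu.mul_right hxB).eq]; simp only [Matrix.mul_assoc]
      _ = 0 := by rw [hx, Matrix.zero_mul]
  have hBAB : B * A * B = 0 := by
    calc B * A * B = v * (C * (A * v)) * C := by rw [hB]; simp only [Matrix.mul_assoc]
      _ = v * A * v * (C * C) := by rw [(hCA.mul_right hvC.symm).eq]; simp only [Matrix.mul_assoc]
      _ = 0 := by rw [hC, Matrix.mul_zero]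
  have hAB : A * B + B * A = x * C := by
    calc A * B + B * A = x * (u * v * C) + v * (C * x) * u := by rw [hA, hB]; simp only [Matrix.mul_assoc]
      _ = x * (u * v * C) + (v * x) * (C * u) := by rw [← hxC.eq]; simp only [Matrix.mul_assoc]
      _ = x * (u * v * C) + (x * v) * (u * C) := by rw [hxv.eq, huC.eq]
      _ = x * ((u * v + v * u) * C) := by rw [Matrix.add_mul, Matrix.mul_add]; simp only [Matrix.mul_assoc]
      _ = x * C := by rw [h, Matrix.one_mul]
  have : (1 + A) * (1 + B) * (1 + A) * (1 + B) = 1 + (A + A) + (B + B) + (A * B + A * B) + (A * B + B * A) + A * A +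
      B * B + A * A * B + A * (B * B) + A * B * A + B * A * B + A * B * A * B := by noncomm_ring
  rw [this, hAA, hBB, hABA, hBAB, hAB, add_self h2, add_self h2, add_self h2]
  simp

/-- The matrices `G` with `G W ⊆ W G`. -/
def Norms (G : Matrix (β → Fin 2) (β → Fin 2) F) : Prop := ∀ M ∈ W F β, ∃ Z ∈ W F β, G * M = Z * G

theorem Norms.mul {G H : Matrix (β → Fin 2) (β → Fin 2) F} (hG : Norms G) (hH : Norms H) : Norms (G * H) := by
  intro M hM
  obtain ⟨Z, hZ, e⟩ := hH M hM
  obtain ⟨Z', hZ', e'⟩ := hG Z hZ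
  exact ⟨Z', hZ', by rw [Matrix.mul_assoc, e, ← Matrix.mul_assoc, e', Matrix.mul_assoc]⟩

theorem norms_one : Norms (1 : Matrix (β → Fin 2) (β → Fin 2) F) := fun M hM => ⟨M, hM, by simp⟩

theorem norms_of_gens {G : Matrix (β → Fin 2) (β → Fin 2) F}
    (h : ∀ (i : β) (b : Fin 2), ∃ Z ∈ W F β, G * op F i b = Z * G) : Norms G := by
  intro M hM
  induction hM using Submodule.span_induction with
  | mem M hM =>
    rcases hM with rfl | ⟨p, rfl⟩
    · exact ⟨1, one_mem_W, by simp⟩
    · exact h p.1 p.2
  | zero => exact ⟨0, zero_mem _, by simp⟩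
  | add a b _ _ ha hb =>
    obtain ⟨Z, hZ, e⟩ := ha
    obtain ⟨Z', hZ', e'⟩ := hb
    exact ⟨Z + Z', add_mem hZ hZ', by rw [Matrix.mul_add, e, e', Matrix.add_mul]⟩
  | smul c a _ ha =>
    obtain ⟨Z, hZ, e⟩ := ha
    exact ⟨c • Z, Submodule.smul_mem _ c hZ, by rw [Matrix.mul_smul, e, Matrix.smul_mul]⟩

theorem norms_pair (h2 : (2 : F) = 0) {i j : β} (hij : i ≠ j) : Norms (1 + op F i 0 * op F j 0) := by
  have hc := op_comm (F := F) hij 0 0
  have hG : (1 + op F i 0 * op F j 0) * (1 + op F i 0 * op F j 0) = 1 :=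
    invol h2 ((good_op i 0).mul (good_op j 0) hc (by simp [hij])).sq
  refine norms_of_gens fun k b => ?_
  suffices h : (1 + op F i 0 * op F j 0) * op F k b * (1 + op F i 0 * op F j 0) ∈ W F β from
    ⟨_, h, by rw [Matrix.mul_assoc _ (1 + op F i 0 * op F j 0) (1 + op F i 0 * op F j 0), hG, Matrix.mul_one]⟩
  by_cases hk : k = j
  · subst hk
    rw [hc.eq, conj_formula h2 hc (op_comm hij 0 b) (op_sq i 0)]
    refine add_mem (op_mem_W _ _) ?_
    fin_cases b
    · simp only [Fin.zero_eta]
      rw [op_sq, add_zero, Matrix.zero_mul]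
      exact zero_mem _
    · simp only [Fin.mk_one]
      rw [show op F k 0 * op F k 1 + op F k 1 * op F k 0 = 1 from op_anti k 0, Matrix.one_mul]
      exact op_mem_W _ _
  · rw [conj_formula h2 hc.symm (op_comm (Ne.symm hk) 0 b) (op_sq j 0)]
    refine add_mem (op_mem_W _ _) ?_
    by_cases hki : k = i
    · subst hki
      fin_cases b
      · simp only [Fin.zero_eta]
        rw [op_sq, add_zero, Matrix.zero_mul]
        exact zero_mem _
      · simp only [Fin.mk_one]
        rw [show op F k 0 * op F k 1 + op F k 1 * op F k 0 = 1 from op_anti k 0, Matrix.one_mul]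
        exact op_mem_W _ _
    · rw [(op_comm (Ne.symm hki) 0 b).eq, add_self h2, Matrix.zero_mul]
      exact zero_mem _

theorem pair_not_mem_W {i j : β} (hij : i ≠ j) : op F i 0 * op F j 0 ∉ W F β := by
  intro h
  let y : β → Fin 2 := Function.update (Function.update (fun _ => (0 : Fin 2)) i 1) j 1
  have hi : y i = 1 := by simp [y, Function.update_of_ne hij]
  have hj : y j = 1 := by simp [y]
  have h0 := W_entry h (x := fun _ => 0) (y := y) hij (by simp [hi]) (by simp [hj])
  rw [op_mul_apply, if_pos rfl] at h0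
  simp [op, y, Function.update_of_ne hij.symm] at h0

theorem not_norms_triple (h2 : (2 : F) = 0) {i j k : β} (hij : i ≠ j) (hik : i ≠ k) (hjk : j ≠ k) :
    ¬ Norms (1 + op F i 0 * (op F j 0 * op F k 0)) := by
  intro h
  have hC : Commute (op F j 0 * op F k 0) (op F i 0) :=
    ((op_comm hij.symm 0 0).mul_left (op_comm hik.symm 0 0))
  have hCD : Commute (op F j 0 * op F k 0) (op F i 1) :=
    ((op_comm hij.symm 0 1).mul_left (op_comm hik.symm 0 1))
  have hg := (good_op (F := F) j 0).mul (good_op k 0) (op_comm hjk 0 0) (by simp [hjk])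
  have hN : op F i 0 * (op F j 0 * op F k 0) * (op F i 0 * (op F j 0 * op F k 0)) = 0 :=
    ((good_op (F := F) i 0).mul hg hC.symm (by simp [hij, hik])).sq
  obtain ⟨Z, hZ, e⟩ := h _ (op_mem_W i 1)
  have h1 := congrArg (fun X => X * (1 + op F i 0 * (op F j 0 * op F k 0))) e
  simp only [Matrix.mul_assoc Z, invol h2 hN, Matrix.mul_one] at h1
  rw [conj_formula h2 hC hCD hg.sq, show op F i 0 * op F i 1 + op F i 1 * op F i 0 = 1 from op_anti i 0,
    Matrix.one_mul] at h1
  refine pair_not_mem_W (F := F) hjk ?_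
  have h3 := sub_mem (h1 ▸ hZ) (op_mem_W (F := F) i 1)
  rwa [add_sub_cancel_left] at h3

variable {ι : Type} [Fintype ι] [DecidableEq ι]

/-- The invertible matrix attached to an involution in coordinates. -/
def liftGL (e : ι ≃ (β → Fin 2)) (P : GL ι F) (G : Matrix (β → Fin 2) (β → Fin 2) F) (h : G * G = 1) : GL ι F :=
  ⟨matLift e P G, matLift e P G, by rw [← matLift_mul, h, matLift_one], by rw [← matLift_mul, h, matLift_one]⟩

/-- The transformations of `Ω` normalising the span of one and the operators. -/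
def stab (e : ι ≃ (β → Fin 2)) (P : GL ι F) : Subgroup (GL ι F) where
  carrier := {g | Norms (matCoord e P (g : Matrix ι ι F)) ∧ Norms (matCoord e P ((g⁻¹ : GL ι F) : Matrix ι ι F))}
  one_mem' := by
    refine ⟨?_, ?_⟩ <;> simp only [inv_one, Units.val_one, matCoord_one] <;> exact norms_one
  mul_mem' := fun {a b} ha hb => by
    refine ⟨?_, ?_⟩
    · rw [Units.val_mul, matCoord_mul]; exact ha.1.mul hb.1
    · rw [_root_.mul_inv_rev, Units.val_mul, matCoord_mul]; exact hb.2.mul ha.2
  inv_mem' := fun {a} ha => ⟨ha.2, by rw [inv_inv]; exact ha.1⟩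

/-- A subgroup of `Ω` normalising the span, without a certain element, is not maximal in `Ω`. -/
theorem not_maximal (h2 : (2 : F) = 0) (e : ι ≃ (β → Fin 2)) (P : GL ι F) {Q : (ι → F) → F} {c : F}
    (hQ : IsQF (fun v => Q ((P : Matrix ι ι F) *ᵥ (v ∘ e))) c) (hcard : 4 ≤ Fintype.card β) (X : Subgroup (GL ι F))
    (hnorm : ∀ g ∈ X ⊓ omegaGL Q, Norms (matCoord e P (g : Matrix ι ι F))) {i₀ i₂ : β} (hne : i₀ ≠ i₂)
    (hpure : ∀ g ∈ X, matCoord e P (g : Matrix ι ι F) ≠ 1 + op F i₀ 0 * op F i₂ 0) :
    ∃ K : Subgroup (GL ι F), X ⊓ omegaGL Q < K ∧ K < omegaGL Q := by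
  classical
  obtain ⟨i₁, h1, i₃, h3, h13⟩ := (Finset.one_lt_card (s := (Finset.univ.erase i₀).erase i₂)).mp (by
    rw [Finset.card_erase_of_mem (by simp [hne.symm]), Finset.card_erase_of_mem (Finset.mem_univ _),
      Finset.card_univ]
    omega)
  simp only [Finset.mem_erase, Finset.mem_univ, and_true] at h1 h3
  have iso : ∀ {I : Finset β} {N : Matrix (β → Fin 2) (β → Fin 2) F} (hN : Good I N), I.card ≤ 3 →
      liftGL e P (1 + N) (invol h2 hN.sq) ∈ isometryGroup F Q := by
    intro I N hN hI
    rw [mem_isometryGroup_iff]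
    intro w
    have hQQ : ∀ w, Q w = Q ((P : Matrix ι ι F) *ᵥ (vecCoord e P w ∘ e)) := fun w => by
      congr 1
      simp [vecCoord, Function.comp_assoc, Matrix.mulVec_mulVec]
    rw [hQQ, hQQ w, vecCoord_mulVec]
    change Q ((P : Matrix ι ι F) *ᵥ ((matCoord e P (matLift e P (1 + N)) *ᵥ vecCoord e P w) ∘ e)) = _
    rw [matCoord_matLift]
    exact hQ.good_isometry h2 hN (fun e' => by rw [e', Finset.card_univ] at hI; omega) (vecCoord e P w)
  have mk : ∀ {x u v C : Matrix (β → Fin 2) (β → Fin 2) F} {I K : Finset β} (hA : Good I (x * u))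
      (hB : Good K (v * C)) (hI : I.card ≤ 3) (hK : K.card ≤ 3)
      (hf : (1 + x * u) * (1 + v * C) * (1 + x * u) * (1 + v * C) = 1 + x * C),
      ∃ g ∈ omegaGL Q, matCoord e P (g : Matrix ι ι F) = 1 + x * C := by
    intro x u v C I K hA hB hI hK hf
    refine ⟨⁅liftGL e P (1 + x * u) (invol h2 hA.sq), liftGL e P (1 + v * C) (invol h2 hB.sq)⁆, ?_, ?_⟩
    · rw [omegaGL_eq]
      exact Subgroup.commutator_mem_commutator (iso hA hI) (iso hB hK)
    · rw [commutatorElement_def, Units.val_mul, Units.val_mul, Units.val_mul, matCoord_mul, matCoord_mul, matCoord_mul]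
      change matCoord e P (matLift e P _) * matCoord e P (matLift e P _) * matCoord e P (matLift e P _) *
        matCoord e P (matLift e P _) = _
      rw [matCoord_matLift, matCoord_matLift, hf]
  -- the element of the stabiliser
  obtain ⟨h, hhΩ, hh⟩ := mk (x := op F i₀ 0) (u := op F i₁ 1) (v := op F i₁ 0) (C := op F i₂ 0)
    ((good_op i₀ 0).mul (good_op i₁ 1) (op_comm (Ne.symm h1.2) 0 1) (by simp [Ne.symm h1.2]))
    ((good_op i₁ 0).mul (good_op i₂ 0) (op_comm h1.1 0 0) (by simp [h1.1]))
    ((Finset.card_union_le _ _).trans (by simp)) ((Finset.card_union_le _ _).trans (by simp))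
    (commutator_formula h2 (op_comm (Ne.symm h1.2) 0 1) (op_comm (Ne.symm h1.2) 0 0) (op_comm hne 0 0)
      (op_comm h1.1 1 0) (op_comm h1.1 0 0) (op_sq _ _) (op_sq _ _) (op_sq _ _) (op_sq _ _)
      ((add_comm _ _).trans (op_anti i₁ 0)))
  -- the element outside it
  have hC := (good_op (F := F) i₁ 0).mul (good_op i₂ 0) (op_comm h1.1 0 0) (by simp [h1.1])
  obtain ⟨g, hgΩ, hg⟩ := mk (x := op F i₀ 0) (u := op F i₃ 1) (v := op F i₃ 0) (C := op F i₁ 0 * op F i₂ 0)
    ((good_op i₀ 0).mul (good_op i₃ 1) (op_comm (Ne.symm h3.2) 0 1) (by simp [Ne.symm h3.2]))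
    ((good_op i₃ 0).mul hC ((op_comm (Ne.symm h13) 0 0).mul_right (op_comm h3.1 0 0))
      (by simp [h3.1, Ne.symm h13]))
    ((Finset.card_union_le _ _).trans (by simp))
    ((Finset.card_union_le _ _).trans (by
      have := Finset.card_union_le ({i₁} : Finset β) {i₂}
      simp at this ⊢; omega))
    (commutator_formula h2 (op_comm (Ne.symm h3.2) 0 1) (op_comm (Ne.symm h3.2) 0 0)
      ((op_comm (Ne.symm h1.2) 0 0).mul_right (op_comm hne 0 0))
      ((op_comm (Ne.symm h13) 1 0).mul_right (op_comm h3.1 1 0))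
      ((op_comm (Ne.symm h13) 0 0).mul_right (op_comm h3.1 0 0)) (op_sq _ _) (op_sq _ _) (op_sq _ _) hC.sq
      ((add_comm _ _).trans (op_anti i₃ 0)))
  refine ⟨omegaGL Q ⊓ stab e P, lt_of_le_not_ge (fun x hx => ⟨(inf_le_right : X ⊓ omegaGL Q ≤ _) hx,
    hnorm x hx, hnorm _ (inv_mem hx)⟩) (fun hle => hpure h (hle ⟨hhΩ, ?_, ?_⟩).1 hh),
    lt_of_le_not_ge inf_le_left (fun hle => ?_)⟩
  · rw [hh]; exact norms_pair h2 hne
  · have : matCoord e P ((h⁻¹ : GL ι F) : Matrix ι ι F) = 1 + op F i₀ 0 * op F i₂ 0 := by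
      calc matCoord e P ((h⁻¹ : GL ι F) : Matrix ι ι F)
          = matCoord e P ((h⁻¹ : GL ι F) : Matrix ι ι F) *
              (matCoord e P (h : Matrix ι ι F) * (1 + op F i₀ 0 * op F i₂ 0)) := by
            rw [hh, invol h2 ((good_op i₀ 0).mul (good_op i₂ 0) (op_comm hne 0 0) (by simp [hne])).sq, Matrix.mul_one]
        _ = _ := by rw [← Matrix.mul_assoc, ← matCoord_mul, Units.inv_mul, matCoord_one, Matrix.one_mul]
    rw [this]; exact norms_pair h2 hne
  · have := (hle hgΩ).2.1
    rw [hg] at this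
    exact not_norms_triple h2 (Ne.symm h1.2) hne h1.1 this

end Cfsg.Agent.Classical.Spin
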