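/-
The stabiliser of a tensor power of a plane or of a four dimensional symplectic space in characteristic two
normalises the span of one and the binary lowering and raising operators.
-/
import Cfsg.Agent.Lib.Classical.SpinOps
import Cfsg.Agent.Lib.Classical.FormTensorQuad

set_option autoImplicit false
set_option linter.unusedSectionVars false
set_option linter.style.haveILetI false

namespace Cfsg.Agent.Classical.Spin

open Matrix Cfsg.Geo

variable {F : Type*} [Field F] {k s t : ℕ} (ε : Fin k ≃ (Fin s → Fin 2))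

/-- An operator on one factor. -/
def opk (j : Fin s) (b : Fin 2) : Matrix (Fin k) (Fin k) F := (op F j b).submatrix ε ε

variable (F) in
/-- The Gram matrix of one factor. -/
def Jk : Matrix (Fin k) (Fin k) F := (J F (Fin s)).submatrix ε ε

variable (F) in
/-- The span of one and the operators on one factor. -/
def S : Submodule F (Matrix (Fin k) (Fin k) F) :=
  Submodule.span F (insert 1 (Set.range fun p : Fin s × Fin 2 => opk ε p.1 p.2))

/-- Splitting every factor into binary ones. -/
def bits : (Fin t → Fin k) ≃ (Fin t × Fin s → Fin 2) where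
  toFun x p := ε (x p.1) p.2
  invFun y i := ε.symm fun j => y (i, j)
  left_inv x := funext fun i => by simp
  right_inv y := funext fun p => by simp

theorem op_bits (i : Fin t) (j : Fin s) (b : Fin 2) :
    (op F (i, j) b).submatrix (bits ε) (bits ε) = facM i (opk ε j b) := by
  ext x y
  rw [facM_apply]
  simp only [Matrix.submatrix_apply, op, Matrix.of_apply, opk]
  by_cases h : ∀ l, l ≠ i → x l = y l
  · rw [if_pos h]
    refine if_congr (and_congr Iff.rfl ⟨fun e => funext fun j' => ?_, fun e => funext fun p => ?_⟩) rfl rfl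
    · have := congrFun e (i, j')
      simpa [bits, Function.update_apply] using this
    · obtain ⟨l, j'⟩ := p
      rcases eq_or_ne l i with rfl | hl
      · have := congrFun e j'
        simpa [bits, Function.update_apply] using this
      · simp [bits, Function.update_apply, hl, h l hl]
  · rw [if_neg h, if_neg]
    rintro ⟨-, e⟩
    refine h fun l hl => ε.injective (funext fun j' => ?_)
    have := congrFun e (l, j')
    simpa [bits, Function.update_apply, hl] using this.symm

theorem J_bits : (J F (Fin t × Fin s)).submatrix (bits ε) (bits ε) = pureM fun _ : Fin t => Jk F ε := by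
  ext x y
  simp only [Matrix.submatrix_apply, J, pureM, Jk, Matrix.of_apply, Fintype.prod_boole]
  split_ifs with h1 h2 h2
  · rfl
  · exact absurd (fun i => funext fun j => congrFun h1 (i, j)) h2
  · exact absurd (funext fun p : Fin t × Fin s => congrFun (h2 p.1) p.2) h1
  · rfl

theorem facM_one' (i : Fin t) : facM i (1 : Matrix (Fin k) (Fin k) F) = 1 := by
  rw [facM, Function.update_eq_self_iff.mpr rfl, pureM_one]

/-- The embedding of one factor as a linear map. -/
def facL (i : Fin t) : Matrix (Fin k) (Fin k) F →ₗ[F] Matrix (Fin t → Fin k) (Fin t → Fin k) F where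
  toFun := facM i
  map_add' Y Z := by ext x y; simp only [Matrix.add_apply, facM_apply]; split_ifs <;> simp
  map_smul' c Y := by ext x y; simp only [Matrix.smul_apply, RingHom.id_apply, facM_apply]; split_ifs <;> simp

theorem facM_mem_W (i : Fin t) {Y : Matrix (Fin k) (Fin k) F} (hY : Y ∈ S F ε) :
    (facM i Y).submatrix (bits ε).symm (bits ε).symm ∈ W F (Fin t × Fin s) := by
  induction hY using Submodule.span_induction with
  | mem Y hY =>
    rcases hY with rfl | ⟨p, rfl⟩
    · rw [facM_one', Matrix.submatrix_one_equiv]; exact one_mem_W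
    · rw [show facM i (opk ε p.1 p.2) = _ from (op_bits ε i p.1 p.2).symm]
      rw [Matrix.submatrix_submatrix]
      simpa using op_mem_W (F := F) (i, p.1) p.2
  | zero =>
    change (facL (F := F) i 0).submatrix _ _ ∈ _
    rw [map_zero]
    exact zero_mem _
  | add a b _ _ ha hb =>
    change (facL (F := F) i (a + b)).submatrix _ _ ∈ _
    rw [map_add, Matrix.submatrix_add]
    exact add_mem ha hb
  | smul c a _ ha =>
    change (facL (F := F) i (c • a)).submatrix _ _ ∈ _
    rw [map_smul, Matrix.submatrix_smul]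
    exact Submodule.smul_mem _ c ha

variable {ι : Type} [Fintype ι] [DecidableEq ι]

/-- A tensor wreath stabiliser whose factors normalise the span on one factor is not maximal in `Ω`. -/
theorem tensor_not_maximal (h2 : (2 : F) = 0)
    (hinv : ∀ (A : GL (Fin k) F) (l : F), l ≠ 0 →
      (A : Matrix (Fin k) (Fin k) F)ᵀ * Jk F ε * (A : Matrix (Fin k) (Fin k) F) = l • Jk F ε →
      ∀ M ∈ S F ε, ∃ Y ∈ S F ε, (A : Matrix (Fin k) (Fin k) F) * M = Y * (A : Matrix (Fin k) (Fin k) F))
    (hs : 0 < s) (ht : 2 ≤ t) (hts : 4 ≤ t * s) (e : ι ≃ (Fin t → Fin k)) (P : GL ι F) {Q : (ι → F) → F} {c : F}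
    (hc : c ≠ 0) (hsmul : ∀ (a : F) v, Q (a • v) = a ^ 2 * Q v)
    (hpol : ∀ u v : (Fin t → Fin k) → F,
      QuadraticMap.polar Q ((P : Matrix ι ι F) *ᵥ (u ∘ e)) ((P : Matrix ι ι F) *ᵥ (v ∘ e)) =
        c * (u ⬝ᵥ ((pureM fun _ => Jk F ε) *ᵥ v)))
    (hsing : ∀ x, Q ((P : Matrix ι ι F) *ᵥ (Pi.single x 1 ∘ e)) = 0) :
    ∃ K : Subgroup (GL ι F), tensorWreathSubgroup k t e P ⊓ omegaGL Q < K ∧ K < omegaGL Q := by
  classical
  set φ := bits (t := t) ε with hφ
  set e₂ := e.trans φ with he₂
  have hk : 0 < k := by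
    rcases Nat.eq_zero_or_pos k with h | h
    · subst h; exact (ε.symm fun _ => 0).elim0
    · exact h
  have hco : ∀ M : Matrix ι ι F, matCoord e₂ P M = (matCoord e P M).submatrix φ.symm φ.symm := fun M => rfl
  have hcomp : ∀ v : (Fin t × Fin s → Fin 2) → F, v ∘ e₂ = (v ∘ φ) ∘ e := fun v => rfl
  have hQF : IsQF (fun v => Q ((P : Matrix ι ι F) *ᵥ (v ∘ e₂))) c := by
    refine ⟨fun a v => ?_, fun u v => ?_, fun x => ?_⟩
    · rw [show (a • v) ∘ e₂ = a • (v ∘ e₂) from rfl, Matrix.mulVec_smul, hsmul]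
    · rw [show (u + v) ∘ e₂ = u ∘ e₂ + v ∘ e₂ from rfl, Matrix.mulVec_add]
      have h1 := hpol (u ∘ φ) (v ∘ φ)
      rw [← J_bits ε, Matrix.submatrix_mulVec_equiv, show (v ∘ φ) ∘ (bits ε).symm = v from funext fun z => by simp [hφ],
        hφ, comp_equiv_dotProduct_comp_equiv] at h1
      simp only [QuadraticMap.polar] at h1
      simp only [hcomp, hφ]
      linear_combination h1
    · rw [hcomp, show (Pi.single x (1 : F) : (Fin t × Fin s → Fin 2) → F) ∘ φ = Pi.single (φ.symm x) 1 from
        funext fun z => by simp [Pi.single_apply, Equiv.eq_symm_apply]]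
      exact hsing _
  have hJunit : IsUnit (Jk F ε) := by
    refine IsUnit.of_mul_eq_one (Jk F ε) ?_
    rw [Jk, Matrix.submatrix_mul_equiv]
    convert Matrix.submatrix_one_equiv ε
    ext x y
    rw [J_mul_apply]
    simp [J, flipAll_flipAll, Matrix.one_apply, eq_comm]
  refine not_maximal h2 e₂ P hQF (by simpa using hts) (tensorWreathSubgroup k t e P) ?_
    (i₀ := (⟨0, by omega⟩, ⟨0, hs⟩)) (i₂ := (⟨1, by omega⟩, ⟨0, hs⟩)) (by simp) ?_
  · intro g hg
    obtain ⟨π, A, hA⟩ := wreath_normal_form ((mem_conj_reindex_iff e P).mp hg.1)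
    rw [coe_glReindex_conj] at hA
    have hiso := (mem_isometryGroup_iff.mp (omegaGL_le_isometry hg.2))
    have hform : (factorPermM k F π * pureM fun i => (A i : Matrix (Fin k) (Fin k) F))ᵀ *
        (c • pureM fun _ => Jk F ε) *
        (factorPermM k F π * pureM fun i => (A i : Matrix (Fin k) (Fin k) F)).map (RingEquiv.refl F) =
          c • pureM fun _ => Jk F ε := by
      rw [← hA]
      set G := matCoord e P (g : Matrix ι ι F) with hG
      rw [show G.map (RingEquiv.refl F) = G from Matrix.ext fun _ _ => rfl, Matrix.mul_smul, Matrix.smul_mul]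
      congr 1
      refine Matrix.ext_of_mulVec_single fun x => ?_
      have hv : ∀ w : (Fin t → Fin k) → F,
          (P : Matrix ι ι F) *ᵥ ((G *ᵥ w) ∘ e) = (g : Matrix ι ι F) *ᵥ ((P : Matrix ι ι F) *ᵥ (w ∘ e)) := fun w => by
        refine vecCoord_injective e P ?_
        rw [vecCoord_mulVec e P (g : Matrix ι ι F), ← hG]
        simp [vecCoord, Function.comp_assoc, Matrix.mulVec_mulVec]
      refine dotProduct_eq _ _ fun y => ?_
      rw [dotProduct_comm, dotProduct_comm _ y]
      refine mul_left_cancel₀ hc ?_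
      rw [← hpol y, ← Matrix.mulVec_mulVec, ← Matrix.mulVec_mulVec, Matrix.dotProduct_mulVec, Matrix.vecMul_transpose,
        ← hpol]
      simp only [QuadraticMap.polar, hv, ← Matrix.mulVec_add, hiso]
    refine norms_of_gens fun p b => ?_
    obtain ⟨i, j⟩ := p
    obtain ⟨l, hl, hsim⟩ := wreath_factor_similitude hc hJunit hform i
    rw [show (A i : Matrix (Fin k) (Fin k) F).map (RingEquiv.refl F) = _ from Matrix.ext fun _ _ => rfl] at hsim
    obtain ⟨Y, hY, hYe⟩ := hinv (A i) l hl hsim (opk ε j b)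
      (Submodule.subset_span (Set.mem_insert_of_mem _ ⟨(j, b), rfl⟩))
    refine ⟨_, facM_mem_W ε (π i) hY, ?_⟩
    rw [hco, hA, show op F (i, j) b = (facM i (opk ε j b)).submatrix φ.symm φ.symm by
      rw [← op_bits ε, Matrix.submatrix_submatrix]; simp [hφ], Matrix.submatrix_mul_equiv, Matrix.submatrix_mul_equiv]
    congr 1
    rw [← Matrix.mul_assoc, ← factorPermM_facM, Matrix.mul_assoc, Matrix.mul_assoc]
    congr 1
    rw [facM, facM, pureM_mul, pureM_mul]
    refine congrArg _ (funext fun i' => ?_)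
    rcases eq_or_ne i' i with rfl | h
    · simp [hYe]
    · simp [Function.update_of_ne h]
  · intro g hg heq
    obtain ⟨π, A, hA⟩ := wreath_normal_form ((mem_conj_reindex_iff e P).mp hg)
    rw [coe_glReindex_conj] at hA
    set p₀ : Fin t × Fin s := (⟨0, by omega⟩, ⟨0, hs⟩)
    set p₁ : Fin t × Fin s := (⟨1, by omega⟩, ⟨0, hs⟩)
    have hp : p₀ ≠ p₁ := by simp [p₀, p₁]
    set one : Fin t × Fin s → Fin 2 := fun _ => 1
    have hval : ∀ x, matCoord e₂ P (g : Matrix ι ι F) x one =
        ∏ i, (A i : Matrix (Fin k) (Fin k) F) (ε.symm fun j => x (π i, j)) (ε.symm fun _ => 1) := by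
      intro x
      rw [hco, hA, Matrix.submatrix_apply, factorPermM_mul_apply]
      simp [pureM, hφ, bits, one]
    set X' := Function.update one p₀ 0
    set Y' := Function.update one p₁ 0
    set Y := Function.update X' p₁ 0
    have key : matCoord e₂ P (g : Matrix ι ι F) one one * matCoord e₂ P (g : Matrix ι ι F) Y one =
        matCoord e₂ P (g : Matrix ι ι F) X' one * matCoord e₂ P (g : Matrix ι ι F) Y' one := by
      rw [hval, hval, hval, hval, ← Finset.prod_mul_distrib, ← Finset.prod_mul_distrib]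
      refine Finset.prod_congr rfl fun i _ => ?_
      by_cases h0 : π i = p₀.1
      · have hn : ∀ j, (π i, j) ≠ p₁ := fun j e' => by
          have := congrArg Prod.fst e'
          rw [h0] at this
          simp [p₀, p₁] at this
        simp only [X', Y', Y, Function.update_of_ne (hn _), mul_comm]
      · have hn : ∀ j, (π i, j) ≠ p₀ := fun j e' => h0 (congrArg Prod.fst e')
        simp only [X', Y', Y, Function.update_of_ne (hn _), Function.update_apply]
    have hG : ∀ x, matCoord e₂ P (g : Matrix ι ι F) x one =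
        (1 : Matrix (Fin t × Fin s → Fin 2) (Fin t × Fin s → Fin 2) F) x one +
          if x p₀ = 0 ∧ x p₁ = 0 ∧ Function.update (Function.update x p₀ 1) p₁ 1 = one then 1 else 0 := by
      intro x
      rw [heq, Matrix.add_apply, op_mul_apply]
      congr 1
      simp only [op, Matrix.of_apply, Function.update_of_ne hp.symm, zero_add]
      by_cases h0 : x p₀ = 0 <;> by_cases h1 : x p₁ = 0 <;> simp [h0, h1, eq_comm]
    have h11 : matCoord e₂ P (g : Matrix ι ι F) one one = 1 := by
      rw [hG, Matrix.one_apply_eq, if_neg (by simp [one]), add_zero]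
    have hY1 : matCoord e₂ P (g : Matrix ι ι F) Y one = 1 := by
      rw [hG, Matrix.one_apply_ne, zero_add, if_pos]
      · refine ⟨by simp [Y, X', Function.update_of_ne hp], by simp [Y], funext fun p => ?_⟩
        simp only [Y, X', one, Function.update_apply]
        split_ifs <;> rfl
      · intro h
        have := congrFun h p₁
        simp [Y, one] at this
    have hX : matCoord e₂ P (g : Matrix ι ι F) X' one = 0 := by
      rw [hG, Matrix.one_apply_ne, zero_add, if_neg]
      · simp [X', one, Function.update_of_ne hp.symm]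
      · intro h
        have := congrFun h p₀
        simp [X', one] at this
    rw [h11, hY1, hX, zero_mul, one_mul] at key
    exact one_ne_zero key

/-- The index of a plane. -/
def eps2 : Fin 2 ≃ (Fin 1 → Fin 2) := (Equiv.funUnique (Fin 1) (Fin 2)).symm

/-- The index of a four dimensional space. -/
def eps4 : Fin 4 ≃ (Fin 2 → Fin 2) where
  toFun := ![![0, 0], ![0, 1], ![1, 0], ![1, 1]]
  invFun x := ![![0, 1], ![2, 3]] (x 0) (x 1)
  left_inv := by decide
  right_inv := by decide

theorem inv_plane (h2 : (2 : F) = 0) (A : GL (Fin 2) F) (M : Matrix (Fin 2) (Fin 2) F) (hM : M ∈ S F eps2) :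
    ∃ Y ∈ S F eps2, (A : Matrix (Fin 2) (Fin 2) F) * M = Y * (A : Matrix (Fin 2) (Fin 2) F) := by
  have hmem : ∀ M : Matrix (Fin 2) (Fin 2) F, M ∈ S F eps2 ↔ M 0 0 + M 1 1 = 0 := by
    intro M
    constructor
    · intro hM
      induction hM using Submodule.span_induction with
      | mem Y hY =>
        rcases hY with rfl | ⟨⟨j, b⟩, rfl⟩
        · simp only [Matrix.one_apply_eq]; rwa [one_add_one_eq_two]
        · fin_cases j; fin_cases b <;> simp [opk, op, eps2, funext_iff, Function.update_apply]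
      | zero => simp
      | add a b _ _ ha hb => simp only [Matrix.add_apply]; linear_combination ha + hb
      | smul c a _ ha => simp only [Matrix.smul_apply, smul_eq_mul]; linear_combination c * ha
    · intro h
      have e : M = M 0 0 • (1 : Matrix (Fin 2) (Fin 2) F) + M 0 1 • opk eps2 0 0 + M 1 0 • opk eps2 0 1 := by
        ext a b
        fin_cases a <;> fin_cases b <;> simp [opk, op, eps2, funext_iff, Function.update_apply, Matrix.one_apply]
        linear_combination h - M 0 0 * h2
      rw [e]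
      exact add_mem (add_mem (Submodule.smul_mem _ _ (Submodule.subset_span (Set.mem_insert _ _)))
        (Submodule.smul_mem _ _ (Submodule.subset_span (Set.mem_insert_of_mem _ ⟨(0, 0), rfl⟩))))
        (Submodule.smul_mem _ _ (Submodule.subset_span (Set.mem_insert_of_mem _ ⟨(0, 1), rfl⟩)))
  refine ⟨(A : Matrix (Fin 2) (Fin 2) F) * M * ((A⁻¹ : GL (Fin 2) F) : Matrix (Fin 2) (Fin 2) F), ?_, ?_⟩
  · rw [hmem] at hM ⊢
    have := Matrix.trace_units_conj A M
    rw [Matrix.trace_fin_two, Matrix.trace_fin_two] at this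
    rw [← hM, ← this]
  · rw [Matrix.mul_assoc _ _ (A : Matrix (Fin 2) (Fin 2) F), Units.inv_mul, Matrix.mul_one]

/-- The linear equations of the span on a four dimensional factor. -/
structure Lin (M : Matrix (Fin 4) (Fin 4) F) : Prop where
  z03 : M 0 3 = 0
  z12 : M 1 2 = 0
  z21 : M 2 1 = 0
  z30 : M 3 0 = 0
  d1 : M 1 1 = M 0 0
  d2 : M 2 2 = M 0 0
  d3 : M 3 3 = M 0 0
  e23 : M 2 3 = M 0 1
  e13 : M 1 3 = M 0 2
  e32 : M 3 2 = M 1 0
  e31 : M 3 1 = M 2 0

theorem mem_S_four {M : Matrix (Fin 4) (Fin 4) F} : M ∈ S F eps4 ↔ Lin M := by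
  constructor
  · intro hM
    induction hM using Submodule.span_induction with
    | mem Y hY =>
      rcases hY with rfl | ⟨⟨j, b⟩, rfl⟩
      · constructor <;> simp
      · fin_cases j <;> fin_cases b <;> constructor <;>
          simp [opk, op, eps4, funext_iff, Fin.forall_fin_two, Function.update_apply]
    | zero => constructor <;> simp
    | add a b _ _ ha hb =>
      constructor <;> simp [ha.z03, ha.z12, ha.z21, ha.z30, ha.d1, ha.d2, ha.d3, ha.e23, ha.e13, ha.e32, ha.e31,
        hb.z03, hb.z12, hb.z21, hb.z30, hb.d1, hb.d2, hb.d3, hb.e23, hb.e13, hb.e32, hb.e31]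
    | smul c a _ ha =>
      constructor <;> simp [ha.z03, ha.z12, ha.z21, ha.z30, ha.d1, ha.d2, ha.d3, ha.e23, ha.e13, ha.e32, ha.e31]
  · intro h
    have e : M = M 0 0 • (1 : Matrix (Fin 4) (Fin 4) F) + M 0 1 • opk eps4 1 0 + M 1 0 • opk eps4 1 1 +
        M 0 2 • opk eps4 0 0 + M 2 0 • opk eps4 0 1 := by
      ext a b
      simp only [Matrix.add_apply, Matrix.smul_apply, opk, op, Matrix.submatrix_apply, Matrix.of_apply]
      fin_cases a <;> fin_cases b <;>
        simp +decide [eps4, funext_iff, Fin.forall_fin_two, Function.update_apply, Matrix.one_apply, h.z03, h.z12,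
          h.z21, h.z30, h.d1, h.d2, h.d3, h.e23, h.e13, h.e32, h.e31]
    rw [e]
    exact add_mem (add_mem (add_mem (add_mem (Submodule.smul_mem _ _ (Submodule.subset_span (Set.mem_insert _ _)))
      (Submodule.smul_mem _ _ (Submodule.subset_span (Set.mem_insert_of_mem _ ⟨(1, 0), rfl⟩))))
      (Submodule.smul_mem _ _ (Submodule.subset_span (Set.mem_insert_of_mem _ ⟨(1, 1), rfl⟩))))
      (Submodule.smul_mem _ _ (Submodule.subset_span (Set.mem_insert_of_mem _ ⟨(0, 0), rfl⟩))))
      (Submodule.smul_mem _ _ (Submodule.subset_span (Set.mem_insert_of_mem _ ⟨(0, 1), rfl⟩)))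

theorem Jk_four_mul (M : Matrix (Fin 4) (Fin 4) F) (x y : Fin 4) : (Jk F eps4 * M) x y = M x.rev y := by
  rw [Matrix.mul_apply, Finset.sum_eq_single x.rev]
  · fin_cases x <;> simp [Jk, J, eps4, flipAll, funext_iff, Fin.forall_fin_two, Fin.rev]
  · intro z _ hz
    fin_cases x <;> fin_cases z <;> simp_all [Jk, J, eps4, flipAll, funext_iff, Fin.forall_fin_two, Fin.rev]
  · simp

theorem inv_four (h2 : (2 : F) = 0) (A : GL (Fin 4) F) (l : F) (hl : l ≠ 0)
    (hA : (A : Matrix (Fin 4) (Fin 4) F)ᵀ * Jk F eps4 * (A : Matrix (Fin 4) (Fin 4) F) = l • Jk F eps4)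
    (M : Matrix (Fin 4) (Fin 4) F) (hM : M ∈ S F eps4) :
    ∃ Y ∈ S F eps4, (A : Matrix (Fin 4) (Fin 4) F) * M = Y * (A : Matrix (Fin 4) (Fin 4) F) := by
  set a := (A : Matrix (Fin 4) (Fin 4) F) with ha
  set ai := ((A⁻¹ : GL (Fin 4) F) : Matrix (Fin 4) (Fin 4) F) with hai
  have hai1 : a * ai = 1 := Units.mul_inv A
  have hai2 : ai * a = 1 := Units.inv_mul A
  refine ⟨a * M * ai, ?_, by rw [Matrix.mul_assoc _ ai a, hai2, Matrix.mul_one]⟩
  rw [mem_S_four] at hM ⊢
  -- alternation of the product with the form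
  have hG : ∀ x y, (Jk F eps4 * M) y x = (Jk F eps4 * M) x y := by
    intro x y
    rw [Jk_four_mul, Jk_four_mul]
    fin_cases x <;> fin_cases y <;> simp [Fin.rev, hM.z03, hM.z12, hM.z21, hM.z30, hM.d1, hM.d2, hM.d3, hM.e23, hM.e13, hM.e32, hM.e31]
  have hGd : ∀ x, (Jk F eps4 * M) x x = 0 := by
    intro x
    rw [Jk_four_mul]
    fin_cases x <;> simp [Fin.rev, hM.z03, hM.z12, hM.z21, hM.z30]
  have hJa : Jk F eps4 * a = l • (aiᵀ * Jk F eps4) := by
    rw [← Matrix.mul_smul, ← hA, ← Matrix.mul_assoc, ← Matrix.mul_assoc, ← Matrix.transpose_mul, hai1,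
      Matrix.transpose_one, Matrix.one_mul]
  have hcong : Jk F eps4 * (a * M * ai) = l • (aiᵀ * (Jk F eps4 * M) * ai) := by
    rw [← Matrix.mul_assoc, ← Matrix.mul_assoc, hJa, Matrix.smul_mul, Matrix.smul_mul, Matrix.mul_assoc aiᵀ]
  set Y := a * M * ai with hY
  have hYs : ∀ x y, Y x.rev y = Y y.rev x := by
    intro x y
    rw [← Jk_four_mul Y x y, ← Jk_four_mul Y y x, hcong]
    have hsym : (Jk F eps4 * M)ᵀ = Jk F eps4 * M := Matrix.ext fun x y => hG x y
    have : (aiᵀ * (Jk F eps4 * M) * ai)ᵀ = aiᵀ * (Jk F eps4 * M) * ai := by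
      rw [Matrix.transpose_mul, Matrix.transpose_mul, Matrix.transpose_transpose, hsym]
      simp only [Matrix.mul_assoc]
    rw [Matrix.smul_apply, Matrix.smul_apply, ← Matrix.transpose_apply (aiᵀ * (Jk F eps4 * M) * ai) y x, this]
  have hYd : ∀ x : Fin 4, Y x.rev x = 0 := by
    intro x
    rw [← Jk_four_mul Y x x, hcong, Matrix.smul_apply]
    refine smul_eq_zero_of_right _ ?_
    have := alternating_dot h2 hG hGd (fun z => ai z x)
    rw [← this]
    generalize Jk F eps4 * M = G
    simp only [Matrix.mul_apply, Matrix.transpose_apply, dotProduct, Matrix.mulVec, Finset.sum_mul, Finset.mul_sum]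
    rw [Finset.sum_comm]
    exact Finset.sum_congr rfl fun _ _ => Finset.sum_congr rfl fun _ _ => by ring
  -- the square is scalar
  obtain ⟨d, hd⟩ : ∃ d : F, M * M = d • 1 := by
    refine ⟨M 0 0 * M 0 0 + M 0 1 * M 1 0 + M 0 2 * M 2 0, ?_⟩
    ext x y
    fin_cases x <;> fin_cases y <;>
      simp [Matrix.mul_apply, Fin.sum_univ_four, hM.z03, hM.z12, hM.z21, hM.z30, hM.d1, hM.d2, hM.d3, hM.e23, hM.e13, hM.e32, hM.e31] <;>
      first
        | ring1
        | linear_combination (M 0 0 * M 0 1) * h2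
        | linear_combination (M 0 0 * M 1 0) * h2
        | linear_combination (M 0 0 * M 0 2) * h2
        | linear_combination (M 0 0 * M 2 0) * h2
        | linear_combination (M 0 1 * M 0 2) * h2
        | linear_combination (M 1 0 * M 2 0) * h2
        | linear_combination (M 1 0 * M 0 2) * h2
        | linear_combination (M 2 0 * M 0 1) * h2
  have hYY : Y * Y = d • 1 := by
    calc Y * Y = a * M * (ai * a) * M * ai := by rw [hY]; simp only [Matrix.mul_assoc]
      _ = a * (M * M) * ai := by rw [hai2, Matrix.mul_one]; simp only [Matrix.mul_assoc]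
      _ = _ := by rw [hd, Matrix.mul_smul, Matrix.smul_mul, Matrix.mul_one, hai1]
  have z03 : Y 0 3 = 0 := hYd 3
  have z12 : Y 1 2 = 0 := hYd 2
  have z21 : Y 2 1 = 0 := hYd 1
  have z30 : Y 3 0 = 0 := hYd 0
  have d3 : Y 3 3 = Y 0 0 := hYs 0 3
  have d2 : Y 2 2 = Y 1 1 := hYs 1 2
  have e31 : Y 3 1 = Y 2 0 := hYs 0 1
  have e32 : Y 3 2 = Y 1 0 := hYs 0 2
  have e23 : Y 2 3 = Y 0 1 := hYs 1 3
  have e13 : Y 1 3 = Y 0 2 := hYs 2 3
  have hent : ∀ x y, (Y * Y) x y = (d • (1 : Matrix (Fin 4) (Fin 4) F)) x y := fun x y => by rw [hYY]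
  have h00 := hent 0 0
  have h11 := hent 1 1
  have h01 := hent 0 1
  have h02 := hent 0 2
  simp [Matrix.mul_apply, Fin.sum_univ_four, z03, z12, z21, z30, d2, d3, e31, e32, e23, e13] at h00 h11 h01 h02
  have hd1 : Y 1 1 = Y 0 0 := by
    by_contra hne
    have hne' : Y 0 0 + Y 1 1 ≠ 0 := fun h => hne (by linear_combination h - Y 0 0 * h2)
    have y01 : Y 0 1 = 0 := (mul_eq_zero.mp (show (Y 0 0 + Y 1 1) * Y 0 1 = 0 by
      linear_combination h01)).resolve_left hne'
    have y02 : Y 0 2 = 0 := (mul_eq_zero.mp (show (Y 0 0 + Y 1 1) * Y 0 2 = 0 by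
      linear_combination h02)).resolve_left hne'
    simp [y01, y02] at h00 h11
    refine hne' (mul_self_eq_zero.mp ?_)
    linear_combination h00 + h11 + (Y 0 0 * Y 1 1) * h2 + d * h2
  exact ⟨z03, z12, z21, z30, hd1, d2.trans hd1, d3, e23, e13, e32, e31⟩

end Cfsg.Agent.Classical.Spin
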