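/-
The stabiliser of two subspaces is properly contained in the stabiliser of one of them.
-/
import Mathlib
import Cfsg.Agent.Lib.Classical.SubspaceMaximal

set_option autoImplicit false

namespace Cfsg.Agent.Classical

open Matrix Cfsg.Geo

variable {ι : Type} [Fintype ι] [DecidableEq ι] {F : Type*} [Field F]

theorem pair_stab_not_max {W U : Submodule F (ι → F)} (hW0 : W ≠ ⊥) (hW1 : W ≠ ⊤) {u v : ι → F}
    (hu : u ∈ U) (hv : v ∉ U) (huv : u ∉ W ⊔ Submodule.span F {v}) :
    ∃ K : Subgroup (GL ι F), subspaceStabilizer W ⊓ subspaceStabilizer U ⊓ specialLinear ι F < K ∧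
      K < specialLinear ι F := by
  refine ⟨subspaceStabilizer W ⊓ specialLinear ι F, ?_, ?_⟩
  · refine lt_of_le_of_ne (inf_le_inf_right _ inf_le_left) fun he => ?_
    obtain ⟨b, hb, hbu⟩ := exists_axis huv
    have hbv : b ⬝ᵥ v = 0 := hb v (Submodule.mem_sup_right (Submodule.mem_span_singleton_self v))
    obtain ⟨g, hg, hgx⟩ := exists_transvection_gl hbv
    have hgW : g ∈ subspaceStabilizer W ⊓ specialLinear ι F := ⟨mem_subspaceStabilizer_iff.2 fun w hw => by
      rw [hgx, hb w (Submodule.mem_sup_left hw), zero_smul, add_zero]; exact hw, hg⟩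
    rw [← he] at hgW
    have := mem_subspaceStabilizer_iff.1 hgW.1.2 u hu
    rw [hgx, hbu, one_smul, Submodule.add_mem_iff_right _ hu] at this
    exact hv this
  · refine lt_of_le_of_ne inf_le_right fun he => ?_
    obtain ⟨v', -, hv'⟩ := SetLike.exists_of_lt (lt_top_iff_ne_top.2 hW1)
    obtain ⟨w, hw, hw0⟩ := Submodule.exists_mem_ne_zero_of_ne_bot hW0
    have hwv : w ∉ Submodule.span F {v'} := fun h => by
      obtain ⟨c, rfl⟩ := Submodule.mem_span_singleton.1 h
      have hc : c ≠ 0 := fun h0 => hw0 (by rw [h0, zero_smul])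
      exact hv' (by simpa [smul_smul, inv_mul_cancel₀ hc] using W.smul_mem c⁻¹ hw)
    obtain ⟨b, hb, hbw⟩ := exists_axis hwv
    obtain ⟨g, hg, hgx⟩ := exists_transvection_gl (hb v' (Submodule.mem_span_singleton_self v'))
    have hgW := mem_subspaceStabilizer_iff.1 (he.symm ▸ hg : g ∈ subspaceStabilizer W ⊓ specialLinear ι F).1 w hw
    rw [hgx, hbw, one_smul, Submodule.add_mem_iff_right _ hw] at hgW
    exact hv' hgW

end Cfsg.Agent.Classical
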