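import Mathlib

/-!
# The stabiliser of a non-degenerate subspace in the isometry group of a sesquilinear form

It is the product of the isometry groups of the subspace and of its orthogonal complement.
-/

set_option autoImplicit false
set_option linter.unusedSectionVars false

namespace Cfsg.Agent.Classical.StabSplit

open Module

variable {F : Type*} [Field F] {V V' : Type*} [AddCommGroup V] [Module F V] [AddCommGroup V'] [Module F V']

/-- The linear automorphisms preserving a function of two vectors. -/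
def isoF (h : V → V → F) : Subgroup (V ≃ₗ[F] V) where
  carrier := {g | ∀ x y, h (g x) (g y) = h x y}
  one_mem' := fun _ _ => rfl
  mul_mem' {g g'} hg hg' x y := (hg (g' x) (g' y)).trans (hg' x y)
  inv_mem' {g} hg x y := by
    have h1 := hg (g.symm x) (g.symm y)
    rw [g.apply_symm_apply, g.apply_symm_apply] at h1
    exact h1.symm

theorem mem_isoF {h : V → V → F} {g : V ≃ₗ[F] V} : g ∈ isoF h ↔ ∀ x y, h (g x) (g y) = h x y := Iff.rfl

/-- The stabiliser of a subspace. -/
def stab (h : V → V → F) (W : Submodule F V) : Subgroup ↥(isoF h) where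
  carrier := {g | ∀ v, v ∈ W ↔ g.1 v ∈ W}
  one_mem' := fun _ => Iff.rfl
  mul_mem' {g g'} hg hg' v := (hg' v).trans (hg (g'.1 v))
  inv_mem' {g} hg v := by
    have h1 := hg (g.1.symm v)
    rw [g.1.apply_symm_apply] at h1
    exact h1.symm

theorem mem_stab {h : V → V → F} {W : Submodule F V} {g : ↥(isoF h)} :
    g ∈ stab h W ↔ ∀ v, v ∈ W ↔ g.1 v ∈ W := Iff.rfl

/-- Isometric spaces have isomorphic groups. -/
def congr {h : V → V → F} {h' : V' → V' → F} (e : V ≃ₗ[F] V') (he : ∀ x y, h' (e x) (e y) = h x y) :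
    ↥(isoF h) ≃* ↥(isoF h') where
  toFun g := ⟨e.symm.trans (g.1.trans e), fun x y => by
    show h' (e (g.1 (e.symm x))) (e (g.1 (e.symm y))) = h' x y
    rw [he, g.2, ← he, e.apply_symm_apply, e.apply_symm_apply]⟩
  invFun g := ⟨e.trans (g.1.trans e.symm), fun x y => by
    show h (e.symm (g.1 (e x))) (e.symm (g.1 (e y))) = h x y
    rw [← he, e.apply_symm_apply, e.apply_symm_apply, g.2, he]⟩
  left_inv g := by
    apply Subtype.ext; ext x; simp
  right_inv g := by
    apply Subtype.ext; ext x; simp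
  map_mul' g g' := by
    apply Subtype.ext; ext x; simp [LinearEquiv.mul_apply]

variable (h : V → V → F) (τ : F → F)
  (h1 : ∀ x y z, h (x + y) z = h x z + h y z) (h2 : ∀ x y z, h x (y + z) = h x y + h x z)
  (h3 : ∀ (c : F) x z, h (c • x) z = c * h x z) (h4 : ∀ (c : F) x z, h x (c • z) = τ c * h x z)
  (hr : ∀ x y, h x y = 0 → h y x = 0)

/-- The orthogonal complement. -/
def perp (W : Submodule F V) : Submodule F V where
  carrier := {v | ∀ w ∈ W, h v w = 0}
  zero_mem' w _ := by
    have := h3 0 0 w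
    simpa using this
  add_mem' {x y} hx hy w hw := by rw [h1, hx w hw, hy w hw, add_zero]
  smul_mem' c x hx w hw := by rw [h3, hx w hw, mul_zero]

theorem mem_perp {W : Submodule F V} {v : V} : v ∈ perp h h1 h3 W ↔ ∀ w ∈ W, h v w = 0 := Iff.rfl

include h2 h4 in
/-- A non-degenerate subspace has a complement orthogonal to it. -/
theorem isCompl_perp [FiniteDimensional F V] {W : Submodule F V}
    (hW : ∀ u ∈ W, (∀ v ∈ W, h u v = 0) → u = 0) : IsCompl W (perp h h1 h3 W) := by
  have hd : Disjoint W (perp h h1 h3 W) :=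
    Submodule.disjoint_def.mpr fun x hx hx' => hW x hx hx'
  refine ⟨hd, codisjoint_iff.mpr (Submodule.eq_top_of_finrank_eq (le_antisymm (Submodule.finrank_le _) ?_))⟩
  let b := Module.finBasis F W
  let T : V →ₗ[F] (Fin (finrank F W) → F) :=
    { toFun := fun v i => h v (b i : V)
      map_add' := fun x y => funext fun i => h1 x y _
      map_smul' := fun c x => funext fun i => h3 c x _ }
  have hker : LinearMap.ker T ≤ perp h h1 h3 W := fun v hv w hw => by
    have hv' : ∀ i, h v (b i : V) = 0 := congrFun (LinearMap.mem_ker.mp hv)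
    let R : W →+ F := AddMonoidHom.mk' (fun x => h v (x : V)) (fun x y => h2 v _ _)
    have hR : R ⟨w, hw⟩ = 0 := by
      rw [← b.sum_repr ⟨w, hw⟩, map_sum]
      refine Finset.sum_eq_zero fun i _ => ?_
      show h v ((b.repr ⟨w, hw⟩ i • b i : W) : V) = 0
      rw [Submodule.coe_smul, h4, hv' i, mul_zero]
    exact hR
  have e1 := T.finrank_range_add_finrank_ker
  have e2 : finrank F (LinearMap.range T) ≤ finrank F W := by
    refine (Submodule.finrank_le _).trans ?_
    rw [finrank_fintype_fun_eq_card, Fintype.card_fin]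
  have e3 := Submodule.finrank_mono hker
  have e4 := Submodule.finrank_sup_add_finrank_inf_eq W (perp h h1 h3 W)
  rw [disjoint_iff.mp hd, finrank_bot, add_zero] at e4
  omega

include hr in
theorem stab_perp {W : Submodule F V} {g : ↥(isoF h)} (hg : g ∈ stab h W) (v : V) :
    v ∈ perp h h1 h3 W ↔ g.1 v ∈ perp h h1 h3 W := by
  refine ⟨fun hv w hw => ?_, fun hv w hw => ?_⟩
  · obtain ⟨w', rfl⟩ : ∃ w', g.1 w' = w := ⟨g.1.symm w, g.1.apply_symm_apply w⟩
    rw [g.2]
    exact hv w' ((hg w').mpr hw)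
  · rw [← g.2]
    exact hv _ ((hg w).mp hw)

include h2 h4 hr in
/-- The splitting. -/
theorem exists_stab_equiv [FiniteDimensional F V] {W : Submodule F V}
    (hW : ∀ u ∈ W, (∀ v ∈ W, h u v = 0) → u = 0) :
    Nonempty (↥(stab h W) ≃*
      ↥(isoF fun x y : W => h x y) × ↥(isoF fun x y : perp h h1 h3 W => h x y)) := by
  have hc := isCompl_perp h τ h1 h2 h3 h4 hW
  let U := perp h h1 h3 W
  let E := W.prodEquivOfIsCompl U hc
  have horth : ∀ (p p' : W × U), h (E p) (E p') = h (p.1 : V) p'.1 + h (p.2 : V) p'.2 := by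
    intro p p'
    show h ((p.1 : V) + p.2) ((p'.1 : V) + p'.2) = _
    rw [h1, h2, h2, p.2.2 p'.1 p'.1.2, hr _ _ (p'.2.2 p.1 p.1.2), add_zero, zero_add]
  let A : ↥(stab h W) → (W ≃ₗ[F] W) := fun g =>
    (g.1.1 : V ≃ₗ[F] V).ofSubmodules W W (le_antisymm
      (Submodule.map_le_iff_le_comap.mpr fun v hv => (g.2 v).mp hv)
      fun v hv => ⟨g.1.1.symm v, (g.2 _).mpr (by rw [g.1.1.apply_symm_apply]; exact hv), g.1.1.apply_symm_apply v⟩)
  let B : ↥(stab h W) → (U ≃ₗ[F] U) := fun g =>
    (g.1.1 : V ≃ₗ[F] V).ofSubmodules U U (le_antisymm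
      (Submodule.map_le_iff_le_comap.mpr fun v hv => (stab_perp h h1 h3 hr g.2 v).mp hv)
      fun v hv => ⟨g.1.1.symm v, (stab_perp h h1 h3 hr g.2 _).mpr (by rw [g.1.1.apply_symm_apply]; exact hv),
        g.1.1.apply_symm_apply v⟩)
  let Φ : ↥(stab h W) →* ↥(isoF fun x y : W => h x y) × ↥(isoF fun x y : U => h x y) :=
    MonoidHom.mk' (fun g => (⟨A g, fun x y => g.1.2 x y⟩, ⟨B g, fun x y => g.1.2 x y⟩))
      fun g g' => Prod.ext (Subtype.ext (LinearEquiv.ext fun x => rfl)) (Subtype.ext (LinearEquiv.ext fun x => rfl))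
  refine ⟨MulEquiv.ofBijective Φ ⟨fun g g' e => ?_, fun p => ?_⟩⟩
  · refine Subtype.ext (Subtype.ext (LinearEquiv.ext fun v => ?_))
    obtain ⟨⟨w, u⟩, rfl⟩ := E.surjective v
    have ew : g.1.1 (w : V) = g'.1.1 w :=
      congrArg (fun q : ↥(isoF fun x y : W => h x y) × ↥(isoF fun x y : U => h x y) => ((q.1.1 w : W) : V)) e
    have eu : g.1.1 (u : V) = g'.1.1 u :=
      congrArg (fun q : ↥(isoF fun x y : W => h x y) × ↥(isoF fun x y : U => h x y) => ((q.2.1 u : U) : V)) e
    show g.1.1 ((w : V) + u) = g'.1.1 ((w : V) + u)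
    rw [map_add, map_add, ew, eu]
  · obtain ⟨⟨a, ha⟩, ⟨b, hb⟩⟩ := p
    let g : V ≃ₗ[F] V := E.symm.trans ((a.prodCongr b).trans E)
    have hg : ∀ (w : W) (u : U), g (E (w, u)) = E (a w, b u) := fun w u => by simp [g]
    have hgW : ∀ w : W, g (w : V) = (a w : V) := fun w => by
      have := hg w 0
      simpa [E] using this
    have hgU : ∀ u : U, g (u : V) = (b u : V) := fun u => by
      have := hg 0 u
      simpa [E] using this
    have hgi : g ∈ isoF h := fun x y => by
      obtain ⟨⟨w, u⟩, rfl⟩ := E.surjective x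
      obtain ⟨⟨w', u'⟩, rfl⟩ := E.surjective y
      rw [hg, hg, horth, horth]
      exact congrArg₂ (· + ·) (ha w w') (hb u u')
    have hgs : (⟨g, hgi⟩ : ↥(isoF h)) ∈ stab h W := fun v => by
      refine ⟨fun hv => by rw [hgW ⟨v, hv⟩]; exact (a _).2, fun hv => ?_⟩
      obtain ⟨⟨w, u⟩, rfl⟩ := E.surjective v
      have hv' : E (a w, b u) ∈ W := hg w u ▸ hv
      have hu : b u = 0 := Subtype.ext (Submodule.disjoint_def.mp hc.disjoint _
        (by simpa [E] using W.sub_mem hv' (a w).2) (b u).2)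
      rw [b.map_eq_zero_iff.mp hu]
      simp [E]
    exact ⟨⟨⟨g, hgi⟩, hgs⟩, Prod.ext (Subtype.ext (LinearEquiv.ext fun w => Subtype.ext (hgW w)))
      (Subtype.ext (LinearEquiv.ext fun u => Subtype.ext (hgU u)))⟩

end Cfsg.Agent.Classical.StabSplit
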