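import Mathlib

/-!
# Two subgroups inducing alternating or symmetric groups on each other's cosets

Abstract part of the structure theorem for an unfaithful suborbit with alternating constituent.
-/

set_option autoImplicit false
set_option linter.unusedSectionVars false

namespace Cfsg.Agent.Classical.SuborbitAlt

open Equiv

/-! ## Permutation facts -/

theorem centralizer_alt {m : ℕ} (hm : 4 ≤ m) {σ : Perm (Fin m)}
    (h : ∀ τ ∈ alternatingGroup (Fin m), σ * τ = τ * σ) : σ = 1 := by
  classical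
  ext i : 1
  by_contra hne
  rw [Perm.one_apply] at hne
  set j := σ i with hj
  obtain ⟨k, hk, l, hl, hkl⟩ := Finset.one_lt_card.1 (show 1 < ({i, j} : Finset (Fin m))ᶜ.card by
    rw [Finset.card_compl, Fintype.card_fin]
    have : ({i, j} : Finset (Fin m)).card ≤ 2 := Finset.card_le_two
    omega)
  simp only [Finset.mem_compl, Finset.mem_insert, Finset.mem_singleton, not_or] at hk hl
  have hmem : swap j k * swap k l ∈ alternatingGroup (Fin m) := by
    rw [Perm.mem_alternatingGroup, map_mul, Perm.sign_swap (Ne.symm hk.2), Perm.sign_swap hkl]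
    decide
  have e := Equiv.congr_fun (h _ hmem) i
  simp only [Perm.mul_apply] at e
  rw [swap_apply_of_ne_of_ne (Ne.symm hk.1) (Ne.symm hl.1), swap_apply_of_ne_of_ne (Ne.symm hne) (Ne.symm hk.1),
    ← hj, swap_apply_of_ne_of_ne (Ne.symm hk.2) (Ne.symm hl.2), swap_apply_left] at e
  exact hk.2 e.symm

theorem normal_dichotomy {m : ℕ} (hm : 5 ≤ m) (S : Subgroup (Perm (Fin m)))
    (h : ∀ τ ∈ alternatingGroup (Fin m), ∀ x ∈ S, τ * x * τ⁻¹ ∈ S) :
    S = ⊥ ∨ alternatingGroup (Fin m) ≤ S := by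
  have hn : (S.subgroupOf (alternatingGroup (Fin m))).Normal :=
    ⟨fun x hx t => h t t.2 x hx⟩
  haveI := hn
  rcases alternatingGroup.normal_subgroup_eq_bot_or_eq_top (α := Fin m) (by simpa using hm)
    (N := S.subgroupOf (alternatingGroup (Fin m))) with e | e
  · left
    rw [eq_bot_iff]
    intro x hx
    rw [Subgroup.mem_bot]
    refine centralizer_alt (by omega) fun τ hτ => ?_
    set w := x * τ * x⁻¹ * τ⁻¹ with hw
    have hwA : w ∈ alternatingGroup (Fin m) := by
      rw [Perm.mem_alternatingGroup, hw]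
      simp only [map_mul, map_inv, Perm.mem_alternatingGroup.1 hτ]
      simp
    have hwS : w ∈ S := by
      have : w = x * (τ * x⁻¹ * τ⁻¹) := by rw [hw]; group
      rw [this]
      exact mul_mem hx (h τ hτ _ (inv_mem hx))
    have hw1 : (⟨w, hwA⟩ : alternatingGroup (Fin m)) ∈ S.subgroupOf (alternatingGroup (Fin m)) := hwS
    rw [e, Subgroup.mem_bot] at hw1
    have := congrArg Subtype.val hw1
    simp only [hw, Subgroup.coe_one] at this
    rwa [mul_inv_eq_one, mul_inv_eq_iff_eq_mul] at this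
  · exact Or.inr (Subgroup.subgroupOf_eq_top.1 e)

theorem alt_perfect {m : ℕ} (hm : 5 ≤ m) :
    ⁅alternatingGroup (Fin m), alternatingGroup (Fin m)⁆ = alternatingGroup (Fin m) := by
  refine le_antisymm (Subgroup.commutator_le_self _) ?_
  rcases normal_dichotomy hm ⁅alternatingGroup (Fin m), alternatingGroup (Fin m)⁆ (fun τ hτ x hx => by
      have : τ ∈ Subgroup.normalizer (⁅alternatingGroup (Fin m), alternatingGroup (Fin m)⁆ : Subgroup (Perm (Fin m))) := by
        haveI : (⁅alternatingGroup (Fin m), alternatingGroup (Fin m)⁆ : Subgroup (Perm (Fin m))).Normal :=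
          Subgroup.commutator_normal _ _
        rw [Subgroup.normalizer_eq_top]
        trivial
      exact (Subgroup.mem_normalizer_iff.1 this x).1 hx) with e | e
  · exfalso
    rw [Subgroup.commutator_eq_bot_iff_le_centralizer] at e
    have h1 : swap (⟨0, by omega⟩ : Fin m) ⟨1, by omega⟩ * swap ⟨1, by omega⟩ ⟨2, by omega⟩ ∈ alternatingGroup (Fin m) := by
      rw [Perm.mem_alternatingGroup, map_mul, Perm.sign_swap (by simp), Perm.sign_swap (by simp)]
      decide
    have := centralizer_alt (by omega) (σ := swap (⟨0, by omega⟩ : Fin m) ⟨1, by omega⟩ * swap ⟨1, by omega⟩ ⟨2, by omega⟩)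
      fun τ hτ => (Subgroup.mem_centralizer_iff.1 (e h1) τ hτ).symm
    have := Equiv.congr_fun this (⟨1, by omega⟩ : Fin m)
    simp [swap_apply_def] at this
  · exact e

theorem card_alt {m : ℕ} (hm : 2 ≤ m) : 2 * Nat.card (alternatingGroup (Fin m)) = m.factorial := by
  haveI : Nontrivial (Fin m) := Fin.nontrivial_iff_two_le.2 hm
  rw [Nat.card_eq_fintype_card, two_mul_card_alternatingGroup, Fintype.card_perm, Fintype.card_fin]

/-- The extension fixing the first point. -/
def up {m : ℕ} : Perm (Fin m) →* Perm (Fin (m + 1)) where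
  toFun σ := Perm.decomposeFin.symm (0, σ)
  map_one' := by rw [Perm.decomposeFin_symm_of_one, swap_self]; rfl
  map_mul' σ τ := by
    ext x : 1
    refine Fin.cases ?_ ?_ x
    · simp [Perm.mul_apply, Perm.decomposeFin_symm_apply_zero]
    · intro i
      simp [Perm.mul_apply, Perm.decomposeFin_symm_apply_succ]

theorem up_succ {m : ℕ} (σ : Perm (Fin m)) (i : Fin m) : up σ i.succ = (σ i).succ := by
  simp [up, Perm.decomposeFin_symm_apply_succ]

theorem up_zero {m : ℕ} (σ : Perm (Fin m)) : up σ 0 = 0 := by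
  simp [up, Perm.decomposeFin_symm_apply_zero]

theorem sign_up {m : ℕ} (σ : Perm (Fin m)) : Perm.sign (up σ) = Perm.sign σ := by
  simp [up, Perm.decomposeFin.symm_sign]

theorem alt_transitive {m : ℕ} (hm : 3 ≤ m) (i j : Fin m) :
    ∃ τ ∈ alternatingGroup (Fin m), τ i = j := by
  classical
  by_cases e : i = j
  · exact ⟨1, one_mem _, by rw [e, Perm.one_apply]⟩
  obtain ⟨k, hk⟩ := Finset.card_pos.1 (show 0 < ({i, j} : Finset (Fin m))ᶜ.card by
    rw [Finset.card_compl, Fintype.card_fin]
    have : ({i, j} : Finset (Fin m)).card ≤ 2 := Finset.card_le_two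
    omega)
  simp only [Finset.mem_compl, Finset.mem_insert, Finset.mem_singleton, not_or] at hk
  refine ⟨swap i k * swap i j, ?_, ?_⟩
  · rw [Perm.mem_alternatingGroup, map_mul, Perm.sign_swap e, Perm.sign_swap (Ne.symm hk.1)]
    decide
  · rw [Perm.mul_apply, swap_apply_left, swap_apply_of_ne_of_ne (Ne.symm e) (Ne.symm hk.2)]

/-! ## Groups without large alternating images -/

variable {G : Type*} [Group G]

/-- `Y` has no homomorphism onto a group containing the alternating group of degree `m + 1`. -/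
def Good (m : ℕ) (Y : Subgroup G) : Prop :=
  ∀ f : Y →* Perm (Fin (m + 1)), ¬ alternatingGroup (Fin (m + 1)) ≤ f.range

theorem good_bot {m : ℕ} (hm : 5 ≤ m) : Good m (⊥ : Subgroup G) := by
  intro f h
  have hr : f.range = ⊥ := by
    rw [eq_bot_iff]
    rintro _ ⟨x, rfl⟩
    rw [Subsingleton.elim x 1, map_one]
    exact one_mem _
  rw [hr, le_bot_iff] at h
  have := card_alt (show 2 ≤ m + 1 by omega)
  rw [h, Subgroup.card_bot, mul_one] at this
  have h2 : (m + 1) ≤ (m + 1).factorial := Nat.self_le_factorial _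
  omega

theorem good_step {m : ℕ} (hm : 5 ≤ m) (Y Y₁ : Subgroup G) (φ : Y →* Perm (Fin m))
    (hker : ∀ y : Y, φ y = 1 → (y : G) ∈ Y₁) (hsub : ∀ Z : Subgroup G, Z ≤ Y₁ → Good m Z) : Good m Y := by
  intro f hf
  set Z : Subgroup G := φ.ker.map Y.subtype with hZ
  have hZY : Z ≤ Y := Subgroup.map_subtype_le _
  have hZ1 : Z ≤ Y₁ := by
    rintro _ ⟨y, hy, rfl⟩
    exact hker y hy
  rcases normal_dichotomy (by omega) (φ.ker.map f) (fun τ hτ x hx => by
      obtain ⟨y, hy, rfl⟩ := hx
      obtain ⟨t, rfl⟩ := hf hτ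
      exact ⟨t * y * t⁻¹, φ.normal_ker.conj_mem y hy t, by simp⟩) with e | e
  · -- the image is a quotient of the image of `φ`
    have hk : φ.ker ≤ f.ker := fun y hy => by
      have : f y ∈ φ.ker.map f := ⟨y, hy, rfl⟩
      rwa [e, Subgroup.mem_bot] at this
    have h1 : f.ker.index ≤ φ.ker.index := Nat.le_of_dvd
      (by rw [Subgroup.index_ker]; exact Nat.card_pos) (Subgroup.index_dvd_of_le hk)
    rw [Subgroup.index_ker, Subgroup.index_ker] at h1
    have h2 : Nat.card φ.range ≤ m.factorial := by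
      calc Nat.card φ.range ≤ Nat.card (Perm (Fin m)) := Subgroup.card_le_card_group _
        _ = m.factorial := by rw [Nat.card_perm, Nat.card_fin]
    have h3 := Subgroup.card_le_of_le hf
    have h4 := card_alt (show 2 ≤ m + 1 by omega)
    rw [Nat.factorial_succ] at h4
    have h5 : 0 < m.factorial := Nat.factorial_pos m
    nlinarith
  · refine hsub Z hZ1 (f.comp (Subgroup.inclusion hZY)) (e.trans ?_)
    rintro _ ⟨y, hy, rfl⟩
    exact ⟨⟨y, y, hy, rfl⟩, rfl⟩

theorem good_of_family {m : ℕ} (hm : 5 ≤ m) (A : Subgroup G) {ι : Type*} [Finite ι] (ρ : ι → A →* Perm (Fin m))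
    (hj : ∀ x, (∀ i, ρ i x = 1) → x = 1) : ∀ Z : Subgroup G, Z ≤ A → Good m Z := by
  classical
  haveI := Fintype.ofFinite ι
  suffices h : ∀ (s : Finset ι) (Z : Subgroup G) (hZ : Z ≤ A),
      (∀ x : Z, (∀ i, i ∉ s → ρ i (Subgroup.inclusion hZ x) = 1)) → Good m Z from
    fun Z hZ => h Finset.univ Z hZ (fun _ i hi => absurd (Finset.mem_univ i) hi)
  intro s
  induction s using Finset.induction with
  | empty =>
    intro Z hZ hx
    have : Z = ⊥ := by
      rw [eq_bot_iff]
      intro x hx'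
      have := hj _ (fun i => hx ⟨x, hx'⟩ i (Finset.notMem_empty i))
      exact congrArg Subtype.val this
    rw [this]
    exact good_bot hm
  | insert i s hi ih =>
    intro Z hZ hx
    refine good_step hm Z (((ρ i).comp (Subgroup.inclusion hZ)).ker.map Z.subtype)
      ((ρ i).comp (Subgroup.inclusion hZ)) (fun y hy => ⟨y, hy, rfl⟩) fun W hW => ?_
    refine ih W (hW.trans ((Subgroup.map_subtype_le _).trans hZ)) fun x j hj' => ?_
    obtain ⟨y, hy, hyx⟩ := hW x.2
    by_cases e : j = i
    · subst e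
      have : Subgroup.inclusion hZ y = Subgroup.inclusion (hW.trans ((Subgroup.map_subtype_le _).trans hZ)) x :=
        Subtype.ext hyx
      rw [← this]
      exact hy
    · have := hx y j (by simp [e, hj'])
      have e' : Subgroup.inclusion hZ y = Subgroup.inclusion (hW.trans ((Subgroup.map_subtype_le _).trans hZ)) x :=
        Subtype.ext hyx
      rwa [e'] at this

/-! ## One side of the configuration -/

/-- `H` acts on `m + 1` points, `D` is the stabiliser of the first and `A` is the kernel. -/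
structure Side (H D A : Subgroup G) (m : ℕ) where
  f : H →* Perm (Fin (m + 1))
  g : D →* Perm (Fin m)
  D_le : D ≤ H
  A_le : A ≤ D
  ker : ∀ h : H, f h = 1 ↔ (h : G) ∈ A
  stab : ∀ h : H, f h 0 = 0 ↔ (h : G) ∈ D
  hg : ∀ (x : D) (i : Fin m), f ⟨x, D_le x.2⟩ i.succ = (g x i).succ
  trans : ∀ i, ∃ h : H, f h 0 = i

namespace Side

variable {H D A : Subgroup G} {m : ℕ} (S : Side H D A m)

theorem f_eq_up (x : D) : S.f ⟨x, S.D_le x.2⟩ = up (S.g x) := by
  ext i : 1
  refine Fin.cases ?_ ?_ i
  · rw [up_zero]; exact (S.stab _).2 x.2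
  · intro j; rw [up_succ]; exact S.hg x j

theorem g_ker (x : D) : S.g x = 1 ↔ (x : G) ∈ A := by
  rw [← S.ker ⟨x, S.D_le x.2⟩, S.f_eq_up]
  refine ⟨fun e => by rw [e, map_one], fun e => Equiv.ext fun i => ?_⟩
  have := Equiv.congr_fun e i.succ
  rw [up_succ, Perm.one_apply, Fin.succ_inj] at this
  rw [this, Perm.one_apply]

include S in
theorem A_conj {h x : G} (hh : h ∈ H) (hx : x ∈ A) : h * x * h⁻¹ ∈ A := by
  have h1 : S.f ⟨x, S.D_le (S.A_le hx)⟩ = 1 := (S.ker _).2 hx
  have : S.f (⟨h, hh⟩ * ⟨x, S.D_le (S.A_le hx)⟩ * ⟨h, hh⟩⁻¹) = 1 := by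
    rw [map_mul, map_mul, h1, mul_one, map_inv, mul_inv_cancel]
  exact (S.ker _).1 this

theorem alt_le_g (halt : alternatingGroup (Fin (m + 1)) ≤ S.f.range) :
    alternatingGroup (Fin m) ≤ S.g.range := by
  intro σ hσ
  obtain ⟨h, hh⟩ := halt (show up σ ∈ alternatingGroup (Fin (m + 1)) by
    rw [Perm.mem_alternatingGroup, sign_up]; exact Perm.mem_alternatingGroup.1 hσ)
  have hD : (h : G) ∈ D := (S.stab h).1 (by rw [hh, up_zero])
  refine ⟨⟨h, hD⟩, Equiv.ext fun i => ?_⟩
  have := S.hg ⟨h, hD⟩ i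
  rw [show (⟨((⟨h, hD⟩ : D) : G), S.D_le hD⟩ : H) = h from Subtype.ext rfl, hh, up_succ, Fin.succ_inj] at this
  exact this.symm

theorem card_H [Finite G] : Nat.card H = Nat.card A * Nat.card S.f.range := by
  rw [← S.f.ker.card_mul_index, Subgroup.index_ker]
  congr 1
  have e : S.f.ker = A.subgroupOf H := by ext h; exact S.ker h
  rw [e]
  exact Nat.card_congr (Subgroup.subgroupOfEquivOfLe (S.A_le.trans S.D_le)).toEquiv

end Side

end Cfsg.Agent.Classical.SuborbitAlt
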