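import Cfsg.Agent.Lib.Classical.SuborbitAltPair
import Cfsg.Agent.Lib.Solv.ArcFitting

/-!
# Unfaithful suborbits with alternating constituent
-/

set_option autoImplicit false
set_option linter.unusedSectionVars false

namespace Cfsg.Agent.Classical.SuborbitAlt

open Equiv MulAction
open Cfsg.Agent.Lie.TW

universe u v

variable {G : Type u} [Group G]

theorem up_injective {m : ℕ} : Function.Injective (up : Perm (Fin m) → Perm (Fin (m + 1))) := by
  intro σ τ e
  ext i : 1
  have := Equiv.congr_fun e i.succ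
  rwa [up_succ, up_succ, Fin.succ_inj] at this

theorem exists_up {m : ℕ} {σ : Perm (Fin (m + 1))} (h : σ 0 = 0) : ∃ τ, up τ = σ := by
  refine ⟨(Perm.decomposeFin σ).2, ?_⟩
  have h1 : (Perm.decomposeFin σ).1 = 0 := by
    have := Perm.decomposeFin_symm_apply_zero (Perm.decomposeFin σ).1 (Perm.decomposeFin σ).2
    rw [Prod.mk.eta, Equiv.symm_apply_apply, h] at this
    exact this.symm
  show Perm.decomposeFin.symm (0, _) = σ
  rw [← h1, Prod.mk.eta, Equiv.symm_apply_apply]

theorem exists_side {H D A : Subgroup G} {m : ℕ} (f : H →* Perm (Fin (m + 1))) (hD : D ≤ H) (hA : A ≤ D)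
    (hker : ∀ h : H, f h = 1 ↔ (h : G) ∈ A) (hstab : ∀ h : H, f h 0 = 0 ↔ (h : G) ∈ D)
    (htr : ∀ i, ∃ h : H, f h 0 = i) : ∃ S : Side H D A m, S.f = f := by
  choose g hg using fun x : D => exists_up ((hstab ⟨x, hD x.2⟩).2 x.2)
  have hhom : ∀ x y : D, g (x * y) = g x * g y := fun x y => up_injective (by
    rw [map_mul, hg, hg, hg, ← map_mul]
    rfl)
  exact ⟨{ f := f, g := MonoidHom.mk' g hhom, D_le := hD, A_le := hA, ker := hker, stab := hstab,
           hg := fun x i => by rw [MonoidHom.mk'_apply, ← up_succ, hg], trans := htr }, rfl⟩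

variable {Ω : Type v} [MulAction G Ω] [Finite G] [Finite Ω]

theorem exists_numbering (a b : Ω) {m : ℕ} (hd : Nat.card (orbit (stabilizer G a) b) = m + 1) :
    ∃ e : orbit (stabilizer G a) b ≃ Fin (m + 1), e ⟨b, mem_orbit_self b⟩ = 0 := by
  let e₀ := Finite.equivFinOfCardEq hd
  exact ⟨e₀.trans (swap (e₀ ⟨b, mem_orbit_self b⟩) 0), by simp⟩

theorem exists_orbit_side (a b : Ω) {m : ℕ} (e : orbit (stabilizer G a) b ≃ Fin (m + 1))
    (he : e ⟨b, mem_orbit_self b⟩ = 0) (D : Subgroup G) (hDeq : D = stabilizer G a ⊓ stabilizer G b) :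
    ∃ S : Side (stabilizer G a) D (K₁ a b) m,
      S.f = e.permCongrHom.toMonoidHom.comp (toPermHom (stabilizer G a) (orbit (stabilizer G a) b)) := by
  refine exists_side _ (hDeq ▸ inf_le_left) (hDeq ▸ K₁_le a b) (fun h => ?_) (fun h => ?_) (fun i => ?_)
  · rw [MonoidHom.comp_apply, MulEquiv.coe_toMonoidHom, map_eq_one_iff _ e.permCongrHom.injective, mem_K₁]
    constructor
    · intro h1
      refine ⟨mem_stabilizer_iff.1 h.2, fun k hk => ?_⟩
      exact congrArg Subtype.val (Equiv.congr_fun h1 ⟨k • b, ⟨⟨k, hk⟩, rfl⟩⟩)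
    · rintro ⟨-, h1⟩
      ext ⟨_, ⟨k, rfl⟩⟩
      exact h1 k (mem_stabilizer_iff.1 k.2)
  · rw [hDeq, Subgroup.mem_inf, MonoidHom.comp_apply, MulEquiv.coe_toMonoidHom]
    show e (h • e.symm 0) = 0 ↔ _
    rw [← he, Equiv.symm_apply_apply, e.injective.eq_iff, mem_stabilizer_iff, Subtype.ext_iff]
    exact ⟨fun h1 => ⟨h.2, h1⟩, fun h1 => h1.2⟩
  · obtain ⟨c, rfl⟩ := e.surjective i
    obtain ⟨h, hh⟩ := c.2
    refine ⟨h, ?_⟩
    rw [MonoidHom.comp_apply, MulEquiv.coe_toMonoidHom]
    show e (h • e.symm 0) = e c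
    rw [← he, Equiv.symm_apply_apply]
    exact congrArg e (Subtype.ext hh)

theorem fitting_trivial {m : ℕ} (hm : 5 ≤ m) {X : Subgroup (Perm (Fin (m + 1)))}
    (hfix : ∀ σ ∈ X, σ 0 = 0) (hbig : ∀ τ ∈ alternatingGroup (Fin m), up τ ∈ X) (N : Subgroup X) (hN : N.Normal)
    (hnil : Group.IsNilpotent N) : N = ⊥ := by
  set S : Subgroup (Perm (Fin m)) := (N.map X.subtype).comap up with hS
  rcases normal_dichotomy hm S (fun τ hτ x hx => by
      obtain ⟨y, hy, hyx⟩ := hx
      refine ⟨⟨up τ, hbig τ hτ⟩ * y * ⟨up τ, hbig τ hτ⟩⁻¹, hN.conj_mem y hy _, ?_⟩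
      rw [map_mul, map_mul, map_inv, hyx, map_mul, map_mul, map_inv]
      rfl) with e | e
  · rw [eq_bot_iff]
    intro y hy
    obtain ⟨τ, hτ⟩ := exists_up (hfix y y.2)
    have : τ ∈ S := ⟨y, hy, hτ.symm⟩
    rw [e, Subgroup.mem_bot] at this
    rw [Subgroup.mem_bot]
    apply Subtype.ext
    rw [← hτ, this, map_one]
    rfl
  · exfalso
    haveI : Group.IsSolvable N := inferInstance
    let ι : alternatingGroup (Fin m) →* (N.map X.subtype : Subgroup (Perm (Fin (m + 1)))) :=
      (up.comp (alternatingGroup (Fin m)).subtype).codRestrict _ (fun τ => e τ.2)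
    haveI : Group.IsSolvable (N.map X.subtype : Subgroup (Perm (Fin (m + 1)))) :=
      Group.isSolvable_of_isSolvable_injective (f := (N.equivMapOfInjective X.subtype X.subtype_injective).symm.toMonoidHom)
        (N.equivMapOfInjective X.subtype X.subtype_injective).symm.injective
    haveI hsol : Group.IsSolvable (alternatingGroup (Fin m)) :=
      Group.isSolvable_of_isSolvable_injective (f := ι) (fun σ τ h => Subtype.ext (up_injective (congrArg Subtype.val h)))
    haveI : IsSimpleGroup (alternatingGroup (Fin m)) := alternatingGroup.isSimpleGroup (by simpa using hm)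
    obtain ⟨σ, hσ, hσ1⟩ := exists_alt_ne hm
    refine hσ1 (centralizer_alt (by omega) fun τ hτ => ?_)
    exact congrArg Subtype.val (IsSimpleGroup.comm_iff_isSolvable.2 hsol ⟨σ, hσ⟩ ⟨τ, hτ⟩)

theorem main [FaithfulSMul G Ω] (hprim : IsPreprimitive G Ω) (a b : Ω) (d : ℕ)
    (hd : Nat.card (orbit (stabilizer G a) b) = d) (h6 : 6 ≤ d)
    (halt : (toPermHom (stabilizer G a) (orbit (stabilizer G a) b)).range.index ≤ 2)
    (hunf : ¬ Function.Injective (toPermHom (stabilizer G a) (orbit (stabilizer G a) b))) :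
    ((toPermHom (stabilizer G a) (orbit (stabilizer G a) b)).range.index = 2 ∧
      Nonempty (stabilizer G a ≃* alternatingGroup (Fin d) × alternatingGroup (Fin (d - 1)))) ∨
    ((toPermHom (stabilizer G a) (orbit (stabilizer G a) b)).range = ⊤ ∧
      (Nonempty (stabilizer G a ≃* Perm (Fin d) × Perm (Fin (d - 1))) ∨
       Nonempty (stabilizer G a ≃* Perm (Fin d) × alternatingGroup (Fin (d - 1))) ∨
       Nonempty (stabilizer G a ≃* ((Perm.sign.comp (MonoidHom.fst (Perm (Fin d)) (Perm (Fin (d - 1))))) *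
         (Perm.sign.comp (MonoidHom.snd (Perm (Fin d)) (Perm (Fin (d - 1)))))).ker))) := by
  obtain ⟨m, rfl⟩ : ∃ m, d = m + 1 := ⟨d - 1, by omega⟩
  have hm : 5 ≤ m := by omega
  rw [Nat.add_sub_cancel]
  haveI := hprim.toIsPretransitive
  set T := toPermHom (stabilizer G a) (orbit (stabilizer G a) b) with hT
  have h2 : 2 ≤ Nat.card (orbit (stabilizer G a) b) := by omega
  have c := cfg hprim a b h2
  set D : Subgroup G := stabilizer G a ⊓ stabilizer G b with hD
  obtain ⟨e, he⟩ := exists_numbering a b hd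
  obtain ⟨SA, hSA⟩ := exists_orbit_side a b e he D rfl
  obtain ⟨e', he'⟩ := exists_numbering (G := G) b a ((card_orbit_swap hprim a b).trans hd)
  obtain ⟨SB, -⟩ := exists_orbit_side b a e' he' D (inf_comm _ _)
  have hrmap : SA.f.range = T.range.map e.permCongrHom.toMonoidHom := by
    rw [hSA, MonoidHom.range_comp]
  have hri : SA.f.range.index = T.range.index := by
    rw [hrmap]
    exact Subgroup.index_map_equiv T.range e.permCongrHom
  have haltA : alternatingGroup (Fin (m + 1)) ≤ SA.f.range :=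
    Perm.alternatingGroup_le_of_index_le_two (hri ▸ halt)
  obtain ⟨g₀, hg⟩ := exists_smul_eq G a b
  have hg₀ : ∀ x, x ∈ stabilizer G a ↔ g₀ * x * g₀⁻¹ ∈ stabilizer G b := by
    intro x
    rw [mem_stabilizer_iff, mem_stabilizer_iff, mul_smul, mul_smul,
      show g₀⁻¹ • b = a by rw [← hg, inv_smul_smul], ← hg, smul_left_cancel_iff]
  have hA : K₁ (G := G) a b ≠ ⊥ := by
    intro hA
    apply hunf
    rw [injective_iff_map_eq_one]
    intro h hh
    have : (h : G) ∈ K₁ a b := (SA.ker h).1 (by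
      rw [hSA, MonoidHom.comp_apply, ← hT, hh, map_one])
    rw [hA, Subgroup.mem_bot] at this
    exact Subtype.ext this
  have hbot : ∀ Y : Subgroup G, Y ≤ D → (∀ h ∈ stabilizer G a, ∀ y ∈ Y, h * y * h⁻¹ ∈ Y) →
      (∀ k ∈ stabilizer G b, ∀ y ∈ Y, k * y * k⁻¹ ∈ Y) → Y = ⊥ := fun Y hY h1 h2' =>
    c.eq_bot (hY.trans inf_le_left) (hY.trans inf_le_right)
      (fun h hh => mem_normalizer_of_conj (h1 h hh)) (fun k hk => mem_normalizer_of_conj (h2' k hk))
  -- one of the second kernels is trivial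
  have hF : Cfsg.fittingSubgroup ↥(((stabilizer G b).subgroupOf (stabilizer G a)).map T) = ⊥ := by
    set X := ((stabilizer G b).subgroupOf (stabilizer G a)).map T with hX
    let e₁ := X.equivMapOfInjective e.permCongrHom.toMonoidHom e.permCongrHom.injective
    have hfix : ∀ σ ∈ X.map e.permCongrHom.toMonoidHom, σ 0 = 0 := by
      rintro _ ⟨_, ⟨h, hh, rfl⟩, rfl⟩
      have h0 := (SA.stab h).2 ⟨h.2, hh⟩
      rwa [hSA] at h0
    have hbig : ∀ τ ∈ alternatingGroup (Fin m), up τ ∈ X.map e.permCongrHom.toMonoidHom := by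
      intro τ hτ
      obtain ⟨x, rfl⟩ := SA.alt_le_g haltA hτ
      rw [← SA.f_eq_up, hSA]
      exact ⟨_, ⟨⟨x, SA.D_le x.2⟩, x.2.2, rfl⟩, rfl⟩
    refine le_bot_iff.1 (sSup_le ?_)
    rintro N ⟨hN, hnil⟩
    haveI := hnil
    have := fitting_trivial hm hfix hbig (N.map e₁.toMonoidHom) (hN.map _ e₁.surjective)
      (Group.nilpotent_of_mulEquiv (N.equivMapOfInjective e₁.toMonoidHom e₁.injective))
    rw [Subgroup.map_eq_bot_iff_of_injective _ e₁.injective] at this
    exact this.le
  have hK2 : K₂ (G := G) a b = ⊥ ∨ K₂ (G := G) b a = ⊥ := by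
    by_contra h
    push Not at h
    obtain ⟨p, hp, hor, -⟩ := Cfsg.Agent.Lie.TW.main c h.1 h.2
    haveI := Fact.mk hp
    have hb := Solv.ArcFit.pc_ar_eq_bot hprim a b h2 hF p
    rcases hor with hp' | hp'
    · exact h.1 (le_bot_iff.1 (hb ▸ le_pc_of_normal ((c.A₂_le.trans inf_le_left).trans c.A_le) (inf_le_left.trans c.A₂_norm) hp'))
    · exact h.2 (le_bot_iff.1 (hb ▸ le_pc_of_normal ((c.B₂_le.trans inf_le_left).trans c.A_le) (inf_le_right.trans c.B₂_norm) hp'))
  have hjoint : ∀ a b : Ω, K₂ (G := G) a b = ⊥ →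
      ∀ x ∈ K₁ (G := G) a b, (∀ h ∈ stabilizer G a, h⁻¹ * x * h ∈ K₁ b a) → x = 1 := by
    intro a b h2b x hx hall
    have : x ∈ K₂ a b := by
      refine mem_K₂.2 ⟨hx, fun h hh => ?_⟩
      have := K₁_conj b a (hall h (mem_stabilizer_iff.2 hh)) h
      rw [hh] at this
      simpa [mul_assoc] using this
    rwa [h2b, Subgroup.mem_bot] at this
  have hgood : Good m (K₁ (G := G) b a) := by
    rcases hK2 with h | h
    · exact (Side.good_subgroups hm SA SB (hjoint a b h)).2
    · exact (Side.good_subgroups hm SB SA (hjoint b a h)).1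
  obtain ⟨hgA, hcard, hrange, haltB⟩ := kernel_conj hm SA SB haltA g₀ hg₀ hgood
  have hN : K₁ (G := G) a b ⊓ K₁ b a = ⊥ := by
    rcases hK2 with h | h
    · exact inf_eq_bot hm SA SB haltA haltB g₀ hg₀ hgA hcard hbot hA (hjoint a b h)
    · rw [inf_comm]
      refine inf_eq_bot hm SB SA haltB haltA g₀⁻¹ (fun x => ?_) (fun x => ?_) hcard.symm
        (fun Y h1 h2 h3 => hbot Y h1 h3 h2) (fun e => hA ?_) (hjoint b a h)
      · rw [hg₀ (g₀⁻¹ * x * g₀⁻¹⁻¹)]
        simp [mul_assoc]
      · rw [hgA (g₀⁻¹ * x * g₀⁻¹⁻¹)]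
        simp [mul_assoc]
      · rw [e, Subgroup.card_bot] at hcard
        exact Subgroup.eq_bot_of_card_eq _ hcard
  obtain ⟨ψ, hinj, hψ, hprod⟩ := embed hm SA SB haltA haltB hcard hbot hA hN
  set Φ := SA.f.prod ψ with hΦ
  have hΦinj : Function.Injective Φ := by
    rw [injective_iff_map_eq_one]
    intro h hh
    rw [hΦ, MonoidHom.prod_apply, Prod.mk_eq_one] at hh
    exact hinj h hh.1 hh.2
  set R := Φ.range with hR
  have iso : stabilizer G a ≃* R := MonoidHom.ofInjective hΦinj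
  have hfst : ∀ p ∈ R, p.1 ∈ SA.f.range := by
    rintro _ ⟨h, rfl⟩
    exact ⟨h, rfl⟩
  have hsub : ∀ σ τ, Perm.sign σ = 1 → Perm.sign τ = 1 → (σ, τ) ∈ R := fun σ τ h1 h2 => hprod
    ⟨Perm.mem_alternatingGroup.2 h1, Perm.mem_alternatingGroup.2 h2⟩
  haveI : Nontrivial (Fin (m + 1)) := Fin.nontrivial_iff_two_le.2 (by omega)
  by_cases htop : T.range = ⊤
  · right
    refine ⟨htop, ?_⟩
    have hA1 : SA.f.range = ⊤ := by
      apply Subgroup.index_eq_one.1
      rw [hri, htop, Subgroup.index_top]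
    have hfull : ∀ σ, ∃ τ, (σ, τ) ∈ R := fun σ => by
      obtain ⟨h, rfl⟩ : σ ∈ SA.f.range := hA1 ▸ Subgroup.mem_top σ
      exact ⟨ψ h, h, rfl⟩
    by_cases hodd : ∃ τ, Perm.sign τ = -1 ∧ ((1 : Perm (Fin (m + 1))), τ) ∈ R
    · obtain ⟨τ₀, hτ₀, hmem⟩ := hodd
      have hsnd : ∀ τ, ((1 : Perm (Fin (m + 1))), τ) ∈ R := by
        intro τ
        rcases Int.units_eq_one_or (Perm.sign τ) with h | h
        · exact hsub 1 τ (map_one _) h
        · have := mul_mem (hsub 1 (τ * τ₀⁻¹) (map_one _) (by rw [map_mul, map_inv, h, hτ₀]; simp)) hmem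
          simpa using this
      have hall : R = ⊤ := by
        refine eq_top_iff.2 ?_
        rintro ⟨σ, τ⟩ -
        obtain ⟨τ', h'⟩ := hfull σ
        have := mul_mem h' (hsnd (τ'⁻¹ * τ))
        simpa using this
      exact Or.inl ⟨iso.trans ((MulEquiv.subgroupCongr hall).trans Subgroup.topEquiv)⟩
    · push Not at hodd
      have hone : ∀ σ τ, Perm.sign σ = 1 → (σ, τ) ∈ R → Perm.sign τ = 1 := by
        intro σ τ hσ hmem
        rcases Int.units_eq_one_or (Perm.sign τ) with h | h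
        · exact h
        exfalso
        have := mul_mem (hsub σ⁻¹ 1 (by rw [map_inv, hσ, inv_one]) (map_one _)) hmem
        simp only [Prod.mk_mul_mk, inv_mul_cancel, one_mul] at this
        exact hodd τ h this
      by_cases heven' : ∀ σ τ, (σ, τ) ∈ R → Perm.sign τ = 1
      · have hall : R = (⊤ : Subgroup (Perm (Fin (m + 1)))).prod (alternatingGroup (Fin m)) := by
          apply le_antisymm
          · rintro ⟨σ, τ⟩ h
            exact ⟨trivial, Perm.mem_alternatingGroup.2 (heven' σ τ h)⟩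
          · rintro ⟨σ, τ⟩ ⟨-, hτ⟩
            obtain ⟨τ', h'⟩ := hfull σ
            have := mul_mem h' (hsub 1 (τ'⁻¹ * τ) (map_one _) (by
              rw [map_mul, map_inv, heven' σ τ' h', Perm.mem_alternatingGroup.1 hτ]; simp))
            simpa using this
        exact Or.inr (Or.inl ⟨iso.trans ((MulEquiv.subgroupCongr hall).trans
          ((Subgroup.prodEquiv _ _).trans (Subgroup.topEquiv.prodCongr (MulEquiv.refl _))))⟩)
      · push Not at heven'
        obtain ⟨σ₁, τ₁, hmem₁, hτ₁⟩ := heven'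
        have hτ₁' : Perm.sign τ₁ = -1 := (Int.units_eq_one_or _).resolve_left hτ₁
        have hσ₁ : Perm.sign σ₁ = -1 :=
          (Int.units_eq_one_or _).resolve_left (fun h => hτ₁ (hone _ _ h hmem₁))
        refine Or.inr (Or.inr ⟨iso.trans (MulEquiv.subgroupCongr ?_)⟩)
        ext ⟨σ, τ⟩
        simp only [MonoidHom.mem_ker, MonoidHom.mul_apply, MonoidHom.comp_apply, MonoidHom.coe_fst,
          MonoidHom.coe_snd]
        constructor
        · intro h
          rcases Int.units_eq_one_or (Perm.sign σ) with hs | hs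
          · rw [hs, hone σ τ hs h, one_mul]
          · have := hone (σ * σ₁) (τ * τ₁) (by rw [map_mul, hs, hσ₁]; decide) (mul_mem h hmem₁)
            rw [map_mul, hτ₁'] at this
            rw [hs, mul_comm]
            exact this
        · intro h
          rcases Int.units_eq_one_or (Perm.sign σ) with hs | hs
          · rw [hs, one_mul] at h
            exact hsub σ τ hs h
          · rw [hs] at h
            have ht : Perm.sign τ = -1 := by
              rcases Int.units_eq_one_or (Perm.sign τ) with ht | ht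
              · rw [ht] at h; exact absurd h (by decide)
              · exact ht
            have := mul_mem (hsub (σ * σ₁⁻¹) (τ * τ₁⁻¹) (by rw [map_mul, map_inv, hs, hσ₁]; simp)
              (by rw [map_mul, map_inv, ht, hτ₁']; simp)) hmem₁
            simpa using this
  · left
    have hidx : T.range.index = 2 := by
      have h0 : T.range.index ≠ 0 := Subgroup.index_ne_zero_of_finite
      have h1 : T.range.index ≠ 1 := fun h => htop (Subgroup.index_eq_one.1 h)
      omega
    refine ⟨hidx, ?_⟩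
    have hA2 : SA.f.range = alternatingGroup (Fin (m + 1)) :=
      Perm.eq_alternatingGroup_of_index_eq_two (hri.trans hidx)
    have hB2 : SB.f.range = alternatingGroup (Fin (m + 1)) :=
      (Subgroup.eq_of_le_of_card_ge haltB (by rw [hrange, hA2])).symm
    have hall : R = (alternatingGroup (Fin (m + 1))).prod (alternatingGroup (Fin m)) := by
      refine le_antisymm ?_ hprod
      rintro _ ⟨h, rfl⟩
      refine ⟨hA2 ▸ ⟨h, rfl⟩, Perm.mem_alternatingGroup.2 ?_⟩
      obtain ⟨x, hx⟩ := hψ ⟨h, rfl⟩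
      show Perm.sign (ψ h) = 1
      rw [← hx, ← sign_up, ← SB.f_eq_up]
      exact Perm.mem_alternatingGroup.1 (hB2 ▸ ⟨_, rfl⟩)
    exact ⟨iso.trans ((MulEquiv.subgroupCongr hall).trans (Subgroup.prodEquiv _ _))⟩

end Cfsg.Agent.Classical.SuborbitAlt
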