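import Cfsg.Agent.Lib.Classical.SuborbitAlt

/-!
# The two kernels meet trivially, and the structure of the stabiliser
-/

set_option autoImplicit false
set_option linter.unusedSectionVars false

namespace Cfsg.Agent.Classical.SuborbitAlt

open Equiv
open scoped commutatorElement

variable {G : Type*} [Group G]

namespace Side

variable {H K D A B : Subgroup G} {m : ℕ}

/-- A chosen element moving the first point to `i`. -/
noncomputable def rep (S : Side H D A m) (i : Fin (m + 1)) : H := (S.trans i).choose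

theorem rep_spec (S : Side H D A m) (i : Fin (m + 1)) : S.f (S.rep i) 0 = i := (S.trans i).choose_spec

theorem rep_div (S : Side H D A m) {h : G} (hh : h ∈ H) :
    ((S.rep (S.f ⟨h, hh⟩ 0) : G))⁻¹ * h ∈ D := by
  have := (S.stab ((S.rep (S.f ⟨h, hh⟩ 0))⁻¹ * ⟨h, hh⟩)).1 (by
    rw [map_mul, Perm.mul_apply, map_inv, Perm.inv_eq_iff_eq, S.rep_spec])
  exact this

theorem conj_mem_D (S : Side H D A m) {h x : G} (hh : h ∈ H) (hx : x ∈ A) : h⁻¹ * x * h ∈ D := by
  have := S.A_conj (inv_mem hh) hx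
  rw [inv_inv] at this
  exact S.A_le this

/-- The action of `A` on the other suborbit, moved to the `i`-th point. -/
noncomputable def rho (SA : Side H D A m) (SB : Side K D B m) (i : Fin (m + 1)) : A →* Perm (Fin m) :=
  MonoidHom.mk' (fun x => SB.g ⟨(SA.rep i : G)⁻¹ * x * (SA.rep i : G), SA.conj_mem_D (SA.rep i).2 x.2⟩)
    (fun x y => by
      rw [← map_mul]
      congr 1
      apply Subtype.ext
      simp [mul_assoc])

theorem rho_eq_one (SA : Side H D A m) (SB : Side K D B m) (i : Fin (m + 1)) (x : A) :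
    rho SA SB i x = 1 ↔ (SA.rep i : G)⁻¹ * x * (SA.rep i : G) ∈ B := by
  rw [rho, MonoidHom.mk'_apply, SB.g_ker]

/-- Changing the representative conjugates the value. -/
theorem rho_conj (SA : Side H D A m) (SB : Side K D B m) {h : G} (hh : h ∈ H) (x : A) :
    ∃ σ : Perm (Fin m), SB.g ⟨h⁻¹ * x * h, SA.conj_mem_D hh x.2⟩ = σ * rho SA SB (SA.f ⟨h, hh⟩ 0) x * σ⁻¹ := by
  refine ⟨SB.g ⟨_, SA.rep_div hh⟩⁻¹, ?_⟩
  rw [rho, MonoidHom.mk'_apply, map_inv, inv_inv, ← map_inv, ← map_mul, ← map_mul]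
  congr 1
  apply Subtype.ext
  simp only [Subgroup.coe_mul, Subgroup.coe_inv]
  group

theorem joint (SA : Side H D A m) (SB : Side K D B m)
    (hA2 : ∀ x ∈ A, (∀ h ∈ H, h⁻¹ * x * h ∈ B) → x = 1) (x : A) (h1 : ∀ i, rho SA SB i x = 1) : x = 1 := by
  apply Subtype.ext
  refine hA2 x x.2 fun h hh => ?_
  obtain ⟨σ, hσ⟩ := rho_conj SA SB hh x
  rw [h1, mul_one, mul_inv_cancel, SB.g_ker] at hσ
  exact hσ

theorem good_subgroups (hm : 5 ≤ m) (SA : Side H D A m) (SB : Side K D B m)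
    (hA2 : ∀ x ∈ A, (∀ h ∈ H, h⁻¹ * x * h ∈ B) → x = 1) :
    Good m A ∧ Good m B := by
  have hA := good_of_family hm A (fun i => rho SA SB i) (joint SA SB hA2)
  refine ⟨hA A le_rfl, good_step hm B (A ⊓ B) (SA.g.comp (Subgroup.inclusion SB.A_le)) ?_
    fun Z hZ => hA Z (hZ.trans inf_le_left)⟩
  intro y hy
  exact ⟨(SA.g_ker _).1 hy, y.2⟩

end Side

open Side

theorem exists_alt_ne {m : ℕ} (hm : 5 ≤ m) : ∃ σ ∈ alternatingGroup (Fin m), σ ≠ 1 := by
  by_contra hall
  push Not at hall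
  have : alternatingGroup (Fin m) = ⊥ := (Subgroup.eq_bot_iff_forall _).2 hall
  have h2 := card_alt (show 2 ≤ m by omega)
  rw [this, Subgroup.card_bot] at h2
  have := Nat.self_le_factorial m
  omega

variable [Finite G] {H K D A B : Subgroup G} {m : ℕ}

/-- The kernel on the other side is the conjugate of the kernel. -/
theorem kernel_conj (hm : 5 ≤ m) (SA : Side H D A m) (SB : Side K D B m)
    (halt : alternatingGroup (Fin (m + 1)) ≤ SA.f.range) (g₀ : G)
    (hg₀ : ∀ x, x ∈ H ↔ g₀ * x * g₀⁻¹ ∈ K) (hgood : Good m B) :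
    (∀ x, x ∈ A ↔ g₀ * x * g₀⁻¹ ∈ B) ∧ Nat.card A = Nat.card B ∧
      Nat.card SB.f.range = Nat.card SA.f.range ∧ alternatingGroup (Fin (m + 1)) ≤ SB.f.range := by
  let eK : K →* H := MonoidHom.mk' (fun k => ⟨g₀⁻¹ * k * g₀, (hg₀ _).2 (by simp [mul_assoc])⟩)
    (fun a b => Subtype.ext (by simp [mul_assoc]))
  have hsurj : Function.Surjective eK := fun h =>
    ⟨⟨g₀ * h * g₀⁻¹, (hg₀ _).1 h.2⟩, Subtype.ext (by simp [eK, mul_assoc])⟩
  set fK := SA.f.comp eK with hfK
  have hrange : fK.range = SA.f.range := by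
    rw [hfK, MonoidHom.range_comp, MonoidHom.range_eq_top.2 hsurj, MonoidHom.range_eq_map]
  -- `B` is contained in the conjugate of `A`
  have hBA : ∀ x ∈ B, g₀⁻¹ * x * g₀ ∈ A := by
    have hBK : B ≤ K := SB.A_le.trans SB.D_le
    set I := fK.comp (Subgroup.inclusion hBK) with hI
    rcases normal_dichotomy (by omega) I.range (fun τ hτ x hx => by
        obtain ⟨y, rfl⟩ := hx
        obtain ⟨k, rfl⟩ := (hrange ▸ halt) hτ
        refine ⟨⟨k * y * (k : G)⁻¹, SB.A_conj k.2 y.2⟩, ?_⟩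
        simp only [hI, MonoidHom.comp_apply]
        rw [← map_inv, ← map_mul, ← map_mul]
        rfl) with e | e
    · intro x hx
      have : I ⟨x, hx⟩ ∈ I.range := ⟨_, rfl⟩
      rw [e, Subgroup.mem_bot] at this
      exact (SA.ker _).1 this
    · exact absurd e (hgood I)
  set A' := A.map (MulAut.conj g₀).toMonoidHom with hA'
  have hmem : ∀ x, x ∈ A' ↔ g₀⁻¹ * x * g₀ ∈ A := by
    intro x
    constructor
    · rintro ⟨y, hy, rfl⟩
      simpa [mul_assoc] using hy
    · intro hx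
      exact ⟨_, hx, by simp [mul_assoc]⟩
  have hA'K : A' ≤ K := fun x hx => by
    have := (hg₀ _).1 (SA.D_le (SA.A_le ((hmem x).1 hx)))
    simpa [mul_assoc] using this
  have hcA : Nat.card A' = Nat.card A :=
    (Nat.card_congr (A.equivMapOfInjective _ (MulAut.conj g₀).injective).toEquiv).symm
  have hcK : Nat.card K = Nat.card H := by
    let e : H ≃ K :=
      { toFun := fun h => ⟨g₀ * h * g₀⁻¹, (hg₀ _).1 h.2⟩
        invFun := fun k => ⟨g₀⁻¹ * k * g₀, (hg₀ _).2 (by simp [mul_assoc])⟩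
        left_inv := fun h => Subtype.ext (by simp [mul_assoc])
        right_inv := fun k => Subtype.ext (by simp [mul_assoc]) }
    exact (Nat.card_congr e).symm
  -- the image of the conjugate on the other side is trivial
  set I := SB.f.comp (Subgroup.inclusion hA'K) with hI
  have hker : I.ker = B.subgroupOf A' := by
    ext x
    exact SB.ker _
  have hBle : B ≤ A' := fun x hx => (hmem x).2 (hBA x hx)
  have hcard1 : Nat.card A' = Nat.card B * Nat.card I.range := by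
    rw [← I.ker.card_mul_index, Subgroup.index_ker, hker,
      Nat.card_congr (Subgroup.subgroupOfEquivOfLe hBle).toEquiv]
  have hH := SA.card_H
  have hK := SB.card_H
  have hr : Nat.card SB.f.range = Nat.card I.range * Nat.card SA.f.range := by
    apply Nat.eq_of_mul_eq_mul_left (show 0 < Nat.card B from Nat.card_pos)
    rw [← hK, hcK, hH, ← hcA, hcard1]
    ring
  have hA2 : 2 * Nat.card SA.f.range ≥ (m + 1).factorial := by
    have := Subgroup.card_le_of_le halt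
    have := card_alt (show 2 ≤ m + 1 by omega)
    omega
  have hB1 : Nat.card SB.f.range ≤ (m + 1).factorial := by
    calc Nat.card SB.f.range ≤ Nat.card (Perm (Fin (m + 1))) := Subgroup.card_le_card_group _
      _ = (m + 1).factorial := by rw [Nat.card_perm, Nat.card_fin]
  have hfac : 720 ≤ (m + 1).factorial := Nat.factorial_le (show 6 ≤ m + 1 by omega)
  have hI1 : Nat.card I.range = 1 := by
    have hpos : 0 < Nat.card I.range := Nat.card_pos
    rcases Nat.lt_or_ge (Nat.card I.range) 2 with h | h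
    · omega
    exfalso
    have h2 : Nat.card I.range = 2 := by nlinarith
    have htop : SB.f.range = ⊤ := by
      apply Subgroup.eq_top_of_card_eq
      rw [Nat.card_perm, Nat.card_fin]
      nlinarith
    rcases normal_dichotomy (by omega) I.range (fun τ _ x hx => by
        obtain ⟨y, rfl⟩ := hx
        obtain ⟨k, rfl⟩ : τ ∈ SB.f.range := htop ▸ Subgroup.mem_top _
        have hy : (k : G) * y * (k : G)⁻¹ ∈ A' := by
          rw [hmem]
          have := SA.A_conj (h := g₀⁻¹ * k * g₀) ((hg₀ _).2 (by simp [mul_assoc])) ((hmem _).1 y.2)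
          simpa [mul_assoc] using this
        refine ⟨⟨_, hy⟩, ?_⟩
        simp only [hI, MonoidHom.comp_apply]
        rw [← map_inv, ← map_mul, ← map_mul]
        rfl) with e | e
    · rw [e, Subgroup.card_bot] at h2
      omega
    · have := Subgroup.card_le_of_le e
      have := card_alt (show 2 ≤ m + 1 by omega)
      omega
  have hIb : I.range = ⊥ := Subgroup.eq_bot_of_card_eq _ hI1
  have heq : A' = B := by
    refine le_antisymm (fun x hx => ?_) hBle
    have : I ⟨x, hx⟩ ∈ I.range := ⟨_, rfl⟩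
    rw [hIb, Subgroup.mem_bot] at this
    exact (SB.ker _).1 this
  refine ⟨fun x => ?_, by rw [← hcA, heq], by rw [hr, hI1, one_mul], ?_⟩
  · rw [← heq, hmem]
    simp [mul_assoc]
  · apply Perm.alternatingGroup_le_of_index_le_two
    have h1 := SB.f.range.card_mul_index
    rw [Nat.card_perm, Nat.card_fin, hr, hI1, one_mul] at h1
    by_contra hc
    push Not at hc
    have : 0 < Nat.card SA.f.range := Nat.card_pos
    nlinarith

/-- The image of a kernel on the other suborbit contains the alternating group. -/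
theorem image_big (hm : 5 ≤ m) (SA : Side H D A m) (SB : Side K D B m)
    (haltB : alternatingGroup (Fin (m + 1)) ≤ SB.f.range) (hcard : Nat.card A = Nat.card B)
    (hbot : ∀ Y : Subgroup G, Y ≤ D → (∀ h ∈ H, ∀ y ∈ Y, h * y * h⁻¹ ∈ Y) →
      (∀ k ∈ K, ∀ y ∈ Y, k * y * k⁻¹ ∈ Y) → Y = ⊥) (hA : A ≠ ⊥) :
    alternatingGroup (Fin m) ≤ (SB.g.comp (Subgroup.inclusion SA.A_le)).range := by
  refine (normal_dichotomy hm _ fun τ hτ x hx => ?_).resolve_left fun e => hA ?_
  · obtain ⟨y, rfl⟩ := hx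
    obtain ⟨d, rfl⟩ := SB.alt_le_g haltB hτ
    refine ⟨⟨d * y * (d : G)⁻¹, SA.A_conj (SA.D_le d.2) y.2⟩, ?_⟩
    simp only [MonoidHom.comp_apply]
    rw [← map_inv, ← map_mul, ← map_mul]
    rfl
  · have hle : A ≤ B := fun x hx => by
      have : SB.g.comp (Subgroup.inclusion SA.A_le) ⟨x, hx⟩ ∈ (SB.g.comp (Subgroup.inclusion SA.A_le)).range := ⟨_, rfl⟩
      rw [e, Subgroup.mem_bot] at this
      exact (SB.g_ker _).1 this
    have heq : A = B := Subgroup.eq_of_le_of_card_ge hle hcard.ge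
    exact hbot A SA.A_le (fun h hh y hy => SA.A_conj hh hy)
      (fun k hk y hy => by rw [heq] at hy ⊢; exact SB.A_conj hk hy)

/-- The two kernels meet trivially. -/
theorem inf_eq_bot (hm : 5 ≤ m) (SA : Side H D A m) (SB : Side K D B m)
    (haltA : alternatingGroup (Fin (m + 1)) ≤ SA.f.range)
    (haltB : alternatingGroup (Fin (m + 1)) ≤ SB.f.range) (g₀ : G)
    (hg₀ : ∀ x, x ∈ H ↔ g₀ * x * g₀⁻¹ ∈ K) (hgA : ∀ x, x ∈ A ↔ g₀ * x * g₀⁻¹ ∈ B)
    (hcard : Nat.card A = Nat.card B)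
    (hbot : ∀ Y : Subgroup G, Y ≤ D → (∀ h ∈ H, ∀ y ∈ Y, h * y * h⁻¹ ∈ Y) →
      (∀ k ∈ K, ∀ y ∈ Y, k * y * k⁻¹ ∈ Y) → Y = ⊥) (hA : A ≠ ⊥)
    (hA2 : ∀ x ∈ A, (∀ h ∈ H, h⁻¹ * x * h ∈ B) → x = 1) : A ⊓ B = ⊥ := by
  classical
  by_contra hN
  have himg := image_big hm SA SB haltB hcard hbot hA
  have hBD : ∀ d ∈ D, ∀ x ∈ B, d * x * d⁻¹ ∈ B := fun d hd x hx => SB.A_conj (SB.D_le hd) hx
  have hND : ∀ d ∈ D, ∀ x ∈ A ⊓ B, d * x * d⁻¹ ∈ A ⊓ B := fun d hd x hx =>
    ⟨SA.A_conj (SA.D_le hd) hx.1, hBD d hd x hx.2⟩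
  set ρ := rho SA SB with hρ
  have hρA : ∀ i, alternatingGroup (Fin m) ≤ (ρ i).range := by
    intro i σ hσ
    obtain ⟨y, hy⟩ := himg hσ
    refine ⟨⟨(SA.rep i : G) * y * (SA.rep i : G)⁻¹, SA.A_conj (SA.rep i).2 y.2⟩, ?_⟩
    rw [← hy]
    show SB.g _ = SB.g _
    congr 1
    apply Subtype.ext
    simp [mul_assoc]
  set N' : Subgroup A := (A ⊓ B).subgroupOf A with hN'
  have hNn : N'.Normal := ⟨fun x hx a => hND a (SA.A_le a.2) x hx⟩
  have hzero : ∀ x : A, (x : G) ∈ B ↔ ρ 0 x = 1 := by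
    intro x
    have h0 : (SA.rep 0 : G) ∈ D := (SA.stab _).1 (SA.rep_spec 0)
    rw [hρ, rho_eq_one]
    constructor
    · intro hx
      have := hBD _ (inv_mem h0) x hx
      rwa [inv_inv] at this
    · intro hx
      have := hBD _ h0 _ hx
      simpa [mul_assoc] using this
  have himgN : ∀ i, i ≠ 0 → alternatingGroup (Fin m) ≤ N'.map (ρ i) := by
    intro i hi
    refine (normal_dichotomy hm _ fun τ hτ x hx => ?_).resolve_left fun e => hN ?_
    · obtain ⟨y, hy, rfl⟩ := hx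
      obtain ⟨a, rfl⟩ := hρA i hτ
      exact ⟨a * y * a⁻¹, hNn.conj_mem y hy a, by simp⟩
    · -- every coordinate of the intersection is trivial
      have h1 : ∀ x (hx : x ∈ A ⊓ B), (SA.rep i : G)⁻¹ * x * (SA.rep i : G) ∈ B := fun x hx => by
        have : ρ i ⟨x, hx.1⟩ ∈ N'.map (ρ i) := ⟨_, hx, rfl⟩
        rw [e, Subgroup.mem_bot, hρ, rho_eq_one] at this
        exact this
      rw [eq_bot_iff]
      intro x hx
      refine Subgroup.mem_bot.2 (hA2 x hx.1 fun h hh => ?_)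
      rcases eq_or_ne (SA.f ⟨h, hh⟩ 0) 0 with e0 | e0
      · have hd : h ∈ D := (SA.stab _).1 e0
        have := hBD h⁻¹ (inv_mem hd) x hx.2
        rwa [inv_inv] at this
      · -- move the point to `i` inside `D`
        obtain ⟨j, hj⟩ := Fin.exists_succ_eq.2 e0
        obtain ⟨k, hk⟩ := Fin.exists_succ_eq.2 hi
        obtain ⟨τ, hτ, hτj⟩ := alt_transitive (by omega) j k
        obtain ⟨d, rfl⟩ := SA.alt_le_g haltA hτ
        have hdH : (d : G) * h ∈ H := mul_mem (SA.D_le d.2) hh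
        have hf : SA.f ⟨(d : G) * h, hdH⟩ 0 = i := by
          rw [show (⟨(d : G) * h, hdH⟩ : H) = ⟨d, SA.D_le d.2⟩ * ⟨h, hh⟩ from rfl, map_mul,
            Perm.mul_apply, ← hj, SA.hg, hτj, hk]
        have hq := SA.rep_div hdH
        rw [hf] at hq
        have hx' := h1 _ (hND d d.2 x hx)
        have := hBD _ (inv_mem hq) _ hx'
        simpa [mul_assoc] using this
  -- kernels of two coordinates
  have hpair : ∀ c e : Fin (m + 1), c ≠ e → alternatingGroup (Fin m) ≤ (ρ c).ker.map (ρ e) := by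
    intro c e hce σ hσ
    set h : G := (SA.rep c : G)⁻¹ * (SA.rep e : G) with hh
    have hhH : h ∈ H := mul_mem (inv_mem (SA.rep c).2) (SA.rep e).2
    have hne : SA.f ⟨h, hhH⟩ 0 ≠ 0 := by
      rw [show (⟨h, hhH⟩ : H) = (SA.rep c)⁻¹ * SA.rep e from rfl, map_mul, Perm.mul_apply, SA.rep_spec,
        map_inv, Ne, Perm.inv_eq_iff_eq, SA.rep_spec]
      exact hce.symm
    have hq := SA.rep_div hhH
    set s := SB.g ⟨_, hq⟩⁻¹ with hs
    obtain ⟨y, hy, hye⟩ := himgN _ hne (show s⁻¹ * σ * s ∈ alternatingGroup (Fin m) by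
      have := (inferInstance : (alternatingGroup (Fin m)).Normal).conj_mem σ hσ s⁻¹
      rwa [inv_inv] at this)
    refine ⟨⟨(SA.rep c : G) * y * (SA.rep c : G)⁻¹, SA.A_conj (SA.rep c).2 y.2⟩, ?_, ?_⟩
    · show ρ c _ = 1
      rw [hρ, rho_eq_one]
      simpa [mul_assoc] using (show (y : G) ∈ B from hy.2)
    · have : σ = s * (s⁻¹ * σ * s) * s⁻¹ := by group
      rw [this, ← hye, hρ, hs, rho, rho, MonoidHom.mk'_apply, MonoidHom.mk'_apply, map_inv, inv_inv,
        ← map_inv, ← map_mul, ← map_mul]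
      congr 1
      apply Subtype.ext
      simp only [Subgroup.coe_mul, Subgroup.coe_inv, hh]
      group
  -- kernels of several coordinates
  have hmany : ∀ (s : Finset (Fin (m + 1))) (e : Fin (m + 1)), e ∉ s →
      alternatingGroup (Fin m) ≤ (⨅ c ∈ s, (ρ c).ker).map (ρ e) := by
    intro s
    induction s using Finset.induction with
    | empty =>
      intro e _ σ hσ
      obtain ⟨x, rfl⟩ := hρA e hσ
      exact ⟨x, by simp, rfl⟩
    | insert c s hc ih =>
      intro e he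
      simp only [Finset.mem_insert, not_or] at he
      have hn : (⨅ d ∈ s, (ρ d).ker).Normal :=
        ⟨fun x hx a => by
          simp only [Subgroup.mem_iInf] at hx ⊢
          exact fun d hd => (ρ d).normal_ker.conj_mem x (hx d hd) a⟩
      conv_lhs => rw [← alt_perfect hm]
      refine (Subgroup.commutator_mono (ih e he.2) (hpair c e (Ne.symm he.1))).trans ?_
      rw [← Subgroup.map_commutator]
      refine Subgroup.map_mono ?_
      rw [Subgroup.commutator_le]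
      intro x hx y hy
      simp only [Subgroup.mem_iInf, Finset.mem_insert, forall_eq_or_imp]
      refine ⟨?_, fun d hd => ?_⟩
      · rw [MonoidHom.mem_ker] at hy ⊢
        rw [map_commutatorElement, hy, commutatorElement_one_right]
      · simp only [Subgroup.mem_iInf] at hx
        have := hx d hd
        rw [MonoidHom.mem_ker] at this ⊢
        rw [map_commutatorElement, this, commutatorElement_one_left]
  -- the simple factors and the perfect normal subgroup
  let L : Fin (m + 1) → Subgroup A := fun e =>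
    (⨅ c ∈ Finset.univ.erase e, (ρ c).ker) ⊓ (alternatingGroup (Fin m)).comap (ρ e)
  have hLker : ∀ e (x : A), x ∈ L e → ∀ c, c ≠ e → ρ c x = 1 := by
    intro e x hx c hc
    simp only [L, Subgroup.mem_inf, Subgroup.mem_iInf, Finset.mem_erase, Finset.mem_univ, and_true] at hx
    exact hx.1 c hc
  have hLeq : ∀ e (x y : A), x ∈ L e → y ∈ L e → ρ e x = ρ e y → x = y := by
    intro e x y hx hy hxy
    rw [← mul_inv_eq_one]
    refine joint SA SB hA2 _ fun c => ?_
    show ρ c _ = 1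
    rcases eq_or_ne c e with rfl | hc
    · rw [map_mul, map_inv, hxy, mul_inv_cancel]
    · rw [map_mul, map_inv, hLker e x hx c hc, hLker e y hy c hc, inv_one, mul_one]
  have hLsurj : ∀ e, ∀ σ ∈ alternatingGroup (Fin m), ∃ x ∈ L e, ρ e x = σ := by
    intro e σ hσ
    obtain ⟨x, hx, rfl⟩ := hmany (Finset.univ.erase e) e (Finset.notMem_erase e _) hσ
    exact ⟨x, ⟨hx, hσ⟩, rfl⟩
  have hLperf : ∀ e, L e ≤ ⁅L e, L e⁆ := by
    intro e x hx
    have h1 : alternatingGroup (Fin m) ≤ (L e).map (ρ e) := fun σ hσ => hLsurj e σ hσ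
    have : ρ e x ∈ ⁅L e, L e⁆.map (ρ e) := by
      rw [Subgroup.map_commutator]
      refine Subgroup.commutator_mono h1 h1 ?_
      rw [alt_perfect hm]
      exact hx.2
    obtain ⟨y, hy, hye⟩ := this
    rw [← hLeq e y x (Subgroup.commutator_le_self _ hy) hx hye]
    exact hy
  set E' : Subgroup A := ⨅ e, (alternatingGroup (Fin m)).comap (ρ e) with hE'
  have hLE : ∀ e, L e ≤ E' := by
    intro e x hx
    simp only [hE', Subgroup.mem_iInf, Subgroup.mem_comap]
    intro c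
    rcases eq_or_ne c e with rfl | hc
    · exact hx.2
    · rw [hLker e x hx c hc]; exact one_mem _
  have hEgen : E' ≤ ⨆ e, L e := by
    suffices h : ∀ (s : Finset (Fin (m + 1))) (x : A), x ∈ E' → (∀ c ∉ s, ρ c x = 1) → x ∈ ⨆ e, L e from
      fun x hx => h Finset.univ x hx fun c hc => absurd (Finset.mem_univ c) hc
    intro s
    induction s using Finset.induction with
    | empty =>
      intro x _ hx
      rw [joint SA SB hA2 x fun c => hx c (Finset.notMem_empty c)]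
      exact one_mem _
    | insert e s he ih =>
      intro x hx hxs
      obtain ⟨l, hl, hle⟩ := hLsurj e (ρ e x) (by
        simp only [hE', Subgroup.mem_iInf, Subgroup.mem_comap] at hx
        exact hx e)
      have hlE := hLE e hl
      have := ih (x * l⁻¹) (mul_mem hx (inv_mem hlE)) fun c hc => by
        rcases eq_or_ne c e with rfl | hce
        · rw [map_mul, map_inv, hle, mul_inv_cancel]
        · rw [map_mul, map_inv, hxs c (by simp [hce, hc]), hLker e l hl c hce, inv_one, mul_one]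
      have h2 := mul_mem this (Subgroup.mem_iSup_of_mem e hl)
      rwa [inv_mul_cancel_right] at h2
  set E : Subgroup G := E'.map A.subtype with hE
  have hEA : E ≤ A := Subgroup.map_subtype_le _
  have hEne : E ≠ ⊥ := by
    intro e
    obtain ⟨σ, hσ, hσ1⟩ := exists_alt_ne hm
    obtain ⟨x, hx, hxσ⟩ := hLsurj 0 σ hσ
    have : (x : G) ∈ E := ⟨x, hLE 0 hx, rfl⟩
    rw [e, Subgroup.mem_bot] at this
    rw [show x = 1 from Subtype.ext this, map_one] at hxσ
    exact hσ1 hxσ.symm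
  have hEH : ∀ h ∈ H, ∀ x ∈ E, h * x * h⁻¹ ∈ E := by
    rintro h hh _ ⟨x, hx, rfl⟩
    refine ⟨⟨h * x * h⁻¹, SA.A_conj hh x.2⟩, ?_, rfl⟩
    simp only [hE', SetLike.mem_coe, Subgroup.mem_iInf, Subgroup.mem_comap] at hx ⊢
    intro c
    have hk : h⁻¹ * (SA.rep c : G) ∈ H := mul_mem (inv_mem hh) (SA.rep c).2
    obtain ⟨s, hs⟩ := rho_conj SA SB hk x
    have hmem : s * ρ (SA.f ⟨_, hk⟩ 0) x * s⁻¹ ∈ alternatingGroup (Fin m) :=
      (inferInstance : (alternatingGroup (Fin m)).Normal).conj_mem _ (hx _) s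
    rw [← hs] at hmem
    rw [hρ, rho, MonoidHom.mk'_apply]
    convert hmem using 3
    simp [mul_assoc]
  have hEperf : E ≤ ⁅E, E⁆ := by
    rw [hE, ← Subgroup.map_commutator]
    refine Subgroup.map_mono (hEgen.trans (iSup_le fun e => (hLperf e).trans ?_))
    exact Subgroup.commutator_mono (hLE e) (hLE e)
  have hAA : ⁅A, A⁆ ≤ E := by
    rw [Subgroup.commutator_le]
    intro x hx y hy
    refine ⟨⁅(⟨x, hx⟩ : A), (⟨y, hy⟩ : A)⁆, ?_, rfl⟩
    simp only [hE', SetLike.mem_coe, Subgroup.mem_iInf, Subgroup.mem_comap, Perm.mem_alternatingGroup]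
    intro c
    rw [map_commutatorElement, map_commutatorElement]
    exact commutatorElement_eq_one_iff_commute.2 (Commute.all _ _)
  -- the factors other than the first lie in `B`, and only the identity of `B` centralises them
  have hLB : ∀ e, e ≠ 0 → ∀ x ∈ L e, (x : G) ∈ B := fun e he x hx =>
    (hzero x).2 (hLker e x hx 0 (Ne.symm he))
  have hcent : ∀ y ∈ B, (∀ e, e ≠ 0 → ∀ x ∈ L e, y * (x : G) * y⁻¹ = x) → y = 1 := by
    intro y hy hc
    have hyD : y ∈ D := SB.A_le hy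
    have hfix : ∀ e, SA.f ⟨y, SA.D_le hyD⟩ e = e := by
      intro e
      rcases eq_or_ne e 0 with rfl | he
      · exact (SA.stab _).2 hyD
      by_contra hne
      obtain ⟨σ, hσ, hσ1⟩ := exists_alt_ne hm
      obtain ⟨x, hx, hxσ⟩ := hLsurj e σ hσ
      have h1 := hLker e x hx _ hne
      rw [hρ, rho_eq_one] at h1
      have hk : y * (SA.rep e : G) ∈ H := mul_mem (SA.D_le hyD) (SA.rep e).2
      obtain ⟨s, hs⟩ := rho_conj SA SB hk x
      have hfe : SA.f ⟨_, hk⟩ 0 = SA.f ⟨y, SA.D_le hyD⟩ e := by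
        rw [show (⟨_, hk⟩ : H) = ⟨y, SA.D_le hyD⟩ * SA.rep e from rfl, map_mul, Perm.mul_apply, SA.rep_spec]
      rw [hfe, ← hρ, hLker e x hx _ hne, mul_one, mul_inv_cancel] at hs
      apply hσ1
      rw [← hxσ, hρ, rho, MonoidHom.mk'_apply, ← hs]
      congr 1
      apply Subtype.ext
      have hyx : y⁻¹ * (x : G) * y = x := by
        have := hc e he x hx
        nth_rw 1 [← this]
        group
      show (SA.rep e : G)⁻¹ * x * (SA.rep e : G) = (y * (SA.rep e : G))⁻¹ * x * (y * (SA.rep e : G))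
      conv_lhs => rw [← hyx]
      group
    have hyA : y ∈ A := (SA.ker _).1 (Equiv.ext hfix)
    have h1 : ∀ c, ρ c ⟨y, hyA⟩ = 1 := by
      intro c
      rcases eq_or_ne c 0 with rfl | hc0
      · exact (hzero _).1 hy
      refine centralizer_alt (by omega) fun σ hσ => ?_
      obtain ⟨x, hx, rfl⟩ := hLsurj c σ hσ
      rw [← map_mul, ← map_mul]
      congr 1
      apply Subtype.ext
      exact mul_inv_eq_iff_eq_mul.1 (hc c hc0 x hx)
    exact congrArg Subtype.val (joint SA SB hA2 ⟨y, hyA⟩ h1)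
  -- the conjugate of `E`
  set E₂ := E.map (MulAut.conj g₀).toMonoidHom with hE₂
  have hE₂B : E₂ ≤ B := by
    rintro _ ⟨x, hx, rfl⟩
    exact (hgA x).1 (hEA hx)
  have hE₂K : ∀ k ∈ K, ∀ y ∈ E₂, k * y * k⁻¹ ∈ E₂ := by
    rintro k hk _ ⟨x, hx, rfl⟩
    refine ⟨(g₀⁻¹ * k * g₀) * x * (g₀⁻¹ * k * g₀)⁻¹, hEH _ ?_ x hx, by simp [mul_assoc]⟩
    exact (hg₀ _).2 (by simpa [mul_assoc] using hk)
  by_cases hcase : E₂ ≤ A
  · apply hEne
    have hle : E₂ ≤ E := by
      refine le_trans ?_ hAA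
      have : E₂ ≤ ⁅E₂, E₂⁆ := by
        rw [hE₂, ← Subgroup.map_commutator]
        exact Subgroup.map_mono hEperf
      exact this.trans (Subgroup.commutator_mono hcase hcase)
    have heq : E₂ = E := Subgroup.eq_of_le_of_card_ge hle
      (Nat.card_congr (E.equivMapOfInjective _ (MulAut.conj g₀).injective).toEquiv).le
    exact hbot E (hEA.trans SA.A_le) hEH (fun k hk y hy => heq ▸ hE₂K k hk y (heq.symm ▸ hy))
  · let cj : A →* G := (MulAut.conj g₀).toMonoidHom.comp A.subtype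
    obtain ⟨e, he⟩ : ∃ e, ¬ (L e).map cj ≤ A := by
      by_contra hall
      push Not at hall
      apply hcase
      rw [hE₂, hE, Subgroup.map_map]
      refine (Subgroup.map_mono hEgen).trans ?_
      rw [Subgroup.map_iSup]
      exact iSup_le hall
    set L₂ := (L e).map cj with hL₂
    have hL₂E : L₂ ≤ E₂ := by
      rintro _ ⟨x, hx, rfl⟩
      exact ⟨x, ⟨x, hLE e hx, rfl⟩, rfl⟩
    have hL₂A : ∀ y ∈ L₂, y ∈ A → y = 1 := by
      rcases normal_dichotomy hm ((L e ⊓ A.comap cj).map (ρ e)) (fun τ hτ σ hσ => by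
          obtain ⟨x, hx, rfl⟩ := hσ
          obtain ⟨l, hl, rfl⟩ := hLsurj e τ hτ
          refine ⟨l * x * l⁻¹, ⟨(L e).mul_mem ((L e).mul_mem hl hx.1) ((L e).inv_mem hl), ?_⟩, by simp⟩
          show cj (l * x * l⁻¹) ∈ A
          rw [map_mul, map_mul, map_inv]
          exact SA.A_conj (SA.D_le (SB.A_le (hE₂B (hL₂E ⟨l, hl, rfl⟩)))) hx.2) with hb | hb
      · rintro _ ⟨x, hx, rfl⟩ hxA
        have hx1 : ρ e x ∈ (L e ⊓ A.comap cj).map (ρ e) := ⟨x, ⟨hx, hxA⟩, rfl⟩
        rw [hb, Subgroup.mem_bot, ← map_one (ρ e)] at hx1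
        rw [hLeq e x 1 hx (one_mem _) hx1, map_one]
      · exfalso
        apply he
        rintro _ ⟨x, hx, rfl⟩
        obtain ⟨x', ⟨hx', hx'A⟩, hxx⟩ := hb hx.2
        rw [← hLeq e x' x hx' hx hxx]
        exact hx'A
    set P₀ := E ⊓ B with hP₀
    have hP₀D : ∀ d ∈ D, ∀ y ∈ P₀, d * y * d⁻¹ ∈ P₀ := fun d hd y hy =>
      ⟨hEH d (SA.D_le hd) y hy.1, hBD d hd y hy.2⟩
    have hL₂n : ∀ w ∈ E₂, ∀ l ∈ L₂, w * l * w⁻¹ ∈ L₂ := by
      rintro _ ⟨_, ⟨w, -, rfl⟩, rfl⟩ _ ⟨l, hl, rfl⟩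
      refine ⟨w * l * w⁻¹, ⟨?_, ?_⟩, by simp [cj, mul_assoc]⟩
      · show w * l * w⁻¹ ∈ (⨅ c ∈ Finset.univ.erase e, (ρ c).ker : Subgroup A)
        simp only [Subgroup.mem_iInf, Finset.mem_erase, Finset.mem_univ, and_true, MonoidHom.mem_ker]
        intro c hc
        rw [map_mul, map_mul, hLker e l hl c hc, mul_one, map_inv, mul_inv_cancel]
      · show ρ e (w * l * w⁻¹) ∈ alternatingGroup (Fin m)
        rw [map_mul, map_mul, map_inv]
        exact (inferInstance : (alternatingGroup (Fin m)).Normal).conj_mem _ hl.2 _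
    have h1 : ⁅L₂, P₀⁆ ≤ P₀ ⊓ E₂ := by
      rw [Subgroup.commutator_le]
      intro l hl p hp
      refine ⟨?_, ?_⟩
      · rw [commutatorElement_def]
        exact P₀.mul_mem (hP₀D l (SB.A_le (hE₂B (hL₂E hl))) p hp) (P₀.inv_mem hp)
      · rw [commutatorElement_def, show l * p * l⁻¹ * p⁻¹ = l * (p * l⁻¹ * p⁻¹) by group]
        exact mul_mem (hL₂E hl) (hE₂K p (SB.D_le (SB.A_le hp.2)) _ (inv_mem (hL₂E hl)))
    have h2 : ⁅P₀ ⊓ E₂, L₂⁆ = ⊥ := by
      rw [eq_bot_iff, Subgroup.commutator_le]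
      intro w hw l hl
      rw [Subgroup.mem_bot]
      refine hL₂A _ ?_ (hEA ?_)
      · rw [commutatorElement_def]
        exact mul_mem (hL₂n w hw.2 l hl) (inv_mem hl)
      · rw [commutatorElement_def, show w * l * w⁻¹ * l⁻¹ = w * (l * w⁻¹ * l⁻¹) by group]
        exact mul_mem hw.1.1 (hP₀D l (SB.A_le (hE₂B (hL₂E hl))) _ (inv_mem hw.1)).1
    have h3 : ⁅⁅L₂, P₀⁆, L₂⁆ = ⊥ :=
      le_bot_iff.1 ((Subgroup.commutator_mono h1 le_rfl).trans h2.le)
    have h4 : ⁅⁅L₂, L₂⁆, P₀⁆ = ⊥ :=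
      Subgroup.commutator_commutator_eq_bot_of_rotate h3 (by rw [Subgroup.commutator_comm P₀ L₂]; exact h3)
    apply he
    intro y hy
    have hperf : L₂ ≤ ⁅L₂, L₂⁆ := by
      rw [hL₂, ← Subgroup.map_commutator]
      exact Subgroup.map_mono (hLperf e)
    have hy1 : y = 1 := hcent y (hE₂B (hL₂E hy)) fun c hc x hx => by
      have hxP : (x : G) ∈ P₀ := ⟨⟨x, hLE c hx, rfl⟩, hLB c hc x hx⟩
      have hyc := Subgroup.commutator_eq_bot_iff_le_centralizer.1 h4 (hperf hy)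
      have := Subgroup.mem_centralizer_iff.1 hyc x hxP
      rw [← this, mul_inv_cancel_right]
    rw [hy1]
    exact one_mem _

/-- The stabiliser embeds in the product of two symmetric groups. -/
theorem embed (hm : 5 ≤ m) (SA : Side H D A m) (SB : Side K D B m)
    (haltA : alternatingGroup (Fin (m + 1)) ≤ SA.f.range)
    (haltB : alternatingGroup (Fin (m + 1)) ≤ SB.f.range)
    (hcard : Nat.card A = Nat.card B)
    (hbot : ∀ Y : Subgroup G, Y ≤ D → (∀ h ∈ H, ∀ y ∈ Y, h * y * h⁻¹ ∈ Y) →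
      (∀ k ∈ K, ∀ y ∈ Y, k * y * k⁻¹ ∈ Y) → Y = ⊥) (hA : A ≠ ⊥) (hN : A ⊓ B = ⊥) :
    ∃ ψ : H →* Perm (Fin m), (∀ h, SA.f h = 1 → ψ h = 1 → h = 1) ∧ ψ.range ≤ SB.g.range ∧
      (alternatingGroup (Fin (m + 1))).prod (alternatingGroup (Fin m)) ≤ (SA.f.prod ψ).range := by
  have himg := image_big hm SA SB haltB hcard hbot hA
  set π := SB.g.comp (Subgroup.inclusion SA.A_le) with hπ
  set C : Subgroup G := H ⊓ Subgroup.centralizer (A : Set G) with hC
  have hBC : B ≤ C := by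
    intro b hb
    refine ⟨SA.D_le (SB.A_le hb), Subgroup.mem_centralizer_iff.2 fun a ha => ?_⟩
    have : a * b * a⁻¹ * b⁻¹ ∈ A ⊓ B := by
      refine ⟨?_, B.mul_mem (SB.A_conj (SB.D_le (SA.A_le ha)) hb) (B.inv_mem hb)⟩
      rw [show a * b * a⁻¹ * b⁻¹ = a * (b * a⁻¹ * b⁻¹) by group]
      exact mul_mem ha (SA.A_conj (SA.D_le (SB.A_le hb)) (inv_mem ha))
    rw [hN, Subgroup.mem_bot] at this
    exact mul_inv_eq_iff_eq_mul.1 (mul_inv_eq_one.1 this)
  have hCimg : alternatingGroup (Fin (m + 1)) ≤ (C.subgroupOf H).map SA.f := by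
    refine (normal_dichotomy (by omega) _ fun τ hτ x hx => ?_).resolve_left fun e => hA ?_
    · obtain ⟨c, hc, rfl⟩ := hx
      obtain ⟨h, rfl⟩ := haltA hτ
      refine ⟨h * c * h⁻¹, ⟨(h * c * h⁻¹).2, Subgroup.mem_centralizer_iff.2 fun a ha => ?_⟩, by simp⟩
      have ha' := SA.A_conj (inv_mem h.2) ha
      rw [inv_inv] at ha'
      have : _ * (c : G) = (c : G) * _ := Subgroup.mem_centralizer_iff.1 hc.2 _ ha'
      show a * ((h : G) * c * (h : G)⁻¹) = (h : G) * c * (h : G)⁻¹ * a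
      calc a * ((h : G) * c * (h : G)⁻¹) = h * (((h : G)⁻¹ * a * h) * c) * (h : G)⁻¹ := by group
        _ = (h : G) * c * (h : G)⁻¹ * a := by rw [this]; group
    · have hBA : B ≤ A := fun b hb => by
        have : SA.f ⟨b, SA.D_le (SB.A_le hb)⟩ ∈ (C.subgroupOf H).map SA.f := ⟨_, hBC hb, rfl⟩
        rw [e, Subgroup.mem_bot] at this
        exact (SA.ker _).1 this
      rw [inf_eq_right.2 hBA] at hN
      have h1 : Nat.card A = 1 := by rw [hcard, hN, Subgroup.card_bot]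
      exact Subgroup.eq_bot_of_card_eq _ h1
  have hex : ∀ h : H, ∃ σ ∈ SB.g.range, ∀ x : A, π ⟨(h : G) * x * (h : G)⁻¹, SA.A_conj h.2 x.2⟩ = σ * π x * σ⁻¹ := by
    intro h
    obtain ⟨τ, hτ, hτ0⟩ := alt_transitive (show 3 ≤ m + 1 by omega) 0 (SA.f h 0)
    obtain ⟨c, hc, rfl⟩ := hCimg hτ
    have hd : ((c⁻¹ * h : H) : G) ∈ D := (SA.stab _).1 (by
      rw [map_mul, Perm.mul_apply, map_inv, Perm.inv_eq_iff_eq, hτ0])
    refine ⟨SB.g ⟨_, hd⟩, ⟨_, rfl⟩, fun x => ?_⟩
    simp only [hπ, MonoidHom.comp_apply]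
    rw [← map_inv, ← map_mul, ← map_mul]
    congr 1
    apply Subtype.ext
    simp only [Subgroup.coe_mul, Subgroup.coe_inv, Subgroup.coe_inclusion]
    have hy : ((c : G)⁻¹ * (h : G)) * x * ((c : G)⁻¹ * (h : G))⁻¹ ∈ A :=
      SA.A_conj (mul_mem (inv_mem c.2) h.2) x.2
    have hcy : _ * (c : G) = (c : G) * _ := Subgroup.mem_centralizer_iff.1 hc.2 _ hy
    calc (h : G) * x * (h : G)⁻¹ = (c : G) * (((c : G)⁻¹ * h) * x * ((c : G)⁻¹ * h)⁻¹) * (c : G)⁻¹ := by group
      _ = _ := by rw [← hcy, mul_inv_cancel_right]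
  have huniq : ∀ σ σ' : Perm (Fin m), (∀ x : A, σ * π x * σ⁻¹ = σ' * π x * σ'⁻¹) → σ = σ' := by
    intro σ σ' h
    refine (inv_mul_eq_one.1 (centralizer_alt (by omega) (σ := σ⁻¹ * σ') fun τ hτ => ?_))
    obtain ⟨x, rfl⟩ := himg hτ
    calc σ⁻¹ * σ' * π x = σ⁻¹ * (σ' * π x * σ'⁻¹) * σ' := by group
      _ = π x * (σ⁻¹ * σ') := by rw [← h x]; group
  choose F hFr hF using hex
  let ψ : H →* Perm (Fin m) := MonoidHom.mk' F fun a b => huniq _ _ fun x => by
    rw [← hF (a * b) x, mul_inv_rev, show F a * F b * π x * ((F b)⁻¹ * (F a)⁻¹) = F a * (F b * π x * (F b)⁻¹) * (F a)⁻¹ by group,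
      ← hF b x, ← hF a]
    congr 1
    apply Subtype.ext
    simp [mul_assoc]
  have hψA : ∀ a : A, ψ ⟨a, SA.D_le (SA.A_le a.2)⟩ = π a := fun a => huniq _ _ fun x => by
    show F _ * _ * (F _)⁻¹ = _
    rw [← hF, ← map_inv, ← map_mul, ← map_mul]
    congr 1
  have hψC : ∀ c : H, (c : G) ∈ C → ψ c = 1 := fun c hc => huniq _ _ fun x => by
    show F _ * _ * (F _)⁻¹ = _
    rw [← hF, one_mul, inv_one, mul_one]
    congr 1
    apply Subtype.ext
    show (c : G) * x * (c : G)⁻¹ = x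
    rw [← Subgroup.mem_centralizer_iff.1 hc.2 x x.2, mul_inv_cancel_right]
  refine ⟨ψ, fun h h1 h2 => ?_, ?_, ?_⟩
  · have ha : (h : G) ∈ A := (SA.ker h).1 h1
    have := hψA ⟨h, ha⟩
    rw [show (⟨((⟨h, ha⟩ : A) : G), SA.D_le (SA.A_le ha)⟩ : H) = h from rfl, h2] at this
    have hb : (h : G) ∈ A ⊓ B := ⟨ha, (SB.g_ker _).1 this.symm⟩
    rw [hN, Subgroup.mem_bot] at hb
    exact Subtype.ext hb
  · rintro _ ⟨h, rfl⟩
    exact hFr h
  · rintro ⟨σ, τ⟩ ⟨hσ, hτ⟩
    obtain ⟨c, hc, rfl⟩ := hCimg hσ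
    obtain ⟨a, rfl⟩ := himg hτ
    refine ⟨c * ⟨a, SA.D_le (SA.A_le a.2)⟩, ?_⟩
    rw [MonoidHom.prod_apply, map_mul, map_mul, (SA.ker ⟨a, _⟩).2 a.2, mul_one, hψC c hc, one_mul, hψA]

end Cfsg.Agent.Classical.SuborbitAlt
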