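import Cfsg.Agent.Lib.Classical.SylowAltDecompGroup
import Cfsg.Prelude.Def_TwoFusion

/-!
# Decomposability of Sylow two-subgroups of alternating groups
-/

set_option autoImplicit false
set_option linter.unusedSectionVars false

namespace Cfsg.Agent.Classical.AltDecomp

open Equiv

/-- The iterated wreath product. -/
abbrev W (k : ℕ) : Type := IteratedWreathProduct C k

/-- The parity. -/
noncomputable def sgn (k : ℕ) : W k →* ℤˣ :=
  Perm.sign.comp (iteratedWreathToPermHom C k)

theorem toPerm_sign {D : Type*} [Group D] {Λ : Type*} [MulAction D Λ] [FaithfulSMul D Λ] [Fintype Λ]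
    [DecidableEq Λ] (x : D ≀ᵣ C) :
    Perm.sign (RegularWreathProduct.toPerm D C Λ x) =
      (∏ q : C, Perm.sign (MulAction.toPerm (x.left q) : Perm Λ)) *
        Perm.sign (Equiv.mulLeft x.right) ^ Fintype.card Λ := by
  have : (RegularWreathProduct.toPerm D C Λ x : Perm (Λ × C)) =
      prodCongrLeft (fun q : C => (MulAction.toPerm (x.left q) : Perm Λ)) *
        prodCongrRight (fun _ : Λ => Equiv.mulLeft x.right) := by
    ext1 p
    rfl
  rw [this, map_mul, Perm.sign_prodCongrLeft, Perm.sign_prodCongrRight, Finset.prod_const, Finset.card_univ]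

theorem sgn_succ (k : ℕ) (x : IteratedWreathProduct C k ≀ᵣ C) :
    sgn (k + 1) x = sgn k (x.left 1) * sgn k (x.left s) * Perm.sign (Equiv.mulLeft x.right) ^ 2 ^ k := by
  letI := MulAction.compHom (Fin k → C) (iteratedWreathToPermHom C k)
  haveI : FaithfulSMul (IteratedWreathProduct C k) (Fin k → C) :=
    ⟨fun h => iteratedWreathToPermHomInj C k (Equiv.ext h)⟩
  have h1 : sgn (k + 1) x = Perm.sign ((Fin.succFunEquiv C k).symm.permCongrHom.toMonoidHom
      (RegularWreathProduct.toPerm (IteratedWreathProduct C k) C (Fin k → C) x)) := rfl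
  rw [h1]
  refine (Perm.sign_permCongr _ _).trans ?_
  rw [toPerm_sign, Fintype.card_fun, Fintype.card_fin]
  have hp : ∀ a : IteratedWreathProduct C k,
      Perm.sign (MulAction.toPerm a : Perm (Fin k → C)) = sgn k a := fun a =>
    congrArg Perm.sign (Equiv.ext fun _ => rfl)
  rw [show (Finset.univ : Finset C) = {1, s} by decide, Finset.prod_pair (by decide), hp, hp]
  congr 2

theorem sgn_pair (k : ℕ) (a b : W k) :
    sgn (k + 1) (pair (D := IteratedWreathProduct C k) a b) = sgn k a * sgn k b := by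
  rw [sgn_succ]
  simp [pair, s_ne]

theorem sgn_sw (k : ℕ) (hk : 1 ≤ k) : sgn (k + 1) (sw (D := IteratedWreathProduct C k)) = 1 := by
  rw [sgn_succ]
  obtain ⟨j, rfl⟩ : ∃ j, k = j + 1 := ⟨k - 1, by omega⟩
  simp [sw, pow_succ]
  rw [mul_comm, pow_mul, Int.units_sq, one_pow]

theorem dat : ∀ k, ∃ z, Dat (W (k + 1)) (sgn (k + 1)) z ∧ (1 ≤ k → Dat₂ (W (k + 1)) (sgn (k + 1)) z) := by
  intro k
  induction k with
  | zero =>
    haveI : Finite (W 1) := inferInstance
    have hcard : Nat.card (W 1) = 2 := by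
      rw [IteratedWreathProduct.card]; simp
    have hall : ∀ x : W 1, x = 1 ∨ x = (sw : IteratedWreathProduct C 0 ≀ᵣ C) := by
      intro x
      rcases c_cases (RegularWreathProduct.right (D := IteratedWreathProduct C 0) x) with h | h
      · exact Or.inl (RegularWreathProduct.ext (D := PUnit) (funext fun _ => rfl) h)
      · exact Or.inr (RegularWreathProduct.ext (D := PUnit) (funext fun _ => rfl) h)
    refine ⟨(sw : IteratedWreathProduct C 0 ≀ᵣ C), ⟨?_, ?_, fun c _ => hall c, ⟨(sw : IteratedWreathProduct C 0 ≀ᵣ C), ?_⟩⟩, fun h => absurd h (by omega)⟩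
    · intro e
      exact s_ne (congrArg (RegularWreathProduct.right (D := IteratedWreathProduct C 0)) e)
    · intro x
      rcases hall x with rfl | rfl
      · exact (mul_one _).trans (one_mul _).symm
      · rfl
    · show sgn 1 (sw : IteratedWreathProduct C 0 ≀ᵣ C) = -1
      rw [sgn_succ]
      have : Perm.sign (Equiv.mulLeft s) = -1 := by decide
      have h0 : ∀ a : W 0, sgn 0 a = 1 := fun a => by
        show Perm.sign (1 : Perm (Fin 0 → C)) = 1
        exact map_one _
      simp [sw, h0, this]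
  | succ k ih =>
    obtain ⟨z, hz, -⟩ := ih
    have h2 := step (sgE := (sgn (k + 2) : IteratedWreathProduct C (k + 1) ≀ᵣ C →* ℤˣ))
      (fun a b => sgn_pair (k + 1) a b) (sgn_sw (k + 1) (by omega)) hz
    exact ⟨_, h2.toDat, fun _ => h2⟩

theorem even_part_center (k : ℕ) (hk : 3 ≤ k) :
    ∃ z : (sgn k).ker, z ≠ 1 ∧ ∀ c : (sgn k).ker, (∀ x, c * x = x * c) → c = 1 ∨ c = z := by
  obtain ⟨j, rfl⟩ : ∃ j, k = j + 2 := ⟨k - 2, by omega⟩
  obtain ⟨z, hz, hz2⟩ := dat j
  have hpair : ∀ a b, (sgn (j + 2) : IteratedWreathProduct C (j + 1) ≀ᵣ C →* ℤˣ) (pair a b) =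
      sgn (j + 1) a * sgn (j + 1) b := fun a b => sgn_pair (j + 1) a b
  have hsw := sgn_sw (j + 1) (by omega)
  have hev : sgn (j + 1) z = 1 := (hz2 (by omega)).even
  refine ⟨⟨(pair z z : IteratedWreathProduct C (j + 1) ≀ᵣ C), ?_⟩, fun e => ?_, fun c hc => ?_⟩
  · refine MonoidHom.mem_ker.2 ?_
    exact (hpair z z).trans (by rw [hev, one_mul])
  · exact hz.ne (pair_inj ((congrArg Subtype.val e).trans pair_one.symm)).1
  · rcases even_center (sgE := (sgn (j + 2) : IteratedWreathProduct C (j + 1) ≀ᵣ C →* ℤˣ)) hpair hsw hz hev c.1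
      (fun x hx => congrArg Subtype.val (hc ⟨x, MonoidHom.mem_ker.2 hx⟩)) with e | e
    · exact Or.inl (Subtype.ext e)
    · exact Or.inr (Subtype.ext e)

theorem isPGroup_W (k : ℕ) : IsPGroup 2 (W k) :=
  IsPGroup.of_card (n := ∑ i ∈ Finset.range k, 2 ^ i) (by rw [IteratedWreathProduct.card]; simp)

theorem card_W (k : ℕ) : Nat.card (W k) = 2 ^ (2 ^ k - 1) := by
  rw [IteratedWreathProduct.card, show Nat.card C = 2 by simp]
  congr 1
  have h := geom_sum_mul_add (1 : ℕ) k
  simp at h
  omega

/-- Binary digits and the two-part of a factorial. -/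
theorem digits (m : ℕ) : ∃ S : Finset ℕ, (∑ k ∈ S, 2 ^ k) = m ∧
    padicValNat 2 m.factorial + S.card = m := by
  induction m using Nat.strong_induction_on with
  | _ m ih =>
    rcases Nat.eq_zero_or_pos m with rfl | hm
    · exact ⟨∅, by simp⟩
    obtain ⟨S, h1, h2⟩ := ih (m / 2) (by omega)
    haveI : Fact (Nat.Prime 2) := ⟨Nat.prime_two⟩
    have hv : padicValNat 2 m.factorial = padicValNat 2 (m / 2).factorial + m / 2 := by
      conv_lhs => rw [← Nat.div_add_mod m 2]
      rw [padicValNat_factorial_mul_add (m / 2) (Nat.mod_lt m (by norm_num)), padicValNat_factorial_mul]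
    have hs : (∑ k ∈ S.image (· + 1), 2 ^ k) = 2 * (m / 2) := by
      rw [Finset.sum_image (fun a _ b _ h => Nat.add_right_cancel h), ← h1, Finset.mul_sum]
      exact Finset.sum_congr rfl fun k _ => by rw [pow_succ']
    have hc : (S.image (· + 1)).card = S.card :=
      Finset.card_image_of_injective _ (fun a b h => Nat.add_right_cancel h)
    rcases Nat.mod_two_eq_zero_or_one m with h | h
    · exact ⟨S.image (· + 1), by omega, by omega⟩
    · have h0 : 0 ∉ S.image (· + 1) := by simp
      exact ⟨insert 0 (S.image (· + 1)), by rw [Finset.sum_insert h0, hs]; omega,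
        by rw [Finset.card_insert_of_notMem h0, hc]; omega⟩

theorem sign_sigmaCongrRight {ι : Type*} [Fintype ι] [DecidableEq ι] {β : ι → Type*} [∀ i, Fintype (β i)]
    [∀ i, DecidableEq (β i)] (f : ∀ i, Perm (β i)) :
    Perm.sign (Perm.sigmaCongrRightHom β f) = ∏ i, Perm.sign (f i) := by
  let φ : (∀ i, Perm (β i)) →* ℤˣ := Perm.sign.comp (Perm.sigmaCongrRightHom β)
  let ψ : (∀ i, Perm (β i)) →* ℤˣ := tot fun i => Perm.sign
  have h : φ = ψ := by
    suffices key : ∀ i (p : Perm (β i)), φ (Pi.mulSingle i p) = ψ (Pi.mulSingle i p) from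
      MonoidHom.ext fun g => Subgroup.pi_mem_of_mulSingle_mem (H := φ.eqLocus ψ) g fun i => key i (g i)
    intro i p
    rw [show ψ (Pi.mulSingle i p) = Perm.sign p from
      tot_single (G := fun i => Perm (β i)) (sg := fun i => (Perm.sign : Perm (β i) →* ℤˣ)) i p]
    symm
    refine Perm.sign_bij (fun x _ => (⟨i, x⟩ : Σ j, β j)) ?_ ?_ ?_
    · intro x _ _
      simp [Perm.sigmaCongrRightHom, Pi.mulSingle_eq_same]
    · intro a b _ _ hab
      simpa using hab
    · rintro ⟨j, y⟩ hy
      by_cases hj : j = i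
      · subst hj
        simp [Perm.sigmaCongrRightHom, Pi.mulSingle_eq_same] at hy
        exact ⟨y, hy, rfl⟩
      · simp [Perm.sigmaCongrRightHom, Pi.mulSingle_eq_of_ne hj] at hy
  exact DFunLike.congr_fun h f

section model
variable (S : Finset ℕ)

/-- The factors. -/
abbrev GS : S → Type := fun k => W (k.1 + 2)

/-- The points. -/
abbrev Pts : Type := Σ k : S, (Fin (k.1 + 2) → C)

/-- The product of the wreath products on the points. -/
noncomputable def hom : (∀ k, GS S k) →* Perm (Pts S) :=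
  (Perm.sigmaCongrRightHom _).comp
    (Pi.monoidHom fun k : S => (iteratedWreathToPermHom C (k.1 + 2)).comp (Pi.evalMonoidHom (GS S) k))

theorem sign_hom (x : ∀ k, GS S k) : Perm.sign (hom S x) = tot (fun k => sgn (k.1 + 2)) x :=
  sign_sigmaCongrRight _

theorem hom_inj : Function.Injective (hom S) := fun x y h => funext fun k =>
  iteratedWreathToPermHomInj C _ (congrFun (Perm.sigmaCongrRightHom_injective h) k)

theorem card_pts : Nat.card (Pts S) = 4 * ∑ k ∈ S, 2 ^ k := by
  rw [Nat.card_sigma]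
  simp only [Nat.card_fun, Nat.card_fin, show Nat.card C = 2 by simp]
  rw [Finset.sum_coe_sort S (fun k => 2 ^ (k + 2)), Finset.mul_sum]
  exact Finset.sum_congr rfl fun k _ => by ring

theorem card_GS : Nat.card (∀ k, GS S k) = 2 ^ (∑ k ∈ S, (2 ^ (k + 2) - 1)) := by
  rw [Nat.card_pi, ← Finset.prod_pow_eq_pow_sum]
  simp only [card_W]
  exact Finset.prod_coe_sort S (fun k => 2 ^ (2 ^ (k + 2) - 1))

end model

theorem half_card {G : Type*} [Group G] [Finite G] (f : G →* ℤˣ) (w : G) (hw : f w = -1) :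
    2 * Nat.card f.ker = Nat.card G := by
  rw [← Subgroup.card_mul_index f.ker, Subgroup.index_ker, mul_comm]
  congr 1
  have hr : f.range = ⊤ := by
    rw [eq_top_iff]
    intro u _
    rcases Int.units_eq_one_or u with rfl | rfl
    · exact f.range.one_mem
    · exact ⟨w, hw⟩
  rw [hr]
  simp

/-- Decomposability transported along an isomorphism. -/
theorem dec_iff {G H : Type*} [Group G] [Group H] (P : Subgroup G) (e : H ≃* P) :
    (∃ S₁ S₂ : Subgroup G, S₁ ≠ ⊥ ∧ S₂ ≠ ⊥ ∧ Cfsg.IsInternalDirectProduct S₁ S₂ P) ↔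
      ∃ A B : Subgroup H, A ≠ ⊥ ∧ B ≠ ⊥ ∧ (∀ a ∈ A, ∀ b ∈ B, a * b = b * a) ∧ A ⊓ B = ⊥ ∧ A ⊔ B = ⊤ := by
  let f : H →* G := P.subtype.comp e.toMonoidHom
  have hf : Function.Injective f := Subtype.val_injective.comp e.injective
  have hr : f.range = P := by
    ext x
    exact ⟨by rintro ⟨y, rfl⟩; exact (e y).2, fun h => ⟨e.symm ⟨x, h⟩, by simp [f]⟩⟩
  constructor
  · rintro ⟨S₁, S₂, h1, h2, hle1, hle2, hcomm, hinf, hsup⟩
    have hm : ∀ T : Subgroup G, T ≤ P → (T.comap f).map f = T := fun T hT =>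
      Subgroup.map_comap_eq_self (hr.symm ▸ hT)
    refine ⟨S₁.comap f, S₂.comap f, fun h => h1 (by rw [← hm S₁ hle1, h, Subgroup.map_bot]),
      fun h => h2 (by rw [← hm S₂ hle2, h, Subgroup.map_bot]),
      fun a ha b hb => hf (by rw [map_mul, map_mul]; exact hcomm _ ha _ hb), ?_, ?_⟩
    · rw [← Subgroup.comap_inf, hinf, MonoidHom.comap_bot, (MonoidHom.ker_eq_bot_iff f).2 hf]
    · apply Subgroup.map_injective hf
      rw [Subgroup.map_sup, hm S₁ hle1, hm S₂ hle2, hsup, ← MonoidHom.range_eq_map, hr]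
  · rintro ⟨A, B, h1, h2, hcomm, hinf, hsup⟩
    refine ⟨A.map f, B.map f, fun h => h1 ((Subgroup.map_eq_bot_iff_of_injective A hf).1 h),
      fun h => h2 ((Subgroup.map_eq_bot_iff_of_injective B hf).1 h),
      (Subgroup.map_le_range f A).trans hr.le, (Subgroup.map_le_range f B).trans hr.le, ?_, ?_, ?_⟩
    · rintro _ ⟨a, ha, rfl⟩ _ ⟨b, hb, rfl⟩
      rw [← map_mul, hcomm a ha b hb, map_mul]
    · rw [← Subgroup.map_inf _ _ _ hf, hinf, Subgroup.map_bot]
    · rw [← Subgroup.map_sup, hsup, ← MonoidHom.range_eq_map, hr]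

theorem indec_of_center {H : Type*} [Group H] [Finite H] (hH : IsPGroup 2 H) (z : H) (hz : z ≠ 1)
    (only : ∀ c : H, (∀ x, c * x = x * c) → c = 1 ∨ c = z)
    (A B : Subgroup H) (hA : A ≠ ⊥) (hB : B ≠ ⊥) (hAB : ∀ a ∈ A, ∀ b ∈ B, a * b = b * a)
    (hinf : A ⊓ B = ⊥) (hsup : A ⊔ B = ⊤) : False := by
  have hnorm : ∀ S T : Subgroup H, (∀ a ∈ S, ∀ b ∈ T, a * b = b * a) → S ⊔ T = ⊤ → S.Normal := by
    intro S T h ht
    rw [← Subgroup.normalizer_eq_top_iff, eq_top_iff, ← ht]
    refine sup_le Subgroup.le_normalizer fun t ht' => ?_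
    rw [Subgroup.mem_normalizer_iff]
    intro x
    constructor
    · intro hx; rwa [← h x hx t ht', mul_inv_cancel_right]
    · intro hx
      have := h _ hx t ht'
      rw [inv_mul_cancel_right] at this
      rwa [← mul_left_cancel this] at hx
  haveI := hnorm A B hAB hsup
  haveI := hnorm B A (fun b hb a ha => (hAB a ha b hb).symm) (by rw [sup_comm, hsup])
  exact hz (Subgroup.mem_bot.1 (hinf ▸ ⟨mem_of_normal hH z only A hA, mem_of_normal hH z only B hB⟩))

theorem not_pow_two {S : Finset ℕ} {m : ℕ} (hm : (∑ k ∈ S, 2 ^ k) = m) (hm0 : 1 ≤ m) :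
    S.card = 1 ↔ ∃ r, 4 * m = 2 ^ r := by
  constructor
  · intro h
    obtain ⟨k, rfl⟩ := Finset.card_eq_one.1 h
    exact ⟨k + 2, by rw [← hm, Finset.sum_singleton]; ring⟩
  · rintro ⟨r, hr⟩
    have hr2 : 2 ≤ r := by
      by_contra h
      interval_cases r <;> omega
    obtain ⟨j, rfl⟩ : ∃ j, r = j + 2 := ⟨r - 2, by omega⟩
    have hj : m = 2 ^ j := by rw [pow_add] at hr; omega
    have hS : S = {j} := by
      have hle : ∀ k ∈ S, k ≤ j := fun k hk => by
        by_contra h
        have h1 := Finset.single_le_sum (f := fun k => 2 ^ k) (fun _ _ => Nat.zero_le _) hk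
        have h2 : 2 ^ j < 2 ^ k := Nat.pow_lt_pow_right (by norm_num) (by omega)
        omega
      have hj' : j ∈ S := by
        by_contra h
        have := Nat.geomSum_lt (m := 2) (n := j) (s := S) le_rfl fun k hk =>
          lt_of_le_of_ne (hle k hk) fun e => h (e ▸ hk)
        omega
      have hz : (∑ k ∈ S.erase j, 2 ^ k) = 0 := by
        have := Finset.add_sum_erase S (fun k => 2 ^ k) hj'
        omega
      ext k
      rw [Finset.mem_singleton]
      refine ⟨fun hk => ?_, fun e => e ▸ hj'⟩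
      by_contra hne
      have := Finset.sum_eq_zero_iff.1 hz k (Finset.mem_erase.2 ⟨hne, hk⟩)
      exact absurd this (pow_ne_zero _ (by norm_num))
    rw [hS, Finset.card_singleton]

/-- The theorem. -/
theorem main (n : ℕ) (hn : 4 ≤ n) (P : Sylow 2 (alternatingGroup (Fin n))) :
    (∃ S₁ S₂ : Subgroup (alternatingGroup (Fin n)), S₁ ≠ ⊥ ∧ S₂ ≠ ⊥ ∧
        Cfsg.IsInternalDirectProduct S₁ S₂ (P : Subgroup (alternatingGroup (Fin n)))) ↔
      (n = 4 ∨ n = 5 ∨ ((n % 4 = 2 ∨ n % 4 = 3) ∧ ∀ r : ℕ, 4 * (n / 4) ≠ 2 ^ r)) := by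
  classical
  haveI : Fact (Nat.Prime 2) := ⟨Nat.prime_two⟩
  obtain ⟨S, hS, hv⟩ := digits (n / 4)
  have hv4 : padicValNat 2 n.factorial + S.card = n / 2 + n / 4 + n / 4 := by
    have h1 : padicValNat 2 n.factorial = padicValNat 2 (n / 2).factorial + n / 2 := by
      conv_lhs => rw [← Nat.div_add_mod n 2]
      rw [padicValNat_factorial_mul_add (n / 2) (Nat.mod_lt n (by norm_num)), padicValNat_factorial_mul]
    have h2 : padicValNat 2 (n / 2).factorial = padicValNat 2 (n / 4).factorial + n / 4 := by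
      conv_lhs => rw [← Nat.div_add_mod (n / 2) 2]
      rw [padicValNat_factorial_mul_add (n / 2 / 2) (Nat.mod_lt _ (by norm_num)), padicValNat_factorial_mul,
        Nat.div_div_eq_div_mul]
    omega
  have hsum : (∑ k ∈ S, (2 ^ (k + 2) - 1)) + S.card = 4 * (n / 4) := by
    rw [Finset.card_eq_sum_ones, ← Finset.sum_add_distrib, ← hS, Finset.mul_sum]
    refine Finset.sum_congr rfl fun k _ => ?_
    have := Nat.two_pow_pos k
    rw [pow_add]
    omega
  have hne : S.Nonempty := by
    by_contra h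
    rw [Finset.not_nonempty_iff_eq_empty] at h
    rw [h, Finset.sum_empty] at hS
    omega
  -- the points
  have hcardpts : Nat.card (Pts S ⊕ Fin (n % 4)) = n := by
    rw [Nat.card_sum, card_pts, hS, Nat.card_fin]; omega
  let eq : Perm (Pts S ⊕ Fin (n % 4)) ≃* Perm (Fin n) :=
    (Finite.equivFinOfCardEq hcardpts).permCongrHom
  have hsigneq : ∀ g, Perm.sign (eq g) = Perm.sign g := fun g => Perm.sign_permCongr _ g
  have halt : Nat.card (alternatingGroup (Fin n)) * 2 = n.factorial := by
    haveI : Nontrivial (Fin n) := Fin.nontrivial_iff_two_le.2 (by omega)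
    rw [Nat.card_eq_fintype_card, mul_comm, two_mul_card_alternatingGroup, Fintype.card_perm, Fintype.card_fin]
  have hfac : (Nat.card (alternatingGroup (Fin n))).factorization 2 + 1 = padicValNat 2 n.factorial := by
    rw [← halt, Nat.factorization_def _ Nat.prime_two,
      padicValNat.mul (Nat.card_pos).ne' (by norm_num), padicValNat.self (by norm_num)]
  -- transport: an injective hom of the right order gives an isomorphism with `P`
  have transport : ∀ (H : Type) [Group H] (f : H →* Perm (Fin n)), Function.Injective f →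
      (∀ x, Perm.sign (f x) = 1) → Nat.card H * 2 = 2 ^ padicValNat 2 n.factorial →
      Nonempty (H ≃* (P : Subgroup (alternatingGroup (Fin n)))) := by
    intro H _ f hf hs hc
    let g : H →* alternatingGroup (Fin n) := f.codRestrict _ fun x => Perm.mem_alternatingGroup.2 (hs x)
    have hg : Function.Injective g := fun a b h => hf (congrArg Subtype.val h)
    have hr : Nat.card g.range = 2 ^ (Nat.card (alternatingGroup (Fin n))).factorization 2 := by
      rw [← Nat.card_congr (MonoidHom.ofInjective hg).toEquiv]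
      rw [← hfac, pow_succ] at hc
      omega
    exact ⟨(MonoidHom.ofInjective hg).trans ((Sylow.ofCard g.range hr).equiv P)⟩
  have hcard2 : ∀ e : ℕ, e = padicValNat 2 n.factorial → 2 ^ e = 2 ^ padicValNat 2 n.factorial :=
    fun e he => by rw [he]
  let sgS : ∀ k : S, GS S k →* ℤˣ := fun k => sgn (k.1 + 2)
  choose z hz using fun k : S => dat (k.1 + 1)
  have hd : ∀ k : S, Dat₂ (GS S k) (sgS k) (z k) := fun k => (hz k).2 (by omega)
  have hpg : IsPGroup 2 (∀ k, GS S k) := IsPGroup.of_card (card_GS S)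
  by_cases hr : n % 4 = 2 ∨ n % 4 = 3
  · -- the extra transposition restores the parity
    let a : Fin (n % 4) := ⟨0, by omega⟩
    let b : Fin (n % 4) := ⟨1, by omega⟩
    let τ : ℤˣ →* Perm (Fin (n % 4)) :=
      { toFun := fun u => if u = 1 then 1 else Equiv.swap a b
        map_one' := if_pos rfl
        map_mul' := fun u v => by
          rcases Int.units_eq_one_or u with rfl | rfl <;> rcases Int.units_eq_one_or v with rfl | rfl <;>
            simp }
    have hτ : ∀ u, Perm.sign (τ u) = u := by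
      intro u
      rcases Int.units_eq_one_or u with rfl | rfl
      · simp
      · show Perm.sign (if (-1 : ℤˣ) = 1 then 1 else Equiv.swap a b) = -1
        rw [if_neg (by decide), Perm.sign_swap]
        exact fun e => by simpa [a, b] using congrArg Fin.val e
    let f : (∀ k, GS S k) →* Perm (Fin n) := eq.toMonoidHom.comp
      ((Perm.sumCongrHom _ _).comp ((hom S).prod (τ.comp (tot sgS))))
    have hf : Function.Injective f := fun x y h =>
      hom_inj S (Prod.ext_iff.1 (Perm.sumCongrHom_injective (eq.injective h))).1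
    have hs : ∀ x, Perm.sign (f x) = 1 := fun x => by
      show Perm.sign (eq (Equiv.sumCongr (hom S x) (τ (tot sgS x)))) = 1
      rw [hsigneq, Perm.sign_sumCongr, hτ, sign_hom]
      exact Int.units_mul_self _
    obtain ⟨e⟩ := transport _ f hf hs (by rw [card_GS, ← pow_succ]; exact hcard2 _ (by omega))
    rw [dec_iff _ e]
    rcases Nat.lt_or_ge S.card 2 with h1 | h2
    · -- one factor
      have h1' : S.card = 1 := by have := hne.card_pos; omega
      obtain ⟨r, hr'⟩ := (not_pow_two hS (by omega)).1 h1'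
      constructor
      · rintro ⟨A, B, hA, hB, hAB, hinf, hsup⟩
        exfalso
        obtain ⟨k₀, hk₀⟩ := Finset.card_eq_one.1 h1'
        have hk : k₀ ∈ S := by rw [hk₀]; exact Finset.mem_singleton_self _
        have hu : ∀ k : S, k = ⟨k₀, hk⟩ := fun k => Subtype.ext (Finset.mem_singleton.1 (hk₀ ▸ k.2 : k.1 ∈ ({k₀} : Finset ℕ)))
        refine indec_of_center hpg (Pi.mulSingle ⟨k₀, hk⟩ (z ⟨k₀, hk⟩)) ?_ ?_ A B hA hB hAB hinf hsup
        · intro h
          have := congrFun h ⟨k₀, hk⟩
          rw [Pi.mulSingle_eq_same] at this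
          exact (hd _).ne this
        · intro c hc
          rcases (hd ⟨k₀, hk⟩).only (c ⟨k₀, hk⟩) (fun x => by
            have := congrFun (hc (Pi.mulSingle ⟨k₀, hk⟩ x)) ⟨k₀, hk⟩
            rw [Pi.mul_apply, Pi.mul_apply, Pi.mulSingle_eq_same] at this
            exact this) with h | h
          · left; funext k; rw [hu k]; exact h
          · right; funext k; rw [hu k, Pi.mulSingle_eq_same]; exact h
      · rintro (h | h | ⟨-, h⟩)
        · omega
        · omega
        · exact absurd hr' (h r)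
    · -- at least two factors
      have hiff : n = 4 ∨ n = 5 ∨ ((n % 4 = 2 ∨ n % 4 = 3) ∧ ∀ r : ℕ, 4 * (n / 4) ≠ 2 ^ r) :=
        Or.inr (Or.inr ⟨hr, fun r h => by have := (not_pow_two hS (by omega)).2 ⟨r, h⟩; omega⟩)
      refine iff_of_true ?_ hiff
      obtain ⟨k₁, hk₁, k₂, hk₂, hne12⟩ := Finset.one_lt_card.1 h2
      let A : Subgroup (∀ k, GS S k) := (MonoidHom.mulSingle (GS S) ⟨k₁, hk₁⟩).range
      let B : Subgroup (∀ k, GS S k) := (Pi.evalMonoidHom (GS S) ⟨k₁, hk₁⟩).ker
      refine ⟨A, B, ?_, ?_, ?_, ?_, ?_⟩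
      · intro h
        have : Pi.mulSingle (⟨k₁, hk₁⟩ : S) (z ⟨k₁, hk₁⟩) ∈ A := ⟨_, rfl⟩
        rw [h, Subgroup.mem_bot, Pi.mulSingle_eq_one_iff] at this
        exact (hd _).ne this
      · intro h
        have : Pi.mulSingle (⟨k₂, hk₂⟩ : S) (z ⟨k₂, hk₂⟩) ∈ B :=
          MonoidHom.mem_ker.2 (Pi.mulSingle_eq_of_ne (fun e => hne12 (congrArg Subtype.val e)) _)
        rw [h, Subgroup.mem_bot, Pi.mulSingle_eq_one_iff] at this
        exact (hd _).ne this
      · rintro _ ⟨a, rfl⟩ b hb
        funext k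
        by_cases hk : k = ⟨k₁, hk₁⟩
        · subst hk
          have : b ⟨k₁, hk₁⟩ = 1 := hb
          show Pi.mulSingle _ a _ * b _ = b _ * Pi.mulSingle _ a _
          rw [this, mul_one, one_mul]
        · show Pi.mulSingle _ a k * b k = b k * Pi.mulSingle _ a k
          rw [Pi.mulSingle_eq_of_ne hk, mul_one, one_mul]
      · rw [eq_bot_iff]
        rintro _ ⟨⟨a, rfl⟩, hb⟩
        have ha : a = 1 := by
          exact (Pi.mulSingle_eq_same _ _).symm.trans (MonoidHom.mem_ker.1 hb)
        rw [ha, map_one]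
        exact one_mem _
      · rw [eq_top_iff]
        intro x _
        have : x = Pi.mulSingle ⟨k₁, hk₁⟩ (x ⟨k₁, hk₁⟩) *
            ((Pi.mulSingle ⟨k₁, hk₁⟩ (x ⟨k₁, hk₁⟩))⁻¹ * x) := by rw [mul_inv_cancel_left]
        rw [this]
        refine Subgroup.mul_mem_sup ⟨_, rfl⟩ (MonoidHom.mem_ker.2 ?_)
        show (Pi.mulSingle (⟨k₁, hk₁⟩ : S) (x ⟨k₁, hk₁⟩) (⟨k₁, hk₁⟩ : S))⁻¹ * x ⟨k₁, hk₁⟩ = 1
        rw [Pi.mulSingle_eq_same, inv_mul_cancel]
  · -- the even part
    let f : (tot sgS).ker →* Perm (Fin n) := eq.toMonoidHom.comp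
      ((Perm.sumCongrHom _ _).comp (((hom S).comp (tot sgS).ker.subtype).prod 1))
    have hf : Function.Injective f := fun x y h =>
      Subtype.ext (hom_inj S (Prod.ext_iff.1 (Perm.sumCongrHom_injective (eq.injective h))).1)
    have hs : ∀ x, Perm.sign (f x) = 1 := fun x => by
      show Perm.sign (eq (Equiv.sumCongr (hom S x.1) 1)) = 1
      rw [hsigneq, Perm.sign_sumCongr, sign_hom, map_one, mul_one]
      exact x.2
    obtain ⟨k₀, hk₀⟩ := hne
    obtain ⟨w, hw⟩ := (hd ⟨k₀, hk₀⟩).odd
    have hhalf := half_card (tot sgS) (Pi.mulSingle ⟨k₀, hk₀⟩ w) (by rw [tot_single]; exact hw)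
    obtain ⟨e⟩ := transport _ f hf hs (by rw [mul_comm, hhalf, card_GS]; exact hcard2 _ (by omega))
    rw [dec_iff _ e]
    by_cases h45 : n = 4 ∨ n = 5
    · refine iff_of_true ?_ (h45.imp id Or.inl)
      have hS0 : S = {0} := by
        have h1 : S.card = 1 := (not_pow_two hS (by omega)).2 ⟨2, by omega⟩
        obtain ⟨k, rfl⟩ := Finset.card_eq_one.1 h1
        rw [Finset.sum_singleton] at hS
        have : 2 ^ k = 1 := by omega
        cases k with
        | zero => rfl
        | succ k => rw [pow_succ] at this; omega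
      -- the group has order four and exponent two
      have hc4 : Nat.card (tot sgS).ker = 4 := by
        have h3 : (∑ k ∈ S, (2 ^ (k + 2) - 1)) = 3 := by rw [hS0]; simp
        rw [card_GS, h3] at hhalf
        omega
      obtain ⟨z₀, hz₀⟩ : ∃ z₀ : (tot sgS).ker, z₀ ≠ 1 := by
        haveI : Nontrivial (tot sgS).ker := Finite.one_lt_card_iff_nontrivial.1 (by omega)
        exact exists_ne 1
      have hexp : ∀ x : (tot sgS).ker, x * x = 1 := by
        intro x
        apply Subtype.ext
        funext k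
        show x.1 k * x.1 k = 1
        have hk : k.1 = 0 := Finset.mem_singleton.1 (hS0 ▸ k.2)
        have hx : sgS k (x.1 k) = 1 := by
          have := MonoidHom.mem_ker.1 x.2
          have hu : ∀ j : S, j = k := fun j =>
            Subtype.ext ((Finset.mem_singleton.1 (hS0 ▸ j.2)).trans hk.symm)
          rw [show x.1 = Pi.mulSingle k (x.1 k) from funext fun j => by rw [hu j, Pi.mulSingle_eq_same],
            tot_single] at this
          exact this
        obtain ⟨j, hj⟩ := k
        simp only at hk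
        subst hk
        revert hx
        generalize x.1 ⟨0, hj⟩ = w
        intro hx
        exact two_step w hx
      have hcomm : ∀ x y : (tot sgS).ker, x * y = y * x := fun x y => by
        calc x * y = (y * y) * (x * y) * ((x * y) * (x * y))⁻¹ * (x * x) := by
              rw [hexp y, hexp (x * y), hexp x]; group
          _ = y * x := by group
      obtain ⟨b₀, hb₀⟩ : ∃ b₀ : (tot sgS).ker, b₀ ∉ Subgroup.zpowers z₀ := by
        by_contra h
        push Not at h
        have h1 : Nat.card (Subgroup.zpowers z₀) = 4 := by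
          rw [(Subgroup.eq_top_iff' _).2 h, Subgroup.card_top, hc4]
        rw [Nat.card_zpowers] at h1
        have := orderOf_dvd_of_pow_eq_one (n := 2) (x := z₀) (by rw [pow_two, hexp])
        rw [h1] at this
        omega
      have hb1 : b₀ ≠ 1 := fun e => hb₀ (e ▸ one_mem _)
      have hoz : orderOf z₀ = 2 := orderOf_eq_prime (by rw [pow_two, hexp]) hz₀
      have hob : orderOf b₀ = 2 := orderOf_eq_prime (by rw [pow_two, hexp]) hb1
      have hinf : Subgroup.zpowers z₀ ⊓ Subgroup.zpowers b₀ = ⊥ := by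
        rw [eq_bot_iff]
        rintro x ⟨hxz, hxb⟩
        rw [Subgroup.mem_bot]
        by_contra hx
        have h1 : Subgroup.zpowers x = Subgroup.zpowers b₀ :=
          Subgroup.eq_of_le_of_card_ge (Subgroup.zpowers_le.2 hxb)
            (by rw [Nat.card_zpowers, Nat.card_zpowers, hob, orderOf_eq_prime (by rw [pow_two, hexp]) hx])
        exact hb₀ (Subgroup.zpowers_le.2 hxz (h1 ▸ Subgroup.mem_zpowers b₀))
      refine ⟨Subgroup.zpowers z₀, Subgroup.zpowers b₀, Subgroup.zpowers_ne_bot.2 hz₀, Subgroup.zpowers_ne_bot.2 hb1,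
        fun a _ b _ => hcomm a b, hinf, ?_⟩
      have hlt : Subgroup.zpowers z₀ < Subgroup.zpowers z₀ ⊔ Subgroup.zpowers b₀ :=
        lt_of_le_of_ne le_sup_left fun e => hb₀ (e.symm ▸ Subgroup.mem_sup_right (Subgroup.mem_zpowers b₀))
      have hdvd := Subgroup.card_subgroup_dvd_card (Subgroup.zpowers z₀ ⊔ Subgroup.zpowers b₀)
      have hgt := Set.Finite.card_lt_card (Set.toFinite _) hlt
      simp only [SetLike.coe_sort_coe] at hgt
      rw [Nat.card_zpowers, hoz] at hgt
      rw [hc4] at hdvd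
      refine Subgroup.eq_top_of_card_eq _ ?_
      rw [hc4]
      have := Nat.le_of_dvd (by norm_num) hdvd
      generalize Nat.card (Subgroup.zpowers z₀ ⊔ Subgroup.zpowers b₀ : Subgroup (tot sgS).ker) = c at hdvd hgt this ⊢
      interval_cases c <;> omega
    · refine iff_of_false ?_ (by omega)
      rintro ⟨A, B, hA, hB, hAB, hinf, hsup⟩
      rcases Nat.lt_or_ge S.card 2 with h1 | h2
      · -- one factor: centre of order two
        have h1' : S.card = 1 := by have := Finset.card_pos.2 ⟨k₀, hk₀⟩; omega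
        obtain ⟨j, hj⟩ := Finset.card_eq_one.1 h1'
        have hjk : k₀ = j := Finset.mem_singleton.1 (hj ▸ hk₀)
        subst hjk
        have hk3 : 1 ≤ k₀ := by
          rw [hj, Finset.sum_singleton] at hS
          by_contra h
          rw [show k₀ = 0 by omega, pow_zero] at hS
          omega
        have hu : ∀ k : S, k = ⟨k₀, hk₀⟩ := fun k => Subtype.ext (Finset.mem_singleton.1 (hj ▸ k.2 : k.1 ∈ ({k₀} : Finset ℕ)))
        obtain ⟨z1, hz1, honly⟩ := even_part_center (k₀ + 2) (by omega)
        have hlift : ∀ x : W (k₀ + 2), sgn (k₀ + 2) x = 1 →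
            (Pi.mulSingle (⟨k₀, hk₀⟩ : S) x : ∀ k, GS S k) ∈ (tot sgS).ker := fun x hx => by
          rw [MonoidHom.mem_ker, tot_single]; exact hx
        have hproj : ∀ x : (tot sgS).ker, sgn (k₀ + 2) (x.1 ⟨k₀, hk₀⟩) = 1 := fun x => by
          have := MonoidHom.mem_ker.1 x.2
          rw [show x.1 = Pi.mulSingle ⟨k₀, hk₀⟩ (x.1 ⟨k₀, hk₀⟩) from funext fun k => by
            rw [hu k, Pi.mulSingle_eq_same], tot_single] at this
          exact this
        refine indec_of_center (IsPGroup.to_subgroup hpg _) ⟨_, hlift z1.1 z1.2⟩ ?_ ?_ A B hA hB hAB hinf hsup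
        · intro h
          have := congrFun (congrArg Subtype.val h) ⟨k₀, hk₀⟩
          exact hz1 (Subtype.ext ((Pi.mulSingle_eq_same (M := GS S) (⟨k₀, hk₀⟩ : S) z1.1).symm.trans this))
        · intro c hc
          rcases honly ⟨c.1 ⟨k₀, hk₀⟩, hproj c⟩ (fun x => Subtype.ext (by
            have := congrFun (congrArg Subtype.val (hc ⟨_, hlift x.1 x.2⟩)) ⟨k₀, hk₀⟩
            show c.1 ⟨k₀, hk₀⟩ * x.1 = x.1 * c.1 ⟨k₀, hk₀⟩
            have e : c.1 ⟨k₀, hk₀⟩ * Pi.mulSingle (⟨k₀, hk₀⟩ : S) x.1 ⟨k₀, hk₀⟩ =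
                Pi.mulSingle (⟨k₀, hk₀⟩ : S) x.1 ⟨k₀, hk₀⟩ * c.1 ⟨k₀, hk₀⟩ := this
            rwa [Pi.mulSingle_eq_same] at e)) with h | h
          · left; apply Subtype.ext; funext k; rw [hu k]; exact congrArg Subtype.val h
          · right; apply Subtype.ext; funext k; rw [hu k]
            exact (congrArg Subtype.val h).trans (Pi.mulSingle_eq_same (M := GS S) (⟨k₀, hk₀⟩ : S) z1.1).symm
      · -- several factors
        haveI : Nontrivial S := by
          obtain ⟨a, ha, b, hb, hab⟩ := Finset.one_lt_card.1 h2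
          exact ⟨⟨⟨a, ha⟩, ⟨b, hb⟩, fun e => hab (congrArg Subtype.val e)⟩⟩
        let K := (tot sgS).ker
        rcases ker_indec hd inferInstance (A.map K.subtype) (B.map K.subtype) (Subgroup.map_subtype_le A)
          (Subgroup.map_subtype_le B)
          (by rintro _ ⟨a, ha, rfl⟩ _ ⟨b, hb, rfl⟩; exact congrArg Subtype.val (hAB a ha b hb))
          (by rw [← Subgroup.map_inf _ _ _ K.subtype_injective, hinf, Subgroup.map_bot])
          (by rw [← Subgroup.map_sup, hsup, ← MonoidHom.range_eq_map, Subgroup.range_subtype]) with h | h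
        · exact hA ((Subgroup.map_eq_bot_iff_of_injective A K.subtype_injective).1 h)
        · exact hB ((Subgroup.map_eq_bot_iff_of_injective B K.subtype_injective).1 h)
where
  /-- In the even part of the second step all elements square to one. -/
  two_step : ∀ w : W 2, sgn 2 w = 1 → w * w = 1 := by
    intro w
    obtain ⟨z, hz, -⟩ := dat 0
    have habel : ∀ x : W 1, x = 1 ∨ x = z := fun x => hz.only x (by
      intro y
      have h2 : Nat.card (W 1) = 2 := by rw [card_W]; rfl
      haveI := Fact.mk Nat.prime_two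
      haveI := isCyclic_of_prime_card h2
      exact IsMulCommutative.is_comm.comm x y)
    intro hw
    obtain ⟨σ, hσ⟩ : ∃ σ : IteratedWreathProduct C 1 ≀ᵣ C →* ℤˣ, σ = sgn (1 + 1) := ⟨sgn (1 + 1), rfl⟩
    have key : ∀ w : IteratedWreathProduct C 1 ≀ᵣ C, σ w = 1 → w * w = 1 := by
      intro w hw'
      have hsq : ∀ x : IteratedWreathProduct C 1, x * x = 1 := fun x => by
        rcases habel x with e | e <;> rw [e]
        · exact one_mul _
        · exact hz.sq
      rcases c_cases w.right with h | h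
      · rw [base_eq w h, pair_mul, hsq, hsq, pair_one]
      · have he := outer_eq w h
        have hp : ∀ a b, σ (pair a b) = sgn 1 a * sgn 1 b := fun a b => hσ ▸ sgn_pair 1 a b
        have hs1 : σ sw = 1 := hσ ▸ sgn_sw 1 le_rfl
        rw [he, map_mul, hp, hs1, mul_one] at hw'
        rw [he, mul_assoc, ← mul_assoc sw, sw_pair, mul_assoc, sw_sq, mul_one, pair_mul]
        obtain ⟨v, hv⟩ := hz.odd
        have hzz : sgn 1 z = -1 := by
          rcases habel v with e | e <;> rw [e] at hv
          · rw [map_one] at hv; exact absurd hv (by decide)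
          · exact hv
        have hone : sgn 1 (1 : IteratedWreathProduct C 1) = 1 := map_one _
        generalize w.left 1 = p at hw' ⊢
        generalize w.left s = q at hw' ⊢
        rcases habel p with e1 | e1 <;> rcases habel q with e2 | e2 <;> subst e1 e2
        · rw [mul_one, pair_one]
        · rw [hone, hzz] at hw'; exact absurd hw' (by decide)
        · rw [hone, hzz] at hw'; exact absurd hw' (by decide)
        · rw [hsq, pair_one]
    exact key w (hσ ▸ hw)

end Cfsg.Agent.Classical.AltDecomp
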