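import Mathlib

/-!
# Indecomposability of the even part of a product of two-groups of wreath type
-/

set_option autoImplicit false
set_option linter.unusedSectionVars false

namespace Cfsg.Agent.Classical.AltDecomp

open scoped commutatorElement

universe u v

/-- The cyclic group of order two. -/
abbrev C : Type := Multiplicative (ZMod 2)

/-- The non-trivial element. -/
def s : C := Multiplicative.ofAdd 1

theorem c_cases : ∀ q : C, q = 1 ∨ q = s := by decide

theorem s_mul_s : s * s = 1 := by decide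

theorem s_inv : s⁻¹ = s := by decide

theorem s_ne : s ≠ 1 := by decide

/-- A group with a parity and a centre of order two. -/
structure Dat (D : Type*) [Group D] (sg : D →* ℤˣ) (z : D) : Prop where
  ne : z ≠ 1
  central : ∀ x, z * x = x * z
  only : ∀ c, (∀ x, c * x = x * c) → c = 1 ∨ c = z
  odd : ∃ w, sg w = -1

/-- Further properties from the second step on. -/
structure Dat₂ (D : Type*) [Group D] (sg : D →* ℤˣ) (z : D) : Prop extends Dat D sg z where
  even : sg z = 1
  mem_comm : z ∈ commutator D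
  indec : ∀ A B : Subgroup D, A.Normal → B.Normal → (∀ a ∈ A, ∀ b ∈ B, a * b = b * a) → A ⊔ B = ⊤ →
    (∀ a ∈ A, ∀ x, a * x = x * a) ∨ (∀ b ∈ B, ∀ x, b * x = x * b)

theorem Dat.sq {D : Type*} [Group D] {sg : D →* ℤˣ} {z : D} (h : Dat D sg z) : z * z = 1 := by
  rcases h.only (z * z) (fun x => by rw [mul_assoc, h.central, ← mul_assoc, h.central, mul_assoc]) with e | e
  · exact e
  · exact absurd (mul_eq_left.1 e) h.ne

section step
variable {D : Type*} [Group D] {sg : D →* ℤˣ} {z : D}

/-- The element with coordinates `a`, `b`. -/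
def pair (a b : D) : D ≀ᵣ C := ⟨fun q => if q = 1 then a else b, 1⟩

/-- The swap. -/
def sw : D ≀ᵣ C := ⟨fun _ => 1, s⟩

theorem wr_ext {x y : D ≀ᵣ C} (h1 : x.left 1 = y.left 1) (h2 : x.left s = y.left s) (h3 : x.right = y.right) :
    x = y := by
  refine RegularWreathProduct.ext (funext fun q => ?_) h3
  rcases c_cases q with rfl | rfl <;> assumption

theorem pair_mul (a b a' b' : D) : pair a b * pair a' b' = pair (a * a') (b * b') := by
  refine wr_ext ?_ ?_ ?_ <;> simp [pair, s_ne]

theorem pair_one : pair (1 : D) 1 = 1 := by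
  refine wr_ext ?_ ?_ ?_ <;> simp [pair]

theorem base_eq (x : D ≀ᵣ C) (h : x.right = 1) : x = pair (x.left 1) (x.left s) := by
  refine wr_ext ?_ ?_ ?_ <;> simp [pair, s_ne, h]

theorem outer_eq (x : D ≀ᵣ C) (h : x.right = s) : x = pair (x.left 1) (x.left s) * sw := by
  refine wr_ext ?_ ?_ ?_ <;> simp [pair, sw, s_ne, h]

theorem sw_pair (a b : D) : (sw : D ≀ᵣ C) * pair a b = pair b a * sw := by
  refine wr_ext ?_ ?_ ?_ <;> simp [pair, sw, s_ne, s_inv, s_mul_s]

theorem sw_sq : (sw : D ≀ᵣ C) * sw = 1 := by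
  refine wr_ext ?_ ?_ ?_ <;> simp [sw, s_mul_s]

theorem pair_inj {a b a' b' : D} (h : pair a b = pair a' b') : a = a' ∧ b = b' := by
  constructor
  · simpa [pair] using congrArg (fun x => x.left 1) h
  · simpa [pair, s_ne] using congrArg (fun x => x.left s) h

theorem central_pair (hD : Dat D sg z) (x : D ≀ᵣ C) : pair z z * x = x * pair z z := by
  rcases c_cases x.right with h | h
  · rw [base_eq x h, pair_mul, pair_mul, hD.central, hD.central]
  · rw [outer_eq x h, ← mul_assoc, pair_mul, mul_assoc, sw_pair, ← mul_assoc, pair_mul, hD.central, hD.central]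

/-- Elements commuting with the even part of the base and with the swap. -/
theorem only_aux (hD : Dat D sg z) (d : D) (hd : d ≠ 1) (c : D ≀ᵣ C) (h1 : c * pair d 1 = pair d 1 * c)
    (hall : c.right = 1 → ∀ y, c.left 1 * y = y * c.left 1) (hsw : c * sw = sw * c) :
    c = 1 ∨ c = pair z z := by
  rcases c_cases c.right with h | h
  · have e := hsw
    rw [base_eq c h, sw_pair] at e
    obtain ⟨e1, -⟩ := pair_inj (mul_right_cancel e)
    rw [base_eq c h, ← e1]
    rcases hD.only _ (hall h) with e0 | e0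
    · exact Or.inl (by rw [e0, pair_one])
    · exact Or.inr (by rw [e0])
  · exfalso
    rw [outer_eq c h, mul_assoc, sw_pair, ← mul_assoc, ← mul_assoc, pair_mul, pair_mul] at h1
    obtain ⟨e1, -⟩ := pair_inj (mul_right_cancel h1)
    rw [mul_one] at e1
    exact hd (mul_eq_right.1 e1.symm)

variable {sgE : D ≀ᵣ C →* ℤˣ} (hpair : ∀ a b, sgE (pair a b) = sg a * sg b) (hsw : sgE sw = 1)

theorem comm_pair (hD : Dat D sg z) : pair z z ∈ commutator (D ≀ᵣ C) := by
  have hinv : (pair z 1 : D ≀ᵣ C)⁻¹ = pair z 1 := by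
    rw [inv_eq_iff_mul_eq_one, pair_mul, hD.sq, mul_one, pair_one]
  have hswi : (sw : D ≀ᵣ C)⁻¹ = sw := inv_eq_iff_mul_eq_one.2 sw_sq
  have : pair z z = ⁅(sw : D ≀ᵣ C), pair z 1⁆ := by
    rw [commutatorElement_def, hswi, hinv, sw_pair, mul_assoc (pair 1 z), sw_sq, mul_one, pair_mul,
      one_mul, mul_one]
  rw [this, commutator_def]
  exact Subgroup.commutator_mem_commutator (Subgroup.mem_top _) (Subgroup.mem_top _)

/-- The key step of the central indecomposability. -/
theorem indec_aux (hD : Dat D sg z) (A B : Subgroup (D ≀ᵣ C)) (hA : A.Normal)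
    (hAB : ∀ a ∈ A, ∀ b ∈ B, a * b = b * a) (a : D ≀ᵣ C) (ha : a ∈ A) (har : a.right = s)
    (hgen : ∀ y, (∀ x ∈ A, y * x = x * y) → (∀ x ∈ B, y * x = x * y) → ∀ x, y * x = x * y) :
    ∀ b ∈ B, ∀ x, b * x = x * b := by
  set u := a.left 1
  set v := a.left s
  have hae : a = pair u v * sw := outer_eq a har
  have hmem : ∀ y : D, pair y⁻¹ (v * y * v⁻¹) ∈ A := by
    intro y
    have h1 : pair y⁻¹ 1 * a * (pair y⁻¹ 1)⁻¹ * a⁻¹ ∈ A := A.mul_mem (hA.conj_mem a ha _) (A.inv_mem ha)
    have hi : ∀ p q : D, (pair p q)⁻¹ = pair p⁻¹ q⁻¹ := fun p q => by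
      rw [inv_eq_iff_mul_eq_one, pair_mul, mul_inv_cancel, mul_inv_cancel, pair_one]
    have hswi : (sw : D ≀ᵣ C)⁻¹ = sw := inv_eq_iff_mul_eq_one.2 sw_sq
    have key : a * pair y 1 = pair 1 (v * y * v⁻¹) * a := by
      rw [hae, mul_assoc, sw_pair, ← mul_assoc, ← mul_assoc, pair_mul, pair_mul]
      congr 2 <;> group
    have : pair y⁻¹ 1 * a * (pair y⁻¹ 1)⁻¹ * a⁻¹ = pair y⁻¹ (v * y * v⁻¹) := by
      rw [hi, inv_inv, inv_one, mul_assoc (pair y⁻¹ 1) a (pair y 1), key, ← mul_assoc, mul_inv_cancel_right,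
        pair_mul, mul_one, one_mul]
    rwa [this] at h1
  intro b hb
  have hcom := fun y => hAB _ (hmem y) b hb
  have hab := hAB a ha b hb
  rcases c_cases b.right with h | h
  · rw [base_eq b h] at hcom hab ⊢
    set g := b.left 1
    set g' := b.left s
    have hg : ∀ y, g * y = y * g := by
      intro y
      have := hcom y⁻¹
      rw [pair_mul, pair_mul, inv_inv] at this
      exact (pair_inj this).1.symm
    have hg' : g' = g := by
      rw [hae, mul_assoc, sw_pair, ← mul_assoc, ← mul_assoc, pair_mul, pair_mul] at hab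
      have h2 := (pair_inj (mul_right_cancel hab)).2
      calc g' = g' * v * v⁻¹ := by group
        _ = v * g * v⁻¹ := by rw [h2]
        _ = g := by rw [← hg, mul_inv_cancel_right]
    rw [hg']
    intro x
    rcases c_cases x.right with hx | hx
    · rw [base_eq x hx, pair_mul, pair_mul, hg, hg]
    · rw [outer_eq x hx, ← mul_assoc, pair_mul, mul_assoc, sw_pair, ← mul_assoc, pair_mul, hg, hg]
  · exfalso
    rw [outer_eq b h] at hcom hab
    set g := b.left 1
    set g' := b.left s
    have hinvhom : ∀ y, y⁻¹ * g = g * (v * y * v⁻¹) := by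
      intro y
      have := hcom y
      rw [mul_assoc (pair g g'), sw_pair, ← mul_assoc, ← mul_assoc, pair_mul, pair_mul] at this
      exact (pair_inj (mul_right_cancel this)).1
    have habel : ∀ x y : D, x * y = y * x := by
      intro x y
      have key : ∀ y, y⁻¹ = g * v * y * (g * v)⁻¹ := fun y => by
        rw [eq_mul_inv_iff_mul_eq, ← mul_assoc, hinvhom y]; group
      have h1 := key (x * y)
      rw [show g * v * (x * y) * (g * v)⁻¹ = (g * v * x * (g * v)⁻¹) * (g * v * y * (g * v)⁻¹) by group,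
        ← key, ← key, mul_inv_rev] at h1
      have h2 := congrArg (·⁻¹) h1
      simpa [mul_inv_rev] using h2
    have htwo : ∀ x : D, x = 1 ∨ x = z := fun x => hD.only x (habel x)
    -- `b * a⁻¹` is in the base and commutes with `a`, hence is central
    set c := b * a⁻¹ with hc
    have hcr : c.right = 1 := by
      rw [hc, RegularWreathProduct.mul_right, RegularWreathProduct.inv_right, h, har, mul_inv_cancel]
    have hca : c * a = a * c := by
      have hbb := hAB a ha b hb
      rw [hc, inv_mul_cancel_right, ← mul_assoc, hbb, mul_inv_cancel_right]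
    rw [base_eq c hcr, hae, mul_assoc (pair u v), sw_pair, ← mul_assoc, ← mul_assoc, pair_mul, pair_mul] at hca
    have e1 := (pair_inj (mul_right_cancel hca)).1
    have heq : c.left 1 = c.left s := by
      rw [habel u] at e1
      exact mul_right_cancel e1
    have hcc : ∀ x, c * x = x * c := by
      intro x
      rw [base_eq c hcr, ← heq]
      rcases htwo (c.left 1) with e | e <;> rw [e]
      · rw [pair_one, one_mul, mul_one]
      · exact central_pair hD x
    -- so `a` is central, which is absurd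
    have hac := hgen a (fun x hx => by
        have h0 := hAB x hx b hb
        have hba : b = c * a := by rw [hc, inv_mul_cancel_right]
        rw [hba] at h0
        have e : c * (x * a) = c * (a * x) := by rw [← mul_assoc, hcc, mul_assoc, h0, mul_assoc]
        exact (mul_left_cancel e).symm)
      (fun x hx => hAB a ha x hx) (pair z 1)
    rw [hae, mul_assoc, sw_pair, ← mul_assoc, ← mul_assoc, pair_mul, pair_mul] at hac
    have e2 := (pair_inj (mul_right_cancel hac)).1
    rw [mul_one] at e2
    exact hD.ne (mul_eq_right.1 e2.symm)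

include hpair hsw in
/-- One more step of the wreath product. -/
theorem step (hD : Dat D sg z) : Dat₂ (D ≀ᵣ C) sgE (pair z z) where
  ne e := hD.ne (pair_inj (e.trans pair_one.symm)).1
  central := central_pair hD
  only c hc := only_aux hD z hD.ne c (hc _) (fun h y => by
    have := hc (pair y 1)
    rw [base_eq c h, pair_mul, pair_mul] at this
    exact (pair_inj this).1) (hc _)
  odd := by
    obtain ⟨w, hw⟩ := hD.odd
    exact ⟨pair w 1, by rw [hpair, hw, map_one, mul_one]⟩
  even := by rw [hpair, ← map_mul, hD.sq, map_one]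
  mem_comm := comm_pair hD
  indec A B hA hB hAB htop := by
    have hgen : ∀ y, (∀ x ∈ A, y * x = x * y) → (∀ x ∈ B, y * x = x * y) → ∀ x, y * x = x * y := by
      intro y h1 h2 x
      have hle : A ⊔ B ≤ Subgroup.centralizer {y} := by
        refine sup_le (fun t ht => ?_) (fun t ht => ?_) <;> rw [Subgroup.mem_centralizer_singleton_iff]
        · exact (h1 t ht).symm
        · exact (h2 t ht).symm
      exact (Subgroup.mem_centralizer_singleton_iff.1 (hle (htop.symm ▸ Subgroup.mem_top x))).symm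
    by_cases h : ∃ a ∈ A, a.right = s
    · obtain ⟨a, ha, har⟩ := h
      exact Or.inr (indec_aux hD A B hA hAB a ha har hgen)
    · left
      have hex : ∃ b ∈ B, b.right = s := by
        by_contra h'
        push Not at h h'
        have hle : A ⊔ B ≤ (RegularWreathProduct.rightHom (D := D) (Q := C)).ker := by
          refine sup_le (fun t ht => ?_) (fun t ht => ?_) <;> rw [MonoidHom.mem_ker]
          · exact (c_cases _).resolve_right (h t ht)
          · exact (c_cases _).resolve_right (h' t ht)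
        have : (sw : D ≀ᵣ C) ∈ (RegularWreathProduct.rightHom (D := D) (Q := C)).ker :=
          hle (htop.symm ▸ Subgroup.mem_top _)
        exact s_ne (MonoidHom.mem_ker.1 this)
      obtain ⟨b, hb, hbr⟩ := hex
      exact indec_aux hD B A hB (fun b hb a ha => (hAB a ha b hb).symm) b hb hbr
        (fun y h1 h2 => hgen y h2 h1)

include hpair hsw in
/-- The even part has a centre of order two. -/
theorem even_center (hD : Dat D sg z) (hev : sg z = 1) (c : D ≀ᵣ C)
    (hc : ∀ x, sgE x = 1 → c * x = x * c) : c = 1 ∨ c = pair z z := by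
  refine only_aux hD z hD.ne c (hc _ (by rw [hpair, hev, map_one, mul_one])) (fun h y => ?_) (hc _ hsw)
  have := hc (pair y y) (by rw [hpair]; exact Int.units_mul_self _)
  rw [base_eq c h, pair_mul, pair_mul] at this
  exact (pair_inj this).1

end step

/-- A normal subgroup of a finite two-group with a centre of order two contains the central involution. -/
theorem mem_of_normal {P : Type*} [Group P] [Finite P] (hP : IsPGroup 2 P) (z : P)
    (only : ∀ c : P, (∀ x, c * x = x * c) → c = 1 ∨ c = z) (N : Subgroup P) [N.Normal] (hN : N ≠ ⊥) :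
    z ∈ N := by
  haveI : Fact (Nat.Prime 2) := ⟨Nat.prime_two⟩
  haveI : Nontrivial N := (Subgroup.nontrivial_iff_ne_bot N).2 hN
  have h2 : 2 ∣ Nat.card N := by
    obtain ⟨k, hk⟩ := IsPGroup.iff_card.1 (hP.to_subgroup N)
    have h1 := Finite.one_lt_card (α := N)
    cases k with
    | zero => rw [hk, pow_zero] at h1; omega
    | succ k => rw [hk]; exact dvd_pow_self 2 (Nat.succ_ne_zero k)
  letI : MulAction P N := MulAction.compHom N (MulAut.conjNormal : P →* MulAut N)
  obtain ⟨c, hc, hne⟩ := hP.exists_fixed_point_of_prime_dvd_card_of_fixed_point N h2 (a := (1 : N))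
    (fun g => map_one (MulAut.conjNormal g : MulAut N))
  rcases only c.1 (fun x => by
    have h : ((MulAut.conjNormal x c : N) : P) = c.1 := congrArg Subtype.val (hc x)
    rw [MulAut.conjNormal_apply] at h
    exact (mul_inv_eq_iff_eq_mul.1 h).symm) with e | e
  · exact absurd (Subtype.ext e) hne.symm
  · exact e ▸ c.2

section product
variable {ι : Type u} [Fintype ι] [DecidableEq ι] {G : ι → Type v} [∀ i, Group (G i)]
  {sg : ∀ i, G i →* ℤˣ} {z : ∀ i, G i}

/-- The total parity. -/
def tot (sg : ∀ i, G i →* ℤˣ) : (∀ i, G i) →* ℤˣ where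
  toFun x := ∏ i, sg i (x i)
  map_one' := by simp
  map_mul' x y := by simp [Finset.prod_mul_distrib]

theorem tot_single (i : ι) (a : G i) : tot sg (Pi.mulSingle i a) = sg i a := by
  rw [tot]
  show ∏ j, sg j (Pi.mulSingle i a j) = _
  rw [Finset.prod_eq_single i]
  · rw [Pi.mulSingle_eq_same]
  · intro j _ hj
    rw [Pi.mulSingle_eq_of_ne hj, map_one]
  · simp

/-- The even part of a product of at least two such groups is indecomposable. -/
theorem ker_indec (hd : ∀ i, Dat₂ (G i) (sg i) (z i)) (h2 : Nontrivial ι)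
    (A B : Subgroup (∀ i, G i)) (hA : A ≤ (tot sg).ker) (hB : B ≤ (tot sg).ker)
    (hAB : ∀ a ∈ A, ∀ b ∈ B, a * b = b * a) (hinf : A ⊓ B = ⊥) (hsup : A ⊔ B = (tot sg).ker) :
    A = ⊥ ∨ B = ⊥ := by
  classical
  choose o ho using fun i => (hd i).odd
  have hdec : ∀ x ∈ (tot sg).ker, ∃ a ∈ A, ∃ b ∈ B, a * b = x := by
    intro x hx
    rw [← hsup] at hx
    have hn : A ≤ Subgroup.normalizer (B : Set (∀ i, G i)) := by
      intro a ha
      rw [Subgroup.mem_normalizer_iff]
      intro b
      constructor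
      · intro hb; rwa [hAB a ha b hb, mul_inv_cancel_right]
      · intro hb
        have h1 := hAB a ha _ hb
        have : a * b * a⁻¹ = b := by
          have h2 : a * (a * b * a⁻¹) = (a * b * a⁻¹) * a := h1
          rw [inv_mul_cancel_right] at h2
          exact mul_left_cancel h2
        rwa [this] at hb
    rw [← SetLike.mem_coe, Subgroup.coe_mul_of_left_le_normalizer_right A B hn] at hx
    exact hx
  have hsurj : ∀ i (x : G i), ∃ y ∈ (tot sg).ker, y i = x ∧
      ∀ j, j ≠ i → ∀ k, k ≠ i → j ≠ k → y j = 1 ∨ y k = 1 := by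
    intro i x
    obtain ⟨j, hj⟩ := exists_ne i
    rcases Int.units_eq_one_or (sg i x) with h | h
    · refine ⟨Pi.mulSingle i x, ?_, Pi.mulSingle_eq_same i x, fun a ha _ _ _ => Or.inl (Pi.mulSingle_eq_of_ne ha x)⟩
      rw [MonoidHom.mem_ker, tot_single, h]
    · refine ⟨Pi.mulSingle i x * Pi.mulSingle j (o j), ?_, ?_, ?_⟩
      · rw [MonoidHom.mem_ker, map_mul, tot_single, tot_single, h, ho]; decide
      · rw [Pi.mul_apply, Pi.mulSingle_eq_same, Pi.mulSingle_eq_of_ne hj.symm, mul_one]
      · intro a ha b hb hab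
        by_cases e : a = j
        · right
          rw [Pi.mul_apply, Pi.mulSingle_eq_of_ne hb, Pi.mulSingle_eq_of_ne (by rw [← e]; exact hab.symm), mul_one]
        · left
          rw [Pi.mul_apply, Pi.mulSingle_eq_of_ne ha, Pi.mulSingle_eq_of_ne e, mul_one]
  let pA := fun i => A.map (Pi.evalMonoidHom G i)
  let pB := fun i => B.map (Pi.evalMonoidHom G i)
  have hor : ∀ i, (∀ a ∈ pA i, ∀ x, a * x = x * a) ∨ (∀ b ∈ pB i, ∀ x, b * x = x * b) := by
    intro i
    have htop : ∀ x : G i, ∃ a ∈ pA i, ∃ b ∈ pB i, a * b = x := by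
      intro x
      obtain ⟨y, hy, rfl, -⟩ := hsurj i x
      obtain ⟨a, ha, b, hb, rfl⟩ := hdec y hy
      exact ⟨a i, ⟨a, ha, rfl⟩, b i, ⟨b, hb, rfl⟩, rfl⟩
    have hcomm : ∀ a ∈ pA i, ∀ b ∈ pB i, a * b = b * a := by
      rintro _ ⟨a, ha, rfl⟩ _ ⟨b, hb, rfl⟩
      exact congrFun (hAB a ha b hb) i
    refine (hd i).indec (pA i) (pB i) ⟨fun a ha x => ?_⟩ ⟨fun b hb x => ?_⟩ hcomm ?_
    · obtain ⟨a', ha', b', hb', rfl⟩ := htop x
      rw [show a' * b' * a * (a' * b')⁻¹ = a' * (b' * a * b'⁻¹) * a'⁻¹ by group, ← hcomm a ha b' hb',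
        mul_inv_cancel_right]
      exact (pA i).mul_mem ((pA i).mul_mem ha' ha) ((pA i).inv_mem ha')
    · obtain ⟨a', ha', b', hb', rfl⟩ := htop x
      rw [show a' * b' * b * (a' * b')⁻¹ = a' * (b' * b * b'⁻¹) * a'⁻¹ by group,
        hcomm a' ha' _ ((pB i).mul_mem ((pB i).mul_mem hb' hb) ((pB i).inv_mem hb')), mul_inv_cancel_right]
      exact (pB i).mul_mem ((pB i).mul_mem hb' hb) ((pB i).inv_mem hb')
    · rw [eq_top_iff]
      intro x _
      obtain ⟨a, ha, b, hb, rfl⟩ := htop x
      exact Subgroup.mul_mem_sup ha hb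
  have hz1 : ∀ i (c : G i), (∀ x, c * x = x * c) → sg i c = 1 := by
    intro i c hc
    rcases (hd i).only c hc with e | e <;> rw [e]
    · exact map_one _
    · exact (hd i).even
  -- one of the factors is central in every coordinate
  have hone : (∀ i, ∀ a ∈ pA i, ∀ x, a * x = x * a) ∨ (∀ i, ∀ b ∈ pB i, ∀ x, b * x = x * b) := by
    by_contra hc
    push Not at hc
    obtain ⟨⟨i, a₀, ha₀, x₀, hx₀⟩, ⟨j, b₀, hb₀, y₀, hy₀⟩⟩ := hc
    have hi : ∀ b ∈ pB i, ∀ x, b * x = x * b := (hor i).resolve_left fun h => hx₀ (h a₀ ha₀ x₀)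
    have hj : ∀ a ∈ pA j, ∀ x, a * x = x * a := (hor j).resolve_right fun h => hy₀ (h b₀ hb₀ y₀)
    have hij : i ≠ j := by rintro rfl; exact hx₀ (hj a₀ ha₀ x₀)
    let S := Finset.univ.filter fun k => ∀ b ∈ pB k, ∀ x, b * x = x * b
    have hpar : ∀ x ∈ (tot sg).ker, ∏ k ∈ S, sg k (x k) = 1 := by
      intro x hx
      obtain ⟨a, ha, b, hb, rfl⟩ := hdec x hx
      have hta : ∏ k, sg k (a k) = 1 := MonoidHom.mem_ker.1 (hA ha)
      calc ∏ k ∈ S, sg k ((a * b) k) = ∏ k ∈ S, sg k (a k) := by
            refine Finset.prod_congr rfl fun k hk => ?_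
            rw [Pi.mul_apply, map_mul, hz1 k (b k) ((Finset.mem_filter.1 hk).2 _ ⟨b, hb, rfl⟩), mul_one]
        _ = ∏ k, sg k (a k) := by
            refine Finset.prod_subset (Finset.subset_univ S) fun k _ hk => ?_
            exact hz1 k (a k) ((hor k).resolve_right (fun h => hk (Finset.mem_filter.2 ⟨Finset.mem_univ _, h⟩))
              _ ⟨a, ha, rfl⟩)
        _ = 1 := hta
    have h1 := hpar (Pi.mulSingle i (o i) * Pi.mulSingle j (o j))
      (by rw [MonoidHom.mem_ker, map_mul, tot_single, tot_single, ho, ho]; decide)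
    rw [Finset.prod_eq_single i] at h1
    · rw [Pi.mul_apply, Pi.mulSingle_eq_same, Pi.mulSingle_eq_of_ne hij, mul_one, ho] at h1
      exact absurd h1 (by decide)
    · intro k hk hki
      have hkj : k ≠ j := by
        rintro rfl
        exact hy₀ ((Finset.mem_filter.1 hk).2 b₀ hb₀ y₀)
      rw [Pi.mul_apply, Pi.mulSingle_eq_of_ne hki, Pi.mulSingle_eq_of_ne hkj, mul_one, map_one]
    · intro h
      exact absurd (Finset.mem_filter.2 ⟨Finset.mem_univ i, hi⟩) h
  have hmain : ∀ A B : Subgroup (∀ i, G i), A ⊓ B = ⊥ →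
      (∀ x ∈ (tot sg).ker, ∃ a ∈ A, ∃ b ∈ B, a * b = x) →
      (∀ i, ∀ b ∈ B.map (Pi.evalMonoidHom G i), ∀ x, b * x = x * b) → B = ⊥ := by
    intro A B hinf hdec hcen
    have hcB : ∀ b ∈ B, ∀ x, b * x = x * b := fun b hb x => funext fun i => hcen i (b i) ⟨b, hb, rfl⟩ (x i)
    have hcomA : ∀ x ∈ (tot sg).ker, ∀ y ∈ (tot sg).ker, x * y * x⁻¹ * y⁻¹ ∈ A := by
      intro x hx y hy
      obtain ⟨a, ha, b, hb, rfl⟩ := hdec x hx
      obtain ⟨a', ha', b', hb', rfl⟩ := hdec y hy
      have e : a * b * (a' * b') * (a * b)⁻¹ * (a' * b')⁻¹ = a * a' * a⁻¹ * a'⁻¹ := by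
        rw [show a * b * (a' * b') * (a * b)⁻¹ * (a' * b')⁻¹ = a * (b * (a' * b') * b⁻¹) * a⁻¹ * (a' * b')⁻¹ by group,
          hcB b hb (a' * b'), mul_inv_cancel_right,
          show a * (a' * b') * a⁻¹ * (a' * b')⁻¹ = a * a' * (b' * a⁻¹ * b'⁻¹) * a'⁻¹ by group,
          hcB b' hb' a⁻¹, mul_inv_cancel_right]
      rw [e]
      exact A.mul_mem (A.mul_mem (A.mul_mem ha ha') (A.inv_mem ha)) (A.inv_mem ha')
    have hzA : ∀ i, Pi.mulSingle i (z i) ∈ A := by
      intro i
      have hle : commutator (G i) ≤ A.comap (MonoidHom.mulSingle G i) := by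
        rw [commutator_def, Subgroup.commutator_le]
        intro x _ y _
        rw [Subgroup.mem_comap]
        obtain ⟨j, hj⟩ := exists_ne i
        obtain ⟨εx, hx⟩ : ∃ e : G j, (e = 1 ∨ e = o j) ∧ sg i x * sg j e = 1 := by
          rcases Int.units_eq_one_or (sg i x) with h | h
          · exact ⟨1, Or.inl rfl, by rw [h, map_one, mul_one]⟩
          · exact ⟨o j, Or.inr rfl, by rw [h, ho]; decide⟩
        obtain ⟨εy, hy⟩ : ∃ e : G j, (e = 1 ∨ e = o j) ∧ sg i y * sg j e = 1 := by
          rcases Int.units_eq_one_or (sg i y) with h | h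
          · exact ⟨1, Or.inl rfl, by rw [h, map_one, mul_one]⟩
          · exact ⟨o j, Or.inr rfl, by rw [h, ho]; decide⟩
        have h := hcomA (Pi.mulSingle i x * Pi.mulSingle j εx)
          (by rw [MonoidHom.mem_ker, map_mul, tot_single, tot_single]; exact hx.2)
          (Pi.mulSingle i y * Pi.mulSingle j εy)
          (by rw [MonoidHom.mem_ker, map_mul, tot_single, tot_single]; exact hy.2)
        convert h using 1
        have hc : εx * εy = εy * εx := by
          rcases hx.1 with rfl | rfl <;> rcases hy.1 with rfl | rfl <;> simp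
        funext k
        simp only [MonoidHom.mulSingle_apply, Pi.mul_apply, Pi.inv_apply, commutatorElement_def]
        by_cases hki : k = i
        · subst hki
          simp [Pi.mulSingle_eq_of_ne hj.symm]
        · by_cases hkj : k = j
          · subst hkj
            simp only [Pi.mulSingle_eq_of_ne hki, Pi.mulSingle_eq_same, one_mul]
            rw [hc]; group
          · simp [Pi.mulSingle_eq_of_ne hki, Pi.mulSingle_eq_of_ne hkj]
      exact Subgroup.mem_comap.1 (hle (hd i).mem_comm)
    rw [eq_bot_iff]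
    intro b hb
    have hbA : b ∈ A := by
      refine Subgroup.pi_mem_of_mulSingle_mem b fun i => ?_
      rcases (hd i).only (b i) (hcen i _ ⟨b, hb, rfl⟩) with e | e <;> rw [e]
      · rw [Pi.mulSingle_one]; exact A.one_mem
      · exact hzA i
    rw [← hinf]
    exact ⟨hbA, hb⟩
  rcases hone with h | h
  · refine Or.inl (hmain B A (by rw [inf_comm, hinf]) (fun x hx => ?_) h)
    obtain ⟨a, ha, b, hb, rfl⟩ := hdec x hx
    exact ⟨b, hb, a, ha, (hAB a ha b hb).symm⟩
  · exact Or.inr (hmain A B hinf hdec h)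

end product

end Cfsg.Agent.Classical.AltDecomp
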