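import Cfsg.Agent.Lib.Classical.TSFrames
import Cfsg.Agent.Lib.Classical.SymplecticIso
import Cfsg.Agent.Lib.Lead.FormsClass

/-!
# Frames of symplectic spaces
-/

set_option autoImplicit false
set_option linter.unusedSectionVars false
set_option linter.style.haveILetI false

namespace Cfsg.Agent.Classical.SympFrames

open Module StabSplit TSFrames SpCount

universe u v

variable {F : Type u} [Field F]

theorem sesq {V : Type v} [AddCommGroup V] [Module F V] {B : V →ₗ[F] V →ₗ[F] F} (hB : IsAltND B) :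
    Sesq (RingHom.id F) (fun x y => B x y) :=
  ⟨fun x y z => by simp, fun x y z => by simp, fun c x z => by simp, fun c x z => by simp,
    fun x y e => by rw [hB.swap]; simp [e], hB.nondeg⟩

/-- The number of frames. -/
def fs (q : ℕ) : ℕ → ℕ → ℕ
  | 0, _ => 1
  | k + 1, m => (q ^ (2 * m) - 1) * (q ^ k * fs q k (m - 1))

theorem card_fr [Fintype F] : ∀ (k m : ℕ) {V : Type v} [AddCommGroup V] [Module F V] [FiniteDimensional F V]
    {B : V →ₗ[F] V →ₗ[F] F}, IsAltND B → finrank F V = 2 * m →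
    Nat.card (Fr F (fun x y => B x y) k) = fs (Fintype.card F) k m := by
  intro k
  induction k with
  | zero =>
    intro m V _ _ _ B hB hV
    haveI : Unique (Fr F (fun x y => B x y) 0) :=
      { default := ⟨fun i => Fin.elim0 i, linearIndependent_empty_type, fun i => Fin.elim0 i⟩
        uniq := fun f => Subtype.ext (funext fun i => Fin.elim0 i) }
    simp [fs]
  | succ k ih =>
    intro m V _ _ _ B hB hV
    haveI := Module.finite_of_finite F (M := V)
    rw [(sesq hB).card_fr_succ k (fs (Fintype.card F) k (m - 1)) fun R hR hS => ?_]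
    · have : Nat.card {u : V // B u u = 0} = Fintype.card F ^ (2 * m) := by
        rw [Nat.card_congr (Equiv.subtypeUnivEquiv hB.self), natCard_eq_pow_finrank (K := F), hV,
          Nat.card_eq_fintype_card]
      rw [this, Nat.card_eq_fintype_card, fs]
    · have hres : IsAltND (B.compl₁₂ R.subtype R.subtype) := ⟨fun x => hB.self _, fun x hx => hS.nondeg x hx⟩
      exact ih (m - 1) hres (by omega)

theorem fs_pos {q : ℕ} (hq : 2 ≤ q) : ∀ k m : ℕ, k ≤ m → 0 < fs q k m
  | 0, _, _ => Nat.one_pos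
  | k + 1, m, h => by
    have h1 : 1 < q ^ (2 * m) := Nat.one_lt_pow (by omega) (by omega)
    exact Nat.mul_pos (by omega) (Nat.mul_pos (pow_pos (by omega) _) (fs_pos hq k (m - 1) (by omega)))

/-- The order as a number. -/
def spOrd (q m : ℕ) : ℕ := q ^ (m ^ 2) * ∏ i ∈ Finset.range m, (q ^ (2 * (i + 1)) - 1)

theorem fs_identity {q : ℕ} : ∀ k m : ℕ, k ≤ m →
    fs q k m * (q ^ (k * (k + 1) / 2 + 2 * k * (m - k)) * spOrd q (m - k)) = spOrd q m
  | 0, m, _ => by simp [fs]
  | k + 1, m, h => by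
    obtain ⟨n, rfl⟩ : ∃ n, m = n + 1 := ⟨m - 1, by omega⟩
    have ih := fs_identity (q := q) k n (by omega)
    have e2 : (k + 1) * (k + 1 + 1) / 2 = k * (k + 1) / 2 + (k + 1) := by
      rw [show (k + 1) * (k + 1 + 1) = k * (k + 1) + (k + 1) * 2 by ring, Nat.add_mul_div_right _ _ (by norm_num)]
    rw [fs, Nat.add_sub_cancel, show n + 1 - (k + 1) = n - k by omega, e2]
    obtain ⟨j, rfl⟩ : ∃ j, n = k + j := ⟨n - k, by omega⟩
    rw [Nat.add_sub_cancel_left] at ih ⊢
    have e3 : spOrd q (k + j + 1) = spOrd q (k + j) * (q ^ (2 * (k + j) + 1) * (q ^ (2 * (k + j + 1)) - 1)) := by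
      rw [spOrd, spOrd, Finset.prod_range_succ, show (k + j + 1) ^ 2 = (k + j) ^ 2 + (2 * (k + j) + 1) by ring, pow_add]
      ring
    rw [e3, ← ih, show k * (k + 1) / 2 + (k + 1) + 2 * (k + 1) * j = k * (k + 1) / 2 + 2 * k * j + (k + 1 + 2 * j) by ring,
      pow_add, show 2 * (k + j) + 1 = k + (k + 1 + 2 * j) by ring, pow_add q k]
    ring

/-- Frames are conjugate. -/
theorem exists_move {V : Type v} [AddCommGroup V] [Module F V] [FiniteDimensional F V]
    {B : V →ₗ[F] V →ₗ[F] F} (hB : IsAltND B) {k : ℕ} (s t : Fr F (fun x y => B x y) k) :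
    ∃ g : ↥(isoF (fun x y => B x y)), ∀ i, g.1 (s.1 i) = t.1 i := by
  have hA : LinearMap.BilinForm.IsAlt B := hB.self
  have hN : LinearMap.BilinForm.Nondegenerate B :=
    (LinearMap.IsRefl.nondegenerate_iff_separatingLeft hA.isRefl).mpr fun x hx => hB.nondeg x hx
  let φ := (Basis.span s.2.1).equiv (Basis.span t.2.1) (Equiv.refl (Fin k))
  obtain ⟨g, hg, hgφ⟩ := Lead.FormsClass.witt_alt B hN hA (finrank F V) _ _ (Nat.sub_le _ _) φ fun x x' =>
    ((sesq hB).span_zero t.2.2 (φ x).2 (φ x').2).trans ((sesq hB).span_zero s.2.2 x.2 x'.2).symm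
  refine ⟨⟨g, hg⟩, fun i => ?_⟩
  have e1 : (φ (Basis.span s.2.1 i) : V) = t.1 i := by
    simp only [φ]
    rw [Basis.equiv_apply, Equiv.refl_apply, Basis.span_apply]
  have e2 := (hgφ (Basis.span s.2.1 i)).trans e1
  rwa [Basis.span_apply] at e2

end Cfsg.Agent.Classical.SympFrames
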