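import Cfsg.Agent.Lib.Classical.SymplecticIso
import Cfsg.Agent.Lib.Classical.OrthOmega

/-!
# Conjugacy classes of involutions in the symplectic groups in odd characteristic

Isometries with square `-1` form one class; involutions are determined up to conjugacy by the dimension of
their fixed space.
-/

set_option autoImplicit false
set_option linter.unusedSectionVars false

namespace Cfsg.Agent.Classical.SympInvol

open Module SpCount

universe u v

variable {F : Type u} [Field F] {V : Type v} [AddCommGroup V] [Module F V] [FiniteDimensional F V]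
  {B : V →ₗ[F] V →ₗ[F] F}

theorem apply_linv {g : V ≃ₗ[F] V} (hg : g ∈ isom B) (x y : V) : B (g x) y = B x (g.symm y) := by
  rw [← hg x (g.symm y), g.apply_symm_apply]

/-- A family adapted to an isometry with square `-1`. -/
theorem exists_adapted [Finite F] (h2 : (2 : F) ≠ 0) (m : ℕ) :
    ∀ {V : Type v} [AddCommGroup V] [Module F V] [FiniteDimensional F V] {B : V →ₗ[F] V →ₗ[F] F}
      (t : V →ₗ[F] V), IsAltND B → finrank F V = 2 * m → (∀ x y, B (t x) (t y) = B x y) →
      (∀ x, t (t x) = -x) → ∃ f : SpFam B m, ∀ i, f.1 (.inr i) = t (f.1 (.inl i)) := by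
  induction m with
  | zero =>
    intro V _ _ _ B t _ _ _ _
    exact ⟨⟨fun i => i.elim Fin.elim0 Fin.elim0, fun i => i.elim Fin.elim0 Fin.elim0⟩, fun i => i.elim0⟩
  | succ m ih =>
    intro V _ _ _ B t hB hV hiso hsq
    have hS : ∀ x y, B (t x) y = B (t y) x := by
      intro x y
      have h := hiso x (t y)
      rw [hsq y, map_neg] at h
      rw [hB.swap (t y) x, ← h, neg_neg]
    let Q : QuadraticForm F V := LinearMap.BilinMap.toQuadraticMap (B.comp t)
    have hQv : ∀ x, Q x = B (t x) x := fun _ => rfl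
    have hpol : ∀ x y, QuadraticMap.polar Q x y = 2 * B (t x) y := by
      intro x y
      simp only [QuadraticMap.polar, hQv, map_add, LinearMap.add_apply, hS y x]
      ring
    have hPND : OCount.PND Q := fun x hx => by
      have h0 : t x = 0 := hB.nondeg _ fun y => by
        have := hx y
        rw [hpol] at this
        exact (mul_eq_zero.1 this).resolve_left h2
      have := hsq x
      rw [h0, map_zero] at this
      exact neg_eq_zero.1 this.symm
    obtain ⟨e, he⟩ := OOmega.exists_value h2 hPND (by omega) (1 : F)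
    rw [hQv] at he
    have hp : IsHPair B (e, t e) := he
    have hinv : ∀ x ∈ comp B (e, t e), t x ∈ comp B (e, t e) := by
      intro x hx
      obtain ⟨h1, h2'⟩ := mem_comp.mp hx
      refine mem_comp.mpr ⟨?_, ?_⟩
      · have h := hiso (t e) x
        rw [hsq e, map_neg, LinearMap.neg_apply, h2'] at h
        exact neg_eq_zero.1 h
      · rw [hiso]; exact h1
    have hdim := finrank_comp hB hp
    obtain ⟨g, hg⟩ := ih (t.restrict hinv) (res_isAltND hB hp) (by omega) (fun x y => hiso x y)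
      (fun x => Subtype.ext (hsq x))
    refine ⟨(famEquiv hB m).symm ⟨⟨(e, t e), hp⟩, g⟩, fun i => ?_⟩
    refine Fin.cases ?_ (fun j => ?_) i
    · rfl
    · exact congrArg Subtype.val (hg j)

theorem finrank_even (hB : IsAltND B) : ∃ a, finrank F V = 2 * a := by
  suffices H : ∀ (n : ℕ) {V : Type v} [AddCommGroup V] [Module F V] [FiniteDimensional F V]
      {B : V →ₗ[F] V →ₗ[F] F}, IsAltND B → finrank F V = n → ∃ a, n = 2 * a from H _ hB rfl
  intro n
  induction n using Nat.strong_induction_on with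
  | _ n ih =>
    intro V _ _ _ B hB hV
    rcases Nat.eq_zero_or_pos n with rfl | hn
    · exact ⟨0, rfl⟩
    have : Nontrivial V := Module.nontrivial_of_finrank_pos (R := F) (by omega)
    obtain ⟨v, hv⟩ := exists_ne (0 : V)
    obtain ⟨w, hw⟩ := exists_pair hB hv
    have hd := finrank_comp hB hw
    obtain ⟨a, ha⟩ := ih _ (show finrank F (comp B (v, w)) < n by omega) (res_isAltND hB hw) rfl
    exact ⟨a + 1, by omega⟩

/-- Two families give an isometry. -/
theorem exists_map_fam {W : Type v} [AddCommGroup W] [Module F W] [FiniteDimensional F W]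
    {C : W →ₗ[F] W →ₗ[F] F} (hB : IsAltND B) (hC : IsAltND C) {m : ℕ} (hV : finrank F V = 2 * m)
    (hW : finrank F W = 2 * m) (f : SpFam B m) (f' : SpFam C m) :
    ∃ φ : V ≃ₗ[F] W, (∀ x y, C (φ x) (φ y) = B x y) ∧ ∀ i, φ (f.1 i) = f'.1 i := by
  set b := famBasis hB hV f with hb
  set b' := famBasis hC hW f' with hb'
  have hφ : ∀ i, b.equiv b' (Equiv.refl _) (f.1 i) = f'.1 i := fun i => by
    rw [show f.1 i = b i by rw [hb, famBasis, Basis.mk_apply], Basis.equiv_apply, hb', famBasis,
      Basis.mk_apply]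
    rfl
  refine ⟨b.equiv b' (Equiv.refl _), fun x y => ?_, hφ⟩
  have h : C.compl₁₂ (b.equiv b' (Equiv.refl _)).toLinearMap (b.equiv b' (Equiv.refl _)).toLinearMap = B := by
    refine LinearMap.ext_basis b b fun i j => ?_
    rw [LinearMap.compl₁₂_apply, LinearEquiv.coe_coe, show b i = f.1 i by rw [hb, famBasis, Basis.mk_apply],
      show b j = f.1 j by rw [hb, famBasis, Basis.mk_apply], hφ, hφ, f'.2, f.2]
  exact LinearMap.congr_fun (LinearMap.congr_fun h x) y

/-- Isometries with square `-1` are conjugate. -/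
theorem conj_of_sq_neg [Finite F] (h2 : (2 : F) ≠ 0) (hB : IsAltND B) (t t' : isom B)
    (ht : ∀ x, t.1 (t.1 x) = -x) (ht' : ∀ x, t'.1 (t'.1 x) = -x) : IsConj t t' := by
  obtain ⟨m, hV⟩ := finrank_even hB
  obtain ⟨f, hf⟩ := exists_adapted h2 m t.1.toLinearMap hB hV t.2 ht
  obtain ⟨f', hf'⟩ := exists_adapted h2 m t'.1.toLinearMap hB hV t'.2 ht'
  simp only [LinearEquiv.coe_coe] at hf hf'
  obtain ⟨φ, hφ, hφf⟩ := exists_map_fam hB hB hV hV f f'
  have hcomm : ∀ x, φ (t.1 x) = t'.1 (φ x) := by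
    have h : φ.toLinearMap ∘ₗ t.1.toLinearMap = t'.1.toLinearMap ∘ₗ φ.toLinearMap := by
      refine (famBasis hB hV f).ext fun i => ?_
      rw [famBasis, Basis.mk_apply]
      simp only [LinearMap.comp_apply, LinearEquiv.coe_coe]
      rcases i with i | i
      · rw [← hf, hφf, hφf, hf']
      · rw [hf, ht, map_neg, ← hf, hφf, hφf, hf', ht']
    exact fun x => LinearMap.congr_fun h x
  refine isConj_iff.2 ⟨⟨φ, hφ⟩, Subtype.ext (LinearEquiv.ext fun x => ?_)⟩
  show φ (t.1 (φ.symm x)) = t'.1 x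
  rw [hcomm, φ.apply_symm_apply]

/-- The eigenspace of an isometry for the value `c`. -/
def eig (t : isom B) (c : F) : Submodule F V := LinearMap.ker (t.1.toLinearMap - c • LinearMap.id)

theorem mem_eig {t : isom B} {c : F} {x : V} : x ∈ eig t c ↔ t.1 x = c • x := by
  simp [eig, sub_eq_zero]

theorem eig_split (h2 : (2 : F) ≠ 0) (t : isom B) (ht : ∀ x, t.1 (t.1 x) = x) :
    IsCompl (eig t 1) (eig t (-1)) := by
  constructor
  · rw [Submodule.disjoint_def]
    intro x h1 h1'
    rw [mem_eig, one_smul] at h1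
    rw [mem_eig, neg_one_smul, h1] at h1'
    have : (2 : F) • x = 0 := by rw [two_smul]; nth_rw 2 [h1']; exact add_neg_cancel x
    exact (smul_eq_zero.1 this).resolve_left h2
  · rw [codisjoint_iff, eq_top_iff]
    intro x _
    have hx : x = (2 : F)⁻¹ • (x + t.1 x) + (2 : F)⁻¹ • (x - t.1 x) := by
      rw [← smul_add, show x + t.1 x + (x - t.1 x) = x + x by abel, ← two_smul F x, smul_smul,
        inv_mul_cancel₀ h2, one_smul]
    rw [hx]
    refine Submodule.add_mem_sup (mem_eig.2 ?_) (mem_eig.2 ?_)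
    · rw [map_smul, map_add, ht, one_smul, add_comm]
    · rw [map_smul, map_sub, ht, neg_one_smul, ← smul_neg, neg_sub]

theorem eig_orth (h2 : (2 : F) ≠ 0) (t : isom B) {x y : V} (hx : x ∈ eig t 1) (hy : y ∈ eig t (-1)) :
    B x y = 0 ∧ B y x = 0 := by
  rw [mem_eig, one_smul] at hx
  rw [mem_eig, neg_one_smul] at hy
  have a := t.2 x y
  have b := t.2 y x
  rw [hx, hy, map_neg] at a
  rw [hx, hy, map_neg, LinearMap.neg_apply] at b
  exact ⟨(mul_eq_zero.1 (show 2 * B x y = 0 by linear_combination -a)).resolve_left h2,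
    (mul_eq_zero.1 (show 2 * B y x = 0 by linear_combination -b)).resolve_left h2⟩

theorem eig_isAltND (h2 : (2 : F) ≠ 0) (hB : IsAltND B) (t : isom B) (ht : ∀ x, t.1 (t.1 x) = x) {c : F}
    (hc : c = 1 ∨ c = -1) : IsAltND (B.compl₁₂ (eig t c).subtype (eig t c).subtype) := by
  refine ⟨fun x => hB.self _, fun x hx => Subtype.ext (hB.nondeg _ fun y => ?_)⟩
  obtain ⟨a, ha, b, hb, rfl⟩ := Submodule.mem_sup.1
    (show y ∈ eig t 1 ⊔ eig t (-1) by rw [(eig_split h2 t ht).sup_eq_top]; exact Submodule.mem_top)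
  rw [map_add]
  rcases hc with rfl | rfl
  · rw [(eig_orth h2 t x.2 hb).1, add_zero]; exact hx ⟨a, ha⟩
  · rw [(eig_orth h2 t ha x.2).2, zero_add]; exact hx ⟨b, hb⟩

/-- Involutions with equal fixed space dimensions are conjugate. -/
theorem conj_of_sq_one (h2 : (2 : F) ≠ 0) (hB : IsAltND B) (t t' : isom B)
    (ht : ∀ x, t.1 (t.1 x) = x) (ht' : ∀ x, t'.1 (t'.1 x) = x)
    (hd : finrank F (eig t 1) = finrank F (eig t' 1)) : IsConj t t' := by
  have hd' : finrank F (eig t (-1)) = finrank F (eig t' (-1)) := by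
    have a := Submodule.finrank_add_eq_of_isCompl (eig_split h2 t ht)
    have b := Submodule.finrank_add_eq_of_isCompl (eig_split h2 t' ht')
    omega
  have key : ∀ c : F, c = 1 ∨ c = -1 → finrank F (eig t c) = finrank F (eig t' c) →
      ∃ φ : eig t c ≃ₗ[F] eig t' c, ∀ x y, B (φ x : V) (φ y : V) = B (x : V) (y : V) := by
    intro c hc he
    have hP := eig_isAltND h2 hB t ht hc
    have hP' := eig_isAltND h2 hB t' ht' hc
    obtain ⟨a, ha⟩ := finrank_even hP
    obtain ⟨f⟩ := exists_fam a hP ha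
    obtain ⟨f'⟩ := exists_fam a hP' (he.symm.trans ha)
    obtain ⟨φ, hφ, -⟩ := exists_map_fam hP hP' ha (he.symm.trans ha) f f'
    exact ⟨φ, hφ⟩
  obtain ⟨φ, hφ⟩ := key 1 (Or.inl rfl) hd
  obtain ⟨ψ, hψ⟩ := key (-1) (Or.inr rfl) hd'
  obtain ⟨Φ, hΦ⟩ : ∃ Φ : V ≃ₗ[F] V, ∀ (a : eig t 1) (b : eig t (-1)), Φ ((a : V) + (b : V)) = (φ a : V) + (ψ b : V) :=
    ⟨(Submodule.prodEquivOfIsCompl _ _ (eig_split h2 t ht)).symm.trans ((φ.prodCongr ψ).trans
      (Submodule.prodEquivOfIsCompl _ _ (eig_split h2 t' ht'))), fun a b => by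
      rw [LinearEquiv.trans_apply, show (a : V) + b =
        Submodule.prodEquivOfIsCompl _ _ (eig_split h2 t ht) (a, b) from rfl, LinearEquiv.symm_apply_apply]
      rfl⟩
  have hsplit : ∀ x : V, ∃ (a : eig t 1) (b : eig t (-1)), x = (a : V) + (b : V) := fun x => by
    obtain ⟨a, ha, b, hb, e⟩ := Submodule.mem_sup.1
      (show x ∈ eig t 1 ⊔ eig t (-1) by rw [(eig_split h2 t ht).sup_eq_top]; exact Submodule.mem_top)
    exact ⟨⟨a, ha⟩, ⟨b, hb⟩, e.symm⟩
  have hiso : ∀ x y, B (Φ x) (Φ y) = B x y := by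
    intro x y
    obtain ⟨a, b, rfl⟩ := hsplit x
    obtain ⟨a', b', rfl⟩ := hsplit y
    simp only [hΦ, map_add, LinearMap.add_apply, (eig_orth h2 t' (φ a).2 (ψ b').2).1,
      (eig_orth h2 t' (φ a').2 (ψ b).2).2, (eig_orth h2 t a.2 b'.2).1, (eig_orth h2 t a'.2 b.2).2, hφ, hψ]
  refine isConj_iff.2 ⟨⟨Φ, hiso⟩, Subtype.ext (LinearEquiv.ext fun x => ?_)⟩
  show Φ (t.1 (Φ.symm x)) = t'.1 x
  obtain ⟨y, rfl⟩ := Φ.surjective x
  rw [Φ.symm_apply_apply]
  obtain ⟨a, b, rfl⟩ := hsplit y
  rw [map_add, mem_eig.1 a.2, mem_eig.1 b.2, one_smul, neg_one_smul, ← Submodule.coe_neg, hΦ, hΦ, map_add,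
    mem_eig.1 (φ a).2, mem_eig.1 (ψ b).2, one_smul, neg_one_smul, map_neg, Submodule.coe_neg]

variable (B) in
/-- The transvection along `v`. -/
def trans (hB : IsAltND B) (v : V) : isom B :=
  ⟨LinearEquiv.ofLinear (LinearMap.id + (B.flip v).smulRight v) (LinearMap.id - (B.flip v).smulRight v)
    (LinearMap.ext fun x => by simp [hB.self])
    (LinearMap.ext fun x => by simp [hB.self]),
   fun x y => by
    show B (x + B x v • v) (y + B y v • v) = B x y
    simp only [map_add, map_smul, LinearMap.add_apply, LinearMap.smul_apply, smul_eq_mul, hB.self,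
      hB.swap v y]
    ring⟩

theorem trans_apply (hB : IsAltND B) (v x : V) : (trans B hB v).1 x = x + B x v • v := rfl

/-- The centre consists of the scalars `±1`. -/
theorem center_apply [Nontrivial V] (hB : IsAltND B) {g : isom B} (hg : g ∈ Subgroup.center (isom B)) :
    (∀ x, g.1 x = x) ∨ ∀ x, g.1 x = -x := by
  have heig : ∀ v : V, ∃ s : F, g.1 v = s • v := by
    intro v
    rcases eq_or_ne v 0 with rfl | hv
    · exact ⟨0, by simp⟩
    obtain ⟨w, hw⟩ : ∃ w, B w v ≠ 0 := by
      by_contra! h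
      exact hv (hB.nondeg v fun w => by rw [hB.swap, h w, neg_zero])
    have h := congrArg (fun k : isom B => k.1 w) (Subgroup.mem_center_iff.1 hg (trans B hB v))
    change (trans B hB v).1 (g.1 w) = g.1 ((trans B hB v).1 w) at h
    rw [trans_apply, trans_apply, map_add, map_smul, add_left_cancel_iff] at h
    exact ⟨(B w v)⁻¹ * B (g.1 w) v, by rw [mul_smul, h, smul_smul, inv_mul_cancel₀ hw, one_smul]⟩
  obtain ⟨v₀, hv₀⟩ := exists_ne (0 : V)
  obtain ⟨w₀, hw₀⟩ := exists_pair hB hv₀
  obtain ⟨c, hc⟩ : ∃ c : F, ∀ x, g.1 x = c • x := by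
    obtain ⟨c, hc⟩ := heig v₀
    refine ⟨c, fun x => ?_⟩
    by_cases hli : LinearIndependent F ![v₀, x]
    · obtain ⟨s, hs⟩ := heig x
      obtain ⟨r, hr⟩ := heig (v₀ + x)
      rw [map_add, hc, hs, smul_add] at hr
      have := LinearIndependent.pair_iff.1 hli (c - r) (s - r) (by
        rw [sub_smul, sub_smul, ← sub_eq_zero.2 hr]; abel)
      rw [hs, sub_eq_zero.1 this.2, ← sub_eq_zero.1 this.1]
    · obtain ⟨a, rfl⟩ : ∃ a : F, a • v₀ = x := by
        simpa [LinearIndependent.pair_iff' hv₀] using hli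
      rw [map_smul, hc, smul_comm]
  have h1 := g.2 w₀ v₀
  rw [hc, hc, map_smul, map_smul, LinearMap.smul_apply, show B w₀ v₀ = 1 from hw₀, smul_eq_mul, smul_eq_mul,
    mul_one] at h1
  rcases mul_self_eq_one_iff.1 h1 with rfl | rfl
  · exact Or.inl fun x => by rw [hc, one_smul]
  · exact Or.inr fun x => by rw [hc, neg_one_smul]

variable (B) in
/-- `-1`. -/
def negOne : isom B := ⟨LinearEquiv.neg F, fun x y => by simp⟩

theorem negOne_mem_center : negOne B ∈ Subgroup.center (isom B) :=
  Subgroup.mem_center_iff.2 fun k => Subtype.ext (LinearEquiv.ext fun x => map_neg k.1 x)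

/-- In the central quotient of the symplectic group on a space of dimension `2m` there are at most
`m / 2 + 1` classes of involutions: any larger family contains two conjugate members. -/
theorem pigeonhole [Finite F] (h2 : (2 : F) ≠ 0) (hB : IsAltND B) {m : ℕ} (hV : finrank F V = 2 * m)
    (hm : 1 ≤ m) {κ : Type*} [Fintype κ] (hκ : m / 2 + 1 < Fintype.card κ)
    (g : κ → isom B ⧸ Subgroup.center (isom B)) (hg1 : ∀ k, g k ≠ 1) (hg2 : ∀ k, g k * g k = 1) :
    ∃ k l, k ≠ l ∧ IsConj (g k) (g l) := by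
  classical
  haveI : Nontrivial V := Module.nontrivial_of_finrank_pos (R := F) (by omega)
  choose t ht using fun k => QuotientGroup.mk_surjective (g k)
  have hsq : ∀ k, (∀ x, (t k).1 ((t k).1 x) = x) ∨ ∀ x, (t k).1 ((t k).1 x) = -x := fun k =>
    center_apply (g := t k * t k) hB
      ((QuotientGroup.eq_one_iff _).1 (by rw [QuotientGroup.mk_mul, ht, hg2]))
  let key : κ → ℕ := fun k => if ∀ x, (t k).1 ((t k).1 x) = x then
    min (finrank F (eig (t k) 1)) (finrank F (eig (t k) (-1))) / 2 else 0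
  have hbound : ∀ k ∈ (Finset.univ : Finset κ), key k ∈ Finset.range (m / 2 + 1) := by
    intro k _
    simp only [key, Finset.mem_range]
    split_ifs with h
    · have a := Submodule.finrank_add_eq_of_isCompl (eig_split h2 (t k) h)
      omega
    · omega
  obtain ⟨k, -, l, -, hkl, he⟩ := Finset.exists_ne_map_eq_of_card_lt_of_maps_to
    (by rwa [Finset.card_range, Finset.card_univ]) hbound
  refine ⟨k, l, hkl, ?_⟩
  have hne : ∀ k, (∀ x, (t k).1 ((t k).1 x) = x) → ∃ a b : ℕ, 1 ≤ a ∧ 1 ≤ b ∧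
      finrank F (eig (t k) 1) = 2 * a ∧ finrank F (eig (t k) (-1)) = 2 * b ∧ a + b = m := by
    intro k h
    obtain ⟨a, ha⟩ := finrank_even (eig_isAltND h2 hB (t k) h (c := 1) (Or.inl rfl))
    obtain ⟨b, hb⟩ := finrank_even (eig_isAltND h2 hB (t k) h (c := -1) (Or.inr rfl))
    have hab := Submodule.finrank_add_eq_of_isCompl (eig_split h2 (t k) h)
    refine ⟨a, b, Nat.pos_of_ne_zero fun e => ?_, Nat.pos_of_ne_zero fun e => ?_, ha, hb, by omega⟩
    · have htop : eig (t k) (-1) = ⊤ := Submodule.eq_top_of_finrank_eq (by omega)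
      refine hg1 k ?_
      rw [← ht k, QuotientGroup.eq_one_iff, show t k = negOne B from Subtype.ext (LinearEquiv.ext fun x =>
        (mem_eig.1 (htop ▸ Submodule.mem_top : x ∈ eig (t k) (-1))).trans (neg_one_smul F x))]
      exact negOne_mem_center
    · have htop : eig (t k) 1 = ⊤ := Submodule.eq_top_of_finrank_eq (by omega)
      refine hg1 k ?_
      rw [← ht k, show t k = 1 from Subtype.ext (LinearEquiv.ext fun x =>
        (mem_eig.1 (htop ▸ Submodule.mem_top : x ∈ eig (t k) 1)).trans (one_smul F x))]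
      rfl
  have hmk : ∀ {x y : isom B}, IsConj x y → IsConj (x : isom B ⧸ Subgroup.center (isom B)) y :=
    fun h => (QuotientGroup.mk' (Subgroup.center (isom B))).map_isConj h
  rw [← ht k, ← ht l]
  by_cases hk : ∀ x, (t k).1 ((t k).1 x) = x
  · by_cases hl : ∀ x, (t l).1 ((t l).1 x) = x
    · obtain ⟨a, b, -, -, ha, hb, hab⟩ := hne k hk
      obtain ⟨c, d, -, -, hc, hd, hcd⟩ := hne l hl
      simp only [key, if_pos hk, if_pos hl, ha, hb, hc, hd] at he
      rcases (show a = c ∨ a = d by omega) with e | e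
      · exact hmk (conj_of_sq_one h2 hB _ _ hk hl (by omega))
      · have hneg : ∀ x, (negOne B * t l).1 ((negOne B * t l).1 x) = x := fun x => by
          show -((t l).1 (-((t l).1 x))) = x
          rw [map_neg, neg_neg, hl]
        have heig : eig (negOne B * t l) 1 = eig (t l) (-1) := by
          ext x
          rw [mem_eig, mem_eig, one_smul, neg_one_smul]
          exact neg_eq_iff_eq_neg
        have h := hmk (conj_of_sq_one h2 hB (t k) (negOne B * t l) hk hneg (by rw [heig]; omega))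
        rwa [QuotientGroup.mk_mul, (QuotientGroup.eq_one_iff _).2 negOne_mem_center, one_mul] at h
    · obtain ⟨a, b, ha1, hb1, ha, hb, hab⟩ := hne k hk
      simp only [key, if_pos hk, if_neg hl, ha, hb] at he
      omega
  · by_cases hl : ∀ x, (t l).1 ((t l).1 x) = x
    · obtain ⟨a, b, ha1, hb1, ha, hb, hab⟩ := hne l hl
      simp only [key, if_pos hl, if_neg hk, ha, hb] at he
      omega
    · exact hmk (conj_of_sq_neg h2 hB _ _ ((hsq k).resolve_left hk) ((hsq l).resolve_left hl))

end Cfsg.Agent.Classical.SympInvol
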