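/-
The symplectic transvection groups as a degenerate class of root subgroups.
-/
import Mathlib
import Cfsg.Prelude.Def_RootSubgroups
import Cfsg.Agent.Lib.Classical.SpGeneration
import Cfsg.Agent.Lib.Classical.TransvectionRoot
import Cfsg.Agent.Lib.Classical.RankOneCommutator

set_option autoImplicit false
set_option linter.unusedSectionVars false

namespace Cfsg.Agent.Classical.SympRoot

open Matrix Cfsg.Agent.Small.PSpn Cfsg.Agent.Classical.RankOne
open Cfsg.Agent.Lead.Symp (form_self form_swap)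
open scoped commutatorElement

variable {F : Type*} [Field F] {m : ℕ}

local notation "Vm" => Fin m ⊕ Fin m → F
local notation "Gm" => Matrix.symplecticGroup (Fin m) F

theorem sf_self (u : Vm) : sf u u = 0 := form_self u

theorem sf_neg (u v : Vm) : sf v u = -sf u v := form_swap u v

/-- The transvections with centre `p`. -/
noncomputable def tHom (p : Vm) : Multiplicative F →* Gm where
  toFun c := eich p 0 c.toAdd
  map_one' := eich_zero_zero p
  map_mul' c d := by
    rw [eich_mul _ _ (sf_zero_right p) (sf_zero_right p), add_zero, sf_zero_left, add_zero, toAdd_mul]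

/-- The transvection group of `p`. -/
noncomputable def T (p : Vm) : Subgroup Gm := (tHom p).range

theorem mem_T {p : Vm} {g : Gm} : g ∈ T p ↔ ∃ c : F, ∀ x, act g x = x + (c * sf p x) • p := by
  constructor
  · rintro ⟨c, rfl⟩; exact ⟨c.toAdd, fun x => act_eich_zero p c.toAdd x⟩
  · rintro ⟨c, hc⟩
    exact ⟨Multiplicative.ofAdd c, eq_of_act fun x => by rw [hc]; exact act_eich_zero p c x⟩

theorem closure_eq (p : Vm) :
    Subgroup.closure {g : Gm | ∃ c : F, ∀ v : Vm,
      (g : Matrix (Fin m ⊕ Fin m) (Fin m ⊕ Fin m) F) *ᵥ v = v + (c * (v ⬝ᵥ (Matrix.J (Fin m) F *ᵥ p))) • p} =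
      T p := by
  rw [show {g : Gm | ∃ c : F, ∀ v : Vm,
      (g : Matrix (Fin m ⊕ Fin m) (Fin m ⊕ Fin m) F) *ᵥ v = v + (c * (v ⬝ᵥ (Matrix.J (Fin m) F *ᵥ p))) • p} =
      (T p : Set Gm) from Set.ext fun g => ?_]
  · exact Subgroup.closure_eq _
  rw [Set.mem_setOf_eq, SetLike.mem_coe, mem_T]
  constructor
  · rintro ⟨c, hc⟩
    refine ⟨-c, fun x => (hc x).trans ?_⟩
    show x + (c * sf x p) • p = _
    rw [sf_neg p x, mul_neg, neg_mul]
  · rintro ⟨c, hc⟩
    refine ⟨-c, fun x => (hc x).trans ?_⟩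
    show _ = x + (-c * sf x p) • p
    rw [sf_neg p x, mul_neg, neg_mul, neg_neg]

theorem conj_T (g : Gm) (p : Vm) : Cfsg.conjBy (T p) g = T (act g p) := by
  rw [T, T, Cfsg.conjBy, MonoidHom.map_range]
  congr 1
  refine MonoidHom.ext fun c => ?_
  show g * eich p 0 c.toAdd * g⁻¹ = eich (act g p) 0 c.toAdd
  rw [eich_conj g _ (sf_zero_right p), act_zero]

theorem T_ne_bot {p : Vm} (hp : p ≠ 0) : T p ≠ ⊥ := by
  intro he
  obtain ⟨y, hy⟩ := Cfsg.Agent.Lead.Symp.exists_form_ne hp
  have h1 : tHom p (Multiplicative.ofAdd 1) = 1 :=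
    Subgroup.mem_bot.mp (he ▸ ⟨Multiplicative.ofAdd (1 : F), rfl⟩)
  have h2 := act_eich_zero p (1 : F) y
  rw [show eich p 0 (1 : F) = 1 from h1, act_one, one_mul, left_eq_add, smul_eq_zero] at h2
  exact h2.elim hy hp

theorem T_comm (p : Vm) : IsMulCommutative (T p) := by
  refine ⟨⟨fun a b => ?_⟩⟩
  obtain ⟨c, hc⟩ := a.2
  obtain ⟨d, hd⟩ := b.2
  exact Subtype.ext (by
    show (a : Gm) * b = b * a
    rw [← hc, ← hd, ← map_mul, ← map_mul, mul_comm])

theorem commuting {p r : Vm} (h : sf p r = 0) : ⁅T p, T r⁆ = ⊥ := by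
  rw [Subgroup.commutator_eq_bot_iff_le_centralizer]
  rintro _ ⟨c, rfl⟩ _ ⟨d, rfl⟩
  refine eq_of_act fun x => ?_
  show act (eich r 0 d.toAdd * eich p 0 c.toAdd) x = act (eich p 0 c.toAdd * eich r 0 d.toAdd) x
  simp only [act_mul, act_eich_zero, sf_add_right, sf_smul_right, h, show sf r p = 0 by rw [sf_neg p r, h, neg_zero]]
  module

/-- Coordinates in the plane of `p` and `r`. -/
def planeLin (p r : Vm) (M : Matrix (Fin 2) (Fin 2) F) : Vm →ₗ[F] Vm where
  toFun x := x + ((M 0 0 - 1) * (sf x r / sf p r) + M 0 1 * (sf p x / sf p r)) • p +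
    (M 1 0 * (sf x r / sf p r) + (M 1 1 - 1) * (sf p x / sf p r)) • r
  map_add' x y := by simp only [sf_add_left, sf_add_right, add_div]; module
  map_smul' c x := by simp only [sf_smul_left, sf_smul_right, RingHom.id_apply, mul_div_assoc]; module

theorem planeLin_apply (p r : Vm) (M : Matrix (Fin 2) (Fin 2) F) (x : Vm) :
    planeLin p r M x = x + ((M 0 0 - 1) * (sf x r / sf p r) + M 0 1 * (sf p x / sf p r)) • p +
      (M 1 0 * (sf x r / sf p r) + (M 1 1 - 1) * (sf p x / sf p r)) • r := rfl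

/-- An element of `SL₂` acting on the plane of `p` and `r`. -/
noncomputable def planeElt (p r : Vm) (h : sf p r ≠ 0) (M : Matrix.SpecialLinearGroup (Fin 2) F) : Gm :=
  ⟨LinearMap.toMatrix' (planeLin p r (M : Matrix (Fin 2) (Fin 2) F)), mem_of_form fun u v => by
    rw [LinearMap.toMatrix'_mulVec, LinearMap.toMatrix'_mulVec, planeLin_apply, planeLin_apply]
    have hdet : (M : Matrix (Fin 2) (Fin 2) F) 0 0 * (M : Matrix (Fin 2) (Fin 2) F) 1 1 -
        (M : Matrix (Fin 2) (Fin 2) F) 0 1 * (M : Matrix (Fin 2) (Fin 2) F) 1 0 = 1 := by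
      rw [← Matrix.det_fin_two]; exact M.2
    generalize (M : Matrix (Fin 2) (Fin 2) F) = A at hdet ⊢
    simp only [sf_add_left, sf_add_right, sf_smul_left, sf_smul_right, sf_self]
    rw [sf_neg p u, sf_neg r v, sf_neg p r]
    rw [sf_neg v r] at *
    field_simp
    grind⟩

theorem act_planeElt (p r : Vm) (h : sf p r ≠ 0) (M : Matrix.SpecialLinearGroup (Fin 2) F) (x : Vm) :
    act (planeElt p r h M) x = planeLin p r (M : Matrix (Fin 2) (Fin 2) F) x :=
  LinearMap.toMatrix'_mulVec _ _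

/-- The plane as a homomorphism. -/
noncomputable def plane (p r : Vm) (h : sf p r ≠ 0) : Matrix.SpecialLinearGroup (Fin 2) F →* Gm where
  toFun := planeElt p r h
  map_one' := eq_of_act fun x => by
    rw [act_planeElt, act_one, planeLin_apply, Matrix.SpecialLinearGroup.coe_one]
    simp
  map_mul' M N := eq_of_act fun x => by
    rw [act_mul, act_planeElt, act_planeElt, act_planeElt, planeLin_apply, planeLin_apply, planeLin_apply,
      Matrix.SpecialLinearGroup.coe_mul]
    simp only [sf_add_left, sf_add_right, sf_smul_left, sf_smul_right, sf_self, Matrix.mul_apply,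
      Fin.sum_univ_two, add_zero, zero_add, mul_zero]
    match_scalars <;> field_simp <;> ring

theorem plane_apply (p r : Vm) (h : sf p r ≠ 0) (M : Matrix.SpecialLinearGroup (Fin 2) F) (x : Vm) :
    act (plane p r h M) x = planeLin p r (M : Matrix (Fin 2) (Fin 2) F) x := act_planeElt p r h M x

theorem plane_injective (p r : Vm) (h : sf p r ≠ 0) : Function.Injective (plane p r h) := by
  intro M N he
  have key : ∀ x : Vm, planeLin p r (M : Matrix (Fin 2) (Fin 2) F) x = planeLin p r (N : Matrix (Fin 2) (Fin 2) F) x :=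
    fun x => by rw [← plane_apply p r h, ← plane_apply p r h, he]
  have h1 := congrArg (fun w => sf w r) (key p)
  have h2 := congrArg (fun w => sf p w) (key p)
  have h3 := congrArg (fun w => sf w r) (key r)
  have h4 := congrArg (fun w => sf p w) (key r)
  simp only [planeLin_apply, sf_add_left, sf_add_right, sf_smul_left, sf_smul_right, sf_self,
    div_self h, zero_div, mul_one, mul_zero, add_zero, zero_add] at h1 h2 h3 h4
  ext i j
  fin_cases i <;> fin_cases j <;> simp only [Fin.zero_eta, Fin.mk_one] <;> grind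

theorem plane_images (p r : Vm) (h : sf p r ≠ 0) :
    (Cfsg.upperUnipotentSL2 F).map (plane p r h) = T p ∧
    (Cfsg.lowerUnipotentSL2 F).map (plane p r h) = T r := by
  constructor <;> ext g <;> rw [Subgroup.mem_map, mem_T] <;> constructor
  · rintro ⟨u, hu, rfl⟩
    obtain ⟨c, rfl⟩ := TransRoot.mem_upperUnipotentSL2.mp hu
    refine ⟨c / sf p r, fun x => ?_⟩
    rw [plane_apply, planeLin_apply, Matrix.SpecialLinearGroup.transvection_coe]
    simp
    ring_nf
  · rintro ⟨c, hc⟩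
    refine ⟨_, TransRoot.mem_upperUnipotentSL2.mpr ⟨c * sf p r, rfl⟩, eq_of_act fun x => ?_⟩
    rw [hc, plane_apply, planeLin_apply, Matrix.SpecialLinearGroup.transvection_coe]
    simp
    congr 1
    field_simp
  · rintro ⟨u, hu, rfl⟩
    obtain ⟨c, rfl⟩ := TransRoot.mem_lowerUnipotentSL2.mp hu
    refine ⟨-(c / sf p r), fun x => ?_⟩
    rw [plane_apply, planeLin_apply, Matrix.SpecialLinearGroup.transvection_coe]
    simp [sf_neg r x]
    ring_nf
    module
  · rintro ⟨c, hc⟩
    refine ⟨_, TransRoot.mem_lowerUnipotentSL2.mpr ⟨-(c * sf p r), rfl⟩, eq_of_act fun x => ?_⟩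
    rw [hc, plane_apply, planeLin_apply, Matrix.SpecialLinearGroup.transvection_coe]
    simp [sf_neg r x]
    match_scalars
    field_simp

theorem psl2_pair {p r : Vm} (h : sf p r ≠ 0) :
    Cfsg.IsRankOnePair (T p) (T r) ∧ Cfsg.IsPSL2PairOver F (T p) (T r) := by
  obtain ⟨hu, hl⟩ := plane_images p r h
  have hinj := plane_injective p r h
  constructor
  · rw [← hu, ← hl]
    exact map_pair _ TransRoot.sl2_pair fun he => TransRoot.sl2_pair.ne (Subgroup.map_injective hinj he)
  · refine ⟨_, ?_, ?_, hu, hl⟩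
    · rw [MonoidHom.range_eq_map, ← TransRoot.unipotents_sup, Subgroup.map_sup, hu, hl]
    · rw [(MonoidHom.ker_eq_bot_iff _).mpr hinj]
      exact bot_le

variable (F m) in
/-- All the transvection groups. -/
def rootSet : Set (Subgroup Gm) := {A | ∃ p : Vm, p ≠ 0 ∧ A = T p}

theorem isRootSubgroupSet : Cfsg.IsRootSubgroupSet (rootSet F m) := by
  refine ⟨?_, ?_, ?_, ?_, ?_⟩
  · rintro _ ⟨p, -, rfl⟩; exact T_comm p
  · rintro _ ⟨p, hp, rfl⟩; exact T_ne_bot hp
  · rw [eq_top_iff, ← SpGen.sp_generated, SpGen.TG, Subgroup.closure_le]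
    rintro g ⟨v, t, rfl⟩
    rcases eq_or_ne v 0 with rfl | hv
    · have : eich (0 : Vm) 0 t = 1 := eq_of_act fun x => by
        rw [act_eich_zero, act_one, smul_zero, add_zero]
      rw [this]; exact one_mem _
    · exact le_iSup₂ (f := fun A (_ : A ∈ rootSet F m) => A) (T v) ⟨v, hv, rfl⟩
        ⟨Multiplicative.ofAdd t, rfl⟩
  · rintro _ ⟨p, hp, rfl⟩ g
    exact ⟨act g p, fun h => hp (act_injective g (h.trans (act_zero g).symm)), conj_T g p⟩
  · rintro _ ⟨p, hp, rfl⟩ _ ⟨r, hr, rfl⟩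
    by_cases h : sf p r = 0
    · exact Or.inl (commuting h)
    · exact Or.inr (Or.inl (psl2_pair h).1)

theorem degenerate : Cfsg.IsDegenerateRootSet (rootSet F m) := by
  rintro _ ⟨p, hp, rfl⟩ _ ⟨r, hr, rfl⟩ hcase
  by_cases h : sf p r = 0
  · exact isRootSubgroupSet.ne_bot _ hcase.1 (commuting h)
  · exact pair_bracket_not_mem isRootSubgroupSet (psl2_pair h).1 ⟨p, hp, rfl⟩ ⟨r, hr, rfl⟩ hcase.1

theorem kroot : Cfsg.IsKRootSubgroupSet F (rootSet F m) := by
  refine ⟨isRootSubgroupSet, ?_⟩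
  rintro _ ⟨p, hp, rfl⟩ _ ⟨r, hr, rfl⟩ hpair
  by_cases h : sf p r = 0
  · exact absurd (commuting h) (not_commuting hpair)
  · exact (psl2_pair h).2

theorem isClass (i : Fin m) : Cfsg.IsConjClassOfSubgroups (rootSet F m) := by
  refine ⟨⟨_, se i, se_ne_zero i, rfl⟩, ?_⟩
  rintro _ ⟨p, hp, rfl⟩ _ ⟨r, hr, rfl⟩
  have hU : SpGen.NDeg (⊤ : Submodule F Vm) := fun u _ hu => by
    obtain ⟨z, hz⟩ := Cfsg.Agent.Lead.Symp.exists_form_ne hu
    exact ⟨z, trivial, hz⟩
  obtain ⟨y, hy⟩ := Cfsg.Agent.Lead.Symp.exists_form_ne hp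
  obtain ⟨z, hz⟩ := Cfsg.Agent.Lead.Symp.exists_form_ne hr
  obtain ⟨g, -, hg, -, -⟩ := SpGen.exists_pair_in ⊤ hU (u := p) (u' := r)
    (v := (sf p y)⁻¹ • y) (v' := (sf r z)⁻¹ • z) trivial trivial trivial trivial
    (by rw [sf_smul_right]; exact inv_mul_cancel₀ hy) (by rw [sf_smul_right]; exact inv_mul_cancel₀ hz)
  exact ⟨g, by rw [conj_T, hg]⟩

end Cfsg.Agent.Classical.SympRoot
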