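import Cfsg.Agent.Lib.Classical.StabSplit

/-!
# Totally isotropic frames and the stabilisers they determine

For a reflexive non-degenerate sesquilinear form a frame is an independent family of mutually orthogonal isotropic
vectors. Frames of length `k + 1` split as a first vector, `k` coefficients and a frame of the quotient.
-/

set_option autoImplicit false
set_option linter.unusedSectionVars false

namespace Cfsg.Agent.Classical.TSFrames

open Module StabSplit

variable {F : Type*} [Field F] {V : Type*} [AddCommGroup V] [Module F V]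

/-- Frames. -/
abbrev Fr (F : Type*) [Field F] {V : Type*} [AddCommGroup V] [Module F V] (h : V → V → F) (k : ℕ) :=
  {s : Fin k → V // LinearIndependent F s ∧ ∀ i j, h (s i) (s j) = 0}

/-- Non-degenerate reflexive sesquilinear forms. -/
structure Sesq (τ : F →+* F) (h : V → V → F) : Prop where
  add_left : ∀ x y z, h (x + y) z = h x z + h y z
  add_right : ∀ x y z, h x (y + z) = h x y + h x z
  smul_left : ∀ (c : F) x z, h (c • x) z = c * h x z
  smul_right : ∀ (c : F) x z, h x (c • z) = τ c * h x z
  refl : ∀ x y, h x y = 0 → h y x = 0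
  nondeg : ∀ v, (∀ w, h v w = 0) → v = 0

namespace Sesq

variable {τ : F →+* F} {h : V → V → F} (H : Sesq τ h)
include H

theorem zero_left (z : V) : h 0 z = 0 := by
  have := H.smul_left 0 0 z
  simpa using this

theorem sub_left (x y z : V) : h (x - y) z = h x z - h y z := by
  rw [eq_sub_iff_add_eq, ← H.add_left, sub_add_cancel]

theorem sub_right (x y z : V) : h x (y - z) = h x y - h x z := by
  rw [eq_sub_iff_add_eq, ← H.add_right, sub_add_cancel]

/-- The functional in the first variable. -/
def func (a : V) : V →ₗ[F] F where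
  toFun x := h x a
  map_add' x y := H.add_left x y a
  map_smul' c x := H.smul_left c x a

theorem sum_left {κ : Type*} [Fintype κ] (f : κ → V) (z : V) : h (∑ i, f i) z = ∑ i, h (f i) z :=
  map_sum (H.func z) f _

theorem span_zero {k : ℕ} {s : Fin k → V} (hs : ∀ i j, h (s i) (s j) = 0) {x y : V}
    (hx : x ∈ Submodule.span F (Set.range s)) (hy : y ∈ Submodule.span F (Set.range s)) : h x y = 0 := by
  induction hx, hy using Submodule.span_induction₂ with
  | mem_mem x y hx hy => obtain ⟨i, rfl⟩ := hx; obtain ⟨j, rfl⟩ := hy; exact hs i j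
  | zero_left y _ => exact H.zero_left y
  | zero_right x _ => exact H.refl _ _ (H.zero_left x)
  | add_left x y z _ _ _ e e' => rw [H.add_left, e, e', add_zero]
  | add_right x y z _ _ _ e e' => rw [H.add_right, e, e', add_zero]
  | smul_left r x y _ _ e => rw [H.smul_left, e, mul_zero]
  | smul_right r x y _ _ e => rw [H.smul_right, e, mul_zero]

/-- An isotropic vector has a complement of codimension two. -/
theorem exists_residual [Finite F] [FiniteDimensional F V] {u : V} (hu : u ≠ 0) (hu0 : h u u = 0) :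
    ∃ R : Submodule F V, finrank F R + 2 = finrank F V ∧ Sesq τ (fun x y : R => h x y) ∧
      ∀ k, Nat.card {s : Fin k → V // LinearIndependent F (Fin.cons u s : Fin (k + 1) → V) ∧
          ∀ i j, h ((Fin.cons u s : Fin (k + 1) → V) i) ((Fin.cons u s : Fin (k + 1) → V) j) = 0} =
        Nat.card F ^ k * Nat.card (Fr F (fun x y : R => h x y) k) := by
  classical
  haveI := Module.finite_of_finite F (M := V)
  obtain ⟨y, hy⟩ : ∃ y, h u y ≠ 0 := by
    by_contra hc
    push Not at hc
    exact hu (H.nondeg u hc)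
  have hτ : Function.Surjective τ := Finite.surjective_of_injective τ.injective
  obtain ⟨c, hc⟩ := hτ (h u y)⁻¹
  obtain ⟨x1, hx1⟩ : ∃ x1, h u x1 = 1 := ⟨c • y, by rw [H.smul_right, hc, inv_mul_cancel₀ hy]⟩
  have hx1u : h x1 u ≠ 0 := fun e => one_ne_zero (hx1.symm.trans (H.refl _ _ e))
  let T : V →ₗ[F] F × F := (H.func u).prod (H.func x1)
  obtain ⟨R, hR⟩ : ∃ R, R = LinearMap.ker T := ⟨_, rfl⟩
  have hmem : ∀ r, r ∈ R ↔ h r u = 0 ∧ h r x1 = 0 := fun r => by
    rw [hR, LinearMap.mem_ker]
    exact Prod.ext_iff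
  have hT : LinearMap.range T = ⊤ := LinearMap.range_eq_top.mpr fun p =>
    ⟨(p.1 / h x1 u) • x1 + (p.2 - p.1 / h x1 u * h x1 x1) • u, by
      refine Prod.ext ?_ ?_
      · show h _ u = _
        rw [H.add_left, H.smul_left, H.smul_left, hu0, div_mul_cancel₀ _ hx1u]; ring
      · show h _ x1 = _
        rw [H.add_left, H.smul_left, H.smul_left, hx1]; ring⟩
  have hdim : finrank F R + 2 = finrank F V := by
    have := T.finrank_range_add_finrank_ker
    rw [hT, finrank_top, finrank_prod, finrank_self, ← hR] at this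
    omega
  refine ⟨R, hdim, ⟨fun x y z => H.add_left _ _ _, fun x y z => H.add_right _ _ _, fun c x z => H.smul_left _ _ _,
    fun c x z => H.smul_right _ _ _, fun x y => H.refl _ _, fun r hr => ?_⟩, fun k => ?_⟩
  · obtain ⟨h1, h2⟩ := (hmem _).mp r.2
    refine Subtype.ext (H.nondeg (r : V) fun z => ?_)
    obtain ⟨a, ha⟩ : ∃ a, a = h z u / h x1 u := ⟨_, rfl⟩
    have hz : z - a • x1 - (h z x1 - a * h x1 x1) • u ∈ R := by
      rw [hmem]
      refine ⟨?_, ?_⟩
      · rw [H.sub_left, H.sub_left, H.smul_left, H.smul_left, hu0, ha, div_mul_cancel₀ _ hx1u]; ring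
      · rw [H.sub_left, H.sub_left, H.smul_left, H.smul_left, hx1]; ring
    have h3 := hr ⟨_, hz⟩
    change h (r : V) (z - _ - _) = 0 at h3
    rw [H.sub_right, H.sub_right, H.smul_right, H.smul_right, h1, h2, mul_zero, mul_zero, sub_zero, sub_zero] at h3
    exact h3
  have hli : ∀ (c : Fin k → F) (r : Fin k → R),
      LinearIndependent F (Fin.cons u fun i => c i • u + (r i : V) : Fin (k + 1) → V) ↔ LinearIndependent F r := by
    intro c r
    rw [Fintype.linearIndependent_iff, Fintype.linearIndependent_iff]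
    constructor
    · intro hl g hg i
      have hg' : ∑ i, g i • (r i : V) = 0 := by
        rw [← Submodule.coe_zero (p := R), ← hg]; simp
      have := hl (Fin.cons (-∑ i, g i * c i) g) (by
        rw [Fin.sum_univ_succ]
        simp [smul_add, Finset.sum_add_distrib, smul_smul, ← Finset.sum_smul, hg'])
      simpa using this i.succ
    · intro hl g hg
      rw [Fin.sum_univ_succ] at hg
      simp only [Fin.cons_zero, Fin.cons_succ, smul_add, Finset.sum_add_distrib, smul_smul, ← Finset.sum_smul] at hg
      rw [← add_assoc, ← add_smul] at hg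
      have hsum : (∑ i : Fin k, g i.succ • (r i : V)) = ((∑ i : Fin k, g i.succ • r i : R) : V) := by simp
      have hzero : g 0 + ∑ i : Fin k, g i.succ * c i = 0 := by
        have h0 := congrArg (H.func x1) hg
        rw [map_add, map_smul, map_zero, hsum] at h0
        change (g 0 + ∑ i : Fin k, g i.succ * c i) * h u x1 + h _ x1 = 0 at h0
        rw [hx1, ((hmem _).mp (∑ i : Fin k, g i.succ • r i : R).2).2, mul_one, add_zero] at h0
        exact h0
      rw [hzero, zero_smul, zero_add, hsum] at hg
      have hg' := hl (fun i => g i.succ) (Subtype.ext hg)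
      refine Fin.cases ?_ hg'
      simpa [hg'] using hzero
  have hzero : ∀ (c : Fin k → F) (r : Fin k → R), (∀ i j, h ((Fin.cons u fun i => c i • u + (r i : V) : Fin (k + 1) → V) i)
      ((Fin.cons u fun i => c i • u + (r i : V) : Fin (k + 1) → V) j) = 0) ↔ ∀ i j, h (r i : V) (r j) = 0 := by
    intro c r
    have hru : ∀ i, h (r i : V) u = 0 := fun i => ((hmem _).mp (r i).2).1
    have hur : ∀ i, h u (r i : V) = 0 := fun i => H.refl _ _ (hru i)
    have key : ∀ i j, h (c i • u + (r i : V)) (c j • u + (r j : V)) = h (r i : V) (r j) := fun i j => by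
      rw [H.add_left, H.add_right, H.add_right, H.smul_left, H.smul_left, H.smul_right, H.smul_right, hu0, hru, hur]
      ring
    constructor
    · intro e i j
      have := e i.succ j.succ
      rwa [Fin.cons_succ, Fin.cons_succ, key] at this
    · intro e i j
      refine Fin.cases ?_ (fun i => ?_) i <;> refine Fin.cases ?_ (fun j => ?_) j <;>
        simp only [Fin.cons_zero, Fin.cons_succ]
      · exact hu0
      · rw [H.add_right, H.smul_right, hu0, hur]; ring
      · rw [H.add_left, H.smul_left, hu0, hru]; ring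
      · rw [key, e]
  let E : (Fin k → F) × Fr F (fun x y : R => h x y) k ≃
      {s : Fin k → V // LinearIndependent F (Fin.cons u s : Fin (k + 1) → V) ∧
          ∀ i j, h ((Fin.cons u s : Fin (k + 1) → V) i) ((Fin.cons u s : Fin (k + 1) → V) j) = 0} :=
    { toFun := fun p => ⟨fun i => p.1 i • u + (p.2.1 i : V), (hli _ _).mpr p.2.2.1, (hzero _ _).mpr p.2.2.2⟩
      invFun := fun s =>
        (fun i => h (s.1 i) x1,
          ⟨fun i => ⟨s.1 i - h (s.1 i) x1 • u, (hmem _).mpr
            ⟨by
              have := s.2.2 i.succ 0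
              simp only [Fin.cons_succ, Fin.cons_zero] at this
              rw [H.sub_left, H.smul_left, hu0, this]; ring,
             by rw [H.sub_left, H.smul_left, hx1]; ring⟩⟩,
          (hli (fun i => h (s.1 i) x1) _).mp (by simpa using s.2.1),
          (hzero (fun i => h (s.1 i) x1) _).mp (by simpa using s.2.2)⟩)
      left_inv := fun p => by
        have e : ∀ i, h (p.1 i • u + (p.2.1 i : V)) x1 = p.1 i := fun i => by
          rw [H.add_left, H.smul_left, hx1, ((hmem _).mp (p.2.1 i).2).2]; ring
        exact Prod.ext (funext e) (Subtype.ext (funext fun i => Subtype.ext (by simp [e])))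
      right_inv := fun s => Subtype.ext (funext fun i => by simp) }
  rw [← Nat.card_congr E, Nat.card_prod, Nat.card_fun, Nat.card_fin]

/-- The recursion. -/
theorem card_fr_succ [Finite F] [FiniteDimensional F V] (k f : ℕ)
    (hf : ∀ R : Submodule F V, finrank F R + 2 = finrank F V → Sesq τ (fun x y : R => h x y) →
      Nat.card (Fr F (fun x y : R => h x y) k) = f) :
    Nat.card (Fr F h (k + 1)) = (Nat.card {u : V // h u u = 0} - 1) * (Nat.card F ^ k * f) := by
  classical
  haveI := Module.finite_of_finite F (M := V)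
  haveI := Fintype.ofFinite V
  let E : Fr F h (k + 1) ≃ Σ u : {u : V // h u u = 0 ∧ u ≠ 0},
      {s : Fin k → V // LinearIndependent F (Fin.cons u.1 s : Fin (k + 1) → V) ∧
          ∀ i j, h ((Fin.cons u.1 s : Fin (k + 1) → V) i) ((Fin.cons u.1 s : Fin (k + 1) → V) j) = 0} :=
    { toFun := fun s => ⟨⟨s.1 0, s.2.2 0 0, s.2.1.ne_zero 0⟩, ⟨Fin.tail s.1, by
        rw [Fin.cons_self_tail]; exact s.2⟩⟩
      invFun := fun p => ⟨Fin.cons p.1.1 p.2.1, p.2.2⟩
      left_inv := fun s => Subtype.ext (Fin.cons_self_tail s.1)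
      right_inv := fun p => by
        obtain ⟨⟨u, hu⟩, ⟨s, hs⟩⟩ := p
        exact Sigma.subtype_ext (Subtype.ext (Fin.cons_zero (α := fun _ => V) u s))
          (Fin.tail_cons (α := fun _ => V) u s) }
  rw [Nat.card_congr E, Nat.card_sigma, Finset.sum_congr rfl (g := fun _ => Nat.card F ^ k * f) fun u _ => ?_,
    Finset.sum_const, Finset.card_univ, smul_eq_mul, ← Nat.card_eq_fintype_card]
  · congr 1
    rw [Nat.card_eq_fintype_card, Nat.card_eq_fintype_card, Fintype.card_subtype, Fintype.card_subtype]
    rw [← Finset.card_erase_of_mem (a := (0 : V)) (by simp [H.zero_left])]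
    exact congrArg Finset.card (by ext v; simp [and_comm])
  · obtain ⟨R, hR, hS, hc⟩ := H.exists_residual u.2.2 u.2.1
    rw [hc k, hf R hR hS]

end Sesq

/-- The stabiliser of an object described by the frames adapted to it. -/
theorem card_stab_mul [Finite V] {h : V → V → F} {k : ℕ} (S : Subgroup ↥(isoF h)) (T : Set (Fr F h k)) (s0 : Fr F h k)
    (htr : ∀ t : Fr F h k, ∃ g : ↥(isoF h), ∀ i, g.1 (s0.1 i) = t.1 i)
    (hS : ∀ g : ↥(isoF h), g ∈ S ↔ ∀ t : Fr F h k, (∀ i, g.1 (s0.1 i) = t.1 i) → t ∈ T) :
    Nat.card S * Nat.card (Fr F h k) = Nat.card ↥(isoF h) * Nat.card T := by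
  classical
  haveI : Finite (V ≃ₗ[F] V) := Finite.of_injective _ LinearEquiv.coe_injective
  let φ : ↥(isoF h) → Fr F h k := fun g => ⟨fun i => g.1 (s0.1 i),
    s0.2.1.map' g.1.toLinearMap g.1.ker, fun i j => by rw [g.2]; exact s0.2.2 i j⟩
  obtain ⟨c, hc⟩ : ∃ c, c = Nat.card {g : ↥(isoF h) // φ g = s0} := ⟨_, rfl⟩
  have hfib : ∀ t, Nat.card {g : ↥(isoF h) // φ g = t} = c := by
    intro t
    obtain ⟨a, ha⟩ := htr t
    rw [hc]
    refine Nat.card_congr ((Equiv.mulLeft a⁻¹).subtypeEquiv fun g => ?_)
    simp only [φ, Equiv.coe_mulLeft, Subtype.ext_iff, funext_iff]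
    refine forall_congr' fun i => ?_
    show g.1 (s0.1 i) = t.1 i ↔ a.1.symm (g.1 (s0.1 i)) = s0.1 i
    rw [LinearEquiv.symm_apply_eq, ha]
  haveI : Finite (Fr F h k) := Subtype.finite
  haveI := Fintype.ofFinite (Fr F h k)
  have hG : Nat.card ↥(isoF h) = Nat.card (Fr F h k) * c := by
    rw [Nat.card_congr (Equiv.sigmaFiberEquiv φ).symm, Nat.card_sigma, Finset.sum_congr rfl fun t _ => hfib t,
      Finset.sum_const, Finset.card_univ, smul_eq_mul, Nat.card_eq_fintype_card (α := Fr F h k)]
  have hmem : ∀ g, g ∈ S ↔ φ g ∈ T := fun g => (hS g).trans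
    ⟨fun e => e _ fun i => rfl, fun e t ht => by rwa [show t = φ g from Subtype.ext (funext fun i => (ht i).symm)]⟩
  have hST : Nat.card S = Nat.card T * c := by
    rw [Nat.card_congr ((Equiv.subtypeEquivRight hmem).trans (Equiv.sigmaSubtypeFiberEquivSubtype φ fun g => Iff.rfl).symm),
      Nat.card_sigma, Finset.sum_congr rfl fun t _ => hfib t.1, Finset.sum_const, Finset.card_univ, smul_eq_mul,
      ← Nat.card_eq_fintype_card (α := {t // t ∈ T})]
  rw [hG, hST]; ring

/-- The frames spanning a subspace. -/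
theorem card_spanning [Finite F] [FiniteDimensional F V] {h : V → V → F} {k : ℕ} {W : Submodule F V}
    (hW : finrank F W = k) (h0 : ∀ u ∈ W, ∀ v ∈ W, h u v = 0) :
    Nat.card {s : Fr F h k // Submodule.span F (Set.range s.1) = W} =
      ∏ i : Fin k, (Nat.card F ^ k - Nat.card F ^ (i : ℕ)) := by
  classical
  haveI := Fintype.ofFinite F
  rw [Nat.card_eq_fintype_card (α := F)]
  subst hW
  haveI := Module.finite_of_finite F (M := V)
  rw [← card_linearIndependent (K := F) (V := W) le_rfl]
  exact Nat.card_congr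
    { toFun := fun s => ⟨fun i => ⟨s.1.1 i, s.2.le (Submodule.subset_span ⟨i, rfl⟩)⟩,
        LinearIndependent.of_comp W.subtype s.1.2.1⟩
      invFun := fun s => ⟨⟨fun i => s.1 i, s.2.map' _ (Submodule.ker_subtype _),
          fun i j => h0 _ (s.1 i).2 _ (s.1 j).2⟩,
        Submodule.eq_of_le_of_finrank_eq (Submodule.span_le.mpr (by rintro _ ⟨i, rfl⟩; exact (s.1 i).2))
          ((finrank_span_eq_card (s.2.map' _ (Submodule.ker_subtype _))).trans (Fintype.card_fin _))⟩
      left_inv := fun s => rfl
      right_inv := fun s => rfl }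

/-- The stabiliser of a totally isotropic subspace. -/
theorem card_stab_subspace_mul [Finite F] [FiniteDimensional F V] {h : V → V → F} {k : ℕ} {W : Submodule F V}
    (hW : finrank F W = k) (h0 : ∀ u ∈ W, ∀ v ∈ W, h u v = 0)
    (htr : ∀ s t : Fr F h k, ∃ g : ↥(isoF h), ∀ i, g.1 (s.1 i) = t.1 i) :
    Nat.card (stab h W) * Nat.card (Fr F h k) =
      Nat.card ↥(isoF h) * ∏ i : Fin k, (Nat.card F ^ k - Nat.card F ^ (i : ℕ)) := by
  classical
  haveI := Module.finite_of_finite F (M := V)
  obtain ⟨b⟩ : Nonempty (Basis (Fin k) F W) := ⟨finBasisOfFinrankEq F W hW⟩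
  let s0 : Fr F h k := ⟨fun i => b i, b.linearIndependent.map' _ (Submodule.ker_subtype _),
    fun i j => h0 _ (b i).2 _ (b j).2⟩
  have hs0 : Submodule.span F (Set.range s0.1) = W :=
    Submodule.eq_of_le_of_finrank_eq (Submodule.span_le.mpr (by rintro _ ⟨i, rfl⟩; exact (b i).2))
      ((finrank_span_eq_card s0.2.1).trans ((Fintype.card_fin k).trans hW.symm))
  rw [← card_spanning hW h0]
  refine card_stab_mul (stab h W) {s | Submodule.span F (Set.range s.1) = W} s0 (htr s0) fun g => ?_
  constructor
  · intro hg t ht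
    refine Submodule.eq_of_le_of_finrank_eq (Submodule.span_le.mpr ?_)
      ((finrank_span_eq_card t.2.1).trans ((Fintype.card_fin k).trans hW.symm))
    rintro _ ⟨i, rfl⟩
    rw [← ht]
    exact (hg _).mp (b i).2
  · intro e v
    have hmap : W.map g.1.toLinearMap = W := by
      conv_lhs => rw [← hs0, Submodule.map_span, ← Set.range_comp]
      exact e ⟨fun i => g.1 (s0.1 i), s0.2.1.map' g.1.toLinearMap g.1.ker,
        fun i j => by rw [g.2]; exact s0.2.2 i j⟩ fun i => rfl
    constructor
    · intro hv; rw [← hmap]; exact ⟨v, hv, rfl⟩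
    · intro hv
      rw [← hmap] at hv
      obtain ⟨w, hw, e'⟩ := hv
      exact g.1.injective e' ▸ hw

end Cfsg.Agent.Classical.TSFrames
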