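import Cfsg.Agent.Lib.Classical.DiscType

/-!
# The type of a tensor product of two symmetric forms
-/

set_option autoImplicit false
set_option linter.unusedSectionVars false

namespace Cfsg.Agent.Classical.DiscType

open Module TensorProduct

variable {F U W : Type*} [Field F] [Fintype F] [AddCommGroup U] [Module F U] [FiniteDimensional F U]
  [AddCommGroup W] [Module F W] [FiniteDimensional F W]

/-- The criterion for a tensor product, in terms of diagonalisations of the factors. -/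
theorem tensor_iff (h2 : (2 : F) ≠ 0) {B₁ : LinearMap.BilinForm F U} {B₂ : LinearMap.BilinForm F W}
    (hS₁ : B₁.IsSymm) (hS₂ : B₂.IsSymm) {ι κ : Type*} [Fintype ι] [Fintype κ] [DecidableEq ι] [DecidableEq κ]
    {N : ℕ} (hcard : Fintype.card (ι × κ) = 2 * N) (b : Basis ι F U) (c : Basis κ F W)
    (hb : ∀ i j, i ≠ j → B₁ (b i) (b j) = 0) (hc : ∀ i j, i ≠ j → B₂ (c i) (c j) = 0)
    (hb0 : ∀ i, B₁ (b i) (b i) ≠ 0) (hc0 : ∀ i, B₂ (c i) (c i) ≠ 0) :
    (∃ X : Submodule F (U ⊗[F] W), finrank F X = N ∧ ∀ x ∈ X, ∀ y ∈ X, (B₁.tmul B₂) x y = 0) ↔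
      IsSquare ((-1 : F) ^ N * ((∏ i, B₁ (b i) (b i)) ^ Fintype.card κ * (∏ j, B₂ (c j) (c j)) ^ Fintype.card ι)) := by
  have happ : ∀ x y, (B₁.tmul B₂) ((b.tensorProduct c) x) ((b.tensorProduct c) y) =
      B₂ (c x.2) (c y.2) * B₁ (b x.1) (b y.1) := by
    intro x y
    rw [Basis.tensorProduct_apply', Basis.tensorProduct_apply']
    simp [LinearMap.BilinForm.tmul]
  have hS : LinearMap.BilinForm.IsSymm (B₁.tmul B₂) := LinearMap.BilinForm.isSymm_iff.mpr
    (LinearMap.IsSymm.tmul (LinearMap.BilinForm.isSymm_iff.mp hS₁) (LinearMap.BilinForm.isSymm_iff.mp hS₂))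
  rw [half_iff h2 hS hcard (b.tensorProduct c) (fun x y hxy => by
      rw [happ]
      by_cases h1 : x.1 = y.1
      · rw [hc _ _ fun e => hxy (Prod.ext h1 e), zero_mul]
      · rw [hb _ _ h1, mul_zero])
    (fun x => by rw [happ]; exact mul_ne_zero (hc0 _) (hb0 _))]
  refine iff_of_eq (congrArg (fun t => IsSquare ((-1 : F) ^ N * t)) ?_)
  simp only [happ, Fintype.prod_prod_type, Finset.prod_mul_distrib, Finset.prod_const, Finset.card_univ,
    Finset.prod_pow]
  ring

end Cfsg.Agent.Classical.DiscType
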