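import Cfsg.Prelude.Def_SporadicB
import Cfsg.Prelude.Def_Solvable
import Cfsg.Agent.Lib.Spor.ThreeBasic
import Cfsg.Agent.Lib.Lie.SymExtend
import Cfsg.Agent.S2530

/-!
# Three-transposition sets in which every member commutes with three others

If the members of `D` other than `d` that commute with `d` generate a symmetric group of degree 3
and `O₃(C(d))` has order 3, then `⟨D⟩` is `S₅` or `S₃ × S₃`.  The commuting graph is cubic without
triangles.  If two neighbours of some point have different neighbourhoods we find Coxeter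
generators of `S₅`, and a further member would give a proper 3-colouring of the edges of the
Petersen graph.  Otherwise the components are complete bipartite graphs, the products of twins
generate an abelian normal 3-group, and the hypothesis on `O₃` leaves room for one component.
-/

set_option autoImplicit false
set_option linter.unusedSectionVars false

namespace Cfsg.Agent.Classical.ThreeTransCubic

variable {G : Type*} [Group G] {D : Set G}

/-- The members of `D` other than `d` commuting with `d`. -/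
def nbr (D : Set G) (d : G) : Set G := {y : G | y ∈ D ∧ y ≠ d ∧ Commute d y}

theorem nbr_symm {a b : G} (ha : a ∈ D) (h : b ∈ nbr D a) : a ∈ nbr D b :=
  ⟨ha, h.2.1.symm, h.2.2.symm⟩

/-- The standing hypotheses, without the one on the core. -/
structure Cubic (D : Set G) : Prop where
  tt : Cfsg.IsThreeTranspositionSet D
  conj : ∀ g : G, ∀ d ∈ D, g * d * g⁻¹ ∈ D
  loc : ∀ d ∈ D, Nonempty (↥(Subgroup.closure (nbr D d)) ≃* Equiv.Perm (Fin 3))

set_option synthInstance.maxSize 2000 in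
theorem s3_facts :
    (∀ σ τ : Equiv.Perm (Fin 3), σ * σ = 1 → σ ≠ 1 → τ * τ = 1 → τ ≠ 1 → σ ≠ τ →
      σ * τ ≠ τ * σ ∧ ∀ υ : Equiv.Perm (Fin 3), υ * υ = 1 → υ ≠ 1 → υ = σ ∨ υ = τ ∨ υ = σ * τ * σ) ∧
    (∀ σ : Equiv.Perm (Fin 3), (∀ τ : Equiv.Perm (Fin 3), σ * τ = τ * σ) → σ = 1) := by
  decide +kernel

namespace Cubic

variable (h : Cubic D)
include h

theorem sq {d : G} (hd : d ∈ D) : d * d = 1 := Spor.mul_self_of_order_two (h.tt.1 d hd)

theorem inv {d : G} (hd : d ∈ D) : d⁻¹ = d := Spor.inv_of_order_two (h.tt.1 d hd)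

theorem ne_one {d : G} (hd : d ∈ D) : d ≠ 1 := fun e => by
  have := h.tt.1 d hd
  rw [e, orderOf_one] at this
  omega

theorem braid {a b : G} (ha : a ∈ D) (hb : b ∈ D) (hn : ¬ Commute a b) :
    a * b * a = b * a * b := (Spor.commute_or_braid h.tt ha hb).resolve_left hn

theorem nbr_conj (g : G) {d y : G} (hy : y ∈ nbr D d) : g * y * g⁻¹ ∈ nbr D (g * d * g⁻¹) := by
  refine ⟨h.conj g y hy.1, fun e => hy.2.1 ?_, ?_⟩
  · exact mul_left_cancel (mul_right_cancel e)
  · have := hy.2.2.map (MulAut.conj g).toMonoidHom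
    simpa using this

/-- Any two distinct neighbours of a point do not commute and determine the third. -/
theorem local_facts {d a b : G} (hd : d ∈ D) (ha : a ∈ nbr D d) (hb : b ∈ nbr D d) (hab : a ≠ b) :
    ¬ Commute a b ∧ ∀ y ∈ nbr D d, y = a ∨ y = b ∨ y = a * b * a := by
  obtain ⟨e⟩ := h.loc d hd
  have key : ∀ y (hy : y ∈ nbr D d), e ⟨y, Subgroup.subset_closure hy⟩ * e ⟨y, Subgroup.subset_closure hy⟩ = 1 ∧
      e ⟨y, Subgroup.subset_closure hy⟩ ≠ 1 := by
    intro y hy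
    refine ⟨?_, fun e' => h.ne_one hy.1 ?_⟩
    · rw [← map_mul, ← map_one e]
      exact congrArg e (Subtype.ext (h.sq hy.1))
    · rw [← map_one e] at e'
      exact congrArg Subtype.val (e.injective e')
  have hne : e ⟨a, Subgroup.subset_closure ha⟩ ≠ e ⟨b, Subgroup.subset_closure hb⟩ := fun e' =>
    hab (congrArg Subtype.val (e.injective e'))
  obtain ⟨hc, hthree⟩ := s3_facts.1 _ _ (key a ha).1 (key a ha).2 (key b hb).1 (key b hb).2 hne
  refine ⟨fun hcc => hc ?_, fun y hy => ?_⟩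
  · rw [← map_mul, ← map_mul]
    exact congrArg e (Subtype.ext hcc.eq)
  · rcases hthree _ (key y hy).1 (key y hy).2 with e' | e' | e'
    · exact Or.inl (congrArg Subtype.val (e.injective e'))
    · exact Or.inr (Or.inl (congrArg Subtype.val (e.injective e')))
    · rw [← map_mul, ← map_mul] at e'
      exact Or.inr (Or.inr (congrArg Subtype.val (e.injective e')))

theorem exists_two {d : G} (hd : d ∈ D) : ∃ a ∈ nbr D d, ∃ b ∈ nbr D d, a ≠ b := by
  by_contra hc
  push Not at hc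
  obtain ⟨e⟩ := h.loc d hd
  have hcomm : ∀ x ∈ Subgroup.closure (nbr D d), ∀ y ∈ Subgroup.closure (nbr D d), x * y = y * x := by
    intro x hx y hy
    haveI := Subgroup.isMulCommutative_closure (k := nbr D d) (fun p hp q hq => by rw [hc p hp q hq])
    exact congrArg Subtype.val (mul_comm' (⟨x, hx⟩ : Subgroup.closure (nbr D d)) ⟨y, hy⟩)
  have := s3_facts.2 (Equiv.swap 0 1) (fun τ => by
    have := congrArg e (Subtype.ext (hcomm _ (e.symm (Equiv.swap 0 1)).2 _ (e.symm τ).2) :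
      e.symm (Equiv.swap 0 1) * e.symm τ = e.symm τ * e.symm (Equiv.swap 0 1))
    simpa using this)
  exact absurd this (by decide)

/-- A commuting pair moves a point which commutes with neither to a neighbour of that point. -/
theorem adj_move {p q y : G} (hp : p ∈ D) (hq : q ∈ D) (hy : y ∈ D) (hpq : Commute p q) (hne : p ≠ q)
    (hyp : ¬ Commute y p) (hyq : ¬ Commute y q) : p * q * y * (p * q)⁻¹ ∈ nbr D y := by
  have bp := h.braid hy hp hyp
  have bq := h.braid hy hq hyq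
  have e : p * q * y * (p * q)⁻¹ = p * (q * y * q) * p := by
    rw [mul_inv_rev, h.inv hp, h.inv hq]; simp only [mul_assoc]
  rw [e]
  refine ⟨by rw [← e]; exact h.conj _ _ hy, fun e' => hne ?_, ?_⟩
  · have h1 : q * y * q = p * y * p := by
      calc q * y * q = p * (p * (q * y * q) * p) * p := by
            simp only [mul_assoc, h.sq hp, mul_one]; rw [← mul_assoc p p, h.sq hp, one_mul]
        _ = p * y * p := by rw [e']
    rw [← bp, ← bq] at h1
    exact (mul_left_cancel (mul_right_cancel h1)).symm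
  · show y * (p * (q * y * q) * p) = p * (q * y * q) * p * y
    have hc : q * p * q = p := by rw [← hpq.eq, mul_assoc, h.sq hq, mul_one]
    have l1 : y * (p * (q * y * q) * p) * y = p * (q * y * q) * p := by
      calc y * (p * (q * y * q) * p) * y = y * p * (y * q * y) * p * y := by
            rw [bq]; simp only [mul_assoc]
        _ = y * p * y * q * (y * p * y) := by simp only [mul_assoc]
        _ = p * y * p * q * (p * y * p) := by rw [bp]
        _ = p * y * (p * q * p) * y * p := by simp only [mul_assoc]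
        _ = p * y * q * y * p := by rw [hpq.eq, mul_assoc q, h.sq hp, mul_one]
        _ = p * (q * y * q) * p := by rw [← bq]; simp only [mul_assoc]
    calc y * (p * (q * y * q) * p) = y * (p * (q * y * q) * p) * (y * y) := by rw [h.sq hy, mul_one]
      _ = y * (p * (q * y * q) * p) * y * y := by simp only [mul_assoc]
      _ = p * (q * y * q) * p * y := by rw [l1]

theorem adj_move_ne {p u v y : G} (hp : p ∈ D) (hy : y ∈ D) (hu : u ∈ nbr D p) (hv : v ∈ nbr D p)
    (huv : u ≠ v) (hyp : ¬ Commute y p) (hyu : ¬ Commute y u) (hyv : ¬ Commute y v) :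
    p * u * y * (p * u)⁻¹ ≠ p * v * y * (p * v)⁻¹ := by
  intro e
  have e1 : u * y * u = v * y * v := by
    rw [mul_inv_rev, mul_inv_rev, h.inv hp, h.inv hu.1, h.inv hv.1] at e
    simp only [← mul_assoc] at e
    have := mul_right_cancel e
    simp only [mul_assoc] at this
    simpa only [mul_assoc] using mul_left_cancel this
  rw [← h.braid hy hu.1 hyu, ← h.braid hy hv.1 hyv] at e1
  exact huv (mul_left_cancel (mul_right_cancel e1))

end Cubic

set_option synthInstance.maxSize 20000 in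
set_option synthInstance.maxHeartbeats 400000 in
/-- The Petersen graph has no proper colouring of its edges by three colours. -/
theorem petersen :
    ∀ o0 o1 : Fin 3, o0 ≠ o1 → ∀ o2 : Fin 3, o1 ≠ o2 → ∀ o3 : Fin 3, o2 ≠ o3 →
    ∀ o4 : Fin 3, o3 ≠ o4 → o4 ≠ o0 →
    ∀ s0 : Fin 3, s0 ≠ o4 → s0 ≠ o0 → ∀ s1 : Fin 3, s1 ≠ o0 → s1 ≠ o1 →
    ∀ s2 : Fin 3, s2 ≠ o1 → s2 ≠ o2 → ∀ s3 : Fin 3, s3 ≠ o2 → s3 ≠ o3 →
    ∀ s4 : Fin 3, s4 ≠ o3 → s4 ≠ o4 →
    ∀ i0 : Fin 3, i0 ≠ s0 → i0 ≠ s2 → ∀ i2 : Fin 3, i2 ≠ s2 → i2 ≠ s4 → i0 ≠ i2 →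
    ∀ i4 : Fin 3, i4 ≠ s4 → i4 ≠ s1 → i2 ≠ i4 → ∀ i1 : Fin 3, i1 ≠ s1 → i1 ≠ s3 → i4 ≠ i1 →
    ∀ i3 : Fin 3, i3 ≠ s3 → i3 ≠ s0 → i1 ≠ i3 → i3 ≠ i0 → False := by
  decide +kernel

open Equiv in
theorem case_five [Finite G] (h : Cubic D) {d a b a' : G} (hd : d ∈ D) (ha : a ∈ nbr D d)
    (hb : b ∈ nbr D d) (hab : a ≠ b) (ha' : a' ∈ nbr D a) (hn : a' ∉ nbr D b) :
    Nonempty (↥(Subgroup.closure D) ≃* Perm (Fin 5)) := by
  classical
  have hda : d ∈ nbr D a := nbr_symm hd ha
  have hdb : d ∈ nbr D b := nbr_symm hd hb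
  have hda' : a' ≠ d := fun e => hn (e ▸ hdb)
  have n1 : ¬ Commute a b := (h.local_facts hd ha hb hab).1
  have hba' : a' ≠ b := fun e => n1 (e ▸ ha'.2.2)
  have n2 : ¬ Commute b a' := fun c => hn ⟨ha'.1, hba', c⟩
  have n3 : ¬ Commute a' d := (h.local_facts ha.1 ha' hda hda').1
  let f : Fin 4 → G := ![a, b, a', d]
  have hfD : ∀ i, f i ∈ D := by
    intro i; fin_cases i <;> simp [f, ha.1, hb.1, ha'.1, hd]
  have hpow3 : ∀ p q : G, p ∈ D → q ∈ D → ¬ Commute p q → (p * q) ^ 3 = 1 := by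
    intro p q hp hq hn'
    rcases h.tt.2 p hp q hq with e | e
    · exact absurd (Lie.comm_of_pow_two (h.sq hp) (h.sq hq) e) hn'
    · exact e
  have hpow2 : ∀ p q : G, p ∈ D → q ∈ D → Commute p q → (p * q) ^ 2 = 1 := by
    intro p q hp hq hc
    rw [hc.mul_pow, pow_two, pow_two, h.sq hp, h.sq hq, one_mul]
  obtain ⟨cs, hcs⟩ := S2530.result 4
  have hlift : (CoxeterMatrix.A 4).IsLiftable f := by
    intro i j
    fin_cases i <;> fin_cases j <;> simp [CoxeterMatrix.A, f] <;>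
      first
        | exact h.sq ha.1
        | exact h.sq hb.1
        | exact h.sq ha'.1
        | exact h.sq hd
        | exact hpow3 _ _ ha.1 hb.1 n1
        | exact hpow3 _ _ hb.1 ha.1 (fun c => n1 c.symm)
        | exact hpow3 _ _ hb.1 ha'.1 n2
        | exact hpow3 _ _ ha'.1 hb.1 (fun c => n2 c.symm)
        | exact hpow3 _ _ ha'.1 hd n3
        | exact hpow3 _ _ hd ha'.1 (fun c => n3 c.symm)
        | exact hpow2 _ _ ha.1 ha'.1 ha'.2.2
        | exact hpow2 _ _ ha'.1 ha.1 ha'.2.2.symm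
        | exact hpow2 _ _ ha.1 hd ha.2.2.symm
        | exact hpow2 _ _ hd ha.1 ha.2.2
        | exact hpow2 _ _ hb.1 hd hb.2.2.symm
        | exact hpow2 _ _ hd hb.1 hb.2.2
  let φ : Perm (Fin 5) →* G := cs.lift ⟨f, hlift⟩
  have hφ : ∀ i : Fin 4, φ (swap i.castSucc i.succ) = f i := fun i => by
    rw [← hcs]; exact cs.lift_apply_simple hlift i
  have hinj : Function.Injective φ := by
    apply Cfsg.Agent.Lie.SymExtend.injective_of_big (le_refl 5)
    let g : Fin 3 → φ.range := ![1, ⟨a, _, hφ 0⟩, ⟨b, _, hφ 1⟩]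
    have hg : Function.Injective g := by
      have h1 : a ≠ 1 := h.ne_one ha.1
      have h2 : b ≠ 1 := h.ne_one hb.1
      intro i j e
      have e' : (g i : G) = g j := congrArg Subtype.val e
      fin_cases i <;> fin_cases j <;> simp [g] at e' ⊢
      all_goals first
        | exact h1 e'
        | exact h1 e'.symm
        | exact h2 e'
        | exact h2 e'.symm
        | exact hab e'
        | exact hab e'.symm
    have := Nat.card_le_card_of_injective g hg
    rw [Nat.card_fin] at this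
    omega
  have hswap : ∀ σ : Perm (Fin 5), σ.IsSwap → φ σ ∈ D := by
    rintro σ ⟨i, j, hij, rfl⟩
    obtain ⟨π, hπ⟩ := isConj_iff.1 (Perm.isConj_swap (show (0 : Fin 5) ≠ 1 by decide) hij)
    rw [← hπ, map_mul, map_mul, map_inv]
    refine h.conj _ _ ?_
    have h0 := hφ 0
    rw [show swap (Fin.castSucc (0 : Fin 4)) (Fin.succ 0) = swap (0 : Fin 5) 1 from rfl] at h0
    rw [h0]
    exact hfD 0
  have hdisj : ∀ i j k l : Fin 5, i ≠ j → k ≠ l → swap i j * swap k l = swap k l * swap i j →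
      swap i j ≠ swap k l → φ (swap k l) ∈ nbr D (φ (swap i j)) := by
    intro i j k l hij hkl hc hne
    exact ⟨hswap _ ⟨k, l, hkl, rfl⟩, fun e => hne (hinj e).symm, by
      rw [Commute, SemiconjBy, ← map_mul, ← map_mul, hc]⟩
  have hclosed : ∀ i j : Fin 5, i ≠ j → ∀ y ∈ nbr D (φ (swap i j)),
      ∃ σ : Perm (Fin 5), σ.IsSwap ∧ φ σ = y := by
    intro i j hij y hy
    obtain ⟨π, hπ⟩ := isConj_iff.1 (Perm.isConj_swap (show (0 : Fin 5) ≠ 1 by decide) hij)
    rw [← hπ, map_mul, map_mul, map_inv] at hy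
    have h1 := h.nbr_conj (φ π) (hdisj 0 1 2 3 (by decide) (by decide) (by decide) (by decide))
    have h2 := h.nbr_conj (φ π) (hdisj 0 1 3 4 (by decide) (by decide) (by decide) (by decide))
    have hne : φ π * φ (swap 2 3) * (φ π)⁻¹ ≠ φ π * φ (swap 3 4) * (φ π)⁻¹ := fun e =>
      absurd (hinj (mul_left_cancel (mul_right_cancel e))) (by decide)
    have hcs' : ∀ k l : Fin 5, k ≠ l → (π * swap k l * π⁻¹).IsSwap := fun k l hkl =>
      ⟨π k, π l, π.injective.ne hkl, by rw [Equiv.swap_apply_apply, mul_assoc]⟩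
    rcases (h.local_facts (h.conj _ _ (hswap _ ⟨0, 1, by decide, rfl⟩)) h1 h2 hne).2 y hy with e | e | e
    · exact ⟨_, hcs' 2 3 (by decide), by rw [e, map_mul, map_mul, map_inv]⟩
    · exact ⟨_, hcs' 3 4 (by decide), by rw [e, map_mul, map_mul, map_inv]⟩
    · refine ⟨_, hcs' 2 4 (by decide), ?_⟩
      rw [e, show swap (2 : Fin 5) 4 = swap 2 3 * swap 3 4 * swap 2 3 by decide]
      simp only [map_mul, map_inv]
      group
  have hall : ∀ x ∈ D, ∃ σ : Perm (Fin 5), σ.IsSwap ∧ φ σ = x := by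
    intro x hx
    by_contra hx'
    have hnc : ∀ i j : Fin 5, i ≠ j → ¬ Commute x (φ (swap i j)) := fun i j hij c =>
      hx' (hclosed i j hij x ⟨hx, fun e => hx' ⟨_, ⟨i, j, hij, rfl⟩, e.symm⟩, c.symm⟩)
    obtain ⟨p, hp, q, hq, hpq⟩ := h.exists_two hx
    let idx : G → Fin 3 := fun y => if y = p then 0 else if y = q then 1 else 2
    have hidx : ∀ y ∈ nbr D x, ∀ y' ∈ nbr D x, idx y = idx y' → y = y' := by
      intro y hy y' hy' e
      simp only [idx] at e
      rcases (h.local_facts hx hp hq hpq).2 y hy with r | r | r <;>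
        rcases (h.local_facts hx hp hq hpq).2 y' hy' with r' | r' | r' <;>
        (subst r r'; first | rfl | (split_ifs at e with c1 c2 c3 c4 <;> simp_all))
    let col : Fin 5 → Fin 5 → Fin 5 → Fin 5 → Fin 3 := fun i j k l =>
      idx (φ (swap i j) * φ (swap k l) * x * (φ (swap i j) * φ (swap k l))⁻¹)
    have hsym : ∀ i j k l : Fin 5, swap i j * swap k l = swap k l * swap i j →
        col i j k l = col k l i j := fun i j k l e => by
      simp only [col]; rw [← map_mul, e, map_mul]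
    have hcol : ∀ i j k l m n : Fin 5, i ≠ j → k ≠ l → m ≠ n →
        swap i j * swap k l = swap k l * swap i j → swap i j ≠ swap k l →
        swap i j * swap m n = swap m n * swap i j → swap i j ≠ swap m n →
        swap k l ≠ swap m n → col i j k l ≠ col i j m n := by
      intro i j k l m n hij hkl hmn c1 d1 c2 d2 d3 e
      have hk := hdisj i j k l hij hkl c1 d1
      have hm := hdisj i j m n hij hmn c2 d2
      have hp' := hswap _ ⟨i, j, hij, rfl⟩
      refine h.adj_move_ne hp' hx hk hm (fun e' => d3 (hinj e')) (hnc i j hij) (hnc k l hkl)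
        (hnc m n hmn) (hidx _ ?_ _ ?_ e)
      · exact h.adj_move hp' hk.1 hx hk.2.2 hk.2.1.symm (hnc i j hij) (hnc k l hkl)
      · exact h.adj_move hp' hm.1 hx hm.2.2 hm.2.1.symm (hnc i j hij) (hnc m n hmn)
    have hne2 : ∀ i j k l m n : Fin 5, i ≠ j → k ≠ l → m ≠ n →
        swap i j * swap k l = swap k l * swap i j → swap i j ≠ swap k l →
        swap k l * swap m n = swap m n * swap k l → swap k l ≠ swap m n →
        swap i j ≠ swap m n → col i j k l ≠ col k l m n := fun i j k l m n h1 h2 h3 c1 d1 c2 d2 d3 => by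
      rw [hsym i j k l c1]
      exact hcol k l i j m n h2 h1 h3 c1.symm d1.symm c2 d2 d3
    have hne3 : ∀ i j k l m n : Fin 5, i ≠ j → k ≠ l → m ≠ n →
        swap i j * swap k l = swap k l * swap i j → swap i j ≠ swap k l →
        swap m n * swap k l = swap k l * swap m n → swap m n ≠ swap k l →
        swap i j ≠ swap m n → col i j k l ≠ col m n k l := fun i j k l m n h1 h2 h3 c1 d1 c2 d2 d3 => by
      rw [hsym m n k l c2]
      exact hne2 i j k l m n h1 h2 h3 c1 d1 c2.symm d2.symm d3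
    -- the outer cycle 01, 23, 40, 12, 34; spokes to 24, 14, 13, 03, 02; the inner pentagram
    apply petersen (col 0 1 2 3) (col 2 3 4 0) (o2 := col 4 0 1 2) (o3 := col 1 2 3 4)
      (o4 := col 3 4 0 1) (s0 := col 0 1 2 4) (s1 := col 2 3 1 4) (s2 := col 4 0 1 3)
      (s3 := col 1 2 0 3) (s4 := col 3 4 0 2) (i0 := col 2 4 1 3) (i2 := col 1 3 0 2)
      (i4 := col 0 2 1 4) (i1 := col 1 4 0 3) (i3 := col 0 3 2 4)
    all_goals first
      | (apply hcol <;> decide)
      | (apply hne2 <;> decide)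
      | (apply hne3 <;> decide)
      | (apply Ne.symm; apply hcol <;> decide)
      | (apply Ne.symm; apply hne2 <;> decide)
      | (apply Ne.symm; apply hne3 <;> decide)
  have hrange : Subgroup.closure D = φ.range := by
    rw [MonoidHom.range_eq_map, ← Perm.closure_isSwap, MonoidHom.map_closure]
    congr 1
    ext y
    exact ⟨fun hy => hall y hy, fun ⟨σ, hσ, e⟩ => e ▸ hswap σ hσ⟩
  exact ⟨(MulEquiv.subgroupCongr hrange).trans (MonoidHom.ofInjective hinj).symm⟩

section Bipartite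

variable (h : Cubic D)
  (hP : ∀ d ∈ D, ∀ a ∈ nbr D d, ∀ b ∈ nbr D d, nbr D a = nbr D b)
include h hP

/-- The products of two twins. -/
def rot (D : Set G) : Set G := {g | ∃ u ∈ D, ∃ v ∈ D, nbr D u = nbr D v ∧ g = u * v}

theorem twin_move {u v : G} (hu : u ∈ D) (hv : v ∈ D) (huv : nbr D u = nbr D v) {y : G} (hy : y ∈ D) :
    nbr D (u * v * y * (u * v)⁻¹) = nbr D y := by
  rcases eq_or_ne u v with rfl | hne
  · rw [h.sq hu]; simp
  obtain ⟨z, hz, -⟩ := h.exists_two hu
  have hzv : z ∈ nbr D v := huv ▸ hz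
  have huz : u ∈ nbr D z := nbr_symm hu hz
  have hvz : v ∈ nbr D z := nbr_symm hv hzv
  by_cases hyu : y ∈ nbr D u
  · have hyv : y ∈ nbr D v := huv ▸ hyu
    have : Commute (u * v) y := hyu.2.2.mul_left hyv.2.2
    rw [this.eq, mul_inv_cancel_right]
  by_cases hyz : y ∈ nbr D z
  · have hz' : u * v * z * (u * v)⁻¹ = z := by
      rw [(hz.2.2.mul_left hzv.2.2).eq, mul_inv_cancel_right]
    have := h.nbr_conj (u * v) hyz
    rw [hz'] at this
    exact hP z hz.1 _ this _ hyz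
  have hyu' : y ≠ u := fun e => hyz (e ▸ huz)
  have hyz' : y ≠ z := fun e => hyu (e ▸ hz)
  have hyv' : y ≠ v := fun e => hyz (e ▸ hvz)
  have ncu : ¬ Commute y u := fun c => hyu ⟨hy, hyu', c.symm⟩
  have ncv : ¬ Commute y v := fun c => hyu (huv ▸ (show y ∈ nbr D v from ⟨hy, hyv', c.symm⟩))
  have ncz : ¬ Commute y z := fun c => hyz ⟨hy, hyz', c.symm⟩
  set y1 := z * v * y * (z * v)⁻¹ with hy1
  have h1 : y1 ∈ nbr D y := h.adj_move hz.1 hv hy hzv.2.2.symm hzv.2.1 ncz ncv
  have hy1y : y ∈ nbr D y1 := nbr_symm hy h1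
  have nu : ∀ p, p = u ∨ p = z → y1 ≠ p ∧ ¬ Commute y1 p := by
    intro p hp
    have hpD : p ∈ D := by rcases hp with rfl | rfl; exacts [hu, hz.1]
    have hyp : y ∉ nbr D p := by rcases hp with rfl | rfl; exacts [hyu, hyz]
    have hne' : y1 ≠ p := fun e => hyp (e ▸ hy1y)
    refine ⟨hne', fun c => ?_⟩
    have htw : nbr D p = nbr D y := hP y1 h1.1 p ⟨hpD, hne'.symm, c⟩ y hy1y
    rcases hp with rfl | rfl
    · exact hyz (nbr_symm hy (htw ▸ hz))
    · exact hyu (nbr_symm hy (htw ▸ huz))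
  have h2 : u * z * y1 * (u * z)⁻¹ ∈ nbr D y1 :=
    h.adj_move hu hz.1 h1.1 hz.2.2 hz.2.1.symm (nu u (Or.inl rfl)).2 (nu z (Or.inr rfl)).2
  have e : u * v * y * (u * v)⁻¹ = u * z * y1 * (u * z)⁻¹ := by
    rw [hy1]
    simp only [mul_inv_rev, h.inv hu, h.inv hv, h.inv hz.1, mul_assoc]
    rw [← mul_assoc z z, h.sq hz.1, one_mul, ← mul_assoc z z, h.sq hz.1, one_mul]
  rw [e]
  exact hP y1 h1.1 _ h2 _ hy1y

theorem cube_rot {u v : G} (hu : u ∈ D) (hv : v ∈ D) (huv : nbr D u = nbr D v) :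
    (u * v) ^ 3 = 1 := by
  rcases eq_or_ne u v with rfl | hne
  · rw [h.sq hu, one_pow]
  obtain ⟨z, hz, -⟩ := h.exists_two hu
  have hn := (h.local_facts hz.1 (nbr_symm hu hz) (nbr_symm hv (huv ▸ hz)) hne).1
  rcases h.tt.2 u hu v hv with e | e
  · exact absurd (Lie.comm_of_pow_two (h.sq hu) (h.sq hv) e) hn
  · exact e

/-- A product of two members of a side is a power of any product of two distinct ones. -/
theorem side_product {z x y p q : G} (hz : z ∈ D) (hx : x ∈ nbr D z) (hy : y ∈ nbr D z) (hxy : x ≠ y)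
    (hp : p ∈ nbr D z) (hq : q ∈ nbr D z) : p * q ∈ Subgroup.zpowers (x * y) := by
  have h3 : (x * y) ^ 3 = 1 :=
    cube_rot h hP hx.1 hy.1 (hP z hz x hx y hy)
  have hA : ∀ w ∈ nbr D z, x * w ∈ Subgroup.zpowers (x * y) := by
    intro w hw
    rcases (h.local_facts hz hx hy hxy).2 w hw with rfl | rfl | rfl
    · rw [h.sq hx.1]; exact one_mem _
    · exact Subgroup.mem_zpowers _
    · have : x * (x * y * x) = (x * y)⁻¹ := by
        rw [mul_inv_rev, h.inv hx.1, h.inv hy.1, mul_assoc x y, ← mul_assoc x x, h.sq hx.1, one_mul]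
      rw [this]
      exact inv_mem (Subgroup.mem_zpowers _)
  have e : p * q = (x * p)⁻¹ * (x * q) := by
    rw [mul_inv_rev, h.inv hp.1, h.inv hx.1, mul_assoc, ← mul_assoc x x, h.sq hx.1, one_mul]
  rw [e]
  exact mul_mem (inv_mem (hA p hp)) (hA q hq)

theorem rot_commute {r c : G} (hr : r ∈ rot D) (hc : c ∈ rot D) : Commute r c := by
  obtain ⟨x, hx, y, hy, hxy, rfl⟩ := hc
  obtain ⟨u, hu, v, hv, huv, rfl⟩ := hr
  rcases eq_or_ne x y with rfl | hne
  · rw [h.sq hx]; exact Commute.one_right _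
  obtain ⟨z, hz, -⟩ := h.exists_two hx
  have hxz : x ∈ nbr D z := nbr_symm hx hz
  have hyz : y ∈ nbr D z := nbr_symm hy (hxy ▸ hz)
  set r := u * v with hr
  have hmove : ∀ w ∈ nbr D z, r * w * r⁻¹ ∈ nbr D z := fun w hw => by
    have hzw : z ∈ nbr D w := nbr_symm hz.1 hw
    rw [← twin_move h hP hu hv huv hw.1] at hzw
    exact nbr_symm (h.conj _ _ hw.1) hzw
  have hmem : r * (x * y) * r⁻¹ ∈ Subgroup.zpowers (x * y) := by
    rw [show r * (x * y) * r⁻¹ = (r * x * r⁻¹) * (r * y * r⁻¹) by group]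
    exact side_product h hP hz.1 hxz hyz hne (hmove x hxz) (hmove y hyz)
  set c := x * y with hc
  have hc3 : c ^ 3 = 1 := cube_rot h hP hx hy hxy
  obtain ⟨k, hk⟩ := Subgroup.mem_zpowers_iff.1 hmem
  have hk' : r * c * r⁻¹ = c ^ (k % 3) := by
    rw [← hk]
    conv_lhs => rw [← Int.emod_add_mul_ediv k 3]
    rw [zpow_add, zpow_mul, zpow_ofNat, hc3, one_zpow, mul_one]
  have hk3 : k % 3 = 0 ∨ k % 3 = 1 ∨ k % 3 = 2 := by omega
  have hr3 : r ^ 3 = 1 := cube_rot h hP hu hv huv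
  rcases hk3 with e | e | e <;> rw [e] at hk'
  · rw [zpow_zero] at hk'
    have : c = 1 := by
      rw [show c = r⁻¹ * (r * c * r⁻¹) * r by group, hk', mul_one, inv_mul_cancel]
    rw [this]; exact Commute.one_right _
  · rw [zpow_one] at hk'
    exact mul_inv_eq_iff_eq_mul.1 hk'
  · have hinv : r * c * r⁻¹ = c⁻¹ := by
      rw [hk', zpow_two]
      exact eq_inv_of_mul_eq_one_left (by rw [← pow_two, ← pow_succ, hc3])
    have hinv2 : r * c⁻¹ * r⁻¹ = c := by
      rw [show r * c⁻¹ * r⁻¹ = (r * c * r⁻¹)⁻¹ by group, hinv, inv_inv]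
    have h1 : c = r ^ 3 * c * (r ^ 3)⁻¹ := by rw [hr3]; simp
    rw [show r ^ 3 * c * (r ^ 3)⁻¹ = r * (r * (r * c * r⁻¹) * r⁻¹) * r⁻¹ by
      rw [pow_succ, pow_two]; group, hinv, hinv2, hinv] at h1
    have h2 : c ^ 2 = 1 := by rw [pow_two]; nth_rw 2 [h1]; rw [mul_inv_cancel]
    have : c = 1 := by rw [pow_succ, h2, one_mul] at hc3; exact hc3
    rw [this]; exact Commute.one_right _

/-- With a core of order three there is only one component. -/
theorem one_component [Finite G]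
    (hcore : ∀ d ∈ D, Nat.card (Cfsg.pCore 3 ↥(Subgroup.centralizer ({d} : Set G))) = 3)
    {d a x : G} (hd : d ∈ D) (ha : a ∈ nbr D d) (hx : x ∈ D) : x ∈ nbr D a ∨ x ∈ nbr D d := by
  by_contra hxc
  rw [not_or] at hxc
  have hda : d ∈ nbr D a := nbr_symm hd ha
  have hxd : x ≠ d := fun e => hxc.1 (e ▸ hda)
  have hxa : x ≠ a := fun e => hxc.2 (e ▸ ha)
  have ncd : ¬ Commute x d := fun c => hxc.2 ⟨hx, hxd, c.symm⟩
  have nca : ¬ Commute x a := fun c => hxc.1 ⟨hx, hxa, c.symm⟩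
  set R := Subgroup.closure (rot D) with hR
  have hcomm : ∀ p ∈ R, ∀ q ∈ R, Commute p q := by
    intro p hp q hq
    haveI := Subgroup.isMulCommutative_closure (k := rot D) (fun u hu v hv => (rot_commute h hP hu hv).eq)
    exact congrArg Subtype.val (mul_comm' (⟨p, hp⟩ : Subgroup.closure (rot D)) ⟨q, hq⟩)
  have hnbrconj : ∀ g u v : G, u ∈ D → v ∈ D → nbr D u = nbr D v →
      nbr D (g * u * g⁻¹) = nbr D (g * v * g⁻¹) := by
    intro g u v hu hv huv
    have key : ∀ u v : G, nbr D u ⊆ nbr D v → nbr D (g * u * g⁻¹) ⊆ nbr D (g * v * g⁻¹) := by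
      intro u v hsub y hy
      have h1 := h.nbr_conj g⁻¹ hy
      rw [show g⁻¹ * (g * u * g⁻¹) * g⁻¹⁻¹ = u by group] at h1
      have h2 := h.nbr_conj g (hsub h1)
      rwa [show g * (g⁻¹ * y * g⁻¹⁻¹) * g⁻¹ = y by group] at h2
    exact Set.Subset.antisymm (key u v huv.subset) (key v u huv.symm.subset)
  have hnormal : R.Normal := by
    refine ⟨fun r hr g => ?_⟩
    induction hr using Subgroup.closure_induction with
    | mem r hr =>
      obtain ⟨u, hu, v, hv, huv, rfl⟩ := hr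
      exact Subgroup.subset_closure ⟨_, h.conj g u hu, _, h.conj g v hv, hnbrconj g u v hu hv huv, by group⟩
    | one => simp
    | mul p q _ _ hp hq =>
      rw [show g * (p * q) * g⁻¹ = (g * p * g⁻¹) * (g * q * g⁻¹) by group]
      exact mul_mem hp hq
    | inv p _ hp =>
      rw [show g * p⁻¹ * g⁻¹ = (g * p * g⁻¹)⁻¹ by group]
      exact inv_mem hp
  have hexp : ∀ r ∈ R, r ^ 3 = 1 := by
    intro r hr
    induction hr using Subgroup.closure_induction with
    | mem r hr =>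
      obtain ⟨u, hu, v, hv, huv, rfl⟩ := hr
      exact cube_rot h hP hu hv huv
    | one => simp
    | mul p q hp' hq' hp hq => rw [(hcomm p hp' q hq').mul_pow, hp, hq, one_mul]
    | inv p _ hp => rw [inv_pow, hp, inv_one]
  have hmove : ∀ r ∈ R, ∀ z ∈ D, nbr D (r * z * r⁻¹) = nbr D z := by
    intro r hr
    induction hr using Subgroup.closure_induction with
    | mem r hr =>
      obtain ⟨u, hu, v, hv, huv, rfl⟩ := hr
      exact fun z hz => twin_move h hP hu hv huv hz
    | one => simp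
    | mul p q _ _ hp hq =>
      intro z hz
      rw [show p * q * z * (p * q)⁻¹ = p * (q * z * q⁻¹) * p⁻¹ by group, hp _ (h.conj q z hz), hq z hz]
    | inv p _ hp =>
      intro z hz
      have := hp (p⁻¹ * z * p⁻¹⁻¹) (h.conj _ z hz)
      rw [show p * (p⁻¹ * z * p⁻¹⁻¹) * p⁻¹ = z by group] at this
      exact this.symm
  obtain ⟨b, hb, hab⟩ : ∃ b ∈ nbr D d, a ≠ b := by
    obtain ⟨p, hp, q, hq, hpq⟩ := h.exists_two hd
    by_cases e : a = p
    · exact ⟨q, hq, e ▸ hpq⟩
    · exact ⟨p, hp, e⟩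
  obtain ⟨d₂, hd₂, hdd₂⟩ : ∃ b ∈ nbr D a, d ≠ b := by
    obtain ⟨p, hp, q, hq, hpq⟩ := h.exists_two ha.1
    by_cases e : d = p
    · exact ⟨q, hq, e ▸ hpq⟩
    · exact ⟨p, hp, e⟩
  set t := a * b with ht
  set s := d * d₂ with hs
  have htR : t ∈ R := Subgroup.subset_closure ⟨a, ha.1, b, hb.1, hP d hd a ha b hb, rfl⟩
  have htd : Commute d t := ha.2.2.mul_right hb.2.2
  have hsa : Commute a s := hda.2.2.mul_right hd₂.2.2
  have ht1 : t ≠ 1 := fun e => hab (by
    rw [ht, mul_eq_one_iff_eq_inv, h.inv hb.1] at e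
    exact e)
  have hfix : ∀ y ∈ R, Commute d y → y ∈ Subgroup.zpowers t := by
    intro y hy hyd
    set C := Subgroup.centralizer ({d} : Set G) with hC
    have hKp : IsPGroup 3 ↥(R.subgroupOf C) := by
      rintro ⟨g, hg⟩
      refine ⟨1, Subtype.ext (Subtype.ext ?_)⟩
      simpa using hexp g.1 (Subgroup.mem_subgroupOf.1 hg)
    have hle : R.subgroupOf C ≤ Cfsg.pCore 3 ↥C :=
      le_sSup ⟨Subgroup.Normal.subgroupOf hnormal C, hKp⟩
    have hcard : Nat.card ↥(R.subgroupOf C) ≤ 3 := (hcore d hd) ▸ Subgroup.card_le_of_le hle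
    have hle' : Subgroup.zpowers t ≤ R ⊓ C := Subgroup.zpowers_le.2
      ⟨htR, Subgroup.mem_centralizer_singleton_iff.2 htd.eq.symm⟩
    have ho : Nat.card (Subgroup.zpowers t) = 3 := by
      rw [Nat.card_zpowers]
      haveI : Fact (Nat.Prime 3) := ⟨Nat.prime_three⟩
      exact orderOf_eq_prime (hexp t htR) ht1
    have hcard' : Nat.card ↥(R ⊓ C) ≤ Nat.card (Subgroup.zpowers t) := by
      rw [ho]
      refine le_trans (le_of_eq ?_) hcard
      rw [← Subgroup.inf_subgroupOf_right R C]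
      exact (Nat.card_congr (Subgroup.subgroupOfEquivOfLe (inf_le_right : R ⊓ C ≤ C)).toEquiv).symm
    rw [Subgroup.eq_of_le_of_card_ge hle' hcard']
    exact ⟨hy, Subgroup.mem_centralizer_singleton_iff.2 hyd.eq.symm⟩
  set e := d * a with he
  have hdi := h.inv hd
  have hai := h.inv ha.1
  have het : e * t * e⁻¹ = t⁻¹ := by
    have e1 : a * t * a⁻¹ = t⁻¹ := by
      rw [ht, mul_inv_rev, hai, h.inv hb.1, ← mul_assoc a a, h.sq ha.1, one_mul]
    have e2 : d * t⁻¹ * d⁻¹ = t⁻¹ := by rw [htd.inv_right.eq, mul_inv_cancel_right]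
    rw [he, show d * a * t * (d * a)⁻¹ = d * (a * t * a⁻¹) * d⁻¹ by group, e1, e2]
  have hes : e * s * e⁻¹ = s⁻¹ := by
    have e1 : a * s * a⁻¹ = s := by rw [hsa.eq, mul_inv_cancel_right]
    have e2 : d * s * d⁻¹ = s⁻¹ := by
      rw [hs, mul_inv_rev, hdi, h.inv hd₂.1, ← mul_assoc d d, h.sq hd, one_mul]
    rw [he, show d * a * s * (d * a)⁻¹ = d * (a * s * a⁻¹) * d⁻¹ by group, e1, e2]
  have hinv : ∀ y ∈ R, e * y * e⁻¹ = y⁻¹ := by
    intro y hy
    have hy' : d * y * d⁻¹ ∈ R := hnormal.conj_mem y hy d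
    have h1 : y * (d * y * d⁻¹) ∈ Subgroup.zpowers t := by
      refine hfix _ (mul_mem hy hy') ?_
      show d * (y * (d * y * d⁻¹)) = y * (d * y * d⁻¹) * d
      rw [show y * (d * y * d⁻¹) = (d * y * d⁻¹) * y from (hcomm y hy _ hy').eq]
      nth_rw 1 [(hcomm _ hy' y hy).eq]
      rw [hdi]
      simp only [mul_assoc]
    have h2 : y⁻¹ * d * y * d⁻¹ ∈ Subgroup.zpowers s := by
      have hd' : y⁻¹ * d * y ∈ nbr D a := by
        have := hmove y⁻¹ (inv_mem hy) d hd
        rw [inv_inv] at this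
        have hD : y⁻¹ * d * y ∈ D := by simpa using h.conj y⁻¹ d hd
        exact nbr_symm hD (this ▸ ha)
      rw [hdi]
      exact side_product h hP ha.1 hda hd₂ hdd₂ hd' hda
    obtain ⟨i, hi⟩ := Subgroup.mem_zpowers_iff.1 h1
    obtain ⟨j, hj⟩ := Subgroup.mem_zpowers_iff.1 h2
    have hsR : s ∈ R := Subgroup.subset_closure ⟨d, hd, d₂, hd₂.1, hP a ha.1 d hda d₂ hd₂, rfl⟩
    have hsq : y ^ 2 = t ^ i * (s ^ j)⁻¹ := by rw [hi, hj, pow_two]; group
    have hinv2 : e * y ^ 2 * e⁻¹ = (y ^ 2)⁻¹ := by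
      rw [hsq, show e * (t ^ i * (s ^ j)⁻¹) * e⁻¹ = (e * t * e⁻¹) ^ i * ((e * s * e⁻¹) ^ j)⁻¹ by
        rw [← MulAut.conj_apply, ← MulAut.conj_apply, ← MulAut.conj_apply, map_mul, map_inv, map_zpow, map_zpow],
        het, hes, inv_zpow, inv_zpow, mul_inv_rev, inv_inv]
      exact ((hcomm _ (zpow_mem htR i) _ (zpow_mem hsR j)).inv_left.eq)
    have hy2 : y ^ 2 = y⁻¹ := eq_inv_of_mul_eq_one_left (by rw [← pow_succ]; exact hexp y hy)
    rw [hy2, inv_inv] at hinv2
    rw [show e * y * e⁻¹ = (e * y⁻¹ * e⁻¹)⁻¹ by group, hinv2]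
  set x' := e * x * e⁻¹ with hx'
  have hx'x : x' ∈ nbr D x := h.adj_move hd ha.1 hx ha.2.2 ha.2.1.symm ncd nca
  obtain ⟨w, hw, hxw⟩ : ∃ w ∈ nbr D x, x' ≠ w := by
    obtain ⟨p, hp, q, hq, hpq⟩ := h.exists_two hx
    by_cases e : x' = p
    · exact ⟨q, hq, e ▸ hpq⟩
    · exact ⟨p, hp, e⟩
  set u := x' * w with hu
  have huR : u ∈ R := Subgroup.subset_closure ⟨x', hx'x.1, w, hw.1, hP x hx x' hx'x w hw, rfl⟩
  have hu1 : u ≠ 1 := fun e' => hxw (by
    rw [hu, mul_eq_one_iff_eq_inv, h.inv hw.1] at e'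
    exact e')
  have hee : e * e = 1 := by
    rw [he, show d * a * (d * a) = d * (a * d) * a by group, ← ha.2.2.eq, ← mul_assoc d d, h.sq hd,
      one_mul, h.sq ha.1]
  have hux : e * u * e⁻¹ = x * (e * w * e⁻¹) := by
    rw [hu, show e * (x' * w) * e⁻¹ = (e * x' * e⁻¹) * (e * w * e⁻¹) by group, hx',
      show e * (e * x * e⁻¹) * e⁻¹ = (e * e) * x * (e * e)⁻¹ by group, hee]
    simp
  rw [hinv u huR] at hux
  set w' := e * w * e⁻¹ with hw'
  have hw'D : w' ∈ D := h.conj _ _ hw.1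
  have hcu : Commute x u⁻¹ := (hx'x.2.2.mul_right hw.2.2).inv_right
  have h2 : u⁻¹ = u := by
    calc u⁻¹ = x⁻¹ * (u⁻¹ * x) := by rw [← hcu.eq, inv_mul_cancel_left]
      _ = x⁻¹ * (x * w' * x) := by rw [hux]
      _ = w' * x := by rw [mul_assoc x, inv_mul_cancel_left]
      _ = (x * w')⁻¹ := by rw [mul_inv_rev, h.inv hw'D, h.inv hx]
      _ = u := by rw [← hux, inv_inv]
  apply hu1
  have h3 := hexp u huR
  rw [pow_succ, pow_two] at h3
  nth_rw 1 [← h2] at h3
  rwa [inv_mul_cancel, one_mul] at h3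

end Bipartite

theorem case_square [Finite G] (h : Cubic D)
    (hcore : ∀ d ∈ D, Nat.card (Cfsg.pCore 3 ↥(Subgroup.centralizer ({d} : Set G))) = 3)
    (hne : D.Nonempty) (hP : ∀ d ∈ D, ∀ a ∈ nbr D d, ∀ b ∈ nbr D d, nbr D a = nbr D b) :
    Nonempty (↥(Subgroup.closure D) ≃* Equiv.Perm (Fin 3) × Equiv.Perm (Fin 3)) := by
  obtain ⟨d, hd⟩ := hne
  obtain ⟨a, ha, -⟩ := h.exists_two hd
  have hda : d ∈ nbr D a := nbr_symm hd ha
  set A := Subgroup.closure (nbr D a) with hA
  set B := Subgroup.closure (nbr D d) with hB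
  have hgen : ∀ p ∈ nbr D a, ∀ q ∈ nbr D d, Commute p q := by
    intro p hp q hq
    have := hP a ha.1 d hda p hp
    exact (this ▸ hq : q ∈ nbr D p).2.2
  have hAB : ∀ (p : A) (q : B), Commute (A.subtype p) (B.subtype q) := by
    have h1 : A ≤ Subgroup.centralizer (nbr D d) := (Subgroup.closure_le _).2 fun p hp =>
      Subgroup.mem_centralizer_iff.2 fun q hq => ((hgen p hp q hq).eq).symm
    rw [← Subgroup.centralizer_closure] at h1
    intro p q
    exact (Subgroup.mem_centralizer_iff.1 (h1 p.2) q q.2).symm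
  let F := MonoidHom.noncommCoprod A.subtype B.subtype hAB
  obtain ⟨eA⟩ := h.loc a ha.1
  obtain ⟨eB⟩ := h.loc d hd
  have hinj : Function.Injective F := by
    rw [injective_iff_map_eq_one]
    rintro ⟨p, q⟩ hpq
    simp only [F, MonoidHom.noncommCoprod_apply, Subgroup.coe_subtype] at hpq
    have hp : (p : G) = (q : G)⁻¹ := mul_eq_one_iff_eq_inv.1 hpq
    have hc : ∀ r : A, p * r = r * p := by
      intro r
      apply Subtype.ext
      show (p : G) * r = r * p
      rw [hp]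
      exact ((hAB r q).inv_right.eq).symm
    have h1 : eA p = 1 := s3_facts.2 _ fun τ => by
      have := congrArg eA (hc (eA.symm τ))
      simpa using this
    have hp1 : p = 1 := (map_eq_one_iff eA eA.injective).1 h1
    subst hp1
    simp only [OneMemClass.coe_one, one_mul] at hpq
    simp [Subtype.ext_iff, hpq]
  have hrange : Subgroup.closure D = F.range := by
    refine le_antisymm ((Subgroup.closure_le _).2 fun y hy => ?_) ?_
    · rcases one_component h hP hcore hd ha hy with hy' | hy'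
      · exact ⟨(⟨y, Subgroup.subset_closure hy'⟩, 1), by simp [F]⟩
      · exact ⟨(1, ⟨y, Subgroup.subset_closure hy'⟩), by simp [F]⟩
    · rintro _ ⟨⟨p, q⟩, rfl⟩
      exact mul_mem (Subgroup.closure_mono (fun _ hz => hz.1) p.2)
        (Subgroup.closure_mono (fun _ hz => hz.1) q.2)
  exact ⟨((MulEquiv.subgroupCongr hrange).trans (MonoidHom.ofInjective hinj).symm).trans
    (eA.prodCongr eB)⟩

theorem main [Finite G] (h : Cubic D)
    (hcore : ∀ d ∈ D, Nat.card (Cfsg.pCore 3 ↥(Subgroup.centralizer ({d} : Set G))) = 3)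
    (hne : D.Nonempty) :
    Nonempty (↥(Subgroup.closure D) ≃* Equiv.Perm (Fin 5)) ∨
      Nonempty (↥(Subgroup.closure D) ≃* Equiv.Perm (Fin 3) × Equiv.Perm (Fin 3)) := by
  by_cases hP : ∀ d ∈ D, ∀ a ∈ nbr D d, ∀ b ∈ nbr D d, nbr D a = nbr D b
  · exact Or.inr (case_square h hcore hne hP)
  · push Not at hP
    obtain ⟨d, hd, a, ha, b, hb, hab⟩ := hP
    left
    have hne' : a ≠ b := fun e => hab (e ▸ rfl)
    obtain ⟨y, hy | hy⟩ := Set.symmDiff_nonempty.2 hab
    · exact case_five h hd ha hb hne' hy.1 hy.2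
    · exact case_five h hd hb ha hne'.symm hy.1 hy.2

end Cfsg.Agent.Classical.ThreeTransCubic
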