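/-
Overgroups of the monomial elements of a special unitary group: pairs of pseudo-reflections.
-/
import Cfsg.Agent.Lib.Classical.UFrameField
import Cfsg.Agent.Lib.Classical.UnitaryGroup
import Cfsg.Agent.Lib.Classical.LinMonomialOver

set_option autoImplicit false
set_option linter.unusedSectionVars false

namespace Cfsg.Agent.Classical.UFrame

open Matrix Cfsg.Geo
open Cfsg.Agent.Classical
open Cfsg.Agent.Classical.LMon (IsMon)

universe u

variable {n q : ℕ} {F : Type u} [Field F] [Fintype F] {σ : F ≃+* F}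

local notation "φ" => hermForm n F q
local notation "Gl" => GL (Fin n) F
local notation "Vn" => Fin n → F
local notation:max g:max " ⬝ₘ " x:max => ((g : Gl) : Matrix (Fin n) (Fin n) F) *ᵥ x

/-- The setting. -/
structure Data (q : ℕ) (σ : F ≃+* F) (K : Subgroup (GL (Fin n) F)) : Prop where
  sig : IsUSigma q σ
  npos : 4 ≤ n
  le : K ≤ suGL n F q
  mon : ∀ g : GL (Fin n) F, g ∈ suGL n F q → IsMon (g : Matrix (Fin n) (Fin n) F) → g ∈ K

/-- A pair of pseudo-reflections, the second along a coordinate. -/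
def HasH (q : ℕ) (σ : F ≃+* F) (K : Subgroup (GL (Fin n) F)) (r : Fin n → F) (o : Fin n) (ζ : F) : Prop :=
  ∃ g ∈ K, ∀ x : Fin n → F, (g : Matrix (Fin n) (Fin n) F) *ᵥ x =
    x + ((ζ - 1) * hermForm n F q x r) • r + Pi.single o ((σ ζ - 1) * x o)

/-- The good unit vectors. -/
def Good (q : ℕ) (σ : F ≃+* F) (K : Subgroup (GL (Fin n) F)) (r : Fin n → F) : Prop :=
  hermForm n F q r r = 1 ∧ (∃ o, r o = 0) ∧ ∀ o, r o = 0 → ∀ ζ, ζ * σ ζ = 1 → HasH q σ K r o ζ

/-- The coordinate lines off `Z` are fixed. -/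
def Fixes (Z : Finset (Fin n)) (g : GL (Fin n) F) : Prop :=
  ∀ j ∉ Z, ∃ c, (g : Matrix (Fin n) (Fin n) F) *ᵥ Pi.single j 1 = Pi.single j c

/-- The support of a vector. -/
noncomputable def supp (v : Fin n → F) : Finset (Fin n) := by
  classical exact Finset.univ.filter fun p => v p ≠ 0

theorem mem_supp {v : Vn} {p : Fin n} : p ∈ supp v ↔ v p ≠ 0 := by classical simp [supp]

theorem notMem_supp {v : Vn} {p : Fin n} : p ∉ supp v ↔ v p = 0 := by classical simp [supp]

theorem exists_notMem {s : Finset (Fin n)} (h : s.card < n) : ∃ k, k ∉ s := by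
  obtain ⟨k, -, hk⟩ := Finset.exists_mem_notMem_of_card_lt_card (s := s) (t := Finset.univ) (by simpa using h)
  exact ⟨k, hk⟩

theorem single_smul' (p : Fin n) (c : F) : (Pi.single p c : Vn) = c • Pi.single p 1 := by
  rw [← Pi.single_smul, smul_eq_mul, mul_one]

theorem Fixes.single {Z : Finset (Fin n)} {g : Gl} (h : Fixes Z g) {j : Fin n} (hj : j ∉ Z) (a : F) :
    ∃ c, g ⬝ₘ (Pi.single j a) = Pi.single j c := by
  obtain ⟨c, hc⟩ := h j hj
  exact ⟨a * c, by rw [single_smul', mulVec_smul, hc, ← Pi.single_smul, smul_eq_mul]⟩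

theorem Fixes.mul {Z : Finset (Fin n)} {g h : Gl} (hg : Fixes Z g) (hh : Fixes Z h) : Fixes Z (g * h) := fun j hj => by
  obtain ⟨c, hc⟩ := hh j hj
  obtain ⟨d, hd⟩ := hg.single hj c
  exact ⟨d, by rw [gl_mul_mulVec, hc, hd]⟩

theorem Fixes.inv {Z : Finset (Fin n)} {g : Gl} (hg : Fixes Z g) : Fixes Z g⁻¹ := fun j hj => by
  obtain ⟨c, hc⟩ := hg j hj
  have hc0 : c ≠ 0 := by
    intro h
    rw [h, Pi.single_zero, ← mulVec_zero (g : Matrix (Fin n) (Fin n) F)] at hc
    simpa using congrFun (gl_mulVec_injective g hc) j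
  refine ⟨c⁻¹, gl_mulVec_injective g ?_⟩
  dsimp only
  rw [gl_mulVec_inv_cancel, single_smul' j c⁻¹, mulVec_smul, hc, ← Pi.single_smul, smul_eq_mul, inv_mul_cancel₀ hc0]

theorem Fixes.mono {Z Z' : Finset (Fin n)} {g : Gl} (hg : Fixes Z g) (h : Z ⊆ Z') : Fixes Z' g :=
  fun j hj => hg j fun hj' => hj (h hj')

theorem not_isMon {g : Gl} {j a b : Fin n} (hab : a ≠ b) (ha : (g ⬝ₘ (Pi.single j 1)) a ≠ 0)
    (hb : (g ⬝ₘ (Pi.single j 1)) b ≠ 0) : ¬ IsMon (g : Matrix (Fin n) (Fin n) F) := fun hm => by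
  obtain ⟨p, hp⟩ := hm j
  rw [mulVec_single_one, col_apply] at ha hb
  exact hab ((by_contra fun h => ha (hp a h) : a = p).trans (by_contra fun h => hb (hp b h) : b = p).symm)

variable {K : Subgroup (GL (Fin n) F)} (D : Data q σ K)

include D

theorem herm_sum (u v : Vn) : φ u v = ∑ i, u i * σ (v i) := D.sig.hermForm_eq u v

theorem semi : IsSemiForm σ φ := semiForm_of_unitary (D.sig.isUnitaryForm (n := n))

theorem herm_swap (x y : Vn) : σ (φ x y) = φ y x := ((D.sig.isUnitaryForm (n := n)).herm y x).symm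

theorem herm_coord (x : Vn) (p : Fin n) (c : F) : φ x (Pi.single p c) = x p * σ c := by
  rw [herm_sum D, Finset.sum_eq_single p (fun k _ hk => by simp [hk]) (by simp), Pi.single_eq_same]

theorem single_herm (x : Vn) (p : Fin n) (c : F) : φ (Pi.single p c) x = c * σ (x p) := D.sig.hermForm_single p c x

theorem iso {g : Gl} (hg : g ∈ K) (x y : Vn) : φ (g ⬝ₘ x) (g ⬝ₘ y) = φ x y := mem_GU_iff.mp (D.le hg).1 x y

theorem inv_entry {g : Gl} (hg : g ∈ K) (k p : Fin n) :
    (((g⁻¹ : Gl)) ⬝ₘ (Pi.single k 1)) p = σ ((g ⬝ₘ (Pi.single p 1)) k) := by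
  have h := iso D hg (((g⁻¹ : Gl)) ⬝ₘ (Pi.single k 1)) (Pi.single p 1)
  rw [gl_mulVec_inv_cancel, herm_coord D, map_one, mul_one, single_herm D, one_mul] at h
  exact h.symm

theorem zero_of_fixes {Z : Finset (Fin n)} {g : Gl} (hg : g ∈ suGL n F q) (hf : Fixes Z g) {v : Vn}
    (hv : ∀ j ∉ Z, v j = 0) {j : Fin n} (hj : j ∉ Z) : (g ⬝ₘ v) j = 0 := by
  obtain ⟨c, hc⟩ := hf j hj
  have hc0 : c ≠ 0 := by
    intro h
    rw [h, Pi.single_zero, ← mulVec_zero (g : Matrix (Fin n) (Fin n) F)] at hc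
    simpa using congrFun (gl_mulVec_injective g hc) j
  have h := mem_GU_iff.mp hg.1 v (Pi.single j 1)
  rw [hc, herm_coord D, herm_coord D, hv j hj, zero_mul] at h
  exact (mul_eq_zero.mp h).resolve_right ((map_ne_zero σ).mpr hc0)

/-- Monomial elements. -/
theorem exists_mon (π : Equiv.Perm (Fin n)) (a : Fin n → F) (ha : ∀ i, a i * σ (a i) = 1)
    (hd : ((Equiv.Perm.sign π : ℤˣ) : ℤ) * ∏ i, a i = (1 : F)) :
    ∃ m ∈ K, ∀ (v : Vn) (i : Fin n), (m ⬝ₘ v) (π i) = a i * v i := by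
  classical
  obtain ⟨M, hM⟩ : ∃ M : Matrix (Fin n) (Fin n) F, M = (π⁻¹).permMatrix F * diagonal a := ⟨_, rfl⟩
  have hdet : M.det = 1 := by
    rw [hM, det_mul, det_permutation, det_diagonal, Equiv.Perm.sign_inv]
    exact hd
  obtain ⟨m, hm⟩ : ∃ m : Gl, (m : Matrix (Fin n) (Fin n) F) = M :=
    ⟨GeneralLinearGroup.mkOfDetNeZero M (by rw [hdet]; exact one_ne_zero), rfl⟩
  have happ : ∀ (v : Vn) i, (m ⬝ₘ v) (π i) = a i * v i := fun v i => by
    rw [hm, hM, ← mulVec_mulVec, show (π⁻¹).permMatrix F = (π.symm.toPEquiv.toMatrix : Matrix (Fin n) (Fin n) F) from rfl,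
      PEquiv.toMatrix_toPEquiv_mulVec, Function.comp_apply, Equiv.symm_apply_apply, mulVec_diagonal]
  refine ⟨m, D.mon m ⟨mem_GU_iff.mpr fun x y => ?_, mem_specialLinear_iff.mpr (by rw [hm, hdet])⟩ (fun j => ⟨π j, fun i hi => ?_⟩), happ⟩
  · rw [herm_sum D, herm_sum D, ← Equiv.sum_comp π]
    refine Finset.sum_congr rfl fun i _ => ?_
    rw [happ, happ, map_mul]
    linear_combination (x i * σ (y i)) * ha i
  · obtain ⟨i, rfl⟩ := π.surjective i
    rw [← col_apply (A := (m : Matrix (Fin n) (Fin n) F)) j (π i), ← mulVec_single_one, happ,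
      Pi.single_eq_of_ne (fun e => hi (by rw [e])), mul_zero]

/-- Diagonal elements. -/
theorem exists_tor (θ : Fin n → F) (hθ : ∀ i, θ i * σ (θ i) = 1) (hp : ∏ i, θ i = 1) :
    ∃ t ∈ K, ∀ (v : Vn) i, (t ⬝ₘ v) i = θ i * v i := by
  obtain ⟨m, hm, h⟩ := exists_mon D 1 θ hθ (by simp [hp])
  exact ⟨m, hm, fun v i => by simpa using h v i⟩

/-- Diagonal elements with one free place. -/
theorem exists_tor' (θ : Fin n → F) (hθ : ∀ i, θ i * σ (θ i) = 1) (o : Fin n) :
    ∃ t ∈ K, ∃ c, c * σ c = 1 ∧ ∀ (v : Vn) i, (t ⬝ₘ v) i = (if i = o then c else θ i) * v i := by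
  classical
  obtain ⟨c, hc⟩ : ∃ c, c = (∏ i ∈ Finset.univ.erase o, θ i)⁻¹ := ⟨_, rfl⟩
  have hcn : c * σ c = 1 := by
    rw [hc, map_inv₀, ← mul_inv, map_prod, ← Finset.prod_mul_distrib, Finset.prod_eq_one (fun i _ => hθ i), inv_one]
  obtain ⟨t, ht, h⟩ := exists_tor D (fun i => if i = o then c else θ i)
    (fun i => by split_ifs; exacts [hcn, hθ i]) (by
      rw [← Finset.mul_prod_erase _ _ (Finset.mem_univ o), if_pos rfl,
        Finset.prod_congr rfl (fun i hi => if_neg (Finset.ne_of_mem_erase hi)), hc, inv_mul_cancel₀]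
      exact Finset.prod_ne_zero_iff.mpr fun i _ => left_ne_zero_of_mul_eq_one (hθ i))
  exact ⟨t, ht, c, hcn, h⟩

/-- Swapping two coordinates. -/
theorem exists_swap {a b : Fin n} (h : a ≠ b) : ∃ m ∈ K, Fixes {a, b} m ∧
    (∃ c, c ≠ 0 ∧ m ⬝ₘ (Pi.single a 1) = Pi.single b c) ∧ ∀ (v : Vn) i, (m ⬝ₘ v) i = 0 ↔ v (Equiv.swap a b i) = 0 := by
  classical
  obtain ⟨m, hm, hv⟩ := exists_mon D (Equiv.swap a b) (fun i => if i = a then -1 else 1)
    (fun i => by split_ifs <;> simp) (by simp [Equiv.Perm.sign_swap h, Finset.prod_ite_eq'])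
  refine ⟨m, hm, fun j hj => ⟨1, ?_⟩, ⟨-1, by simp, ?_⟩, fun v i => ?_⟩
  · simp only [Finset.mem_insert, Finset.mem_singleton, not_or] at hj
    funext i
    obtain ⟨i, rfl⟩ := (Equiv.swap a b).surjective i
    rw [hv]
    by_cases hi : i = j
    · subst hi
      rw [Equiv.swap_apply_of_ne_of_ne hj.1 hj.2, if_neg hj.1, Pi.single_eq_same, one_mul]
    · rw [Pi.single_eq_of_ne hi, mul_zero, Pi.single_eq_of_ne]
      intro e
      exact hi ((Equiv.swap a b).injective (e.trans (Equiv.swap_apply_of_ne_of_ne hj.1 hj.2).symm))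
  · funext i
    obtain ⟨i, rfl⟩ := (Equiv.swap a b).surjective i
    rw [hv]
    by_cases hi : i = a
    · subst hi; simp
    · rw [Pi.single_eq_of_ne hi, mul_zero, Pi.single_eq_of_ne]
      intro e
      exact hi ((Equiv.swap a b).injective (e.trans (Equiv.swap_apply_left a b).symm))
  · obtain ⟨i, rfl⟩ := (Equiv.swap a b).surjective i
    rw [hv, Equiv.swap_apply_self]
    split_ifs <;> simp

theorem hasH_apply_orth {r : Vn} {o : Fin n} {ζ : F} {g : Gl} (hg : ∀ x, g ⬝ₘ x =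
    x + ((ζ - 1) * φ x r) • r + Pi.single o ((σ ζ - 1) * x o)) {x : Vn} (h : φ x r = 0) (ho : x o = 0) :
    g ⬝ₘ x = x := by
  rw [hg, h, ho, mul_zero, mul_zero, zero_smul, Pi.single_zero, add_zero, add_zero]

theorem hasH_fixes {r : Vn} {o : Fin n} {ζ : F} (hro : r o = 0) {g : Gl} (hg : ∀ x, g ⬝ₘ x =
    x + ((ζ - 1) * φ x r) • r + Pi.single o ((σ ζ - 1) * x o)) : Fixes (supp r) g := fun j hj => by
  rw [notMem_supp] at hj
  refine ⟨if j = o then σ ζ else 1, ?_⟩
  rw [hg, single_herm D, hj, map_zero, mul_zero, mul_zero, zero_smul, add_zero]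
  split_ifs with h
  · subst h
    rw [Pi.single_eq_same, mul_one, ← Pi.single_add, add_sub_cancel]
  · rw [Pi.single_eq_of_ne (Ne.symm h), mul_zero, Pi.single_zero, add_zero]

/-- A good vector from one place. -/
theorem good_of {r : Vn} (h1 : φ r r = 1) {o₀ : Fin n} (ho : r o₀ = 0)
    (h : ∀ ζ, ζ * σ ζ = 1 → HasH q σ K r o₀ ζ) : Good q σ K r := by
  classical
  refine ⟨h1, ⟨o₀, ho⟩, fun o hro ζ hζ => ?_⟩
  by_cases hoo : o = o₀
  · subst hoo; exact h ζ hζ
  obtain ⟨g, hgK, hg⟩ := h ζ hζ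
  have hσζ : σ ζ * σ (σ ζ) = 1 := by rw [← map_mul, hζ, map_one]
  obtain ⟨t, ht, hv⟩ := exists_tor D (fun i => if i = o₀ then ζ else if i = o then σ ζ else 1)
    (fun i => by
      split_ifs
      exacts [hζ, hσζ, by rw [map_one, one_mul]]) (by
      rw [← Finset.prod_subset (Finset.subset_univ {o₀, o}) (fun i _ hi => by
        simp only [Finset.mem_insert, Finset.mem_singleton, not_or] at hi
        simp [hi.1, hi.2]), Finset.prod_pair (Ne.symm hoo)]
      simp [hoo, hζ])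
  refine ⟨g * t, mul_mem hgK ht, fun x => ?_⟩
  rw [gl_mul_mulVec, hg]
  have hphi : φ (t ⬝ₘ x) r = φ x r := by
    rw [herm_sum D, herm_sum D]
    refine Finset.sum_congr rfl fun i _ => ?_
    rw [hv]
    split_ifs with h1 h2
    · rw [h1, ho, map_zero, mul_zero, mul_zero]
    · rw [h2, hro, map_zero, mul_zero, mul_zero]
    · rw [one_mul]
  rw [hphi, hv x o₀, if_pos rfl]
  funext i
  simp only [Pi.add_apply, Pi.smul_apply, smul_eq_mul, hv, Pi.single_apply]
  by_cases h1 : i = o₀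
  · subst h1
    simp only [if_true, if_neg (Ne.symm hoo)]
    linear_combination (x i) * hζ
  · by_cases h2 : i = o
    · subst h2; simp only [if_neg h1, if_true]; ring
    · simp only [if_neg h1, if_neg h2]; ring

theorem good_axis (b : Fin n) {c : F} (hc : c * σ c = 1) : Good q σ K (Pi.single b c) := by
  classical
  have hn := D.npos
  obtain ⟨o, ho⟩ := exists_notMem (s := {b}) (by rw [Finset.card_singleton]; omega)
  rw [Finset.mem_singleton] at ho
  refine good_of D (by rw [single_herm D, Pi.single_eq_same, hc]) (o₀ := o) (by simp [ho]) fun ζ hζ => ?_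
  obtain ⟨t, ht, hv⟩ := exists_tor D (fun i => if i = b then ζ else if i = o then σ ζ else 1)
    (fun i => by
      split_ifs
      exacts [hζ, by rw [← map_mul, hζ, map_one], by rw [map_one, one_mul]]) (by
      rw [← Finset.prod_subset (Finset.subset_univ {b, o}) (fun i _ hi => by
        simp only [Finset.mem_insert, Finset.mem_singleton, not_or] at hi
        simp [hi.1, hi.2]), Finset.prod_pair (Ne.symm ho)]
      simp [ho, hζ])
  refine ⟨t, ht, fun x => ?_⟩
  funext i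
  simp only [Pi.add_apply, Pi.smul_apply, smul_eq_mul, hv, Pi.single_apply, herm_coord D]
  by_cases h1 : i = b
  · subst h1
    simp only [if_true, if_neg (Ne.symm ho)]
    linear_combination (-(ζ - 1) * x i) * hc
  · by_cases h2 : i = o
    · subst h2; simp only [if_neg h1, if_true]; ring
    · simp only [if_neg h1, if_neg h2]; ring

/-- Images. -/
theorem good_conj {r : Vn} (hr : Good q σ K r) {k : Gl} (hk : k ∈ K) {o o' : Fin n} (ho : r o = 0) {c : F}
    (hko : k ⬝ₘ (Pi.single o 1) = Pi.single o' c) : Good q σ K (k ⬝ₘ r) := by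
  have hcn : c * σ c = 1 := by
    have := iso D hk (Pi.single o 1) (Pi.single o 1)
    rwa [hko, single_herm D, single_herm D, Pi.single_eq_same, Pi.single_eq_same, map_one, one_mul] at this
  have hzero : (k ⬝ₘ r) o' = 0 := by
    have := iso D hk r (Pi.single o 1)
    rw [hko, herm_coord D, herm_coord D, ho, zero_mul] at this
    exact (mul_eq_zero.mp this).resolve_right ((map_ne_zero σ).mpr (left_ne_zero_of_mul_eq_one hcn))
  refine good_of D (by rw [iso D hk]; exact hr.1) hzero fun ζ hζ => ?_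
  obtain ⟨g, hgK, hg⟩ := hr.2.2 o ho ζ hζ
  refine ⟨k * g * k⁻¹, mul_mem (mul_mem hk hgK) (inv_mem hk), fun x => ?_⟩
  have h1 : φ (((k⁻¹ : Gl)) ⬝ₘ x) r = φ x (k ⬝ₘ r) := by
    rw [← iso D hk (((k⁻¹ : Gl)) ⬝ₘ x) r, gl_mulVec_inv_cancel]
  have h2 : (((k⁻¹ : Gl)) ⬝ₘ x) o = x o' * σ c := by
    have := iso D hk (((k⁻¹ : Gl)) ⬝ₘ x) (Pi.single o 1)
    rw [gl_mulVec_inv_cancel, hko, herm_coord D, herm_coord D, map_one, mul_one] at this
    exact this.symm
  rw [gl_mul_mulVec, gl_mul_mulVec, hg, h1, h2, mulVec_add, mulVec_add, gl_mulVec_inv_cancel, mulVec_smul,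
    single_smul' o, mulVec_smul, hko, ← Pi.single_smul, smul_eq_mul]
  congr 2
  linear_combination ((σ ζ - 1) * x o') * hcn

/-- Phases may be changed. -/
theorem good_phase {r : Vn} (hr : Good q σ K r) (θ : Fin n → F) (hθ : ∀ i, θ i * σ (θ i) = 1) :
    Good q σ K fun i => θ i * r i := by
  classical
  obtain ⟨o, ho⟩ := hr.2.1
  obtain ⟨t, ht, c, -, hv⟩ := exists_tor' D θ hθ o
  convert good_conj D hr ht ho (o' := o) (c := c) ?_ using 1
  · funext i
    rw [hv]
    split_ifs with h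
    · subst h; rw [ho, mul_zero, mul_zero]
    · rfl
  · funext i
    rw [hv]
    by_cases h : i = o
    · subst h; simp
    · simp [h]

/-- Coordinates may be permuted. -/
theorem good_perm {r : Vn} (hr : Good q σ K r) (π : Equiv.Perm (Fin n)) : Good q σ K fun i => r (π.symm i) := by
  classical
  obtain ⟨o, ho⟩ := hr.2.1
  obtain ⟨s, hs⟩ : ∃ s : F, s = ((Equiv.Perm.sign π : ℤˣ) : ℤ) := ⟨_, rfl⟩
  have hss : s * s = 1 := by
    rw [hs]; rcases Int.units_eq_one_or (Equiv.Perm.sign π) with h | h <;> simp [h]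
  have hsn : s * σ s = 1 := by rw [hs, map_intCast]; rw [← hs]; exact hss
  obtain ⟨m, hm, hv⟩ := exists_mon D π (fun i => if i = o then s else 1)
    (fun i => by split_ifs; exacts [hsn, by rw [map_one, one_mul]])
    (by rw [Finset.prod_ite_eq' Finset.univ o fun _ => s, if_pos (Finset.mem_univ o), ← hs]; exact hss)
  convert good_conj D hr hm ho (o' := π o) (c := s) ?_ using 1
  · funext i
    obtain ⟨i, rfl⟩ := π.surjective i
    rw [hv, Equiv.symm_apply_apply]
    split_ifs with h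
    · subst h; rw [ho, mul_zero]
    · rw [one_mul]
  · funext i
    obtain ⟨i, rfl⟩ := π.surjective i
    rw [hv]
    by_cases h : i = o
    · subst h; simp
    · simp [h]

/-- The image of one good vector under the element of another. -/
theorem good_move {r v : Vn} (hr : Good q σ K r) (hv : Good q σ K v) {o : Fin n} (hro : r o = 0) (hvo : v o = 0)
    {ζ : F} (hζ : ζ * σ ζ = 1) : Good q σ K (v + ((ζ - 1) * φ v r) • r) := by
  obtain ⟨g, hgK, hg⟩ := hr.2.2 o hro ζ hζ
  have h := good_conj D hv hgK hvo (o' := o) (c := σ ζ) (by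
    rw [hg, single_herm D, hro, map_zero, mul_zero, mul_zero, zero_smul, add_zero, Pi.single_eq_same, mul_one,
      ← Pi.single_add, add_sub_cancel])
  rwa [hg, hvo, mul_zero, Pi.single_zero, add_zero] at h

end Cfsg.Agent.Classical.UFrame
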