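/-
One good vector off the axes gives the whole special unitary group.
-/
import Cfsg.Agent.Lib.Classical.UFrameBase

set_option autoImplicit false
set_option linter.unusedSectionVars false

namespace Cfsg.Agent.Classical.UFrame

open Matrix Cfsg.Geo
open Cfsg.Agent.Classical
open Cfsg.Agent.Classical.LMon (IsMon)

universe u

variable {n q : ℕ} {F : Type u} [Field F] [Fintype F] {σ : F ≃+* F}

local notation "φ" => hermForm n F q
local notation "Gl" => GL (Fin n) F
local notation "Vn" => Fin n → F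
local notation:max g:max " ⬝ₘ " x:max => ((g : Gl) : Matrix (Fin n) (Fin n) F) *ᵥ x

/-- Every unit vector with this support is the image of an axis. -/
def Reaches (q : ℕ) (K : Subgroup (GL (Fin n) F)) (S : Finset (Fin n)) (a : Fin n) : Prop :=
  ∀ u : Fin n → F, hermForm n F q u u = 1 → supp u = S →
    ∃ k ∈ K, Fixes S k ∧ (k : Matrix (Fin n) (Fin n) F) *ᵥ Pi.single a 1 = u

theorem supp_eq {v : Vn} {S : Finset (Fin n)} (h : ∀ p, v p ≠ 0 ↔ p ∈ S) : supp v = S := by
  ext p; rw [mem_supp, h]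

variable {K : Subgroup (GL (Fin n) F)} (D : Data q σ K)

include D

theorem sum_supp (v : Vn) : ∑ p ∈ supp v, v p * σ (v p) = φ v v := by
  rw [herm_sum D]
  refine Finset.sum_subset (Finset.subset_univ _) fun p _ hp => ?_
  rw [notMem_supp.mp hp, zero_mul]

theorem card_supp_lt {r : Vn} (hr : Good q σ K r) : (supp r).card < n := by
  obtain ⟨o, ho⟩ := hr.2.1
  have := Finset.card_lt_univ_of_notMem (s := supp r) (notMem_supp.mpr ho)
  rwa [Fintype.card_fin] at this

theorem exists_eta (hq : q ≠ 2) (T : F) : ∃ η : F, η * σ η = 1 ∧ η ≠ 1 ∧ η + σ η ≠ T := by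
  classical
  have hq2 := D.sig.two_le
  obtain ⟨η, hη, hη1⟩ := exists_mu_out D.sig (s := {1}) (by rw [Finset.card_singleton]; omega)
  rw [Finset.mem_singleton] at hη1
  by_cases hT : η + σ η = T
  swap
  · exact ⟨η, mem_muF.mp hη, hη1, hT⟩
  obtain ⟨η', hη', h'⟩ := exists_mu_out D.sig (s := {1, η, η⁻¹}) (lt_of_le_of_lt Finset.card_le_three (by omega))
  simp only [Finset.mem_insert, Finset.mem_singleton, not_or] at h'
  refine ⟨η', mem_muF.mp hη', h'.1, fun e => ?_⟩
  have hn := mem_muF.mp hη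
  have hn' := mem_muF.mp hη'
  have : (η' - η) * (η' * η - 1) = 0 := by
    linear_combination (η * η') * (e - hT) - η * hn' + η' * hn
  rcases mul_eq_zero.mp this with h | h
  · exact h'.2.1 (sub_eq_zero.mp h)
  · exact h'.2.2 (eq_inv_of_mul_eq_one_left (sub_eq_zero.mp h))

theorem exists_phase {v w : Vn} (h : ∀ p, v p * σ (v p) = w p * σ (w p)) :
    ∃ θ : Fin n → F, (∀ p, θ p * σ (θ p) = 1) ∧ ∀ p, θ p * w p = v p := by
  classical
  refine ⟨fun p => if w p = 0 then 1 else v p / w p, fun p => ?_, fun p => ?_⟩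
  · dsimp only
    split_ifs with hw
    · rw [map_one, one_mul]
    · rw [map_div₀, div_mul_div_comm, h, div_self (mul_ne_zero hw ((map_ne_zero σ).mpr hw))]
  · dsimp only
    split_ifs with hw
    · have := h p
      rw [hw, zero_mul] at this
      rcases mul_eq_zero.mp this with h0 | h0
      · rw [h0, hw, mul_zero]
      · rw [(map_eq_zero σ).mp h0, hw, mul_zero]
    · rw [div_mul_cancel₀ _ hw]

theorem tor_fixes {t : Gl} {θ : Fin n → F} (h : ∀ (v : Vn) i, (t ⬝ₘ v) i = θ i * v i) (Z : Finset (Fin n)) :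
    Fixes Z t := fun j _ => ⟨θ j, funext fun i => by
  rw [h]
  by_cases hi : i = j
  · subst hi; simp
  · simp [hi]⟩

/-- The difference with a good vector at trace distance one is good. -/
theorem good_drop {r v : Vn} (hr : Good q σ K r) (hv : Good q σ K v) {o : Fin n} (hro : r o = 0) (hvo : v o = 0)
    (h : φ v r + σ (φ v r) = 1) : Good q σ K (v - r) := by
  obtain ⟨S, hS⟩ : ∃ S, S = φ v r := ⟨_, rfl⟩
  rw [← hS] at h
  have hS0 : S ≠ 0 := fun e => by rw [e, map_zero, add_zero] at h; exact zero_ne_one h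
  obtain ⟨ζ, hζ⟩ : ∃ ζ, ζ = 1 - S⁻¹ := ⟨_, rfl⟩
  have hζn : ζ * σ ζ = 1 := by
    rw [hζ, map_sub, map_one, map_inv₀]
    have := (map_ne_zero σ).mpr hS0
    field_simp
    linear_combination -h
  convert good_move D hr hv hro hvo hζn using 1
  rw [← hS, hζ, show (1 - S⁻¹ - 1) * S = -1 by field_simp; ring, neg_one_smul, sub_eq_add_neg]

/-- Good vectors of small support. -/
theorem descend_big (hq : q ≠ 2) {r : Vn} (hr : Good q σ K r) (h4 : 4 ≤ (supp r).card) :
    ∃ w, Good q σ K w ∧ 2 ≤ (supp w).card ∧ (supp w).card ≤ 3 := by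
  classical
  obtain ⟨s, hs, hs4⟩ := Finset.exists_subset_card_eq h4
  obtain ⟨m, a, b, c, hma, hmb, hmc, hab, hac, hbc, hse⟩ := Finset.card_eq_four.mp hs4
  subst hse
  have hmem : ∀ p ∈ ({m, a, b, c} : Finset (Fin n)), r p ≠ 0 := fun p hp => mem_supp.mp (hs hp)
  obtain ⟨x, hx⟩ : ∃ x : Fin n → F, x = fun p => r p * σ (r p) := ⟨_, rfl⟩
  have hxf : ∀ p, σ (x p) = x p := fun p => by rw [hx]; exact norm_fix D.sig _
  have hx0 : ∀ p ∈ ({m, a, b, c} : Finset (Fin n)), x p ≠ 0 := fun p hp => by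
    rw [hx]; exact mul_ne_zero (hmem p hp) ((map_ne_zero σ).mpr (hmem p hp))
  have hsum : ∑ p, x p = 1 := by rw [← hr.1, herm_sum D, hx]
  obtain ⟨η, hη, hη1, hηT⟩ := exists_eta D hq (2 - (x m)⁻¹)
  obtain ⟨t, ht⟩ : ∃ t, t = 1 - x m * (η + σ η) - 2 * (1 - x m - x a - x b) := ⟨_, rfl⟩
  obtain ⟨z, w, hz, hw, he⟩ := exists_trace_sum D.sig (a := x a) (b := x b) (hx0 a (by simp)) (hx0 b (by simp))
    (t := t) (by rw [ht]; simp only [map_sub, map_mul, map_add, map_one, map_ofNat, hxf, D.sig.involutive]; ring)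
  obtain ⟨θ, hθ⟩ : ∃ θ : Fin n → F, θ = fun p => if p = m then η else if p = a then z else if p = b then w else 1 :=
    ⟨_, rfl⟩
  have hθn : ∀ p, θ p * σ (θ p) = 1 := fun p => by
    rw [hθ]; dsimp only; split_ifs
    exacts [hη, hz, hw, by rw [map_one, one_mul]]
  obtain ⟨o, ho⟩ := hr.2.1
  have hφ : φ (fun p => θ p * r p) r = η * x m + z * x a + w * x b + (1 - x m - x a - x b) := by
    rw [herm_sum D]
    simp only [mul_assoc]
    rw [Finset.sum_congr rfl fun p _ => show θ p * (r p * σ (r p)) = (θ p - 1) * x p + x p by rw [hx]; ring,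
      Finset.sum_add_distrib, hsum, ← Finset.sum_subset (Finset.subset_univ ({m, a, b} : Finset (Fin n)))
        fun p _ hp => ?_, Finset.sum_insert (by simp [hma, hmb]), Finset.sum_pair hab]
    · simp [hθ, hma.symm, hmb.symm, hab.symm]; ring
    · simp only [Finset.mem_insert, Finset.mem_singleton, not_or] at hp
      simp [hθ, hp.1, hp.2.1, hp.2.2]
  have hgood := good_drop D hr (good_phase D hr θ hθn) ho (by rw [ho, mul_zero]) (by
    rw [hφ]
    simp only [map_add, map_mul, map_sub, map_one, hxf]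
    simp only [map_mul, hxf] at he
    rw [ht] at he
    linear_combination he)
  refine ⟨_, hgood, ?_, ?_⟩
  · -- not an axis
    by_contra hlt
    have hm' : m ∈ supp ((fun p => θ p * r p) - r) := by
      rw [mem_supp, Pi.sub_apply, show θ m = η by simp [hθ], ← sub_one_mul]
      exact mul_ne_zero (sub_ne_zero.mpr hη1) (hmem m (by simp))
    have honly : ∀ p, p ∈ supp ((fun p => θ p * r p) - r) → p = m := fun p hp => by
      by_contra hpm
      exact hlt (Finset.one_lt_card.mpr ⟨p, hp, m, hm', hpm⟩)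
    have hone : ∀ p ∈ ({a, b} : Finset (Fin n)), θ p = 1 := fun p hp => by
      by_contra h1
      have hpm : p ≠ m := by
        simp only [Finset.mem_insert, Finset.mem_singleton] at hp
        rcases hp with rfl | rfl
        exacts [hma.symm, hmb.symm]
      refine hpm (honly p ?_)
      rw [mem_supp, Pi.sub_apply, ← sub_one_mul]
      exact mul_ne_zero (sub_ne_zero.mpr h1) (hmem p (by
        simp only [Finset.mem_insert, Finset.mem_singleton] at hp ⊢; tauto))
    have hz1 : z = 1 := by simpa [hθ, hma.symm] using hone a (by simp)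
    have hw1 : w = 1 := by simpa [hθ, hmb.symm, hab.symm] using hone b (by simp)
    rw [hz1, hw1, one_mul, one_mul, hxf, hxf, ht] at he
    have : x m * (η + σ η - (2 - (x m)⁻¹)) = 0 := by
      rw [mul_sub, mul_sub, mul_inv_cancel₀ (hx0 m (by simp))]
      linear_combination he
    exact hηT (sub_eq_zero.mp ((mul_eq_zero.mp this).resolve_left (hx0 m (by simp))))
  · refine (Finset.card_le_card (show _ ⊆ ({m, a, b} : Finset (Fin n)) from fun p hp => ?_)).trans Finset.card_le_three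
    by_contra hp'
    simp only [Finset.mem_insert, Finset.mem_singleton, not_or] at hp'
    refine mem_supp.mp hp ?_
    simp [hθ, hp'.1, hp'.2.1, hp'.2.2]

theorem descend_three (hq : q ≠ 2) {r : Vn} (hr : Good q σ K r) {i a b : Fin n} (hs : supp r = {i, a, b})
    (hia : i ≠ a) (hib : i ≠ b) (hab : a ≠ b) (hne : r a * σ (r a) ≠ r b * σ (r b)) :
    ∃ w, Good q σ K w ∧ supp w = {a, b} := by
  classical
  have hmem : ∀ p ∈ ({i, a, b} : Finset (Fin n)), r p ≠ 0 := fun p hp => mem_supp.mp (hs ▸ hp)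
  have hout : ∀ p, p ∉ ({i, a, b} : Finset (Fin n)) → r p = 0 := fun p hp => notMem_supp.mp (hs ▸ hp)
  obtain ⟨z, w, hz, hw, he⟩ := exists_trace_sum D.sig (a := r b * σ (r a)) (b := r a * σ (r b))
    (mul_ne_zero (hmem b (by simp)) ((map_ne_zero σ).mpr (hmem a (by simp))))
    (mul_ne_zero (hmem a (by simp)) ((map_ne_zero σ).mpr (hmem b (by simp))))
    (t := 1 - 2 * (r i * σ (r i))) (by rw [map_sub, map_one, map_mul, map_ofNat, norm_fix D.sig])
  obtain ⟨θ, hθ⟩ : ∃ θ : Fin n → F, θ = fun p => if p = a then z else if p = b then w else 1 := ⟨_, rfl⟩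
  have hθn : ∀ p, θ p * σ (θ p) = 1 := fun p => by
    rw [hθ]; dsimp only; split_ifs
    exacts [hz, hw, by rw [map_one, one_mul]]
  obtain ⟨v, hv⟩ : ∃ v : Vn, v = fun p => θ p * r ((Equiv.swap a b).symm p) := ⟨_, rfl⟩
  have hvg : Good q σ K v := hv ▸ good_phase D (good_perm D hr (Equiv.swap a b)) θ hθn
  have hva : v a = z * r b := by simp [hv, hθ]
  have hvb : v b = w * r a := by simp [hv, hθ, hab.symm]
  have hvo : ∀ p, p ≠ a → p ≠ b → v p = r p := fun p h1 h2 => by
    simp [hv, hθ, h1, h2, Equiv.swap_apply_of_ne_of_ne h1 h2]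
  obtain ⟨o, ho⟩ := hr.2.1
  have ho' : o ∉ ({i, a, b} : Finset (Fin n)) := fun h => hmem o h ho
  simp only [Finset.mem_insert, Finset.mem_singleton, not_or] at ho'
  have hφ : φ v r = r i * σ (r i) + (z * (r b * σ (r a)) + w * (r a * σ (r b))) := by
    rw [herm_sum D, ← Finset.sum_subset (Finset.subset_univ ({i, a, b} : Finset (Fin n)))
      fun p _ hp => by rw [hout p hp, map_zero, mul_zero], Finset.sum_insert (by simp [hia, hib]),
      Finset.sum_pair hab, hva, hvb, hvo i hia hib]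
    ring
  refine ⟨v - r, good_drop D hr hvg ho ((hvo o ho'.2.1 ho'.2.2).trans ho) ?_, supp_eq fun p => ?_⟩
  · rw [hφ]
    simp only [map_add, map_mul, D.sig.involutive] at he ⊢
    linear_combination he
  · by_cases hpa : p = a
    · subst hpa
      refine ⟨fun _ => by simp, fun _ h => ?_⟩
      rw [Pi.sub_apply, hva, sub_eq_zero] at h
      refine hne ?_
      rw [← h, map_mul]
      linear_combination (r b * σ (r b)) * hz
    by_cases hpb : p = b
    · subst hpb
      refine ⟨fun _ => by simp, fun _ h => ?_⟩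
      rw [Pi.sub_apply, hvb, sub_eq_zero] at h
      refine hne ?_
      rw [← h, map_mul]
      linear_combination -(r a * σ (r a)) * hw
    simp [hvo p hpa hpb, hpa, hpb]

theorem exists_two (hq : q ≠ 2) {r : Vn} (hr : Good q σ K r) (h2 : 2 ≤ (supp r).card) :
    ∃ w a b, a ≠ b ∧ Good q σ K w ∧ supp w = {a, b} := by
  classical
  obtain ⟨r, hr, h2, h3⟩ : ∃ w, Good q σ K w ∧ 2 ≤ (supp w).card ∧ (supp w).card ≤ 3 := by
    by_cases h : 4 ≤ (supp r).card
    · exact descend_big D hq hr h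
    · exact ⟨r, hr, h2, by omega⟩
  rcases (show (supp r).card = 2 ∨ (supp r).card = 3 by omega) with h | h
  · obtain ⟨a, b, hab, hs⟩ := Finset.card_eq_two.mp h
    exact ⟨r, a, b, hab, hr, hs⟩
  obtain ⟨i, a, b, hia, hib, hab, hs⟩ := Finset.card_eq_three.mp h
  have pick : ∀ {r : Vn}, Good q σ K r → supp r = {i, a, b} → r i * σ (r i) ≠ r b * σ (r b) →
      ∃ w a b, a ≠ b ∧ Good q σ K w ∧ supp w = {a, b} := fun {r} hr hs hne => by
    obtain ⟨w, hw, hws⟩ := descend_three D hq hr (i := a) (a := i) (b := b) (by rw [hs, Finset.insert_comm]) hia.symm hab hib hne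
    exact ⟨w, i, b, hib, hw, hws⟩
  by_cases hab' : r a * σ (r a) = r b * σ (r b)
  swap
  · obtain ⟨w, hw, hws⟩ := descend_three D hq hr hs hia hib hab hab'
    exact ⟨w, a, b, hab, hw, hws⟩
  by_cases hib' : r i * σ (r i) = r b * σ (r b)
  swap
  · exact pick hr hs hib'
  -- three equal norms
  obtain ⟨x, hx⟩ : ∃ x, x = r b * σ (r b) := ⟨_, rfl⟩
  rw [← hx] at hab' hib'
  have hmem : ∀ p ∈ ({i, a, b} : Finset (Fin n)), r p ≠ 0 := fun p hp => mem_supp.mp (hs ▸ hp)
  have hout : ∀ p, p ∉ ({i, a, b} : Finset (Fin n)) → r p = 0 := fun p hp => notMem_supp.mp (hs ▸ hp)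
  have h3x : 3 * x = 1 := by
    rw [← hr.1, ← sum_supp D, hs, Finset.sum_insert (by simp [hia, hib]), Finset.sum_pair hab, hab', hib', ← hx]
    ring
  obtain ⟨ζ, hζ, hζ1, hζT⟩ := exists_eta D hq (2 - 3 : F)
  obtain ⟨o, ho⟩ := hr.2.1
  have hoi : o ≠ i := fun e => hmem i (by simp) (e ▸ ho)
  obtain ⟨v, hv⟩ : ∃ v : Vn, v = Pi.single i 1 + ((ζ - 1) * φ (Pi.single i 1) r) • r := ⟨_, rfl⟩
  have hvg : Good q σ K v := hv ▸ good_move D hr (good_axis D i (by rw [map_one, one_mul])) ho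
    (Pi.single_eq_of_ne hoi 1) hζ
  rw [single_herm D, one_mul] at hv
  have hvb : v b = (ζ - 1) * σ (r i) * r b := by simp [hv, hib.symm]
  have hva : v a = (ζ - 1) * σ (r i) * r a := by simp [hv, hia.symm]
  have hne0 : ∀ p ∈ ({a, b} : Finset (Fin n)), (ζ - 1) * σ (r i) * r p ≠ 0 := fun p hp =>
    mul_ne_zero (mul_ne_zero (sub_ne_zero.mpr hζ1) ((map_ne_zero σ).mpr (hmem i (by simp))))
      (hmem p (Finset.mem_insert_of_mem hp))
  have hvout : ∀ p, p ∉ ({i, a, b} : Finset (Fin n)) → v p = 0 := fun p hp => by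
    have := hout p hp
    simp only [Finset.mem_insert, Finset.mem_singleton, not_or] at hp
    simp [hv, this, hp.1]
  by_cases hvi : v i = 0
  · refine ⟨v, a, b, hab, hvg, supp_eq fun p => ⟨fun h => ?_, fun h => ?_⟩⟩
    · by_contra hp
      by_cases hpi : p = i
      · exact h (hpi ▸ hvi)
      · exact h (hvout p (by simp only [Finset.mem_insert, Finset.mem_singleton, not_or] at hp ⊢; exact ⟨hpi, hp.1, hp.2⟩))
    · simp only [Finset.mem_insert, Finset.mem_singleton] at h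
      rcases h with rfl | rfl
      exacts [hva ▸ hne0 _ (by simp), hvb ▸ hne0 _ (by simp)]
  refine pick hvg (supp_eq fun p => ⟨fun h => by_contra fun hp => h (hvout p hp), fun h => ?_⟩) ?_
  · simp only [Finset.mem_insert, Finset.mem_singleton] at h
    rcases h with rfl | rfl | rfl
    exacts [hvi, hva ▸ hne0 _ (by simp), hvb ▸ hne0 _ (by simp)]
  · intro e
    have hn : ((ζ - 1) * σ (ζ - 1)) * x * x = x := by
      have h1 : v b * σ (v b) = ((ζ - 1) * σ (ζ - 1)) * x * x := by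
        rw [hvb, map_mul, map_mul, D.sig.involutive]
        linear_combination ((ζ - 1) * σ (ζ - 1)) * ((r b * σ (r b)) * hib' - x * hx)
      have h2 : v a * σ (v a) = ((ζ - 1) * σ (ζ - 1)) * x * x := by
        rw [hva, map_mul, map_mul, D.sig.involutive]
        linear_combination ((ζ - 1) * σ (ζ - 1)) * ((r a * σ (r a)) * hib' + x * hab')
      have h3 : v i * σ (v i) + (v a * σ (v a) + v b * σ (v b)) = 1 := by
        rw [← hvg.1, herm_sum D, ← Finset.sum_subset (Finset.subset_univ ({i, a, b} : Finset (Fin n)))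
          fun p _ hp => by rw [hvout p hp, zero_mul], Finset.sum_insert (by simp [hia, hib]), Finset.sum_pair hab]
      rw [e, h1, h2] at h3
      have : ((ζ - 1) * σ (ζ - 1) * x * x) * (3 * x) = x := by linear_combination x * h3
      rw [h3x, mul_one] at this
      exact this
    have hx0 : x ≠ 0 := fun h => by rw [h, mul_zero] at h3x; exact zero_ne_one h3x
    have hn' : (ζ - 1) * σ (ζ - 1) * x = 1 := mul_right_cancel₀ hx0 (hn.trans (one_mul x).symm)
    refine hζT ?_
    rw [map_sub, map_one] at hn'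
    linear_combination -3 * hn' + (ζ - 1) * (σ ζ - 1) * h3x + hζ

/-- All pairs. -/
theorem reach_pair {r : Vn} (hr : Good q σ K r) {a b : Fin n} (hab : a ≠ b) (hs : supp r = {a, b}) :
    Reaches q K {a, b} a := by
  classical
  intro u hu hus
  have hq2 := D.sig.two_le
  have hra : r a ≠ 0 := mem_supp.mp (hs ▸ by simp)
  have hrb : r b ≠ 0 := mem_supp.mp (hs ▸ by simp)
  have hua : u a ≠ 0 := mem_supp.mp (hus ▸ by simp)
  have hub : u b ≠ 0 := mem_supp.mp (hus ▸ by simp)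
  have hr0 : ∀ p, p ≠ a → p ≠ b → r p = 0 := fun p h1 h2 => notMem_supp.mp (hs ▸ by simp [h1, h2])
  have hu0 : ∀ p, p ≠ a → p ≠ b → u p = 0 := fun p h1 h2 => notMem_supp.mp (hus ▸ by simp [h1, h2])
  obtain ⟨o, ho⟩ := hr.2.1
  have hoa : o ≠ a := fun e => hra (e ▸ ho)
  have hob : o ≠ b := fun e => hrb (e ▸ ho)
  obtain ⟨ζ, hζm, hζ'⟩ := exists_mu_out D.sig (s := {1, 1 - (r b * σ (r b))⁻¹})
    (lt_of_le_of_lt Finset.card_le_two (by omega))
  simp only [Finset.mem_insert, Finset.mem_singleton, not_or] at hζ'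
  have hζ := mem_muF.mp hζm
  obtain ⟨A, hA⟩ : ∃ A, A = (ζ - 1) * u a * σ (r a) * r b := ⟨_, rfl⟩
  obtain ⟨B, hB⟩ : ∃ B, B = u b * (1 + (ζ - 1) * (r b * σ (r b))) := ⟨_, rfl⟩
  have hA0 : A ≠ 0 := hA ▸ mul_ne_zero (mul_ne_zero (mul_ne_zero (sub_ne_zero.mpr hζ'.1) hua) ((map_ne_zero σ).mpr hra)) hrb
  have hB0 : B ≠ 0 := hB ▸ mul_ne_zero hub (fun e => hζ'.2 (by
    have h0 : r b * σ (r b) ≠ 0 := mul_ne_zero hrb ((map_ne_zero σ).mpr hrb)
    rw [eq_sub_iff_add_eq, ← mul_left_inj' h0, add_mul, inv_mul_cancel₀ h0]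
    linear_combination e))
  obtain ⟨W, hW⟩ : ∃ W, W = σ (r a) * r b := ⟨_, rfl⟩
  have hW0 : W ≠ 0 := hW ▸ mul_ne_zero ((map_ne_zero σ).mpr hra) hrb
  obtain ⟨N, hN, hN'⟩ := exists_meet D.sig (A := (muF σ).image fun z => (z * B + A) * σ (z * B + A))
    (B := (muF σ).image fun z => (z * W + -W) * σ (z * W + -W))
    (fun x hx => by
      obtain ⟨z, -, rfl⟩ := Finset.mem_image.mp hx
      exact mem_fixF.mpr (norm_fix D.sig _))
    (fun x hx => by
      obtain ⟨z, -, rfl⟩ := Finset.mem_image.mp hx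
      exact mem_fixF.mpr (norm_fix D.sig _))
    (card_norm_pair D.sig hB0 hA0) (card_norm_pair D.sig hW0 (neg_ne_zero.mpr hW0))
  obtain ⟨z, hz, rfl⟩ := Finset.mem_image.mp hN
  obtain ⟨ζ₂, hζ₂, he⟩ := Finset.mem_image.mp hN'
  obtain ⟨t₁, ht₁, c₁, hc₁, htv₁⟩ := exists_tor' D (fun p => if p = b then z else 1)
    (fun p => by split_ifs; exacts [mem_muF.mp hz, by rw [map_one, one_mul]]) o
  obtain ⟨h₁, hh₁, hv₁⟩ := hr.2.2 o ho ζ hζ
  obtain ⟨h₂, hh₂, hv₂⟩ := hr.2.2 o ho ζ₂ (mem_muF.mp hζ₂)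
  obtain ⟨v₁, hv₁d⟩ : ∃ v₁, v₁ = h₁ ⬝ₘ (t₁ ⬝ₘ u) := ⟨_, rfl⟩
  obtain ⟨v₂, hv₂d⟩ : ∃ v₂, v₂ = h₂ ⬝ₘ (Pi.single a 1) := ⟨_, rfl⟩
  have hF₁ : Fixes {a, b} h₁ := hs ▸ hasH_fixes D ho hv₁
  have hF₂ : Fixes {a, b} h₂ := hs ▸ hasH_fixes D ho hv₂
  have htu : t₁ ⬝ₘ u = Pi.single a (u a) + Pi.single b (z * u b) := by
    funext p
    rw [htv₁]
    by_cases hpa : p = a
    · subst hpa; simp [hoa.symm, hab]
    by_cases hpb : p = b
    · subst hpb; simp [hob.symm, hab.symm]
    simp [hu0 p hpa hpb, hpa, hpb]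
  have hout : ∀ p, p ≠ a → p ≠ b → v₁ p = 0 ∧ v₂ p = 0 := fun p h1 h2 => by
    have hp : p ∉ ({a, b} : Finset (Fin n)) := by simp [h1, h2]
    refine ⟨hv₁d ▸ zero_of_fixes D (D.le hh₁) hF₁ (fun j hj => ?_) hp,
      hv₂d ▸ zero_of_fixes D (D.le hh₂) hF₂ (fun j hj => ?_) hp⟩
    · simp only [Finset.mem_insert, Finset.mem_singleton, not_or] at hj
      simp [htu, hj.1, hj.2]
    · simp only [Finset.mem_insert, Finset.mem_singleton, not_or] at hj
      simp [hj.1]
  have hb₁ : v₁ b = z * B + A := by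
    have hφ : φ (Pi.single a (u a) + Pi.single b (z * u b)) r = u a * σ (r a) + z * u b * σ (r b) := by
      rw [(semi D).add_left, single_herm D, single_herm D]
    rw [hv₁d, htu, hv₁, hφ]
    simp [hob, hoa, hab.symm, hA, hB]
    ring
  have hb₂ : v₂ b = ζ₂ * W + -W := by
    rw [hv₂d, hv₂, single_herm D, one_mul]
    simp [hoa, hab.symm, hW]
    ring
  have hnb : v₁ b * σ (v₁ b) = v₂ b * σ (v₂ b) := by rw [hb₁, hb₂, he]
  have hn1 : φ v₁ v₁ = 1 := by rw [hv₁d, iso D hh₁, iso D ht₁, hu]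
  have hn2 : φ v₂ v₂ = 1 := by
    rw [hv₂d, iso D hh₂, single_herm D, Pi.single_eq_same, map_one, one_mul]
  have hsplit : ∀ v : Vn, (∀ p, p ≠ a → p ≠ b → v p = 0) → φ v v = v a * σ (v a) + v b * σ (v b) := fun v hv => by
    rw [herm_sum D, ← Finset.sum_subset (Finset.subset_univ ({a, b} : Finset (Fin n))) fun p _ hp => ?_,
      Finset.sum_pair hab]
    simp only [Finset.mem_insert, Finset.mem_singleton, not_or] at hp
    rw [hv p hp.1 hp.2, zero_mul]
  obtain ⟨θ, hθ, hθe⟩ := exists_phase D (v := v₁) (w := v₂) fun p => by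
    by_cases hpa : p = a
    · subst hpa
      have e1 := hsplit v₁ fun p h1 h2 => (hout p h1 h2).1
      have e2 := hsplit v₂ fun p h1 h2 => (hout p h1 h2).2
      rw [hn1] at e1
      rw [hn2] at e2
      linear_combination e2 - e1 - hnb
    by_cases hpb : p = b
    · subst hpb; exact hnb
    rw [(hout p hpa hpb).1, (hout p hpa hpb).2]
  obtain ⟨t₂, ht₂, c₂, -, htv₂⟩ := exists_tor' D θ hθ o
  have hfin : t₂ ⬝ₘ v₂ = v₁ := funext fun p => by
    rw [htv₂]
    split_ifs with h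
    · subst h; rw [(hout _ hoa hob).2, mul_zero, (hout _ hoa hob).1]
    · exact hθe p
  refine ⟨t₁⁻¹ * (h₁⁻¹ * (t₂ * h₂)), mul_mem (inv_mem ht₁) (mul_mem (inv_mem hh₁) (mul_mem ht₂ hh₂)),
    (tor_fixes D htv₁ _).inv.mul (hF₁.inv.mul ((tor_fixes D htv₂ _).mul hF₂)), ?_⟩
  rw [gl_mul_mulVec, gl_mul_mulVec, gl_mul_mulVec, ← hv₂d, hfin, hv₁d, gl_inv_mulVec_cancel, gl_inv_mulVec_cancel]

/-- All pairs from one. -/
theorem reach_pairs {r : Vn} (hr : Good q σ K r) {a b : Fin n} (hab : a ≠ b) (hs : supp r = {a, b}) {a' b' : Fin n}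
    (hab' : a' ≠ b') : Reaches q K {a', b'} a' := by
  classical
  obtain ⟨π, hπa, hπb⟩ : ∃ π : Equiv.Perm (Fin n), π a = a' ∧ π b = b' := by
    refine ⟨(Equiv.swap a a').trans (Equiv.swap (Equiv.swap a a' b) b'), ?_, ?_⟩
    · rw [Equiv.trans_apply, Equiv.swap_apply_left, Equiv.swap_apply_of_ne_of_ne ?_ hab']
      intro e
      exact hab ((Equiv.swap a a').injective ((Equiv.swap_apply_left a a').trans e))
    · rw [Equiv.trans_apply, Equiv.swap_apply_left]
  refine reach_pair D (good_perm D hr π) hab' (supp_eq fun p => ?_)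
  rw [← mem_supp (v := r), hs]
  simp only [Finset.mem_insert, Finset.mem_singleton, Equiv.symm_apply_eq, hπa, hπb]

end Cfsg.Agent.Classical.UFrame
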