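/-
Images of the axes on all small supports give the whole special unitary group.
-/
import Cfsg.Agent.Lib.Classical.UFrameReduce

set_option autoImplicit false
set_option linter.unusedSectionVars false

namespace Cfsg.Agent.Classical.UFrame

open Matrix Cfsg.Geo
open Cfsg.Agent.Classical
open Cfsg.Agent.Classical.LMon (IsMon)

universe u

variable {n q : ℕ} {F : Type u} [Field F] [Fintype F] {σ : F ≃+* F}

local notation "φ" => hermForm n F q
local notation "Gl" => GL (Fin n) F
local notation "Vn" => Fin n → F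
local notation:max g:max " ⬝ₘ " x:max => ((g : Gl) : Matrix (Fin n) (Fin n) F) *ᵥ x

variable {K : Subgroup (GL (Fin n) F)} (D : Data q σ K)

include D

/-- Projecting on a small part of the support. -/
theorem project {v : Vn} {S : Finset (Fin n)} (hS : S ⊆ supp v) (h2 : 2 ≤ S.card) {a : Fin n} (ha : a ∈ S)
    (hne : ∑ p ∈ S, v p * σ (v p) ≠ 0) (hR : Reaches q K S a) :
    ∃ k ∈ K, Fixes (supp v) k ∧ (supp (k ⬝ₘ v)).card < (supp v).card := by
  classical
  obtain ⟨μ, hμ0, hμ⟩ := D.sig.norm_surjective hne (by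
    rw [map_sum]; exact Finset.sum_congr rfl fun p _ => norm_fix D.sig _)
  obtain ⟨u, hu⟩ : ∃ u : Vn, u = fun p => if p ∈ S then v p / μ else 0 := ⟨_, rfl⟩
  have hus : supp u = S := supp_eq fun p => by
    rw [hu]; dsimp only
    split_ifs with h
    · exact ⟨fun _ => h, fun _ => div_ne_zero (mem_supp.mp (hS h)) hμ0⟩
    · simp [h]
  have hu1 : φ u u = 1 := by
    rw [← sum_supp D, hus, Finset.sum_congr rfl fun p hp => show u p * σ (u p) = v p * σ (v p) * (μ * σ μ)⁻¹ by
      rw [hu]; dsimp only; rw [if_pos hp, map_div₀, div_mul_div_comm, ← div_eq_mul_inv],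
      ← Finset.sum_mul, hμ, mul_inv_cancel₀ hne]
  obtain ⟨k, hk, hF, hka⟩ := hR u hu1 hus
  have hFv : Fixes (supp v) k⁻¹ := hF.inv.mono hS
  refine ⟨k⁻¹, inv_mem hk, hFv, Finset.card_lt_card ((Finset.ssubset_iff_of_subset ?_).mpr ?_)⟩
  · intro p hp
    by_contra hp'
    exact mem_supp.mp hp (zero_of_fixes D (D.le (inv_mem hk)) hFv (fun j hj => notMem_supp.mp hj) hp')
  obtain ⟨p, hpS, hpa⟩ := Finset.exists_mem_ne (show 1 < S.card by omega) a
  refine ⟨p, hS hpS, notMem_supp.mpr ?_⟩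
  have hkp : ∀ j ∉ S, (k ⬝ₘ (Pi.single p 1)) j = 0 := fun j hj => zero_of_fixes D (D.le hk) hF
    (fun i hi => Pi.single_eq_of_ne (fun e => hi (by subst e; exact hpS)) 1) hj
  have e1 : φ v (k ⬝ₘ (Pi.single p 1)) = μ * φ u (k ⬝ₘ (Pi.single p 1)) := by
    rw [herm_sum D, herm_sum D, Finset.mul_sum]
    refine Finset.sum_congr rfl fun j _ => ?_
    by_cases hj : j ∈ S
    · rw [hu]; dsimp only; rw [if_pos hj]; field_simp
    · rw [hkp j hj, map_zero, mul_zero, mul_zero, mul_zero]
  rw [← hka, iso D hk, single_herm D, Pi.single_eq_of_ne (Ne.symm hpa), map_zero, mul_zero, mul_zero,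
    ← iso D (inv_mem hk) v, gl_inv_mulVec_cancel, herm_coord D, map_one, mul_one] at e1
  exact e1

/-- All pairs: some element shortens the support. -/
theorem shorten (hq : q ≠ 2) (hR : ∀ a b : Fin n, a ≠ b → Reaches q K {a, b} a) {v : Vn} (hv : φ v v = 1)
    (h2 : 2 ≤ (supp v).card) : ∃ k ∈ K, Fixes (supp v) k ∧ (supp (k ⬝ₘ v)).card < (supp v).card := by
  classical
  obtain ⟨x, hx⟩ : ∃ x : Fin n → F, x = fun p => v p * σ (v p) := ⟨_, rfl⟩
  have pair : ∀ {w : Vn} {a b : Fin n}, a ≠ b → a ∈ supp w → b ∈ supp w → w a * σ (w a) + w b * σ (w b) ≠ 0 →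
      ∃ k ∈ K, Fixes (supp w) k ∧ (supp (k ⬝ₘ w)).card < (supp w).card := fun {w a b} hab ha hb hne =>
    project D (S := {a, b}) (Finset.insert_subset ha (Finset.singleton_subset_iff.mpr hb))
      (by rw [Finset.card_pair hab]) (a := a) (by simp) (by rwa [Finset.sum_pair hab]) (hR a b hab)
  by_cases hp : ∃ a b, a ≠ b ∧ a ∈ supp v ∧ b ∈ supp v ∧ x a + x b ≠ 0
  · obtain ⟨a, b, hab, ha, hb, hne⟩ := hp
    exact pair hab ha hb (by rw [hx] at hne; exact hne)
  push Not at hp
  have hsum : ∑ p ∈ supp v, x p = 1 := by rw [← hv, ← sum_supp D, hx]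
  have h3 : 3 ≤ (supp v).card := by
    by_contra hlt
    obtain ⟨a, b, hab, hs⟩ := Finset.card_eq_two.mp (by omega : (supp v).card = 2)
    rw [hs, Finset.sum_pair hab, hp a b hab (by rw [hs]; simp) (by rw [hs]; simp)] at hsum
    exact zero_ne_one hsum
  obtain ⟨s, hs, hs3⟩ := Finset.exists_subset_card_eq h3
  obtain ⟨a, b, c, hab, hac, hbc, hse⟩ := Finset.card_eq_three.mp hs3
  subst hse
  have ha : a ∈ supp v := hs (by simp)
  have hb : b ∈ supp v := hs (by simp)
  have hc : c ∈ supp v := hs (by simp)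
  have hx0 : ∀ p ∈ supp v, x p ≠ 0 := fun p hp => by
    rw [hx]; exact mul_ne_zero (mem_supp.mp hp) ((map_ne_zero σ).mpr (mem_supp.mp hp))
  have htwo : (2 : F) = 0 := by
    have h := mul_eq_zero.mp (show (2 : F) * x a = 0 by
      linear_combination hp a b hab ha hb + hp a c hac ha hc - hp b c hbc hb hc)
    exact h.resolve_right (hx0 a ha)
  have hall : ∀ p ∈ supp v, x p = x a := fun p hp' => by
    by_cases hpa : p = a
    · rw [hpa]
    · linear_combination hp p a hpa hp' ha - x a * htwo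
  have hxa : x a = 1 := by
    have h1 : ((supp v).card : F) * x a = 1 := by
      rw [← nsmul_eq_mul, ← Finset.sum_const, ← hsum]
      exact Finset.sum_congr rfl fun p hp => (hall p hp).symm
    rcases Nat.even_or_odd (supp v).card with ⟨m, hm⟩ | ⟨m, hm⟩
    · rw [hm, Nat.cast_add] at h1
      exact absurd (show (0 : F) = 1 by linear_combination h1 - (m : F) * x a * htwo) zero_ne_one
    · rw [hm, Nat.cast_add, Nat.cast_mul, Nat.cast_ofNat, Nat.cast_one] at h1
      linear_combination h1 - (m : F) * x a * htwo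
  -- move the norms apart
  obtain ⟨y, hy, hy'⟩ := Finset.exists_mem_notMem_of_card_lt_card (s := ({0, 1} : Finset F)) (t := fixF σ) (by
    rw [card_fixF D.sig]
    exact lt_of_le_of_lt Finset.card_le_two (by have := D.sig.two_le; omega))
  simp only [Finset.mem_insert, Finset.mem_singleton, not_or] at hy'
  rw [mem_fixF] at hy
  obtain ⟨ua, hua0, hua⟩ := D.sig.norm_surjective hy'.1 hy
  obtain ⟨ub, hub0, hub⟩ := D.sig.norm_surjective (sub_ne_zero.mpr (Ne.symm hy'.2)) (by rw [map_sub, map_one, hy])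
  obtain ⟨u, hu⟩ : ∃ u : Vn, u = Pi.single a ua + Pi.single b ub := ⟨_, rfl⟩
  have hu1 : φ u u = 1 := by
    rw [hu, (semi D).add_left, single_herm D, single_herm D]
    simp [hab, hab.symm]
    linear_combination hua + hub
  have hus : supp u = {a, b} := supp_eq fun p => by
    by_cases hpa : p = a
    · subst hpa; simp [hu, hab, hua0]
    by_cases hpb : p = b
    · subst hpb; simp [hu, hab.symm, hub0]
    simp [hu, hpa, hpb]
  obtain ⟨k, hk, hF, hka⟩ := hR a b hab u hu1 hus
  obtain ⟨β, hβ⟩ : ∃ β, β = (k ⬝ₘ (Pi.single b 1)) a := ⟨_, rfl⟩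
  have hkj : ∀ j, j ≠ a → j ≠ b → (k ⬝ₘ (Pi.single j 1)) a = 0 := fun j h1 h2 => by
    obtain ⟨d, hd⟩ := hF j (by simp [h1, h2])
    rw [hd, Pi.single_eq_of_ne (Ne.symm h1)]
  have hrow : ∀ w : Vn, (k ⬝ₘ w) a = ua * w a + β * w b := fun w => by
    rw [mulVec, dotProduct, ← Finset.sum_subset (Finset.subset_univ ({a, b} : Finset (Fin n))) fun j _ hj => ?_,
      Finset.sum_pair hab]
    · have e1 : (k : Matrix (Fin n) (Fin n) F) a a = ua := by
        rw [← col_apply (A := (k : Matrix (Fin n) (Fin n) F)) a a, ← mulVec_single_one, hka, hu]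
        simp [hab]
      have e2 : (k : Matrix (Fin n) (Fin n) F) a b = β := by
        rw [hβ, mulVec_single_one, col_apply]
      rw [e1, e2]
    · simp only [Finset.mem_insert, Finset.mem_singleton, not_or] at hj
      have := hkj j hj.1 hj.2
      rw [mulVec_single_one, col_apply] at this
      rw [this, zero_mul]
  have hβn : β * σ β = 1 - y := by
    have h1 := iso D (inv_mem hk) (Pi.single a 1) (Pi.single a 1)
    rw [single_herm D, Pi.single_eq_same, map_one, one_mul, herm_sum D,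
      ← Finset.sum_subset (Finset.subset_univ ({a, b} : Finset (Fin n))) fun j _ hj => by
        simp only [Finset.mem_insert, Finset.mem_singleton, not_or] at hj
        rw [inv_entry D hk, hkj j hj.1 hj.2, map_zero, zero_mul],
      Finset.sum_pair hab, inv_entry D hk, inv_entry D hk, ← hβ, D.sig.involutive, D.sig.involutive] at h1
    have e1 : (k ⬝ₘ (Pi.single a 1)) a = ua := by rw [hka, hu]; simp [hab]
    rw [e1] at h1
    linear_combination h1 - hua
  have hβ0 : β ≠ 0 := fun e => hy'.2 (by rw [e, zero_mul] at hβn; linear_combination hβn)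
  obtain ⟨N, hN, hN1⟩ := Finset.exists_mem_ne (s := (muF σ).image fun z => (z * (β * v b) + ua * v a) * σ (z * (β * v b) + ua * v a))
    (by
      have := card_norm_pair D.sig (mul_ne_zero hβ0 (mem_supp.mp hb)) (mul_ne_zero hua0 (mem_supp.mp ha))
      have := D.sig.two_le
      omega) 1
  obtain ⟨z, hz, rfl⟩ := Finset.mem_image.mp hN
  obtain ⟨t, ht, d, -, htv⟩ := exists_tor' D (fun p => if p = b then z else 1)
    (fun p => by split_ifs; exacts [mem_muF.mp hz, by rw [map_one, one_mul]]) c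
  obtain ⟨w, hw⟩ : ∃ w, w = k ⬝ₘ (t ⬝ₘ v) := ⟨_, rfl⟩
  have hFk : Fixes (supp v) (k * t) :=
    (hF.mono (Finset.insert_subset ha (Finset.singleton_subset_iff.mpr hb))).mul (tor_fixes D htv _)
  have hwe : (k * t) ⬝ₘ v = w := by rw [gl_mul_mulVec, hw]
  have hsub : supp w ⊆ supp v := fun p hp => by
    by_contra hp'
    exact mem_supp.mp hp (hwe ▸ zero_of_fixes D (D.le (mul_mem hk ht)) hFk (fun j hj => notMem_supp.mp hj) hp')
  by_cases hlt : (supp w).card < (supp v).card
  · exact ⟨k * t, mul_mem hk ht, hFk, by rwa [hwe]⟩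
  have heq : supp w = supp v := Finset.eq_of_subset_of_card_le hsub (not_lt.mp hlt)
  have hwa : w a = z * (β * v b) + ua * v a := by
    rw [hw, hrow, htv, htv, if_neg hac, if_neg hab, if_neg hbc, if_pos rfl]; ring
  have hwc : w c * σ (w c) = 1 := by
    obtain ⟨e, he⟩ := (Fixes.mul hF (tor_fixes D htv ({a, b} : Finset (Fin n)))) c (by simp [Ne.symm hac, Ne.symm hbc])
    have h := iso D (mul_mem hk ht) v (Pi.single c 1)
    rw [hwe, he, herm_coord D, herm_coord D, map_one, mul_one] at h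
    have hen := iso D (mul_mem hk ht) (Pi.single c 1) (Pi.single c 1)
    rw [he, single_herm D, single_herm D, Pi.single_eq_same, Pi.single_eq_same, map_one, one_mul] at hen
    have hxc : v c * σ (v c) = 1 := by have := hall c hc; rw [hxa, hx] at this; exact this
    rw [← h, map_mul, D.sig.involutive] at hxc
    linear_combination hxc - (w c * σ (w c)) * hen
  obtain ⟨k₂, hk₂, hF₂, hlt₂⟩ := pair (w := w) hac (heq ▸ ha) (heq ▸ hc) (by
    rw [hwc, hwa]
    intro e
    exact hN1 (by linear_combination e - htwo))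
  refine ⟨k₂ * (k * t), mul_mem hk₂ (mul_mem hk ht), (heq ▸ hF₂).mul hFk, ?_⟩
  rw [gl_mul_mulVec, hwe, ← heq]
  exact hlt₂

/-- Shortening every support gives everything. -/
theorem full_of_shorten (hS : ∀ v : Vn, φ v v = 1 → 2 ≤ (supp v).card →
      ∃ k ∈ K, Fixes (supp v) k ∧ (supp (k ⬝ₘ v)).card < (supp v).card) : suGL n F q ≤ K := by
  classical
  have reduce : ∀ (m : ℕ) (v : Vn), φ v v = 1 → (supp v).card ≤ m →
      ∃ k ∈ K, Fixes (supp v) k ∧ (supp (k ⬝ₘ v)).card ≤ 1 := by
    intro m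
    induction m with
    | zero => exact fun v _ h => ⟨1, one_mem _, fun j _ => ⟨1, by rw [Units.val_one, one_mulVec]⟩,
        by rw [Units.val_one, one_mulVec]; omega⟩
    | succ m ih =>
      intro v hv hm
      by_cases h2 : 2 ≤ (supp v).card
      swap
      · exact ⟨1, one_mem _, fun j _ => ⟨1, by rw [Units.val_one, one_mulVec]⟩,
          by rw [Units.val_one, one_mulVec]; omega⟩
      obtain ⟨k, hk, hF, hlt⟩ := hS v hv h2
      obtain ⟨k', hk', hF', h1⟩ := ih (k ⬝ₘ v) (by rw [iso D hk, hv]) (by omega)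
      refine ⟨k' * k, mul_mem hk' hk, (hF'.mono fun p hp => ?_).mul hF, by rwa [gl_mul_mulVec]⟩
      by_contra hp'
      exact mem_supp.mp hp (zero_of_fixes D (D.le hk) hF (fun j hj => notMem_supp.mp hj) hp')
  suffices key : ∀ (Z : Finset (Fin n)) (g : Gl), g ∈ suGL n F q → Fixes Z g → g ∈ K from
    fun g hg => key Finset.univ g hg fun j hj => absurd (Finset.mem_univ j) hj
  intro Z
  induction Z using Finset.strongInduction with
  | H Z ih =>
    intro g hg hF
    rcases Z.eq_empty_or_nonempty with rfl | ⟨i, hi⟩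
    · refine D.mon g hg fun j => ⟨j, fun p hp => ?_⟩
      obtain ⟨c, hc⟩ := hF j (Finset.notMem_empty j)
      rw [← col_apply (A := (g : Matrix (Fin n) (Fin n) F)) j p, ← mulVec_single_one, hc, Pi.single_eq_of_ne hp]
    obtain ⟨v, hv⟩ : ∃ v, v = g ⬝ₘ (Pi.single i 1) := ⟨_, rfl⟩
    have hv1 : φ v v = 1 := by
      rw [hv, mem_GU_iff.mp hg.1, single_herm D, Pi.single_eq_same, map_one, one_mul]
    have hvZ : supp v ⊆ Z := fun p hp => by
      by_contra hp'
      exact mem_supp.mp hp (hv ▸ zero_of_fixes D hg hF (fun j hj => Pi.single_eq_of_ne (fun e => hj (by subst e; exact hi)) 1) hp')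
    obtain ⟨k, hk, hFk, h1⟩ := reduce _ v hv1 le_rfl
    obtain ⟨w, hw⟩ : ∃ w, w = k ⬝ₘ v := ⟨_, rfl⟩
    have hw1 : φ w w = 1 := by rw [hw, iso D hk, hv1]
    obtain ⟨p, hp⟩ : (supp w).Nonempty := by
      rw [← Finset.card_pos, pos_iff_ne_zero, Ne, Finset.card_eq_zero]
      intro h
      rw [← sum_supp D, h, Finset.sum_empty] at hw1
      exact zero_ne_one hw1
    have hwp : w = Pi.single p (w p) := funext fun j => by
      by_cases hj : j = p
      · subst hj; rw [Pi.single_eq_same]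
      · rw [Pi.single_eq_of_ne hj]
        by_contra h
        exact hj (Finset.card_le_one.mp (hw ▸ h1) j (mem_supp.mpr h) p hp)
    have hpZ : p ∈ Z := hvZ (by_contra fun hp' => mem_supp.mp hp
      (hw ▸ zero_of_fixes D (D.le hk) hFk (fun j hj => notMem_supp.mp hj) hp'))
    obtain ⟨m, hm, hFm, hmi⟩ : ∃ m ∈ K, Fixes Z m ∧ ∃ c, m ⬝ₘ (Pi.single p (w p)) = Pi.single i c := by
      by_cases hpi : p = i
      · exact ⟨1, one_mem _, fun j _ => ⟨1, by rw [Units.val_one, one_mulVec]⟩, w p,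
          by rw [Units.val_one, one_mulVec, hpi]⟩
      · obtain ⟨m, hm, hFm, ⟨c, -, hc⟩, -⟩ := exists_swap D hpi
        exact ⟨m, hm, hFm.mono (Finset.insert_subset hpZ (Finset.singleton_subset_iff.mpr hi)), w p * c,
          by rw [single_smul' p, mulVec_smul, hc, ← Pi.single_smul, smul_eq_mul]⟩
    obtain ⟨c, hc⟩ := hmi
    have hg' : m * k * g ∈ suGL n F q := mul_mem (mul_mem (D.le hm) (D.le hk)) hg
    have hmem := ih (Z.erase i) (Finset.erase_ssubset hi) (m * k * g) hg' fun j hj => by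
      by_cases hji : j = i
      · subst hji
        exact ⟨c, by rw [gl_mul_mulVec, gl_mul_mulVec, ← hv, ← hw, hwp]; exact hc⟩
      · exact ((hFm.mul (hFk.mono hvZ)).mul hF) j fun h => hj (Finset.mem_erase.mpr ⟨hji, h⟩)
    have := mul_mem (inv_mem (mul_mem hm hk)) hmem
    rwa [inv_mul_cancel_left] at this

/-- With two elements in the ground field: all triples. -/
theorem full_two (hq : q = 2) {r : Vn} (hr : Good q σ K r) (h2 : 2 ≤ (supp r).card) : suGL n F q ≤ K := by
  classical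
  have htwo : (2 : F) = 0 := by
    by_contra h
    have := D.sig.odd_iff.mpr h
    rw [hq] at this
    exact absurd this (by decide)
  have hn : ∀ z : F, z ≠ 0 → z * σ z = 1 := fun z hz => by
    have h4 := FiniteField.pow_card_sub_one_eq_one z hz
    rw [D.sig.card, hq] at h4
    rw [D.sig.apply_eq, hq, ← pow_succ']
    exact h4
  have hcast : ∀ v : Vn, φ v v = ((supp v).card : F) := fun v => by
    rw [← sum_supp D, Finset.sum_congr rfl fun p hp => hn _ (mem_supp.mp hp), Finset.sum_const, nsmul_eq_mul, mul_one]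
  have h3 : ∀ v : Vn, φ v v = 1 → 2 ≤ (supp v).card → 3 ≤ (supp v).card := fun v hv h2 => by
    by_contra h
    rw [hcast, show (supp v).card = 2 by omega, Nat.cast_ofNat, htwo] at hv
    exact zero_ne_one hv
  obtain ⟨ω, hω, hω1⟩ := exists_mu_out D.sig (s := {1}) (by rw [Finset.card_singleton]; omega)
  rw [Finset.mem_singleton] at hω1
  have hω' := mem_muF.mp hω
  have htr : ω + σ ω = 1 := by
    rw [D.sig.apply_eq, hq]
    have h := hω'
    rw [D.sig.apply_eq, hq] at h
    have : (ω - 1) * (ω + ω ^ 2 + 1) = 0 := by linear_combination h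
    linear_combination (mul_eq_zero.mp this).resolve_left (sub_ne_zero.mpr hω1) - htwo
  obtain ⟨o, ho⟩ := hr.2.1
  obtain ⟨s, hs, hs3⟩ := Finset.exists_subset_card_eq (h3 r hr.1 h2)
  obtain ⟨m, a, b, hma, hmb, hab, hse⟩ := Finset.card_eq_three.mp hs3
  subst hse
  obtain ⟨θ, hθ⟩ : ∃ θ : Fin n → F, θ = fun p => if p ∈ ({m, a, b} : Finset (Fin n)) then ω else 1 := ⟨_, rfl⟩
  have hθn : ∀ p, θ p * σ (θ p) = 1 := fun p => by
    rw [hθ]; dsimp only; split_ifs
    exacts [hω', by rw [map_one, one_mul]]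
  have hT : ∀ p ∈ ({m, a, b} : Finset (Fin n)), r p ≠ 0 := fun p hp => mem_supp.mp (hs hp)
  have hφ : φ (fun p => θ p * r p) r = 1 + 3 * (ω - 1) := by
    rw [herm_sum D, Finset.sum_congr rfl fun p _ => show θ p * r p * σ (r p) = (θ p - 1) * (r p * σ (r p)) + r p * σ (r p) by ring,
      Finset.sum_add_distrib, ← herm_sum D, hr.1, ← Finset.sum_subset (Finset.subset_univ ({m, a, b} : Finset (Fin n)))
        fun p _ hp => by rw [hθ]; dsimp only; rw [if_neg hp, sub_self, zero_mul],
      Finset.sum_congr rfl fun p hp => show (θ p - 1) * (r p * σ (r p)) = ω - 1 by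
        rw [hθ]; dsimp only; rw [if_pos hp, hn _ (hT p hp), mul_one],
      Finset.sum_const, hs3, nsmul_eq_mul, Nat.cast_ofNat]
    ring
  have hgood := good_drop D hr (good_phase D hr θ hθn) ho (by rw [ho, mul_zero]) (by
    rw [hφ]
    simp only [map_add, map_mul, map_sub, map_one, map_ofNat]
    linear_combination 3 * htr - htwo)
  obtain ⟨w, hw, hws⟩ : ∃ w, Good q σ K w ∧ supp w = {m, a, b} := ⟨_, hgood, supp_eq fun p => by
    rw [Pi.sub_apply, hθ]
    dsimp only
    split_ifs with hp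
    · exact ⟨fun _ => hp, fun _ => by rw [← sub_one_mul]; exact mul_ne_zero (sub_ne_zero.mpr hω1) (hT p hp)⟩
    · simp [hp]⟩
  have reach : ∀ {w : Vn} {a b c : Fin n}, a ≠ b → a ≠ c → b ≠ c → Good q σ K w → supp w = {a, b, c} →
      Reaches q K {a, b, c} a := by
    intro w a b c hab hac hbc hw hws u hu hus
    obtain ⟨o, ho⟩ := hw.2.1
    have hwa : w a ≠ 0 := mem_supp.mp (hws ▸ by simp)
    have hoa : o ≠ a := fun e => hwa (e ▸ ho)
    obtain ⟨h, hh, hv⟩ := hw.2.2 o ho ω hω'
    have hF : Fixes {a, b, c} h := hws ▸ hasH_fixes D ho hv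
    obtain ⟨v, hvd⟩ : ∃ v, v = h ⬝ₘ (Pi.single a 1) := ⟨_, rfl⟩
    have hsv : ∀ p, v p ≠ 0 ↔ p ∈ ({a, b, c} : Finset (Fin n)) := fun p => by
      constructor
      · intro hp
        by_contra hp'
        exact hp (hvd ▸ zero_of_fixes D (D.le hh) hF (fun j hj => Pi.single_eq_of_ne (fun e => hj (by simp [e])) 1) hp')
      · intro hp
        have hwp : w p ≠ 0 := mem_supp.mp (hws ▸ hp)
        have hpo : p ≠ o := fun e => hwp (e ▸ ho)
        rw [hvd, hv, single_herm D, one_mul]
        by_cases hpa : p = a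
        · subst hpa
          simp [hpo, hpo.symm]
          intro e
          refine ne_zero_of_mem hω ?_
          linear_combination e - (ω - 1) * hn _ hwp
        · simp [hpa, hoa, Ne.symm hoa, hpo, Ne.symm hpo, sub_ne_zero.mpr hω1, hwa, hwp]
    obtain ⟨θ, hθ, hθe⟩ := exists_phase D (v := u) (w := v) fun p => by
      by_cases hp : p ∈ ({a, b, c} : Finset (Fin n))
      · rw [hn _ (mem_supp.mp (hus ▸ hp)), hn _ ((hsv p).mpr hp)]
      · have h1 : u p = 0 := notMem_supp.mp (hus ▸ hp)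
        have h2 : v p = 0 := not_not.mp fun h => hp ((hsv p).mp h)
        rw [h1, h2]
    obtain ⟨t, ht, d, -, htv⟩ := exists_tor' D θ hθ o
    refine ⟨t * h, mul_mem ht hh, (tor_fixes D htv _).mul hF, funext fun p => ?_⟩
    rw [gl_mul_mulVec, ← hvd, htv]
    split_ifs with hp
    · have hno : o ∉ ({a, b, c} : Finset (Fin n)) := fun h' => mem_supp.mp (hws ▸ h') ho
      have h1 : u o = 0 := notMem_supp.mp (hus ▸ hno)
      have h2 : v o = 0 := not_not.mp fun h => hno ((hsv o).mp h)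
      rw [hp, h2, mul_zero, h1]
    · exact hθe p
  refine full_of_shorten D fun v hv hv2 => ?_
  obtain ⟨s', hs', hs3'⟩ := Finset.exists_subset_card_eq (h3 v hv hv2)
  obtain ⟨a', b', c', hab', hac', hbc', hse⟩ := Finset.card_eq_three.mp hs3'
  subst hse
  obtain ⟨π, hπ⟩ : ∃ π : Equiv.Perm (Fin n), π m = a' ∧ π a = b' ∧ π b = c' := by
    obtain ⟨π₁, hπ₁⟩ : ∃ π₁ : Equiv.Perm (Fin n), π₁ = Equiv.swap m a' := ⟨_, rfl⟩
    obtain ⟨π₂, hπ₂⟩ : ∃ π₂ : Equiv.Perm (Fin n), π₂ = Equiv.swap (π₁ a) b' := ⟨_, rfl⟩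
    obtain ⟨π₃, hπ₃⟩ : ∃ π₃ : Equiv.Perm (Fin n), π₃ = Equiv.swap (π₂ (π₁ b)) c' := ⟨_, rfl⟩
    refine ⟨(π₁.trans π₂).trans π₃, ?_, ?_, ?_⟩
    · have h1 : π₁ m = a' := by rw [hπ₁, Equiv.swap_apply_left]
      have h2 : π₂ a' = a' := by
        rw [hπ₂, Equiv.swap_apply_of_ne_of_ne ?_ hab']
        exact fun e => hma (π₁.injective (h1.trans e))
      rw [Equiv.trans_apply, Equiv.trans_apply, h1, h2, hπ₃, Equiv.swap_apply_of_ne_of_ne ?_ hac']
      exact fun e => hmb (π₁.injective (π₂.injective ((congrArg π₂ h1).trans (h2.trans e))))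
    · have h1 : π₂ (π₁ a) = b' := by rw [hπ₂, Equiv.swap_apply_left]
      rw [Equiv.trans_apply, Equiv.trans_apply, h1, hπ₃, Equiv.swap_apply_of_ne_of_ne ?_ hbc']
      exact fun e => hab (π₁.injective (π₂.injective (h1.trans e)))
    · rw [Equiv.trans_apply, Equiv.trans_apply, hπ₃, Equiv.swap_apply_left]
  refine project D hs' (by rw [hs3']; omega) (a := a') (by simp) ?_ (reach hab' hac' hbc' (good_perm D hw π) (supp_eq fun p => ?_))
  · rw [Finset.sum_congr rfl fun p hp => hn _ (mem_supp.mp (hs' hp)), Finset.sum_const, hs3', nsmul_eq_mul, mul_one]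
    intro h
    exact one_ne_zero (α := F) (by push_cast at h; linear_combination h - htwo)
  · rw [← mem_supp (v := w), hws]
    simp only [Finset.mem_insert, Finset.mem_singleton, Equiv.symm_apply_eq, hπ]

/-- A good vector off the axes gives everything. -/
theorem full_of_good {r : Vn} (hr : Good q σ K r) (h2 : 2 ≤ (supp r).card) : suGL n F q ≤ K := by
  by_cases hq : q = 2
  · exact full_two D hq hr h2
  obtain ⟨w, a, b, hab, hw, hs⟩ := exists_two D hq hr h2
  exact full_of_shorten D fun v hv hv2 => shorten D hq (fun a' b' h => reach_pairs D hw hab hs h) hv hv2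

end Cfsg.Agent.Classical.UFrame
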