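/-
A good vector off the axes, in characteristic two.
-/
import Cfsg.Agent.Lib.Classical.UFrameBase

set_option autoImplicit false
set_option linter.unusedSectionVars false

namespace Cfsg.Agent.Classical.UFrame

open Matrix Cfsg.Geo
open Cfsg.Agent.Classical
open Cfsg.Agent.Classical.LMon (IsMon)

universe u

variable {n q : ℕ} {F : Type u} [Field F] [Fintype F] {σ : F ≃+* F}

local notation "φ" => hermForm n F q
local notation "Gl" => GL (Fin n) F
local notation "Vn" => Fin n → F
local notation:max g:max " ⬝ₘ " x:max => ((g : Gl) : Matrix (Fin n) (Fin n) F) *ᵥ x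

variable {K : Subgroup (GL (Fin n) F)} (D : Data q σ K)

include D

/-- No zero row. -/
theorem exists_row {g : Gl} (p : Fin n) : ∃ j, (g ⬝ₘ (Pi.single j 1)) p ≠ 0 := by
  by_contra hcon
  push Not at hcon
  have h : ((g : Matrix (Fin n) (Fin n) F) * ((g⁻¹ : Gl) : Matrix (Fin n) (Fin n) F)) p p = 1 := by
    rw [← Units.val_mul, mul_inv_cancel, Units.val_one, one_apply_eq]
  rw [mul_apply, Finset.sum_eq_zero fun j _ => ?_] at h
  · exact zero_ne_one h
  · have := hcon j
    rw [mulVec_single_one, col_apply] at this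
    rw [this, zero_mul]

theorem exists_col {g : Gl} (hnm : ¬ IsMon (g : Matrix (Fin n) (Fin n) F)) :
    ∃ i, 2 ≤ (supp (g ⬝ₘ (Pi.single i 1))).card := by
  by_contra hcon
  push Not at hcon
  refine hnm fun j => ?_
  rcases (supp (g ⬝ₘ (Pi.single j 1))).eq_empty_or_nonempty with h | ⟨p, hp⟩
  · refine ⟨j, fun i _ => ?_⟩
    have := notMem_supp.mp (show i ∉ supp (g ⬝ₘ (Pi.single j 1)) by rw [h]; exact Finset.notMem_empty i)
    rwa [mulVec_single_one, col_apply] at this
  · refine ⟨p, fun i hi => ?_⟩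
    have h1 := Finset.card_le_one.mp (Nat.lt_succ_iff.mp (hcon j))
    have := notMem_supp.mp (show i ∉ supp (g ⬝ₘ (Pi.single j 1)) from fun h => hi (h1 i h p hp))
    rwa [mulVec_single_one, col_apply] at this

/-- An element off the monomial group fixing a line gives a good vector. -/
theorem good_of_line {y : Gl} (hy : y ∈ K) (hnm : ¬ IsMon (y : Matrix (Fin n) (Fin n) F)) {a b : Fin n} {c : F}
    (hab : y ⬝ₘ (Pi.single a 1) = Pi.single b c) : ∃ r, Good q σ K r ∧ 2 ≤ (supp r).card := by
  classical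
  have hnm' : ¬ IsMon ((y⁻¹ : Gl) : Matrix (Fin n) (Fin n) F) := fun h => hnm (by
    have := LMon.isMon_inv h
    rwa [inv_inv] at this)
  obtain ⟨k, hk⟩ := exists_col D hnm'
  have hc0 : c ≠ 0 := by
    intro h
    rw [h, Pi.single_zero, ← mulVec_zero (y : Matrix (Fin n) (Fin n) F)] at hab
    simpa using congrFun (gl_mulVec_injective y hab) a
  have hb : ((y⁻¹ : Gl)) ⬝ₘ (Pi.single b 1) = Pi.single a c⁻¹ := by
    refine gl_mulVec_injective y ?_
    dsimp only
    rw [gl_mulVec_inv_cancel, single_smul' a c⁻¹, mulVec_smul, hab, ← Pi.single_smul, smul_eq_mul, inv_mul_cancel₀ hc0]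
  have hkb : k ≠ b := by
    rintro rfl
    rw [hb] at hk
    have : supp (Pi.single a c⁻¹ : Vn) ⊆ {a} := fun p hp => Finset.mem_singleton.mpr
      (by_contra fun h => mem_supp.mp hp (by simp [h]))
    have := Finset.card_le_card this
    rw [Finset.card_singleton] at this
    omega
  exact ⟨_, good_conj D (good_axis D k (c := 1) (by rw [map_one, one_mul])) (inv_mem hy)
    (Pi.single_eq_of_ne (Ne.symm hkb) 1) hb, hk⟩

/-- Transvections in the group. -/
def HasT (v : Fin n → F) : Prop := ∃ g ∈ K, ∀ x, (g : Matrix (Fin n) (Fin n) F) *ᵥ x = x + hermForm n F q x v • v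

theorem hasT_conj {g : Gl} (hg : g ∈ K) {v : Vn} (h : HasT (q := q) (K := K) v) : HasT (q := q) (K := K) (g ⬝ₘ v) := by
  obtain ⟨t, ht, htv⟩ := h
  refine ⟨g * t * g⁻¹, mul_mem (mul_mem hg ht) (inv_mem hg), fun x => ?_⟩
  rw [gl_mul_mulVec, gl_mul_mulVec, htv, mulVec_add, mulVec_smul, gl_mulVec_inv_cancel,
    ← iso D hg (((g⁻¹ : Gl)) ⬝ₘ x) v, gl_mulVec_inv_cancel]

theorem hasT_pair (htwo : (2 : F) = 0) {i j : Fin n} (hij : i ≠ j) {θ : F} (hθ : θ * σ θ = 1) :
    HasT (q := q) (K := K) (Pi.single i 1 + Pi.single j θ) := by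
  classical
  obtain ⟨v, hv⟩ : ∃ v : Vn, v = Pi.single i 1 + Pi.single j θ := ⟨_, rfl⟩
  have hvv : φ v v = 0 := by
    rw [hv, (semi D).add_left, single_herm D, single_herm D]
    simp [hij, hij.symm]
    linear_combination hθ + htwo
  obtain ⟨g, hg, hgv⟩ := D.sig.exists_transvection hvv (c := 1) (by rw [map_one]; linear_combination htwo)
  simp only [one_mul] at hgv
  rw [← hv]
  refine ⟨g, D.mon g hg fun p => ⟨Equiv.swap i j p, fun k hk => ?_⟩, hgv⟩
  rw [← col_apply (A := (g : Matrix (Fin n) (Fin n) F)) p k, ← mulVec_single_one, hgv, single_herm D, one_mul]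
  by_cases hpi : p = i
  · subst hpi
    rw [Equiv.swap_apply_left] at hk
    simp [hv, hij, hk]
    by_cases hkp : k = p
    · subst hkp; simp; linear_combination htwo
    · simp [hkp]
  by_cases hpj : p = j
  · subst hpj
    rw [Equiv.swap_apply_right] at hk
    simp [hv, hij.symm, hk]
    by_cases hkp : k = p
    · subst hkp; simp; linear_combination hθ + htwo
    · simp [hkp]
  rw [Equiv.swap_apply_of_ne_of_ne hpi hpj] at hk
  simp [hv, hpi, hpj, hk]

theorem exists_centre (htwo : (2 : F) = 0) {g : Gl} (hg : g ∈ K) (hnm : ¬ IsMon (g : Matrix (Fin n) (Fin n) F)) :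
    ∃ w, HasT (q := q) (K := K) w ∧ φ w w = 0 ∧ 3 ≤ (supp w).card := by
  classical
  have hn := D.npos
  have hq2 := D.sig.two_le
  by_contra hcon
  push Not at hcon
  obtain ⟨c, hc⟩ : ∃ c : Fin n → Vn, c = fun i => g ⬝ₘ (Pi.single i 1) := ⟨_, rfl⟩
  obtain ⟨η, hη, hη1⟩ := exists_mu_out D.sig (s := {1}) (by rw [Finset.card_singleton]; omega)
  obtain ⟨η', hη', hη'1⟩ := exists_mu_out D.sig (s := {1, η}) (lt_of_le_of_lt Finset.card_le_two (by omega))
  simp only [Finset.mem_insert, Finset.mem_singleton, not_or] at hη1 hη'1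
  obtain ⟨U, hU⟩ : ∃ U : Fin n → Fin n → Finset (Fin n), U = fun i j => supp (c i) ∪ supp (c j) := ⟨_, rfl⟩
  have key : ∀ i j, i ≠ j → (U i j).card ≤ 3 ∧ (Disjoint (supp (c i)) (supp (c j)) → (U i j).card ≤ 2) := by
    intro i j hij
    obtain ⟨S, hS⟩ : ∃ S : F → Finset (Fin n), S = fun z => supp (fun p => c i p + z * c j p) := ⟨_, rfl⟩
    have hS2 : ∀ z, z * σ z = 1 → (S z).card ≤ 2 := fun z hz => by
      have h := hcon _ (hasT_conj D hg (hasT_pair D htwo hij hz)) (by
        rw [iso D hg, (semi D).add_left, single_herm D, single_herm D]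
        simp [hij, hij.symm]
        linear_combination hz + htwo)
      rw [hS]
      dsimp only
      rw [show (fun p => c i p + z * c j p) = g ⬝ₘ (Pi.single i 1 + Pi.single j z) from funext fun p => by
        rw [mulVec_add, single_smul' j z, mulVec_smul, Pi.add_apply, Pi.smul_apply, hc]; rfl]
      omega
    have hmem : ∀ p ∈ U i j, ∀ z w, z ≠ w → p ∈ S z ∨ p ∈ S w := fun p hp z w hzw => by
      by_contra h
      simp only [hS, mem_supp, not_or, not_not] at h
      have hj0 : c j p = 0 := (mul_eq_zero.mp (show (z - w) * c j p = 0 by linear_combination h.1 - h.2)).resolve_left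
        (sub_ne_zero.mpr hzw)
      simp only [hU, Finset.mem_union, mem_supp] at hp
      rcases hp with hp | hp
      · exact hp (by have := h.1; rw [hj0, mul_zero, add_zero] at this; exact this)
      · exact hp hj0
    have h1 : (1 : F) * σ 1 = 1 := by rw [map_one, one_mul]
    refine ⟨?_, fun hd => ?_⟩
    · have hsub : U i j ⊆ S 1 ∪ (S η ∩ S η') := fun p hp => by
        rw [Finset.mem_union, Finset.mem_inter]
        rcases hmem p hp 1 η (Ne.symm hη1) with a | a
        · exact Or.inl a
        rcases hmem p hp 1 η' (Ne.symm hη'1.1) with b | b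
        · exact Or.inl b
        · exact Or.inr ⟨a, b⟩
      by_cases h2 : (S η ∩ S η').card ≤ 1
      · have := (Finset.card_le_card hsub).trans (Finset.card_union_le _ _)
        have := hS2 1 h1
        omega
      · have e1 : S η ∩ S η' = S η := Finset.eq_of_subset_of_card_le Finset.inter_subset_left
          (by have := hS2 η (mem_muF.mp hη); omega)
        have e2 : S η ∩ S η' = S η' := Finset.eq_of_subset_of_card_le Finset.inter_subset_right
          (by have := hS2 η' (mem_muF.mp hη'); omega)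
        refine (Finset.card_le_card (show U i j ⊆ S η from fun p hp => ?_)).trans
          ((hS2 η (mem_muF.mp hη)).trans (by norm_num))
        rcases hmem p hp η η' (Ne.symm hη'1.2) with a | a
        · exact a
        · rw [← e1, e2]; exact a
    · refine (Finset.card_le_card (show U i j ⊆ S 1 from fun p hp => ?_)).trans (hS2 1 h1)
      simp only [hU, Finset.mem_union] at hp
      rw [hS, mem_supp]
      rcases hp with hp | hp
      · rw [notMem_supp.mp (Finset.disjoint_left.mp hd hp), mul_zero, add_zero]; exact mem_supp.mp hp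
      · rw [notMem_supp.mp (Finset.disjoint_right.mp hd hp), zero_add, one_mul]; exact mem_supp.mp hp
  have no_three : ∀ i, (supp (c i)).card ≠ 3 := fun i h3 => by
    obtain ⟨p, hp⟩ := exists_notMem (s := supp (c i)) (by omega)
    obtain ⟨j, hj⟩ := exists_row D (g := g) p
    have hij : i ≠ j := fun e => hp (mem_supp.mpr (by rw [hc, e]; exact hj))
    have hsub : supp (c i) ⊂ U i j := (Finset.ssubset_iff_of_subset (by rw [hU]; exact Finset.subset_union_left)).mpr
      ⟨p, by rw [hU]; exact Finset.mem_union_right _ (mem_supp.mpr (by rw [hc]; exact hj)), hp⟩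
    have := Finset.card_lt_card hsub
    have := (key i j hij).1
    omega
  obtain ⟨i, hi⟩ := exists_col D hnm
  have hi' : 2 ≤ (supp (c i)).card := by rw [hc]; exact hi
  obtain ⟨j₁, hj₁⟩ := exists_notMem (s := ({i} : Finset (Fin n))) (by rw [Finset.card_singleton]; omega)
  rw [Finset.mem_singleton] at hj₁
  have hle : (supp (c i)).card ≤ 3 := (Finset.card_le_card (by rw [hU]; exact Finset.subset_union_left)).trans
    (key i j₁ (Ne.symm hj₁)).1
  have h2 : (supp (c i)).card = 2 := by have := no_three i; omega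
  obtain ⟨p, hp⟩ := exists_notMem (s := supp (c i)) (by omega)
  obtain ⟨j, hj⟩ := exists_row D (g := g) p
  have hij : i ≠ j := fun e => hp (mem_supp.mpr (by rw [hc, e]; exact hj))
  have hpj : p ∈ supp (c j) := mem_supp.mpr (by rw [hc]; exact hj)
  by_cases hd : Disjoint (supp (c i)) (supp (c j))
  · have hsub : supp (c i) ⊂ U i j := (Finset.ssubset_iff_of_subset (by rw [hU]; exact Finset.subset_union_left)).mpr
      ⟨p, by rw [hU]; exact Finset.mem_union_right _ hpj, hp⟩
    have := Finset.card_lt_card hsub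
    have := (key i j hij).2 hd
    omega
  obtain ⟨a, hai, haj⟩ := Finset.not_disjoint_iff.mp hd
  have horth : φ (c i) (c j) = 0 := by rw [hc, iso D hg, single_herm D, Pi.single_eq_of_ne hij, map_zero, mul_zero]
  obtain ⟨b, hb, hba⟩ : ∃ b, (b ∈ supp (c i) ∧ b ∈ supp (c j)) ∧ b ≠ a := by
    by_contra hno
    push Not at hno
    rw [herm_sum D, Finset.sum_eq_single a (fun t _ hta => ?_) (fun h => absurd (Finset.mem_univ a) h)] at horth
    · exact mul_ne_zero (mem_supp.mp hai) ((map_ne_zero σ).mpr (mem_supp.mp haj)) horth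
    · by_contra h
      exact hta (hno t ⟨mem_supp.mpr (left_ne_zero_of_mul h),
        mem_supp.mpr fun e => right_ne_zero_of_mul h (by rw [e, map_zero])⟩)
  have h3 : 3 ≤ (supp (c j)).card := by
    have hpa : p ≠ a := fun e => hp (e ▸ hai)
    have hpb : p ≠ b := fun e => hp (e ▸ hb.1)
    refine le_trans ?_ (Finset.card_le_card (show ({p, a, b} : Finset (Fin n)) ⊆ supp (c j) by
      simp [Finset.insert_subset_iff, hpj, haj, hb.2]))
    rw [Finset.card_insert_of_notMem (by simp [hpa, hpb]), Finset.card_pair (Ne.symm hba)]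
  have hle' : (supp (c j)).card ≤ 3 := (Finset.card_le_card (by rw [hU]; exact Finset.subset_union_right)).trans
    (key i j hij).1
  exact no_three j (by omega)

theorem good_of_centre {w : Vn} (hw : HasT (q := q) (K := K) w) (h3 : 3 ≤ (supp w).card)
    (hlt : (supp w).card < n) : ∃ r, Good q σ K r ∧ 2 ≤ (supp r).card := by
  classical
  obtain ⟨g, hg, hgw⟩ := hw
  obtain ⟨o, ho⟩ := exists_notMem hlt
  rw [notMem_supp] at ho
  obtain ⟨s, hs, hs3⟩ := Finset.exists_subset_card_eq h3
  obtain ⟨j, a, b, hja, hjb, hab, hse⟩ := Finset.card_eq_three.mp hs3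
  subst hse
  have hne : ∀ p ∈ ({j, a, b} : Finset (Fin n)), w p ≠ 0 := fun p hp => mem_supp.mp (hs hp)
  refine good_of_line D hg (not_isMon (j := j) hab ?_ ?_) (a := o) (b := o) (c := 1) ?_
  · rw [hgw, single_herm D, one_mul, Pi.add_apply, Pi.smul_apply, Pi.single_eq_of_ne (Ne.symm hja), zero_add, smul_eq_mul]
    exact mul_ne_zero ((map_ne_zero σ).mpr (hne j (by simp))) (hne a (by simp))
  · rw [hgw, single_herm D, one_mul, Pi.add_apply, Pi.smul_apply, Pi.single_eq_of_ne (Ne.symm hjb), zero_add, smul_eq_mul]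
    exact mul_ne_zero ((map_ne_zero σ).mpr (hne j (by simp))) (hne b (by simp))
  · rw [hgw, single_herm D, ho, map_zero, mul_zero, zero_smul, add_zero]

end Cfsg.Agent.Classical.UFrame
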