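/-
Two sign-free swaps of coordinates: zero entries and short centres in all dimensions from six on.
-/
import Cfsg.Agent.Lib.Classical.UFrameSeedEven

set_option autoImplicit false
set_option linter.unusedSectionVars false

namespace Cfsg.Agent.Classical.UFrame

open Matrix Cfsg.Geo
open Cfsg.Agent.Classical
open Cfsg.Agent.Classical.LMon (IsMon)

universe u

section Scalars

variable {q : ℕ} {F : Type u} [Field F] [Fintype F] [DecidableEq F] {σ : F ≃+* F} (hσ : IsUSigma q σ)

include hσ

/-- In odd characteristic the norm one elements have more traces. -/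
theorem card_trace_one (h2 : (2 : F) ≠ 0) : q + 3 ≤ 2 * ((muF σ).image fun z => z + σ z).card := by
  obtain ⟨A, hA⟩ : ∃ A, A = (muF σ \ {1, -1}).image fun z => z + σ z := ⟨_, rfl⟩
  have hA2 : q + 1 - 2 ≤ 2 * A.card := by
    refine le_trans ?_ (hA ▸ Finset.card_le_mul_card_image (f := fun z => z + σ z) (muF σ \ {1, -1}) 2 fun t ht => ?_)
    · have h1 := Finset.le_card_sdiff ({1, -1} : Finset F) (muF σ)
      have := Finset.card_le_two (a := (1 : F)) (b := -1)
      rw [card_muF hσ] at h1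
      omega
    obtain ⟨z, hz, rfl⟩ := Finset.mem_image.mp ht
    refine (Finset.card_le_card (show _ ⊆ ({z, σ z} : Finset F) from fun w hw => ?_)).trans Finset.card_le_two
    obtain ⟨hw, he⟩ := Finset.mem_filter.mp hw
    have hw' := mem_muF.mp (Finset.mem_sdiff.mp hw).1
    have hz' := mem_muF.mp (Finset.mem_sdiff.mp hz).1
    rcases mul_eq_zero.mp (show (w - z) * (w - σ z) = 0 by linear_combination w * he + hz' - hw') with h | h
    · exact Finset.mem_insert.mpr (Or.inl (sub_eq_zero.mp h))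
    · exact Finset.mem_insert.mpr (Or.inr (Finset.mem_singleton.mpr (sub_eq_zero.mp h)))
  have hout : ∀ e : F, (e = 1 ∨ e = -1) → 2 * e ∉ A := fun e he h => by
    obtain ⟨z, hz, hz2⟩ := Finset.mem_image.mp (hA ▸ h)
    have hz' := mem_muF.mp (Finset.mem_sdiff.mp hz).1
    have hne := (Finset.mem_sdiff.mp hz).2
    simp only [Finset.mem_insert, Finset.mem_singleton, not_or] at hne
    have hee : e * e = 1 := by rcases he with rfl | rfl <;> ring
    have := (mul_self_eq_zero).mp (show (z - e) * (z - e) = 0 by linear_combination z * hz2 - hz' + hee)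
    rcases he with rfl | rfl
    · exact hne.1 (sub_eq_zero.mp this)
    · exact hne.2 (sub_eq_zero.mp this)
  have h4 : (2 : F) * 1 ≠ 2 * -1 := fun h => mul_ne_zero h2 h2 (by linear_combination h)
  have hsub : insert ((2 : F) * 1) (insert (2 * -1) A) ⊆ (muF σ).image fun z => z + σ z := by
    intro x hx
    simp only [Finset.mem_insert] at hx
    rcases hx with rfl | rfl | hx
    · exact Finset.mem_image.mpr ⟨1, one_mem_muF, by rw [map_one]; ring⟩
    · exact Finset.mem_image.mpr ⟨-1, neg_mem_muF one_mem_muF, by rw [map_neg, map_one]; ring⟩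
    · exact Finset.image_subset_image Finset.sdiff_subset (hA ▸ hx)
  have := Finset.card_le_card hsub
  rw [Finset.card_insert_of_notMem (by
    rw [Finset.mem_insert, not_or]; exact ⟨h4, hout 1 (Or.inl rfl)⟩),
    Finset.card_insert_of_notMem (hout (-1) (Or.inr rfl))] at this
  omega

/-- Two traces of norm one elements with given sum, the first one not an edge value. -/
theorem exists_trace_pair (h2 : (2 : F) ≠ 0) {s : F} (hs : σ s = s) :
    ∃ Z W, Z * σ Z = 1 ∧ W * σ W = 1 ∧ Z + σ Z + (W + σ W) = s ∧ Z ≠ 1 ∧ Z ≠ -1 := by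
  obtain ⟨A, hA⟩ : ∃ A, A = (muF σ).image fun z => z + σ z := ⟨_, rfl⟩
  have hc := hA ▸ card_trace_one hσ h2
  have hfix : A ∪ A.image (fun y => s - y) ⊆ fixF σ := fun x hx => by
    have key : ∀ y ∈ A, σ y = y := fun y hy => by
      obtain ⟨z, -, rfl⟩ := Finset.mem_image.mp (hA ▸ hy)
      rw [map_add, hσ.involutive, add_comm]
    rcases Finset.mem_union.mp hx with h | h
    · exact mem_fixF.mpr (key x h)
    · obtain ⟨y, hy, rfl⟩ := Finset.mem_image.mp h
      exact mem_fixF.mpr (by rw [map_sub, hs, key y hy])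
  have h3 : 2 < (A ∩ A.image fun y => s - y).card := by
    have h1 := Finset.card_union_add_card_inter A (A.image fun y => s - y)
    have h5 := Finset.card_le_card hfix
    rw [card_fixF hσ] at h5
    rw [Finset.card_image_of_injective _ fun x y h => by simpa using h] at h1
    omega
  obtain ⟨T, hT, hT'⟩ := Finset.exists_mem_notMem_of_card_lt_card
    (s := ({2, -2} : Finset F)) (lt_of_le_of_lt Finset.card_le_two h3)
  obtain ⟨hT1, hT2⟩ := Finset.mem_inter.mp hT
  obtain ⟨Z, hZ, rfl⟩ := Finset.mem_image.mp (hA ▸ hT1)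
  obtain ⟨y, hy, hy'⟩ := Finset.mem_image.mp hT2
  obtain ⟨W, hW, rfl⟩ := Finset.mem_image.mp (hA ▸ hy)
  simp only [Finset.mem_insert, Finset.mem_singleton, not_or] at hT'
  exact ⟨Z, W, mem_muF.mp hZ, mem_muF.mp hW, by linear_combination -hy',
    fun e => hT'.1 (by rw [e, map_one]; ring), fun e => hT'.2 (by rw [e, map_neg, map_one]; ring)⟩

/-- In characteristic two one of two traces may avoid a value. -/
theorem exists_trace_sum_ne (htwo : (2 : F) = 0) {a b : F} (ha : a ≠ 0) (hb : b ≠ 0) {t : F} (ht : σ t = t) (c : F) :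
    ∃ z w, z * σ z = 1 ∧ w * σ w = 1 ∧ z * a + σ (z * a) + (w * b + σ (w * b)) = t ∧ w * b + σ (w * b) ≠ c := by
  obtain ⟨A, hA⟩ : ∃ A, A = (muF σ).image fun z => z * a + σ (z * a) := ⟨_, rfl⟩
  obtain ⟨B, hB⟩ : ∃ B, B = (muF σ).image fun z => z * b + σ (z * b) := ⟨_, rfl⟩
  have hcA := hA ▸ card_trace hσ ha
  have hcB := hB ▸ card_trace hσ hb
  have key : ∀ x : F, ∀ y ∈ (muF σ).image (fun z => z * x + σ (z * x)), σ y = y := fun x y hy => by
    obtain ⟨z, -, rfl⟩ := Finset.mem_image.mp hy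
    rw [map_add, hσ.involutive, add_comm]
  have hfix : B ∪ A.image (fun y => t - y) ⊆ fixF σ := fun x hx => by
    rcases Finset.mem_union.mp hx with h | h
    · exact mem_fixF.mpr (key b x (hB ▸ h))
    · obtain ⟨y, hy, rfl⟩ := Finset.mem_image.mp h
      exact mem_fixF.mpr (by rw [map_sub, ht, key a y (hA ▸ hy)])
  have hodd : ¬ Odd q := fun h => hσ.odd_iff.mp h htwo
  have h2' : 1 < (B ∩ A.image fun y => t - y).card := by
    have h1 := Finset.card_union_add_card_inter B (A.image fun y => t - y)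
    have h5 := Finset.card_le_card hfix
    rw [card_fixF hσ] at h5
    rw [Finset.card_image_of_injective _ fun x y h => by simpa using h] at h1
    obtain ⟨m, rfl⟩ := Nat.not_odd_iff_even.mp hodd
    omega
  obtain ⟨T, hT, hTc⟩ := Finset.exists_mem_ne h2' c
  obtain ⟨hT1, hT2⟩ := Finset.mem_inter.mp hT
  obtain ⟨w, hw, rfl⟩ := Finset.mem_image.mp (hB ▸ hT1)
  obtain ⟨y, hy, hy'⟩ := Finset.mem_image.mp hT2
  obtain ⟨z, hz, rfl⟩ := Finset.mem_image.mp (hA ▸ hy)
  exact ⟨z, w, mem_muF.mp hz, mem_muF.mp hw, by linear_combination -hy', hTc⟩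

end Scalars

variable {n q : ℕ} {F : Type u} [Field F] [Fintype F] {σ : F ≃+* F}

local notation "φ" => hermForm n F q
local notation "Gl" => GL (Fin n) F
local notation "Vn" => Fin n → F
local notation:max g:max " ⬝ₘ " x:max => ((g : Gl) : Matrix (Fin n) (Fin n) F) *ᵥ x

/-- Two further coordinates in one class. -/
theorem exists_same {α : Type} [DecidableEq α] (hn : 3 ≤ n) (s : Finset (Fin n)) (hs : s.card + 3 ≤ n)
    (f : Fin n → α) {a b : α} (hf : ∀ p, f p = a ∨ f p = b) : ∃ l h, l ∉ s ∧ h ∉ s ∧ l ≠ h ∧ f l = f h := by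
  obtain ⟨l, hl, h, hh, hlh, e⟩ := Finset.exists_ne_map_eq_of_card_lt_of_maps_to (s := sᶜ)
    (t := ({a, b} : Finset α)) (f := f) (by
      rw [Finset.card_compl, Fintype.card_fin]
      have := Finset.card_le_two (a := a) (b := b)
      omega) (fun p _ => by simpa using hf p)
  exact ⟨l, h, Finset.mem_compl.mp hl, Finset.mem_compl.mp hh, hlh, e⟩

variable {K : Subgroup (GL (Fin n) F)} (D : Data q σ K)

include D

/-- Two swaps with phases. -/
theorem exists_two_swaps {i j l h : Fin n} (hij : i ≠ j) (hil : i ≠ l) (hih : i ≠ h) (hjl : j ≠ l) (hjh : j ≠ h)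
    (hlh : l ≠ h) (u : Vn) {z w : F} (hz : z * σ z = 1) (hw : w * σ w = 1) :
    ∃ m ∈ K, (∀ p ∉ ({i, j, l, h} : Finset (Fin n)), (m ⬝ₘ u) p = u p) ∧
      (m ⬝ₘ u) i = σ z * u j ∧ (m ⬝ₘ u) j = z * u i ∧ (m ⬝ₘ u) l = σ w * u h ∧ (m ⬝ₘ u) h = w * u l ∧
      φ (m ⬝ₘ u) u = z * (u i * σ (u j)) + σ (z * (u i * σ (u j))) +
        (w * (u l * σ (u h)) + σ (w * (u l * σ (u h)))) + ∑ p ∈ ({i, j, l, h} : Finset (Fin n))ᶜ, u p * σ (u p) := by
  classical
  obtain ⟨π, hπ⟩ : ∃ π : Equiv.Perm (Fin n), π = Equiv.swap i j * Equiv.swap l h := ⟨_, rfl⟩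
  obtain ⟨θ, hθ⟩ : ∃ θ : Fin n → F,
      θ = fun p => if p = i then z else if p = j then σ z else if p = l then w else if p = h then σ w else 1 := ⟨_, rfl⟩
  have hn : ∀ {x : F}, x * σ x = 1 → σ x * σ (σ x) = 1 := fun hx => by rw [← map_mul, hx, map_one]
  have hsub : ∏ p, θ p = ∏ p ∈ ({i, j, l, h} : Finset (Fin n)), θ p :=
    (Finset.prod_subset (Finset.subset_univ _) fun p _ hp => by
      simp only [Finset.mem_insert, Finset.mem_singleton, not_or] at hp
      simp [hθ, hp.1, hp.2.1, hp.2.2.1, hp.2.2.2]).symm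
  obtain ⟨m, hm, hmv⟩ := exists_mon D π θ (fun p => by
      rw [hθ]; dsimp only; split_ifs
      exacts [hz, hn hz, hw, hn hw, by rw [map_one, one_mul]]) (by
      rw [hπ, map_mul, Equiv.Perm.sign_swap hij, Equiv.Perm.sign_swap hlh, hsub,
        Finset.prod_insert (by simp [hij, hil, hih]), Finset.prod_insert (by simp [hjl, hjh]), Finset.prod_pair hlh]
      simp [hθ, hij.symm, hil.symm, hih.symm, hjl.symm, hjh.symm, hlh.symm]
      linear_combination (w * σ w) * hz + hw)
  have hπi : π i = j := by rw [hπ, Equiv.Perm.mul_apply, Equiv.swap_apply_of_ne_of_ne hil hih, Equiv.swap_apply_left]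
  have hπj : π j = i := by rw [hπ, Equiv.Perm.mul_apply, Equiv.swap_apply_of_ne_of_ne hjl hjh, Equiv.swap_apply_right]
  have hπl : π l = h := by
    rw [hπ, Equiv.Perm.mul_apply, Equiv.swap_apply_left, Equiv.swap_apply_of_ne_of_ne hih.symm hjh.symm]
  have hπh : π h = l := by
    rw [hπ, Equiv.Perm.mul_apply, Equiv.swap_apply_right, Equiv.swap_apply_of_ne_of_ne hil.symm hjl.symm]
  have ei : (m ⬝ₘ u) i = σ z * u j := by
    have := hmv u j
    rw [hπj] at this
    simpa [hθ, hij.symm] using this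
  have ej : (m ⬝ₘ u) j = z * u i := by
    have := hmv u i
    rw [hπi] at this
    simpa [hθ] using this
  have el : (m ⬝ₘ u) l = σ w * u h := by
    have := hmv u h
    rw [hπh] at this
    simpa [hθ, hih.symm, hjh.symm, hlh.symm] using this
  have eh : (m ⬝ₘ u) h = w * u l := by
    have := hmv u l
    rw [hπl] at this
    simpa [hθ, hil.symm, hjl.symm] using this
  have eo : ∀ p ∉ ({i, j, l, h} : Finset (Fin n)), (m ⬝ₘ u) p = u p := fun p hp => by
    simp only [Finset.mem_insert, Finset.mem_singleton, not_or] at hp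
    have := hmv u p
    rw [hπ, Equiv.Perm.mul_apply, Equiv.swap_apply_of_ne_of_ne hp.2.2.1 hp.2.2.2,
      Equiv.swap_apply_of_ne_of_ne hp.1 hp.2.1] at this
    simpa [hθ, hp.1, hp.2.1, hp.2.2.1, hp.2.2.2] using this
  refine ⟨m, hm, eo, ei, ej, el, eh, ?_⟩
  rw [herm_sum D, ← Finset.sum_add_sum_compl ({i, j, l, h} : Finset (Fin n)),
    Finset.sum_congr (s₁ := ({i, j, l, h} : Finset (Fin n))ᶜ) rfl fun p hp => by rw [eo p (Finset.mem_compl.mp hp)],
    Finset.sum_insert (by simp [hij, hil, hih]), Finset.sum_insert (by simp [hjl, hjh]), Finset.sum_pair hlh,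
    ei, ej, el, eh, map_mul, map_mul, map_mul, map_mul, D.sig.involutive, D.sig.involutive]
  ring

/-- Four phases on the diagonal. -/
theorem exists_four_phases {i j l h : Fin n} (hij : i ≠ j) (hil : i ≠ l) (hih : i ≠ h) (hjl : j ≠ l) (hjh : j ≠ h)
    (hlh : l ≠ h) {z w : F} (hz : z * σ z = 1) (hw : w * σ w = 1) :
    ∃ t ∈ K, ∀ (v : Vn) p, (t ⬝ₘ v) p =
      (if p = i then σ z else if p = j then z else if p = l then σ w else if p = h then w else 1) * v p := by
  classical
  have hn : ∀ {x : F}, x * σ x = 1 → σ x * σ (σ x) = 1 := fun hx => by rw [← map_mul, hx, map_one]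
  refine exists_tor D _ (fun p => by
      split_ifs
      exacts [hn hz, hz, hn hw, hw, by rw [map_one, one_mul]]) ?_
  rw [← Finset.prod_subset (Finset.subset_univ ({i, j, l, h} : Finset (Fin n))) fun p _ hp => by
      simp only [Finset.mem_insert, Finset.mem_singleton, not_or] at hp
      simp [hp.1, hp.2.1, hp.2.2.1, hp.2.2.2],
    Finset.prod_insert (by simp [hij, hil, hih]), Finset.prod_insert (by simp [hjl, hjh]), Finset.prod_pair hlh]
  simp [hij.symm, hil.symm, hih.symm, hjl.symm, hjh.symm, hlh.symm]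
  linear_combination (w * σ w) * hz + hw

/-- In odd characteristic a column without zeros gives an element off the monomial group with a zero entry. -/
theorem exists_zero_entry (h6 : 6 ≤ n) (h2 : (2 : F) ≠ 0) {g : Gl} (hg : g ∈ K) {a : Fin n}
    (hz : ∀ p, (g ⬝ₘ (Pi.single a 1)) p ≠ 0) :
    ∃ x ∈ K, ¬ IsMon (x : Matrix (Fin n) (Fin n) F) ∧ ∃ k b, (x ⬝ₘ (Pi.single b 1)) k = 0 := by
  classical
  have hn := D.npos
  by_contra hcon
  push Not at hcon
  obtain ⟨u, hu⟩ : ∃ u : Vn, u = g ⬝ₘ (Pi.single a 1) := ⟨_, rfl⟩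
  have hu0 : ∀ p, u p ≠ 0 := fun p => hu ▸ hz p
  obtain ⟨C, hC⟩ : ∃ C : Fin n → Vn, C = fun e => g ⬝ₘ (Pi.single e 1) := ⟨_, rfl⟩
  have key : ∀ m ∈ K, φ (m ⬝ₘ u) u = 0 → ∃ e, e ≠ a ∧ ∃ c, c * σ c = 1 ∧ m ⬝ₘ u = c • C e := by
    intro m hm hφ
    obtain ⟨y, hy⟩ : ∃ y, y = g⁻¹ * m * g := ⟨_, rfl⟩
    have hyK : y ∈ K := hy ▸ mul_mem (mul_mem (inv_mem hg) hm) hg
    have hya : y ⬝ₘ (Pi.single a 1) = ((g⁻¹ : Gl)) ⬝ₘ (m ⬝ₘ u) := by rw [hy, gl_mul_mulVec, gl_mul_mulVec, hu]
    have hzero : (y ⬝ₘ (Pi.single a 1)) a = 0 := by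
      have h := iso D hg (((g⁻¹ : Gl)) ⬝ₘ (m ⬝ₘ u)) (Pi.single a 1)
      rw [gl_mulVec_inv_cancel, ← hu, hφ, herm_coord D, map_one, mul_one] at h
      rw [hya]
      exact h.symm
    have hym : IsMon (y : Matrix (Fin n) (Fin n) F) := by
      by_contra h
      exact hcon y hyK h a a hzero
    obtain ⟨e, he⟩ := hym a
    obtain ⟨c, hc⟩ : ∃ c, c = (y ⬝ₘ (Pi.single a 1)) e := ⟨_, rfl⟩
    have hcol : y ⬝ₘ (Pi.single a 1) = Pi.single e c := funext fun p => by
      by_cases hp : p = e
      · rw [hp, Pi.single_eq_same, hc]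
      · rw [Pi.single_eq_of_ne hp, mulVec_single_one, col_apply, he p hp]
    have hcn : c * σ c = 1 := by
      have h := iso D hyK (Pi.single a 1) (Pi.single a 1)
      rwa [hcol, single_herm D, single_herm D, Pi.single_eq_same, Pi.single_eq_same, map_one, one_mul] at h
    refine ⟨e, fun h => ?_, c, hcn, ?_⟩
    · rw [hcol, h, Pi.single_eq_same] at hzero
      exact left_ne_zero_of_mul_eq_one hcn hzero
    · have h := congrArg (fun v => g ⬝ₘ v) (hya.symm.trans hcol)
      simp only [gl_mulVec_inv_cancel] at h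
      rw [h, single_smul' e c, mulVec_smul, hC]
  obtain ⟨x, hx⟩ : ∃ x : Fin n → F, x = fun p => u p * σ (u p) := ⟨_, rfl⟩
  have hxp : ∀ p, u p * σ (u p) = x p := fun p => by rw [hx]
  have hsum : ∑ p, x p = 1 := by
    rw [hx, ← herm_sum D, hu, iso D hg, single_herm D, Pi.single_eq_same, map_one, one_mul]
  obtain ⟨o, ho⟩ : ∃ o : Fin n, o = ⟨0, by omega⟩ := ⟨_, rfl⟩
  by_cases hconst : ∀ p, x p = x o
  · -- all norms equal
    obtain ⟨c₀, hc₀⟩ : ∃ c₀, c₀ = x o := ⟨_, rfl⟩
    have hnx : (n : F) * c₀ = 1 := by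
      rw [← hsum, Finset.sum_congr rfl fun p _ => hconst p, ← hc₀, Finset.sum_const, Finset.card_univ, Fintype.card_fin,
        nsmul_eq_mul]
    obtain ⟨Z, W, hZ, hW, hZW, hZ1, hZ2⟩ := exists_trace_pair D.sig h2 (s := 4 - (n : F))
      (by rw [map_sub, map_ofNat, map_natCast])
    let i : Fin n := ⟨0, by omega⟩
    let j : Fin n := ⟨1, by omega⟩
    let l : Fin n := ⟨2, by omega⟩
    let h : Fin n := ⟨3, by omega⟩
    let r : Fin n := ⟨4, by omega⟩
    let s : Fin n := ⟨5, by omega⟩
    have hnorm : ∀ {z : F}, z * σ z = 1 → σ z * z = 1 := fun hz => by rw [mul_comm]; exact hz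
    have hherm : ∀ t t' : Fin n → F, φ (fun p => t p * u p) (fun p => t' p * u p) = c₀ * ∑ p, t p * σ (t' p) :=
      fun t t' => by
      rw [herm_sum D, Finset.mul_sum]
      refine Finset.sum_congr rfl fun p _ => ?_
      rw [map_mul, hc₀, ← hconst p, ← hxp]
      ring
    obtain ⟨ρ, hρ⟩ : ∃ ρ : Fin n → Fin n → Fin n → F, ρ = fun a b p =>
        if p = a then σ Z else if p = b then Z else if p = l then σ W else if p = h then W else 1 := ⟨_, rfl⟩
    -- one option for each ordered pair of places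
    have opt : ∀ {a' b'}, a' ≠ b' → a' ≠ l → a' ≠ h → b' ≠ l → b' ≠ h →
        ∃ e c, c * σ c = 1 ∧ (fun p => ρ a' b' p * u p) = c • C e := by
      intro a' b' h1 h2' h3 h4 h5
      have hlh : l ≠ h := by simp [l, h, Fin.ext_iff]
      obtain ⟨t, ht, htv⟩ := exists_four_phases D h1 h2' h3 h4 h5 hlh hZ hW
      have hte : t ⬝ₘ u = fun p => ρ a' b' p * u p := funext fun p => by rw [htv, hρ]
      obtain ⟨e, -, c, hc, he⟩ := key t ht (by
        rw [hte]
        have := hherm (ρ a' b') (fun _ => 1)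
        simp only [one_mul, map_one, mul_one] at this
        rw [this]
        have hs : ∑ p, (ρ a' b' p - 1) = Z + σ Z + (W + σ W) - 4 := by
          rw [← Finset.sum_subset (Finset.subset_univ ({a', b', l, h} : Finset (Fin n))) fun p _ hp => by
              simp only [Finset.mem_insert, Finset.mem_singleton, not_or] at hp
              simp [hρ, hp.1, hp.2.1, hp.2.2.1, hp.2.2.2],
            Finset.sum_insert (by simp [h1, h2', h3]), Finset.sum_insert (by simp [h4, h5]), Finset.sum_pair hlh]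
          simp [hρ, h1.symm, h2'.symm, h3.symm, h4.symm, h5.symm, hlh.symm]
          ring
        rw [Finset.sum_sub_distrib, Finset.sum_const, Finset.card_univ, Fintype.card_fin, nsmul_eq_mul, mul_one,
          hZW, sub_eq_iff_eq_add] at hs
        rw [hs]; ring)
      exact ⟨e, c, hc, hte ▸ he⟩
    have same : ∀ {a' b' a'' b''}, a' ≠ r → b' ≠ r → a'' ≠ r → b'' ≠ r →
        a' ≠ b' → a' ≠ l → a' ≠ h → b' ≠ l → b' ≠ h → a'' ≠ b'' → a'' ≠ l → a'' ≠ h → b'' ≠ l → b'' ≠ h →
        ∑ p, ρ a' b' p * σ (ρ a'' b'' p) ≠ 0 → ∀ p, ρ a' b' p = ρ a'' b'' p := by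
      intro a' b' a'' b'' r1 r2 r3 r4 h1 h2' h3 h4 h5 k1 k2 k3 k4 k5 hne p
      obtain ⟨e, c, hc, he⟩ := opt h1 h2' h3 h4 h5
      obtain ⟨e', c', hc', he'⟩ := opt k1 k2 k3 k4 k5
      have hee : e = e' := by
        by_contra hne'
        refine hne ((mul_eq_zero.mp ?_).resolve_left (left_ne_zero_of_mul_eq_one ((mul_comm _ _).trans hnx)))
        rw [← hherm, he, he', (semi D).smul_left, (semi D).smul_right, hC, iso D hg, single_herm D,
          Pi.single_eq_of_ne hne', map_zero, mul_zero, mul_zero, mul_zero]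
      subst hee
      have hr' : ∀ a₀ b₀, a₀ ≠ r → b₀ ≠ r → ρ a₀ b₀ r = 1 := fun a₀ b₀ q1 q2 => by
        have g1 : r ≠ l := by simp [r, l, Fin.ext_iff]
        have g2 : r ≠ h := by simp [r, h, Fin.ext_iff]
        simp [hρ, q1.symm, q2.symm, g1, g2]
      have h0 : ∀ p, c' * (ρ a' b' p * u p) = c * (ρ a'' b'' p * u p) := fun p => by
        have e1 := congrFun he p
        have e2 := congrFun he' p
        rw [Pi.smul_apply, smul_eq_mul] at e1 e2
        rw [e1, e2]; ring
      have hcc : c' = c := by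
        have := h0 r
        rw [hr' _ _ r1 r2, hr' _ _ r3 r4, one_mul] at this
        exact mul_right_cancel₀ (hu0 r) this
      have := h0 p
      rw [hcc] at this
      exact mul_right_cancel₀ (hu0 p) (mul_left_cancel₀ (left_ne_zero_of_mul_eq_one hc) this)
    have dist : ∀ {a' b' a'' b''} (S : Finset (Fin n)), (∀ p ∉ S, ρ a' b' p = ρ a'' b'' p) →
        ∑ p, ρ a' b' p * σ (ρ a'' b'' p) = (n : F) + ∑ p ∈ S, (ρ a' b' p * σ (ρ a'' b'' p) - 1) := by
      intro a' b' a'' b'' S hS
      rw [Finset.sum_subset (Finset.subset_univ S) fun p _ hp => by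
          rw [hS p hp, hρ]; dsimp only
          split_ifs <;> simp [hnorm hZ, hZ, hnorm hW, hW, D.sig.involutive],
        Finset.sum_sub_distrib, Finset.sum_const, Finset.card_univ, Fintype.card_fin, nsmul_eq_mul, mul_one]
      ring
    by_cases hT : (n : F) - 2 + (Z + σ Z) = 0
    · -- the cyclic move
      have h1 := dist (a' := i) (b' := j) (a'' := s) (b'' := i) {i, j, s} fun p hp => by
        simp only [Finset.mem_insert, Finset.mem_singleton, not_or] at hp
        simp [hρ, hp.1, hp.2.1, hp.2.2]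
      rw [Finset.sum_insert (by simp [i, j, s, Fin.ext_iff]), Finset.sum_pair (by simp [j, s, Fin.ext_iff])] at h1
      simp [hρ, i, j, l, h, s, Fin.ext_iff, D.sig.involutive] at h1
      have h3 := same (a' := i) (b' := j) (a'' := s) (b'' := i)
        (by simp [i, r, Fin.ext_iff]) (by simp [j, r, Fin.ext_iff]) (by simp [s, r, Fin.ext_iff])
        (by simp [i, r, Fin.ext_iff]) (by simp [i, j, Fin.ext_iff]) (by simp [i, l, Fin.ext_iff])
        (by simp [i, h, Fin.ext_iff]) (by simp [j, l, Fin.ext_iff]) (by simp [j, h, Fin.ext_iff])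
        (by simp [s, i, Fin.ext_iff]) (by simp [s, l, Fin.ext_iff]) (by simp [s, h, Fin.ext_iff])
        (by simp [i, l, Fin.ext_iff]) (by simp [i, h, Fin.ext_iff])
        (by
          intro h0
          simp [hρ, i, j, l, h, s, Fin.ext_iff] at h0
          rw [h1] at h0
          have : (Z - σ Z) * (1 - σ Z) = 0 := by linear_combination h0 - hT - hZ
          rcases mul_eq_zero.mp this with h4 | h4
          · rcases mul_self_eq_one_iff.mp (show Z * Z = 1 by linear_combination Z * h4 + hZ) with h5 | h5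
            exacts [hZ1 h5, hZ2 h5]
          · exact hZ1 (by linear_combination Z * h4 + hZ))
        j
      simp [hρ, i, j, l, h, s, Fin.ext_iff] at h3
      exact hZ1 h3
    · -- a single move
      have h1 := dist (a' := i) (b' := j) (a'' := i) (b'' := s) {j, s} fun p hp => by
        simp only [Finset.mem_insert, Finset.mem_singleton, not_or] at hp
        simp [hρ, hp.1, hp.2]
      rw [Finset.sum_pair (by simp [j, s, Fin.ext_iff])] at h1
      simp [hρ, i, j, l, h, s, Fin.ext_iff] at h1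
      have h3 := same (a' := i) (b' := j) (a'' := i) (b'' := s)
        (by simp [i, r, Fin.ext_iff]) (by simp [j, r, Fin.ext_iff]) (by simp [i, r, Fin.ext_iff])
        (by simp [s, r, Fin.ext_iff]) (by simp [i, j, Fin.ext_iff]) (by simp [i, l, Fin.ext_iff])
        (by simp [i, h, Fin.ext_iff]) (by simp [j, l, Fin.ext_iff]) (by simp [j, h, Fin.ext_iff])
        (by simp [i, s, Fin.ext_iff]) (by simp [i, l, Fin.ext_iff]) (by simp [i, h, Fin.ext_iff])
        (by simp [s, l, Fin.ext_iff]) (by simp [s, h, Fin.ext_iff])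
        (by
          intro h0
          simp [hρ, i, j, l, h, s, Fin.ext_iff] at h0
          rw [h1] at h0
          exact hT (by linear_combination h0))
        j
      simp [hρ, i, j, l, h, s, Fin.ext_iff] at h3
      exact hZ1 h3
  -- two classes of norms
  push Not at hconst
  obtain ⟨p₀, hp₀⟩ := hconst
  obtain ⟨S, hS⟩ : ∃ S : Finset (Fin n), S = Finset.univ.filter fun p => x p = x o := ⟨_, rfl⟩
  obtain ⟨P, hP⟩ : ∃ P : Fin n → Finset (Fin n),
      P = fun e => Finset.univ.filter fun p => C e p * σ (C e p) = x o := ⟨_, rfl⟩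
  have opt : ∀ i j l h, i ≠ j → i ≠ l → i ≠ h → j ≠ l → j ≠ h → l ≠ h →
      (x l = x o ↔ x h = x o) → ∃ e, e ≠ a ∧ ∀ p, p ∈ P e ↔
        (if p = i then x j = x o else if p = j then x i = x o else x p = x o) := by
    intro i j l h hij hil hih hjl hjh hlh hlh'
    obtain ⟨z, w, hz', hw, hzw⟩ := exists_trace_sum D.sig (a := u i * σ (u j)) (b := u l * σ (u h))
      (mul_ne_zero (hu0 i) ((map_ne_zero σ).mpr (hu0 j))) (mul_ne_zero (hu0 l) ((map_ne_zero σ).mpr (hu0 h)))
      (t := -∑ p ∈ ({i, j, l, h} : Finset (Fin n))ᶜ, u p * σ (u p))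
      (by rw [map_neg, map_sum, Finset.sum_congr rfl fun p _ => norm_fix D.sig (u p)])
    obtain ⟨m, hm, eo, ei, ej, el, eh, hφ⟩ := exists_two_swaps D hij hil hih hjl hjh hlh u hz' hw
    rw [hzw, neg_add_cancel] at hφ
    obtain ⟨e, he, c, hc, hme⟩ := key m hm hφ
    have hCe : ∀ p, C e p * σ (C e p) = (m ⬝ₘ u) p * σ ((m ⬝ₘ u) p) := fun p => by
      rw [hme, Pi.smul_apply, smul_eq_mul, map_mul]
      linear_combination -(C e p * σ (C e p)) * hc
    have hnz : ∀ {z : F} (k : Fin n), z * σ z = 1 → z * u k * σ (z * u k) = x k := fun k hz => by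
      rw [map_mul, ← hxp]
      linear_combination (u k * σ (u k)) * hz
    have hσn : ∀ {z : F}, z * σ z = 1 → σ z * σ (σ z) = 1 := fun hz => by rw [← map_mul, hz, map_one]
    refine ⟨e, he, fun p => ?_⟩
    rw [hP, Finset.mem_filter, hCe]
    simp only [Finset.mem_univ, true_and]
    by_cases hpi : p = i
    · rw [if_pos hpi, hpi, ei, hnz j (hσn hz')]
    by_cases hpj : p = j
    · rw [if_neg hpi, if_pos hpj, hpj, ej, hnz i hz']
    rw [if_neg hpi, if_neg hpj]
    by_cases hpl : p = l
    · rw [hpl, el, hnz h (hσn hw)]; exact hlh'.symm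
    by_cases hph : p = h
    · rw [hph, eh, hnz l hw]; exact hlh'
    rw [eo p (by simp [hpi, hpj, hpl, hph]), hxp]
  have hmemS : ∀ p, p ∈ S ↔ x p = x o := fun p => by rw [hS]; simp
  have hf2 : ∀ p, decide (x p = x o) = true ∨ decide (x p = x o) = false := fun p => Bool.eq_false_or_eq_true _
  have hcov : insert S ((S ×ˢ Sᶜ).image fun ab => insert ab.2 (S.erase ab.1)) ⊆ (Finset.univ.erase a).image P := by
    intro T hT
    rw [Finset.mem_insert] at hT
    have fin : ∀ e, e ≠ a → (∀ p, p ∈ P e ↔ p ∈ T) → T ∈ (Finset.univ.erase a).image P := fun e he h =>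
      Finset.mem_image.mpr ⟨e, Finset.mem_erase.mpr ⟨he, Finset.mem_univ e⟩, Finset.ext h⟩
    rcases hT with rfl | hT
    · obtain ⟨i, j, -, -, hij, e1⟩ := exists_same (n := n) (by omega) ∅ (by simp; omega) _ hf2
      obtain ⟨l, h, hl, hh, hlh, e2⟩ := exists_same (n := n) (by omega) {i, j}
        (by have := Finset.card_le_two (a := i) (b := j); omega) _ hf2
      simp only [Finset.mem_insert, Finset.mem_singleton, not_or] at hl hh
      simp only [decide_eq_decide] at e1 e2
      obtain ⟨e, he, hPe⟩ := opt i j l h hij (Ne.symm hl.1) (Ne.symm hh.1) (Ne.symm hl.2) (Ne.symm hh.2) hlh e2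
      refine fin e he fun p => ?_
      rw [hPe, hmemS]
      split_ifs with h1 h2'
      · rw [h1, e1]
      · rw [h2', e1]
      · rfl
    · obtain ⟨⟨i, j⟩, hij', rfl⟩ := Finset.mem_image.mp hT
      rw [Finset.mem_product, Finset.mem_compl] at hij'
      obtain ⟨hi, hj⟩ := hij'
      have hij : i ≠ j := fun e => hj (e ▸ hi)
      obtain ⟨l, h, hl, hh, hlh, e2⟩ := exists_same (n := n) (by omega) {i, j}
        (by have := Finset.card_le_two (a := i) (b := j); omega) _ hf2
      simp only [Finset.mem_insert, Finset.mem_singleton, not_or] at hl hh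
      simp only [decide_eq_decide] at e2
      obtain ⟨e, he, hPe⟩ := opt i j l h hij (Ne.symm hl.1) (Ne.symm hh.1) (Ne.symm hl.2) (Ne.symm hh.2) hlh e2
      rw [hmemS] at hi hj
      refine fin e he fun p => ?_
      rw [hPe, Finset.mem_insert, Finset.mem_erase, hmemS]
      by_cases hpi : p = i
      · simp [hpi, hij, hj]
      by_cases hpj : p = j
      · simp [hpj, hij.symm, hi]
      simp [hpi, hpj]
  have hle := (Finset.card_le_card hcov).trans Finset.card_image_le
  rw [Finset.card_erase_of_mem (Finset.mem_univ a), Finset.card_univ, Fintype.card_fin,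
    Finset.card_insert_of_notMem (fun h => ?_), Finset.card_image_of_injOn (fun ab hab ab' hab' e => ?_),
    Finset.card_product, Finset.card_compl, Fintype.card_fin] at hle
  · have h1 : 1 ≤ S.card := Finset.card_pos.mpr ⟨o, (hmemS o).mpr rfl⟩
    have h3 : S.card < n := by
      have := Finset.card_lt_univ_of_notMem (s := S) (x := p₀) fun h => hp₀ ((hmemS p₀).mp h)
      rwa [Fintype.card_fin] at this
    obtain ⟨k, hk⟩ : ∃ k, n = S.card + (k + 1) := ⟨n - S.card - 1, by omega⟩
    rw [show n - S.card = k + 1 by omega] at hle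
    obtain ⟨s', hs'⟩ : ∃ s', S.card = s' + 1 := ⟨S.card - 1, by omega⟩
    rw [hs'] at hle hk
    have : (s' + 1) * (k + 1) = s' * k + s' + k + 1 := by ring
    omega
  · rw [Finset.mem_coe, Finset.mem_product, Finset.mem_compl] at hab hab'
    have h1 : ab.2 = ab'.2 := by
      have := (Finset.ext_iff.mp e ab.2).mp (Finset.mem_insert_self _ _)
      rcases Finset.mem_insert.mp this with h | h
      · exact h
      · exact absurd (Finset.mem_of_mem_erase h) hab.2
    have h3 : ab.1 = ab'.1 := by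
      by_contra hne
      have hm : ab'.1 ∈ insert ab.2 (S.erase ab.1) :=
        Finset.mem_insert_of_mem (Finset.mem_erase.mpr ⟨fun e => hne e.symm, hab'.1⟩)
      rcases Finset.mem_insert.mp ((Finset.ext_iff.mp e ab'.1).mp hm) with h | h
      · exact hab'.2 (h ▸ hab'.1)
      · exact (Finset.mem_erase.mp h).1 rfl
    exact Prod.ext h3 h1
  · obtain ⟨⟨i, j⟩, hij', e⟩ := Finset.mem_image.mp h
    rw [Finset.mem_product, Finset.mem_compl] at hij'
    exact hij'.2 (e ▸ Finset.mem_insert_self j _)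

/-- A centre without zeros gives a good vector in characteristic two. -/
theorem good_of_full_centre (h6 : 6 ≤ n) (htwo : (2 : F) = 0) (hq : n = 6 → q ≠ 2) {w : Vn} (hw : HasT (q := q) (K := K) w)
    (hww : φ w w = 0) (hall : ∀ p, w p ≠ 0) : ∃ r, Good q σ K r ∧ 2 ≤ (supp r).card := by
  classical
  have hn := D.npos
  have hneg : ∀ y : F, -y = y := fun y => by linear_combination -y * htwo
  -- moving the centre
  have move : ∀ (w : Vn), HasT (q := q) (K := K) w → ∀ m ∈ K,
      HasT (q := q) (K := K) (m ⬝ₘ w + φ (m ⬝ₘ w) w • w) := by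
    intro w hw m hm
    obtain ⟨gw, hgw, hgwv⟩ := hw
    have h1 := hasT_conj D hgw (hasT_conj D hm ⟨gw, hgw, hgwv⟩)
    rwa [hgwv] at h1
  have main : ∀ (w : Vn), HasT (q := q) (K := K) w → φ w w = 0 → (∀ p, w p ≠ 0) →
      ∀ i j, w i * σ (w i) ≠ w j * σ (w j) → ∃ r, Good q σ K r ∧ 2 ≤ (supp r).card := by
    intro w hw hww hall i j hne
    have hij : i ≠ j := fun e => hne (by rw [e])
    obtain ⟨l, hl⟩ := exists_notMem (s := ({i, j} : Finset (Fin n))) (lt_of_le_of_lt Finset.card_le_two (by omega))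
    obtain ⟨h, hh⟩ := exists_notMem (s := ({i, j, l} : Finset (Fin n))) (lt_of_le_of_lt Finset.card_le_three (by omega))
    simp only [Finset.mem_insert, Finset.mem_singleton, not_or] at hl hh
    obtain ⟨z, z', hz, hz', hzz, hne'⟩ := exists_trace_sum_ne D.sig htwo (a := w i * σ (w j)) (b := w l * σ (w h))
      (mul_ne_zero (hall i) ((map_ne_zero σ).mpr (hall j))) (mul_ne_zero (hall l) ((map_ne_zero σ).mpr (hall h)))
      (t := 1 - ∑ p ∈ ({i, j, l, h} : Finset (Fin n))ᶜ, w p * σ (w p))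
      (by rw [map_sub, map_one, map_sum, Finset.sum_congr rfl fun p _ => norm_fix D.sig (w p)]) 0
    obtain ⟨m, hm, eo, ei, ej, el, eh, hφ⟩ := exists_two_swaps D hij (Ne.symm hl.1) (Ne.symm hh.1) (Ne.symm hl.2)
      (Ne.symm hh.2.1) (Ne.symm hh.2.2) w hz hz'
    rw [hzz, sub_add_cancel] at hφ
    have hv := move w hw m hm
    rw [hφ, one_smul] at hv
    have hσz : σ z * σ (σ z) = 1 := by rw [← map_mul, hz, map_one]
    refine good_of_centre D hv ?_ ?_
    · refine le_trans ?_ (Finset.card_le_card (show ({i, j, h} : Finset (Fin n)) ⊆ supp (m ⬝ₘ w + w) by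
        intro p hp
        rw [mem_supp, Pi.add_apply]
        intro e0
        rw [add_eq_zero_iff_eq_neg, hneg] at e0
        simp only [Finset.mem_insert, Finset.mem_singleton] at hp
        rcases hp with rfl | rfl | rfl
        · rw [ei] at e0
          refine hne ?_
          rw [← e0, map_mul]
          linear_combination (w j * σ (w j)) * hσz
        · rw [ej] at e0
          refine hne ?_
          rw [← e0, map_mul]
          linear_combination -(w i * σ (w i)) * hz
        · rw [eh] at e0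
          refine hne' ?_
          have : z' * (w l * σ (w p)) = w p * σ (w p) := by linear_combination σ (w p) * e0
          rw [this, norm_fix D.sig]
          linear_combination (w p * σ (w p)) * htwo))
      rw [Finset.card_insert_of_notMem (by simp [hij, Ne.symm hh.1]), Finset.card_pair (Ne.symm hh.2.1)]
    · obtain ⟨r, hr⟩ := exists_notMem (s := ({i, j, l, h} : Finset (Fin n)))
        (lt_of_le_of_lt Finset.card_le_four (by omega))
      have := Finset.card_lt_univ_of_notMem (s := supp (m ⬝ₘ w + w)) (x := r) (by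
        rw [notMem_supp, Pi.add_apply, eo r hr]
        linear_combination (w r) * htwo)
      rwa [Fintype.card_fin] at this
  by_cases hconst : ∀ i j, w i * σ (w i) = w j * σ (w j)
  swap
  · push Not at hconst
    obtain ⟨i, j, hne⟩ := hconst
    exact main w hw hww hall i j hne
  obtain ⟨o, ho⟩ : ∃ o : Fin n, o = ⟨0, by omega⟩ := ⟨_, rfl⟩
  obtain ⟨x, hx⟩ : ∃ x, x = w o * σ (w o) := ⟨_, rfl⟩
  have hx0 : x ≠ 0 := hx ▸ mul_ne_zero (hall o) ((map_ne_zero σ).mpr (hall o))
  have hxf : σ x = x := hx ▸ norm_fix D.sig _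
  have hnx : (n : F) = 0 := by
    refine (mul_eq_zero.mp (?_ : (n : F) * x = 0)).resolve_right hx0
    rw [← hww, herm_sum D, Finset.sum_congr rfl fun p _ => (hconst p o).trans hx.symm, Finset.sum_const,
      Finset.card_univ, Fintype.card_fin, nsmul_eq_mul]
  have hφt : ∀ (θ : Fin n → F) (m : Gl), (∀ v p, (m ⬝ₘ v) p = θ p * v p) →
      φ (m ⬝ₘ w) w = x * ∑ p, (θ p - 1) := fun θ m hv => by
    rw [herm_sum D, Finset.sum_sub_distrib, Finset.sum_const, Finset.card_univ, Fintype.card_fin, nsmul_eq_mul,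
      mul_one, hnx, sub_zero, Finset.mul_sum]
    exact Finset.sum_congr rfl fun p _ => by rw [hv, hx, ← hconst p o]; ring
  let p0 : Fin n := ⟨0, by omega⟩
  let p1 : Fin n := ⟨1, by omega⟩
  let p2 : Fin n := ⟨2, by omega⟩
  let p3 : Fin n := ⟨3, by omega⟩
  by_cases h7 : 7 ≤ n
  · -- three pairs of phases
    let p4 : Fin n := ⟨4, by omega⟩
    let p5 : Fin n := ⟨5, by omega⟩
    let p6 : Fin n := ⟨6, by omega⟩
    obtain ⟨T₃, hT₃, hT₃0⟩ := Finset.exists_mem_ne (s := (muF σ).image fun z => z + σ z) (by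
      have h := card_trace D.sig (one_ne_zero : (1 : F) ≠ 0)
      simp only [mul_one] at h
      have := D.sig.two_le
      omega) 0
    obtain ⟨Z₃, hZ₃, rfl⟩ := Finset.mem_image.mp hT₃
    obtain ⟨Z₁, Z₂, hZ₁, hZ₂, he, hne⟩ := exists_trace_sum_ne D.sig htwo (a := (1 : F)) (b := 1) one_ne_zero
      one_ne_zero (t := x⁻¹ + (Z₃ + σ Z₃))
      (by rw [map_add, map_inv₀, hxf, map_add, D.sig.involutive]; ring) 0
    simp only [mul_one] at he hne
    have hZ₃' := mem_muF.mp hZ₃
    have hn' : ∀ {x : F}, x * σ x = 1 → σ x * σ (σ x) = 1 := fun hx => by rw [← map_mul, hx, map_one]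
    obtain ⟨θ, hθ⟩ : ∃ θ : Fin n → F, θ = fun p => if p = p0 then σ Z₁ else if p = p1 then Z₁ else
        if p = p2 then σ Z₂ else if p = p3 then Z₂ else if p = p4 then σ Z₃ else if p = p5 then Z₃ else 1 := ⟨_, rfl⟩
    have houts : ∀ p ∉ ({p0, p1, p2, p3, p4, p5} : Finset (Fin n)), θ p = 1 := fun p hp => by
      simp only [Finset.mem_insert, Finset.mem_singleton, not_or] at hp
      simp [hθ, hp.1, hp.2.1, hp.2.2.1, hp.2.2.2.1, hp.2.2.2.2.1, hp.2.2.2.2.2]
    obtain ⟨t, ht, htv⟩ := exists_tor D θ (fun p => by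
        rw [hθ]; dsimp only; split_ifs
        exacts [hn' hZ₁, hZ₁, hn' hZ₂, hZ₂, hn' hZ₃', hZ₃', by rw [map_one, one_mul]]) (by
        rw [← Finset.prod_subset (Finset.subset_univ _) fun p _ hp => houts p hp]
        simp [hθ, p0, p1, p2, p3, p4, p5, Fin.ext_iff]
        linear_combination (Z₂ * σ Z₂ * (Z₃ * σ Z₃)) * hZ₁ + (Z₃ * σ Z₃) * hZ₂ + hZ₃')
    have hφ : φ (t ⬝ₘ w) w = 1 := by
      rw [hφt θ t htv, ← Finset.sum_subset (Finset.subset_univ _) fun p _ hp => by rw [houts p hp, sub_self]]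
      simp [hθ, p0, p1, p2, p3, p4, p5, Fin.ext_iff]
      have h1 := mul_inv_cancel₀ hx0
      linear_combination x * he + h1 + (x * (Z₃ + σ Z₃) - 3 * x) * htwo
    have hv := move w hw t ht
    rw [hφ, one_smul] at hv
    refine good_of_centre D hv ?_ ?_
    · refine le_trans ?_ (Finset.card_le_card (show ({p2, p3, p4} : Finset (Fin n)) ⊆ supp (t ⬝ₘ w + w) by
        intro p hp
        rw [mem_supp, Pi.add_apply, htv, ← add_one_mul]
        refine mul_ne_zero (fun e0 => ?_) (hall p)
        rw [add_eq_zero_iff_eq_neg, hneg] at e0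
        simp only [Finset.mem_insert, Finset.mem_singleton] at hp
        rcases hp with rfl | rfl | rfl <;> simp [hθ, p0, p1, p2, p3, p4, Fin.ext_iff] at e0
        · refine hne ?_
          rw [e0, map_one]; linear_combination htwo
        · refine hne ?_
          rw [e0, map_one]; linear_combination htwo
        · refine hT₃0 ?_
          rw [e0, map_one]; linear_combination htwo))
      simp [p2, p3, p4, Fin.ext_iff]
    · have := Finset.card_lt_univ_of_notMem (s := supp (t ⬝ₘ w + w)) (x := p6) (by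
        rw [notMem_supp, Pi.add_apply, htv, houts p6 (by simp [p0, p1, p2, p3, p4, p5, p6, Fin.ext_iff])]
        linear_combination (w p6) * htwo)
      rwa [Fintype.card_fin] at this
  -- six places: first separate the norms
  have hq2 : q ≠ 2 := hq (by omega)
  have hodd : ¬ Odd q := fun h => D.sig.odd_iff.mp h htwo
  obtain ⟨T, hT, hT'⟩ := Finset.exists_mem_notMem_of_card_lt_card (s := ({0, x⁻¹} : Finset F))
    (t := (muF σ).image fun z => z + σ z) (by
      have h := card_trace D.sig (one_ne_zero : (1 : F) ≠ 0)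
      simp only [mul_one] at h
      have := D.sig.two_le
      obtain ⟨k, rfl⟩ := Nat.not_odd_iff_even.mp hodd
      exact lt_of_le_of_lt Finset.card_le_two (by omega))
  obtain ⟨Z, hZ, rfl⟩ := Finset.mem_image.mp hT
  simp only [Finset.mem_insert, Finset.mem_singleton, not_or] at hT'
  have hZ' := mem_muF.mp hZ
  obtain ⟨t, ht, htv⟩ := exists_four_phases D (i := p0) (j := p1) (l := p2) (h := p3)
    (by simp [p0, p1, Fin.ext_iff]) (by simp [p0, p2, Fin.ext_iff]) (by simp [p0, p3, Fin.ext_iff])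
    (by simp [p1, p2, Fin.ext_iff]) (by simp [p1, p3, Fin.ext_iff]) (by simp [p2, p3, Fin.ext_iff]) hZ'
    (w := (1 : F)) (by rw [map_one, one_mul])
  obtain ⟨f, hf⟩ : ∃ f, f = x * (Z + σ Z) := ⟨_, rfl⟩
  have hfx : σ f = f := by rw [hf, map_mul, hxf, map_add, D.sig.involutive, add_comm]
  have hf0 : f ≠ 0 := hf ▸ mul_ne_zero hx0 hT'.1
  have hf1 : f + 1 ≠ 0 := fun e => hT'.2 (by
    rw [add_eq_zero_iff_eq_neg, hneg, hf] at e
    exact eq_inv_of_mul_eq_one_right e)
  have hφ : φ (t ⬝ₘ w) w = f := by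
    rw [hφt _ t htv, hf, ← Finset.sum_subset (Finset.subset_univ ({p0, p1} : Finset (Fin n))) fun p _ hp => by
        simp only [Finset.mem_insert, Finset.mem_singleton, not_or] at hp
        rw [if_neg hp.1, if_neg hp.2]
        simp,
      Finset.sum_pair (by simp [p0, p1, Fin.ext_iff])]
    simp [p0, p1, Fin.ext_iff]
    left
    linear_combination -htwo
  have hv := move w hw t ht
  rw [hφ] at hv
  have hsz : f + σ Z ≠ 0 := fun e => by
    have e1 : σ Z = f := by rw [add_eq_zero_iff_eq_neg, hneg] at e; exact e.symm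
    have e2 : Z = f := by rw [← D.sig.involutive Z, e1, hfx]
    rw [e1, e2] at hZ'
    rw [show f * f = (f + 1) * (f + 1) + 1 by linear_combination (-f - 1) * htwo] at hZ'
    exact hf1 (mul_self_eq_zero.mp (by linear_combination hZ'))
  refine main _ hv ?_ ?_ p0 p3 fun e => ?_
  · obtain ⟨gw, hgw, hgwv⟩ := hw
    rw [← hφ, ← hgwv, iso D hgw, iso D ht, hww]
  · intro p
    rw [Pi.add_apply, Pi.smul_apply, htv, smul_eq_mul, ← add_mul]
    refine mul_ne_zero ?_ (hall p)
    by_cases h0 : p = p0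
    · rw [if_pos h0, add_comm]; exact hsz
    by_cases h1 : p = p1
    · rw [if_neg h0, if_pos h1, add_comm]
      intro e
      refine hsz ?_
      have := congrArg σ e
      rwa [map_add, map_zero, hfx] at this
    rw [if_neg h0, if_neg h1]
    simp only [map_one, ite_self]
    rwa [add_comm]
  · simp only [Pi.add_apply, Pi.smul_apply, smul_eq_mul, htv] at e
    simp [p0, p1, p2, p3, Fin.ext_iff] at e
    simp only [map_mul, hfx, D.sig.involutive] at e
    have hwx : w p0 * σ (w p0) = w p3 * σ (w p3) := hconst _ _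
    have h0 : w p3 * σ (w p3) ≠ 0 := mul_ne_zero (hall _) ((map_ne_zero σ).mpr (hall _))
    refine mul_ne_zero (mul_ne_zero hf0 hT'.1) h0 ?_
    linear_combination e - (σ Z + f) * (Z + f) * hwx - (w p3 * σ (w p3)) * hZ' + (f * (w p3 * σ (w p3))) * htwo

end Cfsg.Agent.Classical.UFrame
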