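/-
A good vector off the axes, in odd characteristic.
-/
import Cfsg.Agent.Lib.Classical.UFrameSwap

set_option autoImplicit false
set_option linter.unusedSectionVars false

namespace Cfsg.Agent.Classical.UFrame

open Matrix Cfsg.Geo
open Cfsg.Agent.Classical
open Cfsg.Agent.Classical.LMon (IsMon dd)

universe u

variable {n q : ℕ} {F : Type u} [Field F] [Fintype F] {σ : F ≃+* F}

local notation "φ" => hermForm n F q
local notation "Gl" => GL (Fin n) F
local notation "Vn" => Fin n → F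
local notation:max g:max " ⬝ₘ " x:max => ((g : Gl) : Matrix (Fin n) (Fin n) F) *ᵥ x

variable {K : Subgroup (GL (Fin n) F)} (D : Data q σ K)

include D

theorem q_three (h2 : (2 : F) ≠ 0) : 3 ≤ q := by
  have := D.sig.two_le
  obtain ⟨m, hm⟩ := D.sig.odd_iff.mpr h2
  omega

/-- A monomial conjugate of a pair of pseudo-reflections lives on two coordinates. -/
theorem plane_of_mon (h2 : (2 : F) ≠ 0) {h : Gl} (hh : h ∈ K) {k l : Fin n} (hkl : k ≠ l) :
    ∃ t ∈ K, (∀ v : Vn, v k = 0 → v l = 0 → t ⬝ₘ v = v) ∧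
      (IsMon ((h * t * h⁻¹ : Gl) : Matrix (Fin n) (Fin n) F) →
        ∃ S : Finset (Fin n), S.card ≤ 2 ∧ supp (h ⬝ₘ (Pi.single k 1)) ⊆ S ∧ supp (h ⬝ₘ (Pi.single l 1)) ⊆ S) := by
  classical
  have hq3 := q_three D h2
  obtain ⟨ζ, hζ, -, hζ2, hdiv⟩ := D.sig.exists_norm_one
  have hζ0 : ζ ≠ 0 := left_ne_zero_of_mul_eq_one hζ
  obtain ⟨t, ht, htv⟩ := exists_tor D (dd k l ζ) (fun i => by
    unfold dd; split_ifs
    exacts [hζ, by rw [map_inv₀, ← mul_inv, hζ, inv_one], by rw [map_one, one_mul]]) (LMon.dd_prod hkl hζ0)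
  refine ⟨t, ht, fun v hk hl => funext fun i => ?_, fun hm => ?_⟩
  · rw [htv]
    by_cases hik : i = k
    · subst hik; rw [hk, mul_zero]
    by_cases hil : i = l
    · subst hil; rw [hl, mul_zero]
    rw [LMon.dd_other hik hil, one_mul]
  have htm : (t : Matrix (Fin n) (Fin n) F) = diagonal (dd k l ζ) := Matrix.ext fun i j => by
    rw [← col_apply (A := (t : Matrix (Fin n) (Fin n) F)) j i, ← mulVec_single_one, htv]
    by_cases hij : i = j
    · subst hij; simp
    · simp [hij]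
  obtain ⟨S, hS, hzero⟩ := LMon.mon_conj (h := h) (y := h * t * h⁻¹) hkl hζ0 (fun e => hζ2 (by rw [sq, e]))
    (fun e => by
      have := Nat.le_of_dvd (by norm_num) (hdiv 3 (by rw [← e]; ring))
      omega)
    (by rw [Units.val_mul, Units.val_mul, htm]) hm
  refine ⟨S, hS, fun p hp => ?_, fun p hp => ?_⟩ <;>
    · by_contra hpS
      refine mem_supp.mp hp ?_
      rw [mulVec_single_one, col_apply]
      first | exact (hzero p hpS).1 | exact (hzero p hpS).2

/-- A column with two zeros. -/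
theorem good_of_two_zeros (h6 : 6 ≤ n) (h2 : (2 : F) ≠ 0) {x : Gl} (hx : x ∈ K)
    (hcol : ∀ a, 2 ≤ (supp (x ⬝ₘ (Pi.single a 1))).card)
    (hrow : ∀ a, 2 ≤ (supp (((x⁻¹ : Gl)) ⬝ₘ (Pi.single a 1))).card) {b k l : Fin n} (hkl : k ≠ l)
    (hk : (x ⬝ₘ (Pi.single b 1)) k = 0) (hl : (x ⬝ₘ (Pi.single b 1)) l = 0) :
    ∃ r, Good q σ K r ∧ 2 ≤ (supp r).card := by
  classical
  have hn := D.npos
  obtain ⟨t, ht, htfix, hplane⟩ := plane_of_mon D h2 (inv_mem hx) hkl
  by_cases hm : IsMon ((x⁻¹ * t * x⁻¹⁻¹ : Gl) : Matrix (Fin n) (Fin n) F)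
  swap
  · refine good_of_line D (mul_mem (mul_mem (inv_mem hx) ht) (inv_mem (inv_mem hx))) hm (a := b) (b := b) (c := 1) ?_
    rw [inv_inv, gl_mul_mulVec, gl_mul_mulVec, htfix _ hk hl, gl_inv_mulVec_cancel]
  obtain ⟨S, hS, hSk, hSl⟩ := hplane hm
  obtain ⟨c, hcS⟩ := exists_notMem (s := S) (by omega)
  obtain ⟨d, hdS⟩ := exists_notMem (s := insert c S) (by have := Finset.card_insert_le c S; omega)
  obtain ⟨d', hdS'⟩ := exists_notMem (s := insert d (insert c S)) (by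
    have := Finset.card_insert_le c S
    have := Finset.card_insert_le d (insert c S)
    omega)
  simp only [Finset.mem_insert, not_or] at hdS hdS'
  have same : ∀ e, e ≠ c → e ∉ S → (∃ r, Good q σ K r ∧ 2 ≤ (supp r).card) ∨
      supp (x ⬝ₘ (Pi.single e 1)) = supp (x ⬝ₘ (Pi.single c 1)) ∧ (supp (x ⬝ₘ (Pi.single c 1))).card = 2 := by
    intro e hec he
    obtain ⟨t', ht', htfix', hplane'⟩ := plane_of_mon D h2 hx (Ne.symm hec)
    by_cases hm' : IsMon ((x * t' * x⁻¹ : Gl) : Matrix (Fin n) (Fin n) F)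
    swap
    · refine Or.inl (good_of_line D (mul_mem (mul_mem hx ht') (inv_mem hx)) hm' (a := k) (b := k) (c := 1) ?_)
      rw [gl_mul_mulVec, gl_mul_mulVec, htfix' _ (by_contra fun h => hcS (hSk (mem_supp.mpr h)))
        (by_contra fun h => he (hSk (mem_supp.mpr h))), gl_mulVec_inv_cancel]
    obtain ⟨S', hS', hc', he'⟩ := hplane' hm'
    have e1 := Finset.eq_of_subset_of_card_le hc' (by have := hcol c; omega)
    have e2 := Finset.eq_of_subset_of_card_le he' (by have := hcol e; omega)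
    exact Or.inr ⟨e2.trans e1.symm, le_antisymm ((Finset.card_le_card hc').trans hS') (hcol c)⟩
  rcases same d hdS.1 hdS.2 with h | ⟨hd, hcard⟩
  · exact h
  rcases same d' hdS'.2.1 hdS'.2.2 with h | ⟨hd', -⟩
  · exact h
  exfalso
  obtain ⟨p, r, hpr, hs⟩ := Finset.card_eq_two.mp hcard
  obtain ⟨v, hv⟩ : ∃ v : Fin n → Vn, v = fun e => x ⬝ₘ (Pi.single e 1) := ⟨_, rfl⟩
  have horth : ∀ {e e' : Fin n}, e ≠ e' → supp (v e) = {p, r} → supp (v e') = {p, r} →
      v e p * σ (v e' p) + v e r * σ (v e' r) = 0 := by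
    intro e e' hee he he'
    have h0 : φ (v e) (v e') = 0 := by rw [hv, iso D hx, single_herm D, Pi.single_eq_of_ne hee, map_zero, mul_zero]
    rw [herm_sum D, ← Finset.sum_subset (Finset.subset_univ ({p, r} : Finset (Fin n))) fun i _ hi => by
      rw [notMem_supp.mp (show i ∉ supp (v e) by rw [he]; exact hi), zero_mul], Finset.sum_pair hpr] at h0
    exact h0
  have hc2 : supp (v c) = {p, r} := by rw [hv]; exact hs
  have hd2 : supp (v d) = {p, r} := by rw [hv]; exact hd.trans hs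
  have hd2' : supp (v d') = {p, r} := by rw [hv]; exact hd'.trans hs
  have h1 := horth hdS.1 hd2 hc2
  have h1' := horth hdS'.2.1 hd2' hc2
  have h3 := horth (Ne.symm hdS'.1) hd2 hd2'
  have hcp : v c p ≠ 0 := mem_supp.mp (by rw [hc2]; simp)
  have hdp : v d p ≠ 0 := mem_supp.mp (by rw [hd2]; simp)
  have hcr : v c r ≠ 0 := mem_supp.mp (by rw [hc2]; simp)
  have hd'p : v d' p ≠ 0 := mem_supp.mp (by rw [hd2']; simp)
  -- the three vectors are pairwise orthogonal in a plane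
  have g1 := congrArg σ h1'
  simp only [map_add, map_mul, D.sig.involutive, map_zero] at g1
  have : v d p * σ (v d' p) * (σ (v c p) * v c p + σ (v c r) * v c r) = 0 := by
    linear_combination (σ (v c r) * v c r) * h3 - (σ (v d' r) * v c r) * h1 +
      (v d p * σ (v c p)) * g1
  have hnorm : σ (v c p) * v c p + σ (v c r) * v c r = 1 := by
    have h0 : φ (v c) (v c) = 1 := by rw [hv, iso D hx, single_herm D, Pi.single_eq_same, map_one, one_mul]
    rw [herm_sum D, ← Finset.sum_subset (Finset.subset_univ ({p, r} : Finset (Fin n))) fun i _ hi => by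
      rw [notMem_supp.mp (show i ∉ supp (v c) by rw [hc2]; exact hi), zero_mul], Finset.sum_pair hpr] at h0
    linear_combination h0
  rw [hnorm, mul_one] at this
  exact mul_ne_zero hdp ((map_ne_zero σ).mpr hd'p) this

theorem good_odd (h6 : 6 ≤ n) (h2 : (2 : F) ≠ 0) {g : Gl} (hg : g ∈ K) (hnm : ¬ IsMon (g : Matrix (Fin n) (Fin n) F)) :
    ∃ r, Good q σ K r ∧ 2 ≤ (supp r).card := by
  classical
  have hn := D.npos
  have hq3 := q_three D h2
  obtain ⟨x, hx, hxnm, k, a, hka⟩ :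
      ∃ x ∈ K, ¬ IsMon (x : Matrix (Fin n) (Fin n) F) ∧ ∃ k a, (x ⬝ₘ (Pi.single a 1)) k = 0 := by
    by_cases hz : ∃ k a, (g ⬝ₘ (Pi.single a 1)) k = 0
    · exact ⟨g, hg, hnm, hz⟩
    push Not at hz
    exact exists_zero_entry D h6 h2 hg (a := ⟨0, by omega⟩) fun p => hz p _
  have hxnm' : ¬ IsMon ((x⁻¹ : Gl) : Matrix (Fin n) (Fin n) F) := fun h => hxnm (by
    have := LMon.isMon_inv h
    rwa [inv_inv] at this)
  have line : ∀ {y : Gl}, y ∈ K → ¬ IsMon (y : Matrix (Fin n) (Fin n) F) →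
      ∀ b, (supp (y ⬝ₘ (Pi.single b 1))).card < 2 → ∃ r, Good q σ K r ∧ 2 ≤ (supp r).card := by
    intro y hy hynm b hb
    rcases (supp (y ⬝ₘ (Pi.single b 1))).eq_empty_or_nonempty with h | ⟨p, hp⟩
    · exfalso
      have h0 : y ⬝ₘ (Pi.single b 1) = 0 := funext fun i => notMem_supp.mp (by rw [h]; exact Finset.notMem_empty i)
      rw [← mulVec_zero (y : Matrix (Fin n) (Fin n) F)] at h0
      simpa using congrFun (gl_mulVec_injective y h0) b
    · refine good_of_line D hy hynm (a := b) (b := p) (c := (y ⬝ₘ (Pi.single b 1)) p) (funext fun i => ?_)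
      by_cases hi : i = p
      · subst hi; rw [Pi.single_eq_same]
      · rw [Pi.single_eq_of_ne hi]
        exact notMem_supp.mp fun h' => hi (Finset.card_le_one.mp (Nat.lt_succ_iff.mp hb) i h' p hp)
  by_cases hw : ∀ b, 2 ≤ (supp (x ⬝ₘ (Pi.single b 1))).card
  swap
  · push Not at hw; obtain ⟨b, hb⟩ := hw; exact line hx hxnm b hb
  by_cases hw' : ∀ b, 2 ≤ (supp (((x⁻¹ : Gl)) ⬝ₘ (Pi.single b 1))).card
  swap
  · push Not at hw'; obtain ⟨b, hb⟩ := hw'; exact line (inv_mem hx) hxnm' b hb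
  by_cases hz : ∃ b k l, k ≠ l ∧ (x ⬝ₘ (Pi.single b 1)) k = 0 ∧ (x ⬝ₘ (Pi.single b 1)) l = 0
  · obtain ⟨b, k, l, hkl, hk, hl⟩ := hz
    exact good_of_two_zeros D h6 h2 hx hw hw' hkl hk hl
  by_cases hz' : ∃ b k l, k ≠ l ∧ (((x⁻¹ : Gl)) ⬝ₘ (Pi.single b 1)) k = 0 ∧ (((x⁻¹ : Gl)) ⬝ₘ (Pi.single b 1)) l = 0
  · obtain ⟨b, k, l, hkl, hk, hl⟩ := hz'
    exact good_of_two_zeros D h6 h2 (inv_mem hx) hw' (by rwa [inv_inv]) hkl hk hl
  push Not at hz hz'
  obtain ⟨r, hr⟩ : ∃ r : Vn, r = ((x⁻¹ : Gl)) ⬝ₘ (Pi.single k 1) := ⟨_, rfl⟩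
  have hra : r a = 0 := by rw [hr, inv_entry D hx, hka, map_zero]
  have hrne : ∀ p, p ≠ a → r p ≠ 0 := fun p hp h => hz' k a p (Ne.symm hp) (hr ▸ hra) (hr ▸ h)
  obtain ⟨u, hu⟩ : ∃ u : Vn, u = x ⬝ₘ (Pi.single a 1) := ⟨_, rfl⟩
  have huk : u k = 0 := hu ▸ hka
  have hune : ∀ p, p ≠ k → u p ≠ 0 := fun p hp h => hz a k p (Ne.symm hp) hka (hu ▸ h)
  obtain ⟨b, hb⟩ := exists_notMem (s := ({a} : Finset (Fin n))) (by rw [Finset.card_singleton]; omega)
  rw [Finset.mem_singleton] at hb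
  by_cases hlam : ∃ l : F, l * σ l = 1 ∧ l ^ n ≠ 1
  · obtain ⟨l, hl, hln⟩ := hlam
    have hl0 : l ≠ 0 := left_ne_zero_of_mul_eq_one hl
    obtain ⟨t, ht, c, hc, htv⟩ := exists_tor' D (fun _ => l) (fun _ => hl) k
    have hcl : c ≠ l := fun e => hln (by
      have hd := mem_specialLinear_iff.mp (D.le ht).2
      have htm : (t : Matrix (Fin n) (Fin n) F) = l • (1 : Matrix (Fin n) (Fin n) F) := Matrix.ext fun i j => by
        rw [← col_apply (A := (t : Matrix (Fin n) (Fin n) F)) j i, ← mulVec_single_one, htv, e, ite_self]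
        by_cases hij : i = j
        · subst hij; simp
        · simp [hij]
      rwa [htm, det_smul, det_one, mul_one, Fintype.card_fin] at hd)
    have hy : x⁻¹ * t * x ∈ K := mul_mem (mul_mem (inv_mem hx) ht) hx
    have happ : ∀ v : Vn, (x⁻¹ * t * x : Gl) ⬝ₘ v = l • v + ((c - l) * (x ⬝ₘ v) k) • r := fun v => by
      have e1 : t ⬝ₘ (x ⬝ₘ v) = l • (x ⬝ₘ v) + Pi.single k ((c - l) * (x ⬝ₘ v) k) := by
        funext i
        rw [htv, Pi.add_apply, Pi.smul_apply, smul_eq_mul]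
        by_cases hi : i = k
        · subst hi; simp; ring
        · simp [hi]
      rw [gl_mul_mulVec, gl_mul_mulVec, e1, mulVec_add, mulVec_smul, gl_inv_mulVec_cancel, single_smul' k, mulVec_smul, hr]
    obtain ⟨p₁, hp₁⟩ := exists_notMem (s := ({a, b} : Finset (Fin n))) (lt_of_le_of_lt Finset.card_le_two (by omega))
    obtain ⟨p₂, hp₂⟩ := exists_notMem (s := ({a, b, p₁} : Finset (Fin n))) (lt_of_le_of_lt Finset.card_le_three (by omega))
    simp only [Finset.mem_insert, Finset.mem_singleton, not_or] at hp₁ hp₂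
    have hxb : (x ⬝ₘ (Pi.single b 1)) k ≠ 0 := fun h => hrne b hb (by rw [hr, inv_entry D hx, h, map_zero])
    refine good_of_line D hy (not_isMon (j := b) (Ne.symm hp₂.2.2) ?_ ?_) (a := a) (b := a) (c := l) ?_
    · rw [happ, Pi.add_apply, Pi.smul_apply, Pi.smul_apply, Pi.single_eq_of_ne hp₁.2, smul_zero, zero_add, smul_eq_mul]
      exact mul_ne_zero (mul_ne_zero (sub_ne_zero.mpr hcl) hxb) (hrne p₁ hp₁.1)
    · rw [happ, Pi.add_apply, Pi.smul_apply, Pi.smul_apply, Pi.single_eq_of_ne hp₂.2.1, smul_zero, zero_add, smul_eq_mul]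
      exact mul_ne_zero (mul_ne_zero (sub_ne_zero.mpr hcl) hxb) (hrne p₂ hp₂.1)
    · rw [happ, hka, mul_zero, zero_smul, add_zero, ← Pi.single_smul, smul_eq_mul, mul_one]
  -- equal norms
  push Not at hlam
  have hqn : q + 1 ≤ n := by
    obtain ⟨ζ, hζ, -, -, hdiv⟩ := D.sig.exists_norm_one
    exact Nat.le_of_dvd (by omega) (hdiv n (hlam ζ hζ))
  obtain ⟨i, hi, j, hj, hij, hnij⟩ := Finset.exists_ne_map_eq_of_card_lt_of_maps_to
    (s := Finset.univ.erase k) (t := (fixF σ).erase 0) (f := fun p => u p * σ (u p)) (by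
      rw [Finset.card_erase_of_mem (Finset.mem_univ k), Finset.card_univ, Fintype.card_fin,
        Finset.card_erase_of_mem (mem_fixF.mpr (map_zero σ)), card_fixF D.sig]
      omega)
    (fun p hp => Finset.mem_erase.mpr ⟨mul_ne_zero (hune p (Finset.ne_of_mem_erase hp))
      ((map_ne_zero σ).mpr (hune p (Finset.ne_of_mem_erase hp))), mem_fixF.mpr (norm_fix D.sig _)⟩)
  have hik := Finset.ne_of_mem_erase hi
  have hjk := Finset.ne_of_mem_erase hj
  have hui := hune i hik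
  have huj := hune j hjk
  obtain ⟨α, hα⟩ : ∃ α, α = u j / u i := ⟨_, rfl⟩
  have hαn : α * σ α = 1 := by
    rw [hα, map_div₀, div_mul_div_comm, ← hnij, div_self (mul_ne_zero hui ((map_ne_zero σ).mpr hui))]
  obtain ⟨m, hm, hmv⟩ := exists_mon D (Equiv.swap i j)
    (fun p => if p = i then α else if p = j then α⁻¹ else if p = k then -1 else 1)
    (fun p => by
      split_ifs
      exacts [hαn, by rw [map_inv₀, ← mul_inv, hαn, inv_one], by simp, by rw [map_one, one_mul]]) (by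
      rw [← Finset.prod_subset (Finset.subset_univ ({i, j, k} : Finset (Fin n))) (fun p _ hp => by
        simp only [Finset.mem_insert, Finset.mem_singleton, not_or] at hp
        simp [hp.1, hp.2.1, hp.2.2]),
        Finset.prod_insert (by simp [hij, hik]), Finset.prod_pair hjk, Equiv.Perm.sign_swap hij]
      simp [hij.symm, hik, hik.symm, hjk.symm, left_ne_zero_of_mul_eq_one hαn])
  have hmsq : ∀ v : Vn, m ⬝ₘ (m ⬝ₘ v) = v := fun v => funext fun p => by
    obtain ⟨p, rfl⟩ := (Equiv.swap i j).surjective p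
    rw [hmv]
    obtain ⟨p, rfl⟩ := (Equiv.swap i j).surjective p
    rw [hmv, Equiv.swap_apply_self]
    have hα0 := left_ne_zero_of_mul_eq_one hαn
    by_cases hpi : p = i
    · subst hpi; simp [hij.symm, hα0]
    by_cases hpj : p = j
    · subst hpj; simp [hij, hij.symm, hpi, hα0]
    rw [Equiv.swap_apply_of_ne_of_ne hpi hpj]
    by_cases hpk : p = k
    · subst hpk; simp [hpi, hpj]
    · simp [hpi, hpj, hpk]
  have hmu : m ⬝ₘ u = u := funext fun p => by
    obtain ⟨p, rfl⟩ := (Equiv.swap i j).surjective p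
    rw [hmv]
    by_cases hpi : p = i
    · subst hpi; simp [hα, hui]
    by_cases hpj : p = j
    · subst hpj; simp [hij.symm, hα, huj]
    rw [Equiv.swap_apply_of_ne_of_ne hpi hpj]
    by_cases hpk : p = k
    · subst hpk; simp [huk]
    · simp [hpi, hpj, hpk]
  obtain ⟨y, hy⟩ : ∃ y, y = x⁻¹ * m * x := ⟨_, rfl⟩
  have hyK : y ∈ K := hy ▸ mul_mem (mul_mem (inv_mem hx) hm) hx
  have hya : y ⬝ₘ (Pi.single a 1) = Pi.single a 1 := by
    rw [hy, gl_mul_mulVec, gl_mul_mulVec, ← hu, hmu, hu, gl_inv_mulVec_cancel]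
  by_cases hym : IsMon (y : Matrix (Fin n) (Fin n) F)
  swap
  · exact good_of_line D hyK hym hya
  exfalso
  obtain ⟨π, hπ⟩ := LMon.mon_perm hym
  have hcolm : ∀ p, y ⬝ₘ (Pi.single p 1) = Pi.single (π p) ((y : Matrix (Fin n) (Fin n) F) (π p) p) := fun p => by
    funext e
    rw [mulVec_single_one, col_apply]
    by_cases he : e = π p
    · rw [he, Pi.single_eq_same]
    · rw [Pi.single_eq_of_ne he, ((hπ p).2 e he).1]
  have hπ2 : ∀ p, π (π p) = p := fun p => by
    have h : y ⬝ₘ (y ⬝ₘ (Pi.single p 1)) = Pi.single p 1 := by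
      rw [hy, gl_mul_mulVec, gl_mul_mulVec, gl_mul_mulVec, gl_mul_mulVec, gl_mulVec_inv_cancel, hmsq, gl_inv_mulVec_cancel]
    rw [hcolm, single_smul' (π p), mulVec_smul, hcolm, ← Pi.single_smul, smul_eq_mul] at h
    by_contra hne
    have := congrFun h p
    rw [Pi.single_eq_of_ne (Ne.symm hne), Pi.single_eq_same] at this
    exact zero_ne_one this
  have hmk : m ⬝ₘ (Pi.single k 1) = Pi.single k (-1) := funext fun p => by
    obtain ⟨p, rfl⟩ := (Equiv.swap i j).surjective p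
    rw [hmv]
    by_cases hpk : p = k
    · subst hpk; rw [Equiv.swap_apply_of_ne_of_ne (Ne.symm hik) (Ne.symm hjk)]; simp [Ne.symm hik, Ne.symm hjk]
    · rw [Pi.single_eq_of_ne hpk, mul_zero, Pi.single_eq_of_ne]
      intro e
      exact hpk ((Equiv.swap i j).injective (e.trans (Equiv.swap_apply_of_ne_of_ne (Ne.symm hik) (Ne.symm hjk)).symm))
  have hyr : y ⬝ₘ r = -r := by
    rw [hy, gl_mul_mulVec, gl_mul_mulVec, hr, gl_mulVec_inv_cancel, hmk, Pi.single_neg, mulVec_neg]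
  obtain ⟨p₁, hp₁⟩ := exists_notMem (s := ({a} : Finset (Fin n))) (by rw [Finset.card_singleton]; omega)
  obtain ⟨p₂, hp₂⟩ := exists_notMem (s := ({a, p₁, π p₁} : Finset (Fin n))) (lt_of_le_of_lt Finset.card_le_three (by omega))
  obtain ⟨p₃, hp₃⟩ := exists_notMem (s := insert (π p₂) (insert p₂ ({a, p₁, π p₁} : Finset (Fin n)))) (by
    have := Finset.card_insert_le p₂ ({a, p₁, π p₁} : Finset (Fin n))
    have := Finset.card_insert_le (π p₂) (insert p₂ ({a, p₁, π p₁} : Finset (Fin n)))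
    have := Finset.card_le_three (a := a) (b := p₁) (c := π p₁)
    omega)
  simp only [Finset.mem_insert, Finset.mem_singleton, not_or] at hp₁ hp₂ hp₃
  obtain ⟨d, hd⟩ : ∃ d : Fin n → Vn, d = fun p => y ⬝ₘ (Pi.single p 1) - Pi.single p 1 := ⟨_, rfl⟩
  have hdiag : ∀ p, p ≠ a → d p p ≠ 0 := fun p hp => by
    rw [hd]
    dsimp only
    rw [hcolm, Pi.sub_apply, Pi.single_eq_same]
    by_cases hfx : π p = p
    · have e : (y : Matrix (Fin n) (Fin n) F) p p * r p = -r p := by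
        have h := congrFun hyr p
        rw [mulVec, dotProduct, Finset.sum_eq_single p (fun e _ he => by
          rw [((hπ e).2 p fun h' => he ((π.injective (h'.symm.trans hfx.symm)))).1, zero_mul])
          (fun h => absurd (Finset.mem_univ p) h)] at h
        exact h
      rw [hfx, Pi.single_eq_same]
      intro h
      have : 2 * r p = 0 := by linear_combination e - r p * h
      exact (mul_ne_zero h2 (hrne p hp)) this
    · rw [Pi.single_eq_of_ne (Ne.symm hfx), zero_sub]; exact neg_ne_zero.mpr one_ne_zero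
  have hoff : ∀ p e, e ≠ p → e ≠ π p → d p e = 0 := fun p e h1 h2' => by
    rw [hd]
    dsimp only
    rw [hcolm, Pi.sub_apply, Pi.single_eq_of_ne h2', Pi.single_eq_of_ne h1, sub_zero]
  obtain ⟨A, hA⟩ : ∃ A : Vn, A = ((x⁻¹ : Gl)) ⬝ₘ (Pi.single j 1 - Pi.single i α⁻¹) := ⟨_, rfl⟩
  have himg : ∀ v : Vn, m ⬝ₘ v - v = (α * v i - v j) • (Pi.single j 1 - Pi.single i α⁻¹) + (-2 * v k) • Pi.single k 1 := by
    intro v
    have hα0 := left_ne_zero_of_mul_eq_one hαn
    funext p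
    obtain ⟨p, rfl⟩ := (Equiv.swap i j).surjective p
    rw [Pi.sub_apply, hmv]
    by_cases hpi : p = i
    · subst hpi; simp [hij, hij.symm, hjk, hjk.symm]
    by_cases hpj : p = j
    · subst hpj; simp [hij, hij.symm, hik, hik.symm]; field_simp; ring
    rw [Equiv.swap_apply_of_ne_of_ne hpi hpj]
    by_cases hpk : p = k
    · subst hpk; simp [hpi, hpj]; ring
    · simp [hpi, hpj, hpk]
  have hspan : ∀ p, ∃ s s', ∀ e, d p e = s * A e + s' * r e := fun p => by
    refine ⟨α * (x ⬝ₘ (Pi.single p 1)) i - (x ⬝ₘ (Pi.single p 1)) j, -2 * (x ⬝ₘ (Pi.single p 1)) k, fun e => ?_⟩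
    have h : d p = ((x⁻¹ : Gl)) ⬝ₘ (m ⬝ₘ (x ⬝ₘ (Pi.single p 1)) - (x ⬝ₘ (Pi.single p 1))) := by
      rw [hd, mulVec_sub, gl_inv_mulVec_cancel, hy]
      dsimp only
      rw [gl_mul_mulVec, gl_mul_mulVec]
    rw [h, himg, mulVec_add, mulVec_smul, mulVec_smul, ← hA, ← hr, Pi.add_apply, Pi.smul_apply, Pi.smul_apply,
      smul_eq_mul, smul_eq_mul]
  obtain ⟨s₁, t₁, hs₁⟩ := hspan p₁
  obtain ⟨s₂, t₂, hs₂⟩ := hspan p₂
  obtain ⟨s₃, t₃, hs₃⟩ := hspan p₃
  have h21 : π p₂ ≠ p₁ := fun e => hp₂.2.2 (by rw [← e, hπ2])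
  have h31 : π p₃ ≠ p₁ := fun e => hp₃.2.2.2.2 (by rw [← e, hπ2])
  have h32 : π p₃ ≠ p₂ := fun e => hp₃.1 (by rw [← e, hπ2])
  have e11 := hdiag p₁ hp₁
  rw [hs₁] at e11
  have e22 := hdiag p₂ hp₂.1
  rw [hs₂] at e22
  have e33 := hdiag p₃ hp₃.2.2.1
  rw [hs₃] at e33
  have e12 := hoff p₂ p₁ (Ne.symm hp₂.2.1) (Ne.symm h21)
  have e13 := hoff p₁ p₃ hp₃.2.2.2.1 hp₃.2.2.2.2
  have e23 := hoff p₂ p₃ hp₃.2.1 hp₃.1
  rw [hs₂] at e12 e23
  rw [hs₁] at e13
  -- two proportional coefficient pairs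
  have hdet : s₁ * t₂ - s₂ * t₁ = 0 := by
    by_contra hne
    have ea : (s₁ * t₂ - s₂ * t₁) * A p₃ = 0 := by linear_combination t₂ * e13 - t₁ * e23
    have eb : (s₁ * t₂ - s₂ * t₁) * r p₃ = 0 := by linear_combination s₁ * e23 - s₂ * e13
    exact hrne p₃ hp₃.2.2.1 ((mul_eq_zero.mp eb).resolve_left hne)
  have es : s₂ = 0 := (mul_eq_zero.mp (show s₂ * (s₁ * A p₁ + t₁ * r p₁) = 0 by
    linear_combination s₁ * e12 - r p₁ * hdet)).resolve_right e11
  have et : t₂ = 0 := (mul_eq_zero.mp (show t₂ * (s₁ * A p₁ + t₁ * r p₁) = 0 by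
    linear_combination t₁ * e12 + A p₁ * hdet)).resolve_right e11
  exact e22 (by rw [es, et]; ring)

end Cfsg.Agent.Classical.UFrame
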