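/-
Stabilisers of orthogonal frames are maximal in the special unitary group.
-/
import Cfsg.Agent.Lib.Classical.UFrameGen
import Cfsg.Agent.Lib.Classical.UFrameSeedOdd
import Cfsg.Agent.Lib.Classical.FormUMaximal
import Cfsg.Agent.Lib.Classical.DecompCoords

set_option autoImplicit false
set_option linter.unusedSectionVars false

namespace Cfsg.Agent.Classical.UFrame

open Matrix Cfsg.Geo
open Cfsg.Agent.Classical
open Cfsg.Agent.Classical.LMon (IsMon)

universe u

variable {n q : ℕ} {F : Type u} [Field F] [Fintype F] {σ : F ≃+* F}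

local notation "φ" => hermForm n F q
local notation "Gl" => GL (Fin n) F
local notation "Vn" => Fin n → F
local notation:max g:max " ⬝ₘ " x:max => ((g : Gl) : Matrix (Fin n) (Fin n) F) *ᵥ x

/-- A good vector in characteristic two. -/
theorem good_even {K : Subgroup (GL (Fin n) F)} (D : Data q σ K) (h6 : 6 ≤ n) (hq : n = 6 → q ≠ 2) (htwo : (2 : F) = 0) {g : Gl}
    (hg : g ∈ K) (hnm : ¬ IsMon (g : Matrix (Fin n) (Fin n) F)) : ∃ r, Good q σ K r ∧ 2 ≤ (supp r).card := by
  classical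
  obtain ⟨w, hw, hww, hw3⟩ := exists_centre D htwo hg hnm
  by_cases hlt : (supp w).card < n
  · exact good_of_centre D hw hw3 hlt
  refine good_of_full_centre D h6 htwo hq hw hww fun p => ?_
  refine mem_supp.mp ?_
  rw [Finset.eq_univ_of_card (supp w) (le_antisymm (Finset.card_le_univ _) (by rw [Fintype.card_fin]; omega))]
  exact Finset.mem_univ p

theorem full {K : Subgroup (GL (Fin n) F)} (D : Data q σ K) (h6 : 6 ≤ n) (hq : n = 6 → q ≠ 2) {g : Gl} (hg : g ∈ K)
    (hnm : ¬ IsMon (g : Matrix (Fin n) (Fin n) F)) : suGL n F q ≤ K := by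
  by_cases h2 : (2 : F) = 0
  · obtain ⟨r, hr, h⟩ := good_even D h6 hq h2 hg hnm
    exact full_of_good D hr h
  · obtain ⟨r, hr, h⟩ := good_odd D h6 h2 hg hnm
    exact full_of_good D hr h

/-- Unitary coordinates adapted to a frame. -/
theorem exists_frame_coords (hσ : IsUSigma q σ) {t : ℕ} {D : Fin t → Submodule F (Fin n → F)}
    (hD : IsNondegenerateMDecomposition (hermForm n F q) 1 D) :
    ∃ B : Gl, B ∈ GU n F q ∧ ∀ g : Gl, g ∈ decompositionStabilizer D ↔
      IsMon ((B⁻¹ * g * B : Gl) : Matrix (Fin n) (Fin n) F) := by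
  classical
  obtain ⟨e, -, -⟩ := LImp.exists_coords hD.decomp
  obtain ⟨ε⟩ : Nonempty (Fin n ≃ Fin t) := ⟨e.trans (Equiv.prodUnique (Fin t) (Fin 1))⟩
  have hs := semiForm_of_unitary (hσ.isUnitaryForm (n := n))
  have hv : ∀ p, ∃ v : Vn, φ v v = 1 ∧ D (ε p) = F ∙ v := fun p => by
    obtain ⟨w, hw0, hw⟩ := finrank_eq_one_iff'.mp (hD.decomp.finrank_eq (ε p))
    have hw0' : (w : Vn) ≠ 0 := fun h => hw0 (Subtype.ext h)
    have hspan : D (ε p) = F ∙ (w : Vn) := le_antisymm (fun x hx => by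
      obtain ⟨c, hc⟩ := hw ⟨x, hx⟩
      exact Submodule.mem_span_singleton.mpr ⟨c, congrArg Subtype.val hc⟩)
      ((Submodule.span_singleton_le_iff_mem _ _).mpr w.2)
    obtain ⟨x, hx, hne⟩ := (hD.nondegenerate _ _ w.2 hw0').2
    rw [hspan] at hx
    obtain ⟨c, rfl⟩ := Submodule.mem_span_singleton.mp hx
    rw [hs.smul_right, mul_ne_zero_iff] at hne
    have hww := hne.2
    obtain ⟨μ, hμ0, hμ⟩ := hσ.norm_surjective (inv_ne_zero hww)
      (by rw [map_inv₀, ← (hσ.isUnitaryForm (n := n)).herm])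
    refine ⟨μ • (w : Vn), ?_, ?_⟩
    · rw [hs.smul_left, hs.smul_right, ← mul_assoc, hμ, inv_mul_cancel₀ hww]
    · exact hspan.trans (Submodule.span_singleton_smul_eq (IsUnit.mk0 _ hμ0) _).symm
  choose v hv1 hvD using hv
  have hgram : ∀ p p', φ (v p) (v p') = if p = p' then 1 else 0 := fun p p' => by
    split_ifs with h
    · subst h; exact hv1 p
    · exact hD.orthogonal _ _ (fun e => h (ε.injective e)) _ (hvD p ▸ Submodule.mem_span_singleton_self _) _
        (hvD p' ▸ Submodule.mem_span_singleton_self _)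
  obtain ⟨V, hV⟩ : ∃ V : Matrix (Fin n) (Fin n) F, V = Matrix.of fun i p => v p i := ⟨_, rfl⟩
  have hVu : ∀ u : Vn, V *ᵥ u = ∑ p, u p • v p := fun u => by
    funext i
    rw [hV, mulVec, dotProduct, Finset.sum_apply]
    exact Finset.sum_congr rfl fun p _ => by rw [of_apply, Pi.smul_apply, smul_eq_mul, mul_comm]
  have hiso : ∀ u w : Vn, φ (V *ᵥ u) (V *ᵥ w) = φ u w := fun u w => by
    have hf := reflexForm_of_unitary (hσ.isUnitaryForm (n := n))
    rw [hVu, hVu, hf.sum_left, hσ.hermForm_eq u w]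
    refine Finset.sum_congr rfl fun p _ => ?_
    rw [hs.smul_left, (hσ.isUnitaryForm (n := n)).herm (v p), hf.sum_left]
    simp only [hs.smul_left, hgram, mul_ite, mul_one, mul_zero, Finset.sum_ite_eq', Finset.mem_univ, if_true]
  have hdet : V.det ≠ 0 := fun h => by
    obtain ⟨u, hu0, hu⟩ := Matrix.exists_mulVec_eq_zero_iff.mpr h
    obtain ⟨i, hi⟩ := Function.ne_iff.mp hu0
    have := hiso u (Pi.single i 1)
    rw [hu, (reflexForm_of_unitary (hσ.isUnitaryForm (n := n))).zero_left, hσ.hermForm_eq,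
      Finset.sum_eq_single i (fun k _ hk => by simp [hk]) (by simp)] at this
    exact hi (by simpa using this.symm)
  let B : Gl := GeneralLinearGroup.mkOfDetNeZero V hdet
  have hB : (B : Matrix (Fin n) (Fin n) F) = V := rfl
  have hcol : ∀ p, B ⬝ₘ (Pi.single p 1) = v p := fun p => by
    rw [hB, mulVec_single_one, hV]; rfl
  refine ⟨B, mem_GU_iff.mpr fun u w => by rw [hB]; exact hiso u w, fun g => ⟨fun hg => ?_, fun hm => ?_⟩⟩
  · obtain ⟨π, hπ⟩ := hg
    intro j
    refine ⟨ε.symm (π (ε j)), fun i hi => ?_⟩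
    obtain ⟨c, hc⟩ : ∃ c : F, c • v (ε.symm (π (ε j))) = g ⬝ₘ (v j) := by
      apply Submodule.mem_span_singleton.mp
      rw [← hvD, Equiv.apply_symm_apply, ← hπ]
      exact ⟨v j, hvD j ▸ Submodule.mem_span_singleton_self _, Matrix.toLin'_apply _ _⟩
    rw [← col_apply (A := ((B⁻¹ * g * B : Gl) : Matrix (Fin n) (Fin n) F)) j i, ← mulVec_single_one,
      gl_mul_mulVec, gl_mul_mulVec, hcol, ← hc, mulVec_smul, ← hcol, gl_inv_mulVec_cancel,
      Pi.smul_apply, Pi.single_eq_of_ne hi, smul_zero]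
  · obtain ⟨π, hπ⟩ := LMon.mon_perm hm
    refine ⟨(ε.symm.trans π).trans ε, fun i => ?_⟩
    obtain ⟨j, rfl⟩ := ε.surjective i
    rw [Equiv.trans_apply, Equiv.trans_apply, Equiv.symm_apply_apply, hvD, hvD, Submodule.map_span, Set.image_singleton,
      Matrix.toLin'_apply]
    have hgj : g ⬝ₘ (v j) = ((B⁻¹ * g * B : Gl) : Matrix (Fin n) (Fin n) F) (π j) j • v (π j) := by
      have h : (B⁻¹ * g * B : Gl) ⬝ₘ (Pi.single j 1) =
          Pi.single (π j) (((B⁻¹ * g * B : Gl) : Matrix (Fin n) (Fin n) F) (π j) j) := funext fun i => by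
        rw [mulVec_single_one, col_apply]
        by_cases hi : i = π j
        · rw [hi, Pi.single_eq_same]
        · rw [Pi.single_eq_of_ne hi, ((hπ j).2 i hi).1]
      have h2 := congrArg (fun w => B ⬝ₘ w) h
      simp only [gl_mul_mulVec, gl_mulVec_inv_cancel, hcol] at h2
      rw [h2, single_smul', mulVec_smul, hcol]
    rw [hgj, Submodule.span_singleton_smul_eq (IsUnit.mk0 _ (hπ j).1)]

/-- Frames give maximal subgroups from dimension six on, except for six lines over four elements. -/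
theorem isMaximal_of_six_le (hσ : IsUSigma q σ) (hn : 6 ≤ n) (hq : n = 6 → q ≠ 2) {t : ℕ} {D : Fin t → Submodule F (Fin n → F)}
    (hD : IsNondegenerateMDecomposition (hermForm n F q) 1 D) :
    IsMaximalIn (suGL n F q) (decompositionStabilizer D ⊓ suGL n F q) := by
  classical
  obtain ⟨B, hBU, hB⟩ := exists_frame_coords hσ hD
  refine ⟨lt_of_le_of_ne inf_le_right fun e => hσ.not_su_le_decomp (by omega) hD.decomp (inf_eq_right.mp e),
    fun K hHK hKS => or_iff_not_imp_left.mpr fun hne => le_antisymm hKS ?_⟩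
  have hconj : ∀ x : Gl, B⁻¹ * (B * x * B⁻¹) * B = x := fun x => by group
  have hconj' : ∀ x : Gl, B * (B⁻¹ * x * B) * B⁻¹ = x := fun x => by group
  have hsl := specialLinear_normal (ι := Fin n) (F := F)
  have hin : ∀ x : Gl, x ∈ suGL n F q → B * x * B⁻¹ ∈ suGL n F q := fun x hx =>
    ⟨(GU n F q).mul_mem ((GU n F q).mul_mem hBU hx.1) ((GU n F q).inv_mem hBU), hsl.conj_mem _ hx.2 B⟩
  have hout : ∀ x : Gl, x ∈ suGL n F q → B⁻¹ * x * B ∈ suGL n F q := fun x hx => by
    refine ⟨(GU n F q).mul_mem ((GU n F q).mul_mem ((GU n F q).inv_mem hBU) hx.1) hBU, ?_⟩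
    have := hsl.conj_mem _ hx.2 B⁻¹
    rwa [inv_inv] at this
  obtain ⟨g, hgK, hgH⟩ : ∃ g ∈ K, g ∉ decompositionStabilizer D := by
    by_contra hcon
    push Not at hcon
    exact hne (le_antisymm (le_inf hcon hKS) hHK)
  let K' := K.comap (MulAut.conj B).toMonoidHom
  have hK' : ∀ x, x ∈ K' ↔ B * x * B⁻¹ ∈ K := fun x => Iff.rfl
  have hDK : Data q σ K' :=
    { sig := hσ
      npos := by omega
      le := fun x hx => by
        have := hout _ (hKS ((hK' x).mp hx))
        rwa [hconj] at this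
      mon := fun x hx hm => (hK' x).mpr (hHK ⟨(hB _).mpr (by rwa [hconj]), hin x hx⟩) }
  have hfull := full hDK hn hq (g := B⁻¹ * g * B) ((hK' _).mpr (by rwa [hconj'])) fun hm => hgH ((hB g).mpr hm)
  intro z hz
  have := (hK' _).mp (hfull (hout z hz))
  rwa [hconj'] at this

/-- Frames give maximal subgroups in dimension ten and at least twelve. -/
theorem isMaximal (hσ : IsUSigma q σ) (hn : 10 ≤ n ∧ n ≠ 11) {t : ℕ} {D : Fin t → Submodule F (Fin n → F)}
    (hD : IsNondegenerateMDecomposition (hermForm n F q) 1 D) :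
    IsMaximalIn (suGL n F q) (decompositionStabilizer D ⊓ suGL n F q) :=
  isMaximal_of_six_le hσ (by omega) (fun h => by omega) hD

end Cfsg.Agent.Classical.UFrame
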