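/-
Elements of the unitary group adapted to an orthogonal decomposition.
-/
import Cfsg.Agent.Lib.Classical.RadicalFormSplit
import Cfsg.Agent.Lib.Classical.UnitaryOvergroup
import Cfsg.Agent.Lib.Classical.UnitaryPlanes
import Cfsg.Agent.Lib.Classical.UnitaryGroup

set_option autoImplicit false
set_option linter.unusedSectionVars false

namespace Cfsg.Agent.Classical.UDecomp

open Matrix Module Cfsg.Geo
open Cfsg.Agent.Classical
open Cfsg.Agent.Classical.UCount (IsHermND)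

variable {n q : ℕ} {F : Type*} [Field F] [Fintype F] {σ : F ≃+* F} {t k : ℕ}
  {D : Fin t → Submodule F (Fin n → F)}

local notation "φ" => hermForm n F q
local notation "Gl" => GL (Fin n) F
local notation "Vn" => Fin n → F
local notation:max g:max " ⬝ₘ " x:max => ((g : Gl) : Matrix (Fin n) (Fin n) F) *ᵥ x

/-- A unitary form with an orthogonal decomposition. -/
structure UData (q : ℕ) (σ : F ≃+* F) (k : ℕ) (D : Fin t → Submodule F (Fin n → F)) : Prop where
  sig : IsUSigma q σ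
  decomp : IsNondegenerateMDecomposition (hermForm n F q) k D
  npos : 4 ≤ n
  two : 2 ≤ k
  excl : ¬ (k = 2 ∧ q = 2)

variable (Δ : UData q σ k D)

include Δ

theorem herm (x y : Vn) : σ (φ x y) = φ y x := ((Δ.sig.isUnitaryForm (n := n)).herm y x).symm

theorem semi : IsSemiForm σ φ := semiForm_of_unitary (Δ.sig.isUnitaryForm (n := n))

theorem refl : IsReflexForm σ 1 φ := reflexForm_of_unitary (Δ.sig.isUnitaryForm (n := n))

theorem zl (x : Vn) : φ 0 x = 0 := (refl Δ).zero_left x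

theorem zr (x : Vn) : φ x 0 = 0 := (refl Δ).zero_right x

theorem sub_left (x y z : Vn) : φ (x - y) z = φ x z - φ y z := by
  rw [sub_eq_add_neg, ← neg_one_smul F y, (semi Δ).add_left, (semi Δ).smul_left]; ring

theorem sub_right (x y z : Vn) : φ x (y - z) = φ x y - φ x z := by
  rw [sub_eq_add_neg, ← neg_one_smul F z, (semi Δ).add_right, (semi Δ).smul_right, map_neg, map_one]; ring

theorem swap0 {x y : Vn} (h : φ x y = 0) : φ y x = 0 := by rw [← herm Δ, h, map_zero]

theorem orth {i j : Fin t} (h : i ≠ j) {x y : Vn} (hx : x ∈ D i) (hy : y ∈ D j) : φ x y = 0 :=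
  Δ.decomp.orthogonal i j h x hx y hy

theorem nd {i : Fin t} {x : Vn} (hx : x ∈ D i) (hx0 : x ≠ 0) : ∃ z ∈ D i, φ x z ≠ 0 := by
  obtain ⟨z, hz⟩ := (Δ.decomp.nondegenerate i x hx hx0).2
  exact ⟨z, hz⟩

theorem nonempty : Nonempty (Fin n) := ⟨⟨0, by have := Δ.npos; omega⟩⟩

/-- Orthogonal components. -/
theorem components (x : Vn) : ∃ c : Fin t → Vn, (∀ a, c a ∈ D a) ∧ ∑ a, c a = x := by
  classical
  have h : x ∈ ⨆ a, D a := by rw [Δ.decomp.decomp.iSup_eq_top]; exact Submodule.mem_top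
  obtain ⟨f, hf⟩ := (Submodule.mem_iSup_iff_exists_dfinsupp' D x).mp h
  refine ⟨fun a => f a, fun a => (f a).2, ?_⟩
  rw [← hf, DFinsupp.sum]
  refine (Finset.sum_subset (Finset.subset_univ _) fun a _ ha => ?_).symm
  rw [DFinsupp.notMem_support_iff] at ha
  rw [ha, Submodule.coe_zero]

theorem f_sum (s : Finset (Fin t)) (c : Fin t → Vn) (z : Vn) : φ (∑ a ∈ s, c a) z = ∑ a ∈ s, φ (c a) z :=
  (refl Δ).sum_left s c z

theorem pair_sum {c : Fin t → Vn} (hc : ∀ a, c a ∈ D a) {a : Fin t} {z : Vn} (hz : z ∈ D a) :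
    φ (∑ b, c b) z = φ (c a) z := by
  rw [f_sum Δ]
  exact Finset.sum_eq_single a (fun b _ hb => orth Δ hb (hc b) hz) fun h => absurd (Finset.mem_univ _) h

/-- A vector orthogonal to a member has no component in it. -/
theorem comp_zero {c : Fin t → Vn} (hc : ∀ a, c a ∈ D a) {a : Fin t}
    (h : ∀ z ∈ D a, φ (∑ b, c b) z = 0) : c a = 0 := by
  by_contra h0
  obtain ⟨z, hz, hne⟩ := nd Δ (hc a) h0
  exact hne (pair_sum Δ hc hz ▸ h z hz)

/-- A vector of a member separating a vector from another. -/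
theorem sep {a : Fin t} {x d : Vn} (hx : x ∈ D a) (hd : d ∈ D a) (hxd : x ∉ Submodule.span F {d}) :
    ∃ y ∈ D a, φ y d = 0 ∧ φ y x ≠ 0 := by
  have hf := refl Δ
  by_contra hcon
  push Not at hcon
  refine hxd ?_
  rw [← hf.perp_perp (Submodule.span F {d})]
  intro v hv
  obtain ⟨c, hc, rfl⟩ := components Δ v
  have h1 : φ (c a) d = 0 := by
    rw [← pair_sum Δ hc hd]; exact hv d (Submodule.mem_span_singleton_self d)
  refine hf.eq_zero_swap ?_
  rw [pair_sum Δ hc hx]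
  exact hcon _ (hc a) h1

/-- Isotropic vectors exist in planes. -/
theorem iso_in {Y : Submodule F Vn} (hY : 2 ≤ finrank F Y) : ∃ y ∈ Y, y ≠ 0 ∧ φ y y = 0 := by
  obtain ⟨x, hx, hx0⟩ := Submodule.exists_mem_ne_zero_of_ne_bot (p := Y) fun e => by
    rw [e, finrank_bot] at hY; omega
  by_cases hxx : φ x x = 0
  · exact ⟨x, hx, hx0, hxx⟩
  obtain ⟨z, hz, hzx⟩ : ∃ z ∈ Y, z ∉ Submodule.span F {x} := by
    by_contra hcon
    push Not at hcon
    have h1 := Submodule.finrank_mono (show Y ≤ Submodule.span F {x} from hcon)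
    rw [finrank_span_singleton hx0] at h1
    omega
  have hs := semi Δ
  obtain ⟨z', hz'⟩ : ∃ z', z' = z - (φ z x / φ x x) • x := ⟨_, rfl⟩
  have hz'x : φ z' x = 0 := by
    rw [hz', sub_left Δ, hs.smul_left, div_mul_cancel₀ _ hxx, sub_self]
  have hz'0 : z' ≠ 0 := fun e => hzx (by
    rw [sub_eq_zero.mp (hz'.symm.trans e)]
    exact Submodule.smul_mem _ _ (Submodule.mem_span_singleton_self x))
  have hz'Y : z' ∈ Y := hz' ▸ sub_mem hz (Y.smul_mem _ hx)
  by_cases hzz : φ z' z' = 0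
  · exact ⟨z', hz'Y, hz'0, hzz⟩
  obtain ⟨s, -, hs'⟩ := Δ.sig.norm_surjective (t := -φ x x / φ z' z')
    (div_ne_zero (neg_ne_zero.mpr hxx) hzz) (by rw [map_div₀, map_neg, herm Δ, herm Δ])
  refine ⟨x + s • z', Y.add_mem hx (Y.smul_mem _ hz'Y), fun e => hxx ?_, ?_⟩
  · have h1 : φ (x + s • z') x = 0 := by rw [e]; exact zl Δ x
    rwa [hs.add_left, hs.smul_left, hz'x, mul_zero, add_zero] at h1
  · rw [hs.add_left, hs.add_right, hs.add_right, hs.smul_left, hs.smul_left, hs.smul_right, hs.smul_right, hz'x,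
      swap0 Δ hz'x, mul_zero, mul_zero, add_zero, zero_add, ← mul_assoc, hs', div_mul_cancel₀ _ hzz, add_neg_cancel]

theorem hiso (v : Vn) : ∃ X, (1 : F) * X + σ X = φ v v := by
  obtain ⟨θ, hθ⟩ : ∃ θ : F, θ + σ θ ≠ 0 := by
    by_contra hcon
    push Not at hcon
    refine Δ.sig.ne_refl (RingEquiv.ext fun x => ?_)
    have h1 := hcon 1
    rw [map_one] at h1
    show σ x = x
    linear_combination hcon x - x * h1
  refine ⟨θ * φ v v / (θ + σ θ), ?_⟩
  rw [one_mul, map_div₀, map_mul, map_add, Δ.sig.involutive, herm Δ v v, add_comm (σ θ) θ, ← add_div, ← add_mul,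
    mul_div_cancel_left₀ _ hθ]

/-- A hyperbolic partner inside a member. -/
theorem partner {a : Fin t} {v : Vn} (hv : v ∈ D a) (hv0 : v ≠ 0) (hvv : φ v v = 0) :
    ∃ z ∈ D a, φ z z = 0 ∧ φ v z = 1 := by
  haveI := nonempty Δ
  obtain ⟨z, hz, hzz, hne⟩ := Radical.iso_pair (refl Δ) (hiso Δ) (Δ.decomp.nondegenerate a) hv hvv hv0
  refine ⟨σ (φ v z)⁻¹ • z, (D a).smul_mem _ hz, ?_, ?_⟩
  · rw [(semi Δ).smul_left, (semi Δ).smul_right, hzz, mul_zero, mul_zero]
  · rw [(semi Δ).smul_right, Δ.sig.involutive, inv_mul_cancel₀ hne]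

theorem iso_span {a : Fin t} : D a ≤ Submodule.span F {s | s ∈ D a ∧ φ s s = 0} := by
  haveI := nonempty Δ
  obtain ⟨e, he, he0, hee⟩ := iso_in Δ (Y := D a) (by rw [Δ.decomp.decomp.finrank_eq]; exact Δ.two)
  exact Radical.iso_span (refl Δ) (hiso Δ) (Δ.decomp.nondegenerate a) he hee he0

/-- An anisotropic vector in a non-zero non-degenerate space. -/
theorem aniso {Y : Submodule F Vn} (hY : IsNondegenerateOn φ Y) (hY0 : Y ≠ ⊥) : ∃ e ∈ Y, φ e e ≠ 0 := by
  obtain ⟨x, hx, hx0⟩ := Submodule.exists_mem_ne_zero_of_ne_bot hY0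
  obtain ⟨z, hz, hne⟩ := (hY x hx hx0).2
  by_contra hcon
  push Not at hcon
  obtain ⟨θ, hθ⟩ : ∃ θ : F, θ + σ θ ≠ 0 := by
    by_contra hc
    push Not at hc
    refine Δ.sig.ne_refl (RingEquiv.ext fun x => ?_)
    have h1 := hc 1
    rw [map_one] at h1
    show σ x = x
    linear_combination hc x - x * h1
  have h1 := hcon _ (Y.add_mem (Y.smul_mem (θ / φ x z) hx) hz)
  have hs := semi Δ
  rw [hs.add_left, hs.add_right, hs.add_right, hs.smul_left, hs.smul_left, hs.smul_right, hs.smul_right, hcon x hx,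
    hcon z hz, ← herm Δ x z, map_div₀] at h1
  simp only [mul_zero, zero_add, add_zero] at h1
  rw [div_mul_cancel₀ _ hne, div_mul_cancel₀ _ ((map_ne_zero σ).mpr hne)] at h1
  exact hθ h1

/-- An isometry mapping every member into some member, bijectively on the members, lies in the stabiliser. -/
theorem stab_of {g : Gl} (π : Equiv.Perm (Fin t)) (h : ∀ a, ∀ x ∈ D a, g ⬝ₘ x ∈ D (π a)) :
    g ∈ decompositionStabilizer D := by
  refine ⟨π, fun a => Submodule.eq_of_le_of_finrank_eq ?_ ?_⟩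
  · rintro _ ⟨x, hx, rfl⟩
    rw [Matrix.toLin'_apply]
    exact h a x hx
  · rw [← (Submodule.equivMapOfInjective _ (fun x y e => gl_mulVec_injective g (by
      simpa [Matrix.toLin'_apply] using e)) (D a)).finrank_eq, Δ.decomp.decomp.finrank_eq, Δ.decomp.decomp.finrank_eq]

/-- An element adding to each vector multiples of vectors of one member lies in the stabiliser. -/
theorem stab_local {g : Gl} {b : Fin t}
    (h : ∀ a, a ≠ b → ∀ x ∈ D a, g ⬝ₘ x = x) (hb : ∀ x ∈ D b, g ⬝ₘ x ∈ D b) : g ∈ decompositionStabilizer D :=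
  stab_of Δ 1 fun a x hx => by
    by_cases hab : a = b
    · subst hab; exact hb x hx
    · rw [h a hab x hx]; exact hx

/-- A rank one change of the identity. -/
theorem exists_rank_one (v u : Vn) (c : F) (h : 1 + c * φ v u ≠ 0) :
    ∃ g : Gl, (g : Matrix (Fin n) (Fin n) F).det = 1 + c * φ v u ∧ ∀ x, g ⬝ₘ x = x + (c * φ x u) • v := by
  let L : Vn →ₗ[F] F :=
    { toFun := fun x => φ x u, map_add' := fun a b => (semi Δ).add_left a b u,
      map_smul' := fun r a => (semi Δ).smul_left r a u }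
  obtain ⟨b, hb⟩ := Radical.exists_vec (c • L)
  let M : Matrix (Fin n) (Fin n) F := 1 + Matrix.replicateCol Unit v * Matrix.replicateRow Unit b
  have hd : M.det = 1 + c * φ v u := by
    rw [Matrix.det_one_add_replicateCol_mul_replicateRow, hb]; rfl
  refine ⟨Matrix.GeneralLinearGroup.mkOfDetNeZero M (by rw [hd]; exact h), by
    rw [Matrix.GeneralLinearGroup.val_mkOfDetNeZero]; exact hd, fun x => ?_⟩
  rw [Matrix.GeneralLinearGroup.val_mkOfDetNeZero, show c * φ x u = b ⬝ᵥ x from (hb x).symm]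
  simp only [M]
  rw [Matrix.add_mulVec, Matrix.one_mulVec, ← Matrix.mulVec_mulVec]
  congr 1
  funext i
  simp [Matrix.mulVec, dotProduct, Matrix.replicateCol_apply, Matrix.replicateRow_apply, Finset.mul_sum,
    Finset.sum_mul, mul_assoc, mul_comm, mul_left_comm]

/-- A pseudo-reflection with prescribed determinant. -/
theorem exists_pref {b : Fin t} {e : Vn} (he : e ∈ D b) (hee : φ e e ≠ 0) {μ : F} (hμ : μ * σ μ = 1) :
    ∃ g : Gl, g ∈ GU n F q ∧ g ∈ decompositionStabilizer D ∧ (g : Matrix (Fin n) (Fin n) F).det = μ ∧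
      (∀ x, φ x e = 0 → g ⬝ₘ x = x) ∧ ∀ a, ∀ x ∈ D a, g ⬝ₘ x ∈ D a := by
  have hs := semi Δ
  have hμ0 : μ ≠ 0 := left_ne_zero_of_mul_eq_one hμ
  obtain ⟨g, hd, hg⟩ := exists_rank_one Δ e e ((μ - 1) / φ e e) (by rw [div_mul_cancel₀ _ hee, add_sub_cancel]; exact hμ0)
  rw [div_mul_cancel₀ _ hee, add_sub_cancel] at hd
  have hfix : ∀ a, ∀ x ∈ D a, g ⬝ₘ x ∈ D a := fun a x hx => by
    rw [hg]
    by_cases hab : a = b
    · subst hab; exact add_mem hx ((D a).smul_mem _ he)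
    · rw [orth Δ hab hx he, mul_zero, zero_smul, add_zero]; exact hx
  refine ⟨g, mem_GU_iff.mpr fun x y => ?_, stab_of Δ 1 hfix, hd, fun x hx => by
    rw [hg, hx, mul_zero, zero_smul, add_zero], hfix⟩
  rw [hg, hg]
  simp only [hs.add_left, hs.add_right, hs.smul_left, hs.smul_right, map_mul, map_div₀, map_sub, map_one, herm Δ]
  field_simp
  linear_combination (φ x e * φ e y) * hμ

/-- The scaling of a hyperbolic pair inside a member. -/
theorem exists_torus {b : Fin t} {v z : Vn} (hv : v ∈ D b) (hz : z ∈ D b) (hvv : φ v v = 0) (hzz : φ z z = 0)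
    (hvz : φ v z = 1) {l : F} (hl : l ≠ 0) :
    ∃ g : Gl, g ∈ GU n F q ∧ (g : Matrix (Fin n) (Fin n) F).det = l * (σ l)⁻¹ ∧ g ⬝ₘ v = l • v ∧
      (∀ x, φ x v = 0 → φ x z = 0 → g ⬝ₘ x = x) ∧ ∀ a, ∀ x ∈ D a, g ⬝ₘ x ∈ D a := by
  have hs := semi Δ
  have hσl : σ l ≠ 0 := (map_ne_zero σ).mpr hl
  have hzv : φ z v = 1 := by rw [← herm Δ, hvz, map_one]
  obtain ⟨g₁, hd₁, h₁⟩ := exists_rank_one Δ v z (l - 1) (by rw [hvz, mul_one, add_sub_cancel]; exact hl)
  obtain ⟨g₂, hd₂, h₂⟩ := exists_rank_one Δ z v ((σ l)⁻¹ - 1) (by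
    rw [hzv, mul_one, add_sub_cancel]; exact inv_ne_zero hσl)
  rw [hvz, mul_one, add_sub_cancel] at hd₁
  rw [hzv, mul_one, add_sub_cancel] at hd₂
  have hx : ∀ x, (g₁ * g₂ : Gl) ⬝ₘ x = x + (((l - 1) * φ x z) • v + (((σ l)⁻¹ - 1) * φ x v) • z) := fun x => by
    rw [gl_mul_mulVec, h₂, h₁, hs.add_left, hs.smul_left, hzz]
    module
  refine ⟨g₁ * g₂, mem_GU_iff.mpr fun x y => ?_, by rw [Units.val_mul, Matrix.det_mul, hd₁, hd₂], ?_,
    fun x h1 h2 => by rw [hx, h1, h2]; simp, fun a x hxa => ?_⟩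
  · rw [hx, hx]
    simp only [hs.add_left, hs.add_right, hs.smul_left, hs.smul_right, hvv, hzz, hvz, hzv, map_mul, map_sub, map_one,
      map_inv₀, Δ.sig.involutive, herm Δ]
    field_simp
    ring
  · rw [hx, hvz, hvv]
    simp only [mul_one, mul_zero, zero_smul, add_zero]
    module
  · rw [hx]
    by_cases hab : a = b
    · subst hab; exact add_mem hxa (add_mem ((D a).smul_mem _ hv) ((D a).smul_mem _ hz))
    · rw [orth Δ hab hxa hz, orth Δ hab hxa hv]; simpa using hxa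

/-- Interchanging two members. -/
theorem exists_swap {i j : Fin t} (hij : i ≠ j) :
    ∃ g : Gl, g ∈ suGL n F q ∧ g ∈ decompositionStabilizer D ∧
      (∀ b, b ≠ i → b ≠ j → ∀ x ∈ D b, g ⬝ₘ x = x) ∧ (∀ x ∈ D i, g ⬝ₘ x ∈ D j) := by
  classical
  have hs := semi Δ
  have hND : ∀ a, IsHermND σ (fun x y : D a => φ x y) := fun a => (UPlanes.hermND Δ.sig n).res fun x hx h => by
    by_contra h0
    obtain ⟨z, hz, hne⟩ := nd Δ hx h0
    exact hne (h z hz)
  obtain ⟨ei, hei⟩ := UPlanes.exists_std Δ.sig (hND i) (Δ.decomp.decomp.finrank_eq i)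
  obtain ⟨ej, hej⟩ := UPlanes.exists_std Δ.sig (hND j) (Δ.decomp.decomp.finrank_eq j)
  obtain ⟨e, he⟩ : ∃ e : Fin k → Vn, ∀ l, e l = ((ei.symm (Pi.single l 1) : D i) : Vn) := ⟨_, fun l => rfl⟩
  obtain ⟨e', he'⟩ : ∃ e' : Fin k → Vn, ∀ l, e' l = ((ej.symm (Pi.single l 1) : D j) : Vn) := ⟨_, fun l => rfl⟩
  have hei' : ∀ (x : D i) l, φ (x : Vn) (e l) = ei x l := fun x l => by
    rw [he, ← hei x _, LinearEquiv.apply_symm_apply, Δ.sig.hermForm_eq,
      Finset.sum_eq_single l (fun m _ hm => by rw [Pi.single_eq_of_ne hm, map_zero, mul_zero]) (by simp),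
      Pi.single_eq_same, map_one, mul_one]
  have hej' : ∀ (x : D j) l, φ (x : Vn) (e' l) = ej x l := fun x l => by
    rw [he', ← hej x _, LinearEquiv.apply_symm_apply, Δ.sig.hermForm_eq,
      Finset.sum_eq_single l (fun m _ hm => by rw [Pi.single_eq_of_ne hm, map_zero, mul_zero]) (by simp),
      Pi.single_eq_same, map_one, mul_one]
  have hemem : ∀ l, e l ∈ D i := fun l => he l ▸ (ei.symm _).2
  have he'mem : ∀ l, e' l ∈ D j := fun l => he' l ▸ (ej.symm _).2
  have hee : ∀ l m, φ (e l) (e m) = if l = m then 1 else 0 := fun l m => by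
    rw [he l, hei', LinearEquiv.apply_symm_apply, Pi.single_apply]; simp [eq_comm]
  have he'e' : ∀ l m, φ (e' l) (e' m) = if l = m then 1 else 0 := fun l m => by
    rw [he' l, hej', LinearEquiv.apply_symm_apply, Pi.single_apply]; simp [eq_comm]
  obtain ⟨d, hd⟩ : ∃ d : Fin k → Vn, ∀ l, d l = e l - e' l := ⟨_, fun l => rfl⟩
  have hdd : ∀ l m, φ (d l) (d m) = if l = m then 2 else 0 := fun l m => by
    rw [hd, hd, sub_left Δ, sub_right Δ, sub_right Δ, hee, he'e', orth Δ hij (hemem l) (he'mem m),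
      orth Δ hij.symm (he'mem l) (hemem m)]
    split_ifs <;> ring
  have key : ∀ s : Finset (Fin k), ∃ g : Gl, g ∈ GU n F q ∧ (g : Matrix (Fin n) (Fin n) F).det = (-1) ^ s.card ∧
      ∀ x, g ⬝ₘ x = x - ∑ l ∈ s, φ x (d l) • d l := by
    intro s
    induction s using Finset.induction with
    | empty => exact ⟨1, one_mem _, by simp, fun x => by simp⟩
    | insert l s hl ih =>
      obtain ⟨g, hg, hgd, hgx⟩ := ih
      obtain ⟨r, hrd, hr⟩ := exists_rank_one Δ (d l) (d l) (-1) (by rw [hdd, if_pos rfl]; norm_num)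
      refine ⟨r * g, mul_mem (mem_GU_iff.mpr fun x y => ?_) hg, ?_, fun x => ?_⟩
      · rw [hr, hr]
        simp only [hs.add_left, hs.add_right, hs.smul_left, hs.smul_right, hdd, if_true, map_mul, map_neg, map_one,
          herm Δ]
        ring
      · rw [Units.val_mul, Matrix.det_mul, hgd, hrd, hdd, if_pos rfl, Finset.card_insert_of_notMem hl, pow_succ]
        ring
      · have h0 : φ (∑ m ∈ s, φ x (d m) • d m) (d l) = 0 := by
          rw [(refl Δ).sum_left]
          exact Finset.sum_eq_zero fun m hm => by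
            rw [hs.smul_left, hdd, if_neg (fun e => hl (by rw [← e]; exact hm)), mul_zero]
        rw [gl_mul_mulVec, hgx, hr, sub_left Δ, h0, Finset.sum_insert hl]
        module
  obtain ⟨g, hg, hgd, hgx⟩ := key Finset.univ
  have hfix : ∀ b, b ≠ i → b ≠ j → ∀ x ∈ D b, g ⬝ₘ x = x := fun b hbi hbj x hx => by
    rw [hgx, Finset.sum_eq_zero, sub_zero]
    intro l _
    rw [hd, sub_right Δ, orth Δ hbi hx (hemem l), orth Δ hbj hx (he'mem l), sub_zero, zero_smul]
  have hexp : ∀ x ∈ D i, x = ∑ l, φ x (e l) • e l := fun x hx => by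
    have h1 : (⟨x, hx⟩ : D i) = ∑ l, ei ⟨x, hx⟩ l • ei.symm (Pi.single l 1) := by
      conv_lhs => rw [← ei.symm_apply_apply ⟨x, hx⟩, pi_eq_sum_univ' (ei ⟨x, hx⟩), map_sum]
      simp only [map_smul]
    have h2 := congrArg Subtype.val h1
    simp only [AddSubmonoidClass.coe_finsetSum, Submodule.coe_smul] at h2
    refine h2.trans (Finset.sum_congr rfl fun l _ => ?_)
    rw [← hei' ⟨x, hx⟩ l, he]
  have hexp' : ∀ x ∈ D j, x = ∑ l, φ x (e' l) • e' l := fun x hx => by
    have h1 : (⟨x, hx⟩ : D j) = ∑ l, ej ⟨x, hx⟩ l • ej.symm (Pi.single l 1) := by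
      conv_lhs => rw [← ej.symm_apply_apply ⟨x, hx⟩, pi_eq_sum_univ' (ej ⟨x, hx⟩), map_sum]
      simp only [map_smul]
    have h2 := congrArg Subtype.val h1
    simp only [AddSubmonoidClass.coe_finsetSum, Submodule.coe_smul] at h2
    refine h2.trans (Finset.sum_congr rfl fun l _ => ?_)
    rw [← hej' ⟨x, hx⟩ l, he']
  have hi : ∀ x ∈ D i, g ⬝ₘ x ∈ D j := fun x hx => by
    have h1 : g ⬝ₘ x = ∑ l, φ x (e l) • e' l := by
      rw [hgx, sub_eq_iff_eq_add, ← Finset.sum_add_distrib]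
      conv_lhs => rw [hexp x hx]
      refine Finset.sum_congr rfl fun l _ => ?_
      rw [hd, sub_right Δ, orth Δ hij hx (he'mem l), sub_zero]
      module
    rw [h1]
    exact Submodule.sum_mem _ fun l _ => (D j).smul_mem _ (he'mem l)
  have hj : ∀ x ∈ D j, g ⬝ₘ x ∈ D i := fun x hx => by
    have h1 : g ⬝ₘ x = ∑ l, φ x (e' l) • e l := by
      rw [hgx, sub_eq_iff_eq_add, ← Finset.sum_add_distrib]
      conv_lhs => rw [hexp' x hx]
      refine Finset.sum_congr rfl fun l _ => ?_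
      rw [hd, sub_right Δ, orth Δ hij.symm hx (hemem l), zero_sub]
      module
    rw [h1]
    exact Submodule.sum_mem _ fun l _ => (D i).smul_mem _ (hemem l)
  have hperm : ∀ a, ∀ x ∈ D a, g ⬝ₘ x ∈ D (Equiv.swap i j a) := fun a x hx => by
    by_cases hai : a = i
    · subst hai; rw [Equiv.swap_apply_left]; exact hi x hx
    by_cases haj : a = j
    · subst haj; rw [Equiv.swap_apply_right]; exact hj x hx
    rw [Equiv.swap_apply_of_ne_of_ne hai haj, hfix a hai haj x hx]; exact hx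
  -- correcting the determinant
  obtain ⟨a, ha, haa⟩ := aniso Δ (Δ.decomp.nondegenerate i) fun e => by
    have := Δ.decomp.decomp.finrank_eq i
    rw [e, finrank_bot] at this
    have := Δ.two
    omega
  obtain ⟨r, hr, -, hrd, hrfix, hrD⟩ := exists_pref Δ ha haa (μ := (-1) ^ k) (by
    rw [map_pow, map_neg, map_one, ← mul_pow, neg_one_mul, neg_neg, one_pow])
  refine ⟨g * r, ⟨mul_mem hg hr, ?_⟩, stab_of Δ (Equiv.swap i j) fun b x hx => ?_, fun b hbi hbj x hx => ?_,
    fun x hx => ?_⟩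
  · refine mem_specialLinear_iff.mpr ?_
    rw [Units.val_mul, Matrix.det_mul, hgd, hrd, Finset.card_univ, Fintype.card_fin,
      ← mul_pow, neg_one_mul, neg_neg, one_pow]
  · rw [gl_mul_mulVec]; exact hperm b _ (hrD b x hx)
  · rw [gl_mul_mulVec, hrfix x (orth Δ hbi hx ha), hfix b hbi hbj x hx]
  · rw [gl_mul_mulVec]; exact hi _ (hrD i x hx)

end Cfsg.Agent.Classical.UDecomp
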