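/-
Stabilisers of orthogonal decompositions into non-degenerate members of dimension at least two are maximal in the
special unitary group.
-/
import Cfsg.Agent.Lib.Classical.UDecompTools

set_option autoImplicit false
set_option linter.unusedSectionVars false

namespace Cfsg.Agent.Classical.UDecomp

open Matrix Module Cfsg.Geo
open Cfsg.Agent.Classical
open Cfsg.Agent.Classical.Radical (EF UF exists_UF UF_iso)

variable {n q : ℕ} {F : Type*} [Field F] [Fintype F] {σ : F ≃+* F} {t k : ℕ}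
  {D : Fin t → Submodule F (Fin n → F)} {K : Subgroup (GL (Fin n) F)}

local notation "φ" => hermForm n F q
local notation "Gl" => GL (Fin n) F
local notation "Vn" => Fin n → F
local notation:max g:max " ⬝ₘ " x:max => ((g : Gl) : Matrix (Fin n) (Fin n) F) *ᵥ x

/-- All transvections with the given centre lie in the group. -/
def HasC (q : ℕ) (σ : F ≃+* F) (K : Subgroup (GL (Fin n) F)) (v : Fin n → F) : Prop :=
  ∀ c : F, c + σ c = 0 → ∀ g : GL (Fin n) F, UOver.Tv q g v c → g ∈ K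

/-- The parameters available with centre `v`. -/
def InA (q : ℕ) (σ : F ≃+* F) (K : Subgroup (GL (Fin n) F)) (v y : Fin n → F) : Prop :=
  hermForm n F q y v = 0 ∧ ∃ h ∈ K, EF σ 1 (hermForm n F q) v y h

variable (Δ : UData q σ k D)

include Δ

theorem mem_G {g : Gl} (h1 : g ∈ specialLinear (Fin n) F) (h2 : ∀ x y, φ (g ⬝ₘ x) (g ⬝ₘ y) = φ x y) :
    g ∈ suGL n F q := ⟨mem_GU_iff.mpr h2, h1⟩

theorem iso_of {g : Gl} (hg : g ∈ suGL n F q) (x y : Vn) : φ (g ⬝ₘ x) (g ⬝ₘ y) = φ x y :=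
  mem_GU_iff.mp hg.1 x y

theorem EF_mem {v y : Vn} {h : Gl} (hvv : φ v v = 0) (hyv : φ y v = 0) (hh : EF σ 1 φ v y h) :
    h ∈ suGL n F q := by
  haveI := nonempty Δ
  obtain ⟨c, hc, hx⟩ := hh
  obtain ⟨g, hg, hgU, hgx⟩ := exists_UF (refl Δ) hvv hyv hc
  rw [show h = g from gl_ext_mulVec fun x => by rw [hx, hgx]]
  exact mem_G Δ hg (UF_iso (refl Δ) hvv hgU)

theorem EF_exists {v : Vn} (hvv : φ v v = 0) {y : Vn} (hyv : φ y v = 0) : ∃ h : Gl, EF σ 1 φ v y h := by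
  haveI := nonempty Δ
  obtain ⟨X, hX⟩ := hiso Δ y
  obtain ⟨g, -, -, hg⟩ := exists_UF (refl Δ) hvv (c := -X) hyv (by rw [map_neg]; linear_combination -hX)
  exact ⟨g, -X, by rw [map_neg]; linear_combination -hX, hg⟩

theorem EF_comp {v y y' : Vn} {h h' : Gl} (hvv : φ v v = 0) (hyv : φ y v = 0) (hy'v : φ y' v = 0)
    (H : EF σ 1 φ v y h) (H' : EF σ 1 φ v y' h') : EF σ 1 φ v (y + y') (h * h') := by
  obtain ⟨c₁, hc₁, hx⟩ := H
  obtain ⟨c₂, hc₂, hx'⟩ := H'
  have hs := semi Δ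
  refine ⟨c₁ + c₂ - φ y' y, ?_, fun x => ?_⟩
  · rw [map_sub, map_add, hs.add_left, hs.add_right, hs.add_right, herm Δ]
    linear_combination hc₁ + hc₂
  · rw [gl_mul_mulVec, hx', hx]
    simp only [hs.add_left, hs.add_right, hs.smul_left, hvv, hy'v, swap0 Δ hyv, map_one, one_mul]
    module

theorem EF_conj {g : Gl} (hg : g ∈ suGL n F q) {v y : Vn} {h : Gl} (H : EF σ 1 φ v y h) :
    EF σ 1 φ (g ⬝ₘ v) (g ⬝ₘ y) (g * h * g⁻¹) := by
  obtain ⟨c, hc, hx⟩ := H
  refine ⟨c, by rw [iso_of Δ hg, hc], fun x => ?_⟩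
  obtain ⟨z, rfl⟩ : ∃ z, x = g ⬝ₘ z := ⟨_, (gl_mulVec_inv_cancel g x).symm⟩
  rw [gl_mul_mulVec, gl_mul_mulVec, gl_inv_mulVec_cancel, hx, iso_of Δ hg, iso_of Δ hg, Matrix.mulVec_add,
    Matrix.mulVec_add, Matrix.mulVec_smul, Matrix.mulVec_smul]

theorem EF_scale {l : F} {v y : Vn} {h : Gl} (H : EF σ 1 φ (l • v) y h) : EF σ 1 φ v (σ l • y) h := by
  obtain ⟨c, hc, hx⟩ := H
  have hs := semi Δ
  refine ⟨c * (l * σ l), ?_, fun x => ?_⟩
  · rw [hs.smul_left, hs.smul_right, map_mul, map_mul, Δ.sig.involutive]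
    linear_combination (l * σ l) * hc
  · rw [hx, hs.smul_right, hs.smul_right, Δ.sig.involutive, map_one]
    module

theorem tv_of_EF {v : Vn} {h : Gl} (H : EF σ 1 φ v 0 h) : ∃ c, c + σ c = 0 ∧ UOver.Tv q h v c := by
  obtain ⟨c, hc, hx⟩ := H
  refine ⟨c, by simpa [zl Δ] using hc, fun x => ?_⟩
  rw [hx, zr Δ, smul_zero, mul_zero, sub_zero, add_zero]

theorem tv_apply {v : Vn} (hvv : φ v v = 0) {c : F} (hc : c + σ c = 0) :
    ∃ g : Gl, g ∈ suGL n F q ∧ UOver.Tv q g v c := by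
  obtain ⟨g, hg, hx⟩ := Δ.sig.exists_transvection hvv hc
  exact ⟨g, hg, hx⟩

/-- A transvection with centre in a member. -/
theorem tv_stab {b : Fin t} {v : Vn} (hv : v ∈ D b) (hvv : φ v v = 0) {c : F} (hc : c + σ c = 0) {g : Gl}
    (hg : UOver.Tv q g v c) : g ∈ decompositionStabilizer D ⊓ suGL n F q :=
  ⟨stab_local Δ (b := b) (fun a hab x hx => by rw [hg, orth Δ hab hx hv, mul_zero, zero_smul, add_zero])
    (fun x hx => by rw [hg]; exact add_mem hx ((D b).smul_mem _ hv)), UOver.tv_mem Δ.sig hvv hc hg⟩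

theorem EF_stab {b : Fin t} {v y : Vn} (hv : v ∈ D b) (hy : y ∈ D b) (hvv : φ v v = 0) (hyv : φ y v = 0) {h : Gl}
    (hh : EF σ 1 φ v y h) : h ∈ decompositionStabilizer D ⊓ suGL n F q := by
  refine ⟨?_, EF_mem Δ hvv hyv hh⟩
  obtain ⟨c, -, hx⟩ := hh
  exact stab_local Δ (b := b) (fun a hab x hxa => by
      rw [hx, orth Δ hab hxa hv, orth Δ hab hxa hy]; simp)
    fun x hxb => by rw [hx]; exact add_mem (add_mem hxb ((D b).smul_mem _ hy)) ((D b).smul_mem _ hv)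

/-- A scalar fixed by the involution, other than zero and one. -/
theorem exists_fixed (hq : q ≠ 2) : ∃ l : F, σ l = l ∧ l ≠ 0 ∧ l ≠ 1 := by
  have h2 := Δ.sig.two_le
  obtain ⟨g, -, hord⟩ := Δ.sig.exists_gen
  have hfac : q ^ 2 - 1 = (q + 1) * (q - 1) := by
    obtain ⟨r, rfl⟩ : ∃ r, q = r + 1 := ⟨q - 1, by omega⟩
    simp only [Nat.add_sub_cancel]
    have : (r + 1) ^ 2 = (r + 1 + 1) * r + 1 := by ring
    omega
  refine ⟨((g ^ (q + 1) : Fˣ) : F), ?_, Units.ne_zero _, fun h => ?_⟩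
  · rw [Δ.sig.apply_eq, ← Units.val_pow_eq_pow_val]
    congr 1
    rw [← pow_mul, ← mul_inv_eq_one, ← pow_sub g (Nat.le_mul_of_pos_right (q + 1) (by omega)),
      ← Nat.mul_sub_one, ← hfac, ← hord, pow_orderOf_eq_one]
  · rw [Units.val_eq_one, ← orderOf_dvd_iff_pow_eq_one, hord, hfac] at h
    have := Nat.le_of_dvd (by omega) h
    have h3 : 2 * (q + 1) ≤ (q - 1) * (q + 1) := Nat.mul_le_mul_right _ (by omega)
    rw [mul_comm (q - 1)] at h3
    omega

/-- A multiplier of the centre realised in the stabiliser, fixing what is orthogonal to the member. -/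
theorem exists_mult {b : Fin t} {v : Vn} (hv : v ∈ D b) (hv0 : v ≠ 0) (hvv : φ v v = 0) :
    ∃ (l : F) (m : Gl), l ≠ 0 ∧ l ≠ 1 ∧ m ∈ decompositionStabilizer D ⊓ suGL n F q ∧ m ⬝ₘ v = l • v ∧
      ∀ x, (∀ z ∈ D b, φ x z = 0) → m ⬝ₘ x = x := by
  obtain ⟨z, hz, hzz, hvz⟩ := partner Δ hv hv0 hvv
  by_cases hq : q = 2
  swap
  · obtain ⟨l, hl, hl0, hl1⟩ := exists_fixed Δ hq
    obtain ⟨m, hm, hmd, hmv, hfix, hD⟩ := exists_torus Δ hv hz hvv hzz hvz hl0
    refine ⟨l, m, hl0, hl1, ⟨stab_of Δ 1 hD, hm, mem_specialLinear_iff.mpr ?_⟩, hmv, fun x hx => hfix x (hx v hv) (hx z hz)⟩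
    rw [hmd, hl, mul_inv_cancel₀ hl0]
  · have hk : 3 ≤ k := by
      have := Δ.two
      rcases Nat.lt_or_ge k 3 with h | h
      · exact absurd ⟨by omega, hq⟩ Δ.excl
      · exact h
    obtain ⟨l, hl0, hl1⟩ : ∃ l : F, l ≠ 0 ∧ l ≠ 1 := by
      obtain ⟨ζ, hζ, hζ1, -⟩ := Δ.sig.exists_norm_one
      exact ⟨ζ, left_ne_zero_of_mul_eq_one hζ, hζ1⟩
    have hf := refl Δ
    obtain ⟨Y, hY⟩ : ∃ Y, Y = D b ⊓ hf.perp (Submodule.span F {v, z}) := ⟨_, rfl⟩
    have hs := semi Δ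
    have hzv : φ z v = 1 := by rw [← herm Δ, hvz, map_one]
    have hYp : ∀ x ∈ Y, φ x v = 0 ∧ φ x z = 0 := fun x hx => by
      rw [hY] at hx
      exact ⟨hx.2 v (Submodule.subset_span (by simp)), hx.2 z (Submodule.subset_span (by simp))⟩
    have hYnd : IsNondegenerateOn φ Y := by
      intro x hx hx0
      obtain ⟨u, hu, hne⟩ := nd Δ (hY ▸ hx : x ∈ D b ⊓ _).1 hx0
      obtain ⟨u', hu'⟩ : ∃ u', u' = u - φ u z • v - φ u v • z := ⟨_, rfl⟩
      have hu'Y : u' ∈ Y := by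
        rw [hY]
        refine ⟨hu' ▸ sub_mem (sub_mem hu ((D b).smul_mem _ hv)) ((D b).smul_mem _ hz), fun w hw => ?_⟩
        obtain ⟨r, s, rfl⟩ := Submodule.mem_span_pair.mp hw
        rw [hu', hs.add_right, hs.smul_right, hs.smul_right, sub_left Δ, sub_left Δ, sub_left Δ, sub_left Δ,
          hs.smul_left, hs.smul_left, hs.smul_left, hs.smul_left, hvv, hvz, hzz, hzv]
        ring
      have h1 : φ x u' ≠ 0 := by
        rw [hu', sub_right Δ, sub_right Δ, hs.smul_right, hs.smul_right, (hYp x hx).1, (hYp x hx).2]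
        simpa using hne
      exact ⟨⟨u', hu'Y, fun e => h1 (swap0 Δ e)⟩, u', hu'Y, h1⟩
    obtain ⟨e, he, hee⟩ := aniso Δ hYnd fun e => by
      have h1 := Submodule.finrank_sup_add_finrank_inf_eq (D b) (hf.perp (Submodule.span F {v, z}))
      have h2 := hf.finrank_perp (Submodule.span F {v, z})
      have h3 := Submodule.finrank_le (D b ⊔ hf.perp (Submodule.span F {v, z}))
      have h4 := Radical.finrank_span_pair_le (F := F) v z
      rw [← hY, e, finrank_bot, Δ.decomp.decomp.finrank_eq] at h1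
      rw [Module.finrank_fintype_fun_eq_card] at h3
      omega
    obtain ⟨m, hm, hmd, hmv, hfix, hD⟩ := exists_torus Δ hv hz hvv hzz hvz hl0
    have heD : e ∈ D b := (hY ▸ he : e ∈ D b ⊓ _).1
    have hσl : σ l ≠ 0 := (map_ne_zero σ).mpr hl0
    obtain ⟨r, hr, hrS, hrd, hrfix, hrD⟩ := exists_pref Δ heD hee (μ := σ l * l⁻¹) (by
      rw [map_mul, map_inv₀, Δ.sig.involutive]; field_simp)
    refine ⟨l, m * r, hl0, hl1, ⟨mul_mem (stab_of Δ 1 hD) hrS, mul_mem hm hr, mem_specialLinear_iff.mpr ?_⟩, ?_,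
      fun x hx => ?_⟩
    · rw [Units.val_mul, Matrix.det_mul, hmd, hrd]; field_simp
    · rw [gl_mul_mulVec, hrfix v (swap0 Δ (hYp e he).1), hmv]
    · rw [gl_mul_mulVec, hrfix x (hx e heD), hfix x (hx v hv) (hx z hz)]

variable (hK : decompositionStabilizer D ⊓ suGL n F q ≤ K) (hKG : K ≤ suGL n F q)

include hK hKG

theorem hasC_map {g : Gl} (hg : g ∈ K) {v : Vn} (hv : HasC q σ K v) : HasC q σ K (g ⬝ₘ v) := fun c hc T hT => by
  have h := UOver.tv_conj (inv_mem (hKG hg).1) hT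
  rw [gl_inv_mulVec_cancel, inv_inv] at h
  have := mul_mem (mul_mem hg (hv c hc _ h)) (inv_mem hg)
  rwa [show g * (g⁻¹ * T * g) * g⁻¹ = T by group] at this

theorem hasC_block {b : Fin t} {v : Vn} (hv : v ∈ D b) (hvv : φ v v = 0) : HasC q σ K v :=
  fun _ hc _ hg => hK (tv_stab Δ hv hvv hc hg)

theorem hasC_join {u u' : Vn} (hu : HasC q σ K u) (hu' : HasC q σ K u') (huu : φ u u = 0) (huu' : φ u' u' = 0)
    (hne : φ u u' ≠ 0) {s : F} (hs0 : φ (u + s • u') (u + s • u') = 0) : HasC q σ K (u + s • u') := by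
  have hs := semi Δ
  rw [hs.add_left, hs.add_right, hs.add_right, hs.smul_left, hs.smul_left, hs.smul_right, hs.smul_right, huu, huu',
    ← herm Δ u u'] at hs0
  have hne' : σ (φ u u') ≠ 0 := (map_ne_zero σ).mpr hne
  have hc : s / φ u u' + σ (s / φ u u') = 0 := by
    rw [map_div₀]; field_simp
    linear_combination hs0
  obtain ⟨g, hg, hgx⟩ := tv_apply Δ huu' hc
  have e : g ⬝ₘ u = u + s • u' := by rw [hgx, div_mul_cancel₀ _ hne]
  exact e ▸ hasC_map Δ hK hKG (hu' _ hc g hgx) hu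

/-- A centre with components in two members. -/
theorem exists_mixed {g : Gl} (hg : g ∈ K) (hgn : g ∉ decompositionStabilizer D) :
    ∃ w, φ w w = 0 ∧ HasC q σ K w ∧ ∀ b, w ∉ D b := by
  haveI := nonempty Δ
  by_contra hcon
  push Not at hcon
  apply hgn
  have hin : ∀ a v, v ∈ D a → φ v v = 0 → ∃ b, g ⬝ₘ v ∈ D b := fun a v hv hvv =>
    hcon _ ((iso_of Δ (hKG hg) v v).trans hvv) (hasC_map Δ hK hKG hg (hasC_block Δ hK hKG hv hvv))
  have hone : ∀ a, ∃ b, ∀ v ∈ D a, g ⬝ₘ v ∈ D b := by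
    intro a
    obtain ⟨v, hv, hv0, hvv⟩ := iso_in Δ (Y := D a) (by rw [Δ.decomp.decomp.finrank_eq]; exact Δ.two)
    obtain ⟨z, hz, hzz, hvz⟩ := partner Δ hv hv0 hvv
    obtain ⟨b, hb⟩ := hin a v hv hvv
    refine ⟨b, ?_⟩
    have hnb : ∀ {x c}, g ⬝ₘ x ∈ D c → φ x v ≠ 0 → c = b := fun {x c} hx hne => by
      by_contra hcb
      exact hne ((iso_of Δ (hKG hg) x v).symm.trans (orth Δ hcb hx hb))
    have hzv : φ z v ≠ 0 := by rw [← herm Δ, hvz, map_one]; exact one_ne_zero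
    have hzb : g ⬝ₘ z ∈ D b := by
      obtain ⟨c, hc⟩ := hin a z hz hzz
      exact hnb hc hzv ▸ hc
    have hnb' : ∀ {x c}, g ⬝ₘ x ∈ D c → φ x z ≠ 0 → c = b := fun {x c} hx hne => by
      by_contra hcb
      exact hne ((iso_of Δ (hKG hg) x z).symm.trans (orth Δ hcb hx hzb))
    intro x hx
    refine (show Submodule.span F {s | s ∈ D a ∧ φ s s = 0} ≤
      (D b).comap (Matrix.toLin' (g : Matrix (Fin n) (Fin n) F)) from Submodule.span_le.mpr ?_) (iso_span Δ hx)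
    rintro y ⟨hy, hyy⟩
    show Matrix.toLin' _ y ∈ D b
    rw [Matrix.toLin'_apply]
    obtain ⟨c, hc⟩ := hin a y hy hyy
    by_cases h1 : φ y v = 0
    swap
    · exact hnb hc h1 ▸ hc
    by_cases h2 : φ y z = 0
    swap
    · exact hnb' hc h2 ▸ hc
    obtain ⟨c', hc'⟩ := hin a (y + v) (add_mem hy hv) (by
      rw [(semi Δ).add_left, (semi Δ).add_right, (semi Δ).add_right, hyy, hvv, h1, swap0 Δ h1]; ring)
    have hc'b := hnb' hc' (by rw [(semi Δ).add_left, h2, hvz, zero_add]; exact one_ne_zero)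
    rw [hc'b, Matrix.mulVec_add] at hc'
    exact ((D b).add_mem_iff_left hb).mp hc'
  choose π hπ using hone
  have hmap : ∀ a, (D a).map (Matrix.toLin' (g : Matrix (Fin n) (Fin n) F)) = D (π a) := fun a => by
    refine Submodule.eq_of_le_of_finrank_eq (Submodule.map_le_iff_le_comap.mpr fun x hx => by
      change Matrix.toLin' _ x ∈ D (π a)
      rw [Matrix.toLin'_apply]; exact hπ a x hx) ?_
    rw [← (Submodule.equivMapOfInjective _ (fun x y h => gl_mulVec_injective g (by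
      simpa [Matrix.toLin'_apply] using h)) (D a)).finrank_eq, Δ.decomp.decomp.finrank_eq,
      Δ.decomp.decomp.finrank_eq]
  have hinj : Function.Injective π := fun a a' h => by
    by_contra hne'
    have h1 : D a = D a' := Submodule.map_injective_of_injective
      (f := Matrix.toLin' (g : Matrix (Fin n) (Fin n) F)) (fun x y h => gl_mulVec_injective g (by
      simpa [Matrix.toLin'_apply] using h)) (by rw [hmap, hmap, h])
    have h2 : D a = ⊥ := disjoint_self.mp ((Δ.decomp.decomp.indep.pairwiseDisjoint hne').mono_right h1.le)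
    have := Δ.decomp.decomp.finrank_eq a
    rw [h2, finrank_bot] at this
    have := Δ.two
    omega
  exact ⟨Equiv.ofBijective π (Finite.injective_iff_bijective.mp hinj), hmap⟩

/-- From an isotropic component to a radical element. -/
theorem seed_iso {w v : Vn} (hw : HasC q σ K w) (hww : φ w w = 0) {b : Fin t} (hv : v ∈ D b) (hv0 : v ≠ 0)
    (hvv : φ v v = 0) (hwv : ∀ z ∈ D b, φ (w - v) z = 0) (hne : w ≠ v) :
    ∃ y, y ∉ D b ∧ InA q σ K v y := by
  have hs := semi Δ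
  obtain ⟨l, m, hl0, hl1, hm, hmv, hfix⟩ := exists_mult Δ hv hv0 hvv
  obtain ⟨r, hr⟩ : ∃ r, r = w - v := ⟨_, rfl⟩
  rw [← hr] at hwv
  have hwr : w = v + r := by rw [hr]; abel
  have hrv : φ r v = 0 := hwv v hv
  have hrr : φ r r = 0 := by
    rw [hwr, hs.add_left, hs.add_right, hs.add_right, hvv, hrv, swap0 Δ hrv] at hww
    linear_combination hww
  have hw' : HasC q σ K (l • v + r) := by
    have := hasC_map Δ hK hKG (hK hm) hw
    rwa [hwr, Matrix.mulVec_add, hmv, hfix r hwv] at this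
  obtain ⟨c, hc0, hc⟩ := Δ.sig.exists_skew
  have hc' : -c + σ (-c) = 0 := by rw [map_neg]; linear_combination -hc
  have hlv : φ (l • v + r) (l • v + r) = 0 := by
    rw [hs.add_left, hs.add_right, hs.add_right, hs.smul_left, hs.smul_left, hs.smul_right, hs.smul_right, hvv, hrr,
      hrv, swap0 Δ hrv]
    ring
  obtain ⟨T, hT, hTx⟩ := tv_apply Δ hww hc
  obtain ⟨T', hT', hT'x⟩ := tv_apply Δ hlv hc'
  obtain ⟨y, hy⟩ : ∃ y, y = (c * (1 - σ l)) • r := ⟨_, rfl⟩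
  have hyv : φ y v = 0 := by rw [hy, hs.smul_left, hrv, mul_zero]
  have hl1' : 1 - σ l ≠ 0 := fun e => hl1 (by
    rw [← Δ.sig.involutive l, ← sub_eq_zero.mp e, map_one])
  refine ⟨y, fun hyD => ?_, hyv, T' * T, mul_mem (hw' _ hc' T' hT'x) (hw _ hc T hTx), c * (1 - l * σ l), ?_, fun x => ?_⟩
  · have hrD : r ∈ D b := by
      rw [hy] at hyD
      exact ((D b).smul_mem_iff (mul_ne_zero hc0 hl1')).mp hyD
    refine hne ?_
    by_contra h
    obtain ⟨z, hz, hnz⟩ := nd Δ hrD (hr ▸ sub_ne_zero.mpr h)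
    exact hnz (hwv z hz)
  · rw [hy, hs.smul_left, hs.smul_right, hrr, map_mul, map_sub, map_mul, map_one, Δ.sig.involutive]
    linear_combination (1 - l * σ l) * hc
  · rw [gl_mul_mulVec, hTx, hT'x, hwr, hy]
    simp only [hs.add_left, hs.add_right, hs.smul_left, hs.smul_right, hvv, hrr, hrv, swap0 Δ hrv, map_mul, map_sub,
      map_one, Δ.sig.involutive, show σ c = -c by linear_combination hc]
    module

/-- Subtracting an isotropic vector from a component. -/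
theorem hasC_sub {w c u : Vn} (hw : HasC q σ K w) {a : Fin t} (hc : c ∈ D a) (hwc : ∀ z ∈ D a, φ w z = φ c z)
    (hu : u ∈ D a) (huu : φ u u = 0) (hcc : φ c c ≠ 0) (hcu : φ c u + σ (φ c u) = 0) : HasC q σ K (w - u) := by
  have hs := semi Δ
  by_cases h0 : φ c u = 0
  · by_cases hu0 : u = 0
    · rw [hu0, sub_zero]; exact hw
    have hcsp : c ∉ Submodule.span F {u} := fun e => by
      obtain ⟨r, rfl⟩ := Submodule.mem_span_singleton.mp e
      exact hcc (by rw [hs.smul_left, hs.smul_right, huu, mul_zero, mul_zero])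
    obtain ⟨y, hy, hyu, hyc⟩ := sep Δ hc hu hcsp
    obtain ⟨y', hy'⟩ : ∃ y', y' = (φ y c)⁻¹ • y := ⟨_, rfl⟩
    have hy'u : φ y' u = 0 := by rw [hy', hs.smul_left, hyu, mul_zero]
    obtain ⟨h, hh⟩ := EF_exists Δ huu hy'u
    have hhM := EF_stab Δ hu (hy' ▸ (D a).smul_mem _ hy) huu hy'u hh
    have hcy : φ c y' = 1 := by
      rw [← herm Δ, hy', hs.smul_left, inv_mul_cancel₀ hyc, map_one]
    obtain ⟨c', -, hx⟩ := hh
    have := hasC_map Δ hK hKG (hK hhM) hw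
    rwa [hx, hwc u hu, hwc y' (hy' ▸ (D a).smul_mem _ hy), h0, hcy, zero_smul, add_zero, mul_zero, map_one, one_mul,
      zero_sub, neg_one_smul, ← sub_eq_add_neg] at this
  · have hne' : σ (φ c u) ≠ 0 := (map_ne_zero σ).mpr h0
    have hc2 : -(φ c u)⁻¹ + σ (-(φ c u)⁻¹) = 0 := by
      rw [map_neg, map_inv₀]; field_simp
      linear_combination -hcu
    obtain ⟨g, hg, hgx⟩ := tv_apply Δ huu hc2
    have := hasC_map Δ hK hKG (hK (tv_stab Δ hu huu hc2 hgx)) hw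
    rwa [hgx, hwc u hu, neg_mul, inv_mul_cancel₀ h0, neg_one_smul, ← sub_eq_add_neg] at this

/-- An isotropic vector in a member with prescribed skew inner product. -/
theorem exists_u {a : Fin t} {c : Vn} (hc : c ∈ D a) (hc0 : c ≠ 0) (κ : F) (hκ : κ ≠ 0) :
    ∃ u ∈ D a, φ u u = 0 ∧ φ c u = κ ∧ u ≠ 0 := by
  have hs := semi Δ
  obtain ⟨z, hz, hne⟩ := nd Δ hc hc0
  obtain ⟨e, ⟨he, hee⟩, hce⟩ : ∃ e ∈ {s | s ∈ D a ∧ φ s s = 0}, φ c e ≠ 0 := by
    by_contra hcon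
    push Not at hcon
    have h1 : Submodule.span F {s | s ∈ D a ∧ φ s s = 0} ≤ (refl Δ).perp (Submodule.span F {c}) :=
      Submodule.span_le.mpr fun x hx w hw => by
        obtain ⟨r, rfl⟩ := Submodule.mem_span_singleton.mp hw
        rw [hs.smul_right, swap0 Δ (hcon x hx), mul_zero]
    exact hne (swap0 Δ (h1 (iso_span Δ hz) c (Submodule.mem_span_singleton_self c)))
  refine ⟨σ (κ / φ c e) • e, (D a).smul_mem _ he, ?_, ?_, fun h => ?_⟩
  · rw [hs.smul_left, hs.smul_right, hee, mul_zero, mul_zero]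
  · rw [hs.smul_right, Δ.sig.involutive, div_mul_cancel₀ _ hce]
  · rw [smul_eq_zero] at h
    rcases h with h | h
    · exact div_ne_zero hκ hce ((map_eq_zero σ).mp h)
    · exact hce (by rw [h]; exact zr Δ c)

/-- A radical element leaving a member. -/
theorem exists_seed {g : Gl} (hg : g ∈ K) (hgn : g ∉ decompositionStabilizer D) :
    ∃ (b : Fin t) (v y : Vn), v ∈ D b ∧ v ≠ 0 ∧ φ v v = 0 ∧ y ∉ D b ∧ InA q σ K v y := by
  classical
  have hs := semi Δ
  obtain ⟨w, hww, hw, hwm⟩ := exists_mixed Δ hK hKG hg hgn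
  obtain ⟨c, hc, hcw⟩ := components Δ w
  have hpair : ∀ a, ∀ z ∈ D a, φ w z = φ (c a) z := fun a z hz => hcw ▸ pair_sum Δ hc hz
  have case : ∀ (w : Vn) (b : Fin t) (v : Vn), HasC q σ K w → φ w w = 0 → v ∈ D b → v ≠ 0 → φ v v = 0 →
      (∀ z ∈ D b, φ w z = φ v z) → w ≠ v →
      ∃ (b : Fin t) (v y : Vn), v ∈ D b ∧ v ≠ 0 ∧ φ v v = 0 ∧ y ∉ D b ∧ InA q σ K v y :=
    fun w b v hw hww hv hv0 hvv hwv hne => by
      obtain ⟨y, hy, hA⟩ := seed_iso Δ hK hKG hw hww hv hv0 hvv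
        (fun z hz => by rw [sub_left Δ, hwv z hz, sub_self]) hne
      exact ⟨b, v, y, hv, hv0, hvv, hy, hA⟩
  by_cases hiso' : ∃ b, c b ≠ 0 ∧ φ (c b) (c b) = 0
  · obtain ⟨b, hb, hbb⟩ := hiso'
    exact case w b (c b) hw hww (hc b) hb hbb (hpair b) fun e => hwm b (e ▸ hc b)
  push Not at hiso'
  obtain ⟨a, ha⟩ : ∃ a, c a ≠ 0 := by
    by_contra hcon
    push Not at hcon
    exact hwm ⟨0, by have := Δ.decomp.decomp.two_le; omega⟩
      (by rw [← hcw, Finset.sum_eq_zero fun a _ => hcon a]; exact zero_mem _)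
  obtain ⟨b, hba, hb⟩ : ∃ b, b ≠ a ∧ c b ≠ 0 := by
    by_contra hcon
    push Not at hcon
    refine hwm a ?_
    rw [← hcw, Finset.sum_eq_single a (fun b _ hb => hcon b hb) (fun h => absurd (Finset.mem_univ _) h)]
    exact hc a
  obtain ⟨κ, hκ0, hκ⟩ := Δ.sig.exists_skew
  obtain ⟨u, hu, huu, hcu, hu0⟩ := exists_u Δ hK hKG (hc a) ha κ hκ0
  obtain ⟨κ', u', hu', hu'u', hcu', hκ', hsum⟩ : ∃ (κ' : F) (u' : Vn), u' ∈ D b ∧ φ u' u' = 0 ∧ φ (c b) u' = κ' ∧
      κ' + σ κ' = 0 ∧ κ + κ' ≠ 0 ∧ u' ≠ 0 := by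
    by_cases hq : q = 2
    · have hf := refl Δ
      obtain ⟨u', hu', hu'0, hu'u'⟩ := iso_in Δ (Y := D b ⊓ hf.perp (Submodule.span F {c b})) (by
        have h1 := Submodule.finrank_sup_add_finrank_inf_eq (D b) (hf.perp (Submodule.span F {c b}))
        have h2 := hf.finrank_perp (Submodule.span F {c b})
        have h3 := Submodule.finrank_le (D b ⊔ hf.perp (Submodule.span F {c b}))
        rw [finrank_span_singleton hb] at h2
        rw [Δ.decomp.decomp.finrank_eq] at h1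
        rw [Module.finrank_fintype_fun_eq_card] at h3
        have := Δ.two
        rcases Nat.lt_or_ge k 3 with h | h
        · exact absurd ⟨by omega, hq⟩ Δ.excl
        · omega)
      exact ⟨0, u', hu'.1, hu'u', swap0 Δ (hu'.2 _ (Submodule.mem_span_singleton_self _)), by simp,
        by rwa [add_zero], hu'0⟩
    · obtain ⟨l, hl, hl0, hlne⟩ : ∃ l : F, σ l = l ∧ l ≠ 0 ∧ 1 + l ≠ 0 := by
        by_cases h2 : (2 : F) = 0
        · obtain ⟨l, hl, hl0, hl1⟩ := exists_fixed Δ hq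
          exact ⟨l, hl, hl0, fun e => hl1 (by linear_combination e - h2)⟩
        · exact ⟨1, map_one σ, one_ne_zero, by rwa [one_add_one_eq_two]⟩
      obtain ⟨u', hu', hu'u', hcu', hu'0⟩ := exists_u Δ hK hKG (hc b) hb (l * κ) (mul_ne_zero hl0 hκ0)
      refine ⟨l * κ, u', hu', hu'u', hcu', by rw [map_mul, hl]; linear_combination l * hκ, ?_, hu'0⟩
      rw [show κ + l * κ = (1 + l) * κ by ring]
      exact mul_ne_zero hlne hκ0
  obtain ⟨hsum, hu'0⟩ := hsum
  have h1 := hasC_sub Δ hK hKG hw (hc a) (hpair a) hu huu (hiso' a ha) (by rw [hcu]; exact hκ)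
  have h2 := hasC_sub Δ hK hKG h1 (hc b) (fun z hz => by
    rw [sub_left Δ, hpair b z hz, orth Δ hba.symm hu hz, sub_zero]) hu' hu'u' (hiso' b hb) (by rw [hcu']; exact hκ')
  have e1 : φ w u = κ := by rw [hpair a u hu, hcu]
  have e2 : φ w u' = κ' := by rw [hpair b u' hu', hcu']
  have e1' : φ u w = σ κ := by rw [← e1, herm Δ]
  have e2' : φ u' w = σ κ' := by rw [← e2, herm Δ]
  have hw2 : φ (w - u - u') (w - u - u') = 0 := by
    simp only [sub_left Δ, sub_right Δ, hww, huu, hu'u', e1, e2, e1', e2', orth Δ hba.symm hu hu',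
      orth Δ hba hu' hu]
    linear_combination (-1 : F) * hκ - hκ'
  have hne : φ w (w - u - u') ≠ 0 := by
    rw [sub_right Δ, sub_right Δ, hww, e1, e2]
    exact fun e => hsum (by linear_combination -e)
  have he : w + (-1 : F) • (w - u - u') = u + u' := by module
  have huv : φ (u + u') (u + u') = 0 := by
    rw [hs.add_left, hs.add_right, hs.add_right, huu, hu'u', orth Δ hba.symm hu hu', orth Δ hba hu' hu]; ring
  have h3 := hasC_join Δ hK hKG hw h2 hww hw2 hne (s := -1) (by rw [he]; exact huv)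
  rw [he] at h3
  exact case (u + u') a u h3 huv hu hu0 huu (fun z hz => by rw [hs.add_left, orth Δ hba hu' hz, add_zero])
    fun e => hu'0 (add_eq_left.mp e)

/-- The parameters are closed under addition. -/
theorem inA_add {v y y' : Vn} (hvv : φ v v = 0) (h : InA q σ K v y) (h' : InA q σ K v y') :
    InA q σ K v (y + y') := by
  obtain ⟨hy, g, hg, hgE⟩ := h
  obtain ⟨hy', g', hg', hgE'⟩ := h'
  exact ⟨by rw [(semi Δ).add_left, hy, hy', add_zero], g * g', mul_mem hg hg',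
    EF_comp Δ hvv hy hy' hgE hgE'⟩

theorem inA_move {v y : Vn} (h : InA q σ K v y) {m : Gl} (hm : m ∈ K) {l : F} (hl : l ≠ 0)
    (hmv : m ⬝ₘ v = l • v) : InA q σ K v (σ l • m ⬝ₘ y) := by
  obtain ⟨hy, g, hg, hgE⟩ := h
  have h1 := EF_conj Δ (hKG hm) hgE
  rw [hmv] at h1
  refine ⟨?_, _, mul_mem (mul_mem hm hg) (inv_mem hm), EF_scale Δ h1⟩
  have h2 := iso_of Δ (hKG hm) y v
  rw [hmv, hy, (semi Δ).smul_right] at h2
  rw [(semi Δ).smul_left, (mul_eq_zero.mp h2).resolve_left ((map_ne_zero σ).mpr hl), mul_zero]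

theorem inA_block {b : Fin t} {v y : Vn} (hv : v ∈ D b) (hy : y ∈ D b) (hvv : φ v v = 0) (hyv : φ y v = 0) :
    InA q σ K v y := by
  obtain ⟨h, hh⟩ := EF_exists Δ hvv hyv
  exact ⟨hyv, h, hK (EF_stab Δ hv hy hvv hyv hh), hh⟩

/-- Spreading inside another member. -/
theorem spread {b i : Fin t} (hib : i ≠ b) {v : Vn} (hv : v ∈ D b) (hv0 : v ≠ 0) (hvv : φ v v = 0) {y : Vn}
    (hy : InA q σ K v y) {u : Vn} (hu : u ∈ D i) (huu : φ u u = 0) (hyu : φ y u ≠ 0) (r : F) :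
    InA q σ K v (r • u) := by
  have hs := semi Δ
  have hu0 : u ≠ 0 := fun e => hyu (by rw [e]; exact zr Δ y)
  obtain ⟨z, hz, hzz, hvz⟩ := partner Δ hv hv0 hvv
  obtain ⟨x, hx, hxx, hux⟩ := partner Δ hu hu0 huu
  -- one multiple
  obtain ⟨κ, hκ0, hκ⟩ := Δ.sig.exists_skew
  obtain ⟨γ, hγ0, hγ⟩ : ∃ γ : F, γ ≠ 0 ∧ InA q σ K v (γ • u) := by
    obtain ⟨T, hT, hTx⟩ := tv_apply Δ huu hκ
    have h1 := inA_move Δ hK hKG hy (hK (tv_stab Δ hu huu hκ hTx)) one_ne_zero (l := 1) (by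
      rw [hTx, orth Δ hib.symm hv hu, mul_zero, zero_smul, add_zero, one_smul])
    rw [map_one, one_smul, hTx] at h1
    have hneg : InA q σ K v (-y) := by
      obtain ⟨hy0, g, hg, hgE⟩ := hy
      have hny : φ (-y) v = 0 := by rw [← neg_one_smul F y, hs.smul_left, hy0, mul_zero]
      obtain ⟨g', hg'⟩ := EF_exists Δ hvv hny
      refine ⟨hny, g', ?_, hg'⟩
      have h0 := EF_comp Δ hvv hy0 hny hgE hg'
      rw [add_neg_cancel] at h0
      have := mul_mem (inv_mem hg) (hK (EF_stab Δ hv (D b).zero_mem hvv (zl Δ v) h0))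
      rwa [inv_mul_cancel_left] at this
    refine ⟨κ * φ y u, mul_ne_zero hκ0 hyu, ?_⟩
    have := inA_add Δ hK hKG hvv h1 hneg
    rwa [add_neg_cancel_comm] at this
  -- multipliers
  have hfix : ∀ (s : F), σ s = s → ∀ s', InA q σ K v (s' • u) → InA q σ K v ((s * s') • u) := by
    intro s hs1 s' h
    by_cases hs0 : s = 0
    · rw [hs0, zero_mul, zero_smul]; exact inA_block Δ hK hKG hv (D b).zero_mem hvv (zl Δ v)
    obtain ⟨m, hm, hmd, hmv, hmfix, hmD⟩ := exists_torus Δ hv hz hvv hzz hvz hs0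
    have hmK : m ∈ K := hK ⟨stab_of Δ 1 hmD, hm, mem_specialLinear_iff.mpr (by rw [hmd, hs1, mul_inv_cancel₀ hs0])⟩
    have := inA_move Δ hK hKG h hmK hs0 hmv
    rwa [hs1, Matrix.mulVec_smul, hmfix u (orth Δ hib hu hv) (orth Δ hib hu hz), smul_smul] at this
  have hsq : ∀ (s : F), s ≠ 0 → InA q σ K v ((s * s * γ) • u) := by
    intro s hs0
    have hσs : σ s ≠ 0 := (map_ne_zero σ).mpr hs0
    obtain ⟨m₁, hm₁, hd₁, hm₁v, hfix₁, hD₁⟩ := exists_torus Δ hv hz hvv hzz hvz hσs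
    obtain ⟨m₂, hm₂, hd₂, hm₂u, hfix₂, hD₂⟩ := exists_torus Δ hu hx huu hxx hux hs0
    have hmK : m₁ * m₂ ∈ K := hK ⟨mul_mem (stab_of Δ 1 hD₁) (stab_of Δ 1 hD₂), mul_mem hm₁ hm₂,
      mem_specialLinear_iff.mpr (by
        rw [Units.val_mul, Matrix.det_mul, hd₁, hd₂, Δ.sig.involutive]; field_simp)⟩
    have := inA_move Δ hK hKG hγ hmK hσs (by
      rw [gl_mul_mulVec, hfix₂ v (orth Δ hib.symm hv hu) (orth Δ hib.symm hv hx), hm₁v])
    rwa [Δ.sig.involutive, Matrix.mulVec_smul, gl_mul_mulVec, hm₂u, Matrix.mulVec_smul,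
      hfix₁ u (orth Δ hib hu hv) (orth Δ hib hu hz), smul_smul, smul_smul, show s * γ * s = s * s * γ by ring] at this
  -- a square outside the fixed field
  obtain ⟨η, hη, hησ⟩ : ∃ η : F, (∃ s, s ≠ 0 ∧ η = s * s) ∧ σ η ≠ η := by
    have h2 := Δ.sig.two_le
    obtain ⟨g, -, hord⟩ := Δ.sig.exists_gen
    refine ⟨(g : F) * g, ⟨g, Units.ne_zero _, rfl⟩, fun e => ?_⟩
    rw [Δ.sig.apply_eq, ← Units.val_mul, ← Units.val_pow_eq_pow_val, Units.val_inj, ← pow_two, ← pow_mul] at e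
    have h1 : g ^ (2 * (q - 1)) = 1 := by
      rw [Nat.mul_sub_one, pow_sub g (Nat.le_mul_of_pos_right 2 (by omega)), e, mul_inv_cancel]
    rw [← orderOf_dvd_iff_pow_eq_one, hord] at h1
    have := Nat.le_of_dvd (by omega) h1
    have h3 : 2 * (q - 1) < q ^ 2 - 1 := by
      obtain ⟨r, rfl⟩ : ∃ r, q = r + 1 := ⟨q - 1, by omega⟩
      simp only [Nat.add_sub_cancel]
      have h4 : (r + 1) ^ 2 = r * r + 2 * r + 1 := by ring
      have : 0 < r * r := Nat.mul_pos (by omega) (by omega)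
      omega
    omega
  obtain ⟨s, hs0, rfl⟩ := hη
  obtain ⟨x', hx'⟩ : ∃ x', x' = r / γ := ⟨_, rfl⟩
  obtain ⟨β, hβ⟩ : ∃ β, β = (x' - σ x') / (s * s - σ (s * s)) := ⟨_, rfl⟩
  have hne : s * s - σ (s * s) ≠ 0 := sub_ne_zero.mpr (Ne.symm hησ)
  have hne' : σ (s * s) - s * s ≠ 0 := sub_ne_zero.mpr hησ
  have hβσ : σ β = β := by
    rw [hβ, map_div₀, map_sub, map_sub, Δ.sig.involutive, Δ.sig.involutive]
    rw [div_eq_div_iff hne' hne]
    ring
  have hασ : σ (x' - β * (s * s)) = x' - β * (s * s) := by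
    have h : β * (s * s - σ (s * s)) = x' - σ x' := by rw [hβ, div_mul_cancel₀ _ hne]
    rw [map_sub, map_mul, hβσ]
    linear_combination h
  have := inA_add Δ hK hKG hvv (hfix _ hασ γ hγ) (hfix _ hβσ _ (hsq s hs0))
  rwa [← add_smul, show (x' - β * (s * s)) * γ + β * (s * s * γ) = x' * γ by ring, hx', div_mul_cancel₀ _ hγ0] at this

/-- The radical of the centre. -/
theorem has_of_seed {b : Fin t} {v y : Vn} (hv : v ∈ D b) (hv0 : v ≠ 0) (hvv : φ v v = 0) (hy : y ∉ D b)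
    (hA : InA q σ K v y) : Radical.Has (fun v => φ v v = 0) (UF σ 1 φ) K v := by
  classical
  have hs := semi Δ
  have full : ∀ i, i ≠ b → (∃ y u, InA q σ K v y ∧ u ∈ D i ∧ φ u u = 0 ∧ φ y u ≠ 0) →
      ∀ x ∈ D i, InA q σ K v x := by
    rintro i hib ⟨y, u, hy, hu, huu, hyu⟩
    let S : Submodule F Vn :=
      { carrier := {x | x ∈ D i ∧ ∀ r : F, InA q σ K v (r • x)}
        add_mem' := fun {a a'} ha ha' => ⟨add_mem ha.1 ha'.1, fun r => by
          rw [smul_add]; exact inA_add Δ hK hKG hvv (ha.2 r) (ha'.2 r)⟩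
        zero_mem' := ⟨zero_mem _, fun r => by
          rw [smul_zero]; exact inA_block Δ hK hKG hv (D b).zero_mem hvv (zl Δ v)⟩
        smul_mem' := fun r a ha => ⟨(D i).smul_mem r ha.1, fun r' => by rw [smul_smul]; exact ha.2 _⟩ }
    have step : ∀ x ∈ S, ∀ u', u' ∈ D i → φ u' u' = 0 → φ x u' ≠ 0 → u' ∈ S := fun x hx u' hu' hu'u' hne =>
      ⟨hu', spread Δ hK hKG hib hv hv0 hvv (by simpa using hx.2 1) hu' hu'u' hne⟩
    have huS : u ∈ S := ⟨hu, spread Δ hK hKG hib hv hv0 hvv hy hu huu hyu⟩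
    have hu0 : u ≠ 0 := fun e => hyu (by rw [e]; exact zr Δ y)
    obtain ⟨z, hz, hzz, huz⟩ := partner Δ hu hu0 huu
    have hzS := step u huS z hz hzz (by rw [huz]; exact one_ne_zero)
    have hzu : φ z u = 1 := by rw [← herm Δ, huz, map_one]
    have hle : D i ≤ S := (iso_span Δ).trans (Submodule.span_le.mpr fun x hx => by
      obtain ⟨hx, hxx⟩ := hx
      by_cases h1 : φ u x = 0
      swap
      · exact step u huS x hx hxx h1
      by_cases h2 : φ z x = 0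
      swap
      · exact step z hzS x hx hxx h2
      have h3 := step z hzS (x + u) (add_mem hx hu) (by
        rw [hs.add_left, hs.add_right, hs.add_right, hxx, huu, h1, swap0 Δ h1]; ring)
        (by rw [hs.add_right, h2, hzu, zero_add]; exact one_ne_zero)
      simpa using S.sub_mem h3 huS)
    exact fun x hx => by simpa using (hle hx).2 1
  -- a component outside
  obtain ⟨c, hc, hcy⟩ := components Δ y
  obtain ⟨i, hib, hci⟩ : ∃ i, i ≠ b ∧ c i ≠ 0 := by
    by_contra hcon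
    push Not at hcon
    refine hy ?_
    rw [← hcy, Finset.sum_eq_single b (fun a _ ha => hcon a ha) fun h => absurd (Finset.mem_univ _) h]
    exact hc b
  obtain ⟨u, hu, huu, hcu, -⟩ := exists_u Δ hK hKG (hc i) hci 1 one_ne_zero
  have hfull_i := full i hib ⟨y, u, hA, hu, huu, by
    rw [← hcy, pair_sum Δ hc hu, hcu]; exact one_ne_zero⟩
  have hfull : ∀ j, j ≠ b → ∀ x ∈ D j, InA q σ K v x := by
    intro j hjb
    by_cases hji : j = i
    · exact hji ▸ hfull_i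
    obtain ⟨m, hm, hmS, hmfix, hmi⟩ := exists_swap Δ (Ne.symm hji)
    obtain ⟨u₁, hu₁, hu₁0, hu₁u₁⟩ := iso_in Δ (Y := D i) (by rw [Δ.decomp.decomp.finrank_eq]; exact Δ.two)
    have h1 := inA_move Δ hK hKG (hfull_i u₁ hu₁) (hK ⟨hmS, hm⟩) one_ne_zero (l := 1) (by
      rw [hmfix b (Ne.symm hib) (Ne.symm hjb) v hv, one_smul])
    rw [map_one, one_smul] at h1
    obtain ⟨z, hz, hzz, huz⟩ := partner Δ (hmi u₁ hu₁)
      (fun e => hu₁0 (gl_mulVec_injective m (e.trans (Matrix.mulVec_zero _).symm))) ((iso_of Δ hm u₁ u₁).trans hu₁u₁)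
    exact full j hjb ⟨_, z, h1, hz, hzz, by rw [huz]; exact one_ne_zero⟩
  have hall : ∀ x, φ x v = 0 → InA q σ K v x := by
    intro x hx
    obtain ⟨d, hd, rfl⟩ := components Δ x
    rw [pair_sum Δ hd hv] at hx
    refine Finset.sum_induction d (InA q σ K v) (fun a a' => inA_add Δ hK hKG hvv)
      (inA_block Δ hK hKG hv (D b).zero_mem hvv (zl Δ v)) fun a _ => ?_
    by_cases hab : a = b
    · subst hab; exact inA_block Δ hK hKG hv (hd a) hvv hx
    · exact hfull a hab _ (hd a)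
  refine ⟨hvv, fun h hh => ?_⟩
  obtain ⟨x, e, hxv, he, hx⟩ := hh
  obtain ⟨hnx, g, hg, hgE⟩ := hall (-x) (by rw [← neg_one_smul F x, hs.smul_left, hxv, mul_zero])
  have h0 := EF_comp Δ hvv hxv hnx ⟨e, he, hx⟩ hgE
  rw [add_neg_cancel] at h0
  have := mul_mem (hK (EF_stab Δ hv (D b).zero_mem hvv (zl Δ v) h0)) (inv_mem hg)
  rwa [mul_inv_cancel_right] at this

omit hK hKG

/-- The stabiliser is maximal. -/
theorem isMaximal : IsMaximalIn (suGL n F q) (decompositionStabilizer D ⊓ suGL n F q) := by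
  classical
  haveI := nonempty Δ
  have hs := semi Δ
  have ht := Δ.decomp.decomp.two_le
  refine ⟨lt_of_le_of_ne inf_le_right fun e => ?_, fun K hK hKG => or_iff_not_imp_left.mpr fun hne =>
    le_antisymm hKG ?_⟩
  · -- a transvection with mixed centre
    obtain ⟨a, b, hab⟩ : ∃ a b : Fin t, a ≠ b := ⟨⟨0, by omega⟩, ⟨1, by omega⟩, by simp [Fin.ext_iff]⟩
    have h2 : ∀ a, 2 ≤ finrank F (D a) := fun a => by rw [Δ.decomp.decomp.finrank_eq]; exact Δ.two
    obtain ⟨v, hv, hv0, hvv⟩ := iso_in Δ (h2 a)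
    obtain ⟨v', hv', hv'0, hv'v'⟩ := iso_in Δ (h2 b)
    obtain ⟨z, hz, hzz, hvz⟩ := partner Δ hv hv0 hvv
    obtain ⟨c, hc0, hc⟩ := Δ.sig.exists_skew
    have hiso' : φ (v + v') (v + v') = 0 := by
      rw [hs.add_left, hs.add_right, hs.add_right, hvv, hv'v', orth Δ hab hv hv', orth Δ hab.symm hv' hv]; ring
    obtain ⟨T, hT, hTx⟩ := tv_apply Δ hiso' hc
    obtain ⟨π, hπ⟩ := inf_eq_right.mp e hT
    have h : T ⬝ₘ z ∈ D (π a) := by
      rw [← hπ]; exact ⟨z, hz, Matrix.toLin'_apply _ _⟩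
    rw [hTx, hs.add_right, orth Δ hab hz hv', add_zero, show φ z v = 1 by rw [← herm Δ, hvz, map_one], mul_one] at h
    obtain ⟨z', hz', hne'⟩ := nd Δ hv' hv'0
    by_cases hπb : π a = b
    · have h2 : φ (z + c • (v + v')) z = 0 := orth Δ hab.symm (hπb ▸ h) hz
      rw [hs.add_left, hs.smul_left, hs.add_left, hzz, hvz, orth Δ hab.symm hv' hz, zero_add, add_zero, mul_one] at h2
      exact hc0 h2
    · have h2 : φ (z + c • (v + v')) z' = 0 := orth Δ hπb h hz'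
      rw [hs.add_left, hs.smul_left, hs.add_left, orth Δ hab hz hz', orth Δ hab hv hz', zero_add, zero_add,
        mul_eq_zero] at h2
      exact hne' (h2.resolve_left hc0)
  obtain ⟨g, hg, hgn⟩ : ∃ g ∈ K, g ∉ decompositionStabilizer D := by
    by_contra hcon
    push Not at hcon
    exact hne (le_antisymm (le_inf hcon hKG) hK)
  obtain ⟨b, v, y, hv, hv0, hvv, hy, hA⟩ := exists_seed Δ hK hKG hg hgn
  have hP := has_of_seed Δ hK hKG hv hv0 hvv hy hA
  obtain ⟨c, hc0, hc⟩ := Δ.sig.exists_skew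
  have hΔ := Radical.form_data (σ := σ) (ε := 1) (f := φ) (refl Δ) (G := suGL n F q)
    (fun g hg => iso_of Δ hg) (fun g h1 h2 => mem_G Δ h1 h2) (hiso Δ)
    (fun K' hK' => UOver.suGL_le Δ.sig Δ.npos fun w c hw hc g hg => by
      by_cases hw0 : w = 0
      · convert one_mem K'
        exact gl_ext_mulVec fun x => by rw [hg x, hw0, Units.val_one, Matrix.one_mulVec, smul_zero, add_zero]
      · exact hK' w c hw hw0 (by rwa [one_mul]) g hg)
  obtain ⟨z, hz, hzz, hvz⟩ := partner Δ hv hv0 hvv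
  obtain ⟨T, hT, hTx⟩ := tv_apply Δ hzz hc
  have hQ := Radical.has_map hΔ hKG T (hK (tv_stab Δ hz hzz hc hTx)) v hP
  refine Radical.le_of_pair hΔ hKG hP hQ ?_
  rw [hTx, hvz, mul_one, hs.add_right, hvv, hs.smul_right, hvz, zero_add, mul_one]
  exact (map_ne_zero σ).mpr hc0

end Cfsg.Agent.Classical.UDecomp
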