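/-
Overgroups of a Hermitian subfield group contain every transvection.
-/
import Cfsg.Agent.Lib.Classical.USubCaseA
import Cfsg.Agent.Lib.Classical.SL2PlaneGen
import Cfsg.Agent.Lib.Classical.FormPower
import Cfsg.Agent.Lib.Classical.UThree.SLTwo

set_option autoImplicit false
set_option linter.unusedSectionVars false
set_option linter.style.haveILetI false

namespace Cfsg.Agent.Classical.USub

open Matrix Cfsg.Geo
open Cfsg.Agent.Classical

universe u

variable {ι : Type} [Fintype ι] [DecidableEq ι] {F : Type u} [Field F] [Fintype F] {F₀ : Subfield F} {σ : F ≃+* F}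
  {f : (ι → F) → (ι → F) → F} {K : Subgroup (GL ι F)}

/-- An ordered rational totally isotropic pair. -/
structure Pair (F₀ : Subfield F) (f : (ι → F) → (ι → F) → F) (b z : ι → F) : Prop where
  ne : b ≠ 0
  rb : Rat F₀ b
  rz : Rat F₀ z
  bb : f b b = 0
  zz : f z z = 0
  bz : f b z = 0
  indep : ∀ k : F, k • b ≠ z

variable (S : Setup F₀ σ f K)

include S

/-- Every isotropic rational vector has a mate. -/
theorem exists_mate {b : ι → F} (hb0 : b ≠ 0) (hb : Rat F₀ b) (hbb : f b b = 0) : ∃ z, Pair F₀ f b z := by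
  obtain ⟨p, hp, -, -, -, hbp, -⟩ := exists_partner S Rat.zero Rat.zero hb
    (fun k l e => hb0 (by simpa using e.symm)) hbb (f_zero_right S b) (f_zero_right S b)
  obtain ⟨z, hz0, hz, hzz, hzo⟩ := exists_iso S (k := 2) (by have := S.big; omega) ![b, p]
    (fun j => by fin_cases j <;> assumption)
  refine ⟨z, hb0, hb, hz, hbb, hzz, symm_zero S (hzo 0), fun k hk => hz0 ?_⟩
  have h : f z p = 0 := hzo 1
  rw [← hk, (hs S).smul_left, hbp, mul_one] at h
  rw [← hk, h, zero_smul]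

/-- Transvections with irrational coefficient from a map on a rational plane. -/
theorem plane_out {b z : ι → F} (hp : Pair F₀ f b z) {A B C : F} (h : In K (pl σ f b z A B C)) (hC : C ∈ F₀)
    (hC' : C + σ C = 0) (hbad : B ∉ F₀ ∨ A ∉ F₀) : ∃ l, l ∉ F₀ ∧ In K (tq f b l) := by
  obtain ⟨hb0, hb, hz, hbb, hzz, hbz, hind⟩ := hp
  by_cases hB : B ∈ F₀
  · refine ⟨A, hbad.resolve_left (not_not.mpr hB), ?_⟩
    rw [tq_pl S b z A]
    have := pl_add S hbb hbz hzz h (exists_plane S hb hz hbb hzz hbz (zero_mem _) (neg_mem hB) (neg_mem hC)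
      (by rw [map_zero, add_zero]) (by rw [map_neg]; linear_combination -hC'))
    simpa using this
  have hσC : σ C = -C := eq_neg_of_add_eq_zero_right hC'
  have hδ : ∀ e ∈ F₀, In K (tq f b (C * (e * σ e) + B * σ e - σ B * e)) := by
    intro e he
    obtain ⟨y, hy, hyb, hyz⟩ := exists_shift S hb hz hind hbb hzz hbz he
    have h1 := In.conj_pl S h hy
    rw [hyb, hyz] at h1
    have h2 : In K (pl σ f b z (A + (C * (e * σ e) + B * σ e - σ B * e)) (B + C * e) C) := h1.congr fun x => by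
      simp only [pl, (hs S).add_right, (hs S).smul_right, map_add, map_mul, hσC]
      module
    have h3 := pl_add S hbb hbz hzz (pl_add S hbb hbz hzz h2 (pl_neg S hbb hbz hzz h))
      (exists_plane S hb hz hbb hzz hbz (zero_mem _) (neg_mem (mul_mem hC he)) (zero_mem _)
        (by rw [map_zero, add_zero]) (by rw [map_zero, add_zero]))
    rw [tq_pl S b z]
    refine h3.congr fun x => ?_
    simp only [pl, map_add, map_neg, map_mul, map_zero]
    module
  obtain ⟨θ, hθ, hθσ⟩ := S.nt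
  by_contra hcon
  push Not at hcon
  have h1 : C * (1 * σ 1) + B * σ 1 - σ B * 1 ∈ F₀ := by
    by_contra h1
    exact hcon _ h1 (hδ 1 (one_mem _))
  have h2 : C * (θ * σ θ) + B * σ θ - σ B * θ ∈ F₀ := by
    by_contra h2
    exact hcon _ h2 (hδ θ hθ)
  rw [map_one, one_mul, mul_one, mul_one, mul_one] at h1
  have h3 := sub_mem (sub_mem (mul_mem hθ (sub_mem h1 hC)) (sub_mem h2 (mul_mem hC (mul_mem hθ (S.stab θ hθ)))))
    (zero_mem F₀)
  have h4 := mul_mem (inv_mem (sub_mem hθ (S.stab θ hθ))) h3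
  rw [show θ * (C + B - σ B - C) - (C * (θ * σ θ) + B * σ θ - σ B * θ - C * (θ * σ θ)) - 0 = (θ - σ θ) * B by ring,
    inv_mul_cancel_left₀ (sub_ne_zero.mpr (Ne.symm hθσ))] at h4
  exact hB h4

/-- An irrational transvection with a rational centre. -/
theorem exists_center {g : GL ι F} (hg : g ∈ K) (hgn : ¬ Good σ F₀ g) :
    ∃ (b : ι → F) (l : F), b ≠ 0 ∧ Rat F₀ b ∧ f b b = 0 ∧ l ∉ F₀ ∧ In K (tq f b l) := by
  obtain ⟨y₀, hy₀, u, b, hu0, hb0, hu, hb, huu, hbb, hwb, hbad⟩ := exists_caseA S hg hgn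
  obtain ⟨θ, hθ, hθσ⟩ := S.nt
  obtain ⟨c, hc⟩ : ∃ c, c = θ - σ θ := ⟨_, rfl⟩
  have hcF : c ∈ F₀ := hc ▸ sub_mem hθ (S.stab θ hθ)
  have hc0 : c ≠ 0 := hc ▸ sub_ne_zero.mpr (Ne.symm hθσ)
  have hσc : σ c = -c := by rw [hc, map_sub, S.hf.involutive]; ring
  have hcc : c + σ c = 0 := by rw [hσc, add_neg_cancel]
  obtain ⟨w, hw⟩ : ∃ w, w = (y₀ : Matrix ι ι F) *ᵥ u := ⟨_, rfl⟩
  rw [← hw] at hwb hbad
  have hww : f w w = 0 := by rw [hw, S.iso y₀ hy₀, huu]
  have hT : In K (tq f w c) := hw ▸ In.conj_tq S (exists_rat_tq S hu huu hcF hcc) hy₀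
  have hbw := symm_zero S hwb
  have hscale : ∀ {X : F}, c * X ∈ F₀ → X ∈ F₀ := fun {X} h => by
    have := mul_mem (inv_mem hcF) h
    rwa [inv_mul_cancel_left₀ hc0] at this
  by_cases hgen : ∃ a z : ι → F, Rat F₀ a ∧ Rat F₀ z ∧ f a b = 0 ∧ f z b = 0 ∧ f a a = 0 ∧ f z z = 0 ∧
      f w a * σ (f w z) ∉ F₀
  · obtain ⟨a, z, har, hzr, hab, hzb, haa, hzz, hs'⟩ := hgen
    obtain ⟨α, hα⟩ : ∃ α, α = f w a := ⟨_, rfl⟩
    obtain ⟨γ, hγ⟩ : ∃ γ, γ = c * f w z := ⟨_, rfl⟩
    have hba := symm_zero S hab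
    have hbz := symm_zero S hzb
    obtain ⟨y, hy, hyx⟩ := exists_plane S hb har hbb haa hba (zero_mem _) (one_mem _) (zero_mem _)
      (by rw [map_zero, add_zero]) (by rw [map_zero, add_zero])
    have hyw : (y : Matrix ι ι F) *ᵥ w = w + α • b := by
      rw [hyx, pl, hwb, hα]
      simp
    have hT' : In K (tq f w (-c)) := by
      rw [tq_pl S w w] at hT ⊢
      simpa using pl_neg S hww hww hww hT
    have hD : In K (pl σ f b w (c * (α * σ α)) (c * α) 0) := by
      have h1 := In.conj_tq S hT hy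
      rw [hyw] at h1
      refine (h1.comp hT').congr fun x => ?_
      simp only [pl, tq, (hs S).add_left, (hs S).add_right, (hs S).smul_left, (hs S).smul_right, hww, hwb, map_mul, hσc]
      module
    obtain ⟨t, ht, htx⟩ := exists_rat_tq S hzr hzz hcF hcc
    have htw : (t : Matrix ι ι F) *ᵥ w = w + γ • z := by rw [htx, tq, hγ]
    have htb : (t : Matrix ι ι F) *ᵥ b = b := by rw [htx, tq, hbz, mul_zero, zero_smul, add_zero]
    have hD' := In.conj_pl S hD ht
    rw [htw, htb] at hD'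
    have hpair : In K (pl σ f b z (c * α * σ (c * α) * σ γ * f w z) (c * α * σ γ) 0) :=
      (hD'.comp (pl_neg S hbb hbw hww hD)).congr fun x => by
        simp only [pl, (hs S).add_left, (hs S).add_right, (hs S).smul_left, (hs S).smul_right, map_neg, map_mul,
          S.hf.involutive, hbb, hwb, hbw, hww, hbz]
        module
    have hwz : f w z ≠ 0 := fun e => hs' (by rw [e, map_zero, mul_zero]; exact zero_mem _)
    obtain ⟨l, hl, hTl⟩ := plane_out S (z := z) ⟨hb0, hb, hzr, hbb, hzz, hbz, fun k hk => hwz (by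
      rw [← hk, (hs S).smul_right, hwb, mul_zero])⟩ hpair (zero_mem _) (by rw [map_zero, add_zero])
      (Or.inl fun hm => hs' (hscale (X := f w a * σ (f w z)) (by
        have := mul_mem (inv_mem (S.stab c hcF)) hm
        rw [hγ, map_mul, hα, show (σ c)⁻¹ * (c * f w a * (σ c * σ (f w z))) = (σ c)⁻¹ * σ c * (c * (f w a * σ (f w z))) by
          ring, inv_mul_cancel₀ (show σ c ≠ 0 by simpa using hc0), one_mul] at this
        exact this)))
    exact ⟨b, l, hb0, hb, hbb, hl, hTl⟩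
  push Not at hgen
  have hQ : ∀ {a z : ι → F}, Rat F₀ a → Rat F₀ z → f a b = 0 → f z b = 0 → f w a * σ (f w z) ∈ F₀ := by
    intro a z ha hz hab hzb
    refine iso_induction S hb hb0 (P := fun a => f w a * σ (f w z) ∈ F₀) (fun e he heb hee => ?_)
      (fun x y _ _ _ _ hx hy => by rw [(hs S).add_right, add_mul]; exact add_mem hx hy) ha hab
    exact iso_induction S hb hb0 (P := fun z => f w e * σ (f w z) ∈ F₀)
      (fun e' he' he'b he'e => hgen e e' he he' heb he'b hee he'e)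
      (fun x y _ _ _ _ hx hy => by rw [(hs S).add_right, map_add, mul_add]; exact add_mem hx hy) hz hzb
  obtain ⟨z₀, hz₀, -, -, hz₀b⟩ := exists_sep S Rat.zero Rat.zero hb (fun k l e => hb0 (by simpa using e.symm))
  have hbz₀ : f b z₀ = 1 := by rw [S.hf.herm, hz₀b, map_one]
  obtain ⟨τ, hτ⟩ : ∃ τ, τ = f w z₀ := ⟨_, rfl⟩
  obtain ⟨w', hw'⟩ : ∃ w', w' = w - τ • b := ⟨_, rfl⟩
  have hproj : ∀ x, Rat F₀ x → Rat F₀ (x - f x b • z₀) ∧ f (x - f x b • z₀) b = 0 ∧
      f x w' = f (x - f x b • z₀) w := fun x hx => by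
    refine ⟨hx.sub (hz₀.smul (S.rat _ _ hx hb)), ?_, ?_⟩
    · rw [f_sub_left S, (hs S).smul_left, hz₀b, mul_one, sub_self]
    · rw [hw', f_sub_left S, f_sub_right S, (hs S).smul_left, (hs S).smul_right, S.hf.herm z₀ w, hτ]
      ring
  by_cases hnone : ∀ a, Rat F₀ a → f a b = 0 → f w a = 0
  · have hw0 : w' = 0 := eq_of_rat S fun x hx => by
      obtain ⟨h1, h2, h3⟩ := hproj x hx
      rw [h3, symm_zero S (hnone _ h1 h2), f_zero_right S]
    have hwτ : w = τ • b := by rw [hw', sub_eq_zero] at hw0; exact hw0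
    rw [hwτ, tq_smul S] at hT
    refine ⟨b, _, hb0, hb, hbb, fun hm => ?_, hT⟩
    obtain ⟨k, l, hkl⟩ := hbad
    refine hkl ?_
    rw [hwτ]
    simp only [Pi.smul_apply, smul_eq_mul, map_mul]
    have := mul_mem (hscale hm) (mul_mem (hb k) (S.stab _ (hb l)))
    ring_nf at this ⊢
    exact this
  push Not at hnone
  obtain ⟨a₀, ha₀, ha₀b, hα0⟩ := hnone
  obtain ⟨α, hα⟩ : ∃ α, α = f w a₀ := ⟨_, rfl⟩
  rw [← hα] at hα0
  have hσα : σ α ≠ 0 := by simpa using hα0
  obtain ⟨v, hv⟩ : ∃ v, v = σ α • w' := ⟨_, rfl⟩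
  have hvr : Rat F₀ v := rat_of_pair S fun x hx => by
    obtain ⟨h1, h2, h3⟩ := hproj x hx
    rw [hv, (hs S).smul_right, h3, S.hf.involutive, S.hf.herm (x - f x b • z₀) w, hα]
    exact hQ ha₀ h1 ha₀b h2
  have hvv : f v v = 0 := by
    rw [hv, hw', (hs S).smul_left, (hs S).smul_right, f_sub_left S, f_sub_right S, f_sub_right S, (hs S).smul_left,
      (hs S).smul_left, (hs S).smul_right, (hs S).smul_right, hww, hwb, hbw, hbb]
    ring
  have hbv : f b v = 0 := by
    rw [hv, hw', (hs S).smul_right, f_sub_right S, (hs S).smul_right, hbw, hbb]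
    ring
  have hwv : w = (σ α)⁻¹ • v + τ • b := by rw [hv, hw', smul_smul, inv_mul_cancel₀ hσα, one_smul, sub_add_cancel]
  have hind : ∀ k : F, k • b ≠ v := fun k hk => by
    have h1 : f v a₀ = σ α * α := by
      rw [hv, hw', (hs S).smul_left, f_sub_left S, (hs S).smul_left, symm_zero S ha₀b, ← hα]; ring
    rw [← hk, (hs S).smul_left, symm_zero S ha₀b, mul_zero] at h1
    exact mul_ne_zero hσα hα0 h1.symm
  have hT2 : In K (pl σ f b v (c * (τ * σ τ)) (c * (τ * σ (σ α)⁻¹)) (c * ((σ α)⁻¹ * σ (σ α)⁻¹))) := hT.congr fun x => by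
    simp only [tq, pl]
    conv_lhs => rw [hwv]
    simp only [(hs S).add_right, (hs S).smul_right, map_mul, map_inv₀, S.hf.involutive, hσc]
    module
  have hN : (σ α)⁻¹ * σ (σ α)⁻¹ ∈ F₀ := by
    rw [map_inv₀, S.hf.involutive, ← mul_inv, mul_comm (σ α)]
    exact inv_mem (hα ▸ hQ ha₀ ha₀ ha₀b ha₀b)
  obtain ⟨l, hl, hTl⟩ := plane_out S ⟨hb0, hb, hvr, hbb, hvv, hbv, hind⟩ hT2 (mul_mem hcF hN)
    (by rw [map_mul σ c, hσc, map_mul, S.hf.involutive]; ring) (by
      by_contra hcon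
      push Not at hcon
      obtain ⟨hB, hA⟩ := hcon
      obtain ⟨k, l, hkl⟩ := hbad
      refine hkl ?_
      rw [hwv]
      simp only [Pi.add_apply, Pi.smul_apply, smul_eq_mul, map_add, map_mul]
      have h1 := hscale hB
      have := add_mem (add_mem (mul_mem (hscale hA) (mul_mem (hb k) (S.stab _ (hb l))))
        (mul_mem hN (mul_mem (hvr k) (S.stab _ (hvr l)))))
        (add_mem (mul_mem h1 (mul_mem (hb k) (S.stab _ (hvr l))))
          (mul_mem (S.stab _ h1) (mul_mem (hvr k) (S.stab _ (hb l)))))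
      rw [map_mul σ τ, S.hf.involutive] at this
      ring_nf at this ⊢
      exact this)
  exact ⟨b, l, hb0, hb, hbb, hl, hTl⟩

/-- The fixed parts of the fields. -/
theorem card_fixedField_pow {r : ℕ} (hcard : Fintype.card F = Nat.card F₀ ^ r) :
    Nat.card (fixedField σ) = Nat.card (F₀.comap (fixedField σ).subtype) ^ r := by
  classical
  obtain ⟨θ, hθ, hne⟩ := S.nt
  have hd : θ - σ θ ≠ 0 := sub_ne_zero.mpr (Ne.symm hne)
  have key : ∀ E : Subfield F, θ ∈ E → (∀ x ∈ E, σ x ∈ E) →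
      Nat.card E = Nat.card (E.comap (fixedField σ).subtype) ^ 2 := by
    intro E hθE hst
    let k0 := E.comap (fixedField σ).subtype
    have mk : ∀ x : F, x ∈ E → σ x = x → ∃ y : k0, ((y : fixedField σ) : F) = x := fun x h1 h2 =>
      ⟨⟨⟨x, mem_fixedField.mpr h2⟩, h1⟩, rfl⟩
    let φ : k0 × k0 → E := fun p => ⟨((p.1 : fixedField σ) : F) + θ * ((p.2 : fixedField σ) : F),
      add_mem p.1.2 (mul_mem hθE p.2.2)⟩
    have hφ : Function.Bijective φ := by
      refine ⟨fun a b h => ?_, fun x => ?_⟩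
      · have e := congrArg Subtype.val h
        simp only [φ] at e
        have e' := congrArg σ e
        rw [map_add, map_add, map_mul, map_mul, mem_fixedField.mp (a.1 : fixedField σ).2,
          mem_fixedField.mp (a.2 : fixedField σ).2, mem_fixedField.mp (b.1 : fixedField σ).2,
          mem_fixedField.mp (b.2 : fixedField σ).2] at e'
        have h2 : ((a.2 : fixedField σ) : F) = ((b.2 : fixedField σ) : F) :=
          mul_left_cancel₀ hd (by linear_combination e - e')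
        have h1 : ((a.1 : fixedField σ) : F) = ((b.1 : fixedField σ) : F) := by linear_combination e - θ * h2
        exact Prod.ext (Subtype.ext (Subtype.ext h1)) (Subtype.ext (Subtype.ext h2))
      · obtain ⟨b, hb⟩ := mk (((x : F) - σ x) / (θ - σ θ))
          (div_mem (sub_mem x.2 (hst _ x.2)) (sub_mem hθE (hst _ hθE)))
          (by rw [map_div₀, map_sub, map_sub, S.hf.involutive, S.hf.involutive, ← neg_sub (x : F), ← neg_sub θ,
            neg_div_neg_eq])
        have hb' : ((x : F) - σ x) = (θ - σ θ) * ((b : fixedField σ) : F) := by rw [hb, mul_div_cancel₀ _ hd]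
        obtain ⟨a, ha⟩ := mk ((x : F) - θ * ((b : fixedField σ) : F)) (sub_mem x.2 (mul_mem hθE b.2))
          (by
            have := mem_fixedField.mp (b : fixedField σ).2
            rw [map_sub, map_mul, this]
            linear_combination -hb')
        refine ⟨(a, b), Subtype.ext ?_⟩
        simp only [φ, ha]; ring
    rw [← Nat.card_eq_of_bijective _ hφ, Nat.card_prod, pow_two]
  have h1 := key F₀ hθ S.stab
  have h2 := key ⊤ trivial fun _ _ => trivial
  have e1 : Nat.card (⊤ : Subfield F) = Fintype.card F := by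
    rw [← Nat.card_eq_fintype_card]; exact Nat.card_congr (Equiv.subtypeUnivEquiv fun _ => trivial)
  have e2 : Nat.card ((⊤ : Subfield F).comap (fixedField σ).subtype) = Nat.card (fixedField σ) :=
    Nat.card_congr (Equiv.subtypeUnivEquiv fun _ => trivial)
  rw [e1, e2, hcard, h1, ← pow_mul, mul_comm, pow_mul] at h2
  exact (Nat.pow_left_injective two_ne_zero h2).symm

/-- All transvections with a rational centre. -/
theorem full_rat {r : ℕ} (hr : r.Prime) (hro : Odd r) (hcard : Fintype.card F = Nat.card F₀ ^ r) {g : GL ι F} (hg : g ∈ K)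
    (hgn : ¬ Good σ F₀ g) {b : ι → F} (hb0 : b ≠ 0) (hb : Rat F₀ b) (hbb : f b b = 0) {k : F} (hk : k + σ k = 0) :
    In K (tq f b k) := by
  classical
  obtain ⟨b₀, l, hb₀0, hb₀, hb₀b, hl, hT⟩ := exists_center S hg hgn
  have hl' := skew_of_In S hb₀0 hb₀b hT
  obtain ⟨y, hy, -, hyb⟩ := exists_move S hb₀ hb hb₀0 hb0 hb₀b hbb
  have hTb : In K (tq f b l) := hyb ▸ In.conj_tq S hT hy
  obtain ⟨p, hp, hpp, -, -, hbp, hpb⟩ := exists_partner S Rat.zero Rat.zero hb
    (fun k l h => hb0 (by simpa using h.symm)) hbb (f_zero_right S b) (f_zero_right S b)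
  obtain ⟨θ, hθ, hθσ⟩ := S.nt
  obtain ⟨d, hd⟩ : ∃ d, d = θ - σ θ := ⟨_, rfl⟩
  have hd0 : d ≠ 0 := hd ▸ sub_ne_zero.mpr (Ne.symm hθσ)
  have hdF : d ∈ F₀ := hd ▸ sub_mem hθ (S.stab θ hθ)
  have hσd : σ d = -d := by rw [hd, map_sub, S.hf.involutive]; ring
  let k₁ := fixedField σ
  have hfix : ∀ x : k₁, σ (x : F) = x := fun x => mem_fixedField.mp x.2
  let act : Matrix (Fin 2) (Fin 2) k₁ → (ι → F) → ι → F := fun M x =>
    ((((M 0 0 : k₁) : F) - 1) * f x p + ((M 0 1 : k₁) : F) * (d * f x b)) • b +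
      (((M 1 0 : k₁) : F) * f x p / d + (((M 1 1 : k₁) : F) - 1) * f x b) • p
  let Gm : Submonoid (Matrix.SpecialLinearGroup (Fin 2) k₁) :=
    { carrier := {y | In K (act y.1)}
      one_mem' := ⟨1, one_mem K, fun x => by simp [act]⟩
      mul_mem' := fun {y z} h h' => (h.comp h').congr fun x => by
        simp only [act, Matrix.SpecialLinearGroup.coe_mul, Matrix.mul_apply, Fin.sum_univ_two, Subfield.coe_add,
          Subfield.coe_mul, (hs S).add_left, (hs S).smul_left, hbb, hpp, hbp, hpb]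
        match_scalars <;> field_simp <;> ring }
  let G : Subgroup (Matrix.SpecialLinearGroup (Fin 2) k₁) :=
    { Gm with
      inv_mem' := fun {y} hy => by
        show y⁻¹ ∈ Gm
        rw [inv_eq_of_mul_eq_one_right (show y * y ^ (orderOf y - 1) = 1 by
          rw [← pow_succ', Nat.sub_add_cancel (orderOf_pos y), pow_orderOf_eq_one])]
        exact pow_mem (show y ∈ Gm from hy) _ }
  have hu : ∀ x : k₁, In K (tq f b (d * (x : F))) ↔ Cfsg.Agent.Small.PSL2.uS x ∈ G := fun x => by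
    have e : ∀ v, tq f b (d * (x : F)) v = act (Cfsg.Agent.Small.PSL2.uS x).1 v := fun v => by
      simp [tq, act, Cfsg.Agent.Small.PSL2.uS]
      rw [mul_comm d (x : F), mul_assoc]
    exact ⟨fun h => h.congr e, fun h => h.congr fun v => (e v).symm⟩
  have hdx : ∀ x : F, σ x = x → d * x + σ (d * x) = 0 := fun x hx => by rw [map_mul, hσd, hx]; ring
  have h1 : ∀ x ∈ F₀.comap k₁.subtype, Cfsg.Agent.Small.PSL2.uS x ∈ G := fun x hx =>
    (hu x).mp (exists_rat_tq S hb hbb (mul_mem hdF hx) (hdx _ (hfix x)))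
  have h2 : ∀ x ∈ F₀.comap k₁.subtype, Cfsg.Agent.Small.PSL2.vS ((1 : k₁) * x) ∈ G := fun x hx => by
    rw [one_mul]
    show In K (act _)
    refine (exists_rat_tq S hp hpp (A := (x : F) / d) (div_mem hx hdF) (by
      rw [map_div₀, hσd, hfix x, div_neg, add_neg_cancel])).congr fun v => ?_
    simp [tq, act, Cfsg.Agent.Small.PSL2.vS]
    rw [div_mul_eq_mul_div]
  have hσskew : ∀ {c : F}, c + σ c = 0 → c / d ∈ k₁ := fun {c} hc => mem_fixedField.mpr (by
    rw [map_div₀, eq_neg_of_add_eq_zero_right hc, hσd, neg_div_neg_eq])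
  have h3 : Cfsg.Agent.Small.PSL2.uS (⟨l / d, hσskew hl'⟩ : k₁) ∈ G :=
    (hu _).mp (by rwa [mul_div_cancel₀ _ hd0])
  rcases UThree.rational_or_top (F₀.comap k₁.subtype) hr hro (Nat.card_eq_fintype_card.symm.trans (card_fixedField_pow S hcard)) one_ne_zero h1 h2 h3
      (Or.inr (one_mem _)) with ⟨hlk, -⟩ | hall
  · exfalso
    refine hl ?_
    have := mul_mem hdF (show l / d ∈ F₀ from hlk)
    rwa [mul_div_cancel₀ _ hd0] at this
  · have := (hu ⟨k / d, hσskew hk⟩).mpr (hall _)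
    rwa [mul_div_cancel₀ _ hd0] at this

/-- The off-diagonal maps: all coefficients. -/
theorem full_off {r : ℕ} (hr : r.Prime) (hro : Odd r) (hcard : Fintype.card F = Nat.card F₀ ^ r) {g : GL ι F} (hg : g ∈ K)
    (hgn : ¬ Good σ F₀ g) (m : F) : ∀ b z, Pair F₀ f b z → In K (pl σ f b z 0 m 0) := by
  rintro b z ⟨hb0, hb, hz, hbb, hzz, hbz, hind⟩
  have hrat : ∀ v : ι → F, v ≠ 0 → Rat F₀ v → f v v = 0 → ∀ {k : F}, k + σ k = 0 → In K (tq f v k) :=
    fun v h0 h h' k hk => full_rat S hr hro hcard hg hgn h0 h h' hk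
  have hskew : ∀ {k s : F}, k + σ k = 0 → s ∈ F₀ → In K (pl σ f b z 0 (k * σ s) 0) := by
    intro k s hk hsF
    have hzb := symm_zero S hbz
    have hne : b + s • z ≠ 0 := fun e => by
      by_cases hs0 : s = 0
      · exact hb0 (by simpa [hs0] using e)
      · exact hind (-s⁻¹) (by
          rw [show b = -(s • z) from eq_neg_of_add_eq_zero_left e, smul_neg, neg_smul, neg_neg, smul_smul,
            inv_mul_cancel₀ hs0, one_smul])
    have hσk : σ k = -k := eq_neg_of_add_eq_zero_right hk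
    have hz0 : z ≠ 0 := fun e => hind 0 (by rw [zero_smul, e])
    have h1 : In K (pl σ f b z k (k * σ s) (k * (s * σ s))) := (hrat (b + s • z) hne (hb.add (hz.smul hsF)) (by
      simp only [(hs S).add_left, (hs S).add_right, (hs S).smul_left, (hs S).smul_right, hbb, hzz, hbz, hzb]
      ring) hk).congr fun x => by
        simp only [tq, pl, (hs S).add_right, (hs S).smul_right, map_mul, S.hf.involutive, hσk]
        module
    have h2 : In K (pl σ f b z k 0 0) := tq_pl S b z k ▸ hrat b hb0 hb hbb hk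
    have h3 : In K (pl σ f b z 0 0 (k * (s * σ s))) := (hrat z hz0 hz hzz (k := k * (s * σ s)) (by
      rw [map_mul, map_mul, S.hf.involutive, hσk]; ring)).congr fun x => by
        simp only [tq, pl, map_zero]
        module
    have := pl_add S hbb hbz hzz (pl_add S hbb hbz hzz h1 (pl_neg S hbb hbz hzz h2)) (pl_neg S hbb hbz hzz h3)
    simpa using this
  obtain ⟨θ, hθ, hθσ⟩ := S.nt
  have hθd : θ - σ θ ≠ 0 := sub_ne_zero.mpr (Ne.symm hθσ)
  obtain ⟨k₂, hk₂⟩ : ∃ k₂, k₂ = (m + σ m) / (θ - σ θ) := ⟨_, rfl⟩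
  have hk₂s : k₂ + σ k₂ = 0 := by
    rw [hk₂, map_div₀, map_add, map_sub, S.hf.involutive, S.hf.involutive, ← neg_sub θ, div_neg, add_comm (σ m),
      add_neg_cancel]
  have hk₁s : m - k₂ * θ + σ (m - k₂ * θ) = 0 := by
    have hm : k₂ * (θ - σ θ) = m + σ m := by rw [hk₂, div_mul_cancel₀ _ hθd]
    rw [map_sub, map_mul, eq_neg_of_add_eq_zero_right hk₂s]
    linear_combination -hm
  have ha := hskew hk₁s (one_mem F₀)
  have hb' := hskew hk₂s (S.stab θ hθ)
  rw [map_one, mul_one] at ha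
  rw [S.hf.involutive] at hb'
  have := pl_add S hbb hbz hzz ha hb'
  simpa using this

/-- Every transvection. -/
theorem full {r : ℕ} (hr : r.Prime) (hro : Odd r) (hcard : Fintype.card F = Nat.card F₀ ^ r) {g : GL ι F} (hg : g ∈ K)
    (hgn : ¬ Good σ F₀ g) {w : ι → F} (hww : f w w = 0) {c : F} (hc : c + σ c = 0) : In K (tq f w c) := by
  classical
  have hoff := fun m => full_off S hr hro hcard hg hgn m
  -- rational centres
  have hrat : ∀ b : ι → F, b ≠ 0 → Rat F₀ b → f b b = 0 → ∀ {k : F}, k + σ k = 0 → In K (tq f b k) :=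
    fun b h0 h h' k hk => full_rat S hr hro hcard hg hgn h0 h h' hk
  by_cases hw0 : w = 0
  · exact ⟨1, one_mem _, fun x => by simp [tq, hw0, f_zero_right S]⟩
  obtain ⟨e, he, hee, hwe⟩ : ∃ e, Rat F₀ e ∧ f e e = 0 ∧ f w e ≠ 0 := by
    by_contra hcon
    push Not at hcon
    refine hw0 (eq_of_rat S fun x hx => ?_)
    rw [f_zero_right S]
    exact symm_zero S (rat_induction S (P := fun x => f w x = 0) hcon
      (fun x y _ _ h1 h2 => by rw [(hs S).add_right, h1, h2, add_zero]) hx)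
  have he0 : e ≠ 0 := fun h => hwe (by rw [h, f_zero_right S])
  obtain ⟨f₀, hf₀, hf₀f, -, -, hef, hfe⟩ := exists_partner S Rat.zero Rat.zero he
    (fun k l h => he0 (by simpa using h.symm)) hee (f_zero_right S e) (f_zero_right S e)
  obtain ⟨v, hv⟩ : ∃ v, v = (f w e)⁻¹ • w := ⟨_, rfl⟩
  have hve : f v e = 1 := by rw [hv, (hs S).smul_left, inv_mul_cancel₀ hwe]
  have hvv : f v v = 0 := by rw [hv, (hs S).smul_left, (hs S).smul_right, hww, mul_zero, mul_zero]
  -- transitivity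
  let P : (ι → F) → Prop := fun a => f a e = 0 ∧ ∃ y ∈ K, (y : Matrix ι ι F) *ᵥ e = e ∧
    (∀ x, f x e = 0 → ∃ k : F, (y : Matrix ι ι F) *ᵥ x = x + k • e) ∧
    ∃ k : F, (y : Matrix ι ι F) *ᵥ f₀ = f₀ + a + k • e
  have hP0 : P 0 := ⟨f_zero_left S e, 1, one_mem _, by simp, fun x _ => ⟨0, by simp⟩, 0, by simp⟩
  have hPadd : ∀ a a', P a → P a' → P (a + a') := by
    rintro a a' ⟨ha, y, hy, hye, hyx, k, hyk⟩ ⟨ha', y', hy', hy'e, hy'x, k', hy'k⟩
    refine ⟨by rw [(hs S).add_left, ha, ha', add_zero], y * y', mul_mem hy hy',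
      by rw [gl_mul_mulVec, hy'e, hye], fun x hx => ?_, ?_⟩
    · obtain ⟨j', hj'⟩ := hy'x x hx
      obtain ⟨j, hj⟩ := hyx x hx
      exact ⟨j + j', by rw [gl_mul_mulVec, hj', Matrix.mulVec_add, Matrix.mulVec_smul, hye, hj]; module⟩
    · obtain ⟨j, hj⟩ := hyx a' ha'
      exact ⟨k + j + k', by
        rw [gl_mul_mulVec, hy'k, Matrix.mulVec_add, Matrix.mulVec_add, Matrix.mulVec_smul, hye, hyk, hj]; module⟩
  have hPiso : ∀ p : ι → F, Rat F₀ p → f p e = 0 → f p p = 0 → ∀ s : F, P (s • p) := by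
    intro p hp hpe hpp s
    refine ⟨by rw [(hs S).smul_left, hpe, mul_zero], ?_⟩
    by_cases hdep : ∃ k : F, k • e = p
    · obtain ⟨k, hk⟩ := hdep
      exact ⟨1, one_mem _, by simp, fun x _ => ⟨0, by simp⟩, -(s * k), by
        rw [← hk, Units.val_one, Matrix.one_mulVec]; module⟩
    push Not at hdep
    have hp0 : p ≠ 0 := fun h => hdep 0 (by rw [zero_smul, h])
    obtain ⟨y, hy, hyx⟩ := hoff s p e ⟨hp0, hp, he, hpp, hee, hpe, fun k hk => by
      by_cases hk0 : k = 0
      · exact he0 (by rw [← hk, hk0, zero_smul])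
      · exact hdep k⁻¹ (by rw [← hk, smul_smul, inv_mul_cancel₀ hk0, one_smul])⟩
    refine ⟨y, hy, ?_, fun x hx => ⟨-(σ s) * f x p, ?_⟩, -(σ s) * f f₀ p, ?_⟩
    · rw [hyx, pl, hee, symm_zero S hpe]; simp
    · rw [hyx, pl, hx]; simp
    · rw [hyx, pl, hfe]; simp; module
  obtain ⟨a, ha⟩ : ∃ a, a = v - f₀ := ⟨_, rfl⟩
  have hae : f a e = 0 := by rw [ha, f_sub_left S, hve, hfe, sub_self]
  have hsum : a = ∑ i, a i • ((Pi.single i 1 : ι → F) - f (Pi.single i 1) e • f₀) := by
    simp only [smul_sub, smul_smul, Finset.sum_sub_distrib, ← Finset.sum_smul]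
    have h0 : ∑ i, a i * f (Pi.single i 1) e = 0 := by
      rw [← hae]
      conv_rhs => rw [pi_eq_sum_univ' a, f_sum_left S]
      exact Finset.sum_congr rfl fun i _ => ((hs S).smul_left _ _ _).symm
    rw [h0, zero_smul, sub_zero]
    exact pi_eq_sum_univ' a
  have hPa : P a := by
    rw [hsum]
    refine Finset.sum_induction _ P hPadd hP0 fun i _ => ?_
    have hpr : Rat F₀ ((Pi.single i 1 : ι → F) - f (Pi.single i 1) e • f₀) :=
      (rat_single i).sub (hf₀.smul (S.rat _ _ (rat_single i) he))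
    refine iso_induction S he he0 (P := fun p => ∀ s : F, P (s • p)) hPiso
      (fun x y _ _ _ _ hx hy s => by rw [smul_add]; exact hPadd _ _ (hx s) (hy s)) hpr ?_ _
    rw [f_sub_left S, (hs S).smul_left, hfe, mul_one, sub_self]
  obtain ⟨-, y, hy, -, -, k, hyk⟩ := hPa
  rw [ha, add_sub_cancel] at hyk
  have hkk : k + σ k = 0 := by
    have := S.iso y hy f₀ f₀
    rw [hyk, hf₀f, (hs S).add_left, (hs S).add_right, (hs S).add_right, (hs S).smul_left, (hs S).smul_left,
      (hs S).smul_right, (hs S).smul_right, hvv, hee, S.hf.herm e v, hve, map_one] at this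
    linear_combination this
  obtain ⟨t, ht, htx⟩ := hrat e he0 he hee (k := -k) (by rw [map_neg]; linear_combination -hkk)
  have hY : ((t * y : GL ι F) : Matrix ι ι F) *ᵥ f₀ = v := by
    rw [gl_mul_mulVec, hyk, htx, tq, (hs S).add_left, (hs S).smul_left, hee, hve]
    module
  have hf₀0 : f₀ ≠ 0 := fun h => by
    rw [h, f_zero_left S] at hfe; exact zero_ne_one hfe
  have hwv : w = f w e • v := by rw [hv, smul_smul, mul_inv_cancel₀ hwe, one_smul]
  rw [hwv, tq_smul S, ← hY]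
  refine In.conj_tq S (hrat f₀ hf₀0 hf₀ hf₀f ?_) (mul_mem ht hy)
  rw [map_mul σ c, map_mul, S.hf.involutive]
  linear_combination (f w e * σ (f w e)) * hc

end Cfsg.Agent.Classical.USub
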