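/-
Subfield subgroups of odd prime index are maximal in the special unitary group.
-/
import Cfsg.Agent.Lib.Classical.USubFull
import Cfsg.Agent.Lib.Classical.UnitaryOvergroup
import Cfsg.Agent.Lib.Classical.UnitarySmallDim
import Cfsg.Agent.Lib.Classical.FormPower

set_option autoImplicit false
set_option linter.unusedSectionVars false
set_option linter.style.haveILetI false

namespace Cfsg.Agent.Classical.USub

open Matrix Cfsg.Geo
open Cfsg.Agent.Classical

variable {F : Type*} [Field F] [Fintype F] {n q : ℕ} {σ : F ≃+* F} {F₀ : Subfield F}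

theorem field_facts (hσ : IsUSigma q σ) {r : ℕ} (hr : r.Prime) (hro : Odd r)
    (hcard : Fintype.card F = Nat.card F₀ ^ r) :
    (∃ θ ∈ F₀, σ θ ≠ θ) ∧ ∀ μ : F, μ * μ ∈ F₀ → μ ∈ F₀ := by
  obtain ⟨p, e, -, hp, hchar, hqe, he, -⟩ := exists_usigma hσ.card
  haveI := hchar
  have hF : Fintype.card F = p ^ (2 * e) := by rw [hσ.card, hqe, ← pow_mul, mul_comm]
  obtain ⟨b, hb, hbe, hb0, hiff⟩ := subfield_card_eq hp hF F₀
  have hbr : b * r = 2 * e := Nat.pow_right_injective hp.two_le (by
    change p ^ (b * r) = p ^ (2 * e)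
    rw [pow_mul, ← hb0, ← hcard, hF])
  obtain ⟨i, hi⟩ := hro
  obtain ⟨c, hc⟩ : 2 ∣ b := by
    refine (Nat.prime_two.dvd_mul.mp ⟨e, hbr⟩).resolve_right fun h => ?_
    omega
  have hiter : ∀ x ∈ F₀, ∀ j, x ^ ((p ^ b) ^ j) = x := fun x hx j => by
    induction j with
    | zero => simp
    | succ j ih => rw [pow_succ, pow_mul, ih, (hiff x).mp hx]
  refine ⟨?_, fun μ hμ => ?_⟩
  · by_contra hcon
    push Not at hcon
    have hfix : ∀ x ∈ F₀, x ^ (p ^ c) = x := fun x hx => by
      have h := hcon x hx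
      rw [hσ.apply_eq, hqe, show e = b * i + c by
        rw [hc] at hbr ⊢
        have : 2 * c * (2 * i + 1) = 2 * (2 * c * i + c) := by ring
        rw [← hi, hbr] at this
        omega, pow_add, pow_mul, pow_mul, hiter x hx] at h
      exact h
    have hc2 : c ∣ 2 * e := dvd_trans (Dvd.intro_left _ hc.symm) hbe
    have h := Nat.card_le_card_of_injective
      (fun x : F₀ => (⟨(x : F), hfix x x.2⟩ : {x : F // x ^ (p ^ c) = x}))
      (fun x y h => Subtype.ext (congrArg (fun z : {x : F // x ^ (p ^ c) = x} => (z : F)) h))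
    rw [hb0, card_pow_fixed hp hF hc2 (by omega), Nat.pow_le_pow_iff_right hp.one_lt] at h
    omega
  · by_cases hμ0 : μ = 0
    · rw [hμ0]; exact zero_mem _
    obtain ⟨Q, hQ⟩ : ∃ Q, Q = p ^ b := ⟨_, rfl⟩
    have hQ0 : 0 < Q := hQ ▸ pow_pos hp.pos b
    obtain ⟨ε, hε⟩ : ∃ ε, ε = μ ^ Q / μ := ⟨_, rfl⟩
    have hεQ : μ ^ Q = ε * μ := by rw [hε, div_mul_cancel₀ _ hμ0]
    have hεε : ε * ε = 1 := by
      have h := (hiff _).mp hμ
      rw [← hQ, mul_pow, hεQ] at h
      refine mul_right_cancel₀ (mul_ne_zero hμ0 hμ0) ?_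
      linear_combination h
    have hε' : ε ^ Q = ε := by
      rcases mul_self_eq_one_iff.mp hεε with h | h <;> rw [h]
      · rw [one_pow]
      · rw [hQ]; exact (hiff _).mp (neg_mem (one_mem _))
    have hit : ∀ j, μ ^ (Q ^ j) = ε ^ j * μ := fun j => by
      induction j with
      | zero => simp
      | succ j ih => rw [pow_succ, pow_mul, ih, mul_pow, ← pow_mul, mul_comm j Q, pow_mul, hε', hεQ]; ring
    have h := hit r
    rw [hQ, ← pow_mul, hbr, ← hF, FiniteField.pow_card] at h
    rw [hi, pow_add, pow_mul, sq, hεε, one_pow, one_mul, pow_one] at h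
    rw [hiff, ← hQ, hεQ]
    exact h.symm

theorem isMaximal (hσ : IsUSigma q σ) (h4 : 4 ≤ n) {r : ℕ} (hr : r.Prime) (hro : Odd r)
    (hcard : Fintype.card F = Nat.card F₀ ^ r) (P : GL (Fin n) F)
    (hP : IsFormRationalStructure (hermForm n F q) F₀ 1 P) :
    IsMaximalIn (suGL n F q) (subfieldSubgroup F₀ P ⊓ suGL n F q) := by
  classical
  refine ⟨lt_of_le_of_ne inf_le_right fun e => hσ.not_su_le_subfield_three (by omega) hr hcard P (inf_eq_right.mp e),
    fun K hK hKS => or_iff_not_imp_left.mpr fun hne => le_antisymm hKS ?_⟩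
  obtain ⟨hnt, hsq⟩ := field_facts hσ hr hro hcard
  have hh := hσ.isUnitaryForm (n := n)
  let f : (Fin n → F) → (Fin n → F) → F := fun u v =>
    hermForm n F q ((P : Matrix (Fin n) (Fin n) F) *ᵥ u) ((P : Matrix (Fin n) (Fin n) F) *ᵥ v)
  have hf : IsUnitaryForm σ f :=
    { ne_refl := hh.ne_refl
      involutive := hh.involutive
      add_left := fun x y v => by simp only [f, Matrix.mulVec_add, hh.add_left]
      smul_left := fun c x v => by simp only [f, Matrix.mulVec_smul, hh.smul_left]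
      herm := fun v w => hh.herm _ _
      nondegenerate := fun v hv => by
        obtain ⟨⟨a, ha⟩, ⟨b, hb⟩⟩ := hh.nondegenerate _
          fun e => hv (gl_mulVec_injective P (e.trans (Matrix.mulVec_zero _).symm))
        exact ⟨⟨((P⁻¹ : GL (Fin n) F) : Matrix (Fin n) (Fin n) F) *ᵥ a, by simpa [f, gl_mulVec_inv_cancel] using ha⟩,
          ⟨((P⁻¹ : GL (Fin n) F) : Matrix (Fin n) (Fin n) F) *ᵥ b, by simpa [f, gl_mulVec_inv_cancel] using hb⟩⟩ }
  let K' : Subgroup (GL (Fin n) F) := K.comap (MulAut.conj P).toMonoidHom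
  have hmem : ∀ y, y ∈ K' ↔ P * y * P⁻¹ ∈ K := fun y => Iff.rfl
  have S : Setup F₀ σ f K' :=
    { hf := hf
      stab := fun x hx => by rw [hσ.apply_eq]; exact pow_mem hx _
      nt := hnt
      rat := fun u v hu hv => by simpa [f] using hP u v hu hv
      sq := hsq
      big := by rw [Fintype.card_fin]; exact h4
      iso := fun y hy u v => by
        have h := mem_GU_iff.mp (hKS ((hmem y).mp hy)).1 ((P : Matrix (Fin n) (Fin n) F) *ᵥ u)
          ((P : Matrix (Fin n) (Fin n) F) *ᵥ v)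
        simp only [gl_mul_mulVec, gl_inv_mulVec_cancel] at h
        exact h
      det := fun y hy => by
        have h := mem_specialLinear_iff.mp (hKS ((hmem y).mp hy)).2
        rw [Units.val_mul, Units.val_mul, Matrix.det_units_conj] at h
        exact h
      base := fun g hg hd hent => by
        refine (hmem g).mpr (hK ⟨mem_subfieldSubgroup.mpr (Subgroup.mem_sup_left (mem_range_map_subfield ?_)),
          mem_GU_iff.mpr fun u v => ?_, mem_specialLinear_iff.mpr ?_⟩)
        · rwa [show P⁻¹ * (P * g * P⁻¹) * P = g by group]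
        · have h := hg (((P⁻¹ : GL (Fin n) F) : Matrix (Fin n) (Fin n) F) *ᵥ u)
            (((P⁻¹ : GL (Fin n) F) : Matrix (Fin n) (Fin n) F) *ᵥ v)
          simp only [f, gl_mulVec_inv_cancel] at h
          simp only [gl_mul_mulVec]
          exact h
        · rw [Units.val_mul, Units.val_mul, Matrix.det_units_conj]; exact hd }
  obtain ⟨g, hg, hgn⟩ : ∃ g ∈ K, g ∉ subfieldSubgroup F₀ P := by
    by_contra hcon
    push Not at hcon
    exact hne (le_antisymm (le_inf hcon hKS) hK)
  have hg' : P⁻¹ * g * P ∈ K' := (hmem _).mpr (by rwa [show P * (P⁻¹ * g * P) * P⁻¹ = g by group])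
  have hbad : ¬ Good σ F₀ (P⁻¹ * g * P) := fun hgood => by
    obtain ⟨M, hM⟩ : ∃ M, M = P⁻¹ * g * P := ⟨_, rfl⟩
    rw [← hM] at hgood
    obtain ⟨k, k', hk⟩ : ∃ k k', (M : Matrix (Fin n) (Fin n) F) k k' ≠ 0 := by
      by_contra hcon
      push Not at hcon
      haveI : Nonempty (Fin n) := ⟨⟨0, by omega⟩⟩
      exact ((Matrix.isUnit_iff_isUnit_det _).mp M.isUnit).ne_zero (by
        rw [show (M : Matrix (Fin n) (Fin n) F) = 0 from Matrix.ext fun a b => hcon a b, Matrix.det_zero])
    refine hgn (mem_subfieldSubgroup_of_scaled (ν := σ ((M : Matrix (Fin n) (Fin n) F) k k')) (by simpa using hk)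
      fun a b => ?_)
    rw [← hM, mul_comm]
    exact hgood a k b k'
  refine UOver.suGL_le hσ (by omega) fun v c hv hc t ht => ?_
  obtain ⟨y, hy, hyx⟩ := full S hr hro hcard hg' hbad
    (w := ((P⁻¹ : GL (Fin n) F) : Matrix (Fin n) (Fin n) F) *ᵥ v)
    (by simpa [f, gl_mulVec_inv_cancel] using hv) hc
  have e : t = P * y * P⁻¹ := gl_ext_mulVec fun x => by
    rw [gl_mul_mulVec, gl_mul_mulVec, hyx, ht, Matrix.mulVec_add, gl_mulVec_inv_cancel, tq, Matrix.mulVec_smul,
      gl_mulVec_inv_cancel]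
    simp only [f, gl_mulVec_inv_cancel]
  rw [e]
  exact hy

end Cfsg.Agent.Classical.USub
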