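/-
Maximal subgroups of the special unitary groups in dimensions three and four.
-/
import Cfsg.Agent.Lib.Classical.UnitarySmallDim

set_option autoImplicit false
set_option linter.style.haveILetI false
set_option linter.unusedSectionVars false

namespace Cfsg.Agent.Classical

open Matrix Cfsg.Geo

variable {n q : ℕ} {F : Type*} [Field F] [Fintype F] {σ : F ≃+* F} (hσ : IsUSigma q σ)

include hσ

/-- The maximal subgroups of the special unitary group in dimension three and four. -/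
theorem IsUSigma.u_cases_small (h3 : 3 ≤ n) (h4 : n ≤ 4) (hex : ¬ (n = 3 ∧ q = 2)) {H : Subgroup (GL (Fin n) F)} (hH : IsMaximalIn (suGL n F q) H) :
    (∃ W : Submodule F (Fin n → F), W ≠ ⊥ ∧ IsTotallySingularFor (hermForm n F q) W ∧
      H = subspaceStabilizer W ⊓ suGL n F q) ∨
    (∃ W : Submodule F (Fin n → F), W ≠ ⊥ ∧ IsNondegenerateOn (hermForm n F q) W ∧ 2 * Module.finrank F W < n ∧
      H = subspaceStabilizer W ⊓ suGL n F q) ∨
    (∃ (t k : ℕ) (D : Fin t → Submodule F (Fin n → F)), 2 ≤ t ∧ 0 < k ∧ t * k = n ∧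
      IsNondegenerateMDecomposition (hermForm n F q) k D ∧ H = decompositionStabilizer D ⊓ suGL n F q) ∨
    (∃ (k : ℕ) (D : Fin 2 → Submodule F (Fin n → F)), 2 * k = n ∧ IsMDecomposition k D ∧
      (∀ i, IsTotallySingularFor (hermForm n F q) (D i)) ∧ H = decompositionStabilizer D ⊓ suGL n F q) ∨
    (∃ (F₀ : Subfield F) (r : ℕ) (P : GL (Fin n) F), r.Prime ∧ Odd r ∧ Fintype.card F = Nat.card F₀ ^ r ∧
      IsFormRationalStructure (hermForm n F q) F₀ 1 P ∧ H = subfieldSubgroup F₀ P ⊓ suGL n F q) ∨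
    (∃ (F₀ : Subfield F) (P : GL (Fin n) F), Odd q ∧ Fintype.card F = Nat.card F₀ ^ 2 ∧
      IsFormRationalStructure (hermForm n F q) F₀ 1 P ∧ H = subfieldSubgroup F₀ P ⊓ suGL n F q) ∨
    (∃ (F₀ : Subfield F) (P : GL (Fin n) F) (ζ : F), Even n ∧ Fintype.card F = Nat.card F₀ ^ 2 ∧ ζ ≠ 0 ∧
      ζ + ζ ^ q = 0 ∧ IsFormRationalStructure (hermForm n F q) F₀ ζ P ∧
      (∀ u : Fin n → F, (∀ i, u i ∈ F₀) →
        hermForm n F q ((P : Matrix (Fin n) (Fin n) F) *ᵥ u) ((P : Matrix (Fin n) (Fin n) F) *ᵥ u) = 0) ∧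
      H = subfieldSubgroup F₀ P ⊓ suGL n F q) ∨
    (∃ (r : ℕ) (R : Subgroup (GL (Fin n) F)) (p k : ℕ), IsSymplecticTypeGroup r R ∧
      ActsAbsolutelyIrreducibly (matrixSet R) ∧ R ≤ similarityGroup (hermForm n F q) ∧ p.Prime ∧
      ((Odd r ∧ Nat.card (Subgroup.center R) = r ∧ 1 ≤ k ∧ Nat.card R = r ^ (1 + 2 * k) ∧ n = r ^ k ∧
          r ≠ p ∧ ∃ e, IsMinimalFieldFor r p e F) ∨
       (r = 2 ∧ q = p ∧ p % 4 = 3 ∧ Nat.card (Subgroup.center R) = 4 ∧ Nat.card R = 2 ^ (2 + 2 * k) ∧ n = 2 ^ k)) ∧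
      H = subgroupNormalizer R ⊓ suGL n F q) ∨
    (∃ (r : ℕ) (K : Subalgebra F (Matrix (Fin n) (Fin n) F)), r.Prime ∧ Odd r ∧ r ∣ n ∧ IsFieldSubalgebra r K ∧
      IsAdjointClosedFor (hermForm n F q) K ∧ H = subalgebraNormalizer K ⊓ suGL n F q) ∨
    InUnitaryResidualClass H := by
  classical
  haveI : Nonempty (Fin n) := ⟨⟨0, by omega⟩⟩
  have hHI : H ≤ GU n F q := hH.1.le.trans inf_le_left
  have hcard : Fintype.card (Fin n) = n := Fintype.card_fin n
  rcases hσ.u_structure (by omega) hHI with ⟨M, hM, hHM⟩ | hres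
  swap
  · iterate 9 right
    exact hres
  -- every member is `X ⊓ GU`
  have key : ∀ {X : Subgroup (GL (Fin n) F)}, M = X ⊓ GU n F q → ¬ suGL n F q ≤ X → H = X ⊓ suGL n F q :=
    fun hMX hX => eq_inf_of_maximal' hH ((hHM.trans hMX.le).trans inf_le_left) hX
  rcases hM with hM | hM | hM | hM
  · rcases hM with ⟨W, h0, hts, rfl⟩ | ⟨W, h0, hnd, hlt, rfl⟩ | ⟨t, k, D, hD, rfl⟩ | ⟨k, D, hk, hD, hts, rfl⟩ |
      ⟨F₀, r, P, hr, hro, hc, hrat, rfl⟩ | ⟨F₀, P, hqo, hc, hrat, rfl⟩ | ⟨F₀, P, ζ, hev, hc, h0, hζ, hrat, halt, rfl⟩ |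
      ⟨r, R, p, e, k, hR, hRa, hsim, hrp, hmin, hdata, rfl⟩
    · refine Or.inl ⟨W, h0, hts, key rfl (hσ.not_su_le_subspace_three h3 h0 fun e => ?_)⟩
      subst e
      obtain ⟨x, hx⟩ := (hσ.isUnitaryForm.nondegenerate (Pi.single (⟨0, by omega⟩ : Fin n) (1 : F)) (by simp)).1
      exact hx (hts x trivial _ trivial)
    · refine Or.inr (Or.inl ⟨W, h0, hnd, hlt, key rfl (hσ.not_su_le_subspace_three h3 h0 fun e => ?_)⟩)
      subst e
      simp at hlt
      omega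
    · exact Or.inr (Or.inr (Or.inl ⟨t, k, D, hD.decomp.two_le, hD.decomp.pos, (IsMDecomposition.card_eq hD.decomp).trans hcard, hD,
        key rfl (hσ.not_su_le_decomp_small h3 hex (by nlinarith [(IsMDecomposition.card_eq hD.decomp).trans hcard, hD.decomp.pos]) hD.decomp)⟩))
    · exact Or.inr (Or.inr (Or.inr (Or.inl ⟨k, D, hk, hD, hts, key rfl (hσ.not_su_le_decomp_small h3 hex (by norm_num) hD)⟩)))
    · exact Or.inr (Or.inr (Or.inr (Or.inr (Or.inl ⟨F₀, r, P, hr, hro, hc, hrat,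
        key rfl (hσ.not_su_le_subfield_three h3 hr hc P)⟩))))
    · exact Or.inr (Or.inr (Or.inr (Or.inr (Or.inr (Or.inl ⟨F₀, P, hqo, hc, hrat,
        key rfl (hσ.not_su_le_subfield_three h3 Nat.prime_two hc P)⟩)))))
    · exact Or.inr (Or.inr (Or.inr (Or.inr (Or.inr (Or.inr (Or.inl ⟨F₀, P, ζ, hev, hc, h0, hζ, hrat, halt,
        key rfl (hσ.not_su_le_subfield_three h3 Nat.prime_two hc P)⟩))))))
    · have hcomm := symplecticTypeGroup_comm hR hRa
      have hn := card_sq_of_scalar_commutators hRa hcomm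
      rw [hcard] at hn
      have hnot : ¬ suGL n F q ≤ subgroupNormalizer R := hσ.not_su_le_normalizer_three h3 hex hRa hsim hcomm
      refine Or.inr (Or.inr (Or.inr (Or.inr (Or.inr (Or.inr (Or.inr (Or.inl
        ⟨r, R, p, k, hR, hRa, hsim, hmin.1, ?_, key rfl hnot⟩)))))))
      rcases hdata with ⟨hro, hZ, hk, hRc⟩ | ⟨rfl, rfl, hZ, hRc⟩
      · refine Or.inl ⟨hro, hZ, hk, hRc, ?_, hrp, e, hZ ▸ hmin⟩
        rw [hZ, hRc, show r ^ (1 + 2 * k) = (r ^ k) ^ 2 * r by ring] at hn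
        exact Nat.pow_left_injective two_ne_zero (Nat.eq_of_mul_eq_mul_right hR.prime.pos hn)
      · obtain ⟨hp, hchar, hcF, hdvd, hnd⟩ := hmin
        rw [hσ.card] at hcF
        refine Or.inr ⟨rfl, (Nat.pow_left_injective two_ne_zero hcF : q = p), ?_, hZ, hRc, ?_⟩
        · have h1 := hnd 1 one_pos one_lt_two
          rw [hZ, pow_one] at h1
          have h2 : p ≠ 2 := fun e => hrp e.symm
          obtain ⟨u, hu⟩ := hp.odd_of_ne_two h2
          have := hp.two_le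
          omega
        · rw [hZ, hRc, show 2 ^ (2 + 2 * k) = (2 ^ k) ^ 2 * 4 by ring] at hn
          exact Nat.pow_left_injective two_ne_zero (Nat.eq_of_mul_eq_mul_right (by norm_num) hn)
  · obtain ⟨r, K, hr, hro, hK, hadj, rfl⟩ := hM
    exact Or.inr (Or.inr (Or.inr (Or.inr (Or.inr (Or.inr (Or.inr (Or.inr (Or.inl ⟨r, K, hr, hro,
      hcard ▸ fieldSubalgebra_finrank_dvd hK, hK, hadj, key rfl (hσ.not_su_le_field_three h3 hex hr.one_lt hK)⟩))))))))
  · obtain ⟨n₁, n₂, e, P, f₁, f₂, h1, h2, -⟩ := hM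
    exfalso
    have hn : n = n₁ * n₂ := by
      have := Fintype.card_congr e
      simpa only [Fintype.card_fin, Fintype.card_prod] using this
    have : 2 * 3 ≤ n₁ * n₂ := Nat.mul_le_mul h1 (by omega)
    omega
  · obtain ⟨k, t, e, P, f₁, hk, ht, -⟩ := hM
    exfalso
    have hn : n = k ^ t := by
      have := Fintype.card_congr e
      simpa only [Fintype.card_fin, Fintype.card_fun] using this
    have : 3 ^ 2 ≤ k ^ t := (Nat.pow_le_pow_left hk 2).trans (Nat.pow_le_pow_right (by omega) ht)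
    omega

end Cfsg.Agent.Classical
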