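/-
The unitary transvection groups as a degenerate class of root subgroups of the group they generate.
-/
import Mathlib
import Cfsg.Prelude.Def_RootSubgroups
import Cfsg.Agent.Lib.Classical.UnitaryTransComm
import Cfsg.Agent.Lib.Classical.TransvectionRoot
import Cfsg.Agent.Lib.Classical.RootClass

set_option autoImplicit false
set_option linter.unusedSectionVars false

namespace Cfsg.Agent.Classical.URoot

open Matrix Cfsg.Agent.Small Cfsg.Agent.Small.Unitary Cfsg.Agent.Classical.RankOne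
open scoped commutatorElement

variable {F : Type*} [Field F] [Fintype F] [StarRing F] {n q : ℕ}

set_option quotPrecheck false in
local notation "Gu" => ↥(Cfsg.SU n F q)

theorem hermForm_eq (hstar : ∀ x : F, star x = x ^ q) (u v : Fin n → F) :
    Cfsg.hermForm n F q u v = herm v u := by
  rw [herm, Cfsg.hermForm, dotProduct]
  exact Finset.sum_congr rfl fun i _ => by rw [Pi.star_apply, hstar, mul_comm]

theorem eq_of_act {g h : Gu} (e : ∀ x, act g x = act h x) : g = h := by
  have : h⁻¹ * g = 1 := eq_one_of_act fun k => by rw [act_mul, e, act_inv_act]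
  exact (inv_mul_eq_one.1 this).symm

theorem exists_herm_one {p : Fin n → F} (hp : p ≠ 0) : ∃ w, herm p w = 1 := by
  obtain ⟨i, hi⟩ := Function.ne_iff.1 hp
  refine ⟨(star (p i))⁻¹ • Pi.single i 1, ?_⟩
  rw [herm_smul_right, herm_single_right, mul_one, inv_mul_cancel₀ (star_ne_zero.2 hi)]

/-- The transvections with centre `p`. -/
def T (q : ℕ) (p : Fin n → F) (hp : herm p p = 0) : Subgroup (Cfsg.SU n F q) where
  carrier := {g | ∃ t : F, star t = -t ∧ ∀ x, act g x = x + (t * herm p x) • p}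
  one_mem' := ⟨0, by simp, fun x => by simp [act_one]⟩
  mul_mem' := by
    rintro g h ⟨t, ht, hg⟩ ⟨s, hs, hh⟩
    refine ⟨t + s, by rw [star_add, ht, hs]; ring, fun x => ?_⟩
    rw [act_mul, hh, act_add, hg, act_smul, hg, hp]
    simp only [mul_zero, zero_smul, add_zero]
    module
  inv_mem' := by
    rintro g ⟨t, ht, hg⟩
    refine ⟨-t, by rw [star_neg, ht], fun x => act_injective g ?_⟩
    rw [act_act_inv, act_add, act_smul, hg, hg, hp]
    simp only [mul_zero, zero_smul, add_zero]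
    module

theorem mem_T {p : Fin n → F} {hp : herm p p = 0} {g : Gu} :
    g ∈ T q p hp ↔ ∃ t : F, star t = -t ∧ ∀ x, act g x = x + (t * herm p x) • p := Iff.rfl

theorem T_congr {p r : Fin n → F} (e : p = r) (hp : herm p p = 0) (hr : herm r r = 0) :
    T q p hp = T q r hr := by subst e; rfl

theorem closure_eq (hstar : ∀ x : F, star x = x ^ q) {p : Fin n → F} (hp0 : p ≠ 0) (hp : herm p p = 0) :
    Subgroup.closure {g : Gu |
      (∀ v : Fin n → F, ∃ c : F,
        ((g : Matrix.SpecialLinearGroup (Fin n) F) : Matrix (Fin n) (Fin n) F) *ᵥ v = v + c • p) ∧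
      ∀ v : Fin n → F, Cfsg.hermForm n F q v p = 0 →
        ((g : Matrix.SpecialLinearGroup (Fin n) F) : Matrix (Fin n) (Fin n) F) *ᵥ v = v} = T q p hp := by
  refine le_antisymm ((Subgroup.closure_le _).2 ?_) fun g hg => Subgroup.subset_closure ?_
  · rintro g ⟨h1, h2⟩
    obtain ⟨w, hw⟩ := exists_herm_one hp0
    obtain ⟨t, ht⟩ := h1 w
    change act g w = w + t • p at ht
    have hwp : herm w p = 1 := by rw [← star_herm, hw, star_one]
    refine ⟨t, ?_, fun v => ?_⟩
    · have h3 := herm_act hstar g w w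
      rw [ht] at h3
      simp only [herm_add_left, herm_add_right, herm_smul_left, herm_smul_right, hp, hw, hwp, mul_zero,
        mul_one, add_zero] at h3
      linear_combination h3
    · have h3 : act g (v - herm p v • w) = v - herm p v • w := h2 _ (by
        rw [hermForm_eq hstar, herm_sub_right, herm_smul_right, hw, mul_one, sub_self])
      rw [act_sub, act_smul, ht, sub_eq_iff_eq_add] at h3
      rw [h3]
      module
  · obtain ⟨t, -, hg⟩ := hg
    refine ⟨fun v => ⟨t * herm p v, hg v⟩, fun v hv => ?_⟩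
    show act g v = v
    rw [hg, ← hermForm_eq hstar, hv, mul_zero, zero_smul, add_zero]

theorem conj_T (hstar : ∀ x : F, star x = x ^ q) (g : Gu) {p : Fin n → F} (hp : herm p p = 0) :
    Cfsg.conjBy (T q p hp) g = T q (act g p) (by rw [herm_act hstar]; exact hp) := by
  ext x
  rw [mem_conjBy, mem_T, mem_T]
  refine exists_congr fun t => and_congr_right fun _ => ⟨fun h v => ?_, fun h v => ?_⟩
  · have h' := congrArg (act g) (h (act g⁻¹ v))
    rw [act_mul, act_mul, act_act_inv, act_act_inv, act_add, act_smul, act_act_inv] at h'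
    rw [h', ← herm_act hstar g p, act_act_inv]
  · rw [act_mul, act_mul, h, herm_act hstar, act_add, act_smul, act_inv_act, act_inv_act]

theorem T_comm (p : Fin n → F) (hp : herm p p = 0) : IsMulCommutative (T q p hp) := by
  refine ⟨⟨fun a b => Subtype.ext (eq_of_act fun x => ?_)⟩⟩
  obtain ⟨t, -, ht⟩ := a.2
  obtain ⟨s, -, hs⟩ := b.2
  simp only [Subgroup.coe_mul, act_mul, ht, hs, herm_add_right, herm_smul_right, hp, mul_zero, add_zero]
  module

theorem commuting {p r : Fin n → F} (hp : herm p p = 0) (hr : herm r r = 0) (h : herm p r = 0) :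
    ⁅T q p hp, T q r hr⁆ = ⊥ := by
  rw [Subgroup.commutator_eq_bot_iff_le_centralizer]
  rintro a ⟨t, -, ht⟩ b ⟨s, -, hs⟩
  have h' : herm r p = 0 := by rw [← star_herm, h, star_zero]
  refine eq_of_act fun x => ?_
  show act (b * a) x = act (a * b) x
  simp only [act_mul, ht, hs, herm_add_right, herm_smul_right, h, h', mul_zero, add_zero]
  module

theorem T_ne_bot (hstar : ∀ x : F, star x = x ^ q) (hF : Fintype.card F = q ^ 2) {p : Fin n → F}
    (hp0 : p ≠ 0) (hp : herm p p = 0) : T q p hp ≠ ⊥ := by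
  intro he
  obtain ⟨θ, hθ, hθ'⟩ := exists_skew hstar hF
  obtain ⟨w, hw⟩ := exists_herm_one hp0
  have h1 : trans hstar p hp θ hθ' = 1 :=
    Subgroup.mem_bot.1 (he ▸ ⟨θ, hθ', act_trans hstar p hp θ hθ'⟩)
  have h2 := act_trans hstar p hp θ hθ' w
  rw [h1, act_one, hw, mul_one, left_eq_add, smul_eq_zero] at h2
  exact h2.elim hθ hp0

section Plane

variable {L : Type*} [Field L] (ι : L →+* F)

/-- The matrix on the plane. -/
def planeMat (θ : F) (M : Matrix (Fin 2) (Fin 2) L) : Matrix (Fin 2) (Fin 2) F :=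
  !![ι (M 0 0), ι (M 0 1) * θ; ι (M 1 0) * θ⁻¹, ι (M 1 1)]

theorem planeMat_mul {θ : F} (hθ : θ ≠ 0) (M N : Matrix (Fin 2) (Fin 2) L) :
    planeMat ι θ (M * N) = planeMat ι θ M * planeMat ι θ N := by
  ext i j
  fin_cases i <;> fin_cases j <;> simp [planeMat, Matrix.mul_apply, Fin.sum_univ_two] <;> field_simp

theorem planeMat_det {θ : F} (hθ : θ ≠ 0) (M : Matrix.SpecialLinearGroup (Fin 2) L) :
    (planeMat ι θ (M : Matrix (Fin 2) (Fin 2) L)).det = 1 := by
  have h := congrArg ι (Matrix.det_fin_two (M : Matrix (Fin 2) (Fin 2) L) ▸ M.2)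
  rw [map_sub, map_mul, map_mul, map_one] at h
  rw [planeMat, Matrix.det_fin_two_of, ← h]
  field_simp

/-- The hyperbolic Gram matrix. -/
def gram : Matrix (Fin 2) (Fin 2) F := !![0, 1; 1, 0]

theorem gram_herm : (gram : Matrix (Fin 2) (Fin 2) F)ᴴ = gram := by
  ext i j; fin_cases i <;> fin_cases j <;> simp [gram]

theorem gram_sq : (gram : Matrix (Fin 2) (Fin 2) F) * gram = 1 := by
  ext i j; fin_cases i <;> fin_cases j <;> simp [gram]

theorem planeMat_gram (hι : ∀ x, star (ι x) = ι x) {θ : F} (hθ : θ ≠ 0) (hθ' : star θ = -θ)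
    (M : Matrix.SpecialLinearGroup (Fin 2) L) :
    (planeMat ι θ (M : Matrix (Fin 2) (Fin 2) L))ᴴ * gram * planeMat ι θ (M : Matrix (Fin 2) (Fin 2) L) =
      gram := by
  have h := congrArg ι (Matrix.det_fin_two (M : Matrix (Fin 2) (Fin 2) L) ▸ M.2)
  rw [map_sub, map_mul, map_mul, map_one] at h
  generalize (M : Matrix (Fin 2) (Fin 2) L) = A at h ⊢
  ext i j
  fin_cases i <;> fin_cases j <;>
    simp [planeMat, gram, Matrix.mul_apply, Fin.sum_univ_two, hι, hθ', star_inv₀] <;> field_simp <;>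
    first
      | linear_combination h
      | ring

variable {ι}

/-- The matrix with columns `p`, `r`. -/
def cols (p r : Fin n → F) : Matrix (Fin n) (Fin 2) F := Matrix.of fun i j => if j = 0 then p i else r i

theorem cols_gram {p r : Fin n → F} (hp : herm p p = 0) (hr : herm r r = 0) (h : herm p r = 1) :
    (cols p r)ᴴ * cols p r = gram := by
  have h' : herm r p = 1 := by rw [← star_herm, h, star_one]
  ext i j
  fin_cases i <;> fin_cases j <;> simp [gram, Matrix.mul_apply, cols] <;>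
    first
      | exact hp
      | exact hr
      | exact h
      | exact h'

theorem embed_mulVec (p r x : Fin n → F) (M : Matrix (Fin 2) (Fin 2) F) :
    embed (cols p r) ((gram : Matrix (Fin 2) (Fin 2) F) * (cols p r : Matrix (Fin n) (Fin 2) F)ᴴ) M *ᵥ x =
      x + ((M 0 0 - 1) * herm r x + M 0 1 * herm p x) • p + (M 1 0 * herm r x + (M 1 1 - 1) * herm p x) • r := by
  have hv : (cols p r)ᴴ *ᵥ x = ![herm p x, herm r x] := by
    funext j
    fin_cases j <;> simp [Matrix.mulVec, cols, dotProduct, herm]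
  rw [embed, Matrix.add_mulVec, Matrix.one_mulVec, ← Matrix.mulVec_mulVec, ← Matrix.mulVec_mulVec,
    ← Matrix.mulVec_mulVec, hv, add_assoc]
  congr 1
  funext i
  simp [Matrix.mulVec, dotProduct, cols, gram, Fin.sum_univ_two]
  ring

/-- `SL₂` of the fixed field on the plane of `p`, `r`. -/
noncomputable def planeHom (hstar : ∀ x : F, star x = x ^ q) (hι : ∀ x, star (ι x) = ι x) {θ : F}
    (hθ : θ ≠ 0) (hθ' : star θ = -θ) {p r : Fin n → F} (hp : herm p p = 0) (hr : herm r r = 0)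
    (h : herm p r = 1) : Matrix.SpecialLinearGroup (Fin 2) L →* Cfsg.SU n F q where
  toFun M := emb hstar (cols p r) gram gram_herm gram_sq (cols_gram hp hr h)
    (planeMat ι θ (M : Matrix (Fin 2) (Fin 2) L)) (planeMat_gram ι hι hθ hθ' M) (planeMat_det ι hθ M)
  map_one' := by
    refine Subtype.ext (Subtype.ext ?_)
    show embed _ _ _ = (1 : Matrix (Fin n) (Fin n) F)
    rw [Matrix.SpecialLinearGroup.coe_one, show planeMat ι θ 1 = 1 by
      ext i j; fin_cases i <;> fin_cases j <;> simp [planeMat]]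
    simp [embed]
  map_mul' M N := by
    refine Subtype.ext (Subtype.ext ?_)
    show embed _ _ _ = embed _ _ _ * embed _ _ _
    rw [embed_mul _ _ (by rw [Matrix.mul_assoc, cols_gram hp hr h, gram_sq]),
      Matrix.SpecialLinearGroup.coe_mul, planeMat_mul ι hθ]

theorem act_planeHom (hstar : ∀ x : F, star x = x ^ q) (hι : ∀ x, star (ι x) = ι x) {θ : F}
    (hθ : θ ≠ 0) (hθ' : star θ = -θ) {p r : Fin n → F} (hp : herm p p = 0) (hr : herm r r = 0)
    (h : herm p r = 1) (M : Matrix.SpecialLinearGroup (Fin 2) L) (x : Fin n → F) :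
    act (planeHom hstar hι hθ hθ' hp hr h M) x =
      x + ((ι (M 0 0) - 1) * herm r x + ι (M 0 1) * θ * herm p x) • p +
        (ι (M 1 0) * θ⁻¹ * herm r x + (ι (M 1 1) - 1) * herm p x) • r := by
  show embed _ _ _ *ᵥ x = _
  rw [embed_mulVec]
  simp [planeMat]

theorem planeHom_injective (hstar : ∀ x : F, star x = x ^ q) (hι : ∀ x, star (ι x) = ι x) {θ : F}
    (hθ : θ ≠ 0) (hθ' : star θ = -θ) {p r : Fin n → F} (hp : herm p p = 0) (hr : herm r r = 0)
    (h : herm p r = 1) : Function.Injective (planeHom hstar hι hθ hθ' hp hr h) := by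
  intro M N he
  have h' : herm r p = 1 := by rw [← star_herm, h, star_one]
  have key := fun x => (act_planeHom hstar hι hθ hθ' hp hr h M x).symm.trans
    (by rw [he, act_planeHom hstar hι hθ hθ' hp hr h N x])
  have h1 := congrArg (herm r) (key p)
  have h2 := congrArg (herm p) (key p)
  have h3 := congrArg (herm r) (key r)
  have h4 := congrArg (herm p) (key r)
  simp only [herm_add_right, herm_smul_right, hp, hr, h, h', mul_one, mul_zero, add_zero, zero_add,
    add_sub_cancel, add_right_inj, add_left_inj, sub_left_inj] at h1 h2 h3 h4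
  ext i j
  fin_cases i <;> fin_cases j
  · exact ι.injective h1
  · exact ι.injective (mul_right_cancel₀ hθ h3)
  · exact ι.injective (mul_right_cancel₀ (inv_ne_zero hθ) h2)
  · exact ι.injective h4

theorem planeHom_images (hstar : ∀ x : F, star x = x ^ q) (hι : ∀ x, star (ι x) = ι x)
    (hι' : ∀ y : F, star y = y → ∃ x, ι x = y) {θ : F} (hθ : θ ≠ 0) (hθ' : star θ = -θ)
    {p r : Fin n → F} (hp : herm p p = 0) (hr : herm r r = 0) (h : herm p r = 1) :
    (Cfsg.upperUnipotentSL2 L).map (planeHom hstar hι hθ hθ' hp hr h) = T q p hp ∧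
    (Cfsg.lowerUnipotentSL2 L).map (planeHom hstar hι hθ hθ' hp hr h) = T q r hr := by
  have hex : ∀ t : F, star t = -t → ∀ s : F, star s = -s → ∃ x, ι x = t * s := fun t ht s hs =>
    hι' _ (by rw [star_mul', ht, hs]; ring)
  constructor <;> ext g <;> rw [Subgroup.mem_map, mem_T] <;> constructor
  · rintro ⟨u, hu, rfl⟩
    obtain ⟨c, rfl⟩ := TransRoot.mem_upperUnipotentSL2.mp hu
    refine ⟨ι c * θ, by rw [star_mul', hι, hθ']; ring, fun x => ?_⟩
    rw [act_planeHom, Matrix.SpecialLinearGroup.transvection_coe]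
    simp
  · rintro ⟨t, ht, hg⟩
    obtain ⟨c, hc⟩ := hex t ht θ⁻¹ (by rw [star_inv₀, hθ', inv_neg])
    refine ⟨_, TransRoot.mem_upperUnipotentSL2.mpr ⟨c, rfl⟩, eq_of_act fun x => ?_⟩
    rw [hg, act_planeHom, Matrix.SpecialLinearGroup.transvection_coe]
    simp [hc, hθ]
  · rintro ⟨u, hu, rfl⟩
    obtain ⟨c, rfl⟩ := TransRoot.mem_lowerUnipotentSL2.mp hu
    refine ⟨ι c * θ⁻¹, by rw [star_mul', hι, star_inv₀, hθ', inv_neg]; ring, fun x => ?_⟩
    rw [act_planeHom, Matrix.SpecialLinearGroup.transvection_coe]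
    simp
  · rintro ⟨t, ht, hg⟩
    obtain ⟨c, hc⟩ := hex t ht θ hθ'
    refine ⟨_, TransRoot.mem_lowerUnipotentSL2.mpr ⟨c, rfl⟩, eq_of_act fun x => ?_⟩
    rw [hg, act_planeHom, Matrix.SpecialLinearGroup.transvection_coe]
    simp [hc, hθ]

end Plane

theorem T_smul (hF : Fintype.card F = q ^ 2) {c : F} (hc : c ≠ 0) {p : Fin n → F} (hp : herm p p = 0)
    (hcp : herm (c • p) (c • p) = 0) : T q (c • p) hcp = T q p hp := by
  have hs : star c ≠ 0 := star_ne_zero.2 hc
  ext g
  rw [mem_T, mem_T]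
  constructor
  · rintro ⟨t, ht, hg⟩
    refine ⟨t * (star c * c), by rw [star_mul', star_mul', star_star, ht]; ring, fun x => ?_⟩
    rw [hg, herm_smul_left]
    module
  · rintro ⟨t, ht, hg⟩
    refine ⟨t * (star c * c)⁻¹, by rw [star_mul', star_inv₀, star_mul', star_star, ht, mul_comm c]; ring,
      fun x => ?_⟩
    rw [hg, herm_smul_left, smul_smul]
    congr 2
    field_simp

theorem psl2_pair (hstar : ∀ x : F, star x = x ^ q) (hF : Fintype.card F = q ^ 2) {L : Type*} [Field L]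
    (ι : L →+* F) (hι : ∀ x, star (ι x) = ι x) (hι' : ∀ y : F, star y = y → ∃ x, ι x = y)
    {p r : Fin n → F} (hp : herm p p = 0) (hr : herm r r = 0) (h : herm p r ≠ 0) :
    Cfsg.IsRankOnePair (T q p hp) (T q r hr) ∧ Cfsg.IsPSL2PairOver L (T q p hp) (T q r hr) := by
  obtain ⟨θ, hθ, hθ'⟩ := exists_skew hstar hF
  set c := (herm p r)⁻¹ with hcd
  have hc : c ≠ 0 := inv_ne_zero h
  have hr' : herm (c • r) (c • r) = 0 := by rw [herm_smul_left, herm_smul_right, hr]; simp
  have hone : herm p (c • r) = 1 := by rw [herm_smul_right, hcd, inv_mul_cancel₀ h]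
  obtain ⟨hu, hl⟩ := planeHom_images hstar hι hι' hθ hθ' hp hr' hone
  have hinj := planeHom_injective hstar hι hθ hθ' hp hr' hone
  rw [T_smul hF hc hr] at hl
  constructor
  · rw [← hu, ← hl]
    exact map_pair _ TransRoot.sl2_pair fun he => TransRoot.sl2_pair.ne (Subgroup.map_injective hinj he)
  · refine ⟨_, ?_, ?_, hu, hl⟩
    · rw [MonoidHom.range_eq_map, ← TransRoot.unipotents_sup, Subgroup.map_sup, hu, hl]
    · rw [(MonoidHom.ker_eq_bot_iff _).mpr hinj]
      exact bot_le

/-- An isotropic vector. -/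
theorem exists_isotropic (hstar : ∀ x : F, star x = x ^ q) (hF : Fintype.card F = q ^ 2) (hn : 2 ≤ n) :
    ∃ p : Fin n → F, p ≠ 0 ∧ herm p p = 0 := by
  obtain ⟨d, hd⟩ := exists_neg_norm hstar hF (r := (-1 : F)) (by simp)
  have hne : (⟨0, by omega⟩ : Fin n) ≠ ⟨1, by omega⟩ := by simp [Fin.ext_iff]
  refine ⟨Pi.single ⟨0, by omega⟩ 1 + Pi.single ⟨1, by omega⟩ d, fun h => ?_, ?_⟩
  · have := congrFun h ⟨0, by omega⟩
    simp [hne] at this
  · rw [herm_add_left, herm_add_right, herm_add_right, herm_single_left, herm_single_left, herm_single_left,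
      herm_single_left]
    simp [hne, hne.symm, hd]

/-- An isotropic vector not perpendicular to two given ones. -/
theorem exists_common (hstar : ∀ x : F, star x = x ^ q) (hF : Fintype.card F = q ^ 2) {p r : Fin n → F}
    (hp0 : p ≠ 0) (hr0 : r ≠ 0) (hp : herm p p = 0) (hpr : herm p r = 0) :
    ∃ s, s ≠ 0 ∧ herm s s = 0 ∧ herm p s ≠ 0 ∧ herm s r ≠ 0 := by
  obtain ⟨u, hu⟩ := exists_herm_one hp0
  obtain ⟨w, hw⟩ := exists_herm_one hr0
  obtain ⟨v, hv1, hv2⟩ : ∃ v, herm p v ≠ 0 ∧ herm r v ≠ 0 := by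
    by_cases h1 : herm r u = 0
    · by_cases h2 : herm p w = 0
      · exact ⟨u + w, by rw [herm_add_right, hu, h2, add_zero]; exact one_ne_zero,
          by rw [herm_add_right, hw, h1, zero_add]; exact one_ne_zero⟩
      · exact ⟨w, h2, by rw [hw]; exact one_ne_zero⟩
    · exact ⟨u, by rw [hu]; exact one_ne_zero, h1⟩
  obtain ⟨e, he⟩ := exists_trace hstar hF (r := -herm v v) (by rw [star_neg, star_herm])
  set c := e / herm v p with hc
  have hvp : herm v p ≠ 0 := by rw [← star_herm]; exact star_ne_zero.2 hv1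
  have hrp : herm r p = 0 := by rw [← star_herm, hpr, star_zero]
  refine ⟨v + c • p, fun h => hv1 ?_, ?_, ?_, ?_⟩
  · have := congrArg (herm p) h
    rwa [herm_add_right, herm_smul_right, hp, mul_zero, add_zero, herm_zero_right] at this
  · have h1 : star c * herm p v = star e := by rw [← star_herm v p, ← star_mul', hc, div_mul_cancel₀ _ hvp]
    have h2 : c * herm v p = e := by rw [hc, div_mul_cancel₀ _ hvp]
    rw [herm_add_left, herm_add_right, herm_add_right, herm_smul_left, herm_smul_left, herm_smul_right,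
      herm_smul_right, hp, h1, h2]
    linear_combination he
  · rwa [herm_add_right, herm_smul_right, hp, mul_zero, add_zero]
  · rw [← star_herm, star_ne_zero, herm_add_right, herm_smul_right, hrp, mul_zero, add_zero]
    exact hv2

variable (n F q) in
/-- All the transvection groups. -/
def rootSet : Set (Subgroup (Cfsg.SU n F q)) :=
  {A | ∃ (p : Fin n → F) (hp : herm p p = 0), p ≠ 0 ∧ A = T q p hp}

variable (n F q) in
/-- The group they generate. -/
def gen : Subgroup (Cfsg.SU n F q) := ⨆ B ∈ rootSet F n q, B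

variable (n F q) in
/-- The same groups inside the group they generate. -/
def rootSet' : Set (Subgroup (gen F n q)) :=
  (fun A : Subgroup (Cfsg.SU n F q) => A.subgroupOf (gen F n q)) '' rootSet F n q

theorem le_gen {A : Subgroup Gu} (hA : A ∈ rootSet F n q) : A ≤ gen F n q := le_iSup₂_of_le A hA le_rfl

theorem conj_subgroupOf {G : Type*} [Group G] {H A : Subgroup G} (g : H) :
    Cfsg.conjBy (A.subgroupOf H) g = (Cfsg.conjBy A (g : G)).subgroupOf H := by
  ext x
  rw [mem_conjBy, Subgroup.mem_subgroupOf, Subgroup.mem_subgroupOf, mem_conjBy]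
  simp

theorem sub_commuting {G : Type*} [Group G] {H A B : Subgroup G} (h : ⁅A, B⁆ = ⊥) :
    ⁅A.subgroupOf H, B.subgroupOf H⁆ = ⊥ := by
  rw [Subgroup.commutator_eq_bot_iff_le_centralizer] at h ⊢
  intro x hx
  exact Subgroup.mem_centralizer_iff.2 fun y hy =>
    Subtype.ext (Subgroup.mem_centralizer_iff.1 (h hx) y hy)

variable (hstar : ∀ x : F, star x = x ^ q) (hF : Fintype.card F = q ^ 2)
include hstar hF

theorem cases {L : Type*} [Field L] (ι : L →+* F) (hι : ∀ x, star (ι x) = ι x)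
    (hι' : ∀ y : F, star y = y → ∃ x, ι x = y) {A B : Subgroup (gen F n q)}
    (hA : A ∈ rootSet' F n q) (hB : B ∈ rootSet' F n q) :
    ⁅A, B⁆ = ⊥ ∨ (Cfsg.IsRankOnePair A B ∧ Cfsg.IsPSL2PairOver L A B) := by
  obtain ⟨A0, hA0, rfl⟩ := hA
  obtain ⟨B0, hB0, rfl⟩ := hB
  have hA' := le_gen hA0
  have hB' := le_gen hB0
  obtain ⟨p, hp, hp0, rfl⟩ := hA0
  obtain ⟨r, hr, hr0, rfl⟩ := hB0
  by_cases h : herm p r = 0
  · exact Or.inl (sub_commuting (commuting hp hr h))
  obtain ⟨h1, φ, hrange, hker, hu, hl⟩ := psl2_pair hstar hF ι hι hι' hp hr h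
  refine Or.inr ⟨pair_subgroupOf h1 hA' hB', ?_⟩
  have hle : φ.range ≤ gen F n q := by rw [hrange]; exact sup_le hA' hB'
  let ψ : Matrix.SpecialLinearGroup (Fin 2) L →* gen F n q := φ.codRestrict _ fun x => hle ⟨x, rfl⟩
  have hcomp : (gen F n q).subtype.comp ψ = φ := MonoidHom.ext fun _ => rfl
  have hinj := Subgroup.map_injective (gen F n q).subtype_injective
  refine ⟨ψ, hinj ?_, fun x hx => hker ?_, hinj ?_, hinj ?_⟩
  · rw [MonoidHom.map_range, hcomp, hrange, Subgroup.map_sup, Subgroup.map_subgroupOf_eq_of_le hA',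
      Subgroup.map_subgroupOf_eq_of_le hB']
  · rw [MonoidHom.mem_ker] at hx ⊢
    exact congrArg Subtype.val hx
  · rw [Subgroup.map_map, hcomp, hu, Subgroup.map_subgroupOf_eq_of_le hA']
  · rw [Subgroup.map_map, hcomp, hl, Subgroup.map_subgroupOf_eq_of_le hB']

theorem isRootSubgroupSet {L : Type*} [Field L] (ι : L →+* F) (hι : ∀ x, star (ι x) = ι x)
    (hι' : ∀ y : F, star y = y → ∃ x, ι x = y) : Cfsg.IsRootSubgroupSet (rootSet' F n q) := by
  refine ⟨?_, ?_, ?_, ?_, ?_⟩
  · rintro _ ⟨A, ⟨p, hp, -, rfl⟩, rfl⟩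
    refine ⟨⟨fun x y => Subtype.ext (Subtype.ext ?_)⟩⟩
    have := (T_comm (q := q) p hp).1.1 ⟨_, x.2⟩ ⟨_, y.2⟩
    simpa using congrArg Subtype.val this
  · rintro _ ⟨A, hA, rfl⟩ he
    obtain ⟨p, hp, hp0, rfl⟩ := hA
    change (T q p hp).subgroupOf _ = ⊥ at he
    refine T_ne_bot hstar hF hp0 hp ?_
    rw [← Subgroup.map_subgroupOf_eq_of_le (le_gen ⟨p, hp, hp0, rfl⟩), he, Subgroup.map_bot]
  · refine Subgroup.map_injective (gen F n q).subtype_injective ?_
    rw [← MonoidHom.range_eq_map, Subgroup.range_subtype]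
    simp only [Subgroup.map_iSup, rootSet', iSup_image]
    exact le_antisymm (iSup₂_le fun A hA => (Subgroup.map_subgroupOf_eq_of_le (le_gen hA)).le.trans (le_gen hA))
      (iSup₂_le fun A hA => le_iSup₂_of_le A hA (Subgroup.map_subgroupOf_eq_of_le (le_gen hA)).ge)
  · rintro _ ⟨A, ⟨p, hp, hp0, rfl⟩, rfl⟩ g
    refine ⟨_, ⟨act (g : Cfsg.SU n F q) p, by rw [herm_act hstar]; exact hp,
      fun h => hp0 (act_injective _ (h.trans (by simp [act]))), rfl⟩, ?_⟩
    rw [conj_subgroupOf, conj_T hstar]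
  · intro A hA B hB
    exact (cases hstar hF ι hι hι' hA hB).imp_right fun h => Or.inl h.1

theorem degenerate {L : Type*} [Field L] (ι : L →+* F) (hι : ∀ x, star (ι x) = ι x)
    (hι' : ∀ y : F, star y = y → ∃ x, ι x = y) : Cfsg.IsDegenerateRootSet (rootSet' F n q) := by
  intro A hA B hB hcase
  have hS := isRootSubgroupSet (n := n) hstar hF ι hι hι'
  rcases cases hstar hF ι hι hι' hA hB with h | ⟨h, -⟩
  · exact hS.ne_bot _ hcase.1 h
  · exact pair_bracket_not_mem hS h hA hB hcase.1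

theorem kroot {L : Type*} [Field L] (ι : L →+* F) (hι : ∀ x, star (ι x) = ι x)
    (hι' : ∀ y : F, star y = y → ∃ x, ι x = y) : Cfsg.IsKRootSubgroupSet L (rootSet' F n q) :=
  ⟨isRootSubgroupSet hstar hF ι hι hι', fun A hA B hB h =>
    ((cases hstar hF ι hι hι' hA hB).resolve_left (not_commuting h)).2⟩

theorem connected {L : Type*} [Field L] (ι : L →+* F) (hι : ∀ x, star (ι x) = ι x)
    (hι' : ∀ y : F, star y = y → ∃ x, ι x = y) :
    Cfsg.IsConnectedFamily (Cfsg.FAdj (rootSet' F n q)) (rootSet' F n q) := by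
  rintro _ ⟨A, hA, rfl⟩ _ ⟨B, hB, rfl⟩
  have step : ∀ {p r : Fin n → F} (hp : herm p p = 0) (hr : herm r r = 0), p ≠ 0 → r ≠ 0 → herm p r ≠ 0 →
      Cfsg.FAdj (rootSet' F n q) ((T q p hp).subgroupOf (gen F n q)) ((T q r hr).subgroupOf (gen F n q)) :=
    fun {p r} hp hr hp0 hr0 h =>
      have hA : T q p hp ∈ rootSet F n q := ⟨p, hp, hp0, rfl⟩
      have hB : T q r hr ∈ rootSet F n q := ⟨r, hr, hr0, rfl⟩
      ⟨⟨_, hA, rfl⟩, ⟨_, hB, rfl⟩,
        pair_subgroupOf (psl2_pair hstar hF ι hι hι' hp hr h).1 (le_gen hA) (le_gen hB)⟩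
  obtain ⟨p, hp, hp0, rfl⟩ := hA
  obtain ⟨r, hr, hr0, rfl⟩ := hB
  by_cases h : herm p r = 0
  · obtain ⟨s, hs0, hs, h1, h2⟩ := exists_common hstar hF hp0 hr0 hp h
    exact (Relation.ReflTransGen.single (step hp hs hp0 hs0 h1)).tail (step hs hr hs0 hr0 h2)
  · exact .single (step hp hr hp0 hr0 h)

theorem exists_pair {L : Type*} [Field L] (ι : L →+* F) (hι : ∀ x, star (ι x) = ι x)
    (hι' : ∀ y : F, star y = y → ∃ x, ι x = y) (hn : 2 ≤ n) :
    ∃ A ∈ rootSet' F n q, ∃ B ∈ rootSet' F n q, A ≠ B := by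
  obtain ⟨p, hp0, hp⟩ := exists_isotropic hstar hF hn
  obtain ⟨s, hs0, hs, h1, -⟩ := exists_common hstar hF hp0 hp0 hp hp
  have hA : T q p hp ∈ rootSet F n q := ⟨p, hp, hp0, rfl⟩
  have hB : T q s hs ∈ rootSet F n q := ⟨s, hs, hs0, rfl⟩
  exact ⟨_, ⟨_, hA, rfl⟩, _, ⟨_, hB, rfl⟩,
    (pair_subgroupOf (psl2_pair hstar hF ι hι hι' hp hs h1).1 (le_gen hA) (le_gen hB)).ne⟩

end Cfsg.Agent.Classical.URoot
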